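import Mathlib.GroupTheory.Sylow
import Mathlib.GroupTheory.PGroup
import Mathlib.GroupTheory.Subgroup.Centralizer

set_option autoImplicit false

namespace Cfsg.Agent.Lib.Helper13

open scoped Pointwise

variable {G : Type*} [Group G]

theorem mem_cj {g x : G} {T : Subgroup G} :
    x ∈ T.map (MulAut.conj g).toMonoidHom ↔ g⁻¹ * x * g ∈ T := by
  constructor
  · rintro ⟨t, ht, rfl⟩
    have : g⁻¹ * ((MulAut.conj g).toMonoidHom t) * g = t := by
      show g⁻¹ * (g * t * g⁻¹) * g = t
      group
    rw [this]; exact ht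
  · intro h
    refine ⟨g⁻¹ * x * g, h, ?_⟩
    show g * (g⁻¹ * x * g) * g⁻¹ = x
    group

theorem cj_mem {g x : G} {T : Subgroup G} (h : x ∈ T) :
    g * x * g⁻¹ ∈ T.map (MulAut.conj g).toMonoidHom :=
  ⟨x, h, rfl⟩

theorem cj_cj (g h : G) (T : Subgroup G) :
    (T.map (MulAut.conj h).toMonoidHom).map (MulAut.conj g).toMonoidHom =
      T.map (MulAut.conj (g * h)).toMonoidHom := by
  ext x
  simp only [mem_cj]
  have : (g * h)⁻¹ * x * (g * h) = h⁻¹ * (g⁻¹ * x * g) * h := by group
  rw [this]

theorem cj_one (T : Subgroup G) : T.map (MulAut.conj (1 : G)).toMonoidHom = T := by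
  ext x
  rw [mem_cj]
  simp

theorem cj_inv_cj (g : G) (T : Subgroup G) :
    (T.map (MulAut.conj g).toMonoidHom).map (MulAut.conj g⁻¹).toMonoidHom = T := by
  rw [cj_cj, inv_mul_cancel, cj_one]

theorem cj_cj_inv (g : G) (T : Subgroup G) :
    (T.map (MulAut.conj g⁻¹).toMonoidHom).map (MulAut.conj g).toMonoidHom = T := by
  rw [cj_cj, mul_inv_cancel, cj_one]

theorem cj_mono {g : G} {T U : Subgroup G} (h : T ≤ U) :
    T.map (MulAut.conj g).toMonoidHom ≤ U.map (MulAut.conj g).toMonoidHom :=
  Subgroup.map_mono h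

theorem cj_le_iff {g : G} {T U : Subgroup G} :
    T.map (MulAut.conj g).toMonoidHom ≤ U ↔ T ≤ U.map (MulAut.conj g⁻¹).toMonoidHom := by
  constructor
  · intro h
    have := cj_mono (g := g⁻¹) h
    rwa [cj_inv_cj] at this
  · intro h
    have := cj_mono (g := g) h
    rwa [cj_cj_inv] at this

theorem mem_normalizer_iff_cj_eq {g : G} {T : Subgroup G} :
    g ∈ Subgroup.normalizer (T : Set G) ↔ T.map (MulAut.conj g).toMonoidHom = T := by
  rw [Subgroup.mem_normalizer_iff]
  constructor
  · intro h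
    ext x
    rw [mem_cj]
    have := h (g⁻¹ * x * g)
    rw [this]
    have e : g * (g⁻¹ * x * g) * g⁻¹ = x := by group
    rw [e]
  · intro h x
    constructor
    · intro hx
      rw [← h]; exact cj_mem hx
    · intro hx
      rw [← h, mem_cj] at hx
      have e : g⁻¹ * (g * x * g⁻¹) * g = x := by group
      rwa [e] at hx

theorem mem_normalizer_of_cj_le [Finite G] {g : G} {T : Subgroup G}
    (h : T.map (MulAut.conj g).toMonoidHom ≤ T) : g ∈ Subgroup.normalizer (T : Set G) := by
  rw [mem_normalizer_iff_cj_eq]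
  apply Subgroup.eq_of_le_of_card_ge h
  have : Nat.card ↥(T.map (MulAut.conj g).toMonoidHom) = Nat.card ↥T :=
    Nat.card_congr (T.equivMapOfInjective _ (MulAut.conj g).injective).symm.toEquiv
  rw [this]

theorem card_cj (g : G) (T : Subgroup G) :
    Nat.card ↥(T.map (MulAut.conj g).toMonoidHom) = Nat.card ↥T :=
  Nat.card_congr (T.equivMapOfInjective _ (MulAut.conj g).injective).symm.toEquiv

theorem isPGroup_cj {p : ℕ} (g : G) {T : Subgroup G} (h : IsPGroup p T) :
    IsPGroup p (T.map (MulAut.conj g).toMonoidHom) :=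
  h.map _

theorem normalizer_cj (g : G) (T : Subgroup G) :
    Subgroup.normalizer ((T.map (MulAut.conj g).toMonoidHom : Subgroup G) : Set G) =
      (Subgroup.normalizer (T : Set G)).map (MulAut.conj g).toMonoidHom := by
  ext x
  rw [mem_cj, mem_normalizer_iff_cj_eq, mem_normalizer_iff_cj_eq, cj_cj]
  constructor
  · intro h
    have := congrArg (fun U : Subgroup G => U.map (MulAut.conj g⁻¹).toMonoidHom) h
    simp only [cj_cj, cj_inv_cj] at this
    have e : g⁻¹ * (x * g) = g⁻¹ * x * g := by group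
    rw [e] at this
    rw [this, inv_mul_cancel, cj_one]
  · intro h
    have := congrArg (fun U : Subgroup G => U.map (MulAut.conj g).toMonoidHom) h
    simp only [cj_cj] at this
    have e : g * (g⁻¹ * x * g) = x * g := by group
    rw [e] at this
    exact this

theorem centralizer_cj (g : G) (T : Subgroup G) :
    Subgroup.centralizer ((T.map (MulAut.conj g).toMonoidHom : Subgroup G) : Set G) =
      (Subgroup.centralizer (T : Set G)).map (MulAut.conj g).toMonoidHom := by
  ext x
  rw [mem_cj, Subgroup.mem_centralizer_iff, Subgroup.mem_centralizer_iff]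
  constructor
  · intro h t ht
    have := h (g * t * g⁻¹) (cj_mem ht)
    calc t * (g⁻¹ * x * g) = g⁻¹ * ((g * t * g⁻¹) * x) * g := by group
      _ = g⁻¹ * (x * (g * t * g⁻¹)) * g := by rw [this]
      _ = g⁻¹ * x * g * t := by group
  · intro h y hy
    have hy' : g⁻¹ * y * g ∈ T := mem_cj.mp hy
    have := h _ hy'
    calc y * x = g * ((g⁻¹ * y * g) * (g⁻¹ * x * g)) * g⁻¹ := by group
      _ = g * ((g⁻¹ * x * g) * (g⁻¹ * y * g)) * g⁻¹ := by rw [this]
      _ = x * y := by group

theorem sylow_smul_coe {p : ℕ} (g : G) (S : Sylow p G) :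
    ((g • S : Sylow p G) : Subgroup G) = (S : Subgroup G).map (MulAut.conj g).toMonoidHom := by
  rw [Sylow.coe_subgroup_smul]
  rfl

end Cfsg.Agent.Lib.Helper13
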