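import Mathlib.GroupTheory.Sylow
import Mathlib.GroupTheory.PGroup

set_option autoImplicit false

namespace Cfsg.Agent.Lib.Helper13

open scoped Pointwise

theorem exists_conj_le_of_sylow_le {G : Type*} [Group G] [Finite G] {p : ℕ} [Fact p.Prime]
    (P : Sylow p G) (C R : Subgroup G) (hPC : (P : Subgroup G) ≤ C) (hRC : R ≤ C)
    (hR : IsPGroup p R) : ∃ h ∈ C, ∀ r ∈ R, h * r * h⁻¹ ∈ (P : Subgroup G) := by
  have hR' : IsPGroup p (R.subgroupOf C) := hR.comap_subtype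
  obtain ⟨Q, hQ⟩ := hR'.exists_le_sylow
  obtain ⟨h, hh⟩ := MulAction.exists_smul_eq C Q (P.subtype hPC)
  refine ⟨h, h.2, ?_⟩
  intro r hr
  have hrQ : (⟨r, hRC hr⟩ : C) ∈ (Q : Subgroup C) := hQ (by
    rw [Subgroup.mem_subgroupOf]; exact hr)
  have h2 : h * ⟨r, hRC hr⟩ * h⁻¹ ∈ ((h • Q : Sylow p C) : Subgroup C) := by
    rw [Sylow.coe_subgroup_smul, Subgroup.mem_pointwise_smul_iff_inv_smul_mem]
    have : (MulAut.conj h)⁻¹ • (h * ⟨r, hRC hr⟩ * h⁻¹) = (⟨r, hRC hr⟩ : C) := by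
      rw [← map_inv, MulAut.smul_def, MulAut.conj_apply]; group
    rw [this]; exact hrQ
  rw [hh, Sylow.coe_subtype, Subgroup.mem_subgroupOf] at h2
  simpa using h2

theorem conj_sylow_le_centralizer {G : Type*} [Group G] (S : Subgroup G) (b g : G)
    (hb : ∀ s ∈ S, s * b = b * s) :
    S.map (MulAut.conj g).toMonoidHom ≤ Subgroup.centralizer ({g * b * g⁻¹} : Set G) := by
  rintro _ ⟨s, hs, rfl⟩
  rw [Subgroup.mem_centralizer_iff]
  intro y hy
  rw [Set.mem_singleton_iff] at hy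
  subst hy
  have := hb s hs
  show g * b * g⁻¹ * (g * s * g⁻¹) = g * s * g⁻¹ * (g * b * g⁻¹)
  calc g * b * g⁻¹ * (g * s * g⁻¹) = g * (b * s) * g⁻¹ := by group
    _ = g * (s * b) * g⁻¹ := by rw [this]
    _ = g * s * g⁻¹ * (g * b * g⁻¹) := by group

theorem exists_mem_smul_eq_of_sylow_le {G : Type*} [Group G] [Finite G] {p : ℕ} [Fact p.Prime]
    (P Q : Sylow p G) (C : Subgroup G) (hPC : (P : Subgroup G) ≤ C) (hQC : (Q : Subgroup G) ≤ C) :
    ∃ h ∈ C, h • Q = P := by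
  obtain ⟨h, hhC, hh⟩ := exists_conj_le_of_sylow_le P C (Q : Subgroup G) hPC hQC Q.isPGroup'
  refine ⟨h, hhC, ?_⟩
  have hle : ((h • Q : Sylow p G) : Subgroup G) ≤ (P : Subgroup G) := by
    rw [Sylow.coe_subgroup_smul]
    intro x hx
    rw [Subgroup.mem_pointwise_smul_iff_inv_smul_mem] at hx
    have := hh _ hx
    have e : h * ((MulAut.conj h)⁻¹ • x) * h⁻¹ = x := by
      rw [← map_inv, MulAut.smul_def, MulAut.conj_apply]; group
    rwa [e] at this
  exact Sylow.ext ((h • Q).is_maximal' P.isPGroup' hle).symm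

end Cfsg.Agent.Lib.Helper13
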