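import Cfsg.Prelude.Def_ConjugacyFunctors
import Cfsg.Agent.Lib.Helper13.Conj
import Cfsg.Agent.Lib.Helper13.SylowConj

set_option autoImplicit false

namespace Cfsg.Agent.Lib.Helper13

variable {G : Type*} [Group G]

/-- A `p`-subgroup `Q'` between `Q` and `N`, where `Q` has index prime to `p` in `N`, equals `Q`. -/
theorem eq_of_le_of_not_dvd_relIndex [Finite G] {p : ℕ} [Fact p.Prime] {Q Q' N : Subgroup G}
    (hQQ' : Q ≤ Q') (hQ'N : Q' ≤ N) (hQ' : IsPGroup p ↥Q') (h : ¬ p ∣ Q.relIndex N) : Q = Q' := by
  have hp : p.Prime := Fact.out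
  apply le_antisymm hQQ'
  rw [← Subgroup.relIndex_eq_one]
  have h1 : Q.relIndex Q' ∣ Q.relIndex N :=
    ⟨_, (Subgroup.relIndex_mul_relIndex Q Q' N hQQ' hQ'N).symm⟩
  obtain ⟨n, hn⟩ := hQ'.index (Q.subgroupOf Q')
  have hn' : Q.relIndex Q' = p ^ n := hn
  rcases Nat.eq_zero_or_pos n with rfl | hpos
  · simpa using hn'
  · exfalso
    apply h
    refine dvd_trans ?_ h1
    rw [hn']
    exact dvd_pow_self p hpos.ne'

theorem relIndex_cj (g : G) (Q N : Subgroup G) :
    (Q.map (MulAut.conj g).toMonoidHom).relIndex (N.map (MulAut.conj g).toMonoidHom) =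
      Q.relIndex N :=
  Subgroup.relIndex_map_map_of_injective Q N (MulAut.conj g).injective

theorem cj_inf (g : G) (A B : Subgroup G) :
    (A ⊓ B).map (MulAut.conj g).toMonoidHom =
      A.map (MulAut.conj g).toMonoidHom ⊓ B.map (MulAut.conj g).toMonoidHom :=
  Subgroup.map_inf _ _ _ (MulAut.conj g).injective

theorem cj_self_of_mem {Q : Subgroup G} {g : G} (hg : g ∈ Q) :
    Q.map (MulAut.conj g).toMonoidHom = Q := by
  ext x
  rw [mem_cj]
  constructor
  · intro h
    have : x = g * (g⁻¹ * x * g) * g⁻¹ := by group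
    rw [this]
    exact Q.mul_mem (Q.mul_mem hg h) (Q.inv_mem hg)
  · intro h
    exact Q.mul_mem (Q.mul_mem (Q.inv_mem hg) h) hg

section Tower

variable {p : ℕ} (W : Subgroup G → Subgroup G) (S : Subgroup G)

theorem tower_zero (T : Subgroup G) : Cfsg.functorTower W S T 0 = T := rfl

theorem tower_succ (T : Subgroup G) (i : ℕ) :
    Cfsg.functorTower W S T (i + 1) =
      W (S ⊓ Subgroup.normalizer ((Cfsg.functorTower W S T i : Subgroup G) : Set G)) := rfl

variable {W S}

/-- The normalizers in `S` of the tower terms increase. -/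
theorem tower_normalizer_mono (hW : Cfsg.IsConjugacyFunctor p W) (hS : IsPGroup p ↥S)
    (T : Subgroup G) (i : ℕ) :
    S ⊓ Subgroup.normalizer ((Cfsg.functorTower W S T i : Subgroup G) : Set G) ≤
      S ⊓ Subgroup.normalizer ((Cfsg.functorTower W S T (i + 1) : Subgroup G) : Set G) := by
  intro g hg
  refine Subgroup.mem_inf.mpr ⟨(Subgroup.mem_inf.mp hg).1, ?_⟩
  rw [tower_succ, mem_normalizer_iff_cj_eq]
  have hQ : IsPGroup p ↥(S ⊓ Subgroup.normalizer ((Cfsg.functorTower W S T i : Subgroup G) : Set G)) :=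
    hS.to_le inf_le_left
  rw [← (hW _ hQ).2.2 g, cj_self_of_mem hg]

theorem tower_normalizer_mono' (hW : Cfsg.IsConjugacyFunctor p W) (hS : IsPGroup p ↥S)
    (T : Subgroup G) {i j : ℕ} (hij : i ≤ j) :
    S ⊓ Subgroup.normalizer ((Cfsg.functorTower W S T i : Subgroup G) : Set G) ≤
      S ⊓ Subgroup.normalizer ((Cfsg.functorTower W S T j : Subgroup G) : Set G) := by
  induction j, hij using Nat.le_induction with
  | base => exact le_rfl
  | succ j _ ih => exact ih.trans (tower_normalizer_mono hW hS T j)

/-- Once two consecutive normalizers agree, the tower is constant. -/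
theorem tower_stable (T : Subgroup G) (i : ℕ)
    (h : S ⊓ Subgroup.normalizer ((Cfsg.functorTower W S T i : Subgroup G) : Set G) =
      S ⊓ Subgroup.normalizer ((Cfsg.functorTower W S T (i + 1) : Subgroup G) : Set G)) :
    ∀ j, i + 1 ≤ j → Cfsg.functorTower W S T j = Cfsg.functorTower W S T (i + 1) := by
  intro j hj
  induction j, hj using Nat.le_induction with
  | base => rfl
  | succ j _ ih =>
    rw [tower_succ, ih, ← h]
    rfl

/-- Conjugation compatibility of the tower, up to a level where the normalizers are Sylow. -/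
theorem tower_cj [Finite G] [Fact p.Prime] (hW : Cfsg.IsConjugacyFunctor p W) (hS : IsPGroup p ↥S)
    (T : Subgroup G) (g : G) (k : ℕ)
    (hwp : ∀ i < k, ¬ p ∣ (S ⊓ Subgroup.normalizer ((Cfsg.functorTower W S T i : Subgroup G) : Set G)).relIndex
      (Subgroup.normalizer ((Cfsg.functorTower W S T i : Subgroup G) : Set G)))
    (hg : (S ⊓ Subgroup.normalizer ((Cfsg.functorTower W S T k : Subgroup G) : Set G)).map
      (MulAut.conj g).toMonoidHom ≤ S) :
    ∀ i ≤ k, Cfsg.functorTower W S (T.map (MulAut.conj g).toMonoidHom) i =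
        (Cfsg.functorTower W S T i).map (MulAut.conj g).toMonoidHom ∧
      (i < k → S ⊓ Subgroup.normalizer ((Cfsg.functorTower W S (T.map (MulAut.conj g).toMonoidHom) i : Subgroup G) : Set G) =
        (S ⊓ Subgroup.normalizer ((Cfsg.functorTower W S T i : Subgroup G) : Set G)).map
          (MulAut.conj g).toMonoidHom) := by
  have step : ∀ i < k, Cfsg.functorTower W S (T.map (MulAut.conj g).toMonoidHom) i =
        (Cfsg.functorTower W S T i).map (MulAut.conj g).toMonoidHom →
      S ⊓ Subgroup.normalizer ((Cfsg.functorTower W S (T.map (MulAut.conj g).toMonoidHom) i : Subgroup G) : Set G) =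
        (S ⊓ Subgroup.normalizer ((Cfsg.functorTower W S T i : Subgroup G) : Set G)).map
          (MulAut.conj g).toMonoidHom := by
    intro i hi hU
    symm
    have hle : (S ⊓ Subgroup.normalizer ((Cfsg.functorTower W S T i : Subgroup G) : Set G)).map
        (MulAut.conj g).toMonoidHom ≤ S :=
      (cj_mono (tower_normalizer_mono' hW hS T hi.le)).trans hg
    apply eq_of_le_of_not_dvd_relIndex (p := p)
      (N := Subgroup.normalizer ((Cfsg.functorTower W S (T.map (MulAut.conj g).toMonoidHom) i : Subgroup G) : Set G))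
    · apply le_inf hle
      rw [hU, normalizer_cj]
      exact cj_mono inf_le_right
    · exact inf_le_right
    · exact hS.to_le inf_le_left
    · rw [hU, normalizer_cj, relIndex_cj]
      exact hwp i hi
  intro i
  induction i with
  | zero =>
    intro _
    exact ⟨rfl, fun h0 => step 0 h0 rfl⟩
  | succ i ih =>
    intro hi
    have hi' : i < k := hi
    obtain ⟨hU, hQ⟩ := ih hi'.le
    have hQ' := hQ hi'
    have hU' : Cfsg.functorTower W S (T.map (MulAut.conj g).toMonoidHom) (i + 1) =
        (Cfsg.functorTower W S T (i + 1)).map (MulAut.conj g).toMonoidHom := by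
      rw [tower_succ, hQ', tower_succ]
      exact (hW _ (hS.to_le inf_le_left)).2.2 g
    exact ⟨hU', fun h => step (i + 1) h hU'⟩

end Tower

/-- A Sylow `p`-subgroup of `N` containing a given `p`-subgroup `Q ≤ N`, as a subgroup of `G`. -/
theorem exists_sylow_between [Finite G] {p : ℕ} [Fact p.Prime] {Q N : Subgroup G} (hQN : Q ≤ N)
    (hQ : IsPGroup p ↥Q) :
    ∃ R : Subgroup G, Q ≤ R ∧ R ≤ N ∧ IsPGroup p ↥R ∧ ¬ p ∣ R.relIndex N := by
  have hQ' : IsPGroup p ↥(Q.subgroupOf N) := hQ.comap_subtype
  obtain ⟨P, hP⟩ := hQ'.exists_le_sylow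
  refine ⟨(P : Subgroup ↥N).map N.subtype, ?_, Subgroup.map_subtype_le _, P.isPGroup'.map _, ?_⟩
  · intro q hq
    exact ⟨⟨q, hQN hq⟩, hP (Subgroup.mem_subgroupOf.mpr hq), rfl⟩
  · have : ((P : Subgroup ↥N).map N.subtype).relIndex N = (P : Subgroup ↥N).index := by
      unfold Subgroup.relIndex
      congr 1
      ext x
      rw [Subgroup.mem_subgroupOf]
      constructor
      · rintro ⟨y, hy, hyx⟩
        have : y = x := Subtype.ext hyx
        rwa [← this]
      · intro hx
        exact ⟨x, hx, rfl⟩
    rw [this]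
    exact P.not_dvd_index

section WP

variable {p : ℕ} [Fact p.Prime] [Finite G] {W : Subgroup G → Subgroup G}

/-- For every level `k`, some conjugate of `T` is well placed up to level `k`. -/
theorem exists_cj_wellPlaced_upTo (S : Sylow p G) (hW : Cfsg.IsConjugacyFunctor p W)
    (T : Subgroup G) (hT : T ≤ (S : Subgroup G)) (k : ℕ) :
    ∃ g : G, T.map (MulAut.conj g).toMonoidHom ≤ (S : Subgroup G) ∧
      ∀ i < k, ¬ p ∣ ((S : Subgroup G) ⊓ Subgroup.normalizer
        ((Cfsg.functorTower W (S : Subgroup G) (T.map (MulAut.conj g).toMonoidHom) i : Subgroup G) : Set G)).relIndex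
        (Subgroup.normalizer ((Cfsg.functorTower W (S : Subgroup G) (T.map (MulAut.conj g).toMonoidHom) i : Subgroup G) : Set G)) := by
  induction k with
  | zero => exact ⟨1, by rw [cj_one]; exact hT, fun i hi => absurd hi (Nat.not_lt_zero i)⟩
  | succ k ih =>
    obtain ⟨g₀, hT', hwp⟩ := ih
    set T' := T.map (MulAut.conj g₀).toMonoidHom with hT'def
    set N := Subgroup.normalizer ((Cfsg.functorTower W (S : Subgroup G) T' k : Subgroup G) : Set G) with hN
    have hSp : IsPGroup p ↥(S : Subgroup G) := S.isPGroup'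
    obtain ⟨R, hQR, hRN, hRp, hRi⟩ := exists_sylow_between (p := p)
      (inf_le_right : (S : Subgroup G) ⊓ N ≤ N) (hSp.to_le inf_le_left)
    obtain ⟨g₁, -, hg₁⟩ := exists_conj_le_of_sylow_le S ⊤ R le_top le_top hRp
    have hRg : R.map (MulAut.conj g₁).toMonoidHom ≤ (S : Subgroup G) := by
      rintro _ ⟨r, hr, rfl⟩
      exact hg₁ r hr
    have hcomp := tower_cj hW hSp T' g₁ k hwp ((cj_mono hQR).trans hRg)
    refine ⟨g₁ * g₀, ?_, ?_⟩
    · rw [← cj_cj]
      have h0 : T' ≤ (S : Subgroup G) ⊓ N := by
        have h1 : T' ≤ (S : Subgroup G) ⊓ Subgroup.normalizer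
            ((Cfsg.functorTower W (S : Subgroup G) T' 0 : Subgroup G) : Set G) :=
          le_inf hT' Subgroup.le_normalizer
        exact h1.trans (tower_normalizer_mono' hW hSp T' (Nat.zero_le k))
      exact (cj_mono (h0.trans hQR)).trans hRg
    · intro i hi
      rw [← cj_cj]
      rcases Nat.lt_succ_iff_lt_or_eq.mp hi with hik | rfl
      · obtain ⟨hU, hQ⟩ := hcomp i hik.le
        rw [hQ hik, hU, normalizer_cj, relIndex_cj]
        exact hwp i hik
      · obtain ⟨hU, -⟩ := hcomp i le_rfl
        have heq : R.map (MulAut.conj g₁).toMonoidHom =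
            (S : Subgroup G) ⊓ Subgroup.normalizer ((Cfsg.functorTower W (S : Subgroup G)
              (T'.map (MulAut.conj g₁).toMonoidHom) i : Subgroup G) : Set G) := by
          apply eq_of_le_of_not_dvd_relIndex (p := p)
            (N := Subgroup.normalizer ((Cfsg.functorTower W (S : Subgroup G)
              (T'.map (MulAut.conj g₁).toMonoidHom) i : Subgroup G) : Set G))
          · apply le_inf hRg
            rw [hU, normalizer_cj]
            exact cj_mono hRN
          · exact inf_le_right
          · exact hSp.to_le inf_le_left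
          · rw [hU, normalizer_cj, relIndex_cj]
            exact hRi
        rw [← heq, hU, normalizer_cj, relIndex_cj]
        exact hRi

/-- A subgroup well placed up to a sufficiently high level is well placed. -/
theorem wellPlaced_of_upTo (S : Sylow p G) (hW : Cfsg.IsConjugacyFunctor p W)
    (T : Subgroup G) (hT : T ≤ (S : Subgroup G))
    (hwp : ∀ i < Nat.card ↥(S : Subgroup G) + 2, ¬ p ∣ ((S : Subgroup G) ⊓ Subgroup.normalizer
        ((Cfsg.functorTower W (S : Subgroup G) T i : Subgroup G) : Set G)).relIndex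
        (Subgroup.normalizer ((Cfsg.functorTower W (S : Subgroup G) T i : Subgroup G) : Set G))) :
    Cfsg.IsWellPlaced p W (S : Subgroup G) T := by
  have hSp : IsPGroup p ↥(S : Subgroup G) := S.isPGroup'
  refine ⟨hT, ?_⟩
  -- find a repetition in the chain of normalizers
  have hrep : ∃ i ≤ Nat.card ↥(S : Subgroup G),
      (S : Subgroup G) ⊓ Subgroup.normalizer ((Cfsg.functorTower W (S : Subgroup G) T i : Subgroup G) : Set G) =
      (S : Subgroup G) ⊓ Subgroup.normalizer ((Cfsg.functorTower W (S : Subgroup G) T (i + 1) : Subgroup G) : Set G) := by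
    by_contra hcon
    push Not at hcon
    have hgrow : ∀ i ≤ Nat.card ↥(S : Subgroup G) + 1, i + 1 ≤ Nat.card ↥((S : Subgroup G) ⊓ Subgroup.normalizer
        ((Cfsg.functorTower W (S : Subgroup G) T i : Subgroup G) : Set G)) := by
      intro i
      induction i with
      | zero => intro _; exact Nat.card_pos
      | succ i ih =>
        intro hi
        have h1 := ih (by omega)
        have hlt : (S : Subgroup G) ⊓ Subgroup.normalizer ((Cfsg.functorTower W (S : Subgroup G) T i : Subgroup G) : Set G) <
            (S : Subgroup G) ⊓ Subgroup.normalizer ((Cfsg.functorTower W (S : Subgroup G) T (i + 1) : Subgroup G) : Set G) :=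
          lt_of_le_of_ne (tower_normalizer_mono hW hSp T i) (hcon i (by omega))
        have h2 : Nat.card ↥((S : Subgroup G) ⊓ Subgroup.normalizer ((Cfsg.functorTower W (S : Subgroup G) T i : Subgroup G) : Set G)) <
            Nat.card ↥((S : Subgroup G) ⊓ Subgroup.normalizer ((Cfsg.functorTower W (S : Subgroup G) T (i + 1) : Subgroup G) : Set G)) := by
          by_contra hge
          push Not at hge
          exact absurd (Subgroup.eq_of_le_of_card_ge hlt.le hge) hlt.ne
        omega
    have h3 := hgrow (Nat.card ↥(S : Subgroup G) + 1) le_rfl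
    have h4 : Nat.card ↥((S : Subgroup G) ⊓ Subgroup.normalizer
        ((Cfsg.functorTower W (S : Subgroup G) T (Nat.card ↥(S : Subgroup G) + 1) : Subgroup G) : Set G)) ≤
        Nat.card ↥(S : Subgroup G) :=
      Subgroup.card_le_of_le inf_le_left
    omega
  obtain ⟨i₀, hi₀, hrep⟩ := hrep
  intro j
  rcases Nat.lt_or_ge j (i₀ + 1) with hj | hj
  · exact hwp j (by omega)
  · rw [tower_stable T i₀ hrep j hj]
    exact hwp (i₀ + 1) (by omega)

end WP

end Cfsg.Agent.Lib.Helper13
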