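import Cfsg.Prelude.Def_ConjugacyFunctors
import Cfsg.Agent.Lib.Helper13.WellPlaced
import Mathlib.GroupTheory.Nilpotent

set_option autoImplicit false

namespace Cfsg.Agent.Lib.Helper13

variable {G : Type*} [Group G]

/-- Right conjugate `g⁻¹ R g` of a subgroup. -/
def rc (R : Subgroup G) (g : G) : Subgroup G := R.map (MulAut.conj g⁻¹).toMonoidHom

theorem rc_def (R : Subgroup G) (g : G) : rc R g = R.map (MulAut.conj g⁻¹).toMonoidHom := rfl

theorem mem_rc {R : Subgroup G} {g x : G} : x ∈ rc R g ↔ g * x * g⁻¹ ∈ R := by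
  rw [rc_def, mem_cj, inv_inv]

theorem rc_mem {R : Subgroup G} {g x : G} (h : x ∈ R) : g⁻¹ * x * g ∈ rc R g := by
  rw [mem_rc]
  have : g * (g⁻¹ * x * g) * g⁻¹ = x := by group
  rw [this]; exact h

theorem rc_one (R : Subgroup G) : rc R 1 = R := by
  rw [rc_def, inv_one, cj_one]

theorem rc_rc (R : Subgroup G) (g h : G) : rc (rc R g) h = rc R (g * h) := by
  rw [rc_def, rc_def, rc_def, cj_cj, mul_inv_rev]

theorem rc_mono {R R' : Subgroup G} (h : R ≤ R') (g : G) : rc R g ≤ rc R' g := cj_mono h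

theorem rc_of_mem_normalizer {T : Subgroup G} {x : G} (hx : x ∈ Subgroup.normalizer (T : Set G)) :
    rc T x = T := by
  rw [rc_def]
  exact mem_normalizer_iff_cj_eq.mp (Subgroup.inv_mem _ hx)

theorem card_rc (R : Subgroup G) (g : G) : Nat.card ↥(rc R g) = Nat.card ↥R := card_cj _ _

theorem isPGroup_rc {p : ℕ} (g : G) {R : Subgroup G} (h : IsPGroup p ↥R) : IsPGroup p ↥(rc R g) :=
  isPGroup_cj _ h

theorem normalizer_rc (R : Subgroup G) (g : G) :
    Subgroup.normalizer ((rc R g : Subgroup G) : Set G) = rc (Subgroup.normalizer (R : Set G)) g :=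
  normalizer_cj _ _

/-- Step-by-step conjugation inside normalizers of members of `𝓕`. -/
inductive ConjChain (𝓕 : Set (Subgroup G)) : Subgroup G → G → Prop
  | nil (R : Subgroup G) : ConjChain 𝓕 R 1
  | cons (R T : Subgroup G) (x g : G) (hT : T ∈ 𝓕) (hx : x ∈ Subgroup.normalizer (T : Set G))
      (hRT : R ≤ T) (h : ConjChain 𝓕 (rc R x) g) : ConjChain 𝓕 R (x * g)

namespace ConjChain

variable {𝓕 : Set (Subgroup G)}

theorem mono {R : Subgroup G} {g : G} (h : ConjChain 𝓕 R g) :
    ∀ {R' : Subgroup G}, R' ≤ R → ConjChain 𝓕 R' g := by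
  induction h with
  | nil R => intro R' _; exact ConjChain.nil R'
  | cons R T x g hT hx hRT _ ih =>
    intro R' hR'
    exact ConjChain.cons R' T x g hT hx (hR'.trans hRT) (ih (rc_mono hR' x))

theorem single {R T : Subgroup G} {x : G} (hT : T ∈ 𝓕) (hx : x ∈ Subgroup.normalizer (T : Set G))
    (hRT : R ≤ T) : ConjChain 𝓕 R x := by
  have := ConjChain.cons R T x 1 hT hx hRT (ConjChain.nil _)
  rwa [mul_one] at this

theorem append {R : Subgroup G} {g : G} (h : ConjChain 𝓕 R g) :
    ∀ {k : G}, ConjChain 𝓕 (rc R g) k → ConjChain 𝓕 R (g * k) := by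
  induction h with
  | nil R =>
    intro k hk
    rw [rc_one] at hk
    rw [one_mul]
    exact hk
  | cons R T x g hT hx hRT _ ih =>
    intro k hk
    rw [mul_assoc]
    apply ConjChain.cons R T x (g * k) hT hx hRT
    apply ih
    rwa [rc_rc]

theorem reverse {R : Subgroup G} {g : G} (h : ConjChain 𝓕 R g) : ConjChain 𝓕 (rc R g) g⁻¹ := by
  induction h with
  | nil R => rw [inv_one]; exact ConjChain.nil _
  | cons R T x g hT hx hRT _ ih =>
    rw [mul_inv_rev, ← rc_rc]
    apply ih.append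
    rw [rc_rc, mul_inv_cancel, rc_one]
    apply ConjChain.single hT (Subgroup.inv_mem _ hx)
    have := rc_mono hRT x
    rwa [rc_of_mem_normalizer hx] at this

end ConjChain

theorem ConjChain.exists_fin {𝓕 : Set (Subgroup G)} {R : Subgroup G} {g : G}
    (h : ConjChain 𝓕 R g) :
    ∀ (A : Set G), A ⊆ R →
    ∃ (n : ℕ) (T : Fin n → Subgroup G) (x : Fin n → G), (List.ofFn x).prod = g ∧
      (∀ i, T i ∈ 𝓕) ∧ (∀ i, x i ∈ Subgroup.normalizer ((T i : Subgroup G) : Set G)) ∧
      (∀ h : 0 < n, A ⊆ T ⟨0, h⟩) ∧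
      ∀ (i : Fin n) (h : i.val + 1 < n),
        (fun a => (((List.ofFn x).take (i.val + 1)).prod)⁻¹ * a * ((List.ofFn x).take (i.val + 1)).prod) '' A ⊆
          T ⟨i.val + 1, h⟩ := by
  induction h with
  | nil R =>
    intro A _
    exact ⟨0, Fin.elim0, Fin.elim0, by simp, fun i => i.elim0, fun i => i.elim0,
      fun h => absurd h (lt_irrefl 0), fun i => i.elim0⟩
  | cons R T x g hT hx hRT _ ih =>
    intro A hA
    have hA' : (fun a => x⁻¹ * a * x) '' A ⊆ ((rc R x : Subgroup G) : Set G) := by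
      rintro _ ⟨a, ha, rfl⟩
      exact rc_mem (hA ha)
    obtain ⟨n, T', x', hprod, hF, hN, h0, hstep⟩ := ih _ hA'
    have hlist : List.ofFn (Fin.cons x x' : Fin (n + 1) → G) = x :: List.ofFn x' := by
      rw [List.ofFn_succ]
      simp
    refine ⟨n + 1, Fin.cons T T', Fin.cons x x', ?_, ?_, ?_, ?_, ?_⟩
    · rw [hlist, List.prod_cons, hprod]
    · intro i
      refine Fin.cases ?_ (fun j => ?_) i
      · simpa using hT
      · simpa using hF j
    · intro i
      refine Fin.cases ?_ (fun j => ?_) i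
      · simpa using hx
      · simpa using hN j
    · intro _
      show A ⊆ ((Fin.cons T T' : Fin (n + 1) → Subgroup G) 0 : Subgroup G)
      rw [Fin.cons_zero]
      exact fun a ha => hRT (hA ha)
    · rintro ⟨iv, hiv⟩ h
      have h' : iv + 1 < n + 1 := h
      have hivn : iv < n := by omega
      have hT'idx : (Fin.cons T T' : Fin (n + 1) → Subgroup G) ⟨iv + 1, h⟩ =
          T' ⟨iv, hivn⟩ := by
        have : (⟨iv + 1, h⟩ : Fin (n + 1)) = Fin.succ ⟨iv, hivn⟩ := rfl
        rw [this, Fin.cons_succ]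
      show (fun a => (((List.ofFn (Fin.cons x x' : Fin (n + 1) → G)).take (iv + 1)).prod)⁻¹ * a *
        ((List.ofFn (Fin.cons x x' : Fin (n + 1) → G)).take (iv + 1)).prod) '' A ⊆ _
      rw [hT'idx, hlist, List.take_succ_cons, List.prod_cons]
      rintro _ ⟨a, ha, rfl⟩
      cases iv with
      | zero =>
        have hn : 0 < n := by omega
        have := h0 hn ⟨a, ha, rfl⟩
        simpa [mul_assoc] using this
      | succ j =>
        have hj : j + 1 < n := by omega
        have hj' : j < n := by omega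
        have := hstep ⟨j, hj'⟩ hj ⟨x⁻¹ * a * x, ⟨a, ha, rfl⟩, rfl⟩
        have e : (x * ((List.ofFn x').take (j + 1)).prod)⁻¹ * a * (x * ((List.ofFn x').take (j + 1)).prod) =
            (((List.ofFn x').take (j + 1)).prod)⁻¹ * (x⁻¹ * a * x) * ((List.ofFn x').take (j + 1)).prod := by
          group
        show (x * ((List.ofFn x').take (j + 1)).prod)⁻¹ * a * (x * ((List.ofFn x').take (j + 1)).prod) ∈ _
        rw [e]
        exact this

/-- Sylow's theorem inside a subgroup `N`: a `p`-subgroup `R ≤ N` is conjugate by an element of `N`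
into a given Sylow `p`-subgroup `Q` of `N`. -/
theorem exists_mem_cj_le_of_relIndex [Finite G] {p : ℕ} [Fact p.Prime] {Q R N : Subgroup G}
    (hQN : Q ≤ N) (hQ : IsPGroup p ↥Q) (hQi : ¬ p ∣ Q.relIndex N) (hRN : R ≤ N)
    (hR : IsPGroup p ↥R) : ∃ n ∈ N, R.map (MulAut.conj n).toMonoidHom ≤ Q := by
  have hQ' : IsPGroup p ↥(Q.subgroupOf N) := hQ.comap_subtype
  have hR' : IsPGroup p ↥(R.subgroupOf N) := hR.comap_subtype
  obtain ⟨n, -, hn⟩ := exists_conj_le_of_sylow_le (hQ'.toSylow hQi) ⊤ (R.subgroupOf N)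
    le_top le_top hR'
  refine ⟨(n : G), n.2, ?_⟩
  rintro _ ⟨r, hr, rfl⟩
  have h1 : (⟨r, hRN hr⟩ : ↥N) ∈ R.subgroupOf N := Subgroup.mem_subgroupOf.mpr hr
  have h2 := hn _ h1
  have h3 : n * ⟨r, hRN hr⟩ * n⁻¹ ∈ Q.subgroupOf N := h2
  rw [Subgroup.mem_subgroupOf] at h3
  exact h3

/-- Normalizers grow in `p`-groups: a proper subgroup `R` of the `p`-group `S` is properly contained in
`N_S(R)`. -/
theorem card_lt_card_inf_normalizer [Finite G] {p : ℕ} [Fact p.Prime] {R S : Subgroup G}
    (hS : IsPGroup p ↥S) (hRS : R ≤ S) (hne : R ≠ S) :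
    Nat.card ↥R < Nat.card ↥(S ⊓ Subgroup.normalizer (R : Set G)) := by
  haveI : Group.IsNilpotent ↥S := hS.isNilpotent
  have hnc := normalizerCondition_of_isNilpotent (G := ↥S)
  have hlt : R.subgroupOf S < ⊤ := by
    rw [lt_top_iff_ne_top]
    intro h
    apply hne
    apply le_antisymm hRS
    rw [← Subgroup.subgroupOf_eq_top]
    exact h
  obtain ⟨s, hsN, hsR⟩ := SetLike.exists_of_lt (hnc _ hlt)
  have hle : R ≤ S ⊓ Subgroup.normalizer (R : Set G) := le_inf hRS Subgroup.le_normalizer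
  have hs1 : (s : G) ∈ S ⊓ Subgroup.normalizer (R : Set G) := by
    refine Subgroup.mem_inf.mpr ⟨s.2, ?_⟩
    apply mem_normalizer_of_cj_le
    rintro _ ⟨r, hr, rfl⟩
    have h1 : (⟨r, hRS hr⟩ : ↥S) ∈ R.subgroupOf S := Subgroup.mem_subgroupOf.mpr hr
    have h2 := (Subgroup.mem_normalizer_iff.mp hsN _).mp h1
    exact Subgroup.mem_subgroupOf.mp h2
  have hs2 : (s : G) ∉ R := fun h => hsR (Subgroup.mem_subgroupOf.mpr h)
  by_contra hcon
  push Not at hcon
  have := Subgroup.eq_of_le_of_card_ge hle hcon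
  exact hs2 (this ▸ hs1)

/-- Alperin--Goldschmidt: if every subgroup of `S` is conjugate to a member `U` of `𝓕` with `N_S(U)`
Sylow in `N_G(U)`, then any conjugation of a subgroup of `S` into `S` is a chain of conjugations in
normalizers of members of `𝓕`. -/
theorem conjChain_of_le [Finite G] {p : ℕ} [Fact p.Prime] (S : Sylow p G) (𝓕 : Set (Subgroup G))
    (h𝓕 : ∀ U ∈ 𝓕, U ≤ (S : Subgroup G))
    (h : ∀ T : Subgroup G, T ≤ (S : Subgroup G) → ∃ U ∈ 𝓕, (∃ g : G, T.map (MulAut.conj g).toMonoidHom = U) ∧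
      ¬ p ∣ ((S : Subgroup G) ⊓ Subgroup.normalizer ((U : Subgroup G) : Set G)).relIndex
        (Subgroup.normalizer ((U : Subgroup G) : Set G))) :
    ∀ (n : ℕ) (R : Subgroup G), R ≤ (S : Subgroup G) → Nat.card ↥(S : Subgroup G) - Nat.card ↥R ≤ n →
      ∀ g : G, rc R g ≤ (S : Subgroup G) → ConjChain 𝓕 R g := by
  have hSp : IsPGroup p ↥(S : Subgroup G) := S.isPGroup'
  -- the case R = S
  have htop : ∀ g : G, rc (S : Subgroup G) g ≤ (S : Subgroup G) → ConjChain 𝓕 (S : Subgroup G) g := by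
    intro g hg
    obtain ⟨U, hU, ⟨c, hc⟩, -⟩ := h (S : Subgroup G) le_rfl
    have hUS : U = (S : Subgroup G) := by
      apply Subgroup.eq_of_le_of_card_ge (h𝓕 U hU)
      rw [← hc, card_cj]
    rw [hUS] at hU
    have hgN : g⁻¹ ∈ Subgroup.normalizer (((S : Subgroup G) : Subgroup G) : Set G) :=
      mem_normalizer_of_cj_le hg
    have hgN' : g ∈ Subgroup.normalizer (((S : Subgroup G) : Subgroup G) : Set G) := by
      simpa using Subgroup.inv_mem _ hgN
    exact ConjChain.single hU hgN' le_rfl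
  -- the key claim
  have claimA : ∀ (R U : Subgroup G) (c₀ : G), R ≤ (S : Subgroup G) → rc R c₀ = U →
      ¬ p ∣ ((S : Subgroup G) ⊓ Subgroup.normalizer ((U : Subgroup G) : Set G)).relIndex
        (Subgroup.normalizer ((U : Subgroup G) : Set G)) →
      ∃ m ∈ Subgroup.normalizer ((U : Subgroup G) : Set G),
        rc ((S : Subgroup G) ⊓ Subgroup.normalizer (R : Set G)) (c₀ * m) ≤
          (S : Subgroup G) ⊓ Subgroup.normalizer ((U : Subgroup G) : Set G) := by
    intro R U c₀ _ hU hsyl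
    have h1 : rc ((S : Subgroup G) ⊓ Subgroup.normalizer (R : Set G)) c₀ ≤
        Subgroup.normalizer ((U : Subgroup G) : Set G) := by
      rw [← hU, normalizer_rc]
      exact rc_mono inf_le_right c₀
    obtain ⟨n, hn, hle⟩ := exists_mem_cj_le_of_relIndex (p := p) inf_le_right
      (hSp.to_le inf_le_left) hsyl h1 (isPGroup_rc c₀ (hSp.to_le inf_le_left))
    refine ⟨n⁻¹, Subgroup.inv_mem _ hn, ?_⟩
    rw [← rc_rc, rc_def _ n⁻¹, inv_inv]
    exact hle
  intro n
  induction n with
  | zero =>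
    intro R hRS hcard g hg
    have : R = (S : Subgroup G) := by
      apply Subgroup.eq_of_le_of_card_ge hRS
      omega
    subst this
    exact htop g hg
  | succ n ih =>
    intro R hRS hcard g hg
    by_cases hRtop : R = (S : Subgroup G)
    · subst hRtop
      exact htop g hg
    · obtain ⟨U, hU, ⟨c, hc⟩, hsyl⟩ := h R hRS
      have hc' : rc R c⁻¹ = U := by rw [rc_def, inv_inv]; exact hc
      have hcardS : Nat.card ↥R ≤ Nat.card ↥(S : Subgroup G) := Subgroup.card_le_of_le hRS
      -- first leg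
      obtain ⟨m, hm, hle⟩ := claimA R U c⁻¹ hRS hc' hsyl
      have hgrow := card_lt_card_inf_normalizer hSp hRS hRtop
      have hchain1 : ConjChain 𝓕 R (c⁻¹ * m) := by
        have := ih ((S : Subgroup G) ⊓ Subgroup.normalizer (R : Set G)) inf_le_left (by omega)
          (c⁻¹ * m) (hle.trans inf_le_left)
        exact this.mono (le_inf hRS Subgroup.le_normalizer)
      have hU1 : rc R (c⁻¹ * m) = U := by
        rw [← rc_rc, hc', rc_of_mem_normalizer hm]
      -- second leg
      have hR'S : rc R g ≤ (S : Subgroup G) := hg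
      have hR'top : rc R g ≠ (S : Subgroup G) := by
        intro heq
        apply hRtop
        apply Subgroup.eq_of_le_of_card_ge hRS
        rw [← heq, card_rc]
      have hc'' : rc (rc R g) (g⁻¹ * (c⁻¹ * m)) = U := by
        rw [rc_rc, mul_inv_cancel_left, hU1]
      obtain ⟨m', hm', hle'⟩ := claimA (rc R g) U (g⁻¹ * (c⁻¹ * m)) hR'S hc'' hsyl
      have hgrow' := card_lt_card_inf_normalizer hSp hR'S hR'top
      rw [card_rc] at hgrow'
      have hchain2 : ConjChain 𝓕 (rc R g) (g⁻¹ * (c⁻¹ * m) * m') := by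
        have := ih ((S : Subgroup G) ⊓ Subgroup.normalizer ((rc R g : Subgroup G) : Set G)) inf_le_left
          (by omega) (g⁻¹ * (c⁻¹ * m) * m') (hle'.trans inf_le_left)
        exact this.mono (le_inf hR'S Subgroup.le_normalizer)
      have hU2 : rc (rc R g) (g⁻¹ * (c⁻¹ * m) * m') = U := by
        rw [← rc_rc, hc'', rc_of_mem_normalizer hm']
      have hrev := hchain2.reverse
      rw [hU2] at hrev
      -- assemble
      have hmid : ConjChain 𝓕 (rc R (c⁻¹ * m)) m' := by
        rw [hU1]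
        exact ConjChain.single hU hm' le_rfl
      have h12 := hchain1.append hmid
      have hU3 : rc R (c⁻¹ * m * m') = U := by
        rw [← rc_rc, hU1, rc_of_mem_normalizer hm']
      have h123 : ConjChain 𝓕 R (c⁻¹ * m * m' * (g⁻¹ * (c⁻¹ * m) * m')⁻¹) := by
        apply h12.append
        rw [hU3]
        exact hrev
      have e : c⁻¹ * m * m' * (g⁻¹ * (c⁻¹ * m) * m')⁻¹ = g := by group
      rwa [e] at h123

end Cfsg.Agent.Lib.Helper13
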