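import Cfsg.Agent.Lib.Helper13.BurnsideRes
import Cfsg.Agent.Lib.Helper1.Fitting
import Cfsg.Agent.Lib.Helper1.Cores

set_option autoImplicit false

/-! A group with a central Sylow `p`-subgroup splits as `Z × O_{p'}` (helper13). -/

namespace Cfsg.Agent.Lib.Helper13

variable {C : Type*} [Group C] [Finite C] {p : ℕ} [Fact p.Prime]

theorem pResidual_eq_pPrimeCore_of_not_dvd (h : ¬ p ∣ Nat.card ↥(Cfsg.pResidual p C)) :
    Cfsg.pResidual p C = Cfsg.pPrimeCore p C := by
  have hp : p.Prime := Fact.out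
  apply le_antisymm
  · apply Cfsg.Agent.Lib.Helper1.le_pPrimeCore (pResidual_normal' p)
    exact ((Nat.Prime.coprime_iff_not_dvd hp).mpr h).symm
  · intro x hx
    apply Subgroup.subset_closure
    show Nat.Coprime (orderOf x) p
    have h1 : orderOf x ∣ Nat.card ↥(Cfsg.pPrimeCore p C) := by
      have := orderOf_dvd_natCard (⟨x, hx⟩ : ↥(Cfsg.pPrimeCore p C))
      rwa [Subgroup.orderOf_mk] at this
    exact Nat.Coprime.coprime_dvd_left h1 (Cfsg.Agent.Lib.Helper1.pPrimeCore_card_coprime p)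

/-- A finite group with a central Sylow `p`-subgroup `R` is `O_{p'} · R`. -/
theorem exists_mul_of_central_sylow (R : Sylow p C) (hR : (R : Subgroup C) ≤ Subgroup.center C) :
    ∀ c : C, ∃ t ∈ Cfsg.pPrimeCore p C, ∃ r ∈ (R : Subgroup C), c = t * r := by
  have hB : Subgroup.normalizer ((R : Subgroup C) : Set C) ≤
      Subgroup.centralizer ((R : Subgroup C) : Set C) := by
    have : Subgroup.centralizer ((R : Subgroup C) : Set C) = ⊤ :=
      Subgroup.centralizer_eq_top_iff_subset.mpr hR
    rw [this]; exact le_top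
  have h1 := not_dvd_card_pResidual_of_burnside R hB
  have h2 := hasNormalPComplement_of_not_dvd_card_pResidual R h1
  rw [pResidual_eq_pPrimeCore_of_not_dvd h1] at h2
  intro c
  obtain ⟨⟨t, r⟩, hx, -⟩ := h2.existsUnique c
  exact ⟨t, t.2, r, r.2, hx.symm⟩

end Cfsg.Agent.Lib.Helper13
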