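import Mathlib

set_option autoImplicit false

/-! General group-theoretic lemmas for B & G Theorem 14.2 (helper13). -/

namespace Cfsg.Agent.Lib.Helper13.BG14

variable {G : Type*} [Group G]

/-- a subgroup of a finite group containing all elements of prime power order is everything -/
theorem bg14_eq_top_of_ppow {K : Type*} [Group K] [Finite K] (Z : Subgroup K)
    (h : ∀ x : K, (∃ (r k : ℕ), r.Prime ∧ x ^ r ^ k = 1) → x ∈ Z) : Z = ⊤ := by
  apply Subgroup.eq_top_of_card_eq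
  apply Nat.dvd_antisymm (Subgroup.card_subgroup_dvd_card Z)
  rw [Nat.dvd_iff_prime_pow_dvd_dvd]
  intro p k hp hpk
  haveI : Fact p.Prime := ⟨hp⟩
  obtain ⟨Q⟩ : Nonempty (Sylow p K) := inferInstance
  have hQZ : (Q : Subgroup K) ≤ Z := by
    intro x hx
    obtain ⟨j, hj⟩ := Q.isPGroup' ⟨x, hx⟩
    apply h x
    refine ⟨p, j, hp, ?_⟩
    simpa using congrArg Subtype.val hj
  have hQ : Nat.card (Q : Subgroup K) = p ^ (Nat.card K).factorization p :=
    Sylow.card_eq_multiplicity Q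
  have hk : k ≤ (Nat.card K).factorization p := by
    rw [← Nat.Prime.pow_dvd_iff_le_factorization hp Nat.card_pos.ne']
    exact hpk
  calc p ^ k ∣ p ^ (Nat.card K).factorization p := pow_dvd_pow p hk
    _ = Nat.card (Q : Subgroup K) := hQ.symm
    _ ∣ Nat.card Z := Subgroup.card_dvd_of_le hQZ

/-- normalizer of `X ≤ E` inside `S E` when `E` normalizes `S` and `S ⊓ E = ⊥` -/
theorem bg14_mem_centralizer_of_mul_mem_normalizer {S E X : Subgroup G}
    (hES : E ≤ Subgroup.normalizer (S : Set G)) (hSE : S ⊓ E = ⊥) (hXE : X ≤ E)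
    {s e : G} (hs : s ∈ S) (he : e ∈ E) (hn : s * e ∈ Subgroup.normalizer (X : Set G)) :
    s ∈ Subgroup.centralizer (X : Set G) ∧ e ∈ Subgroup.normalizer (X : Set G) := by
  have key : ∀ x ∈ X, s⁻¹ * x * s = x := by
    intro x hx
    have hinv : (s * e)⁻¹ ∈ Subgroup.normalizer (X : Set G) := Subgroup.inv_mem _ hn
    have h1 : (s * e)⁻¹ * x * (s * e)⁻¹⁻¹ ∈ X := (Subgroup.mem_normalizer_iff.mp hinv x).mp hx
    have h2 : s⁻¹ * x * s ∈ E := by
      have h3 : e * ((s * e)⁻¹ * x * (s * e)⁻¹⁻¹) * e⁻¹ ∈ E :=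
        E.mul_mem (E.mul_mem he (hXE h1)) (E.inv_mem he)
      have h4 : e * ((s * e)⁻¹ * x * (s * e)⁻¹⁻¹) * e⁻¹ = s⁻¹ * x * s := by group
      rwa [h4] at h3
    have hxE : x ∈ E := hXE hx
    have h5 : x⁻¹ * (s⁻¹ * x * s) ∈ E := E.mul_mem (E.inv_mem hxE) h2
    have h6 : x⁻¹ * (s⁻¹ * x * s) ∈ S := by
      have h7 : x⁻¹ * s⁻¹ * x⁻¹⁻¹ ∈ S :=
        (Subgroup.mem_normalizer_iff.mp (hES (E.inv_mem hxE)) s⁻¹).mp (S.inv_mem hs)
      have h8 : x⁻¹ * (s⁻¹ * x * s) = (x⁻¹ * s⁻¹ * x⁻¹⁻¹) * s := by group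
      rw [h8]
      exact S.mul_mem h7 hs
    have h9 : x⁻¹ * (s⁻¹ * x * s) ∈ S ⊓ E := Subgroup.mem_inf.2 ⟨h6, h5⟩
    rw [hSE, Subgroup.mem_bot] at h9
    calc s⁻¹ * x * s = x * (x⁻¹ * (s⁻¹ * x * s)) := by group
      _ = x := by rw [h9, mul_one]
  have hsC : s ∈ Subgroup.centralizer (X : Set G) := by
    rw [Subgroup.mem_centralizer_iff]
    intro x hx
    have := key x hx
    calc x * s = s * (s⁻¹ * x * s) := by group
      _ = s * x := by rw [this]
  refine ⟨hsC, ?_⟩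
  have h10 : e = s⁻¹ * (s * e) := by group
  rw [h10]
  exact Subgroup.mul_mem _ (Subgroup.inv_mem _ (Subgroup.centralizer_le_normalizer (X : Set G) hsC)) hn

/-- in `U K` with `K` commutative, `U ⊓ K = ⊥`, `K ≤ N(U)`, `X ≤ K` with `C_U(X) = 1`:
an element `u k` normalizing `X` has `u = 1` -/
theorem bg14_eq_one_of_mul_mem_normalizer {U K X : Subgroup G}
    (hKU : K ≤ Subgroup.normalizer (U : Set G)) (hUK : U ⊓ K = ⊥) (hXK : X ≤ K)
    (hfree : U ⊓ Subgroup.centralizer (X : Set G) = ⊥)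
    {u k : G} (hu : u ∈ U) (hk : k ∈ K) (hn : u * k ∈ Subgroup.normalizer (X : Set G)) : u = 1 := by
  have h := (bg14_mem_centralizer_of_mul_mem_normalizer hKU hUK hXK hu hk hn).1
  have : u ∈ U ⊓ Subgroup.centralizer (X : Set G) := Subgroup.mem_inf.2 ⟨hu, h⟩
  rwa [hfree, Subgroup.mem_bot] at this

end Cfsg.Agent.Lib.Helper13.BG14
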