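import Mathlib
import Cfsg.Prelude.Def_OddOrderLocal
import Cfsg.Prelude.Def_OddOrder
import Cfsg.Agent.Lib.Helper13.BG14A
import Cfsg.Agent.Lib.Helper28.BGtJ
import Cfsg.Agent.Lib.Helper1.BG12.TauHall

set_option autoImplicit false
open scoped commutatorElement

/-! B & G Theorem 14.2, part 1: prime action of a Hall `κ(M)`-subgroup (helper13). -/

namespace Cfsg.Agent.Lib.Helper13.BG14

open Cfsg

variable {G : Type*} [Group G] [Finite G]

/-- the statement of S1427 -/
def T27 (G : Type*) [Group G] [Finite G] : Prop :=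
  ∀ (M : Subgroup G), IsCoatom M → ∀ (E : Subgroup G), Cfsg.IsComplIn E (Cfsg.sigmaCore M) M →
    ∀ (p : ℕ) [Fact p.Prime] (S : Sylow p E), (S : Subgroup E) ≠ ⊥ → IsCyclic (S : Subgroup E) →
    ∀ x ∈ (S : Subgroup E).map E.subtype, x ≠ 1 →
      Cfsg.sigmaCore M ⊓ Subgroup.centralizer ({x} : Set G) =
        Cfsg.sigmaCore M ⊓
          Subgroup.centralizer (((S : Subgroup E).map E.subtype : Subgroup G) : Set G)

/-- the statement of S1428 -/
def T28 (G : Type*) [Group G] [Finite G] : Prop :=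
  ∀ (M : Subgroup G), IsCoatom M → ∀ (E : Subgroup G), Cfsg.IsComplIn E (Cfsg.sigmaCore M) M →
    ∀ (p : ℕ), p ∈ Cfsg.tau1 M → ∀ (P : Subgroup G), P ≤ E → Nat.card P = p →
    ∀ (R : Subgroup G), R ≤ E ⊓ Subgroup.centralizer (P : Set G) → (Nat.card R).Prime →
      Cfsg.sigmaCore M ⊓ Subgroup.centralizer (P : Set G) ≤
        Cfsg.sigmaCore M ⊓ Subgroup.centralizer (R : Set G)

/-- hypothesis H1: `κ(M) ⊆ τ₁(M)` -/
def KappaTau1 (G : Type*) [Group G] [Finite G] : Prop :=
  ∀ (M : Subgroup G), IsCoatom M → ∀ p ∈ Cfsg.kappa M, p ∈ Cfsg.tau1 M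

omit [Finite G] in
theorem bg14_centralizer_zpowers {c x : G} (h : c * x = x * c) :
    c ∈ Subgroup.centralizer ((Subgroup.zpowers x : Subgroup G) : Set G) := by
  rw [Subgroup.mem_centralizer_iff]
  intro y hy
  obtain ⟨n, rfl⟩ := Subgroup.mem_zpowers_iff.mp hy
  exact ((Commute.zpow_left (show Commute x c from h.symm) n)).eq

omit [Finite G] in
theorem bg14_commute_of_mem_centralizer {c x : G} {X : Subgroup G}
    (h : c ∈ Subgroup.centralizer (X : Set G)) (hx : x ∈ X) : c * x = x * c :=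
  ((Subgroup.mem_centralizer_iff.mp h) x hx).symm

/-- an element of prime order in the cyclic group generated by `x ≠ 1` -/
theorem bg14_exists_prime_pow {x : G} (hx : x ≠ 1) :
    ∃ (p : ℕ) (n : ℕ), p.Prime ∧ p ∣ orderOf x ∧ orderOf (x ^ n) = p := by
  have ho : orderOf x ≠ 1 := fun h => hx (orderOf_eq_one_iff.mp h)
  obtain ⟨p, hp, hpd⟩ := Nat.exists_prime_and_dvd ho
  refine ⟨p, orderOf x / p, hp, hpd, ?_⟩
  exact orderOf_pow_orderOf_div (orderOf_pos x).ne' hpd

/-- primes dividing `|G|` are odd -/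
theorem bg14_ne_two (hG : Cfsg.IsMinSimpleOddOrder G) {r : ℕ} {X : Subgroup G}
    (hr : r ∣ Nat.card X) : r ≠ 2 := by
  rintro rfl
  have h1 : 2 ∣ Nat.card G := hr.trans (Subgroup.card_subgroup_dvd_card X)
  have h2 := hG.1
  rw [Nat.odd_iff] at h2
  omega

/-- **prime action** of a commutative Hall `κ(M)`-subgroup `K ≤ E`, assuming `κ(M) ⊆ τ₁(M)` -/
theorem bg14_prime_action (hG : Cfsg.IsMinSimpleOddOrder G) (h27 : T27 G) (h28 : T28 G)
    (h1 : KappaTau1 G) {M K E : Subgroup G} (hM : IsCoatom M)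
    (hK : Cfsg.IsPiHallOf (Cfsg.kappa M) K M)
    (hE : Cfsg.IsComplIn E (Cfsg.sigmaCore M) M) (hKE : K ≤ E)
    (hKc : ∀ a ∈ K, ∀ b ∈ K, a * b = b * a) :
    ∀ k ∈ K, k ≠ 1 →
      Cfsg.sigmaCore M ⊓ Subgroup.centralizer ({k} : Set G) =
        Cfsg.sigmaCore M ⊓ Subgroup.centralizer (K : Set G) := by
  intro k hk hk1
  apply le_antisymm
  · intro c hc
    obtain ⟨hcM, hck⟩ := Subgroup.mem_inf.1 hc
    refine Subgroup.mem_inf.2 ⟨hcM, ?_⟩
    have hck' : c * k = k * c := ((Subgroup.mem_centralizer_iff.mp hck) k rfl).symm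
    obtain ⟨p, n, hp, hpd, hord⟩ := bg14_exists_prime_pow hk1
    have hkn : k ^ n ∈ K := K.pow_mem hk n
    have hckn : c * k ^ n = k ^ n * c := ((show Commute c k from hck').pow_right n).eq
    have hPcard : Nat.card (Subgroup.zpowers (k ^ n)) = p := by rw [Nat.card_zpowers, hord]
    have hPK : Subgroup.zpowers (k ^ n) ≤ K := by rw [Subgroup.zpowers_le]; exact hkn
    have hpK : p ∣ Nat.card K := by
      rw [← hPcard]; exact Subgroup.card_dvd_of_le hPK
    have hpκ : p ∈ Cfsg.kappa M := hK.2.1 p hp hpK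
    have hpτ : p ∈ Cfsg.tau1 M := h1 M hM p hpκ
    have hcP : c ∈ Cfsg.sigmaCore M ⊓
        Subgroup.centralizer ((Subgroup.zpowers (k ^ n) : Subgroup G) : Set G) :=
      Subgroup.mem_inf.2 ⟨hcM, bg14_centralizer_zpowers hckn⟩
    -- the centralizer of `c` in `K` is everything
    have hZ : (Subgroup.centralizer ({c} : Set G)).subgroupOf K = ⊤ := by
      apply bg14_eq_top_of_ppow
      rintro ⟨x, hxK⟩ ⟨r, j, hr, hxj⟩
      rw [Subgroup.mem_subgroupOf]
      change x ∈ Subgroup.centralizer ({c} : Set G)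
      rw [Subgroup.mem_centralizer_iff]
      intro c' hc'
      rw [Set.mem_singleton_iff] at hc'
      rw [hc']
      have hxj' : x ^ r ^ j = 1 := by simpa using congrArg Subtype.val hxj
      by_cases hx1 : x = 1
      · rw [hx1]; simp
      obtain ⟨r', n', hr', hr'd, hord'⟩ := bg14_exists_prime_pow hx1
      have hrr : r' = r := by
        have h2 : r' ∣ r ^ j := hr'd.trans (orderOf_dvd_of_pow_eq_one hxj')
        exact (Nat.prime_dvd_prime_iff_eq hr' hr).mp (hr'.dvd_of_dvd_pow h2)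
      subst hrr
      have hxn : x ^ n' ∈ K := K.pow_mem hxK n'
      have hRcard : Nat.card (Subgroup.zpowers (x ^ n')) = r' := by rw [Nat.card_zpowers, hord']
      have hRK : Subgroup.zpowers (x ^ n') ≤ K := by rw [Subgroup.zpowers_le]; exact hxn
      have hrK : r' ∣ Nat.card K := by
        rw [← hRcard]; exact Subgroup.card_dvd_of_le hRK
      have hrκ : r' ∈ Cfsg.kappa M := hK.2.1 r' hr' hrK
      have hrτ : r' ∈ Cfsg.tau1 M := h1 M hM r' hrκ
      have hRle : Subgroup.zpowers (x ^ n') ≤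
          E ⊓ Subgroup.centralizer ((Subgroup.zpowers (k ^ n) : Subgroup G) : Set G) := by
        intro y hy
        refine Subgroup.mem_inf.2 ⟨hKE (hRK hy), ?_⟩
        rw [Subgroup.mem_centralizer_iff]
        intro z hz
        exact hKc z (hPK hz) y (hRK hy)
      have h3 := h28 M hM E hE p hpτ (Subgroup.zpowers (k ^ n)) (hPK.trans hKE) hPcard
        (Subgroup.zpowers (x ^ n')) hRle (by rw [hRcard]; exact hr')
      have hcR := (Subgroup.mem_inf.1 (h3 hcP)).2
      have hcxn : c * x ^ n' = x ^ n' * c :=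
        bg14_commute_of_mem_centralizer hcR (Subgroup.mem_zpowers _)
      -- a Sylow `r'`-subgroup of `E` containing `x`
      haveI : Fact r'.Prime := ⟨hr'⟩
      have hxE : x ∈ E := hKE hxK
      have hpg : IsPGroup r' (Subgroup.zpowers (⟨x, hxE⟩ : E)) := by
        rw [IsPGroup.iff_card, Nat.card_zpowers]
        have h4 : orderOf (⟨x, hxE⟩ : E) ∣ r' ^ j := by
          apply orderOf_dvd_of_pow_eq_one
          exact Subtype.ext hxj'
        obtain ⟨i, -, hi⟩ := (Nat.dvd_prime_pow hr').mp h4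
        exact ⟨i, hi⟩
      obtain ⟨S, hS⟩ := hpg.exists_le_sylow
      have hxS : (⟨x, hxE⟩ : E) ∈ (S : Subgroup E) := hS (Subgroup.mem_zpowers _)
      have hS1 : (S : Subgroup E) ≠ ⊥ := by
        intro h
        rw [h, Subgroup.mem_bot] at hxS
        exact hx1 (congrArg Subtype.val hxS)
      have hr2 : r' ≠ 2 := bg14_ne_two hG hrK
      have hrank : Cfsg.PRankLE r' 1 ↥E :=
        Cfsg.Agent.Lib.Helper1.BG12.pRankLE_of_le hE.1 hrτ.2.2.2.2
      have hSc : IsCyclic (S : Subgroup E) :=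
        Cfsg.Agent.Lib.Helper1.BG12.cyclic_of_rank_one r' hr2 (S : Subgroup E) S.2 hrank
      have hxnS : x ^ n' ∈ (S : Subgroup E).map E.subtype :=
        ⟨⟨x, hxE⟩ ^ n', (S : Subgroup E).pow_mem hxS n', rfl⟩
      have hxn1 : x ^ n' ≠ 1 := by
        intro h
        rw [h, orderOf_one] at hord'
        exact hr'.one_lt.ne hord'
      have h5 := h27 M hM E hE r' S hS1 hSc (x ^ n') hxnS hxn1
      have hc6 : c ∈ Cfsg.sigmaCore M ⊓ Subgroup.centralizer ({x ^ n'} : Set G) := by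
        refine Subgroup.mem_inf.2 ⟨hcM, ?_⟩
        rw [Subgroup.mem_centralizer_iff]
        rintro _ rfl
        exact hcxn.symm
      rw [h5] at hc6
      have hxS' : x ∈ (S : Subgroup E).map E.subtype := ⟨⟨x, hxE⟩, hxS, rfl⟩
      exact bg14_commute_of_mem_centralizer (Subgroup.mem_inf.1 hc6).2 hxS'
    rw [Subgroup.mem_centralizer_iff]
    intro y hy
    have h7 : (⟨y, hy⟩ : K) ∈ (Subgroup.centralizer ({c} : Set G)).subgroupOf K := by
      rw [hZ]; trivial
    rw [Subgroup.mem_subgroupOf] at h7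
    exact ((Subgroup.mem_centralizer_iff.mp h7) c rfl).symm
  · apply inf_le_inf_left
    apply Subgroup.centralizer_le
    intro z hz
    rw [Set.mem_singleton_iff] at hz
    rw [hz]; exact hk

end Cfsg.Agent.Lib.Helper13.BG14
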