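import Mathlib
import Cfsg.Prelude.Def_OddOrderLocal
import Cfsg.Agent.Lib.Helper13.BG14A
import Cfsg.Agent.Lib.Helper1.BG12b.PiSplit
import Cfsg.Agent.Lib.Helper10.SubgroupBasic
import Cfsg.Agent.Lib.Helper11.ThirteenB
import Cfsg.Agent.Lib.Helper28.BGtJ

set_option autoImplicit false
open scoped commutatorElement

/-! A normal complement to a Hall subgroup avoiding the derived subgroup (helper13). -/

namespace Cfsg.Agent.Lib.Helper13.BG14

open Cfsg

variable {G : Type*} [Group G] [Finite G]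

omit [Finite G] in
/-- a subgroup of `E` containing `E'` is normalized by `E` -/
theorem bg14_le_normalizer_of_derived_le {E U : Subgroup G} (hUE : U ≤ E) (hd : ⁅E, E⁆ ≤ U) :
    E ≤ Subgroup.normalizer (U : Set G) := by
  have key : ∀ e ∈ E, ∀ u ∈ U, e * u * e⁻¹ ∈ U := by
    intro e he u hu
    have h1 : ⁅e, u⁆ ∈ ⁅E, E⁆ := Subgroup.commutator_mem_commutator he (hUE hu)
    have h2 : e * u * e⁻¹ = ⁅e, u⁆ * u := by
      rw [commutatorElement_def]; group
    rw [h2]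
    exact U.mul_mem (hd h1) hu
  intro e he
  rw [Subgroup.mem_normalizer_iff]
  intro u
  constructor
  · exact key e he u
  · intro h
    have := key e⁻¹ (E.inv_mem he) _ h
    have h3 : e⁻¹ * (e * u * e⁻¹) * e⁻¹⁻¹ = u := by group
    rwa [h3] at this

/-- a divisibility criterion -/
theorem bg14_dvd_of_prime_pow {a b : ℕ} (ha : a ≠ 0)
    (h : ∀ q k : ℕ, q.Prime → q ^ k ∣ a → q ^ k ∣ b) : a ∣ b := by
  rw [Nat.dvd_iff_prime_pow_dvd_dvd]
  intro q k hq hqk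
  exact h q k hq hqk

/-- **normal complement**: `K` a Hall `π`-subgroup of the solvable group `E` such that no prime of
`π` divides `|E'|`; then `K` has a normal complement `U ⊇ E'` in `E`. -/
theorem bg14_exists_normal_compl (π : Set ℕ) {E K : Subgroup G} [Group.IsSolvable E]
    (hKE : K ≤ E) (hKπ : ∀ q : ℕ, q.Prime → q ∣ Nat.card K → q ∈ π)
    (hKh : ∀ q : ℕ, q.Prime → q ∈ π → ¬ q ∣ K.relIndex E)
    (hder : ∀ q : ℕ, q.Prime → q ∣ Nat.card ↥⁅E, E⁆ → q ∉ π) :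
    ∃ U : Subgroup G, U ≤ E ∧ ⁅E, E⁆ ≤ U ∧ E ≤ Subgroup.normalizer (U : Set G) ∧
      (∀ q : ℕ, q.Prime → q ∣ Nat.card U → q ∉ π) ∧
      (∀ q : ℕ, q.Prime → q ∉ π → ¬ q ∣ U.relIndex E) ∧ U ⊓ K = ⊥ ∧
      ∀ e ∈ E, ∃ u ∈ U, ∃ k ∈ K, e = u * k := by
  obtain ⟨V, hVE, hVπ, hVh⟩ := Cfsg.Agent.Lib.Helper1.BG12b.exists_piHallOf (πᶜ) E
  have hdE : ⁅E, E⁆ ≤ E := Cfsg.Agent.Lib.Helper1.BG12.derived_le E
  have hEnd : E ≤ Subgroup.normalizer ((⁅E, E⁆ : Subgroup G) : Set G) :=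
    Cfsg.Agent.Lib.Helper28.BGt.le_normalizer_derived' E
  obtain ⟨U, hU⟩ : ∃ U : Subgroup G, U = ⁅E, E⁆ ⊔ V := ⟨_, rfl⟩
  have hUE : U ≤ E := by rw [hU]; exact sup_le hdE hVE
  have hdU : ⁅E, E⁆ ≤ U := by rw [hU]; exact le_sup_left
  have hVU : V ≤ U := by rw [hU]; exact le_sup_right
  have hEU : E ≤ Subgroup.normalizer (U : Set G) := bg14_le_normalizer_of_derived_le hUE hdU
  have hUπ : ∀ q : ℕ, q.Prime → q ∣ Nat.card U → q ∉ π := by
    intro q hq hqd
    have h1 : Nat.card U ∣ Nat.card ↥⁅E, E⁆ * Nat.card V := by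
      rw [hU]
      exact Cfsg.Agent.Lib.Helper11.ThirteenB.card_sup_dvd ⁅E, E⁆ V (hVE.trans hEnd)
    rcases (Nat.Prime.dvd_mul hq).mp (hqd.trans h1) with h | h
    · exact hder q hq h
    · exact hVπ q hq h
  have hUh : ∀ q : ℕ, q.Prime → q ∉ π → ¬ q ∣ U.relIndex E := by
    intro q hq hqπ hqd
    apply hVh q hq hqπ
    rw [← Subgroup.relIndex_mul_relIndex V U E hVU hUE]
    exact Dvd.dvd.mul_left hqd _
  have hcop : (Nat.card U).Coprime (Nat.card K) := by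
    apply Nat.coprime_of_dvd
    intro q hq h1 h2
    exact hUπ q hq h1 (hKπ q hq h2)
  have hUK : U ⊓ K = ⊥ := (Subgroup.disjoint_of_coprime_natCard hcop).eq_bot
  have hKU : K ≤ Subgroup.normalizer (U : Set G) := hKE.trans hEU
  have hcard : Nat.card ↥(U ⊔ K) = Nat.card U * Nat.card K :=
    Cfsg.Agent.Lib.Helper10.card_sup_of_inf_eq_bot U K hKU hUK
  have hsupE : U ⊔ K ≤ E := sup_le hUE hKE
  -- `|E : U|` divides `|K|`
  have h2 : U.relIndex E ∣ Nat.card K := by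
    apply bg14_dvd_of_prime_pow
    · intro h0
      have h3 := Cfsg.Agent.Lib.Helper1.BG12.card_mul_relIndex_of_le hUE
      rw [h0, mul_zero] at h3
      exact Nat.card_pos.ne' h3.symm
    intro q k hq hqk
    rcases Nat.eq_zero_or_pos k with hk0 | hkpos
    · rw [hk0, pow_zero]; exact one_dvd _
    have hqd : q ∣ U.relIndex E := (dvd_pow_self q hkpos.ne').trans hqk
    have hqπ : q ∈ π := by
      by_contra hn
      exact hUh q hq hn hqd
    have h4 : q ^ k ∣ Nat.card E := by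
      have h3 := Cfsg.Agent.Lib.Helper1.BG12.card_mul_relIndex_of_le hUE
      rw [← h3]
      exact Dvd.dvd.mul_left hqk _
    have h5 := Cfsg.Agent.Lib.Helper1.BG12.card_mul_relIndex_of_le hKE
    rw [← h5] at h4
    have hcop2 : (q ^ k).Coprime (K.relIndex E) :=
      Nat.Coprime.pow_left k ((Nat.Prime.coprime_iff_not_dvd hq).mpr (hKh q hq hqπ))
    exact hcop2.dvd_of_dvd_mul_right h4
  have h6 : Nat.card ↥(U ⊔ K) = Nat.card E := by
    apply Nat.le_antisymm (Nat.le_of_dvd Nat.card_pos (Subgroup.card_dvd_of_le hsupE))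
    rw [hcard, ← Cfsg.Agent.Lib.Helper1.BG12.card_mul_relIndex_of_le hUE]
    exact Nat.mul_le_mul_left _ (Nat.le_of_dvd Nat.card_pos h2)
  have h7 : U ⊔ K = E := Subgroup.eq_of_le_of_card_ge hsupE (by rw [h6])
  refine ⟨U, hUE, hdU, hEU, hUπ, hUh, hUK, ?_⟩
  intro e he
  rw [← h7] at he
  exact Cfsg.Agent.Lib.Helper10.exists_mul_of_mem_sup U K hKU e he

end Cfsg.Agent.Lib.Helper13.BG14
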