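import Mathlib
import Cfsg.Prelude.Def_OddOrderLocal
import Cfsg.Prelude.Def_OddOrder
import Cfsg.Agent.Lib.Helper13.BG14B
import Cfsg.Agent.Lib.Helper13.BG14C
import Cfsg.Agent.Lib.Helper24.CycSylow1
import Cfsg.Agent.Lib.Helper11.ExcB

set_option autoImplicit false
open scoped commutatorElement

/-! B & G Theorem 14.2: fixed points of `κ`-elements, the complement `U`, normalizers (helper13). -/

namespace Cfsg.Agent.Lib.Helper13.BG14

open Cfsg

variable {G : Type*} [Group G] [Finite G]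

/-- for `p ∈ κ(M)` every element of order `p` of `M` centralizes a non-identity element of `M_σ` -/
theorem bg14_kappa_fixed {M : Subgroup G} {p : ℕ} (hpκ : p ∈ Cfsg.kappa M) {g : G} (hgM : g ∈ M)
    (hg : orderOf g = p) : ∃ y ∈ Cfsg.sigmaCore M, y ≠ 1 ∧ g * y = y * g := by
  obtain ⟨hp, -, -, hall⟩ := hpκ
  haveI : Fact p.Prime := ⟨hp⟩
  have hpg : IsPGroup p (Subgroup.zpowers (⟨g, hgM⟩ : M)) := by
    apply IsPGroup.of_card (n := 1)
    rw [Nat.card_zpowers, pow_one, ← hg]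
    exact Subgroup.orderOf_mk g hgM
  obtain ⟨P', hP'⟩ := hpg.exists_le_sylow
  obtain ⟨hcyc, x, hxP, hx1, y, hy, hy1, hxy⟩ := hall P'
  refine ⟨y, hy, hy1, ?_⟩
  have hgP : (⟨g, hgM⟩ : M) ∈ (P' : Subgroup M) := hP' (Subgroup.mem_zpowers _)
  -- work inside `P'`
  obtain ⟨j, hj⟩ := (IsPGroup.iff_orderOf.mp P'.isPGroup') ⟨x, hxP⟩
  have hox : orderOf x = p ^ j := by
    rw [← hj]; exact (Subgroup.orderOf_mk x hxP).symm
  have hj0 : j ≠ 0 := by
    intro h
    rw [h, pow_zero] at hox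
    exact hx1 (orderOf_eq_one_iff.mp hox)
  have hpd : p ∣ orderOf x := by rw [hox]; exact dvd_pow_self p hj0
  have hox' : orderOf (x ^ (orderOf x / p)) = p :=
    orderOf_pow_orderOf_div (orderOf_pos x).ne' hpd
  have hgp : (⟨g, hgM⟩ : M) ^ p = 1 := by
    apply Subtype.ext
    simp only [Subgroup.coe_pow, Subgroup.coe_one]
    rw [← hg]; exact pow_orderOf_eq_one g
  have hmem := Cfsg.Agent.Lib.Helper24.cs_mem_zpowers_sub (P' : Subgroup M) hcyc p hp
    (x ^ (orderOf x / p)) ⟨g, hgM⟩ ((P' : Subgroup M).pow_mem hxP _) hgP hox' hgp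
  obtain ⟨i, hi⟩ := Subgroup.mem_zpowers_iff.mp hmem
  have hgi : g = ((x : G) ^ (orderOf x / p)) ^ i := by
    have := congrArg Subtype.val hi
    simpa using this.symm
  rw [hgi]
  have hc : Commute (x : G) y := hxy
  exact ((hc.pow_left _).zpow_left i).eq

/-- Lemma L -/
def LemL (G : Type*) [Group G] [Finite G] : Prop :=
  ∀ (M E : Subgroup G), IsCoatom M → Cfsg.IsComplIn E (Cfsg.sigmaCore M) M →
    ∀ p : ℕ, p ∈ Cfsg.kappa M → p ∈ Cfsg.tau1 M → ∀ P : Subgroup G, P ≤ E → Nat.card P = p →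
    ∀ r : ℕ, r ∈ Cfsg.tau2 M → ∀ R : Subgroup G, R ≤ E ⊓ Subgroup.centralizer (P : Set G) →
      Nat.card R = r → False

/-- (STAR) -/
def Star (G : Type*) [Group G] [Finite G] : Prop :=
  ∀ (M H : Subgroup G), IsCoatom M → IsCoatom H → ∀ p : ℕ, p ∈ Cfsg.kappa M →
    ∀ P : Subgroup G, P ≤ M → Nat.card P = p → Subgroup.normalizer (P : Set G) ≤ H →
      p ∈ Cfsg.sigma H

/-- first part of S1420 -/
def T20a (G : Type*) [Group G] [Finite G] : Prop :=
  ∀ (M : Subgroup G), IsCoatom M → ∀ N : Subgroup G, N ≤ M → Group.IsNilpotent N →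
    (∀ p : ℕ, p.Prime → p ∣ Nat.card N → p ∉ Cfsg.sigma M) → IsMulCommutative N

end Cfsg.Agent.Lib.Helper13.BG14
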