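import Mathlib
import Cfsg.Prelude.Def_OddOrderLocal
import Cfsg.Agent.Lib.Helper13.BG14F
import Cfsg.Agent.Lib.Helper1.BG14.SigmaATIc
import Cfsg.Agent.Lib.Helper1.BG15.SigmaDecomp
import Cfsg.Agent.Lib.Helper11.TransHyp

set_option autoImplicit false

/-! B & G 14.4(a)-type statement (S1374): the centralizer of `x ∈ M_σ^#` (helper13). -/

namespace Cfsg.Agent.Lib.Helper13.BG14

open Cfsg Cfsg.Agent.Lib Cfsg.Agent.Lib.Helper18
open Cfsg.Agent.Lib.Helper11.BenderM Cfsg.Agent.Lib.Helper11.MaxSubD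
  Cfsg.Agent.Lib.Helper11.BenderE Cfsg.Agent.Lib.Helper28.BGt

variable {G : Type*} [Group G] [Finite G]

/-- `x ∈ g M g⁻¹` unfolds -/
theorem bg14_mem_map_conj {M : Subgroup G} {g x : G} :
    x ∈ M.map (MulAut.conj g).toMonoidHom ↔ g⁻¹ * x * g ∈ M := by
  constructor
  · rintro ⟨m, hm, rfl⟩
    have : g⁻¹ * ((MulAut.conj g).toMonoidHom m) * g = m := by
      simp [MulAut.conj_apply, mul_assoc]
    rw [this]; exact hm
  · intro h
    refine ⟨g⁻¹ * x * g, h, ?_⟩
    simp [MulAut.conj_apply, mul_assoc]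

/-- two elements with the same conjugate of `M` -/
theorem bg14_map_conj_eq_of_mul {M : Subgroup G} {g m : G} (hm : m ∈ M) :
    M.map (MulAut.conj (g * m)).toMonoidHom = M.map (MulAut.conj g).toMonoidHom := by
  ext y
  rw [bg14_mem_map_conj, bg14_mem_map_conj]
  constructor
  · intro h
    have h1 : m * ((g * m)⁻¹ * y * (g * m)) * m⁻¹ ∈ M := M.mul_mem (M.mul_mem hm h) (M.inv_mem hm)
    have h2 : m * ((g * m)⁻¹ * y * (g * m)) * m⁻¹ = g⁻¹ * y * g := by group
    rwa [h2] at h1
  · intro h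
    have h1 : m⁻¹ * (g⁻¹ * y * g) * m ∈ M := M.mul_mem (M.mul_mem (M.inv_mem hm) h) hm
    have h2 : m⁻¹ * (g⁻¹ * y * g) * m = (g * m)⁻¹ * y * (g * m) := by group
    rwa [h2] at h1

/-- **S1374**. -/
theorem bg14_centralizer_compl (hG : Cfsg.IsMinSimpleOddOrder G) (M : Subgroup G) (hM : IsCoatom M)
    (x : G) (hx : x ∈ Cfsg.sigmaCore M) (hx1 : x ≠ 1) :
    (Nat.card ↥(M ⊓ Subgroup.centralizer ({x} : Set G))).Coprime
        ((M ⊓ Subgroup.centralizer ({x} : Set G)).relIndex (Subgroup.centralizer ({x} : Set G))) ∧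
      ∃ R : Subgroup G, Subgroup.centralizer ({x} : Set G) ≤ Subgroup.normalizer (R : Set G) ∧
        Cfsg.IsComplIn (M ⊓ Subgroup.centralizer ({x} : Set G)) R
          (Subgroup.centralizer ({x} : Set G)) ∧
        ∀ g : G, x ∈ M.map (MulAut.conj g).toMonoidHom →
          ∃! r : G, r ∈ R ∧ M.map (MulAut.conj r).toMonoidHom =
            M.map (MulAut.conj g).toMonoidHom := by
  have hsimple : IsSimpleGroup G := hG.2.1
  have hxM : x ∈ M := sigmaCore_le M hx
  -- a power of `x` of prime order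
  have hxo : orderOf x ≠ 1 := fun h => hx1 (orderOf_eq_one_iff.mp h)
  obtain ⟨p, hp, hpx⟩ := Nat.exists_prime_and_dvd hxo
  haveI : Fact p.Prime := ⟨hp⟩
  have hyo : orderOf (x ^ (orderOf x / p)) = p :=
    orderOf_pow_orderOf_div (orderOf_pos x).ne' hpx
  obtain ⟨y, hy⟩ : ∃ y, y = x ^ (orderOf x / p) := ⟨_, rfl⟩
  rw [← hy] at hyo
  have hyσ : y ∈ Cfsg.sigmaCore M := by rw [hy]; exact Subgroup.pow_mem _ hx _
  have hXc : Nat.card (Subgroup.zpowers y) = p := by rw [Nat.card_zpowers, hyo]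
  have hXp : IsPGroup p (Subgroup.zpowers y) := IsPGroup.of_card (n := 1) (by rw [hXc, pow_one])
  have hX1 : Subgroup.zpowers y ≠ ⊥ := by
    intro h
    rw [h, Subgroup.card_bot] at hXc
    exact hp.one_lt.ne hXc
  have hXσ : Subgroup.zpowers y ≤ Cfsg.sigmaCore M := Subgroup.zpowers_le.mpr hyσ
  have hXM : Subgroup.zpowers y ≤ M := hXσ.trans (sigmaCore_le M)
  have hpσ : p ∈ Cfsg.sigma M :=
    prime_sigmaCore hG hM hp (hXc ▸ Subgroup.card_dvd_of_le hXσ)
  -- `C_G(x) ≤ C_G(X) ≤ N_G(X)`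
  have hCX : Subgroup.centralizer ({x} : Set G) ≤
      Subgroup.centralizer ((Subgroup.zpowers y : Subgroup G) : Set G) := by
    intro c hc
    rw [Subgroup.mem_centralizer_iff]
    intro z hz
    obtain ⟨i, rfl⟩ := Subgroup.mem_zpowers_iff.mp hz
    have hcx : Commute c x := (Subgroup.mem_centralizer_singleton_iff.mp hc)
    rw [hy]
    exact (((hcx.pow_right _).zpow_right i).eq).symm
  have hCN : Subgroup.centralizer ({x} : Set G) ≤
      Subgroup.normalizer ((Subgroup.zpowers y : Subgroup G) : Set G) :=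
    hCX.trans (Subgroup.centralizer_le_normalizer _)
  have hfus := sigma_fusion hG M hM p hpσ (Subgroup.zpowers y) hXp hX1 hXM
  -- conjugates containing `x` come from `C_G(X)`
  have hconj : ∀ g : G, x ∈ M.map (MulAut.conj g).toMonoidHom →
      ∃ c ∈ Subgroup.centralizer ((Subgroup.zpowers y : Subgroup G) : Set G),
        M.map (MulAut.conj g).toMonoidHom = M.map (MulAut.conj c).toMonoidHom := by
    intro g hg
    rw [bg14_mem_map_conj] at hg
    have hle : Helper18.conjSub g⁻¹ (Subgroup.zpowers y) ≤ M := by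
      rintro _ ⟨z, hz, rfl⟩
      have hzx : z ∈ Subgroup.zpowers x := by
        have : Subgroup.zpowers y ≤ Subgroup.zpowers x := by
          rw [Subgroup.zpowers_le, hy]
          exact Subgroup.pow_mem _ (Subgroup.mem_zpowers x) _
        exact this hz
      obtain ⟨j, rfl⟩ := Subgroup.mem_zpowers_iff.mp hzx
      rw [map_zpow]
      apply M.zpow_mem
      simpa [MulAut.conj_apply] using hg
    obtain ⟨m, hm, c, hc, hgmc⟩ := hfus.1 g⁻¹ hle
    refine ⟨c⁻¹, Subgroup.inv_mem _ hc, ?_⟩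
    have hg' : g = c⁻¹ * m⁻¹ := by
      have : g = (g⁻¹)⁻¹ := (inv_inv g).symm
      rw [this, hgmc]; group
    rw [hg']
    exact bg14_map_conj_eq_of_mul (M.inv_mem hm)
  by_cases hNM : Subgroup.normalizer ((Subgroup.zpowers y : Subgroup G) : Set G) ≤ M
  · -- Case A: `C_G(x) ≤ M`, `R = 1`
    have hCM : Subgroup.centralizer ({x} : Set G) ≤ M := hCN.trans hNM
    have hinf : M ⊓ Subgroup.centralizer ({x} : Set G) = Subgroup.centralizer ({x} : Set G) :=
      inf_eq_right.mpr hCM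
    refine ⟨?_, ⊥, ?_, ⟨inf_le_right, bot_le, inf_bot_eq _, ?_⟩, ?_⟩
    · rw [hinf, Subgroup.relIndex_self]
      exact Nat.coprime_one_right _
    · rw [Subgroup.normalizer_eq_top_iff.mpr (inferInstance : (⊥ : Subgroup G).Normal)]
      exact le_top
    · intro c hc
      exact ⟨c, Subgroup.mem_inf.mpr ⟨hCM hc, hc⟩, 1, Subgroup.one_mem _, (mul_one c).symm⟩
    · intro g hg
      obtain ⟨c, hc, hgc⟩ := hconj g hg
      have hcM : c ∈ M := hNM (Subgroup.centralizer_le_normalizer _ hc)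
      have hMc : M.map (MulAut.conj c).toMonoidHom = M := by
        have := bg14_map_conj_eq_of_mul (M := M) (g := 1) hcM
        rw [one_mul] at this
        rw [this]
        ext z
        rw [bg14_mem_map_conj]
        simp
      refine ⟨1, ⟨Subgroup.one_mem _, ?_⟩, ?_⟩
      · rw [hgc, hMc]
        ext z
        rw [bg14_mem_map_conj]
        simp
      · rintro r ⟨hr, -⟩
        exact (Subgroup.mem_bot.mp hr)
  · -- Case B
    have hNtop : Subgroup.normalizer ((Subgroup.zpowers y : Subgroup G) : Set G) ≠ ⊤ :=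
      Cfsg.Agent.Lib.Helper11.normalizer_ne_top_of_simple hX1
        (pgroup_ne_top hG p _ hXp)
    obtain ⟨Ms, hMs, hNMs⟩ := exists_coatom_ge _ hNtop
    have hne : Ms ≠ M := by
      rintro rfl
      exact hNM hNMs
    obtain ⟨hbot, hdec⟩ := bg14_other_max hG hM hMs hpσ hXp hX1 hXM hne hNMs
    have hCMs : Subgroup.centralizer ({x} : Set G) ≤ Ms := hCN.trans hNMs
    have hxMs : x ∈ Ms := hCMs (Subgroup.mem_centralizer_singleton_iff.mpr rfl)
    have hNσn : Ms ≤ Subgroup.normalizer (Cfsg.sigmaCore Ms : Set G) := le_normalizer_sigmaCore Ms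
    -- key: `n ∈ Ms_σ` with `n x n⁻¹ ∈ M` commutes with `x`
    have key : ∀ n ∈ Cfsg.sigmaCore Ms, n * x * n⁻¹ ∈ M → n * x = x * n := by
      intro n hn hnx
      have h1 : n * x * n⁻¹ * x⁻¹ ∈ Cfsg.sigmaCore Ms ⊓ M := by
        refine Subgroup.mem_inf.mpr ⟨?_, M.mul_mem hnx (M.inv_mem hxM)⟩
        have h2 : x * n⁻¹ * x⁻¹ ∈ Cfsg.sigmaCore Ms :=
          conj_mem_of_le_normalizer hNσn hxMs (Subgroup.inv_mem _ hn)
        have h3 : n * x * n⁻¹ * x⁻¹ = n * (x * n⁻¹ * x⁻¹) := by group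
        rw [h3]
        exact Subgroup.mul_mem _ hn h2
      rw [hbot, Subgroup.mem_bot] at h1
      have : n * x = (n * x * n⁻¹ * x⁻¹) * x * n := by group
      rw [this, h1, one_mul]
    have hcompl : Cfsg.IsComplIn (M ⊓ Subgroup.centralizer ({x} : Set G))
        (Cfsg.sigmaCore Ms ⊓ Subgroup.centralizer ({x} : Set G))
        (Subgroup.centralizer ({x} : Set G)) := by
      refine ⟨inf_le_right, inf_le_right, ?_, ?_⟩
      · rw [eq_bot_iff, ← hbot]
        rintro z ⟨⟨hz1, -⟩, ⟨hz2, -⟩⟩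
        exact Subgroup.mem_inf.mpr ⟨hz2, hz1⟩
      · intro c hc
        obtain ⟨e, he, n, hn, rfl⟩ := hdec c (hCMs hc)
        have hcx : e * n * x = x * (e * n) := (Subgroup.mem_centralizer_singleton_iff.mp hc)
        have hnx : n * x * n⁻¹ ∈ M := by
          have h1 : n * x * n⁻¹ = e⁻¹ * x * e := by
            have : n * x = e⁻¹ * x * e * n := by
              calc n * x = e⁻¹ * (e * n * x) := by group
                _ = e⁻¹ * (x * (e * n)) := by rw [hcx]
                _ = e⁻¹ * x * e * n := by group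
            rw [this]; group
          rw [h1]
          exact M.mul_mem (M.mul_mem (M.inv_mem he.1) hxM) he.1
        have hn' := key n hn hnx
        have hnC : n ∈ Subgroup.centralizer ({x} : Set G) :=
          Subgroup.mem_centralizer_singleton_iff.mpr hn'
        have heC : e ∈ Subgroup.centralizer ({x} : Set G) := by
          have : e = (e * n) * n⁻¹ := by group
          rw [this]
          exact Subgroup.mul_mem _ hc (Subgroup.inv_mem _ hnC)
        exact ⟨e, Subgroup.mem_inf.mpr ⟨he.1, heC⟩, n, Subgroup.mem_inf.mpr ⟨hn, hnC⟩, rfl⟩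
    refine ⟨?_, Cfsg.sigmaCore Ms ⊓ Subgroup.centralizer ({x} : Set G), ?_, hcompl, ?_⟩
    · -- coprimality
      have hcard := Cfsg.Agent.Lib.Helper1.BG15.card_of_isComplIn hcompl
      have hrel := Cfsg.Agent.Lib.Helper1.BG12.card_mul_relIndex_of_le
        (inf_le_right : M ⊓ Subgroup.centralizer ({x} : Set G) ≤ Subgroup.centralizer ({x} : Set G))
      rw [hcard] at hrel
      have hpos : 0 < Nat.card ↥(M ⊓ Subgroup.centralizer ({x} : Set G)) := Nat.card_pos
      have hrel' := Nat.eq_of_mul_eq_mul_left hpos hrel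
      rw [hrel']
      apply Nat.coprime_of_dvd
      intro q hq hq1 hq2
      haveI : Fact q.Prime := ⟨hq⟩
      have hqσ : q ∈ Cfsg.sigma Ms :=
        prime_sigmaCore hG hMs hq (hq2.trans (Subgroup.card_dvd_of_le inf_le_left))
      obtain ⟨z, hz⟩ := exists_prime_orderOf_dvd_card' q hq1
      have hz1 : (z : G) ≠ 1 := by
        intro h
        have : z = 1 := Subtype.ext h
        rw [this, orderOf_one] at hz
        exact hq.one_lt.ne hz
      have hzo : orderOf (z : G) = q := by rw [← hz]; exact (Subgroup.orderOf_coe z)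
      have hzM : (z : G) ∈ M := z.2.1
      have hzMs : (z : G) ∈ Ms := hCMs z.2.2
      have hzσ : Subgroup.zpowers (z : G) ≤ Cfsg.sigmaCore Ms := by
        apply Cfsg.Agent.Lib.Helper1.BG12.pgroup_le_sigmaCore hG Ms hMs q hqσ _
          (Subgroup.zpowers_le.mpr hzMs)
        exact IsPGroup.of_card (n := 1) (by rw [Nat.card_zpowers, hzo, pow_one])
      have : (z : G) ∈ Cfsg.sigmaCore Ms ⊓ M :=
        Subgroup.mem_inf.mpr ⟨hzσ (Subgroup.mem_zpowers _), hzM⟩
      rw [hbot, Subgroup.mem_bot] at this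
      exact hz1 this
    · -- normality
      intro c hc
      rw [Subgroup.mem_normalizer_iff]
      intro z
      have hcMs : c ∈ Ms := hCMs hc
      have hcx : Commute c x := Subgroup.mem_centralizer_singleton_iff.mp hc
      constructor
      · rintro ⟨hz1, hz2⟩
        refine Subgroup.mem_inf.mpr ⟨conj_mem_of_le_normalizer hNσn hcMs hz1, ?_⟩
        exact Subgroup.mul_mem _ (Subgroup.mul_mem _ hc hz2) (Subgroup.inv_mem _ hc)
      · rintro ⟨hz1, hz2⟩
        have h1 : z = c⁻¹ * (c * z * c⁻¹) * c⁻¹⁻¹ := by group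
        rw [h1]
        refine Subgroup.mem_inf.mpr ⟨conj_mem_of_le_normalizer hNσn (Ms.inv_mem hcMs) hz1, ?_⟩
        exact Subgroup.mul_mem _ (Subgroup.mul_mem _ (Subgroup.inv_mem _ hc) hz2)
          (Subgroup.inv_mem _ (Subgroup.inv_mem _ hc))
    · -- conjugates
      intro g hg
      obtain ⟨c, hc, hgc⟩ := hconj g hg
      have hcMs : c ∈ Ms := hNMs (Subgroup.centralizer_le_normalizer _ hc)
      -- `c⁻¹ = e n`, so `c = n⁻¹ e⁻¹`
      obtain ⟨e, he, n, hn, hcen⟩ := hdec c⁻¹ (Ms.inv_mem hcMs)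
      have hc' : c = n⁻¹ * e⁻¹ := by
        have : c = (c⁻¹)⁻¹ := (inv_inv c).symm
        rw [this, hcen]; group
      have hMc : M.map (MulAut.conj c).toMonoidHom = M.map (MulAut.conj n⁻¹).toMonoidHom := by
        rw [hc']
        exact bg14_map_conj_eq_of_mul (M.inv_mem he.1)
      have hxn : x ∈ M.map (MulAut.conj n⁻¹).toMonoidHom := by rw [← hMc, ← hgc]; exact hg
      rw [bg14_mem_map_conj, inv_inv] at hxn
      have hnx := key n hn hxn
      have hnC : n⁻¹ ∈ Cfsg.sigmaCore Ms ⊓ Subgroup.centralizer ({x} : Set G) :=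
        Subgroup.inv_mem _ (Subgroup.mem_inf.mpr ⟨hn, Subgroup.mem_centralizer_singleton_iff.mpr hnx⟩)
      refine ⟨n⁻¹, ⟨hnC, by rw [hgc, hMc]⟩, ?_⟩
      rintro r ⟨hr, hrg⟩
      -- `r⁻¹ n⁻¹`... both give the same conjugate, so `n r ∈ N_G(M) = M`
      have heq : M.map (MulAut.conj r).toMonoidHom = M.map (MulAut.conj n⁻¹).toMonoidHom := by
        rw [hrg, hgc, hMc]
      have hmem : n * r ∈ Subgroup.normalizer (M : Set G) := by
        rw [Subgroup.mem_normalizer_iff]
        intro z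
        have h1 : r * z * r⁻¹ ∈ M.map (MulAut.conj r).toMonoidHom ↔ z ∈ M := by
          rw [bg14_mem_map_conj]
          have : r⁻¹ * (r * z * r⁻¹) * r = z := by group
          rw [this]
        have h2 : r * z * r⁻¹ ∈ M.map (MulAut.conj n⁻¹).toMonoidHom ↔
            n * r * z * (n * r)⁻¹ ∈ M := by
          rw [bg14_mem_map_conj, inv_inv]
          have : n * (r * z * r⁻¹) * n⁻¹ = n * r * z * (n * r)⁻¹ := by group
          rw [this]
        rw [← h2, ← heq, h1]
      rw [Cfsg.Agent.Lib.Helper1.BG14.normalizer_coatom hG hM] at hmem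
      have hmem2 : n * r ∈ Cfsg.sigmaCore Ms ⊓ M :=
        Subgroup.mem_inf.mpr ⟨Subgroup.mul_mem _ hn hr.1, hmem⟩
      rw [hbot, Subgroup.mem_bot] at hmem2
      exact eq_inv_of_mul_eq_one_right hmem2

end Cfsg.Agent.Lib.Helper13.BG14
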