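import Mathlib
import Cfsg.Prelude.Def_OddOrderLocal
import Cfsg.Agent.Lib.Helper10.SigmaJsubC
import Cfsg.Agent.Lib.Helper18.Isolated
import Cfsg.Agent.S1424
import Cfsg.Agent.S1417
import Cfsg.Agent.S1416
import Cfsg.Agent.S1378
import Cfsg.Agent.Lib.Helper13.BG14F

set_option autoImplicit false

/-! Richer version of `bg14_other_max` (non-conjugacy and `q ∈ τ₂(M*)` exported) (helper13). -/

namespace Cfsg.Agent.Lib.Helper13.BG14

open Cfsg Cfsg.Agent.Lib Cfsg.Agent.Lib.Helper18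
open Cfsg.Agent.Lib.Helper11.BenderM Cfsg.Agent.Lib.Helper11.BenderN
  Cfsg.Agent.Lib.Helper11.BenderO Cfsg.Agent.Lib.Helper11.BenderE
  Cfsg.Agent.Lib.Helper11.BenderF Cfsg.Agent.Lib.Helper11.BenderD
  Cfsg.Agent.Lib.Helper11.MaxSubB Cfsg.Agent.Lib.Helper11.MaxSubD
  Cfsg.Agent.Lib.Helper1.BG12 Cfsg.Agent.Lib.Helper10.SigmaJsubA
  Cfsg.Agent.Lib.Helper10.SigmaJsubB Cfsg.Agent.Lib.Helper10.SigmaJsubC

variable {G : Type*} [Group G] [Finite G]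

/-- `M` maximal, `q ∈ σ(M)`, `X ≠ 1` a `q`-subgroup of `M` whose normalizer lies in another maximal
subgroup `Ms`: then `Ms_σ ∩ M = 1` and `Ms = (M ∩ Ms) Ms_σ`. -/
theorem bg14_other_max_ex (hG : Cfsg.IsMinSimpleOddOrder G) {M Ms X : Subgroup G} (hM : IsCoatom M)
    (hMs : IsCoatom Ms) {q : ℕ} [hq' : Fact q.Prime] (hq : q ∈ Cfsg.sigma M)
    (hXq : IsPGroup q X) (hX1 : X ≠ ⊥) (hXM : X ≤ M) (hne : Ms ≠ M)
    (hNMs : Subgroup.normalizer (X : Set G) ≤ Ms) :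
    (∀ g : G, Ms ≠ M.map (MulAut.conj g).toMonoidHom) ∧ q ∈ Cfsg.tau2 Ms ∧
      Cfsg.sigmaCore Ms ⊓ M = ⊥ ∧
      ∀ m ∈ Ms, ∃ e ∈ M ⊓ Ms, ∃ n ∈ Cfsg.sigmaCore Ms, m = e * n := by
  have h1 : F1424 G := fun M hM q _ hq X hXq hX1 hXM Ms hMs hne hNX S hXS =>
      Cfsg.Agent.S1424.result hG M hM q hq X hXq hX1 hXM Ms hMs hne hNX S hXS
  have h2 : F1417 G := fun M hM p _ hp A hA => Cfsg.Agent.S1417.result hG M hM p hp A hA
  have h3 : F1416 G := fun M hM p _ A hA => Cfsg.Agent.S1416.result hG M hM p A hA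
  have hXMs : X ≤ Ms := Subgroup.le_normalizer.trans hNMs
  obtain ⟨S, hS, hXS⟩ := exists_isSylowIn_ge (le_inf hXM hXMs) hXq
  obtain ⟨ha, hNS, hc⟩ := emb_of h1 M hM q hq'.out hq X hXq hX1 hXM Ms hMs hne hNMs S hS hXS
  have hSM : S ≤ M := hS.le.trans inf_le_left
  have hqs : q ∉ Cfsg.sigma Ms := by
    intro hqs
    obtain ⟨g, hg⟩ := (Cfsg.Agent.S1378.result hG).2 M Ms hM hMs ⟨q, hq, hqs⟩
    exact ha g hg
  have hq2 : q ≠ 2 := odd_prime_of_pgroup hG q X hX1 hXq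
  have hS1 : S ≠ ⊥ := by
    intro h
    apply hX1
    rw [eq_bot_iff, ← h]
    exact hXS
  have hSnc : ¬ IsCyclic S := by
    intro hcyc
    have hN : Subgroup.normalizer (S : Set G) ≤ Ms :=
      (normalizer_le_of_cyclic hcyc hXS).trans hNMs
    exact hqs (sigma_of_good Ms q S (good_of_sigma Ms q S hc hN) hS1)
  obtain ⟨A, hAS, -, hAe, hAc⟩ := exists_normal_sq q hq2 S hc.isPGroup hSnc
  have hAM : A ≤ M := hAS.trans hSM
  have hAMs : A ≤ Ms := hAS.trans hc.le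
  have hAp : IsPGroup q A := Helper1.BG10.elemAb_isPGroup hAe
  have hA1 : A ≠ ⊥ := by
    intro h
    rw [h, Subgroup.card_bot] at hAc
    have : 1 < q ^ 2 := Nat.one_lt_pow (by norm_num) hq'.out.one_lt
    omega
  have hr1 : ¬ Cfsg.PRankLE q 1 Ms := by
    intro h
    have h1 := h (A.subgroupOf Ms) ?_ ?_
    · rw [Helper5.card_subgroupOf_of_le hAMs, hAc] at h1
      have : q ^ 1 < q ^ 2 := Nat.pow_lt_pow_right hq'.out.one_lt (by norm_num)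
      omega
    · refine ⟨⟨fun a b => ?_⟩⟩
      apply Subtype.ext
      apply Subtype.ext
      have := hAe.1.is_comm.comm ⟨(a : Ms), a.2⟩ ⟨(b : Ms), b.2⟩
      exact congrArg (fun t : ↥A => (t : G)) this
    · intro a ha
      apply Subtype.ext
      have := hAe.2 (a : G) ha
      simpa using this
  have hr2 : Cfsg.PRankLE q 2 Ms := by
    by_contra h
    exact hqs (alpha_sub_sigma hG Ms hMs q ⟨hq'.out, h⟩)
  have htau : q ∈ Cfsg.tau2 Ms := ⟨hq'.out, hqs, hr2, hr1⟩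
  obtain ⟨-, -, hnorm, -, hinf, -⟩ := h2 Ms hMs q htau A ⟨hAMs, hAe, hAc⟩
  have hbot : Cfsg.sigmaCore Ms ⊓ M = ⊥ := hinf M hM (Ne.symm hne) hAM
  have hCA : Subgroup.centralizer (A : Set G) ≤ M := (h3 M hM q A ⟨hAM, hAe, hAc⟩).1
  have hNA : Subgroup.normalizer (A : Set G) ≤ M := by
    rw [(sigma_fusion hG M hM q hq A hAp hA1 hAM).2]
    exact sup_le inf_le_left hCA
  refine ⟨ha, htau, hbot, ?_⟩
  obtain ⟨hHall, -, -⟩ := sigma_hall hG Ms hMs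
  have hNσle : Cfsg.sigmaCore Ms ≤ Ms := hHall.1
  have hNσn : Ms ≤ Subgroup.normalizer (Cfsg.sigmaCore Ms : Set G) := le_normalizer_sigmaCore Ms
  have hqN : ¬ q ∣ Nat.card (Cfsg.sigmaCore Ms) := fun h => hqs (hHall.2.1 q hq'.out h)
  have hASyl : IsSylowIn q A (Cfsg.sigmaCore Ms ⊔ A) := by
    refine ⟨le_sup_right, hAp, ?_⟩
    have h1 := Helper18.relIndex_sup_of_le_normalizer A (Cfsg.sigmaCore Ms) (hAMs.trans hNσn)
    rw [sup_comm] at h1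
    rw [h1, ← Subgroup.inf_relIndex_right]
    intro hd
    exact hqN (hd.trans (Subgroup.relIndex_dvd_card _ _))
  intro g hg
  obtain ⟨n, hn, hng⟩ := hASyl.frattini (hnorm hg)
  have hnMs : n ∈ Ms := (sup_le hNσle hAMs) hn
  -- `n ∈ Ms_σ A`, write `n = s a`
  obtain ⟨s, hs, a, ha', rfl⟩ := Cfsg.Agent.Lib.Helper10.exists_mul_of_mem_sup (Cfsg.sigmaCore Ms) A
    (hAMs.trans hNσn) n hn
  -- `e := s a g` normalizes `A`, so lies in `M`
  have heM : s * a * g ∈ M := hNA hng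
  have heMs : s * a * g ∈ Ms := Ms.mul_mem hnMs hg
  -- `g = a⁻¹ s⁻¹ e = (a⁻¹ e) (e⁻¹ s⁻¹ e)` with `e = s a g`
  refine ⟨a⁻¹ * (s * a * g), ?_, (s * a * g)⁻¹ * s⁻¹ * (s * a * g)⁻¹⁻¹, ?_, by group⟩
  · exact Subgroup.mem_inf.mpr ⟨M.mul_mem (M.inv_mem (hAM ha')) heM,
      Ms.mul_mem (Ms.inv_mem (hAMs ha')) heMs⟩
  · exact Cfsg.Agent.Lib.Helper28.BGt.conj_mem_of_le_normalizer hNσn (Ms.inv_mem heMs)
      (Subgroup.inv_mem _ hs)

end Cfsg.Agent.Lib.Helper13.BG14
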