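import Mathlib
import Cfsg.Prelude.Def_OddOrderLocal
import Cfsg.Agent.Lib.Helper13.BG14G
import Cfsg.Agent.Lib.Helper13.BG14H

set_option autoImplicit false

/-! Richer form of S1374: the data attached to the centralizer of `x ∈ M_σ^#` (helper13). -/

namespace Cfsg.Agent.Lib.Helper13.BG14

open Cfsg Cfsg.Agent.Lib Cfsg.Agent.Lib.Helper18
open Cfsg.Agent.Lib.Helper11.BenderM Cfsg.Agent.Lib.Helper11.MaxSubD
  Cfsg.Agent.Lib.Helper11.BenderE Cfsg.Agent.Lib.Helper28.BGt

variable {G : Type*} [Group G] [Finite G]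

/-- the data of S1374 for `x ∈ M_σ^#`, with the extra information on `R` -/
structure CentData (M : Subgroup G) (x : G) (R : Subgroup G) : Prop where
  normal : Subgroup.centralizer ({x} : Set G) ≤ Subgroup.normalizer (R : Set G)
  compl : Cfsg.IsComplIn (M ⊓ Subgroup.centralizer ({x} : Set G)) R
    (Subgroup.centralizer ({x} : Set G))
  reg : ∀ g : G, x ∈ M.map (MulAut.conj g).toMonoidHom →
    ∃! r : G, r ∈ R ∧ M.map (MulAut.conj r).toMonoidHom = M.map (MulAut.conj g).toMonoidHom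
  sigma' : ∀ q : ℕ, q.Prime → q ∣ Nat.card R → q ∉ Cfsg.sigma M
  other : R ≠ ⊥ → ∃ Ms : Subgroup G, IsCoatom Ms ∧ R ≤ Cfsg.sigmaCore Ms ∧
    (∀ g : G, Ms ≠ M.map (MulAut.conj g).toMonoidHom) ∧ ∃ p : ℕ, p ∈ Cfsg.sigma M ∧ p ∈ Cfsg.tau2 Ms

theorem bg14_exists_centData (hG : Cfsg.IsMinSimpleOddOrder G) (M : Subgroup G) (hM : IsCoatom M)
    (x : G) (hx : x ∈ Cfsg.sigmaCore M) (hx1 : x ≠ 1) : ∃ R : Subgroup G, CentData M x R := by
  have hsimple : IsSimpleGroup G := hG.2.1
  have hxM : x ∈ M := sigmaCore_le M hx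
  -- a power of `x` of prime order
  have hxo : orderOf x ≠ 1 := fun h => hx1 (orderOf_eq_one_iff.mp h)
  obtain ⟨p, hp, hpx⟩ := Nat.exists_prime_and_dvd hxo
  haveI : Fact p.Prime := ⟨hp⟩
  have hyo : orderOf (x ^ (orderOf x / p)) = p :=
    orderOf_pow_orderOf_div (orderOf_pos x).ne' hpx
  obtain ⟨y, hy⟩ : ∃ y, y = x ^ (orderOf x / p) := ⟨_, rfl⟩
  rw [← hy] at hyo
  have hyσ : y ∈ Cfsg.sigmaCore M := by rw [hy]; exact Subgroup.pow_mem _ hx _
  have hXc : Nat.card (Subgroup.zpowers y) = p := by rw [Nat.card_zpowers, hyo]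
  have hXp : IsPGroup p (Subgroup.zpowers y) := IsPGroup.of_card (n := 1) (by rw [hXc, pow_one])
  have hX1 : Subgroup.zpowers y ≠ ⊥ := by
    intro h
    rw [h, Subgroup.card_bot] at hXc
    exact hp.one_lt.ne hXc
  have hXσ : Subgroup.zpowers y ≤ Cfsg.sigmaCore M := Subgroup.zpowers_le.mpr hyσ
  have hXM : Subgroup.zpowers y ≤ M := hXσ.trans (sigmaCore_le M)
  have hpσ : p ∈ Cfsg.sigma M :=
    prime_sigmaCore hG hM hp (hXc ▸ Subgroup.card_dvd_of_le hXσ)
  -- `C_G(x) ≤ C_G(X) ≤ N_G(X)`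
  have hCX : Subgroup.centralizer ({x} : Set G) ≤
      Subgroup.centralizer ((Subgroup.zpowers y : Subgroup G) : Set G) := by
    intro c hc
    rw [Subgroup.mem_centralizer_iff]
    intro z hz
    obtain ⟨i, rfl⟩ := Subgroup.mem_zpowers_iff.mp hz
    have hcx : Commute c x := (Subgroup.mem_centralizer_singleton_iff.mp hc)
    rw [hy]
    exact (((hcx.pow_right _).zpow_right i).eq).symm
  have hCN : Subgroup.centralizer ({x} : Set G) ≤
      Subgroup.normalizer ((Subgroup.zpowers y : Subgroup G) : Set G) :=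
    hCX.trans (Subgroup.centralizer_le_normalizer _)
  have hfus := sigma_fusion hG M hM p hpσ (Subgroup.zpowers y) hXp hX1 hXM
  -- conjugates containing `x` come from `C_G(X)`
  have hconj : ∀ g : G, x ∈ M.map (MulAut.conj g).toMonoidHom →
      ∃ c ∈ Subgroup.centralizer ((Subgroup.zpowers y : Subgroup G) : Set G),
        M.map (MulAut.conj g).toMonoidHom = M.map (MulAut.conj c).toMonoidHom := by
    intro g hg
    rw [bg14_mem_map_conj] at hg
    have hle : Helper18.conjSub g⁻¹ (Subgroup.zpowers y) ≤ M := by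
      rintro _ ⟨z, hz, rfl⟩
      have hzx : z ∈ Subgroup.zpowers x := by
        have : Subgroup.zpowers y ≤ Subgroup.zpowers x := by
          rw [Subgroup.zpowers_le, hy]
          exact Subgroup.pow_mem _ (Subgroup.mem_zpowers x) _
        exact this hz
      obtain ⟨j, rfl⟩ := Subgroup.mem_zpowers_iff.mp hzx
      rw [map_zpow]
      apply M.zpow_mem
      simpa [MulAut.conj_apply] using hg
    obtain ⟨m, hm, c, hc, hgmc⟩ := hfus.1 g⁻¹ hle
    refine ⟨c⁻¹, Subgroup.inv_mem _ hc, ?_⟩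
    have hg' : g = c⁻¹ * m⁻¹ := by
      have : g = (g⁻¹)⁻¹ := (inv_inv g).symm
      rw [this, hgmc]; group
    rw [hg']
    exact bg14_map_conj_eq_of_mul (M.inv_mem hm)
  by_cases hNM : Subgroup.normalizer ((Subgroup.zpowers y : Subgroup G) : Set G) ≤ M
  · -- Case A: `C_G(x) ≤ M`, `R = 1`
    have hCM : Subgroup.centralizer ({x} : Set G) ≤ M := hCN.trans hNM
    have hinf : M ⊓ Subgroup.centralizer ({x} : Set G) = Subgroup.centralizer ({x} : Set G) :=
      inf_eq_right.mpr hCM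
    refine ⟨⊥, ?_, ⟨inf_le_right, bot_le, inf_bot_eq _, ?_⟩, ?_, ?_, ?_⟩
    · rw [Subgroup.normalizer_eq_top_iff.mpr (inferInstance : (⊥ : Subgroup G).Normal)]
      exact le_top
    · intro c hc
      exact ⟨c, Subgroup.mem_inf.mpr ⟨hCM hc, hc⟩, 1, Subgroup.one_mem _, (mul_one c).symm⟩
    · intro g hg
      obtain ⟨c, hc, hgc⟩ := hconj g hg
      have hcM : c ∈ M := hNM (Subgroup.centralizer_le_normalizer _ hc)
      have hMc : M.map (MulAut.conj c).toMonoidHom = M := by
        have := bg14_map_conj_eq_of_mul (M := M) (g := 1) hcM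
        rw [one_mul] at this
        rw [this]
        ext z
        rw [bg14_mem_map_conj]
        simp
      refine ⟨1, ⟨Subgroup.one_mem _, ?_⟩, ?_⟩
      · rw [hgc, hMc]
        ext z
        rw [bg14_mem_map_conj]
        simp
      · rintro r ⟨hr, -⟩
        exact (Subgroup.mem_bot.mp hr)
    · intro q hq hqd
      rw [Subgroup.card_bot] at hqd
      exact absurd (Nat.le_of_dvd Nat.one_pos hqd) (not_le.mpr hq.one_lt)
    · intro h
      exact absurd rfl h
  · -- Case B
    have hNtop : Subgroup.normalizer ((Subgroup.zpowers y : Subgroup G) : Set G) ≠ ⊤ :=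
      Cfsg.Agent.Lib.Helper11.normalizer_ne_top_of_simple hX1
        (pgroup_ne_top hG p _ hXp)
    obtain ⟨Ms, hMs, hNMs⟩ := exists_coatom_ge _ hNtop
    have hne : Ms ≠ M := by
      rintro rfl
      exact hNM hNMs
    obtain ⟨hnc, hτ2, hbot, hdec⟩ := bg14_other_max_ex hG hM hMs hpσ hXp hX1 hXM hne hNMs
    have hCMs : Subgroup.centralizer ({x} : Set G) ≤ Ms := hCN.trans hNMs
    have hxMs : x ∈ Ms := hCMs (Subgroup.mem_centralizer_singleton_iff.mpr rfl)
    have hNσn : Ms ≤ Subgroup.normalizer (Cfsg.sigmaCore Ms : Set G) := le_normalizer_sigmaCore Ms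
    -- key: `n ∈ Ms_σ` with `n x n⁻¹ ∈ M` commutes with `x`
    have key : ∀ n ∈ Cfsg.sigmaCore Ms, n * x * n⁻¹ ∈ M → n * x = x * n := by
      intro n hn hnx
      have h1 : n * x * n⁻¹ * x⁻¹ ∈ Cfsg.sigmaCore Ms ⊓ M := by
        refine Subgroup.mem_inf.mpr ⟨?_, M.mul_mem hnx (M.inv_mem hxM)⟩
        have h2 : x * n⁻¹ * x⁻¹ ∈ Cfsg.sigmaCore Ms :=
          conj_mem_of_le_normalizer hNσn hxMs (Subgroup.inv_mem _ hn)
        have h3 : n * x * n⁻¹ * x⁻¹ = n * (x * n⁻¹ * x⁻¹) := by group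
        rw [h3]
        exact Subgroup.mul_mem _ hn h2
      rw [hbot, Subgroup.mem_bot] at h1
      have : n * x = (n * x * n⁻¹ * x⁻¹) * x * n := by group
      rw [this, h1, one_mul]
    have hcompl : Cfsg.IsComplIn (M ⊓ Subgroup.centralizer ({x} : Set G))
        (Cfsg.sigmaCore Ms ⊓ Subgroup.centralizer ({x} : Set G))
        (Subgroup.centralizer ({x} : Set G)) := by
      refine ⟨inf_le_right, inf_le_right, ?_, ?_⟩
      · rw [eq_bot_iff, ← hbot]
        rintro z ⟨⟨hz1, -⟩, ⟨hz2, -⟩⟩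
        exact Subgroup.mem_inf.mpr ⟨hz2, hz1⟩
      · intro c hc
        obtain ⟨e, he, n, hn, rfl⟩ := hdec c (hCMs hc)
        have hcx : e * n * x = x * (e * n) := (Subgroup.mem_centralizer_singleton_iff.mp hc)
        have hnx : n * x * n⁻¹ ∈ M := by
          have h1 : n * x * n⁻¹ = e⁻¹ * x * e := by
            have : n * x = e⁻¹ * x * e * n := by
              calc n * x = e⁻¹ * (e * n * x) := by group
                _ = e⁻¹ * (x * (e * n)) := by rw [hcx]
                _ = e⁻¹ * x * e * n := by group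
            rw [this]; group
          rw [h1]
          exact M.mul_mem (M.mul_mem (M.inv_mem he.1) hxM) he.1
        have hn' := key n hn hnx
        have hnC : n ∈ Subgroup.centralizer ({x} : Set G) :=
          Subgroup.mem_centralizer_singleton_iff.mpr hn'
        have heC : e ∈ Subgroup.centralizer ({x} : Set G) := by
          have : e = (e * n) * n⁻¹ := by group
          rw [this]
          exact Subgroup.mul_mem _ hc (Subgroup.inv_mem _ hnC)
        exact ⟨e, Subgroup.mem_inf.mpr ⟨he.1, heC⟩, n, Subgroup.mem_inf.mpr ⟨hn, hnC⟩, rfl⟩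
    refine ⟨Cfsg.sigmaCore Ms ⊓ Subgroup.centralizer ({x} : Set G), ?_, hcompl, ?_, ?_, ?_⟩
    · -- normality
      intro c hc
      rw [Subgroup.mem_normalizer_iff]
      intro z
      have hcMs : c ∈ Ms := hCMs hc
      have hcx : Commute c x := Subgroup.mem_centralizer_singleton_iff.mp hc
      constructor
      · rintro ⟨hz1, hz2⟩
        refine Subgroup.mem_inf.mpr ⟨conj_mem_of_le_normalizer hNσn hcMs hz1, ?_⟩
        exact Subgroup.mul_mem _ (Subgroup.mul_mem _ hc hz2) (Subgroup.inv_mem _ hc)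
      · rintro ⟨hz1, hz2⟩
        have h1 : z = c⁻¹ * (c * z * c⁻¹) * c⁻¹⁻¹ := by group
        rw [h1]
        refine Subgroup.mem_inf.mpr ⟨conj_mem_of_le_normalizer hNσn (Ms.inv_mem hcMs) hz1, ?_⟩
        exact Subgroup.mul_mem _ (Subgroup.mul_mem _ (Subgroup.inv_mem _ hc) hz2)
          (Subgroup.inv_mem _ (Subgroup.inv_mem _ hc))
    · -- conjugates
      intro g hg
      obtain ⟨c, hc, hgc⟩ := hconj g hg
      have hcMs : c ∈ Ms := hNMs (Subgroup.centralizer_le_normalizer _ hc)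
      -- `c⁻¹ = e n`, so `c = n⁻¹ e⁻¹`
      obtain ⟨e, he, n, hn, hcen⟩ := hdec c⁻¹ (Ms.inv_mem hcMs)
      have hc' : c = n⁻¹ * e⁻¹ := by
        have : c = (c⁻¹)⁻¹ := (inv_inv c).symm
        rw [this, hcen]; group
      have hMc : M.map (MulAut.conj c).toMonoidHom = M.map (MulAut.conj n⁻¹).toMonoidHom := by
        rw [hc']
        exact bg14_map_conj_eq_of_mul (M.inv_mem he.1)
      have hxn : x ∈ M.map (MulAut.conj n⁻¹).toMonoidHom := by rw [← hMc, ← hgc]; exact hg
      rw [bg14_mem_map_conj, inv_inv] at hxn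
      have hnx := key n hn hxn
      have hnC : n⁻¹ ∈ Cfsg.sigmaCore Ms ⊓ Subgroup.centralizer ({x} : Set G) :=
        Subgroup.inv_mem _ (Subgroup.mem_inf.mpr ⟨hn, Subgroup.mem_centralizer_singleton_iff.mpr hnx⟩)
      refine ⟨n⁻¹, ⟨hnC, by rw [hgc, hMc]⟩, ?_⟩
      rintro r ⟨hr, hrg⟩
      -- `r⁻¹ n⁻¹`... both give the same conjugate, so `n r ∈ N_G(M) = M`
      have heq : M.map (MulAut.conj r).toMonoidHom = M.map (MulAut.conj n⁻¹).toMonoidHom := by
        rw [hrg, hgc, hMc]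
      have hmem : n * r ∈ Subgroup.normalizer (M : Set G) := by
        rw [Subgroup.mem_normalizer_iff]
        intro z
        have h1 : r * z * r⁻¹ ∈ M.map (MulAut.conj r).toMonoidHom ↔ z ∈ M := by
          rw [bg14_mem_map_conj]
          have : r⁻¹ * (r * z * r⁻¹) * r = z := by group
          rw [this]
        have h2 : r * z * r⁻¹ ∈ M.map (MulAut.conj n⁻¹).toMonoidHom ↔
            n * r * z * (n * r)⁻¹ ∈ M := by
          rw [bg14_mem_map_conj, inv_inv]
          have : n * (r * z * r⁻¹) * n⁻¹ = n * r * z * (n * r)⁻¹ := by group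
          rw [this]
        rw [← h2, ← heq, h1]
      rw [Cfsg.Agent.Lib.Helper1.BG14.normalizer_coatom hG hM] at hmem
      have hmem2 : n * r ∈ Cfsg.sigmaCore Ms ⊓ M :=
        Subgroup.mem_inf.mpr ⟨Subgroup.mul_mem _ hn hr.1, hmem⟩
      rw [hbot, Subgroup.mem_bot] at hmem2
      exact eq_inv_of_mul_eq_one_right hmem2
    · intro q hq hqd hqσ
      have hqs : q ∈ Cfsg.sigma Ms :=
        prime_sigmaCore hG hMs hq (hqd.trans (Subgroup.card_dvd_of_le inf_le_left))
      obtain ⟨g, hg⟩ := (Cfsg.Agent.S1378.result hG).2 M Ms hM hMs ⟨q, hqσ, hqs⟩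
      exact hnc g hg
    · intro _
      exact ⟨Ms, hMs, inf_le_left, hnc, p, hpσ, hτ2⟩

end Cfsg.Agent.Lib.Helper13.BG14
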