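import Mathlib
import Cfsg.Prelude.Def_OddOrderLocal
import Cfsg.Agent.Lib.Helper13.BG14I

set_option autoImplicit false

/-! The sets `𝒳_M` of B & G section 14 (unions of conjugates of the cosets `x R(x)`, `x ∈ M_σ^#`)
and the lower bound `|𝒳_M| ≥ |G:M| (|M_σ| - 1)` (helper13). -/

namespace Cfsg.Agent.Lib.Helper13.BG14

open Cfsg Cfsg.Agent.Lib Cfsg.Agent.Lib.Helper18
open Cfsg.Agent.Lib.Helper28.BGt

variable {G : Type*} [Group G] [Finite G]

theorem bg14_map_conj_eq_iff {M : Subgroup G} {a b : G} :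
    M.map (MulAut.conj a).toMonoidHom = M.map (MulAut.conj b).toMonoidHom ↔
      a⁻¹ * b ∈ Subgroup.normalizer (M : Set G) := by
  constructor
  · intro h
    rw [Subgroup.mem_normalizer_iff]
    intro z
    have h1 : b * z * b⁻¹ ∈ M.map (MulAut.conj b).toMonoidHom ↔ z ∈ M := by
      rw [bg14_mem_map_conj]
      have : b⁻¹ * (b * z * b⁻¹) * b = z := by group
      rw [this]
    have h2 : b * z * b⁻¹ ∈ M.map (MulAut.conj a).toMonoidHom ↔
        a⁻¹ * b * z * (a⁻¹ * b)⁻¹ ∈ M := by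
      rw [bg14_mem_map_conj]
      have : a⁻¹ * (b * z * b⁻¹) * a = a⁻¹ * b * z * (a⁻¹ * b)⁻¹ := by group
      rw [this]
    rw [← h2, h, h1]
  · intro h
    ext z
    rw [bg14_mem_map_conj, bg14_mem_map_conj]
    have h1 := (Subgroup.mem_normalizer_iff.mp h) (b⁻¹ * z * b)
    have h2 : a⁻¹ * b * (b⁻¹ * z * b) * (a⁻¹ * b)⁻¹ = a⁻¹ * z * a := by group
    rw [h2] at h1
    exact h1.symm

/-- the subgroup `R(x)` attached to `M` and `x` -/
noncomputable def bg14R (M : Subgroup G) (x : G) : Subgroup G :=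
  open scoped Classical in
  if h : ∃ R : Subgroup G, CentData M x R then Classical.choose h else ⊥

theorem bg14R_spec (hG : Cfsg.IsMinSimpleOddOrder G) {M : Subgroup G} (hM : IsCoatom M)
    {x : G} (hx : x ∈ Cfsg.sigmaCore M) (hx1 : x ≠ 1) : CentData M x (bg14R M x) := by
  have h := bg14_exists_centData hG M hM x hx hx1
  unfold bg14R
  rw [dif_pos h]
  exact Classical.choose_spec h

/-- if `C_G(x) ≤ M` then `R(x) = 1` -/
theorem bg14R_eq_bot (hG : Cfsg.IsMinSimpleOddOrder G) {M : Subgroup G} (hM : IsCoatom M)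
    {x : G} (hx : x ∈ Cfsg.sigmaCore M) (hx1 : x ≠ 1)
    (hC : Subgroup.centralizer ({x} : Set G) ≤ M) : bg14R M x = ⊥ := by
  have h := bg14R_spec hG hM hx hx1
  rw [eq_bot_iff, ← h.compl.2.2.1]
  intro r hr
  exact Subgroup.mem_inf.mpr ⟨Subgroup.mem_inf.mpr ⟨hC (h.compl.2.1 hr), h.compl.2.1 hr⟩, hr⟩

/-- if `C_G(x) ≤ M`, `M` is the only conjugate of `M` containing `x` -/
theorem bg14_only_conj (hG : Cfsg.IsMinSimpleOddOrder G) {M : Subgroup G} (hM : IsCoatom M)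
    {x : G} (hx : x ∈ Cfsg.sigmaCore M) (hx1 : x ≠ 1)
    (hC : Subgroup.centralizer ({x} : Set G) ≤ M) {g : G}
    (hg : x ∈ M.map (MulAut.conj g).toMonoidHom) : g ∈ M := by
  have h := bg14R_spec hG hM hx hx1
  obtain ⟨r, ⟨hr, hrg⟩, -⟩ := h.reg g hg
  rw [bg14R_eq_bot hG hM hx hx1 hC, Subgroup.mem_bot] at hr
  subst hr
  have := bg14_map_conj_eq_iff.mp hrg
  rw [Cfsg.Agent.Lib.Helper1.BG14.normalizer_coatom hG hM] at this
  simpa using this

omit [Finite G] in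
/-- uniqueness of the `π`-part -/
theorem bg14_sigma_part_unique {x₁ x₂ u₁ u₂ : G} (h : x₁ * u₁ = x₂ * u₂) (c₁ : Commute x₁ u₁)
    (c₂ : Commute x₂ u₂) (hx₁ : IsOfFinOrder x₁) (hx₂ : IsOfFinOrder x₂)
    (hcop : (orderOf u₁ * orderOf u₂).Coprime (orderOf x₁ * orderOf x₂)) : x₁ = x₂ := by
  obtain ⟨m, hm⟩ : ∃ m, m = orderOf u₁ * orderOf u₂ := ⟨_, rfl⟩
  obtain ⟨n, hn⟩ : ∃ n, n = orderOf x₁ * orderOf x₂ := ⟨_, rfl⟩
  rw [← hm, ← hn] at hcop
  have hu₁ : u₁ ^ m = 1 := by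
    rw [hm, pow_mul, pow_orderOf_eq_one, one_pow]
  have hu₂ : u₂ ^ m = 1 := by
    rw [hm, mul_comm, pow_mul, pow_orderOf_eq_one, one_pow]
  have hpow : x₁ ^ m = x₂ ^ m := by
    have h1 : (x₁ * u₁) ^ m = x₁ ^ m := by rw [c₁.mul_pow, hu₁, mul_one]
    have h2 : (x₂ * u₂) ^ m = x₂ ^ m := by rw [c₂.mul_pow, hu₂, mul_one]
    rw [← h1, ← h2, h]
  have hn0 : 0 < n := by
    rw [hn]; exact Nat.mul_pos hx₁.orderOf_pos hx₂.orderOf_pos
  rcases Nat.lt_or_ge 1 n with hn1 | hn1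
  · obtain ⟨m', -, hm'⟩ := Nat.exists_mul_mod_eq_one_of_coprime hcop hn1
    have hdiv : m * m' = n * (m * m' / n) + 1 := by
      have := Nat.div_add_mod (m * m') n
      rw [hm'] at this
      exact this.symm
    have key : ∀ z : G, z ^ n = 1 → z ^ (m * m') = z := by
      intro z hz
      rw [hdiv, pow_succ, pow_mul, hz, one_pow, one_mul]
    have hz₁ : x₁ ^ n = 1 := by rw [hn, pow_mul, pow_orderOf_eq_one, one_pow]
    have hz₂ : x₂ ^ n = 1 := by rw [hn, mul_comm, pow_mul, pow_orderOf_eq_one, one_pow]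
    calc x₁ = x₁ ^ (m * m') := (key x₁ hz₁).symm
      _ = (x₁ ^ m) ^ m' := pow_mul _ _ _
      _ = (x₂ ^ m) ^ m' := by rw [hpow]
      _ = x₂ ^ (m * m') := (pow_mul _ _ _).symm
      _ = x₂ := key x₂ hz₂
  · have hn1' : n = 1 := le_antisymm hn1 hn0
    rw [hn] at hn1'
    have h1 : orderOf x₁ = 1 := Nat.eq_one_of_mul_eq_one_right hn1'
    have h2 : orderOf x₂ = 1 := Nat.eq_one_of_mul_eq_one_left hn1'
    rw [orderOf_eq_one_iff.mp h1, orderOf_eq_one_iff.mp h2]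

/-- the set `𝒳_M` -/
def bg14X (M : Subgroup G) : Set G :=
  {w | ∃ g x u : G, x ∈ Cfsg.sigmaCore M ∧ x ≠ 1 ∧ u ∈ bg14R M x ∧ w = g * (x * u) * g⁻¹}

/-- primes dividing the order of an element of `M_σ` lie in `σ(M)` -/
theorem bg14_prime_orderOf_sigma (hG : Cfsg.IsMinSimpleOddOrder G) {M : Subgroup G}
    (hM : IsCoatom M) {x : G} (hx : x ∈ Cfsg.sigmaCore M) {q : ℕ} (hq : q.Prime)
    (hqx : q ∣ orderOf x) : q ∈ Cfsg.sigma M :=
  prime_sigmaCore hG hM hq (hqx.trans (Subgroup.orderOf_dvd_natCard _ hx))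

/-- coprimality of the orders of `σ(M)'`-elements `u ∈ R(x)` and elements of `M_σ` -/
theorem bg14_coprime_R_sigma (hG : Cfsg.IsMinSimpleOddOrder G) {M : Subgroup G}
    (hM : IsCoatom M) {x u y : G} (hx : x ∈ Cfsg.sigmaCore M) (hx1 : x ≠ 1)
    (hu : u ∈ bg14R M x) (hy : y ∈ Cfsg.sigmaCore M) : (orderOf u).Coprime (orderOf y) := by
  apply Nat.coprime_of_dvd
  intro q hq hq1 hq2
  exact (bg14R_spec hG hM hx hx1).sigma' q hq (hq1.trans (Subgroup.orderOf_dvd_natCard _ hu))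
    (bg14_prime_orderOf_sigma hG hM hy hq hq2)

end Cfsg.Agent.Lib.Helper13.BG14
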