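import Mathlib
import Cfsg.Agent.Lib.Helper13.BG14A
import Cfsg.Agent.Lib.Helper13.BG14D
import Cfsg.Agent.Lib.Helper1.BG14.UAbelian
import Cfsg.Agent.Lib.Helper1.BG14.KappaRegular
import Cfsg.Agent.Lib.Helper21.BG14a

set_option autoImplicit false

/-! Assembly of B & G Theorem 14.2 (S1430) from `κ ⊆ τ₁`, Lemma L (`T1312`) and (STAR) (helper13). -/

namespace Cfsg.Agent.Lib.Helper13.BG14

open Cfsg Cfsg.Agent.Lib.Helper18 Cfsg.Agent.Lib.Helper28.BGt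

variable {G : Type*} [Group G] [Finite G]

/-- `N_M(X) = K K*` for `1 ≠ X ≤ K` -/
theorem bg14_normalizer_eq {M K U X : Subgroup G}
    (hE : Cfsg.IsComplIn (U ⊔ K) (Cfsg.sigmaCore M) M)
    (hKU : K ≤ Subgroup.normalizer (U : Set G)) (hUK : U ⊓ K = ⊥)
    (hKc : ∀ a ∈ K, ∀ b ∈ K, a * b = b * a) (hXK : X ≤ K) (hX1 : X ≠ ⊥)
    (hfree : ∀ k ∈ K, k ≠ 1 → U ⊓ Subgroup.centralizer ({k} : Set G) = ⊥)
    (hpa : ∀ k ∈ K, k ≠ 1 → Cfsg.sigmaCore M ⊓ Subgroup.centralizer ({k} : Set G) =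
      Cfsg.sigmaCore M ⊓ Subgroup.centralizer (K : Set G)) :
    M ⊓ Subgroup.normalizer (X : Set G) =
      K ⊔ (Cfsg.sigmaCore M ⊓ Subgroup.centralizer (K : Set G)) := by
  obtain ⟨⟨x, hx⟩, hx1'⟩ := (Subgroup.ne_bot_iff_exists_ne_one).mp hX1
  have hx1 : x ≠ 1 := fun e => hx1' (Subtype.ext e)
  have hxK : x ∈ K := hXK hx
  have hCX : Subgroup.centralizer (X : Set G) ≤ Subgroup.centralizer ({x} : Set G) :=
    Subgroup.centralizer_le (by simpa using hx)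
  have hKM : K ≤ M := le_sup_right.trans hE.1
  apply le_antisymm
  · rintro m ⟨hmM, hmN⟩
    obtain ⟨e, he, s, hs, rfl⟩ := hE.2.2.2 m hmM
    have hEM : U ⊔ K ≤ M := hE.1
    have hEN : U ⊔ K ≤ Subgroup.normalizer (Cfsg.sigmaCore M : Set G) :=
      hEM.trans (le_normalizer_sigmaCore M)
    have hs' : e * s * e⁻¹ ∈ Cfsg.sigmaCore M := conj_mem_of_le_normalizer hEN he hs
    have hm : e * s = (e * s * e⁻¹) * e := by group
    rw [hm] at hmN ⊢
    have hSE : Cfsg.sigmaCore M ⊓ (U ⊔ K) = ⊥ := by rw [inf_comm]; exact hE.2.2.1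
    obtain ⟨hsC, heN⟩ := bg14_mem_centralizer_of_mul_mem_normalizer hEN hSE
      (hXK.trans le_sup_right) hs' he hmN
    obtain ⟨u, hu, k, hk, rfl⟩ := Cfsg.Agent.Lib.Helper10.exists_mul_of_mem_sup U K hKU e he
    have hfreeX : U ⊓ Subgroup.centralizer (X : Set G) = ⊥ := by
      rw [eq_bot_iff, ← hfree x hxK hx1]
      exact inf_le_inf_left _ hCX
    have hu1 : u = 1 := bg14_eq_one_of_mul_mem_normalizer hKU hUK hXK hfreeX hu hk heN
    subst hu1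
    rw [one_mul] at hs' hsC ⊢
    have hsK : k * s * k⁻¹ ∈ Cfsg.sigmaCore M ⊓ Subgroup.centralizer (K : Set G) := by
      rw [← hpa x hxK hx1]
      exact Subgroup.mem_inf.mpr ⟨hs', hCX hsC⟩
    exact Subgroup.mul_mem _ (Subgroup.mem_sup_right hsK) (Subgroup.mem_sup_left hk)
  · apply sup_le
    · intro k hk
      refine Subgroup.mem_inf.mpr ⟨hKM hk, ?_⟩
      apply Subgroup.centralizer_le_normalizer (X : Set G)
      rw [Subgroup.mem_centralizer_iff]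
      intro y hy
      exact hKc y (hXK hy) k hk
    · intro s hs
      refine Subgroup.mem_inf.mpr ⟨sigmaCore_le M hs.1, ?_⟩
      apply Subgroup.centralizer_le_normalizer (X : Set G)
      exact Subgroup.centralizer_le (by exact_mod_cast hXK) hs.2

/-- `U` is a Hall subgroup of `M` for the primes outside `κ(M) ∪ σ(M)` -/
theorem bg14_U_hall (hG : Cfsg.IsMinSimpleOddOrder G) {M K U : Subgroup G} (hM : IsCoatom M)
    (hKU : Cfsg.IsSigmaDecomposition M K U) :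
    Cfsg.IsPiHallOf {q | q.Prime ∧ q ∉ Cfsg.kappa M ∧ q ∉ Cfsg.sigma M} U M := by
  have hE := Cfsg.Agent.Lib.Helper1.BG15.compl_of_decomp hG hM hKU
  refine ⟨hKU.compl.1, ?_, ?_⟩
  · intro q hq hqd
    refine ⟨hq, Cfsg.Agent.Lib.Helper1.BG15.not_kappa_of_dvd_U hKU hqd, ?_⟩
    exact compl_prime_not_sigma hG hM hE hq (hqd.trans (Subgroup.card_dvd_of_le le_sup_left))
  · rintro q hq ⟨-, hqκ, hqσ⟩ hqd
    have h1 := Cfsg.Agent.Lib.Helper1.BG15.card_of_isComplIn hKU.compl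
    have h2 := Cfsg.Agent.Lib.Helper1.BG12.card_mul_relIndex_of_le hKU.compl.1
    rw [h1] at h2
    have hpos : 0 < Nat.card U := Nat.card_pos
    have h3 : U.relIndex M = Nat.card ↥(K ⊔ Cfsg.sigmaCore M) :=
      Nat.eq_of_mul_eq_mul_left hpos h2
    rw [h3] at hqd
    have hKN : K ≤ Subgroup.normalizer (Cfsg.sigmaCore M : Set G) :=
      hKU.hall.1.trans (le_normalizer_sigmaCore M)
    have h4 : q ∣ Nat.card K * Nat.card (Cfsg.sigmaCore M) :=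
      hqd.trans (Cfsg.Agent.Lib.Helper1.BG12b.card_sup_dvd hKN)
    rcases (Nat.Prime.dvd_mul hq).mp h4 with h | h
    · exact hqκ (hKU.hall.2.1 q hq h)
    · exact hqσ (prime_sigmaCore hG hM hq h)

/-- B & G Theorem 14.2 modulo `κ(M) ⊆ τ₁(M)`, Lemma L (in helper1's form `T1312`) and (STAR). -/
theorem bg14_two (hG : Cfsg.IsMinSimpleOddOrder G) {M K : Subgroup G} (hM : IsCoatom M)
    (hK : Cfsg.IsPiHallOf (Cfsg.kappa M) K M) (hK1 : K ≠ ⊥)
    (Hκ : ∀ p ∈ Cfsg.kappa M, p ∈ Cfsg.tau1 M)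
    (HL : Cfsg.Agent.Lib.Helper1.BG14.T1312 M)
    (HS : ∀ H : Subgroup G, IsCoatom H → ∀ p : ℕ, p ∈ Cfsg.kappa M → ∀ P : Subgroup G, P ≤ M →
      Nat.card P = p → Subgroup.normalizer (P : Set G) ≤ H → p ∈ Cfsg.sigma H) :
    (∀ k ∈ K, k ≠ 1 → Cfsg.sigmaCore M ⊓ Subgroup.centralizer ({k} : Set G) =
        (Cfsg.sigmaCore M ⊓ Subgroup.centralizer (K : Set G))) ∧
      (∃ U : Subgroup G, IsMulCommutative U ∧
        Cfsg.IsPiHallOf {q | q.Prime ∧ q ∉ Cfsg.kappa M ∧ q ∉ Cfsg.sigma M} U M ∧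
        K ≤ Subgroup.normalizer (U : Set G) ∧
        ∀ k ∈ K, k ≠ 1 → U ⊓ Subgroup.centralizer ({k} : Set G) = ⊥) ∧
      ∀ X : Subgroup G, X ≤ K → (Nat.card X).Prime →
        M ⊓ Subgroup.normalizer (X : Set G) =
            K ⊔ (Cfsg.sigmaCore M ⊓ Subgroup.centralizer (K : Set G)) ∧
          M ⊓ Subgroup.normalizer (K : Set G) =
            K ⊔ (Cfsg.sigmaCore M ⊓ Subgroup.centralizer (K : Set G)) ∧
          ∀ Mstar : Subgroup G, IsCoatom Mstar → Subgroup.normalizer (X : Set G) ≤ Mstar →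
            X ≤ Cfsg.sigmaCore Mstar := by
  have hpa := Cfsg.Agent.Lib.Helper21.BG14a.kappa_prime_action hG hM Hκ hK
  have hKc := Cfsg.Agent.Lib.Helper21.BG14a.kappa_hall_cyclic hG Hκ hK
  have hKcomm := Cfsg.Agent.Lib.Helper21.BG14a.kappa_hall_comm hG Hκ hK
  obtain ⟨U, hKU⟩ := Cfsg.Agent.Lib.Helper1.BG14.exists_decomp hG hM Hκ hKc hK
  have hfree := Cfsg.Agent.Lib.Helper1.BG14.kappa_regular_on_U hG hM Hκ HL hKU
  have hUab := Cfsg.Agent.Lib.Helper1.BG14.U_abelian hG hM Hκ HL hKU hK1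
  have hE := Cfsg.Agent.Lib.Helper1.BG15.compl_of_decomp hG hM hKU
  have hUK : U ⊓ K = ⊥ := by
    rw [eq_bot_iff, ← hKU.compl.2.2.1]
    exact inf_le_inf_left _ le_sup_left
  refine ⟨hpa, ⟨U, hUab, bg14_U_hall hG hM hKU, hKU.normal, hfree⟩, ?_⟩
  intro X hXK hXp
  have hX1 : X ≠ ⊥ := by
    intro h
    rw [h, Subgroup.card_bot] at hXp
    exact Nat.not_prime_one hXp
  refine ⟨bg14_normalizer_eq hE hKU.normal hUK hKcomm hXK hX1 hfree hpa,
    bg14_normalizer_eq hE hKU.normal hUK hKcomm le_rfl hK1 hfree hpa, ?_⟩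
  intro Mstar hMstar hN
  have hpκ : Nat.card X ∈ Cfsg.kappa M := hK.2.1 _ hXp (Subgroup.card_dvd_of_le hXK)
  have hσ := HS Mstar hMstar _ hpκ X (hXK.trans hK.1) rfl hN
  have : Fact (Nat.card X).Prime := ⟨hXp⟩
  exact Cfsg.Agent.Lib.Helper1.BG12.pgroup_le_sigmaCore hG Mstar hMstar (Nat.card X) hσ X
    (Subgroup.le_normalizer.trans hN) (IsPGroup.of_card (n := 1) (by rw [pow_one]))

end Cfsg.Agent.Lib.Helper13.BG14
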