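import Mathlib
import Cfsg.Agent.Lib.Helper13.BG14E
import Cfsg.Agent.Lib.Helper1.BG14.LemLAdapter
import Cfsg.Agent.Lib.Helper18.LemLFinal
import Cfsg.Agent.Lib.Helper21.BG13t
import Cfsg.Agent.Lib.Helper28.BGtJ

set_option autoImplicit false

/-! B & G Theorem 14.2 (S1430): the two cases `κ(M) ⊆ τ₁(M)` and `κ(M) ∩ τ₃(M) ≠ ∅` (helper13). -/

namespace Cfsg.Agent.Lib.Helper13.BG14

open Cfsg Cfsg.Agent.Lib.Helper18 Cfsg.Agent.Lib.Helper28.BGt

variable {G : Type*} [Group G] [Finite G]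

/-- cyclic Sylow `p`-subgroups give `p`-rank at most one -/
theorem bg14_pRankLE_one_of_cyclic {M : Type*} [Group M] [Finite M] {p : ℕ} (hp : p.Prime)
    (h : ∀ P : Sylow p M, IsCyclic P) : Cfsg.PRankLE p 1 M := by
  intro A _ hA
  haveI : Fact p.Prime := ⟨hp⟩
  have hAp : IsPGroup p A := by
    intro a
    refine ⟨1, ?_⟩
    rw [pow_one]
    apply Subtype.ext
    simpa using hA a a.2
  obtain ⟨P, hP⟩ := hAp.exists_le_sylow
  haveI := h P
  have hPc : IsCyclic (P : Subgroup M) := h P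
  haveI : IsCyclic A := by
    have : IsCyclic ((A.subgroupOf (P : Subgroup M))) := inferInstance
    exact isCyclic_of_surjective _ (Subgroup.subgroupOfEquivOfLe hP).surjective
  obtain ⟨g, hg⟩ := IsCyclic.exists_generator (α := A)
  have hcard : Nat.card A = orderOf g := by
    rw [← Nat.card_zpowers]
    have : Subgroup.zpowers g = ⊤ := by
      rw [Subgroup.eq_top_iff']; exact hg
    rw [this]
    exact (Nat.card_congr Subgroup.topEquiv.toEquiv).symm
  rw [hcard, pow_one]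
  apply Nat.le_of_dvd hp.pos
  apply orderOf_dvd_of_pow_eq_one
  apply Subtype.ext
  simpa using hA g g.2

theorem bg14_pRankLE_one_of_kappa {M : Subgroup G} {p : ℕ} (hp : p ∈ Cfsg.kappa M) :
    Cfsg.PRankLE p 1 M :=
  bg14_pRankLE_one_of_cyclic hp.1 (fun P => (hp.2.2.2 P).1)

theorem bg14_kappa_cases {M : Subgroup G} {p : ℕ} (hp : p ∈ Cfsg.kappa M) :
    p ∈ Cfsg.tau1 M ∨ p ∈ Cfsg.tau3 M := by
  by_cases h : p ∣ Nat.card ↥⁅M, M⁆
  · exact Or.inr ⟨hp.1, hp.2.2.1, h, bg14_pRankLE_one_of_kappa hp⟩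
  · exact Or.inl ⟨hp.1, hp.2.2.1, hp.2.1, h, bg14_pRankLE_one_of_kappa hp⟩

/-- a subgroup of `M` of order `p ∈ κ(M)` has non-trivial fixed points on `M_σ` -/
theorem bg14_kappa_fixed_sub {M P : Subgroup G} {p : ℕ} (hpκ : p ∈ Cfsg.kappa M) (hPM : P ≤ M)
    (hPc : Nat.card P = p) : Cfsg.sigmaCore M ⊓ Subgroup.centralizer (P : Set G) ≠ ⊥ := by
  haveI : Fact p.Prime := ⟨hpκ.1⟩
  haveI : Fact (Nat.card P).Prime := by rw [hPc]; infer_instance
  haveI : IsCyclic P := isCyclic_of_prime_card (p := Nat.card P) rfl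
  obtain ⟨g, hg⟩ := IsCyclic.exists_generator (α := P)
  have hgo : orderOf (g : G) = p := by
    rw [Subgroup.orderOf_coe, orderOf_eq_card_of_forall_mem_zpowers hg, hPc]
  obtain ⟨y, hy, hy1, hgy⟩ := bg14_kappa_fixed hpκ (hPM g.2) hgo
  intro hbot
  apply hy1
  have : y ∈ Cfsg.sigmaCore M ⊓ Subgroup.centralizer (P : Set G) := by
    refine Subgroup.mem_inf.mpr ⟨hy, ?_⟩
    rw [Subgroup.mem_centralizer_iff]
    intro x hx
    obtain ⟨i, hi⟩ := Subgroup.mem_zpowers_iff.mp (hg ⟨x, hx⟩)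
    have hx' : x = (g : G) ^ i := by
      have := congrArg Subtype.val hi
      simpa using this.symm
    rw [hx']
    have hc : Commute (g : G) y := hgy
    exact (hc.zpow_left i).eq
  rwa [hbot, Subgroup.mem_bot] at this

/-- (STAR) in the form needed by `bg14_two`, and its refinement `P ≤ H_σ` -/
theorem bg14_star_sigmaCore (hG : Cfsg.IsMinSimpleOddOrder G) {M H P : Subgroup G}
    (hM : IsCoatom M) (hH : IsCoatom H) {p : ℕ} (hpκ : p ∈ Cfsg.kappa M) (hPM : P ≤ M)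
    (hPc : Nat.card P = p) (hN : Subgroup.normalizer (P : Set G) ≤ H) :
    (∀ g : G, H ≠ conjSub g M) ∧ p ∈ Cfsg.sigma H ∧ P ≤ Cfsg.sigmaCore H := by
  haveI : Fact p.Prime := ⟨hpκ.1⟩
  exact Cfsg.Agent.Lib.Helper21.BG13t.le_sigmaCore_of_normalizer_le hG hM hH hpκ.2.2.1
    (bg14_pRankLE_one_of_kappa hpκ) hPc hPM hN (bg14_kappa_fixed_sub hpκ hPM hPc)

/-- B & G Theorem 14.2 when `κ(M) ⊆ τ₁(M)` -/
theorem bg14_two_tau1 (hG : Cfsg.IsMinSimpleOddOrder G) {M K : Subgroup G} (hM : IsCoatom M)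
    (hK : Cfsg.IsPiHallOf (Cfsg.kappa M) K M) (hK1 : K ≠ ⊥)
    (Hκ : ∀ p ∈ Cfsg.kappa M, p ∈ Cfsg.tau1 M) :
    (∀ k ∈ K, k ≠ 1 → Cfsg.sigmaCore M ⊓ Subgroup.centralizer ({k} : Set G) =
        (Cfsg.sigmaCore M ⊓ Subgroup.centralizer (K : Set G))) ∧
      (∃ U : Subgroup G, IsMulCommutative U ∧
        Cfsg.IsPiHallOf {q | q.Prime ∧ q ∉ Cfsg.kappa M ∧ q ∉ Cfsg.sigma M} U M ∧
        K ≤ Subgroup.normalizer (U : Set G) ∧
        ∀ k ∈ K, k ≠ 1 → U ⊓ Subgroup.centralizer ({k} : Set G) = ⊥) ∧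
      ∀ X : Subgroup G, X ≤ K → (Nat.card X).Prime →
        M ⊓ Subgroup.normalizer (X : Set G) =
            K ⊔ (Cfsg.sigmaCore M ⊓ Subgroup.centralizer (K : Set G)) ∧
          M ⊓ Subgroup.normalizer (K : Set G) =
            K ⊔ (Cfsg.sigmaCore M ⊓ Subgroup.centralizer (K : Set G)) ∧
          ∀ Mstar : Subgroup G, IsCoatom Mstar → Subgroup.normalizer (X : Set G) ≤ Mstar →
            X ≤ Cfsg.sigmaCore Mstar := by
  apply bg14_two hG hM hK hK1 Hκ
  · apply Cfsg.Agent.Lib.Helper1.BG14.T1312_of_lemL hG hM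
    intro E P R p r hE hp hr hPE hPc hne hRE hRc
    exact Cfsg.Agent.Lib.Helper18.LemLFinal.lemma_L hG hM hE hp hr hPE hPc hne hRE hRc
  · intro H hH p hpκ P hPM hPc hN
    exact (bg14_star_sigmaCore hG hM hH hpκ hPM hPc hN).2.1

/-- a Hall `κ(M)`-subgroup contained in a `κ(M)`-group `E ≤ M` equals `E` -/
theorem bg14_hall_eq_of_le {M K E : Subgroup G} (hK : Cfsg.IsPiHallOf (Cfsg.kappa M) K M)
    (hKE : K ≤ E) (hEM : E ≤ M)
    (hE : ∀ q : ℕ, q.Prime → q ∣ Nat.card E → q ∈ Cfsg.kappa M) : K = E := by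
  apply le_antisymm hKE
  rw [← Subgroup.relIndex_eq_one]
  by_contra hne
  obtain ⟨q, hq, hqd⟩ := Nat.exists_prime_and_dvd hne
  have h1 : q ∣ Nat.card E := hqd.trans (Subgroup.relIndex_dvd_card K E)
  have h2 : q ∣ K.relIndex M := by
    rw [← Subgroup.relIndex_mul_relIndex K E M hKE hEM]
    exact Dvd.dvd.mul_right hqd _
  exact hK.2.2 q hq (hE q hq h1) h2

/-- B & G Theorem 14.2 when `K` is a complement of `M_σ` acting in a prime manner, all of whose
subgroups of prime order are normal (the situation of B & G Lemma 13.10) -/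
theorem bg14_two_nonreg (hG : Cfsg.IsMinSimpleOddOrder G) {M K : Subgroup G} (hM : IsCoatom M)
    (hK : Cfsg.IsPiHallOf (Cfsg.kappa M) K M)
    (hE : Cfsg.IsComplIn K (Cfsg.sigmaCore M) M)
    (hpa : ∀ e ∈ K, e ≠ 1 → Cfsg.sigmaCore M ⊓ Subgroup.centralizer ({e} : Set G) =
      Cfsg.sigmaCore M ⊓ Subgroup.centralizer (K : Set G))
    (hnorm : ∀ X : Subgroup G, X ≤ K → (Nat.card X).Prime →
      K ≤ Subgroup.normalizer (X : Set G)) :
    (∀ k ∈ K, k ≠ 1 → Cfsg.sigmaCore M ⊓ Subgroup.centralizer ({k} : Set G) =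
        (Cfsg.sigmaCore M ⊓ Subgroup.centralizer (K : Set G))) ∧
      (∃ U : Subgroup G, IsMulCommutative U ∧
        Cfsg.IsPiHallOf {q | q.Prime ∧ q ∉ Cfsg.kappa M ∧ q ∉ Cfsg.sigma M} U M ∧
        K ≤ Subgroup.normalizer (U : Set G) ∧
        ∀ k ∈ K, k ≠ 1 → U ⊓ Subgroup.centralizer ({k} : Set G) = ⊥) ∧
      ∀ X : Subgroup G, X ≤ K → (Nat.card X).Prime →
        M ⊓ Subgroup.normalizer (X : Set G) =
            K ⊔ (Cfsg.sigmaCore M ⊓ Subgroup.centralizer (K : Set G)) ∧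
          M ⊓ Subgroup.normalizer (K : Set G) =
            K ⊔ (Cfsg.sigmaCore M ⊓ Subgroup.centralizer (K : Set G)) ∧
          ∀ Mstar : Subgroup G, IsCoatom Mstar → Subgroup.normalizer (X : Set G) ≤ Mstar →
            X ≤ Cfsg.sigmaCore Mstar := by
  have hKM : K ≤ M := hE.1
  have hKN : K ≤ Subgroup.normalizer (Cfsg.sigmaCore M : Set G) :=
    hKM.trans (le_normalizer_sigmaCore M)
  have hSK : Cfsg.sigmaCore M ⊓ K = ⊥ := by rw [inf_comm]; exact hE.2.2.1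
  -- the general normalizer computation
  have key : ∀ X : Subgroup G, X ≤ K → X ≠ ⊥ → K ≤ Subgroup.normalizer (X : Set G) →
      M ⊓ Subgroup.normalizer (X : Set G) =
        K ⊔ (Cfsg.sigmaCore M ⊓ Subgroup.centralizer (K : Set G)) := by
    intro X hXK hX1 hKX
    obtain ⟨⟨x, hx⟩, hx1'⟩ := (Subgroup.ne_bot_iff_exists_ne_one).mp hX1
    have hx1 : x ≠ 1 := fun e => hx1' (Subtype.ext e)
    have hxK : x ∈ K := hXK hx
    have hCX : Subgroup.centralizer (X : Set G) ≤ Subgroup.centralizer ({x} : Set G) :=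
      Subgroup.centralizer_le (by simpa using hx)
    apply le_antisymm
    · rintro m ⟨hmM, hmN⟩
      obtain ⟨e, he, s, hs, rfl⟩ := hE.2.2.2 m hmM
      have hs' : e * s * e⁻¹ ∈ Cfsg.sigmaCore M := conj_mem_of_le_normalizer hKN he hs
      have hm : e * s = (e * s * e⁻¹) * e := by group
      rw [hm] at hmN ⊢
      obtain ⟨hsC, -⟩ := bg14_mem_centralizer_of_mul_mem_normalizer hKN hSK hXK hs' he hmN
      have hsK : e * s * e⁻¹ ∈ Cfsg.sigmaCore M ⊓ Subgroup.centralizer (K : Set G) := by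
        rw [← hpa x hxK hx1]
        exact Subgroup.mem_inf.mpr ⟨hs', hCX hsC⟩
      exact Subgroup.mul_mem _ (Subgroup.mem_sup_right hsK) (Subgroup.mem_sup_left he)
    · apply sup_le
      · exact le_inf hKM hKX
      · intro s hs
        refine Subgroup.mem_inf.mpr ⟨sigmaCore_le M hs.1, ?_⟩
        apply Subgroup.centralizer_le_normalizer (X : Set G)
        exact Subgroup.centralizer_le (by exact_mod_cast hXK) hs.2
  refine ⟨hpa, ⟨⊥, ?_, ?_, ?_, ?_⟩, ?_⟩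
  · exact ⟨⟨fun a b => by
      have ha : a = 1 := Subsingleton.elim _ _
      rw [ha, one_mul, mul_one]⟩⟩
  · refine ⟨bot_le, ?_, ?_⟩
    · intro q hq hqd
      rw [Subgroup.card_bot] at hqd
      exact absurd (Nat.dvd_one.mp hqd) hq.one_lt.ne'
    · rintro q hq ⟨-, hqκ, hqσ⟩ hqd
      have h0 : (⊥ : Subgroup G).relIndex M = Nat.card M := by
        rw [Subgroup.relIndex, Subgroup.bot_subgroupOf, Subgroup.index_bot]
      rw [h0, Cfsg.Agent.Lib.Helper1.BG15.card_of_isComplIn hE] at hqd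
      rcases (Nat.Prime.dvd_mul hq).mp hqd with h | h
      · exact hqκ (hK.2.1 q hq h)
      · exact hqσ (prime_sigmaCore hG hM hq h)
  · intro k _
    rw [Subgroup.mem_normalizer_iff]
    intro h
    simp only [SetLike.mem_coe, Subgroup.mem_bot]
    constructor
    · intro h1; rw [h1]; group
    · intro h1
      have : h = k⁻¹ * (k * h * k⁻¹) * k := by group
      rw [this, h1]; group
  · intro k _ _
    exact bot_inf_eq _
  · intro X hXK hXp
    have hX1 : X ≠ ⊥ := by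
      intro h
      rw [h, Subgroup.card_bot] at hXp
      exact Nat.not_prime_one hXp
    have hK1 : K ≠ ⊥ := by
      intro h
      apply hX1
      rw [eq_bot_iff, ← h]; exact hXK
    refine ⟨key X hXK hX1 (hnorm X hXK hXp), key K le_rfl hK1 Subgroup.le_normalizer, ?_⟩
    intro Mstar hMstar hN
    have hpκ : Nat.card X ∈ Cfsg.kappa M := hK.2.1 _ hXp (Subgroup.card_dvd_of_le hXK)
    exact (bg14_star_sigmaCore hG hM hMstar hpκ (hXK.trans hKM) rfl hN).2.2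

/-- the interface of B & G Lemma 13.10 (structure when `κ(M) ∩ τ₃(M) ≠ ∅`) used for S1430 -/
def Nonreg1310 (M : Subgroup G) : Prop :=
  ∀ (E : Subgroup G) (p : ℕ), Cfsg.IsComplIn E (Cfsg.sigmaCore M) M → p ∈ Cfsg.kappa M →
    p ∈ Cfsg.tau3 M →
    (∀ q : ℕ, q.Prime → q ∣ Nat.card E → q ∈ Cfsg.kappa M) ∧
    (∀ e ∈ E, e ≠ 1 → Cfsg.sigmaCore M ⊓ Subgroup.centralizer ({e} : Set G) =
      Cfsg.sigmaCore M ⊓ Subgroup.centralizer (E : Set G)) ∧
    (∀ X : Subgroup G, X ≤ E → (Nat.card X).Prime → E ≤ Subgroup.normalizer (X : Set G))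

/-- B & G Theorem 14.2 (the statement of S1430), modulo Lemma 13.10 -/
theorem bg14_two_final (hG : Cfsg.IsMinSimpleOddOrder G) {M K : Subgroup G} (hM : IsCoatom M)
    (hK : Cfsg.IsPiHallOf (Cfsg.kappa M) K M) (hK1 : K ≠ ⊥) (H : Nonreg1310 M) :
    (∀ k ∈ K, k ≠ 1 → Cfsg.sigmaCore M ⊓ Subgroup.centralizer ({k} : Set G) =
        (Cfsg.sigmaCore M ⊓ Subgroup.centralizer (K : Set G))) ∧
      (∃ U : Subgroup G, IsMulCommutative U ∧
        Cfsg.IsPiHallOf {q | q.Prime ∧ q ∉ Cfsg.kappa M ∧ q ∉ Cfsg.sigma M} U M ∧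
        K ≤ Subgroup.normalizer (U : Set G) ∧
        ∀ k ∈ K, k ≠ 1 → U ⊓ Subgroup.centralizer ({k} : Set G) = ⊥) ∧
      ∀ X : Subgroup G, X ≤ K → (Nat.card X).Prime →
        M ⊓ Subgroup.normalizer (X : Set G) =
            K ⊔ (Cfsg.sigmaCore M ⊓ Subgroup.centralizer (K : Set G)) ∧
          M ⊓ Subgroup.normalizer (K : Set G) =
            K ⊔ (Cfsg.sigmaCore M ⊓ Subgroup.centralizer (K : Set G)) ∧
          ∀ Mstar : Subgroup G, IsCoatom Mstar → Subgroup.normalizer (X : Set G) ≤ Mstar →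
            X ≤ Cfsg.sigmaCore Mstar := by
  by_cases Hκ : ∀ p ∈ Cfsg.kappa M, p ∈ Cfsg.tau1 M
  · exact bg14_two_tau1 hG hM hK hK1 Hκ
  · push_neg at Hκ
    obtain ⟨p, hpκ, hp1⟩ := Hκ
    have hp3 : p ∈ Cfsg.tau3 M := (bg14_kappa_cases hpκ).resolve_left hp1
    obtain ⟨E, hE, hKE⟩ := exists_compl_ge hG hM hK.1
      (fun q hq hqd => (hK.2.1 q hq hqd).2.2.1)
    obtain ⟨h1, h2, h3⟩ := H E p hE hpκ hp3
    have hKE' : K = E := bg14_hall_eq_of_le hK hKE hE.1 h1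
    subst hKE'
    exact bg14_two_nonreg hG hM hK hE h2 h3

end Cfsg.Agent.Lib.Helper13.BG14
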