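import Mathlib
import Cfsg.Prelude.Def_OddOrderLocal
import Cfsg.Agent.Lib.Helper10.FittingHall
import Cfsg.Agent.Lib.Helper11.CNNormalSylow
import Cfsg.Agent.Lib.Helper18.BGThirteenA
import Cfsg.Agent.Lib.Helper1.BG12.SigmaDisjoint
import Cfsg.Agent.Lib.Helper1.BG10.Basic

set_option autoImplicit false

/-! `M_σ = M_F` when `M_σ` is nilpotent (helper13). -/

namespace Cfsg.Agent.Lib.Helper13.BG14

open Cfsg Cfsg.Agent.Lib Cfsg.Agent.Lib.Helper18

variable {G : Type*} [Group G] [Finite G]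

/-- primes dividing `|M_F|` lie in `σ(M)` -/
theorem bg14_prime_fittingHall_sigma (hG : Cfsg.IsMinSimpleOddOrder G) {N : Subgroup G}
    (hN : IsCoatom N) {p : ℕ} (hp : p.Prime) (hpd : p ∣ Nat.card (Cfsg.fittingHall N)) :
    p ∈ Cfsg.sigma N := by
  haveI : Fact p.Prime := ⟨hp⟩
  haveI hFn : Group.IsNilpotent (Cfsg.fittingHall N) :=
    Cfsg.Agent.Lib.Helper11.fittingHall_isNilpotent
  have hcop := Cfsg.Agent.Lib.Helper10.fittingHall_coprime (M := N)
  have hpi : ¬ p ∣ (Cfsg.fittingHall N).index := by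
    intro h
    have := Nat.Coprime.eq_one_of_dvd (Nat.Coprime.coprime_dvd_left hpd hcop) h
    exact hp.one_lt.ne' this
  obtain ⟨P⟩ : Nonempty (Sylow p (Cfsg.fittingHall N)) := inferInstance
  haveI hPn : (P : Subgroup (Cfsg.fittingHall N)).Normal :=
    Sylow.normal_of_normalizerCondition normalizerCondition_of_isNilpotent P
  haveI hPc : (P : Subgroup (Cfsg.fittingHall N)).Characteristic :=
    Sylow.characteristic_of_normal P hPn
  obtain ⟨S, hS⟩ : ∃ S : Subgroup N, S = (P : Subgroup _).map (Cfsg.fittingHall N).subtype :=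
    ⟨_, rfl⟩
  haveI hSn : S.Normal := by rw [hS]; infer_instance
  have hSp : IsPGroup p S := by rw [hS]; exact P.isPGroup'.map _
  have hSi : ¬ p ∣ S.index := by
    rw [hS, Subgroup.index_map_subtype]
    intro h
    rcases (Nat.Prime.dvd_mul hp).mp h with h | h
    · exact P.not_dvd_index h
    · exact hpi h
  have hSd : p ∣ Nat.card S := by
    rw [hS, Subgroup.card_map_of_injective (Subgroup.subtype_injective _)]
    exact P.dvd_card_of_dvd_card hpd
  have hS1 : S.map N.subtype ≠ ⊥ := by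
    intro h
    rw [← Subgroup.card_eq_one, Subgroup.card_map_of_injective N.subtype_injective] at h
    rw [h] at hSd
    exact hp.one_lt.ne' (Nat.dvd_one.mp hSd)
  have hSN : S.map N.subtype ≤ N := Subgroup.map_subtype_le _
  have hS2 : S.map N.subtype ≠ ⊤ := by
    intro h
    apply hN.1
    rw [eq_top_iff, ← h]
    exact hSN
  have hnt := Cfsg.Agent.Lib.Helper1.BG10.normalizer_ne_top hG hS1 hS2
  have hle := Cfsg.Agent.Lib.Helper1.BG12.map_normal_le_normalizer N S
  have hnorm : Subgroup.normalizer ((S.map N.subtype : Subgroup G) : Set G) ≤ N := by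
    rcases eq_or_lt_of_le hle with h | h
    · exact h.symm.le
    · exact absurd (hN.2 _ h) hnt
  refine ⟨hp, ?_, hSp.toSylow hSi, ?_⟩
  · exact hpd.trans (Subgroup.card_subgroup_dvd_card _)
  · rw [IsPGroup.toSylow_coe]
    exact hnorm

/-- `M_F ≤ M_σ` at the level of subgroups of `M` -/
theorem bg14_fittingHall_le_piCore (hG : Cfsg.IsMinSimpleOddOrder G) {N : Subgroup G}
    (hN : IsCoatom N) : Cfsg.fittingHall N ≤ Cfsg.piCore (Cfsg.sigma N) N := by
  apply le_sSup
  exact ⟨inferInstance, fun p hp hpd => bg14_prime_fittingHall_sigma hG hN hp hpd⟩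

/-- `M_F ≤ M_σ` -/
theorem bg14_fittingHallOf_le_sigmaCore (hG : Cfsg.IsMinSimpleOddOrder G) {N : Subgroup G}
    (hN : IsCoatom N) : Cfsg.fittingHallOf N ≤ Cfsg.sigmaCore N :=
  Subgroup.map_mono (bg14_fittingHall_le_piCore hG hN)

/-- `M_σ = M_F` when `M_σ` is nilpotent -/
theorem bg14_sigmaCore_eq_fittingHallOf (hG : Cfsg.IsMinSimpleOddOrder G) {N : Subgroup G}
    (hN : IsCoatom N) (hnil : Group.IsNilpotent (Cfsg.sigmaCore N)) :
    Cfsg.sigmaCore N = Cfsg.fittingHallOf N := by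
  apply le_antisymm _ (bg14_fittingHallOf_le_sigmaCore hG hN)
  apply Subgroup.map_mono
  apply Cfsg.Agent.Lib.Helper10.le_fittingHall _ inferInstance
  · have e : (Cfsg.piCore (Cfsg.sigma N) N) ≃* Cfsg.sigmaCore N :=
      Subgroup.equivMapOfInjective _ N.subtype N.subtype_injective
    haveI := hnil
    exact nilpotent_of_mulEquiv e.symm
  · exact Cfsg.Agent.Lib.Helper18.BGThirteenA.sigmaCore_coprime hG N hN

end Cfsg.Agent.Lib.Helper13.BG14
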