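import Mathlib
import Cfsg.Prelude.Def_OddOrderLocal
import Cfsg.Agent.Lib.Helper13.BG14I
import Cfsg.Agent.Lib.Helper13.BG14J
import Cfsg.Agent.Lib.Helper13.BG14L
import Cfsg.Agent.Lib.Helper13.BG14M
import Cfsg.Agent.Lib.Helper1.BG15.URegular
import Cfsg.Agent.Lib.Helper1.BG15.SigmaDecomp
import Cfsg.Agent.Lib.Helper28.BGtD
import Cfsg.Agent.S1414
import Cfsg.Agent.S1416
import Cfsg.Agent.S1417
import Cfsg.Agent.S1378

set_option autoImplicit false

/-! B & G Theorem 14.4 (S1375): the maximal subgroup over `C_G(x)`, `x ∈ M_σ^#`, `C_G(x) ⊄ M`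
(helper13). -/

namespace Cfsg.Agent.Lib.Helper13.BG14

open Cfsg Cfsg.Agent.Lib Cfsg.Agent.Lib.Helper18
open Cfsg.Agent.Lib.Helper11.BenderM Cfsg.Agent.Lib.Helper11.MaxSubD
  Cfsg.Agent.Lib.Helper11.BenderE Cfsg.Agent.Lib.Helper28.BGt

variable {G : Type*} [Group G] [Finite G]

/-- fusion: a conjugate of `M` containing a nontrivial `σ(M)`-subgroup `X ≤ M` together with
`C_G(X)` equals `M` -/
theorem bg14_conj_eq_self (hG : Cfsg.IsMinSimpleOddOrder G) {M : Subgroup G} (hM : IsCoatom M)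
    {r : ℕ} [hr' : Fact r.Prime] (hr : r ∈ Cfsg.sigma M) {X : Subgroup G} (hXp : IsPGroup r X)
    (hX1 : X ≠ ⊥) (hXM : X ≤ M) {g : G} (hXg : X ≤ M.map (MulAut.conj g).toMonoidHom)
    (hC : Subgroup.centralizer (X : Set G) ≤ M.map (MulAut.conj g).toMonoidHom) :
    M.map (MulAut.conj g).toMonoidHom = M := by
  have hfus := sigma_fusion hG M hM r hr X hXp hX1 hXM
  have hle : Helper18.conjSub g⁻¹ X ≤ M := by
    rintro _ ⟨z, hz, rfl⟩
    have := bg14_mem_map_conj.mp (hXg hz)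
    simpa [MulAut.conj_apply] using this
  obtain ⟨m, hm, c, hc, hgmc⟩ := hfus.1 g⁻¹ hle
  have hg' : g = c⁻¹ * m⁻¹ := by
    have : g = (g⁻¹)⁻¹ := (inv_inv g).symm
    rw [this, hgmc]; group
  have h1 : M.map (MulAut.conj g).toMonoidHom = M.map (MulAut.conj c⁻¹).toMonoidHom := by
    rw [hg']; exact bg14_map_conj_eq_of_mul (M.inv_mem hm)
  have hcM : c⁻¹ ∈ M.map (MulAut.conj c⁻¹).toMonoidHom := by
    rw [← h1]; exact hC (Subgroup.inv_mem _ hc)
  rw [bg14_mem_map_conj] at hcM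
  have hcM' : c⁻¹ ∈ M := by
    have : (c⁻¹)⁻¹ * c⁻¹ * c⁻¹ = c⁻¹ := by group
    rwa [this] at hcM
  rw [h1]
  have := bg14_map_conj_eq_of_mul (M := M) (g := 1) hcM'
  rw [one_mul] at this
  rw [this]
  ext z
  rw [bg14_mem_map_conj]
  simp

/-- the centralizer structure from `Ms_σ ∩ M = 1` and `Ms = (M ∩ Ms) Ms_σ` -/
theorem bg14_cent_structure {M Ms : Subgroup G} {x : G} (hxM : x ∈ M)
    (hCMs : Subgroup.centralizer ({x} : Set G) ≤ Ms)
    (hbot : Cfsg.sigmaCore Ms ⊓ M = ⊥)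
    (hdec : ∀ m ∈ Ms, ∃ e ∈ M ⊓ Ms, ∃ n ∈ Cfsg.sigmaCore Ms, m = e * n) :
    Subgroup.centralizer ({x} : Set G) ≤ Subgroup.normalizer
      ((Cfsg.sigmaCore Ms ⊓ Subgroup.centralizer ({x} : Set G) : Subgroup G) : Set G) ∧
    Cfsg.IsComplIn (M ⊓ Subgroup.centralizer ({x} : Set G))
        (Cfsg.sigmaCore Ms ⊓ Subgroup.centralizer ({x} : Set G))
        (Subgroup.centralizer ({x} : Set G)) := by
  have hxMs : x ∈ Ms := hCMs (Subgroup.mem_centralizer_singleton_iff.mpr rfl)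
  have hNσn : Ms ≤ Subgroup.normalizer (Cfsg.sigmaCore Ms : Set G) := le_normalizer_sigmaCore Ms
  have key : ∀ n ∈ Cfsg.sigmaCore Ms, n * x * n⁻¹ ∈ M → n * x = x * n := by
    intro n hn hnx
    have h1 : n * x * n⁻¹ * x⁻¹ ∈ Cfsg.sigmaCore Ms ⊓ M := by
      refine Subgroup.mem_inf.mpr ⟨?_, M.mul_mem hnx (M.inv_mem hxM)⟩
      have h2 : x * n⁻¹ * x⁻¹ ∈ Cfsg.sigmaCore Ms :=
        conj_mem_of_le_normalizer hNσn hxMs (Subgroup.inv_mem _ hn)
      have h3 : n * x * n⁻¹ * x⁻¹ = n * (x * n⁻¹ * x⁻¹) := by group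
      rw [h3]
      exact Subgroup.mul_mem _ hn h2
    rw [hbot, Subgroup.mem_bot] at h1
    have : n * x = (n * x * n⁻¹ * x⁻¹) * x * n := by group
    rw [this, h1, one_mul]
  constructor
  · intro c hc
    rw [Subgroup.mem_normalizer_iff]
    intro z
    have hcMs : c ∈ Ms := hCMs hc
    constructor
    · rintro ⟨hz1, hz2⟩
      refine Subgroup.mem_inf.mpr ⟨conj_mem_of_le_normalizer hNσn hcMs hz1, ?_⟩
      exact Subgroup.mul_mem _ (Subgroup.mul_mem _ hc hz2) (Subgroup.inv_mem _ hc)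
    · rintro ⟨hz1, hz2⟩
      have h1 : z = c⁻¹ * (c * z * c⁻¹) * c⁻¹⁻¹ := by group
      rw [h1]
      refine Subgroup.mem_inf.mpr ⟨conj_mem_of_le_normalizer hNσn (Ms.inv_mem hcMs) hz1, ?_⟩
      exact Subgroup.mul_mem _ (Subgroup.mul_mem _ (Subgroup.inv_mem _ hc) hz2)
        (Subgroup.inv_mem _ (Subgroup.inv_mem _ hc))
  · refine ⟨inf_le_right, inf_le_right, ?_, ?_⟩
    · rw [eq_bot_iff, ← hbot]
      rintro z ⟨⟨hz1, -⟩, ⟨hz2, -⟩⟩
      exact Subgroup.mem_inf.mpr ⟨hz2, hz1⟩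
    · intro c hc
      obtain ⟨e, he, n, hn, rfl⟩ := hdec c (hCMs hc)
      have hcx : e * n * x = x * (e * n) := (Subgroup.mem_centralizer_singleton_iff.mp hc)
      have hnx : n * x * n⁻¹ ∈ M := by
        have h1 : n * x * n⁻¹ = e⁻¹ * x * e := by
          have : n * x = e⁻¹ * x * e * n := by
            calc n * x = e⁻¹ * (e * n * x) := by group
              _ = e⁻¹ * (x * (e * n)) := by rw [hcx]
              _ = e⁻¹ * x * e * n := by group
          rw [this]; group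
        rw [h1]
        exact M.mul_mem (M.mul_mem (M.inv_mem he.1) hxM) he.1
      have hn' := key n hn hnx
      have hnC : n ∈ Subgroup.centralizer ({x} : Set G) :=
        Subgroup.mem_centralizer_singleton_iff.mpr hn'
      have heC : e ∈ Subgroup.centralizer ({x} : Set G) := by
        have : e = (e * n) * n⁻¹ := by group
        rw [this]
        exact Subgroup.mul_mem _ hc (Subgroup.inv_mem _ hnC)
      exact ⟨e, Subgroup.mem_inf.mpr ⟨he.1, heC⟩, n, Subgroup.mem_inf.mpr ⟨hn, hnC⟩, rfl⟩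

/-- a `κ(N)'`-element of `N` lies in `U N_σ` -/
theorem bg14_mem_U_sup_sigmaCore (hG : Cfsg.IsMinSimpleOddOrder G) {N K U : Subgroup G}
    (hN : IsCoatom N) (hKU : Cfsg.IsSigmaDecomposition N K U) {x : G} (hxN : x ∈ N)
    (hx : ∀ q : ℕ, q.Prime → q ∣ orderOf x → q ∉ Cfsg.kappa N) :
    x ∈ U ⊔ Cfsg.sigmaCore N := by
  have hUN : U ≤ N := hKU.compl.1
  have hKN : K ≤ N := hKU.hall.1
  have hσN : Cfsg.sigmaCore N ≤ N := sigmaCore_le N
  have hNσ : N ≤ Subgroup.normalizer (Cfsg.sigmaCore N : Set G) := le_normalizer_sigmaCore N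
  have hVN : U ⊔ Cfsg.sigmaCore N ≤ N := sup_le hUN hσN
  have hUσ : U ⊓ Cfsg.sigmaCore N = ⊥ := by
    rw [eq_bot_iff, ← hKU.compl.2.2.1]
    exact inf_le_inf_left _ le_sup_right
  have hKσ : K ⊓ Cfsg.sigmaCore N = ⊥ :=
    Cfsg.Agent.Lib.Helper1.BG15.kappa_inf_sigmaCore hG hN hKU.hall.2.1
  have hnorm : N ≤ Subgroup.normalizer ((U ⊔ Cfsg.sigmaCore N : Subgroup G) : Set G) := by
    intro m hm
    obtain ⟨u, hu, w, hw, rfl⟩ := hKU.compl.2.2.2 m hm
    have h1 : U ≤ Subgroup.normalizer ((U ⊔ Cfsg.sigmaCore N : Subgroup G) : Set G) :=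
      le_sup_left.trans Subgroup.le_normalizer
    have h2 : K ⊔ Cfsg.sigmaCore N ≤
        Subgroup.normalizer ((U ⊔ Cfsg.sigmaCore N : Subgroup G) : Set G) := by
      apply sup_le
      · exact Cfsg.Agent.Lib.Helper11.BenderP.le_normalizer_sup hKU.normal (hKN.trans hNσ)
      · exact le_sup_right.trans Subgroup.le_normalizer
    exact Subgroup.mul_mem _ (h1 hu) (h2 hw)
  have hrel : (U ⊔ Cfsg.sigmaCore N).relIndex N ∣ Nat.card K := by
    have e1 := Cfsg.Agent.Lib.Helper1.BG15.card_of_isComplIn hKU.compl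
    have e2 := Cfsg.Agent.Lib.Helper1.BG12.card_mul_relIndex_of_le hVN
    have e3 : Nat.card (U ⊔ Cfsg.sigmaCore N : Subgroup G) =
        Nat.card U * Nat.card (Cfsg.sigmaCore N) :=
      Cfsg.Agent.Lib.Helper1.BG12b.card_sup_of_inf_eq_bot (hUN.trans hNσ) hUσ
    have e4 : Nat.card (K ⊔ Cfsg.sigmaCore N : Subgroup G) =
        Nat.card K * Nat.card (Cfsg.sigmaCore N) :=
      Cfsg.Agent.Lib.Helper1.BG12b.card_sup_of_inf_eq_bot (hKN.trans hNσ) hKσ
    rw [e3, e1, e4] at e2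
    have hU0 : 0 < Nat.card U := Nat.card_pos
    have hσ0 : 0 < Nat.card (Cfsg.sigmaCore N) := Nat.card_pos
    have e5 : (U ⊔ Cfsg.sigmaCore N).relIndex N = Nat.card K := by
      have : Nat.card U * Nat.card (Cfsg.sigmaCore N) * (U ⊔ Cfsg.sigmaCore N).relIndex N =
          Nat.card U * Nat.card (Cfsg.sigmaCore N) * Nat.card K := by
        rw [e2]; ring
      exact Nat.eq_of_mul_eq_mul_left (Nat.mul_pos hU0 hσ0) this
    rw [e5]
  have hcop : (Nat.card (Subgroup.zpowers x)).Coprime ((U ⊔ Cfsg.sigmaCore N).relIndex N) := by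
    rw [Nat.card_zpowers]
    apply Nat.coprime_of_dvd
    intro q hq hq1 hq2
    exact hx q hq hq1 (hKU.hall.2.1 q hq (hq2.trans hrel))
  have := Cfsg.Agent.Lib.Helper1.BG12.le_of_normal_coprime N (U ⊔ Cfsg.sigmaCore N)
    (Subgroup.zpowers x) hVN hnorm (Subgroup.zpowers_le.mpr hxN) hcop
  exact this (Subgroup.mem_zpowers x)

/-- every prime divisor of `|x|` lies in `τ₂(Ms)` -/
theorem bg14_primes_tau2 (hG : Cfsg.IsMinSimpleOddOrder G) {M Ms : Subgroup G} (hM : IsCoatom M)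
    (hMs : IsCoatom Ms) {x : G} (hx : x ∈ Cfsg.sigmaCore M)
    (hxM : ¬ Subgroup.centralizer ({x} : Set G) ≤ M)
    (hCMs : Subgroup.centralizer ({x} : Set G) ≤ Ms)
    (hnc : ∀ g : G, Ms ≠ M.map (MulAut.conj g).toMonoidHom)
    {z : G} (hz : z ∈ Cfsg.sigmaCore Ms) (hz1 : z ≠ 1) (hzx : z * x = x * z)
    {r : ℕ} (hr : r.Prime) (hrx : r ∣ orderOf x) : r ∈ Cfsg.tau2 Ms := by
  haveI : Fact r.Prime := ⟨hr⟩
  have hsimple : IsSimpleGroup G := hG.2.1
  have hxMs : x ∈ Ms := hCMs (Subgroup.mem_centralizer_singleton_iff.mpr rfl)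
  have hrσM : r ∈ Cfsg.sigma M := bg14_prime_orderOf_sigma hG hM hx hr hrx
  have hrσ : r ∉ Cfsg.sigma Ms := by
    intro h
    obtain ⟨g, hg⟩ := (Cfsg.Agent.S1378.result hG).2 M Ms hM hMs ⟨r, hrσM, h⟩
    exact hnc g hg
  have hr2 := Cfsg.Agent.Lib.Helper1.BG15.rank_le_two_of_not_sigma hG hMs hr hrσ
  refine ⟨hr, hrσ, hr2, ?_⟩
  intro hr1
  -- the element `y` of order `r`
  have hyo : orderOf (x ^ (orderOf x / r)) = r :=
    orderOf_pow_orderOf_div (orderOf_pos x).ne' hrx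
  obtain ⟨y, hy⟩ : ∃ y, y = x ^ (orderOf x / r) := ⟨_, rfl⟩
  rw [← hy] at hyo
  have hyMs : y ∈ Ms := by rw [hy]; exact Ms.pow_mem hxMs _
  have hyσ : y ∈ Cfsg.sigmaCore M := by rw [hy]; exact Subgroup.pow_mem _ hx _
  have hyz : y * z = z * y := by
    rw [hy]
    have hc : Commute x z := hzx.symm
    exact (hc.pow_left _).eq
  have hrκ : r ∈ Cfsg.kappa Ms :=
    Cfsg.Agent.Lib.Helper1.BG15.mem_kappa_of_nonregular hG hMs hr hrσ hr1 hyMs hyo hz hz1 hyz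
  have hXc : Nat.card (Subgroup.zpowers y) = r := by rw [Nat.card_zpowers, hyo]
  have hXp : IsPGroup r (Subgroup.zpowers y) := IsPGroup.of_card (n := 1) (by rw [hXc, pow_one])
  have hX1 : Subgroup.zpowers y ≠ ⊥ := by
    intro h
    rw [h, Subgroup.card_bot] at hXc
    exact hr.one_lt.ne hXc
  have hXM : Subgroup.zpowers y ≤ M := (Subgroup.zpowers_le.mpr hyσ).trans (sigmaCore_le M)
  have hXMs : Subgroup.zpowers y ≤ Ms := Subgroup.zpowers_le.mpr hyMs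
  have hCX : Subgroup.centralizer ({x} : Set G) ≤
      Subgroup.centralizer ((Subgroup.zpowers y : Subgroup G) : Set G) := by
    intro c hc
    rw [Subgroup.mem_centralizer_iff]
    intro w hw
    obtain ⟨i, rfl⟩ := Subgroup.mem_zpowers_iff.mp hw
    have hcx : Commute c x := (Subgroup.mem_centralizer_singleton_iff.mp hc)
    rw [hy]
    exact (((hcx.pow_right _).zpow_right i).eq).symm
  have hNtop : Subgroup.normalizer ((Subgroup.zpowers y : Subgroup G) : Set G) ≠ ⊤ :=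
    Cfsg.Agent.Lib.Helper11.normalizer_ne_top_of_simple hX1 (pgroup_ne_top hG r _ hXp)
  obtain ⟨H, hH, hNH⟩ := exists_coatom_ge _ hNtop
  obtain ⟨-, hrH, -⟩ := bg14_star_sigmaCore hG hMs hH hrκ hXMs hXc hNH
  obtain ⟨g, hg⟩ := (Cfsg.Agent.S1378.result hG).2 M H hM hH ⟨r, hrσM, hrH⟩
  have hCH : Subgroup.centralizer ((Subgroup.zpowers y : Subgroup G) : Set G) ≤ H :=
    (Subgroup.centralizer_le_normalizer _).trans hNH
  have hHM : H = M := by
    rw [hg]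
    apply bg14_conj_eq_self hG hM hrσM hXp hX1 hXM
    · rw [← hg]; exact Subgroup.le_normalizer.trans hNH
    · rw [← hg]; exact hCH
  apply hxM
  rw [← hHM]
  exact hCX.trans hCH

/-- B & G Theorem 14.4 in the form of statement S1375 -/
theorem bg14_cent_not_le (hG : Cfsg.IsMinSimpleOddOrder G) (M : Subgroup G) (hM : IsCoatom M)
    (x : G) (hx : x ∈ Cfsg.sigmaCore M) (hx1 : x ≠ 1)
    (hxM : ¬ Subgroup.centralizer ({x} : Set G) ≤ M) :
    ∃ N : Subgroup G, (IsCoatom N ∧ Subgroup.centralizer ({x} : Set G) ≤ N) ∧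
      (∀ L : Subgroup G, IsCoatom L → Subgroup.centralizer ({x} : Set G) ≤ L → L = N) ∧
      Cfsg.sigmaCore N = Cfsg.fittingHallOf N ∧
      Subgroup.centralizer ({x} : Set G) ≤ Subgroup.normalizer
        ((Cfsg.sigmaCore N ⊓ Subgroup.centralizer ({x} : Set G) : Subgroup G) : Set G) ∧
      Cfsg.IsComplIn (M ⊓ Subgroup.centralizer ({x} : Set G))
        (Cfsg.sigmaCore N ⊓ Subgroup.centralizer ({x} : Set G))
        (Subgroup.centralizer ({x} : Set G)) ∧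
      Cfsg.IsComplIn (M ⊓ N) (Cfsg.sigmaCore N) N ∧
      ∀ K' U' : Subgroup G, Cfsg.IsSigmaDecomposition N K' U' →
        U' ≠ ⊥ ∧ x ∈ Cfsg.sigmaA N U' ∧ x ∉ Cfsg.sigmaCore N := by
  have hxM' : x ∈ M := sigmaCore_le M hx
  have hsimple : IsSimpleGroup G := hG.2.1
  have hxo : orderOf x ≠ 1 := fun h => hx1 (orderOf_eq_one_iff.mp h)
  obtain ⟨p, hp, hpx⟩ := Nat.exists_prime_and_dvd hxo
  haveI : Fact p.Prime := ⟨hp⟩
  have hyo : orderOf (x ^ (orderOf x / p)) = p :=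
    orderOf_pow_orderOf_div (orderOf_pos x).ne' hpx
  obtain ⟨y, hy⟩ : ∃ y, y = x ^ (orderOf x / p) := ⟨_, rfl⟩
  rw [← hy] at hyo
  have hyσ : y ∈ Cfsg.sigmaCore M := by rw [hy]; exact Subgroup.pow_mem _ hx _
  have hXc : Nat.card (Subgroup.zpowers y) = p := by rw [Nat.card_zpowers, hyo]
  have hXp : IsPGroup p (Subgroup.zpowers y) := IsPGroup.of_card (n := 1) (by rw [hXc, pow_one])
  have hX1 : Subgroup.zpowers y ≠ ⊥ := by
    intro h
    rw [h, Subgroup.card_bot] at hXc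
    exact hp.one_lt.ne hXc
  have hXσ : Subgroup.zpowers y ≤ Cfsg.sigmaCore M := Subgroup.zpowers_le.mpr hyσ
  have hXM : Subgroup.zpowers y ≤ M := hXσ.trans (sigmaCore_le M)
  have hpσ : p ∈ Cfsg.sigma M := bg14_prime_orderOf_sigma hG hM hx hp hpx
  have hCX : Subgroup.centralizer ({x} : Set G) ≤
      Subgroup.centralizer ((Subgroup.zpowers y : Subgroup G) : Set G) := by
    intro c hc
    rw [Subgroup.mem_centralizer_iff]
    intro w hw
    obtain ⟨i, rfl⟩ := Subgroup.mem_zpowers_iff.mp hw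
    have hcx : Commute c x := (Subgroup.mem_centralizer_singleton_iff.mp hc)
    rw [hy]
    exact (((hcx.pow_right _).zpow_right i).eq).symm
  have hCN : Subgroup.centralizer ({x} : Set G) ≤
      Subgroup.normalizer ((Subgroup.zpowers y : Subgroup G) : Set G) :=
    hCX.trans (Subgroup.centralizer_le_normalizer _)
  have hNtop : Subgroup.normalizer ((Subgroup.zpowers y : Subgroup G) : Set G) ≠ ⊤ :=
    Cfsg.Agent.Lib.Helper11.normalizer_ne_top_of_simple hX1 (pgroup_ne_top hG p _ hXp)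
  obtain ⟨Ms, hMs, hNMs⟩ := exists_coatom_ge _ hNtop
  have hCMs : Subgroup.centralizer ({x} : Set G) ≤ Ms := hCN.trans hNMs
  have hne : Ms ≠ M := by
    rintro rfl
    exact hxM hCMs
  obtain ⟨hnc, hτ2, hbot, hdec⟩ := bg14_other_max_ex hG hM hMs hpσ hXp hX1 hXM hne hNMs
  have hxMs : x ∈ Ms := hCMs (Subgroup.mem_centralizer_singleton_iff.mpr rfl)
  obtain ⟨hnorm, hcompl⟩ := bg14_cent_structure hxM' hCMs hbot hdec
  have hEs : Cfsg.IsComplIn (M ⊓ Ms) (Cfsg.sigmaCore Ms) Ms := by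
    refine ⟨inf_le_right, sigmaCore_le Ms, ?_, hdec⟩
    rw [eq_bot_iff, ← hbot]
    rintro w ⟨⟨hw1, -⟩, hw2⟩
    exact Subgroup.mem_inf.mpr ⟨hw2, hw1⟩
  -- `R ≠ 1`
  have hR1 : Cfsg.sigmaCore Ms ⊓ Subgroup.centralizer ({x} : Set G) ≠ ⊥ := by
    intro h
    apply hxM
    intro c hc
    obtain ⟨e, he, n, hn, rfl⟩ := hcompl.2.2.2 c hc
    rw [h, Subgroup.mem_bot] at hn
    rw [hn, mul_one]
    exact he.1
  obtain ⟨⟨z, hz⟩, hz1'⟩ := (Subgroup.ne_bot_iff_exists_ne_one).mp hR1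
  have hz1 : z ≠ 1 := fun e => hz1' (Subtype.ext e)
  obtain ⟨hzσ, hzC⟩ := hz
  have hzx : z * x = x * z := Subgroup.mem_centralizer_singleton_iff.mp hzC
  have hτ : ∀ r : ℕ, r.Prime → r ∣ orderOf x → r ∈ Cfsg.tau2 Ms := fun r hr hrx =>
    bg14_primes_tau2 hG hM hMs hx hxM hCMs hnc hzσ hz1 hzx hr hrx
  -- the `τ₂`-context
  have h16 : T1416 G := fun M hM p _ A hA => Cfsg.Agent.S1416.result hG M hM p A hA
  have h17 : T1417 G := fun M hM p _ hp A hA => Cfsg.Agent.S1417.result hG M hM p hp A hA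
  have nc : NC G :=
    fun H hH s hs hsd hsb => ((Cfsg.Agent.S1414.result hG H hH).2.2.2.2 s hs hsd hsb).1
  obtain ⟨B, hBE, hBe, hB2⟩ := exists_sq_le_compl hG hMs hEs hτ2
  have c : Tau2Ctx Ms (M ⊓ Ms) p B := ⟨hG, h16, h17, hMs, hEs, hτ2, hBE, hBe, hB2⟩
  have hxB := c.tau2elem_centralizes nc (x := x) (Subgroup.mem_inf.mpr ⟨hxM', hxMs⟩) hτ
  have hBC : B ≤ Subgroup.centralizer ({x} : Set G) := by
    intro b hb
    rw [Subgroup.mem_centralizer_singleton_iff]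
    exact (Subgroup.mem_centralizer_iff.mp hxB b hb)
  have hCtop : Subgroup.centralizer ({x} : Set G) ≠ ⊤ :=
    Cfsg.Agent.Lib.Helper11.centralizer_singleton_ne_top hG.2.2.1 hx1
  obtain ⟨-, huniq⟩ := c.unique_of_meets hCtop hBC hR1
  have hnil : Group.IsNilpotent (Cfsg.sigmaCore Ms) :=
    (Cfsg.Agent.S1417.result hG Ms hMs p hτ2 B ⟨hBE.trans inf_le_right, hBe, hB2⟩).1
  refine ⟨Ms, ⟨hMs, hCMs⟩, huniq, bg14_sigmaCore_eq_fittingHallOf hG hMs hnil, hnorm, hcompl,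
    hEs, ?_⟩
  intro K' U' hKU
  have hxσ : x ∉ Cfsg.sigmaCore Ms := by
    intro h
    have : x ∈ Cfsg.sigmaCore Ms ⊓ M := Subgroup.mem_inf.mpr ⟨h, hxM'⟩
    rw [hbot, Subgroup.mem_bot] at this
    exact hx1 this
  have hxV : x ∈ U' ⊔ Cfsg.sigmaCore Ms :=
    bg14_mem_U_sup_sigmaCore hG hMs hKU hxMs (fun q hq hqx hqκ => by
      have h2 := (hτ q hq hqx).2.2.2
      exact h2 (bg14_pRankLE_one_of_kappa hqκ))
  refine ⟨?_, ⟨⟨hxMs, z, hzσ, hz1, hzx.symm⟩, hxV⟩, hxσ⟩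
  rintro rfl
  rw [bot_sup_eq] at hxV
  exact hxσ hxV

end Cfsg.Agent.Lib.Helper13.BG14
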