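import Mathlib
import Cfsg.Prelude.Def_OddOrderLocal
import Cfsg.Agent.Lib.Helper13.BG14N

set_option autoImplicit false

/-! The Prelude's `supportR M x` computed for `x ∈ M_σ^#` (helper13). -/

namespace Cfsg.Agent.Lib.Helper13.BG14

open Cfsg Cfsg.Agent.Lib Cfsg.Agent.Lib.Helper18

variable {G : Type*} [Group G] [Finite G]

omit [Finite G] in
/-- `R(x) = 1` when `C_G(x) ≤ M` -/
theorem bg14_supportR_of_le {M : Subgroup G} {x : G}
    (hC : Subgroup.centralizer ({x} : Set G) ≤ M) : Cfsg.supportR M x = ⊥ := by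
  unfold Cfsg.supportR
  rw [dif_neg]
  exact fun h => h.1 hC

/-- `R(x) = C_{N_σ}(x)` for any maximal `N ≥ C_G(x)` when `C_G(x) ⊄ M` -/
theorem bg14_supportR_eq (hG : Cfsg.IsMinSimpleOddOrder G) {M : Subgroup G} (hM : IsCoatom M)
    {x : G} (hx : x ∈ Cfsg.sigmaCore M) (hx1 : x ≠ 1)
    (hxM : ¬ Subgroup.centralizer ({x} : Set G) ≤ M) {N : Subgroup G} (hN : IsCoatom N)
    (hCN : Subgroup.centralizer ({x} : Set G) ≤ N) :
    Cfsg.supportR M x = Cfsg.sigmaCore N ⊓ Subgroup.centralizer ({x} : Set G) := by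
  obtain ⟨N', ⟨hN', hCN'⟩, huniq, hF, -⟩ := bg14_cent_not_le hG M hM x hx hx1 hxM
  have hNN : N = N' := huniq N hN hCN
  subst hNN
  have h : ¬ Subgroup.centralizer ({x} : Set G) ≤ M ∧
      ∃! L : Subgroup G, IsCoatom L ∧ Subgroup.centralizer ({x} : Set G) ≤ L :=
    ⟨hxM, N, ⟨hN, hCN⟩, fun L hL => huniq L hL.1 hL.2⟩
  unfold Cfsg.supportR
  rw [dif_pos h]
  have hspec := Classical.choose_spec h.2.exists
  have hch : Classical.choose h.2.exists = N := huniq _ hspec.1 hspec.2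
  rw [hch, hF]

/-- in all cases `R(x) ≤ C_G(x)`, is normalized by `C_G(x)`, and complements `C_M(x)` -/
theorem bg14_supportR_compl (hG : Cfsg.IsMinSimpleOddOrder G) {M : Subgroup G} (hM : IsCoatom M)
    {x : G} (hx : x ∈ Cfsg.sigmaCore M) (hx1 : x ≠ 1) :
    Subgroup.centralizer ({x} : Set G) ≤
        Subgroup.normalizer ((Cfsg.supportR M x : Subgroup G) : Set G) ∧
      Cfsg.IsComplIn (M ⊓ Subgroup.centralizer ({x} : Set G)) (Cfsg.supportR M x)
        (Subgroup.centralizer ({x} : Set G)) := by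
  by_cases hxM : Subgroup.centralizer ({x} : Set G) ≤ M
  · rw [bg14_supportR_of_le hxM]
    refine ⟨?_, inf_le_right, bot_le, inf_bot_eq _, ?_⟩
    · rw [Subgroup.normalizer_eq_top_iff.mpr (inferInstance : (⊥ : Subgroup G).Normal)]
      exact le_top
    · intro c hc
      exact ⟨c, Subgroup.mem_inf.mpr ⟨hxM hc, hc⟩, 1, Subgroup.one_mem _, (mul_one c).symm⟩
  · obtain ⟨N, ⟨hN, hCN⟩, -, -, hnorm, hcompl, -⟩ := bg14_cent_not_le hG M hM x hx hx1 hxM
    rw [bg14_supportR_eq hG hM hx hx1 hxM hN hCN]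
    exact ⟨hnorm, hcompl⟩

end Cfsg.Agent.Lib.Helper13.BG14
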