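import Mathlib
import Cfsg.Prelude.Def_OddOrderLocal
import Cfsg.Agent.Lib.Helper13.BG14J

set_option autoImplicit false

/-! The lower bound `|𝒳_M| ≥ |G:M| (|M_σ| - 1)` (helper13). -/

namespace Cfsg.Agent.Lib.Helper13.BG14

open Cfsg Cfsg.Agent.Lib Cfsg.Agent.Lib.Helper18
open Cfsg.Agent.Lib.Helper28.BGt

variable {G : Type*} [Group G] [Finite G]

/-- a base point: some `g` with `g⁻¹ x₁ g ∈ M_σ` -/
noncomputable def bg14Base (M : Subgroup G) (x₁ : G) : G :=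
  open scoped Classical in
  if h : ∃ g : G, g⁻¹ * x₁ * g ∈ Cfsg.sigmaCore M then Classical.choose h else 1

theorem bg14Base_spec {M : Subgroup G} {x₁ : G} (h : ∃ g : G, g⁻¹ * x₁ * g ∈ Cfsg.sigmaCore M) :
    (bg14Base M x₁)⁻¹ * x₁ * bg14Base M x₁ ∈ Cfsg.sigmaCore M := by
  unfold bg14Base
  rw [dif_pos h]
  exact Classical.choose_spec h

/-- the element of `R(x₀)` giving the conjugate `g M g⁻¹` -/
noncomputable def bg14Rep (M : Subgroup G) (x₀ g : G) : G :=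
  open scoped Classical in
  if h : ∃ r : G, r ∈ bg14R M x₀ ∧
      M.map (MulAut.conj r).toMonoidHom = M.map (MulAut.conj g).toMonoidHom
  then Classical.choose h else 1

theorem bg14Rep_spec {M : Subgroup G} {x₀ g : G} (h : ∃ r : G, r ∈ bg14R M x₀ ∧
      M.map (MulAut.conj r).toMonoidHom = M.map (MulAut.conj g).toMonoidHom) :
    bg14Rep M x₀ g ∈ bg14R M x₀ ∧
      M.map (MulAut.conj (bg14Rep M x₀ g)).toMonoidHom = M.map (MulAut.conj g).toMonoidHom := by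
  unfold bg14Rep
  rw [dif_pos h]
  exact Classical.choose_spec h

/-- the injection `(G/M) × M_σ^# → 𝒳_M` -/
noncomputable def bg14Inj (M : Subgroup G)
    (z : (G ⧸ M) × {x : G // x ∈ Cfsg.sigmaCore M ∧ x ≠ 1}) : G :=
  let x₁ := z.1.out * z.2.1 * (z.1.out)⁻¹
  let g₀ := bg14Base M x₁
  let x₀ := g₀⁻¹ * x₁ * g₀
  g₀ * (x₀ * bg14Rep M x₀ (g₀⁻¹ * z.1.out)) * g₀⁻¹

theorem bg14_card_X_ge (hG : Cfsg.IsMinSimpleOddOrder G) {M : Subgroup G} (hM : IsCoatom M) :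
    M.index * (Nat.card (Cfsg.sigmaCore M) - 1) ≤ (bg14X M).ncard := by
  classical
  -- facts about one point
  have facts : ∀ z : (G ⧸ M) × {x : G // x ∈ Cfsg.sigmaCore M ∧ x ≠ 1},
      ∃ x₁ g₀ x₀ r : G, x₁ = z.1.out * z.2.1 * (z.1.out)⁻¹ ∧ g₀ = bg14Base M x₁ ∧
        x₀ = g₀⁻¹ * x₁ * g₀ ∧ r = bg14Rep M x₀ (g₀⁻¹ * z.1.out) ∧
        x₀ ∈ Cfsg.sigmaCore M ∧ x₀ ≠ 1 ∧ r ∈ bg14R M x₀ ∧
        M.map (MulAut.conj r).toMonoidHom = M.map (MulAut.conj (g₀⁻¹ * z.1.out)).toMonoidHom ∧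
        bg14Inj M z = g₀ * (x₀ * r) * g₀⁻¹ := by
    intro z
    obtain ⟨c, ⟨x', hx', hx'1⟩⟩ := z
    have hex : ∃ g : G, g⁻¹ * (c.out * x' * (c.out)⁻¹) * g ∈ Cfsg.sigmaCore M := by
      refine ⟨c.out, ?_⟩
      have : (c.out)⁻¹ * (c.out * x' * (c.out)⁻¹) * c.out = x' := by group
      rw [this]; exact hx'
    have hb := bg14Base_spec hex
    have hx₀1 : (bg14Base M (c.out * x' * (c.out)⁻¹))⁻¹ * (c.out * x' * (c.out)⁻¹) *
        bg14Base M (c.out * x' * (c.out)⁻¹) ≠ 1 := by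
      intro h
      apply hx'1
      have h2 : c.out * x' * (c.out)⁻¹ = 1 := by
        have := congrArg (fun t => bg14Base M (c.out * x' * (c.out)⁻¹) * t *
          (bg14Base M (c.out * x' * (c.out)⁻¹))⁻¹) h
        simpa [mul_assoc] using this
      have := congrArg (fun t => (c.out)⁻¹ * t * c.out) h2
      simpa [mul_assoc] using this
    have hmem : (bg14Base M (c.out * x' * (c.out)⁻¹))⁻¹ * (c.out * x' * (c.out)⁻¹) *
        bg14Base M (c.out * x' * (c.out)⁻¹) ∈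
        M.map (MulAut.conj ((bg14Base M (c.out * x' * (c.out)⁻¹))⁻¹ * c.out)).toMonoidHom := by
      rw [bg14_mem_map_conj]
      have : ((bg14Base M (c.out * x' * (c.out)⁻¹))⁻¹ * c.out)⁻¹ *
          ((bg14Base M (c.out * x' * (c.out)⁻¹))⁻¹ * (c.out * x' * (c.out)⁻¹) *
            bg14Base M (c.out * x' * (c.out)⁻¹)) *
          ((bg14Base M (c.out * x' * (c.out)⁻¹))⁻¹ * c.out) = x' := by group
      rw [this]
      exact sigmaCore_le M hx'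
    obtain ⟨r, hr, -⟩ := (bg14R_spec hG hM hb hx₀1).reg _ hmem
    have hrep := bg14Rep_spec ⟨r, hr⟩
    exact ⟨_, _, _, _, rfl, rfl, rfl, rfl, hb, hx₀1, hrep.1, hrep.2, rfl⟩
  have himg : ∀ z, bg14Inj M z ∈ bg14X M := by
    intro z
    obtain ⟨x₁, g₀, x₀, r, -, -, -, -, hx₀, hx₀1, hr, -, hz⟩ := facts z
    exact ⟨g₀, x₀, r, hx₀, hx₀1, hr, hz⟩
  have hinj : Function.Injective (bg14Inj M) := by
    intro z z' hzz'
    obtain ⟨x₁, g₀, x₀, r, e1, e2, e3, e4, hx₀, hx₀1, hr, hrM, hz⟩ := facts z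
    obtain ⟨x₁', g₀', x₀', r', e1', e2', e3', e4', hx₀', hx₀1', hr', hrM', hz'⟩ := facts z'
    rw [hz, hz'] at hzz'
    -- rewrite as `x₁ * u₁ = x₁' * u₁'`
    have hx₁ : x₁ = g₀ * x₀ * g₀⁻¹ := by rw [e3]; group
    have hx₁' : x₁' = g₀' * x₀' * g₀'⁻¹ := by rw [e3']; group
    have hw : x₁ * (g₀ * r * g₀⁻¹) = x₁' * (g₀' * r' * g₀'⁻¹) := by
      rw [hx₁, hx₁']
      have a1 : g₀ * x₀ * g₀⁻¹ * (g₀ * r * g₀⁻¹) = g₀ * (x₀ * r) * g₀⁻¹ := by group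
      have a2 : g₀' * x₀' * g₀'⁻¹ * (g₀' * r' * g₀'⁻¹) = g₀' * (x₀' * r') * g₀'⁻¹ := by group
      rw [a1, a2, hzz']
    have hcd := bg14R_spec hG hM hx₀ hx₀1
    have hcd' := bg14R_spec hG hM hx₀' hx₀1'
    have hcomm : Commute x₀ r :=
      (Subgroup.mem_centralizer_singleton_iff.mp (hcd.compl.2.1 hr)).symm
    have hcomm' : Commute x₀' r' :=
      (Subgroup.mem_centralizer_singleton_iff.mp (hcd'.compl.2.1 hr')).symm
    have hc1 : Commute x₁ (g₀ * r * g₀⁻¹) := by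
      rw [hx₁]
      have := hcomm.eq
      show g₀ * x₀ * g₀⁻¹ * (g₀ * r * g₀⁻¹) = g₀ * r * g₀⁻¹ * (g₀ * x₀ * g₀⁻¹)
      calc g₀ * x₀ * g₀⁻¹ * (g₀ * r * g₀⁻¹) = g₀ * (x₀ * r) * g₀⁻¹ := by group
        _ = g₀ * (r * x₀) * g₀⁻¹ := by rw [this]
        _ = g₀ * r * g₀⁻¹ * (g₀ * x₀ * g₀⁻¹) := by group
    have hc1' : Commute x₁' (g₀' * r' * g₀'⁻¹) := by
      rw [hx₁']
      have := hcomm'.eq
      show g₀' * x₀' * g₀'⁻¹ * (g₀' * r' * g₀'⁻¹) = g₀' * r' * g₀'⁻¹ * (g₀' * x₀' * g₀'⁻¹)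
      calc g₀' * x₀' * g₀'⁻¹ * (g₀' * r' * g₀'⁻¹) = g₀' * (x₀' * r') * g₀'⁻¹ := by group
        _ = g₀' * (r' * x₀') * g₀'⁻¹ := by rw [this]
        _ = g₀' * r' * g₀'⁻¹ * (g₀' * x₀' * g₀'⁻¹) := by group
    have ho1 : orderOf x₁ = orderOf x₀ := by rw [hx₁]; exact orderOf_conj_h18 g₀ x₀
    have ho1' : orderOf x₁' = orderOf x₀' := by rw [hx₁']; exact orderOf_conj_h18 g₀' x₀'
    have hou : orderOf (g₀ * r * g₀⁻¹) = orderOf r := orderOf_conj_h18 g₀ r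
    have hou' : orderOf (g₀' * r' * g₀'⁻¹) = orderOf r' := orderOf_conj_h18 g₀' r'
    have hcop : (orderOf (g₀ * r * g₀⁻¹) * orderOf (g₀' * r' * g₀'⁻¹)).Coprime
        (orderOf x₁ * orderOf x₁') := by
      rw [ho1, ho1', hou, hou']
      apply Nat.Coprime.mul_left <;> apply Nat.Coprime.mul_right
      · exact bg14_coprime_R_sigma hG hM hx₀ hx₀1 hr hx₀
      · exact bg14_coprime_R_sigma hG hM hx₀ hx₀1 hr hx₀'
      · exact bg14_coprime_R_sigma hG hM hx₀' hx₀1' hr' hx₀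
      · exact bg14_coprime_R_sigma hG hM hx₀' hx₀1' hr' hx₀'
    have hxx : x₁ = x₁' := bg14_sigma_part_unique hw hc1 hc1' (isOfFinOrder_of_finite _)
      (isOfFinOrder_of_finite _) hcop
    have hgg : g₀ = g₀' := by rw [e2, e2', hxx]
    have hx₀₀ : x₀ = x₀' := by rw [e3, e3', hxx, hgg]
    have hrr : r = r' := by
      rw [hxx, hgg] at hw
      have h1 := mul_left_cancel hw
      have h2 := congrArg (fun t => g₀'⁻¹ * t * g₀') h1
      simpa [mul_assoc] using h2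
    -- the cosets agree
    have hM1 : M.map (MulAut.conj (g₀⁻¹ * z.1.out)).toMonoidHom =
        M.map (MulAut.conj (g₀⁻¹ * z'.1.out)).toMonoidHom := by
      rw [← hrM, hrr, hrM', hgg]
    have hmemN := bg14_map_conj_eq_iff.mp hM1
    rw [Cfsg.Agent.Lib.Helper1.BG14.normalizer_coatom hG hM] at hmemN
    have hmem2 : (z.1.out)⁻¹ * z'.1.out ∈ M := by
      have : (g₀⁻¹ * z.1.out)⁻¹ * (g₀⁻¹ * z'.1.out) = (z.1.out)⁻¹ * z'.1.out := by group
      rwa [this] at hmemN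
    have hcc : z.1 = z'.1 := by
      have h1 : ((z.1.out : G) : G ⧸ M) = ((z'.1.out : G) : G ⧸ M) := QuotientGroup.eq.mpr hmem2
      rwa [QuotientGroup.out_eq', QuotientGroup.out_eq'] at h1
    have hx'x' : z.2.1 = z'.2.1 := by
      have h1 : z.1.out * z.2.1 * (z.1.out)⁻¹ = z'.1.out * z'.2.1 * (z'.1.out)⁻¹ := by
        rw [← e1, ← e1', hxx]
      rw [hcc] at h1
      have h2 := congrArg (fun t => (z'.1.out)⁻¹ * t * z'.1.out) h1
      simpa [mul_assoc] using h2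
    exact Prod.ext hcc (Subtype.ext hx'x')
  -- cardinalities
  have hcard : Nat.card ((G ⧸ M) × {x : G // x ∈ Cfsg.sigmaCore M ∧ x ≠ 1}) =
      M.index * (Nat.card (Cfsg.sigmaCore M) - 1) := by
    rw [Nat.card_prod]
    congr 1
    have h1 : {x : G | x ∈ Cfsg.sigmaCore M ∧ x ≠ 1} = (Cfsg.sigmaCore M : Set G) \ {1} := by
      ext x; simp
    have h2 : Nat.card {x : G // x ∈ Cfsg.sigmaCore M ∧ x ≠ 1} =
        ({x : G | x ∈ Cfsg.sigmaCore M ∧ x ≠ 1} : Set G).ncard := by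
      rw [← Nat.card_coe_set_eq]; rfl
    rw [h2, h1, Set.ncard_diff_singleton_of_mem (Subgroup.one_mem _), ← Nat.card_coe_set_eq]
    rfl
  rw [← hcard, ← Nat.card_coe_set_eq]
  exact Nat.card_le_card_of_injective (fun z => (⟨bg14Inj M z, himg z⟩ : ↥(bg14X M)))
    (fun z z' h => hinj (congrArg Subtype.val h))

end Cfsg.Agent.Lib.Helper13.BG14
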