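import Mathlib
import Cfsg.Prelude.Def_OddOrderLocal
import Cfsg.Agent.Lib.Helper10.ThirteenTwo
import Cfsg.Agent.Lib.Helper11.ExcA
import Cfsg.Agent.Lib.Helper11.BenderO
import Cfsg.Agent.Lib.Helper1.BG12.SigmaDisjoint

set_option autoImplicit false

/-! General lemmas for the counting argument (helper13). -/

namespace Cfsg.Agent.Lib.Helper13.BG14

open Cfsg Cfsg.Agent.Lib Cfsg.Agent.Lib.Helper18

variable {G : Type*} [Group G] [Finite G]

/-- for commuting elements of coprime orders, the first factor is a power of the product -/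
theorem bg14_exists_pow_eq_left {a b : G} (h : Commute a b)
    (hcop : (orderOf a).Coprime (orderOf b)) : ∃ m : ℕ, (a * b) ^ m = a := by
  rcases Nat.lt_or_ge 1 (orderOf a) with h1 | h1
  · obtain ⟨k, -, hk⟩ := Nat.exists_mul_mod_eq_one_of_coprime hcop.symm h1
    refine ⟨orderOf b * k, ?_⟩
    rw [h.mul_pow]
    have hb : b ^ (orderOf b * k) = 1 := by rw [pow_mul, pow_orderOf_eq_one, one_pow]
    have ha : a ^ (orderOf b * k) = a := by
      rw [← pow_mod_orderOf, hk, pow_one]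
    rw [ha, hb, mul_one]
  · have ha1 : orderOf a = 1 := le_antisymm h1 (orderOf_pos a)
    have ha : a = 1 := orderOf_eq_one_iff.mp ha1
    refine ⟨orderOf b, ?_⟩
    rw [ha, one_mul, pow_orderOf_eq_one]

/-- lower bound for the number of conjugates of a TI-set with normalizer in `T` -/
theorem bg14_ti_count_ge (T : Subgroup G) (W : Set G)
    (hTI : ∀ w ∈ W, ∀ g : G, g * w * g⁻¹ ∈ W → g ∈ T) :
    T.index * W.ncard ≤ ({a | ∃ g : G, ∃ w ∈ W, a = g * w * g⁻¹} : Set G).ncard := by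
  classical
  rw [Subgroup.index, ← Nat.card_coe_set_eq W,
    ← Nat.card_coe_set_eq {a | ∃ g : G, ∃ w ∈ W, a = g * w * g⁻¹}, ← Nat.card_prod]
  let f : (G ⧸ T) × W → {a | ∃ g : G, ∃ w ∈ W, a = g * w * g⁻¹} := fun z =>
    ⟨z.1.out * z.2.1 * (z.1.out)⁻¹, z.1.out, z.2.1, z.2.2, rfl⟩
  apply Nat.card_le_card_of_injective f
  rintro ⟨c, ⟨w, hw⟩⟩ ⟨c', ⟨w', hw'⟩⟩ hff
  have h1 : c.out * w * (c.out)⁻¹ = c'.out * w' * (c'.out)⁻¹ := congrArg Subtype.val hff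
  have h2 : ((c'.out)⁻¹ * c.out) * w * ((c'.out)⁻¹ * c.out)⁻¹ = w' := by
    calc ((c'.out)⁻¹ * c.out) * w * ((c'.out)⁻¹ * c.out)⁻¹
        = (c'.out)⁻¹ * (c.out * w * (c.out)⁻¹) * c'.out := by group
      _ = (c'.out)⁻¹ * (c'.out * w' * (c'.out)⁻¹) * c'.out := by rw [h1]
      _ = w' := by group
  have h3 : (c'.out)⁻¹ * c.out ∈ T := hTI w hw _ (h2 ▸ hw')
  have hcc : c' = c := by
    rw [← QuotientGroup.out_eq' c', ← QuotientGroup.out_eq' c]
    exact QuotientGroup.eq.mpr h3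
  subst hcc
  have hww : w = w' := by
    have : c'.out * w * (c'.out)⁻¹ = c'.out * w' * (c'.out)⁻¹ := h1
    exact mul_left_cancel (mul_right_cancel this)
  subst hww
  rfl

/-- exact number of conjugates of a `T`-invariant TI-set with normalizer in `T` -/
theorem bg14_ti_count_eq (T : Subgroup G) (W : Set G)
    (hTI : ∀ w ∈ W, ∀ g : G, g * w * g⁻¹ ∈ W → g ∈ T)
    (hinv : ∀ w ∈ W, ∀ t ∈ T, t * w * t⁻¹ ∈ W) :
    ({a | ∃ g : G, ∃ w ∈ W, a = g * w * g⁻¹} : Set G).ncard = T.index * W.ncard := by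
  classical
  apply le_antisymm _ (bg14_ti_count_ge T W hTI)
  rw [Subgroup.index, ← Nat.card_coe_set_eq W,
    ← Nat.card_coe_set_eq {a | ∃ g : G, ∃ w ∈ W, a = g * w * g⁻¹}, ← Nat.card_prod]
  let f : (G ⧸ T) × W → {a | ∃ g : G, ∃ w ∈ W, a = g * w * g⁻¹} := fun z =>
    ⟨z.1.out * z.2.1 * (z.1.out)⁻¹, z.1.out, z.2.1, z.2.2, rfl⟩
  apply Nat.card_le_card_of_surjective f
  rintro ⟨a, g, w, hw, rfl⟩
  have h1 : g⁻¹ * (QuotientGroup.mk g : G ⧸ T).out ∈ T := by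
    apply QuotientGroup.eq.mp
    exact (QuotientGroup.out_eq' _).symm
  have h2 : (QuotientGroup.mk g : G ⧸ T).out⁻¹ * g ∈ T := by
    have := T.inv_mem h1
    rwa [mul_inv_rev, inv_inv] at this
  have hw' := hinv w hw _ h2
  refine ⟨⟨QuotientGroup.mk g, ⟨_, hw'⟩⟩, ?_⟩
  apply Subtype.ext
  show (QuotientGroup.mk g : G ⧸ T).out * ((QuotientGroup.mk g : G ⧸ T).out⁻¹ * g * w *
    ((QuotientGroup.mk g : G ⧸ T).out⁻¹ * g)⁻¹) * ((QuotientGroup.mk g : G ⧸ T).out)⁻¹ = g * w * g⁻¹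
  group

/-- `τ₂` is invariant under conjugation -/
theorem bg14_tau2_of_map_conj {M : Subgroup G} {g : G} {p : ℕ}
    (h : p ∈ Cfsg.tau2 (M.map (MulAut.conj g).toMonoidHom)) : p ∈ Cfsg.tau2 M := by
  obtain ⟨hp, hσ, h2, h1⟩ := h
  refine ⟨hp, ?_, ?_, ?_⟩
  · intro hpM
    exact hσ (Cfsg.Agent.Lib.Helper1.BG12.sigma_conjSub M p hpM g)
  · have := Cfsg.Agent.Lib.Helper10.ThirteenTwo.pRankLE_conjSub g⁻¹ h2
    rwa [Cfsg.Agent.Lib.Helper11.ExcA.cjInvCj] at this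
  · intro h
    exact h1 (Cfsg.Agent.Lib.Helper10.ThirteenTwo.pRankLE_conjSub g h)

/-- a `σ(M)`-subgroup of `M` lies in `M_σ` -/
theorem bg14_le_sigmaCore_of_sigma_group (hG : Cfsg.IsMinSimpleOddOrder G) {M X : Subgroup G}
    (hM : IsCoatom M) (hXM : X ≤ M)
    (hX : ∀ p : ℕ, p.Prime → p ∣ Nat.card X → p ∈ Cfsg.sigma M) : X ≤ Cfsg.sigmaCore M := by
  obtain ⟨hH, -, -⟩ := Cfsg.Agent.Lib.Helper11.BenderO.sigma_hall hG M hM
  apply Cfsg.Agent.Lib.Helper1.BG12.le_of_normal_coprime M (Cfsg.sigmaCore M) X hH.1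
    (Cfsg.Agent.Lib.Helper1.BG12.le_normalizer_sigmaCore M) hXM
  apply Nat.coprime_of_dvd
  intro p hp h1 h2
  exact hH.2.2 p hp (hX p hp h1) h2

end Cfsg.Agent.Lib.Helper13.BG14
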