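import Mathlib
import Cfsg.Prelude.Def_OddOrderLocal
import Cfsg.Agent.Lib.Helper13.BG14L
import Cfsg.Agent.Lib.Helper10.KappaTauI
import Cfsg.Agent.Lib.Helper21.BG13o
import Cfsg.Agent.Lib.Helper21.BG13p

set_option autoImplicit false

/-! B & G Lemma 13.10 in the form `Nonreg1310`, assembled from helper10's `KappaTau.Ctx.cent_eq`
and helper21's `BG13o`/`BG13p`; B & G Theorem 14.2 (S1430) unconditionally (helper13). -/

namespace Cfsg.Agent.Lib.Helper13.BG14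

open Cfsg Cfsg.Agent.Lib.Helper18 Cfsg.Agent.Lib.Helper28.BGt
open Cfsg.Agent.Lib.Helper11.BenderE Cfsg.Agent.Lib.Helper11.MaxSubD

variable {G : Type*} [Group G] [Finite G]

theorem bg14_nonreg1310 (hG : Cfsg.IsMinSimpleOddOrder G) {M : Subgroup G} (hM : IsCoatom M) :
    Nonreg1310 M := by
  intro E p hE hpκ hp3
  haveI : Fact p.Prime := ⟨hpκ.1⟩
  have hsimple : IsSimpleGroup G := hG.2.1
  have hpE : p ∣ Nat.card E := by
    have h1 := Cfsg.Agent.Lib.Helper1.BG15.card_of_isComplIn hE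
    have h2 : p ∣ Nat.card E * Nat.card (Cfsg.sigmaCore M) := h1 ▸ hpκ.2.1
    rcases (Nat.Prime.dvd_mul hpκ.1).mp h2 with h | h
    · exact h
    · exact absurd (prime_sigmaCore hG hM hpκ.1 h) hpκ.2.2.1
  obtain ⟨x, hx⟩ := exists_prime_orderOf_dvd_card' p hpE
  have hxo : orderOf (x : G) = p := by rw [Subgroup.orderOf_coe]; exact hx
  have hPE : Subgroup.zpowers (x : G) ≤ E := Subgroup.zpowers_le.mpr x.2
  have hPc : Nat.card (Subgroup.zpowers (x : G)) = p := by rw [Nat.card_zpowers, hxo]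
  have hPp : IsPGroup p (Subgroup.zpowers (x : G)) :=
    IsPGroup.of_card (n := 1) (by rw [hPc, pow_one])
  have hP1 : Subgroup.zpowers (x : G) ≠ ⊥ := by
    intro h
    rw [h, Subgroup.card_bot] at hPc
    exact hpκ.1.one_lt.ne hPc
  have hY := bg14_kappa_fixed_sub hpκ (hPE.trans hE.1) hPc
  have hNtop : Subgroup.normalizer ((Subgroup.zpowers (x : G) : Subgroup G) : Set G) ≠ ⊤ :=
    Cfsg.Agent.Lib.Helper11.normalizer_ne_top_of_simple hP1 (pgroup_ne_top hG p _ hPp)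
  obtain ⟨H, hH, hNP⟩ := exists_coatom_ge _ hNtop
  have c : Cfsg.Agent.Lib.Helper10.KappaTau.Ctx M E (Subgroup.zpowers (x : G)) H p :=
    ⟨hG, hM, hE, hpκ, hp3, hPE, hPc, hH, hNP⟩
  obtain ⟨r, Er, e, hr, hrτ, hEr, heEr, heP⟩ := c.exists_moving
  haveI : Fact r.Prime := ⟨hr⟩
  have he1 : e ≠ 1 := by
    rintro rfl
    exact heP (Subgroup.one_mem _)
  obtain ⟨k, hk⟩ := (IsPGroup.iff_orderOf.mp hEr.isPGroup) ⟨e, heEr⟩
  have heo : orderOf e = r ^ k := by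
    rw [← hk]; exact (Subgroup.orderOf_mk e heEr).symm
  have hk0 : k ≠ 0 := by
    intro h
    rw [h, pow_zero] at heo
    exact he1 (orderOf_eq_one_iff.mp heo)
  have hrd : r ∣ orderOf e := by rw [heo]; exact dvd_pow_self r hk0
  have hzo : orderOf (e ^ (orderOf e / r)) = r :=
    orderOf_pow_orderOf_div (orderOf_pos e).ne' hrd
  have hzEr : e ^ (orderOf e / r) ∈ Er := Er.pow_mem heEr _
  have hzE : e ^ (orderOf e / r) ∈ E := hEr.le hzEr
  have hPA := Cfsg.Agent.Lib.Helper21.BG13o.prime_action_pa1 hG hM hE c.tau2_empty hp3 hPE hPc hrτ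
    hzE hzo
  have hzP := c.cent_eq hrτ hEr heEr heP hzEr hzo hPA
  have h2 := Cfsg.Agent.Lib.Helper21.BG13o.prime_action_pa2 hG hM hE c.tau2_empty hp3 hPE hPc hrτ
    hzE hzo hzP
  obtain ⟨h1, h3⟩ :=
    Cfsg.Agent.Lib.Helper21.BG13p.nonreg_of_prime_action hG hM hE hp3 hPE hPc hY h2
  exact ⟨h1, h2, h3⟩

/-- **B & G Theorem 14.2** (statement S1430), unconditionally -/
theorem bg14_two_uncond (hG : Cfsg.IsMinSimpleOddOrder G) {M K : Subgroup G} (hM : IsCoatom M)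
    (hK : Cfsg.IsPiHallOf (Cfsg.kappa M) K M) (hK1 : K ≠ ⊥) :
    (∀ k ∈ K, k ≠ 1 → Cfsg.sigmaCore M ⊓ Subgroup.centralizer ({k} : Set G) =
        (Cfsg.sigmaCore M ⊓ Subgroup.centralizer (K : Set G))) ∧
      (∃ U : Subgroup G, IsMulCommutative U ∧
        Cfsg.IsPiHallOf {q | q.Prime ∧ q ∉ Cfsg.kappa M ∧ q ∉ Cfsg.sigma M} U M ∧
        K ≤ Subgroup.normalizer (U : Set G) ∧
        ∀ k ∈ K, k ≠ 1 → U ⊓ Subgroup.centralizer ({k} : Set G) = ⊥) ∧
      ∀ X : Subgroup G, X ≤ K → (Nat.card X).Prime →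
        M ⊓ Subgroup.normalizer (X : Set G) =
            K ⊔ (Cfsg.sigmaCore M ⊓ Subgroup.centralizer (K : Set G)) ∧
          M ⊓ Subgroup.normalizer (K : Set G) =
            K ⊔ (Cfsg.sigmaCore M ⊓ Subgroup.centralizer (K : Set G)) ∧
          ∀ Mstar : Subgroup G, IsCoatom Mstar → Subgroup.normalizer (X : Set G) ≤ Mstar →
            X ≤ Cfsg.sigmaCore Mstar :=
  bg14_two_final hG hM hK hK1 (bg14_nonreg1310 hG hM)

end Cfsg.Agent.Lib.Helper13.BG14
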