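import Mathlib
import Cfsg.Prelude.Def_OddOrderLocal
import Cfsg.Agent.Lib.Helper13.BG14K
import Cfsg.Agent.Lib.Helper13.BG14P
import Cfsg.Agent.S1378

set_option autoImplicit false

/-! The cycle count (B & G Theorem 14.7-style counting): element-level lemmas (helper13). -/

namespace Cfsg.Agent.Lib.Helper13.BG14

open Cfsg Cfsg.Agent.Lib Cfsg.Agent.Lib.Helper18
open Cfsg.Agent.Lib.Helper28.BGt

variable {G : Type*} [Group G] [Finite G]

/-- hypotheses of the cycle count -/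
structure CycleHyp {ι : Type*} (Mi : ι → Subgroup G) (T : Subgroup G) : Prop where
  hG : Cfsg.IsMinSimpleOddOrder G
  hco : ∀ i, IsCoatom (Mi i)
  hnc : ∀ i j, i ≠ j → ∀ g : G, Mi j ≠ (Mi i).map (MulAut.conj g).toMonoidHom
  hT : ∀ i, T ≤ Mi i
  hfac : ∀ i, ∀ m ∈ Mi i, ∃ s ∈ Cfsg.sigmaCore (Mi i), ∃ t ∈ T, m = s * t
  hprop : ∀ i, ¬ Cfsg.sigmaCore (Mi i) ≤ T
  hcent : ∀ i, ∀ x ∈ T ⊓ Cfsg.sigmaCore (Mi i), x ≠ 1 →
    Subgroup.centralizer ({x} : Set G) ≤ Mi i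
  hinf : ∀ i j, i ≠ j → Cfsg.sigmaCore (Mi i) ⊓ Mi j ≤ T
  htau2 : ∀ i p, p ∉ Cfsg.tau2 (Mi i)
  hpr : ∀ p : ℕ, p.Prime → p ∣ Nat.card T → ∃ i, p ∈ Cfsg.sigma (Mi i)

namespace CycleHyp

variable {ι : Type*} {Mi : ι → Subgroup G} {T : Subgroup G}

/-- the set `𝒲` of elements of `T` outside all `(M_i)_σ` -/
def W (_c : CycleHyp Mi T) : Set G := {w | w ∈ T ∧ ∀ i, w ∉ Cfsg.sigmaCore (Mi i)}

/-- the union of the conjugates of `𝒲` -/
def WG (c : CycleHyp Mi T) : Set G := {a | ∃ g : G, ∃ w ∈ c.W, a = g * w * g⁻¹}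

theorem sigma_disjoint (c : CycleHyp Mi T) {i j : ι} (hij : i ≠ j) {p : ℕ}
    (hi : p ∈ Cfsg.sigma (Mi i)) (hj : p ∈ Cfsg.sigma (Mi j)) : False := by
  obtain ⟨g, hg⟩ := (Cfsg.Agent.S1378.result c.hG).2 (Mi i) (Mi j) (c.hco i) (c.hco j) ⟨p, hi, hj⟩
  exact c.hnc i j hij g hg

theorem inter_le (c : CycleHyp Mi T) {i j : ι} (hij : i ≠ j) : Mi i ⊓ Mi j ≤ T := by
  rintro m ⟨hmi, hmj⟩
  obtain ⟨s, hs, t, ht, rfl⟩ := c.hfac i m hmi
  have hsj : s ∈ Mi j := by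
    have : s = s * t * t⁻¹ := by group
    rw [this]
    exact (Mi j).mul_mem hmj ((Mi j).inv_mem (c.hT j ht))
  exact T.mul_mem (c.hinf i j hij (Subgroup.mem_inf.mpr ⟨hs, hsj⟩)) ht

/-- an element of `T` all of whose prime divisors lie in `σ(M_i)` lies in `(M_i)_σ` -/
theorem mem_sigmaCore_of_primes (c : CycleHyp Mi T) (i : ι) {w : G} (hwM : w ∈ Mi i)
    (hw : ∀ p : ℕ, p.Prime → p ∣ orderOf w → p ∈ Cfsg.sigma (Mi i)) :
    w ∈ Cfsg.sigmaCore (Mi i) := by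
  have := bg14_le_sigmaCore_of_sigma_group c.hG (c.hco i) (X := Subgroup.zpowers w)
    (Subgroup.zpowers_le.mpr hwM) (by
      intro p hp hpd
      rw [Nat.card_zpowers] at hpd
      exact hw p hp hpd)
  exact this (Subgroup.mem_zpowers w)

/-- conjugating a non-identity element of `T ∩ (M_i)_σ` into `M_i` can only be done inside `M_i` -/
theorem mem_of_conj_mem (c : CycleHyp Mi T) (i : ι) {a g : G} (haT : a ∈ T)
    (ha : a ∈ Cfsg.sigmaCore (Mi i)) (ha1 : a ≠ 1) (hg : g * a * g⁻¹ ∈ Mi i) : g ∈ Mi i := by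
  have hC := c.hcent i a (Subgroup.mem_inf.mpr ⟨haT, ha⟩) ha1
  have h1 : a ∈ (Mi i).map (MulAut.conj g⁻¹).toMonoidHom := by
    rw [bg14_mem_map_conj, inv_inv]
    exact hg
  have h2 := bg14_only_conj c.hG (c.hco i) ha ha1 hC h1
  have := (Mi i).inv_mem h2
  rwa [inv_inv] at this

/-- the TI-property of `𝒲` -/
theorem ti (c : CycleHyp Mi T) (i₀ : ι) {w : G} (hw : w ∈ c.W) {g : G}
    (hg : g * w * g⁻¹ ∈ T) : g ∈ T := by
  obtain ⟨hwT, hwσ⟩ := hw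
  have hw1 : w ≠ 1 := by
    rintro rfl
    exact hwσ i₀ (Subgroup.one_mem _)
  have hwo : orderOf w ≠ 1 := fun h => hw1 (orderOf_eq_one_iff.mp h)
  have hoT : orderOf w ∣ Nat.card T := Subgroup.orderOf_dvd_natCard T hwT
  -- a general fact: for a prime `p ∈ σ(M_i)` dividing `|w|`, `g ∈ M_i`
  have key : ∀ (p : ℕ) (i : ι), p.Prime → p ∣ orderOf w → p ∈ Cfsg.sigma (Mi i) → g ∈ Mi i := by
    intro p i hp hpw hpσ
    haveI : Fact p.Prime := ⟨hp⟩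
    have hao : orderOf (w ^ (orderOf w / p)) = p :=
      orderOf_pow_orderOf_div (orderOf_pos w).ne' hpw
    have haT : w ^ (orderOf w / p) ∈ T := T.pow_mem hwT _
    have ha1 : w ^ (orderOf w / p) ≠ 1 := by
      intro h
      rw [h, orderOf_one] at hao
      exact hp.one_lt.ne hao
    have haσ : w ^ (orderOf w / p) ∈ Cfsg.sigmaCore (Mi i) := by
      apply c.mem_sigmaCore_of_primes i (c.hT i haT)
      intro q hq hqd
      rw [hao] at hqd
      rwa [(Nat.prime_dvd_prime_iff_eq hq hp).mp hqd]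
    apply c.mem_of_conj_mem i haT haσ ha1
    have : g * w ^ (orderOf w / p) * g⁻¹ = (g * w * g⁻¹) ^ (orderOf w / p) := by
      rw [conj_pow]
    rw [this]
    exact c.hT i (T.pow_mem hg _)
  obtain ⟨p, hp, hpw⟩ := Nat.exists_prime_and_dvd hwo
  obtain ⟨i, hpi⟩ := c.hpr p hp (hpw.trans hoT)
  have hgi : g ∈ Mi i := key p i hp hpw hpi
  -- another prime outside `σ(M_i)`
  have hex : ∃ q : ℕ, q.Prime ∧ q ∣ orderOf w ∧ q ∉ Cfsg.sigma (Mi i) := by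
    by_contra hcon
    push Not at hcon
    exact hwσ i (c.mem_sigmaCore_of_primes i (c.hT i hwT) hcon)
  obtain ⟨q, hq, hqw, hqi⟩ := hex
  obtain ⟨j, hqj⟩ := c.hpr q hq (hqw.trans hoT)
  have hij : i ≠ j := by
    rintro rfl
    exact hqi hqj
  have hgj : g ∈ Mi j := key q j hq hqw hqj
  exact c.inter_le hij (Subgroup.mem_inf.mpr ⟨hgi, hgj⟩)

end CycleHyp

/-- for `x ∈ M_σ^#` and `u ∈ R(x)`: `x` is a power of `x u` -/
theorem bg14_exists_pow_eq_sigma_part (hG : Cfsg.IsMinSimpleOddOrder G) {M : Subgroup G}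
    (hM : IsCoatom M) {x u : G} (hx : x ∈ Cfsg.sigmaCore M) (hx1 : x ≠ 1)
    (hu : u ∈ bg14R M x) : Commute x u ∧ ∃ m : ℕ, (x * u) ^ m = x := by
  have hspec := bg14R_spec hG hM hx hx1
  have hcomm : Commute x u := by
    have := Subgroup.mem_centralizer_singleton_iff.mp (hspec.compl.2.1 hu)
    exact this.symm
  refine ⟨hcomm, bg14_exists_pow_eq_left hcomm ?_⟩
  exact (bg14_coprime_R_sigma hG hM hx hx1 hu hx).symm

/-- `1 ∉ 𝒳_M` -/
theorem bg14_one_notMem_X (hG : Cfsg.IsMinSimpleOddOrder G) {M : Subgroup G}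
    (hM : IsCoatom M) : (1 : G) ∉ bg14X M := by
  rintro ⟨g, x, u, hx, hx1, hu, h1⟩
  obtain ⟨-, m, hm⟩ := bg14_exists_pow_eq_sigma_part hG hM hx hx1 hu
  have h2 : x * u = 1 := by
    have : x * u = g⁻¹ * (g * (x * u) * g⁻¹) * g := by group
    rw [this, ← h1]; group
  rw [h2, one_pow] at hm
  exact hx1 hm.symm

namespace CycleHyp

variable {ι : Type*} {Mi : ι → Subgroup G} {T : Subgroup G}

/-- `𝒳_{M_i}` does not meet the conjugates of `𝒲` -/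
theorem disj_X_W (c : CycleHyp Mi T) (i : ι) {v : G} (hvX : v ∈ bg14X (Mi i)) (hvW : v ∈ c.WG) :
    False := by
  obtain ⟨g, x, u, hx, hx1, hu, hv⟩ := hvX
  obtain ⟨h, w, hw, hv'⟩ := hvW
  have hM := c.hco i
  obtain ⟨hcomm, m, hm⟩ := bg14_exists_pow_eq_sigma_part c.hG hM hx hx1 hu
  -- `w = k (x u) k⁻¹`
  obtain ⟨k, hk⟩ : ∃ k : G, k = h⁻¹ * g := ⟨_, rfl⟩
  have hwk : w = k * (x * u) * k⁻¹ := by
    have : w = h⁻¹ * (h * w * h⁻¹) * h := by group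
    rw [this, ← hv', hv, hk]; group
  have hx₁ : k * x * k⁻¹ = w ^ m := by
    rw [hwk, conj_pow, hm]
  have hx₁T : k * x * k⁻¹ ∈ T := by rw [hx₁]; exact T.pow_mem hw.1 _
  have hord : orderOf (k * x * k⁻¹) = orderOf x := by
    have := (MulAut.conj k).orderOf_eq x
    rwa [MulAut.conj_apply] at this
  have hx₁σ : k * x * k⁻¹ ∈ Cfsg.sigmaCore (Mi i) := by
    apply c.mem_sigmaCore_of_primes i (c.hT i hx₁T)
    intro p hp hpd
    rw [hord] at hpd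
    exact bg14_prime_orderOf_sigma c.hG hM hx hp hpd
  have hx₁1 : k * x * k⁻¹ ≠ 1 := by
    intro h1
    apply hx1
    have : x = k⁻¹ * (k * x * k⁻¹) * k := by group
    rw [this, h1]; group
  -- `k⁻¹ ∈ M_i`
  have hkM : k⁻¹ ∈ Mi i := by
    apply c.mem_of_conj_mem i hx₁T hx₁σ hx₁1
    have : k⁻¹ * (k * x * k⁻¹) * k⁻¹⁻¹ = x := by group
    rw [this]
    exact sigmaCore_le _ hx
  have hkM' : k ∈ Mi i := by
    have := (Mi i).inv_mem hkM
    rwa [inv_inv] at this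
  -- hence `C_G(x) ≤ M_i`
  have hC₁ := c.hcent i _ (Subgroup.mem_inf.mpr ⟨hx₁T, hx₁σ⟩) hx₁1
  have hC : Subgroup.centralizer ({x} : Set G) ≤ Mi i := by
    intro z hz
    have hzx : z * x = x * z := Subgroup.mem_centralizer_singleton_iff.mp hz
    have h1 : k * z * k⁻¹ ∈ Subgroup.centralizer ({k * x * k⁻¹} : Set G) := by
      rw [Subgroup.mem_centralizer_singleton_iff]
      calc k * z * k⁻¹ * (k * x * k⁻¹) = k * (z * x) * k⁻¹ := by group
        _ = k * (x * z) * k⁻¹ := by rw [hzx]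
        _ = k * x * k⁻¹ * (k * z * k⁻¹) := by group
    have h2 := hC₁ h1
    have : z = k⁻¹ * (k * z * k⁻¹) * k := by group
    rw [this]
    exact (Mi i).mul_mem ((Mi i).mul_mem hkM h2) hkM'
  have hu1 : u = 1 := by
    have := bg14R_eq_bot c.hG hM hx hx1 hC
    rw [this, Subgroup.mem_bot] at hu
    exact hu
  apply hw.2 i
  rw [hwk, hu1, mul_one]
  exact hx₁σ

/-- `𝒳_{M_i}` and `𝒳_{M_j}` are disjoint for `i ≠ j` -/
theorem disj_X_X (c : CycleHyp Mi T) {i j : ι} (hij : i ≠ j) {v : G}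
    (hvi : v ∈ bg14X (Mi i)) (hvj : v ∈ bg14X (Mi j)) : False := by
  obtain ⟨g, x, u, hx, hx1, hu, hv⟩ := hvi
  obtain ⟨h, x', u', hx', hx'1, hu', hv'⟩ := hvj
  have hMi := c.hco i
  have hMj := c.hco j
  obtain ⟨hcomm, m, hm⟩ := bg14_exists_pow_eq_sigma_part c.hG hMi hx hx1 hu
  obtain ⟨hcomm', -, -⟩ := bg14_exists_pow_eq_sigma_part c.hG hMj hx' hx'1 hu'
  obtain ⟨k, hk⟩ : ∃ k : G, k = h⁻¹ * g := ⟨_, rfl⟩
  have hvk : x' * u' = k * (x * u) * k⁻¹ := by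
    have : x' * u' = h⁻¹ * (h * (x' * u') * h⁻¹) * h := by group
    rw [this, ← hv', hv, hk]; group
  have hx₁ : k * x * k⁻¹ = (x' * u') ^ m := by
    rw [hvk, conj_pow, hm]
  have hord : orderOf (k * x * k⁻¹) = orderOf x := by
    have := (MulAut.conj k).orderOf_eq x
    rwa [MulAut.conj_apply] at this
  have hx₁1 : k * x * k⁻¹ ≠ 1 := by
    intro h1
    apply hx1
    have : x = k⁻¹ * (k * x * k⁻¹) * k := by group
    rw [this, h1]; group
  -- coprimality of `|x|` and `|x'|`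
  have hcop : (orderOf x').Coprime (orderOf (k * x * k⁻¹)) := by
    rw [hord]
    apply Nat.coprime_of_dvd
    intro p hp h1 h2
    exact c.sigma_disjoint hij (bg14_prime_orderOf_sigma c.hG hMi hx hp h2)
      (bg14_prime_orderOf_sigma c.hG hMj hx' hp h1)
  -- `x₁ ^ |x'| ∈ R_j(x')`
  have hpow : (k * x * k⁻¹) ^ orderOf x' ∈ bg14R (Mi j) x' := by
    rw [hx₁, ← pow_mul, hcomm'.mul_pow]
    have : x' ^ (m * orderOf x') = 1 := by
      rw [mul_comm, pow_mul, pow_orderOf_eq_one, one_pow]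
    rw [this, one_mul]
    exact Subgroup.pow_mem _ hu' _
  obtain ⟨e, he⟩ := exists_pow_eq_self_of_coprime hcop
  have hx₁R : k * x * k⁻¹ ∈ bg14R (Mi j) x' := by
    rw [← he]
    exact Subgroup.pow_mem _ hpow _
  have hR1 : bg14R (Mi j) x' ≠ ⊥ := by
    intro hbot
    rw [hbot, Subgroup.mem_bot] at hx₁R
    exact hx₁1 hx₁R
  obtain ⟨Ms, hMs, hRMs, -, p, -, hpτ⟩ := (bg14R_spec c.hG hMj hx' hx'1).other hR1
  have hx₁Ms : k * x * k⁻¹ ∈ Cfsg.sigmaCore Ms := hRMs hx₁R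
  have ho1 : orderOf (k * x * k⁻¹) ≠ 1 := fun h => hx₁1 (orderOf_eq_one_iff.mp h)
  obtain ⟨r, hr, hrd⟩ := Nat.exists_prime_and_dvd ho1
  have hrMs : r ∈ Cfsg.sigma Ms := bg14_prime_orderOf_sigma c.hG hMs hx₁Ms hr hrd
  have hrMi : r ∈ Cfsg.sigma (Mi i) := by
    rw [hord] at hrd
    exact bg14_prime_orderOf_sigma c.hG hMi hx hr hrd
  obtain ⟨a, ha⟩ := (Cfsg.Agent.S1378.result c.hG).2 (Mi i) Ms hMi hMs ⟨r, hrMi, hrMs⟩
  rw [ha] at hpτ
  exact c.htau2 i p (bg14_tau2_of_map_conj hpτ)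

end CycleHyp

end Cfsg.Agent.Lib.Helper13.BG14
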