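import Mathlib
import Cfsg.Prelude.Def_OddOrderLocal
import Cfsg.Agent.Lib.Helper13.BG14Q
import Cfsg.Agent.Lib.Helper1.BG12b.RegLineA

set_option autoImplicit false

/-! The cycle count: cardinalities and the final contradiction (helper13). -/

namespace Cfsg.Agent.Lib.Helper13.BG14

open Cfsg Cfsg.Agent.Lib Cfsg.Agent.Lib.Helper18
open Cfsg.Agent.Lib.Helper28.BGt

variable {G : Type*} [Group G] [Finite G]

namespace CycleHyp

variable {ι : Type*} {Mi : ι → Subgroup G} {T : Subgroup G}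

/-- the numerical data of one member of the cycle -/
theorem card_data (c : CycleHyp Mi T) (i : ι) :
    ∃ r : ℕ, 3 ≤ r ∧
      Nat.card (Cfsg.sigmaCore (Mi i)) = Nat.card ↥(T ⊓ Cfsg.sigmaCore (Mi i)) * r ∧
      (Mi i).index * r = T.index := by
  obtain ⟨r, hr⟩ : ∃ r, r = (T ⊓ Cfsg.sigmaCore (Mi i)).relIndex (Cfsg.sigmaCore (Mi i)) :=
    ⟨_, rfl⟩
  have h1 : Nat.card ↥(T ⊓ Cfsg.sigmaCore (Mi i)) * r = Nat.card (Cfsg.sigmaCore (Mi i)) := by
    rw [hr]
    exact Cfsg.Agent.Lib.Helper1.BG12.card_mul_relIndex_of_le inf_le_right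
  have hTN : T ≤ Subgroup.normalizer (Cfsg.sigmaCore (Mi i) : Set G) :=
    (c.hT i).trans (le_normalizer_sigmaCore (Mi i))
  have hsup : T ⊔ Cfsg.sigmaCore (Mi i) = Mi i := by
    apply le_antisymm (sup_le (c.hT i) (sigmaCore_le (Mi i)))
    intro m hm
    obtain ⟨s, hs, t, ht, rfl⟩ := c.hfac i m hm
    exact Subgroup.mul_mem _ (Subgroup.mem_sup_right hs) (Subgroup.mem_sup_left ht)
  have h2 : Nat.card (Mi i) = Nat.card T * r := by
    have := Cfsg.Agent.Lib.Helper1.BG12b.card_sup_of_le_normalizer hTN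
    rw [hsup, ← Subgroup.inf_relIndex_right, ← hr] at this
    exact this
  have h3 : (Mi i).index * Nat.card (Mi i) = Nat.card G := Subgroup.index_mul_card _
  have h4 : T.index * Nat.card T = Nat.card G := Subgroup.index_mul_card _
  have hT0 : 0 < Nat.card T := Nat.card_pos
  have h5 : (Mi i).index * r = T.index := by
    have : Nat.card T * ((Mi i).index * r) = Nat.card T * T.index := by
      calc Nat.card T * ((Mi i).index * r) = (Mi i).index * (Nat.card T * r) := by ring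
        _ = (Mi i).index * Nat.card (Mi i) := by rw [h2]
        _ = Nat.card G := h3
        _ = Nat.card T * T.index := by rw [← h4]; ring
    exact Nat.eq_of_mul_eq_mul_left hT0 this
  refine ⟨r, ?_, h1.symm, h5⟩
  have hr1 : r ≠ 1 := by
    intro h
    rw [hr, Subgroup.relIndex_eq_one] at h
    exact c.hprop i (h.trans inf_le_left)
  have hodd : Odd r := by
    have hG1 : Odd (Nat.card G) := c.hG.1
    have hd : r ∣ Nat.card G := by
      have : r ∣ Nat.card (Cfsg.sigmaCore (Mi i)) := Dvd.intro_left _ h1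
      exact this.trans (Subgroup.card_subgroup_dvd_card _)
    exact hG1.of_dvd_nat hd
  obtain ⟨k, hk⟩ := hodd
  omega

variable [Fintype ι]

/-- covering `T` by `𝒲`, the `T ∩ (M_i)_σ` and `1` -/
theorem card_T_le (c : CycleHyp Mi T) :
    Nat.card T + Fintype.card ι ≤
      c.W.ncard + ∑ i, Nat.card ↥(T ⊓ Cfsg.sigmaCore (Mi i)) + 1 := by
  classical
  have hsub : (T : Set G) ⊆ (c.W ∪ ⋃ i, (((T ⊓ Cfsg.sigmaCore (Mi i) : Subgroup G) : Set G) \ {1}))
      ∪ {1} := by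
    intro w hw
    by_cases hw1 : w = 1
    · exact Or.inr hw1
    · left
      by_cases h : ∃ i, w ∈ Cfsg.sigmaCore (Mi i)
      · obtain ⟨i, hi⟩ := h
        right
        exact Set.mem_iUnion.mpr ⟨i, ⟨Subgroup.mem_inf.mpr ⟨hw, hi⟩, hw1⟩⟩
      · push Not at h
        exact Or.inl ⟨hw, h⟩
  have h1 := Set.ncard_le_ncard hsub (Set.toFinite _)
  have h2 := Set.ncard_union_le
    (c.W ∪ ⋃ i, (((T ⊓ Cfsg.sigmaCore (Mi i) : Subgroup G) : Set G) \ {1})) {1}
  have h3 := Set.ncard_union_le c.W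
    (⋃ i, (((T ⊓ Cfsg.sigmaCore (Mi i) : Subgroup G) : Set G) \ {1}))
  have h4 := Set.ncard_iUnion_le_of_fintype
    (fun i => (((T ⊓ Cfsg.sigmaCore (Mi i) : Subgroup G) : Set G) \ {1}))
  have h5 : ∀ i, ((((T ⊓ Cfsg.sigmaCore (Mi i) : Subgroup G) : Set G) \ {1})).ncard + 1 =
      Nat.card ↥(T ⊓ Cfsg.sigmaCore (Mi i)) := by
    intro i
    rw [Set.ncard_diff_singleton_of_mem (Subgroup.one_mem _)]
    have : ((T ⊓ Cfsg.sigmaCore (Mi i) : Subgroup G) : Set G).ncard =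
        Nat.card ↥(T ⊓ Cfsg.sigmaCore (Mi i)) := by
      rw [← Nat.card_coe_set_eq]; rfl
    rw [this]
    have hpos : 0 < Nat.card ↥(T ⊓ Cfsg.sigmaCore (Mi i)) := Nat.card_pos
    omega
  have h6 : ∑ i, ((((T ⊓ Cfsg.sigmaCore (Mi i) : Subgroup G) : Set G) \ {1})).ncard +
      Fintype.card ι = ∑ i, Nat.card ↥(T ⊓ Cfsg.sigmaCore (Mi i)) := by
    rw [← Finset.sum_congr rfl (fun i _ => h5 i), Finset.sum_add_distrib]
    simp
  have h7 : (T : Set G).ncard = Nat.card T := by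
    rw [← Nat.card_coe_set_eq]; rfl
  have h8 : ({1} : Set G).ncard = 1 := Set.ncard_singleton 1
  omega

/-- the family `𝒳_{M_i}`, `𝒲^G` is disjoint and avoids `1` -/
theorem card_total (c : CycleHyp Mi T) (i₀ : ι) :
    ∑ i, (bg14X (Mi i)).ncard + c.WG.ncard + 1 ≤ Nat.card G := by
  classical
  have hdis : Pairwise (Function.onFun Disjoint (fun i => bg14X (Mi i))) := by
    intro i j hij
    rw [Function.onFun, Set.disjoint_left]
    intro v hvi hvj
    exact c.disj_X_X hij hvi hvj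
  have h1 : (⋃ i, bg14X (Mi i)).ncard = ∑ i, (bg14X (Mi i)).ncard := by
    rw [Set.ncard_iUnion_of_finite (fun i => Set.toFinite _) hdis, finsum_eq_sum_of_fintype]
  have hdis2 : Disjoint (⋃ i, bg14X (Mi i)) c.WG := by
    rw [Set.disjoint_left]
    intro v hv hvW
    obtain ⟨i, hi⟩ := Set.mem_iUnion.mp hv
    exact c.disj_X_W i hi hvW
  have h2 : ((⋃ i, bg14X (Mi i)) ∪ c.WG).ncard =
      (⋃ i, bg14X (Mi i)).ncard + c.WG.ncard :=
    Set.ncard_union_eq hdis2 (Set.toFinite _) (Set.toFinite _)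
  have h3 : (1 : G) ∉ (⋃ i, bg14X (Mi i)) ∪ c.WG := by
    rintro (h | h)
    · obtain ⟨i, hi⟩ := Set.mem_iUnion.mp h
      exact bg14_one_notMem_X c.hG (c.hco i) hi
    · obtain ⟨g, w, hw, h1⟩ := h
      apply hw.2 i₀
      have : w = g⁻¹ * (g * w * g⁻¹) * g := by group
      rw [this, ← h1]
      simp
  have h4 : (insert (1 : G) ((⋃ i, bg14X (Mi i)) ∪ c.WG)).ncard =
      ((⋃ i, bg14X (Mi i)) ∪ c.WG).ncard + 1 :=
    Set.ncard_insert_of_notMem h3 (Set.toFinite _)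
  have h5 : (insert (1 : G) ((⋃ i, bg14X (Mi i)) ∪ c.WG)).ncard ≤ (Set.univ : Set G).ncard :=
    Set.ncard_le_ncard (Set.subset_univ _) (Set.toFinite _)
  rw [Set.ncard_univ] at h5
  omega

/-- the cycle count: a cycle with at least two members is impossible -/
theorem false_of_ne [Fintype ι] (c : CycleHyp Mi T) {i₀ j₀ : ι} (h : i₀ ≠ j₀) : False := by
  classical
  have hk : 2 ≤ Fintype.card ι := Fintype.one_lt_card_iff.mpr ⟨i₀, j₀, h⟩
  choose r hr3 hrs hri using c.card_data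
  have hX : ∀ i, (Mi i).index * (Nat.card (Cfsg.sigmaCore (Mi i)) - 1) ≤ (bg14X (Mi i)).ncard :=
    fun i => bg14_card_X_ge c.hG (c.hco i)
  have hWG : T.index * c.W.ncard ≤ c.WG.ncard :=
    bg14_ti_count_ge T c.W (fun w hw g hg => c.ti i₀ hw hg.1)
  have htot := c.card_total i₀
  have hTle := c.card_T_le
  have hn : T.index * Nat.card T = Nat.card G := Subgroup.index_mul_card _
  have hd : 0 < T.index := Nat.pos_of_ne_zero (Subgroup.index_ne_zero_of_finite)
  have hper : ∀ i, 3 * (T.index * Nat.card ↥(T ⊓ Cfsg.sigmaCore (Mi i))) ≤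
      3 * (bg14X (Mi i)).ncard + T.index := by
    intro i
    have h1 := hX i
    rw [hrs i] at h1
    have hti : 0 < Nat.card ↥(T ⊓ Cfsg.sigmaCore (Mi i)) := Nat.card_pos
    have hr0 : 0 < r i := lt_of_lt_of_le (by norm_num) (hr3 i)
    have hpos : 1 ≤ Nat.card ↥(T ⊓ Cfsg.sigmaCore (Mi i)) * r i := Nat.mul_pos hti hr0
    have h2 : (Mi i).index * (Nat.card ↥(T ⊓ Cfsg.sigmaCore (Mi i)) * r i - 1) + (Mi i).index =
        T.index * Nat.card ↥(T ⊓ Cfsg.sigmaCore (Mi i)) := by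
      have : (Mi i).index * (Nat.card ↥(T ⊓ Cfsg.sigmaCore (Mi i)) * r i - 1) + (Mi i).index =
          (Mi i).index * (Nat.card ↥(T ⊓ Cfsg.sigmaCore (Mi i)) * r i - 1 + 1) := by ring
      rw [this, Nat.sub_add_cancel hpos, ← hri i]
      ring
    have h3 : (Mi i).index * 3 ≤ T.index := by
      rw [← hri i]
      exact Nat.mul_le_mul_left _ (hr3 i)
    omega
  have hsum : 3 * (T.index * ∑ i, Nat.card ↥(T ⊓ Cfsg.sigmaCore (Mi i))) ≤
      3 * ∑ i, (bg14X (Mi i)).ncard + Fintype.card ι * T.index := by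
    have := Finset.sum_le_sum (s := Finset.univ) (fun i _ => hper i)
    rw [Finset.sum_add_distrib, ← Finset.mul_sum, ← Finset.mul_sum, ← Finset.mul_sum,
      Finset.sum_const, Finset.card_univ, smul_eq_mul] at this
    exact this
  have hD := Nat.mul_le_mul_left T.index hTle
  have hK := Nat.mul_le_mul_left T.index hk
  nlinarith [hsum, hD, hK, hWG, htot, hn, hd]

end CycleHyp

/-- **the cycle count**: there is no cycle of `k ≥ 2` pairwise non-conjugate maximal subgroups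
`M_i = (M_i)_σ T` over a common subgroup `T` -/
theorem bg14_cycle_false (hG : Cfsg.IsMinSimpleOddOrder G) {ι : Type*} [Finite ι]
    (Mi : ι → Subgroup G) (T : Subgroup G)
    (hco : ∀ i, IsCoatom (Mi i))
    (hnc : ∀ i j, i ≠ j → ∀ g : G, Mi j ≠ (Mi i).map (MulAut.conj g).toMonoidHom)
    (hT : ∀ i, T ≤ Mi i)
    (hfac : ∀ i, ∀ m ∈ Mi i, ∃ s ∈ Cfsg.sigmaCore (Mi i), ∃ t ∈ T, m = s * t)
    (hprop : ∀ i, ¬ Cfsg.sigmaCore (Mi i) ≤ T)
    (hcent : ∀ i, ∀ x ∈ T ⊓ Cfsg.sigmaCore (Mi i), x ≠ 1 →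
      Subgroup.centralizer ({x} : Set G) ≤ Mi i)
    (hinf : ∀ i j, i ≠ j → Cfsg.sigmaCore (Mi i) ⊓ Mi j ≤ T)
    (htau2 : ∀ i p, p ∉ Cfsg.tau2 (Mi i))
    (hpr : ∀ p : ℕ, p.Prime → p ∣ Nat.card T → ∃ i, p ∈ Cfsg.sigma (Mi i))
    (htwo : ∃ i j : ι, i ≠ j) : False := by
  haveI := Fintype.ofFinite ι
  obtain ⟨i, j, hij⟩ := htwo
  exact CycleHyp.false_of_ne (Mi := Mi) (T := T)
    ⟨hG, hco, hnc, hT, hfac, hprop, hcent, hinf, htau2, hpr⟩ hij

end Cfsg.Agent.Lib.Helper13.BG14
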