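import Cfsg.Agent.Lib.Helper13.SecFusH
import Cfsg.Prelude.Def_LocalEven

set_option autoImplicit false

/-! Single functors and pairs of functors as special families (helper13). -/

namespace Cfsg.Agent.Lib.Helper13

universe u

section Single

variable {p : ℕ} [Fact p.Prime]

theorem fcs_singleton_of_normal {Γ : Type u} [Group Γ] [Finite Γ]
    (W : ∀ (Q : Type u) [Group Q], Subgroup Q)
    (h : ∀ T : Sylow p Γ, (Cfsg.inducedFunctor (G := Γ) W (T : Subgroup Γ)).Normal) :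
    FCS p {W} Γ := by
  obtain ⟨S⟩ : Nonempty (Sylow p Γ) := inferInstance
  unfold FCS
  rw [familyControlsStrongFusionIn_iff]
  refine ⟨S, le_top, S.isPGroup', ?_, ?_⟩
  · rw [Subgroup.relIndex_top_right]; exact S.not_dvd_index
  · intro A x _ hA hxA
    refine ⟨x, ?_, fun _ _ => rfl⟩
    have hmem : Cfsg.inducedFunctor (G := Γ) W ∈ indFam {W} Γ := ⟨W, rfl, rfl⟩
    have hx : x ∈ (⊤ : Subgroup Γ) ⊓ Subgroup.normalizer
        ((Cfsg.inducedFunctor (G := Γ) W (S : Subgroup Γ) : Subgroup Γ) : Set Γ) := by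
      refine Subgroup.mem_inf.mpr ⟨Subgroup.mem_top _, ?_⟩
      rw [Subgroup.normalizer_eq_top_iff.mpr (h S)]
      exact Subgroup.mem_top _
    exact FReach.single hmem hx hA (fun a ha => hxA ⟨a, ha, rfl⟩)

theorem freach_singleton_mem_normalizer {Γ : Type u} [Group Γ]
    (W : ∀ (Q : Type u) [Group Q], Subgroup Q) {H T : Subgroup Γ} {A : Set Γ} {c : Γ}
    (h : FReach (indFam {W} Γ) H T A c) :
    c ∈ Subgroup.normalizer ((Cfsg.inducedFunctor (G := Γ) W T : Subgroup Γ) : Set Γ) := by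
  induction h with
  | one _ => exact Subgroup.one_mem _
  | step c y V hV hy hc hA ih =>
    obtain ⟨W', hW', rfl⟩ := hV
    rw [Set.mem_singleton_iff] at hW'
    subst hW'
    exact Subgroup.mul_mem _ (Subgroup.mem_inf.mp hy).2 ih

theorem controlsStrongFusion_of_fcs_singleton {Γ : Type u} [Group Γ] [Finite Γ]
    (W : ∀ (Q : Type u) [Group Q], Subgroup Q) (hW : Cfsg.IsCharPFunctor.{u} p W)
    (h : FCS p {W} Γ) (T : Sylow p Γ) :
    Cfsg.ControlsStrongFusion p (Cfsg.inducedFunctor (G := Γ) W (T : Subgroup Γ)) := by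
  have h𝓦 : ∀ W' ∈ ({W} : Set (∀ (Q : Type u) [Group Q], Subgroup Q)),
      Cfsg.IsCharPFunctor.{u} p W' := by
    intro W' hW'
    rw [Set.mem_singleton_iff] at hW'
    rw [hW']; exact hW
  have hTi : ¬ p ∣ (T : Subgroup Γ).relIndex ⊤ := by
    rw [Subgroup.relIndex_top_right]; exact T.not_dvd_index
  have hR := family_fusion_of_sylow (indFam_isConjugacyFunctor h𝓦 Γ) h le_top T.isPGroup' hTi
  refine ⟨T, inducedFunctor_le W _, fun A hA => ⟨hA, fun g hg => ?_⟩⟩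
  obtain ⟨c, hc, hca⟩ := hR A g (Subgroup.mem_top _) hA hg
  exact ⟨c, freach_singleton_mem_normalizer W hc, fun a ha => (hca a ha).symm⟩

end Single

end Cfsg.Agent.Lib.Helper13

namespace Cfsg.Agent.Lib.Helper13

universe u

section Pair

variable {p : ℕ} [Fact p.Prime]

theorem fcs_pair_of_factorization {Γ : Type u} [Group Γ] [Finite Γ]
    (W₁ W₂ : ∀ (Q : Type u) [Group Q], Subgroup Q)
    (hW₁ : Cfsg.IsCharPFunctor.{u} p W₁) (hW₂ : Cfsg.IsCharPFunctor.{u} p W₂)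
    (h : ∀ T : Sylow p Γ, ∀ x : Γ,
      ∃ a ∈ Subgroup.normalizer ((Cfsg.inducedFunctor (G := Γ) W₁ (T : Subgroup Γ) : Subgroup Γ) : Set Γ),
      ∃ b ∈ Subgroup.normalizer ((Cfsg.inducedFunctor (G := Γ) W₂ (T : Subgroup Γ) : Subgroup Γ) : Set Γ),
        x = a * b) :
    FCS p {W₁, W₂} Γ := by
  have h𝓦 : ∀ W' ∈ ({W₁, W₂} : Set (∀ (Q : Type u) [Group Q], Subgroup Q)),
      Cfsg.IsCharPFunctor.{u} p W' := by
    intro W' hW'
    rcases hW' with hW' | hW'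
    · rw [hW']; exact hW₁
    · rw [Set.mem_singleton_iff] at hW'
      rw [hW']; exact hW₂
  obtain ⟨S⟩ : Nonempty (Sylow p Γ) := inferInstance
  obtain ⟨N₁, hN₁⟩ : ∃ N₁, N₁ = Subgroup.normalizer
      ((Cfsg.inducedFunctor (G := Γ) W₁ (S : Subgroup Γ) : Subgroup Γ) : Set Γ) := ⟨_, rfl⟩
  obtain ⟨N₂, hN₂⟩ : ∃ N₂, N₂ = Subgroup.normalizer
      ((Cfsg.inducedFunctor (G := Γ) W₂ (S : Subgroup Γ) : Subgroup Γ) : Set Γ) := ⟨_, rfl⟩
  have hSN₁ : (S : Subgroup Γ) ≤ N₁ :=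
    hN₁ ▸ sylow_le_normalizer_induced h𝓦 S.isPGroup' (Set.mem_insert _ _)
  have hSN₂ : (S : Subgroup Γ) ≤ N₂ :=
    hN₂ ▸ sylow_le_normalizer_induced h𝓦 S.isPGroup' (Set.mem_insert_of_mem _ rfl)
  have hm₁ : Cfsg.inducedFunctor (G := Γ) W₁ ∈ indFam {W₁, W₂} Γ :=
    ⟨W₁, Set.mem_insert _ _, rfl⟩
  have hm₂ : Cfsg.inducedFunctor (G := Γ) W₂ ∈ indFam {W₁, W₂} Γ :=
    ⟨W₂, Set.mem_insert_of_mem _ rfl, rfl⟩
  unfold FCS
  rw [familyControlsStrongFusionIn_iff]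
  refine ⟨S, le_top, S.isPGroup', ?_, ?_⟩
  · rw [Subgroup.relIndex_top_right]; exact S.not_dvd_index
  · intro A x _ hA hxA
    obtain ⟨a, ha, b, hb, rfl⟩ := h S x
    rw [← hN₁] at ha
    rw [← hN₂] at hb
    obtain ⟨B, hB⟩ : ∃ B : Subgroup Γ, B = Subgroup.closure ((fun t => b * t * b⁻¹) '' A) :=
      ⟨_, rfl⟩
    have hBp : IsPGroup p ↥B := by
      apply (isPGroup_cj b S.isPGroup').to_le
      rw [hB, Subgroup.closure_le]
      rintro _ ⟨t, ht, rfl⟩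
      exact ⟨t, hA ht, rfl⟩
    have hB₂ : B ≤ N₂ := by
      rw [hB, Subgroup.closure_le]
      rintro _ ⟨t, ht, rfl⟩
      exact Subgroup.mul_mem _ (Subgroup.mul_mem _ hb (hSN₂ (hA ht))) (Subgroup.inv_mem _ hb)
    have hB₁ : B ≤ N₁ := by
      rw [hB, Subgroup.closure_le]
      rintro _ ⟨t, ht, rfl⟩
      have h1 : a * b * t * (a * b)⁻¹ ∈ N₁ := hSN₁ (hxA ⟨t, ht, rfl⟩)
      have e : b * t * b⁻¹ = a⁻¹ * (a * b * t * (a * b)⁻¹) * a := by group
      show b * t * b⁻¹ ∈ N₁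
      rw [e]
      exact Subgroup.mul_mem _ (Subgroup.mul_mem _ (Subgroup.inv_mem _ ha) h1) ha
    have hSD : (S : Subgroup Γ) ≤ N₁ ⊓ N₂ := le_inf hSN₁ hSN₂
    have hSi : ¬ p ∣ (S : Subgroup Γ).relIndex (N₁ ⊓ N₂) := fun hd =>
      S.not_dvd_index (hd.trans (Subgroup.relIndex_dvd_index_of_le hSD))
    obtain ⟨d, hd, hdB⟩ := exists_mem_cj_le_of_relIndex (p := p) hSD S.isPGroup' hSi
      (le_inf hB₁ hB₂) hBp
    have hstep1 : ∀ t ∈ A, (d * b) * t * (d * b)⁻¹ ∈ (S : Subgroup Γ) := by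
      intro t ht
      have h1 : b * t * b⁻¹ ∈ B := hB ▸ Subgroup.subset_closure ⟨t, ht, rfl⟩
      have h2 := hdB ⟨_, h1, rfl⟩
      have e : (MulAut.conj d).toMonoidHom (b * t * b⁻¹) = (d * b) * t * (d * b)⁻¹ := by
        simp only [MulEquiv.coe_toMonoidHom, MulAut.conj_apply]
        group
      rwa [e] at h2
    have hy₁ : d * b ∈ (⊤ : Subgroup Γ) ⊓ Subgroup.normalizer
        ((Cfsg.inducedFunctor (G := Γ) W₂ (S : Subgroup Γ) : Subgroup Γ) : Set Γ) := by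
      refine Subgroup.mem_inf.mpr ⟨Subgroup.mem_top _, ?_⟩
      rw [← hN₂]
      exact Subgroup.mul_mem _ (Subgroup.mem_inf.mp hd).2 hb
    have hy₂ : a * d⁻¹ ∈ (⊤ : Subgroup Γ) ⊓ Subgroup.normalizer
        ((Cfsg.inducedFunctor (G := Γ) W₁ (S : Subgroup Γ) : Subgroup Γ) : Set Γ) := by
      refine Subgroup.mem_inf.mpr ⟨Subgroup.mem_top _, ?_⟩
      rw [← hN₁]
      exact Subgroup.mul_mem _ ha (Subgroup.inv_mem _ (Subgroup.mem_inf.mp hd).1)
    have r1 : FReach (indFam {W₁, W₂} Γ) ⊤ (S : Subgroup Γ) A (d * b) :=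
      FReach.single hm₂ hy₁ hA hstep1
    have e : a * b = (a * d⁻¹) * (d * b) := by group
    refine ⟨a * b, ?_, fun _ _ => rfl⟩
    rw [e]
    refine FReach.step (d * b) (a * d⁻¹) _ hm₁ hy₂ r1 ?_
    intro t ht
    rw [← e]
    exact hxA ⟨t, ht, rfl⟩

end Pair

end Cfsg.Agent.Lib.Helper13
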