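import Mathlib.GroupTheory.NoncommCoprod
import Mathlib.GroupTheory.Index
import Cfsg.Prelude.Def_Local
import Cfsg.Agent.Lib.Helper13.Conj
import Cfsg.Agent.Lib.Helper13.WellPlaced
import Cfsg.Agent.Lib.Helper13.ConjFamily

/-!
Helper lemmas on tightly embedded subgroups, Sylow subgroups meeting normal subgroups, and
projections of internal direct products.
-/

set_option autoImplicit false

namespace Cfsg.Agent.Lib.Helper13

variable {G : Type*} [Group G]

/-- A `2`-subgroup of a subgroup of odd order is trivial. -/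
theorem eq_bot_of_isPGroup_two_of_le_odd [Finite G] {U V : Subgroup G} (hU : IsPGroup 2 ↥U)
    (hUV : U ≤ V) (hV : Odd (Nat.card ↥V)) : U = ⊥ := by
  haveI : Fact (Nat.Prime 2) := ⟨Nat.prime_two⟩
  obtain ⟨n, hn⟩ := IsPGroup.iff_card.mp hU
  have hd : Nat.card ↥U ∣ Nat.card ↥V := Subgroup.card_dvd_of_le hUV
  rcases Nat.eq_zero_or_pos n with rfl | hpos
  · rw [pow_zero] at hn
    exact Subgroup.card_eq_one.mp hn
  · exfalso
    have h2 : 2 ∣ Nat.card ↥V := by
      refine dvd_trans ?_ hd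
      rw [hn]
      exact dvd_pow_self 2 hpos.ne'
    rcases hV with ⟨k, hk⟩
    omega

/-- Conjugates of tightly embedded subgroups are tightly embedded. -/
theorem tight_cj [Finite G] {Q : Subgroup G} (hQ : Cfsg.IsTightlyEmbedded Q) (g : G) :
    Cfsg.IsTightlyEmbedded (Q.map (MulAut.conj g).toMonoidHom) := by
  refine ⟨?_, ?_⟩
  · rw [card_cj]; exact hQ.1
  · intro x hx
    have hx' : g⁻¹ * x * g ∉ Subgroup.normalizer (Q : Set G) := by
      intro h
      apply hx
      rw [normalizer_cj, mem_cj]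
      exact h
    have h1 := hQ.2 _ hx'
    have e : Q.map (MulAut.conj g).toMonoidHom ⊓
        (Q.map (MulAut.conj g).toMonoidHom).map (MulAut.conj x).toMonoidHom =
        (Q ⊓ Q.map (MulAut.conj (g⁻¹ * x * g)).toMonoidHom).map (MulAut.conj g).toMonoidHom := by
      rw [cj_inf, cj_cj, cj_cj]
      have : g * (g⁻¹ * x * g) = x * g := by group
      rw [this]
    rw [e, card_cj]
    exact h1

/-- If `Q` is tightly embedded, `U` is a nontrivial `2`-subgroup of `Q` and `x` conjugates `U` into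
`Q`, then `x` normalizes `Q`. -/
theorem mem_normalizer_of_tight [Finite G] {Q : Subgroup G} (hQ : Cfsg.IsTightlyEmbedded Q)
    {U : Subgroup G} (hUQ : U ≤ Q) (hU : IsPGroup 2 ↥U) (hU1 : U ≠ ⊥) {x : G}
    (hx : U.map (MulAut.conj x).toMonoidHom ≤ Q) : x ∈ Subgroup.normalizer (Q : Set G) := by
  by_contra hxn
  have hxi : x⁻¹ ∉ Subgroup.normalizer (Q : Set G) := fun h => hxn (by simpa using inv_mem h)
  have h1 := hQ.2 _ hxi
  apply hU1
  refine eq_bot_of_isPGroup_two_of_le_odd hU (le_inf hUQ ?_) h1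
  rw [← cj_le_iff]
  exact hx

/-- In a finite group with a normal subgroup `N`, `|N : P ∩ N|` divides `|L : P|`. -/
theorem relIndex_dvd_index_of_normal_right {L : Type*} [Group L] [Finite L] (P N : Subgroup L)
    [N.Normal] : P.relIndex N ∣ P.index := by
  have key : ∀ {K M : Subgroup L}, K ≤ M → Nat.card ↥K * K.relIndex M = Nat.card ↥M := by
    intro K M h
    have := Subgroup.relIndex_mul_relIndex ⊥ K M bot_le h
    rwa [Subgroup.relIndex_bot_left, Subgroup.relIndex_bot_left] at this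
  have e1 : Nat.card ↥N * N.relIndex P = Nat.card ↥(P ⊔ N) := by
    rw [← Subgroup.relIndex_sup_right (H := P) (K := N)]
    exact key le_sup_right
  have e3 : Nat.card ↥(P ⊓ N) * N.relIndex P = Nat.card ↥P := by
    rw [← Subgroup.inf_relIndex_left]
    exact key inf_le_left
  have e4 : Nat.card ↥P * P.relIndex (P ⊔ N) = Nat.card ↥(P ⊔ N) := key le_sup_left
  have e5 : Nat.card ↥(P ⊓ N) * P.relIndex N = Nat.card ↥N := by
    rw [← Subgroup.inf_relIndex_right]
    exact key inf_le_right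
  have hpos : 0 < Nat.card ↥P := Nat.card_pos
  have : P.relIndex N = P.relIndex (P ⊔ N) := by
    apply Nat.eq_of_mul_eq_mul_left hpos
    rw [e4, ← e1, ← e5, ← e3]
    ring
  rw [this]
  exact Subgroup.relIndex_dvd_index_of_le le_sup_left

/-- A Sylow `p`-subgroup `S` of `L` meets a subgroup `Q ≤ L` normalized by `L` in a Sylow
`p`-subgroup of `Q`. -/
theorem not_dvd_relIndex_inf_of_normal [Finite G] {p : ℕ} {S Q L : Subgroup G} (hQL : Q ≤ L)
    (hLN : L ≤ Subgroup.normalizer (Q : Set G)) (h : ¬ p ∣ S.relIndex L) :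
    ¬ p ∣ (S ⊓ Q).relIndex Q := by
  rw [Subgroup.inf_relIndex_right]
  haveI : (Q.subgroupOf L).Normal := Subgroup.normal_subgroupOf_of_le_normalizer hLN
  have h1 := relIndex_dvd_index_of_normal_right (S.subgroupOf L) (Q.subgroupOf L)
  rw [Subgroup.relIndex_subgroupOf hQL] at h1
  exact fun hd => h (dvd_trans hd h1)

/-- The order of a `p`-subgroup of `N` divides the order of a Sylow `p`-subgroup of `N`. -/
theorem card_dvd_card_of_not_dvd_relIndex [Finite G] {p : ℕ} [Fact p.Prime] {T U N : Subgroup G}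
    (hTN : T ≤ N) (hT : IsPGroup p ↥T) (hTi : ¬ p ∣ T.relIndex N) (hUN : U ≤ N)
    (hU : IsPGroup p ↥U) : Nat.card ↥U ∣ Nat.card ↥T := by
  obtain ⟨n, -, hn⟩ := exists_mem_cj_le_of_relIndex hTN hT hTi hUN hU
  rw [← card_cj n U]
  exact Subgroup.card_dvd_of_le hn

/-- Projection of an internal direct product: if `A` and `B` commute elementwise and meet
trivially, a subgroup `V ≤ A ⊔ B` meeting `A` trivially embeds in `B`. -/
theorem exists_injective_hom_of_le_sup {A B V : Subgroup G}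
    (hcomm : ∀ a ∈ A, ∀ b ∈ B, a * b = b * a) (hdisj : A ⊓ B = ⊥)
    (hV : V ≤ A ⊔ B) (hVA : V ⊓ A = ⊥) : ∃ f : ↥V →* ↥B, Function.Injective f := by
  let ψ : ↥A × ↥B →* G :=
    MonoidHom.noncommCoprod A.subtype B.subtype (fun a b => hcomm a a.2 b b.2)
  have hψinj : Function.Injective ψ := by
    refine (MonoidHom.noncommCoprod_injective _ _ _).mpr
      ⟨A.subtype_injective, B.subtype_injective, ?_⟩
    rw [Subgroup.range_subtype, Subgroup.range_subtype, disjoint_iff]
    exact hdisj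
  have hψrange : ψ.range = A ⊔ B := by
    refine (MonoidHom.noncommCoprod_range _ _ _).trans ?_
    rw [Subgroup.range_subtype, Subgroup.range_subtype]
  have hV' : V ≤ ψ.range := hψrange ▸ hV
  let e : ↥A × ↥B ≃* ↥ψ.range := MonoidHom.ofInjective hψinj
  let f : ↥V →* ↥B :=
    (MonoidHom.snd ↥A ↥B).comp (e.symm.toMonoidHom.comp (Subgroup.inclusion hV'))
  refine ⟨f, ?_⟩
  rw [injective_iff_map_eq_one]
  intro v hv
  obtain ⟨ab, hab⟩ : ∃ ab : ↥A × ↥B, ab = e.symm (Subgroup.inclusion hV' v) := ⟨_, rfl⟩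
  have h1 : ab.2 = 1 := by rw [hab]; exact hv
  have h2 : e ab = Subgroup.inclusion hV' v := by rw [hab, MulEquiv.apply_symm_apply]
  have h3 : ((e ab : ↥ψ.range) : G) = (ab.1 : G) * (ab.2 : G) := rfl
  have h4 : (v : G) = (ab.1 : G) := by
    have : ((Subgroup.inclusion hV' v : ↥ψ.range) : G) = (v : G) := rfl
    rw [← this, ← h2, h3, h1]
    simp
  have h5 : (v : G) ∈ V ⊓ A := ⟨v.2, by rw [h4]; exact ab.1.2⟩
  rw [hVA, Subgroup.mem_bot] at h5
  exact Subtype.ext h5

end Cfsg.Agent.Lib.Helper13
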