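import Mathlib
import Cfsg.Prelude.Def_OddOrderLocal
import Cfsg.Agent.Lib.Helper13.BG14T
import Cfsg.Agent.Lib.Helper13.BG14P
import Cfsg.Agent.Lib.Helper13.BG14J

set_option autoImplicit false

/-! The set `Ẑ = K K* - (K ∪ K*)`: TI-property, normalizer and number of conjugates
(B & G Theorem 14.7(e)), from the two TI-clauses of Theorem 14.3 (helper13). -/

namespace Cfsg.Agent.Lib.Helper13.BG14

open Cfsg Cfsg.Agent.Lib.Helper18 Cfsg.Agent.Lib.Helper28.BGt

variable {G : Type*} [Group G] [Finite G]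

/-- `K* ≠ 1` for a Hall `κ(M)`-subgroup `K ≠ 1` -/
theorem bg14_kstar_ne_bot (hG : Cfsg.IsMinSimpleOddOrder G) {M K : Subgroup G} (hM : IsCoatom M)
    (hK : Cfsg.IsPiHallOf (Cfsg.kappa M) K M) (hK1 : K ≠ ⊥) :
    Cfsg.sigmaCore M ⊓ Subgroup.centralizer (K : Set G) ≠ ⊥ := by
  have hpa := (bg14_two_uncond hG hM hK hK1).1
  have hc1 : Nat.card K ≠ 1 := fun h => hK1 (Subgroup.card_eq_one.mp h)
  obtain ⟨p, hp, hpd⟩ := Nat.exists_prime_and_dvd hc1
  haveI : Fact p.Prime := ⟨hp⟩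
  obtain ⟨x, hx⟩ := exists_prime_orderOf_dvd_card' p hpd
  have hxo : orderOf (x : G) = p := by rw [Subgroup.orderOf_coe]; exact hx
  have hx1 : (x : G) ≠ 1 := by
    intro h
    rw [h, orderOf_one] at hxo
    exact hp.one_lt.ne hxo
  have hpκ : p ∈ Cfsg.kappa M := hK.2.1 p hp hpd
  have hPc : Nat.card (Subgroup.zpowers (x : G)) = p := by rw [Nat.card_zpowers, hxo]
  have hY := bg14_kappa_fixed_sub hpκ ((Subgroup.zpowers_le.mpr x.2).trans hK.1) hPc
  rw [← hpa (x : G) x.2 hx1]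
  rwa [Cfsg.Agent.Lib.Helper1.BG14.centralizer_zpowers_eq] at hY

/-- coprimality of `|K|` and `|M_σ|` -/
theorem bg14_coprime_K_sigma (hG : Cfsg.IsMinSimpleOddOrder G) {M K : Subgroup G} (hM : IsCoatom M)
    (hK : Cfsg.IsPiHallOf (Cfsg.kappa M) K M) :
    (Nat.card K).Coprime (Nat.card (Cfsg.sigmaCore M)) := by
  apply Nat.coprime_of_dvd
  intro p hp h1 h2
  exact (hK.2.1 p hp h1).2.2.1 (prime_sigmaCore hG hM hp h2)

section

variable {M K : Subgroup G}

/-- the set `Ẑ` -/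
def bg14Zhat (M K : Subgroup G) : Set G :=
  (↑(K ⊔ (Cfsg.sigmaCore M ⊓ Subgroup.centralizer (K : Set G))) : Set G) \
    ((K : Set G) ∪ ↑(Cfsg.sigmaCore M ⊓ Subgroup.centralizer (K : Set G)))

/-- decomposition of an element of `Ẑ` -/
theorem bg14_zhat_decomp {z : G} (hz : z ∈ bg14Zhat M K) :
    ∃ k ∈ K, ∃ s ∈ Cfsg.sigmaCore M ⊓ Subgroup.centralizer (K : Set G),
      k ≠ 1 ∧ s ≠ 1 ∧ z = k * s ∧ Commute k s := by
  obtain ⟨hzZ, hzn⟩ := hz
  have hn : Cfsg.sigmaCore M ⊓ Subgroup.centralizer (K : Set G) ≤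
      Subgroup.normalizer (K : Set G) :=
    inf_le_right.trans (Subgroup.centralizer_le_normalizer _)
  obtain ⟨k, hk, s, hs, rfl⟩ := Cfsg.Agent.Lib.Helper10.exists_mul_of_mem_sup K _ hn z hzZ
  refine ⟨k, hk, s, hs, ?_, ?_, rfl, ?_⟩
  · rintro rfl
    apply hzn
    right
    rw [one_mul]; exact hs
  · rintro rfl
    apply hzn
    left
    rw [mul_one]; exact hk
  · exact Subgroup.mem_centralizer_iff.mp hs.2 k hk

/-- the key property: conjugating an element of `Ẑ` into `Ẑ` is only possible inside `K K*` -/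
theorem bg14_zhat_key (hG : Cfsg.IsMinSimpleOddOrder G) (hM : IsCoatom M)
    (hK : Cfsg.IsPiHallOf (Cfsg.kappa M) K M)
    (ha : ∀ g : G, g ∉ M → (Cfsg.sigmaCore M ⊓ Subgroup.centralizer (K : Set G)) ⊓
      M.map (MulAut.conj g).toMonoidHom = ⊥)
    (hb : ∀ g ∈ M, g ∉ K ⊔ (Cfsg.sigmaCore M ⊓ Subgroup.centralizer (K : Set G)) →
      K ⊓ K.map (MulAut.conj g).toMonoidHom = ⊥)
    {z g : G} (hz : z ∈ bg14Zhat M K) (hgz : g * z * g⁻¹ ∈ bg14Zhat M K) :
    g ∈ K ⊔ (Cfsg.sigmaCore M ⊓ Subgroup.centralizer (K : Set G)) := by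
  obtain ⟨k, hk, s, hs, hk1, hs1, rfl, hks⟩ := bg14_zhat_decomp hz
  obtain ⟨k', hk', s', hs', hk'1, hs'1, hz', hks'⟩ := bg14_zhat_decomp hgz
  have hcop := bg14_coprime_K_sigma hG hM hK
  have hordk : orderOf (g * k * g⁻¹) = orderOf k := by
    have := (MulAut.conj g).orderOf_eq k
    rwa [MulAut.conj_apply] at this
  have hords : orderOf (g * s * g⁻¹) = orderOf s := by
    have := (MulAut.conj g).orderOf_eq s
    rwa [MulAut.conj_apply] at this
  have hdk : orderOf k ∣ Nat.card K := Subgroup.orderOf_dvd_natCard K hk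
  have hdk' : orderOf k' ∣ Nat.card K := Subgroup.orderOf_dvd_natCard K hk'
  have hds : orderOf s ∣ Nat.card (Cfsg.sigmaCore M) := Subgroup.orderOf_dvd_natCard _ hs.1
  have hds' : orderOf s' ∣ Nat.card (Cfsg.sigmaCore M) := Subgroup.orderOf_dvd_natCard _ hs'.1
  -- the `σ(M)`-parts agree
  have heq : g * s * g⁻¹ * (g * k * g⁻¹) = s' * k' := by
    rw [← hks'.eq, ← hz', hks.eq]; group
  have hc1 : Commute (g * s * g⁻¹) (g * k * g⁻¹) := by
    have h1 : g * s * g⁻¹ * (g * k * g⁻¹) = g * (s * k) * g⁻¹ := by group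
    have h2 : g * k * g⁻¹ * (g * s * g⁻¹) = g * (k * s) * g⁻¹ := by group
    show g * s * g⁻¹ * (g * k * g⁻¹) = g * k * g⁻¹ * (g * s * g⁻¹)
    rw [h1, h2, ← hks.eq]
  have hs_eq : g * s * g⁻¹ = s' := by
    apply bg14_sigma_part_unique heq hc1 hks'.symm (isOfFinOrder_of_finite _)
      (isOfFinOrder_of_finite _)
    rw [hordk, hords]
    exact Nat.Coprime.coprime_dvd_left (Nat.mul_dvd_mul hdk hdk')
      (Nat.Coprime.coprime_dvd_right (Nat.mul_dvd_mul hds hds')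
        (Nat.Coprime.mul_left (Nat.Coprime.mul_right hcop hcop) (Nat.Coprime.mul_right hcop hcop)))
  have hk_eq : g * k * g⁻¹ = k' := by
    rw [hs_eq] at heq
    exact mul_left_cancel heq
  -- `g ∈ M`
  have hsM : s ∈ M := sigmaCore_le M hs.1
  have hgM : g ∈ M := by
    by_contra hgM
    have h1 : s' ∈ (Cfsg.sigmaCore M ⊓ Subgroup.centralizer (K : Set G)) ⊓
        M.map (MulAut.conj g).toMonoidHom := by
      refine Subgroup.mem_inf.mpr ⟨hs', ?_⟩
      rw [← hs_eq]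
      exact ⟨s, hsM, by simp [MulAut.conj_apply]⟩
    rw [ha g hgM, Subgroup.mem_bot] at h1
    exact hs'1 h1
  by_contra hgZ
  have h2 : k' ∈ K ⊓ K.map (MulAut.conj g).toMonoidHom := by
    refine Subgroup.mem_inf.mpr ⟨hk', ?_⟩
    rw [← hk_eq]
    exact ⟨k, hk, by simp [MulAut.conj_apply]⟩
  rw [hb g hgM hgZ, Subgroup.mem_bot] at h2
  exact hk'1 h2

/-- `K K*` normalizes `Ẑ` -/
theorem bg14_zhat_inv {z t : G} (hz : z ∈ bg14Zhat M K)
    (ht : t ∈ K ⊔ (Cfsg.sigmaCore M ⊓ Subgroup.centralizer (K : Set G))) :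
    t * z * t⁻¹ ∈ bg14Zhat M K := by
  have hn : Cfsg.sigmaCore M ⊓ Subgroup.centralizer (K : Set G) ≤
      Subgroup.normalizer (K : Set G) :=
    inf_le_right.trans (Subgroup.centralizer_le_normalizer _)
  have hnK : K ⊔ (Cfsg.sigmaCore M ⊓ Subgroup.centralizer (K : Set G)) ≤
      Subgroup.normalizer (K : Set G) := sup_le Subgroup.le_normalizer hn
  have hKC : K ≤ Subgroup.centralizer
      ((Cfsg.sigmaCore M ⊓ Subgroup.centralizer (K : Set G) : Subgroup G) : Set G) := by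
    intro k hk
    rw [Subgroup.mem_centralizer_iff]
    intro y hy
    exact (Subgroup.mem_centralizer_iff.mp hy.2 k hk).symm
  have hnS : K ⊔ (Cfsg.sigmaCore M ⊓ Subgroup.centralizer (K : Set G)) ≤
      Subgroup.normalizer ((Cfsg.sigmaCore M ⊓ Subgroup.centralizer (K : Set G) : Subgroup G) :
        Set G) :=
    sup_le (hKC.trans (Subgroup.centralizer_le_normalizer _)) Subgroup.le_normalizer
  obtain ⟨hzZ, hzn⟩ := hz
  refine ⟨Subgroup.mul_mem _ (Subgroup.mul_mem _ ht hzZ) (Subgroup.inv_mem _ ht), ?_⟩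
  rintro (h | h)
  · exact hzn (Or.inl ((Subgroup.mem_normalizer_iff.mp (hnK ht) z).mpr h))
  · exact hzn (Or.inr ((Subgroup.mem_normalizer_iff.mp (hnS ht) z).mpr h))

/-- `Ẑ` is not empty -/
theorem bg14_zhat_nonempty (hG : Cfsg.IsMinSimpleOddOrder G) (hM : IsCoatom M)
    (hK : Cfsg.IsPiHallOf (Cfsg.kappa M) K M) (hK1 : K ≠ ⊥) : (bg14Zhat M K).Nonempty := by
  have hKs1 := bg14_kstar_ne_bot hG hM hK hK1
  have hKσ : K ⊓ Cfsg.sigmaCore M = ⊥ :=
    Cfsg.Agent.Lib.Helper1.BG15.kappa_inf_sigmaCore hG hM hK.2.1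
  obtain ⟨⟨k, hk⟩, hk1'⟩ := (Subgroup.ne_bot_iff_exists_ne_one).mp hK1
  have hk1 : k ≠ 1 := fun e => hk1' (Subtype.ext e)
  obtain ⟨⟨s, hs⟩, hs1'⟩ := (Subgroup.ne_bot_iff_exists_ne_one).mp hKs1
  have hs1 : s ≠ 1 := fun e => hs1' (Subtype.ext e)
  refine ⟨k * s, Subgroup.mul_mem _ (Subgroup.mem_sup_left hk) (Subgroup.mem_sup_right hs), ?_⟩
  rintro (h | h)
  · have h1 : s ∈ K := by
      have : s = k⁻¹ * (k * s) := by group
      rw [this]; exact K.mul_mem (K.inv_mem hk) h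
    have : s ∈ K ⊓ Cfsg.sigmaCore M := Subgroup.mem_inf.mpr ⟨h1, hs.1⟩
    rw [hKσ, Subgroup.mem_bot] at this
    exact hs1 this
  · have h1 : k ∈ Cfsg.sigmaCore M ⊓ Subgroup.centralizer (K : Set G) := by
      have : k = (k * s) * s⁻¹ := by group
      rw [this]; exact Subgroup.mul_mem _ h (Subgroup.inv_mem _ hs)
    have : k ∈ K ⊓ Cfsg.sigmaCore M := Subgroup.mem_inf.mpr ⟨hk, h1.1⟩
    rw [hKσ, Subgroup.mem_bot] at this
    exact hk1 this

/-- **B & G Theorem 14.7(e), first half**: `Ẑ` is a TI-subset with normalizer `K K*` -/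
theorem bg14_zhat_ti (hG : Cfsg.IsMinSimpleOddOrder G) (hM : IsCoatom M)
    (hK : Cfsg.IsPiHallOf (Cfsg.kappa M) K M) (hK1 : K ≠ ⊥)
    (ha : ∀ g : G, g ∉ M → (Cfsg.sigmaCore M ⊓ Subgroup.centralizer (K : Set G)) ⊓
      M.map (MulAut.conj g).toMonoidHom = ⊥)
    (hb : ∀ g ∈ M, g ∉ K ⊔ (Cfsg.sigmaCore M ⊓ Subgroup.centralizer (K : Set G)) →
      K ⊓ K.map (MulAut.conj g).toMonoidHom = ⊥) :
    Cfsg.IsTISubset (bg14Zhat M K) ∧ Subgroup.normalizer (bg14Zhat M K) =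
      K ⊔ (Cfsg.sigmaCore M ⊓ Subgroup.centralizer (K : Set G)) := by
  have hnorm : Subgroup.normalizer (bg14Zhat M K) =
      K ⊔ (Cfsg.sigmaCore M ⊓ Subgroup.centralizer (K : Set G)) := by
    apply le_antisymm
    · intro g hg
      obtain ⟨z, hz⟩ := bg14_zhat_nonempty hG hM hK hK1
      have := (Subgroup.mem_set_normalizer_iff.mp hg z).mp hz
      exact bg14_zhat_key hG hM hK ha hb hz this
    · intro t ht
      rw [Subgroup.mem_set_normalizer_iff]
      intro n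
      constructor
      · intro hn
        exact bg14_zhat_inv hn ht
      · intro hn
        have := bg14_zhat_inv hn (Subgroup.inv_mem _ ht)
        have e : t⁻¹ * (t * n * t⁻¹) * t⁻¹⁻¹ = n := by group
        rwa [e] at this
  refine ⟨?_, hnorm⟩
  intro g hg x hx hgx
  exact absurd (hnorm ▸ bg14_zhat_key hG hM hK ha hb hx hgx) hg

/-- **B & G Theorem 14.7(e), second half**: the number of conjugates of elements of `Ẑ` -/
theorem bg14_zhat_count (hG : Cfsg.IsMinSimpleOddOrder G) (hM : IsCoatom M)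
    (hK : Cfsg.IsPiHallOf (Cfsg.kappa M) K M) (hK1 : K ≠ ⊥)
    (ha : ∀ g : G, g ∉ M → (Cfsg.sigmaCore M ⊓ Subgroup.centralizer (K : Set G)) ⊓
      M.map (MulAut.conj g).toMonoidHom = ⊥)
    (hb : ∀ g ∈ M, g ∉ K ⊔ (Cfsg.sigmaCore M ⊓ Subgroup.centralizer (K : Set G)) →
      K ⊓ K.map (MulAut.conj g).toMonoidHom = ⊥) :
    Nat.card K * Nat.card ↥(Cfsg.sigmaCore M ⊓ Subgroup.centralizer (K : Set G)) *
        Set.ncard {a : G | ∃ g : G, ∃ z ∈ bg14Zhat M K, a = g * z * g⁻¹} =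
      (Nat.card K * Nat.card ↥(Cfsg.sigmaCore M ⊓ Subgroup.centralizer (K : Set G)) - Nat.card K -
        Nat.card ↥(Cfsg.sigmaCore M ⊓ Subgroup.centralizer (K : Set G)) + 1) * Nat.card G ∧
    Nat.card G < 2 * Set.ncard {a : G | ∃ g : G, ∃ z ∈ bg14Zhat M K, a = g * z * g⁻¹} := by
  classical
  obtain ⟨Ks, hKs⟩ : ∃ Ks : Subgroup G,
      Ks = Cfsg.sigmaCore M ⊓ Subgroup.centralizer (K : Set G) := ⟨_, rfl⟩
  have hcount := bg14_ti_count_eq (K ⊔ (Cfsg.sigmaCore M ⊓ Subgroup.centralizer (K : Set G)))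
    (bg14Zhat M K) (fun w hw g hg => bg14_zhat_key hG hM hK ha hb hw hg)
    (fun w hw t ht => bg14_zhat_inv hw ht)
  rw [← hKs] at hcount ⊢
  have hKs1 : Ks ≠ ⊥ := by rw [hKs]; exact bg14_kstar_ne_bot hG hM hK hK1
  have hKσ : K ⊓ Cfsg.sigmaCore M = ⊥ :=
    Cfsg.Agent.Lib.Helper1.BG15.kappa_inf_sigmaCore hG hM hK.2.1
  have hinf : K ⊓ Ks = ⊥ := by
    rw [eq_bot_iff, ← hKσ, hKs]
    exact inf_le_inf_left _ inf_le_left
  have hKC : K ≤ Subgroup.normalizer (Ks : Set G) := by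
    refine le_trans ?_ (Subgroup.centralizer_le_normalizer _)
    intro k hk
    rw [Subgroup.mem_centralizer_iff]
    intro y hy
    rw [hKs] at hy
    exact (Subgroup.mem_centralizer_iff.mp hy.2 k hk).symm
  have hZ : Nat.card (K ⊔ Ks : Subgroup G) = Nat.card K * Nat.card Ks :=
    Cfsg.Agent.Lib.Helper1.BG12b.card_sup_of_inf_eq_bot hKC hinf
  have hidx : (K ⊔ Ks).index * (Nat.card K * Nat.card Ks) = Nat.card G := by
    rw [← hZ]; exact Subgroup.index_mul_card _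
  -- the size of `Ẑ`
  have hZhat : (bg14Zhat M K).ncard + Nat.card K + Nat.card Ks = Nat.card K * Nat.card Ks + 1 := by
    have h1 : (bg14Zhat M K).ncard =
        ((K ⊔ Ks : Subgroup G) : Set G).ncard - ((K : Set G) ∪ (Ks : Set G)).ncard := by
      unfold bg14Zhat
      rw [← hKs]
      apply Set.ncard_sdiff _ (Set.toFinite _)
      intro y hy
      rcases hy with h | h
      · exact Subgroup.mem_sup_left h
      · exact Subgroup.mem_sup_right h
    have h2 := Set.ncard_union_add_ncard_inter (K : Set G) (Ks : Set G)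
    have h3 : ((K : Set G) ∩ (Ks : Set G)) = {1} := by
      ext y
      constructor
      · rintro ⟨hy1, hy2⟩
        have : y ∈ K ⊓ Ks := Subgroup.mem_inf.mpr ⟨hy1, hy2⟩
        rw [hinf, Subgroup.mem_bot] at this
        exact this
      · rintro rfl
        exact ⟨K.one_mem, Ks.one_mem⟩
    rw [h3, Set.ncard_singleton] at h2
    have h4 : ((K ⊔ Ks : Subgroup G) : Set G).ncard = Nat.card K * Nat.card Ks := by
      rw [← hZ, ← Nat.card_coe_set_eq]; rfl
    have h5 : (K : Set G).ncard = Nat.card K := by rw [← Nat.card_coe_set_eq]; rfl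
    have h6 : (Ks : Set G).ncard = Nat.card Ks := by rw [← Nat.card_coe_set_eq]; rfl
    have h7 : ((K : Set G) ∪ (Ks : Set G)).ncard ≤ ((K ⊔ Ks : Subgroup G) : Set G).ncard := by
      apply Set.ncard_le_ncard _ (Set.toFinite _)
      intro y hy
      rcases hy with h | h
      · exact Subgroup.mem_sup_left h
      · exact Subgroup.mem_sup_right h
    rw [h4] at h1 h7
    rw [h5, h6] at h2
    omega
  -- sizes of `K`, `K*`
  have hodd : ∀ H : Subgroup G, H ≠ ⊥ → 3 ≤ Nat.card H := by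
    intro H hH
    have h1 : Nat.card H ≠ 1 := fun h => hH (Subgroup.card_eq_one.mp h)
    have h2 : Odd (Nat.card H) := hG.1.of_dvd_nat (Subgroup.card_subgroup_dvd_card H)
    have h3 : 0 < Nat.card H := Nat.card_pos
    obtain ⟨m, hm⟩ := h2
    omega
  have hk3 := hodd K hK1
  have hs3 := hodd Ks hKs1
  have hcop : (Nat.card K).Coprime (Nat.card Ks) := by
    apply Nat.Coprime.coprime_dvd_right _ (bg14_coprime_K_sigma hG hM hK)
    rw [hKs]
    exact Subgroup.card_dvd_of_le inf_le_left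
  have hne : Nat.card K ≠ Nat.card Ks := by
    intro h
    rw [h, Nat.coprime_self] at hcop
    omega
  have hoddK : Odd (Nat.card K) := hG.1.of_dvd_nat (Subgroup.card_subgroup_dvd_card K)
  have hoddS : Odd (Nat.card Ks) := hG.1.of_dvd_nat (Subgroup.card_subgroup_dvd_card Ks)
  obtain ⟨a, ha'⟩ := hoddK
  obtain ⟨b, hb'⟩ := hoddS
  constructor
  · rw [hcount]
    have : Nat.card K * Nat.card Ks - Nat.card K - Nat.card Ks + 1 = (bg14Zhat M K).ncard := by
      have hge : Nat.card K + Nat.card Ks ≤ Nat.card K * Nat.card Ks := by nlinarith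
      generalize Nat.card K * Nat.card Ks = P at hZhat hge ⊢
      omega
    rw [this]
    calc Nat.card K * Nat.card Ks * ((K ⊔ Ks).index * (bg14Zhat M K).ncard)
        = ((K ⊔ Ks).index * (Nat.card K * Nat.card Ks)) * (bg14Zhat M K).ncard := by ring
      _ = (bg14Zhat M K).ncard * Nat.card G := by rw [hidx]; ring
  · rw [hcount, ← hidx]
    have hd : 0 < (K ⊔ Ks).index := Nat.pos_of_ne_zero Subgroup.index_ne_zero_of_finite
    have hkey : Nat.card K * Nat.card Ks < 2 * (bg14Zhat M K).ncard := by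
      have h1 : a ≠ b := by
        intro h; apply hne; rw [ha', hb', h]
      have h2 : 1 ≤ a := by omega
      have h3 : 1 ≤ b := by omega
      rw [ha', hb'] at hZhat ⊢
      rcases Nat.lt_or_gt_of_ne h1 with h | h
      · nlinarith
      · nlinarith
    calc (K ⊔ Ks).index * (Nat.card K * Nat.card Ks)
        < (K ⊔ Ks).index * (2 * (bg14Zhat M K).ncard) := Nat.mul_lt_mul_of_pos_left hkey hd
      _ = 2 * ((K ⊔ Ks).index * (bg14Zhat M K).ncard) := by ring

end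

end Cfsg.Agent.Lib.Helper13.BG14
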