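import Mathlib
import Cfsg.Prelude.Def_OddOrderLocal
import Cfsg.Agent.Lib.Helper13.BG14Z
import Cfsg.Agent.Lib.Helper11.KappaTauFinal
import Cfsg.Agent.Lib.Helper11.FrobFourTerm2
import Cfsg.Agent.Lib.Helper1.BG14.UAbelian
import Cfsg.Agent.S1429

set_option autoImplicit false

/-! `U ≠ 1 ⟹ |K|` is prime (B & G Theorem 15.2 / the kill of cycles of maximal subgroups of type
`𝒫` with a composite `K`), from the Frobenius–Wielandt fixed point formula (helper11) and
`C_{M_σ}(U) = 1` (S1429). (helper13) -/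

namespace Cfsg.Agent.Lib.Helper13.BG14

open Cfsg Cfsg.Agent.Lib.Helper18 Cfsg.Agent.Lib.Helper28.BGt

variable {G : Type*} [Group G] [Finite G]

/-- Theorem 13.12 in helper1's form, unconditionally -/
theorem bg14_T1312 (hG : Cfsg.IsMinSimpleOddOrder G) {M : Subgroup G} (hM : IsCoatom M) :
    Cfsg.Agent.Lib.Helper1.BG14.T1312 M := by
  apply Cfsg.Agent.Lib.Helper1.BG14.T1312_of_lemL hG hM
  intro E P R p r hE hp hr hPE hPc hne hRE hRc
  exact Cfsg.Agent.Lib.Helper18.LemLFinal.lemma_L hG hM hE hp hr hPE hPc hne hRE hRc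

/-- `κ(M) ⊆ τ₁(M)` (helper11's final form) -/
theorem bg14_Hkappa (hG : Cfsg.IsMinSimpleOddOrder G) {M : Subgroup G} (hM : IsCoatom M) :
    ∀ p ∈ Cfsg.kappa M, p ∈ Cfsg.tau1 M := by
  intro p hp
  exact Cfsg.Agent.Lib.Helper11.KappaTauFinal.kappa_sub_tau1 hG hM p hp

section

variable {M K U : Subgroup G}

/-- primes of `U` lie outside `σ(M)` and `κ(M)` -/
theorem bg14_prime_U (hG : Cfsg.IsMinSimpleOddOrder G) (hM : IsCoatom M)
    (hKU : Cfsg.IsSigmaDecomposition M K U) {r : ℕ} (hr : r.Prime) (hrU : r ∣ Nat.card U) :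
    r ∉ Cfsg.sigma M ∧ r ∉ Cfsg.kappa M ∧ r ∣ Nat.card M ∧
      ¬ r ∣ Nat.card (K ⊔ Cfsg.sigmaCore M : Subgroup G) := by
  have hE := Cfsg.Agent.Lib.Helper1.BG15.compl_of_decomp hG hM hKU
  have hrσ : r ∉ Cfsg.sigma M :=
    compl_prime_not_sigma hG hM hE hr (hrU.trans (Subgroup.card_dvd_of_le le_sup_left))
  have hcardM := Cfsg.Agent.Lib.Helper1.BG15.card_of_isComplIn hKU.compl
  have hKσ : K ⊓ Cfsg.sigmaCore M = ⊥ :=
    Cfsg.Agent.Lib.Helper1.BG15.kappa_inf_sigmaCore hG hM hKU.hall.2.1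
  have hKN : K ≤ Subgroup.normalizer (Cfsg.sigmaCore M : Set G) :=
    hKU.hall.1.trans (Cfsg.Agent.Lib.Helper1.BG12.le_normalizer_sigmaCore M)
  have hcardKS : Nat.card (K ⊔ Cfsg.sigmaCore M : Subgroup G) =
      Nat.card K * Nat.card (Cfsg.sigmaCore M) :=
    Cfsg.Agent.Lib.Helper1.BG12b.card_sup_of_inf_eq_bot hKN hKσ
  have hrM : r ∣ Nat.card M := by rw [hcardM]; exact Dvd.dvd.mul_right hrU _
  have hrS : ¬ r ∣ Nat.card (Cfsg.sigmaCore M) := fun h => hrσ (prime_sigmaCore hG hM hr h)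
  have hrκ : r ∉ Cfsg.kappa M := by
    intro hrκ
    have h1 := hKU.hall.2.2 r hr hrκ
    apply h1
    have h2 := Cfsg.Agent.Lib.Helper1.BG12.card_mul_relIndex_of_le hKU.hall.1
    rw [hcardM, hcardKS] at h2
    have hpos : 0 < Nat.card K := Nat.card_pos
    have h3 : K.relIndex M = Nat.card U * Nat.card (Cfsg.sigmaCore M) := by
      apply Nat.eq_of_mul_eq_mul_left hpos
      rw [h2]; ring
    rw [h3]
    exact Dvd.dvd.mul_right hrU _
  refine ⟨hrσ, hrκ, hrM, ?_⟩
  rw [hcardKS]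
  intro h
  rcases (Nat.Prime.dvd_mul hr).mp h with h | h
  · exact hrκ (hKU.hall.2.1 r hr h)
  · exact hrS h

/-- `C_{M_σ}(U) = 1` when `U ≠ 1` -/
theorem bg14_cent_U_eq_bot (hG : Cfsg.IsMinSimpleOddOrder G) (hM : IsCoatom M)
    (hKU : Cfsg.IsSigmaDecomposition M K U) (hU1 : U ≠ ⊥) :
    Cfsg.sigmaCore M ⊓ Subgroup.centralizer (U : Set G) = ⊥ := by
  classical
  have hc1 : Nat.card U ≠ 1 := fun h => hU1 (Subgroup.card_eq_one.mp h)
  obtain ⟨r, hr, hrU⟩ := Nat.exists_prime_and_dvd hc1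
  haveI : Fact r.Prime := ⟨hr⟩
  obtain ⟨hrσ, hrκ, hrM, hrKS⟩ := bg14_prime_U hG hM hKU hr hrU
  have hcardM := Cfsg.Agent.Lib.Helper1.BG15.card_of_isComplIn hKU.compl
  have hUM : U ≤ M := hKU.compl.1
  -- a Sylow `r`-subgroup of `M` inside `U`
  obtain ⟨R₀⟩ : Nonempty (Sylow r U) := inferInstance
  obtain ⟨R, hRdef⟩ : ∃ R : Subgroup G, R = (R₀ : Subgroup U).map U.subtype := ⟨_, rfl⟩
  have hRU : R ≤ U := by rw [hRdef]; exact Subgroup.map_subtype_le _
  have hRcard : Nat.card R = r ^ (Nat.card U).factorization r := by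
    rw [hRdef, Subgroup.card_map_of_injective (Subgroup.subtype_injective U)]
    exact R₀.card_eq_multiplicity
  have hfac : (Nat.card M).factorization r = (Nat.card U).factorization r := by
    rw [hcardM, Nat.factorization_mul (Nat.card_pos).ne' (Nat.card_pos).ne']
    simp [Nat.factorization_eq_zero_of_not_dvd hrKS]
  have hR' : IsPGroup r (R.subgroupOf M) := by
    have h1 : IsPGroup r R := IsPGroup.of_card hRcard
    exact h1.comap_of_injective M.subtype (Subgroup.subtype_injective M)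
  obtain ⟨S, hS⟩ := hR'.exists_le_sylow
  have hScard : Nat.card (S : Subgroup M) = r ^ (Nat.card U).factorization r := by
    rw [← hfac]; exact S.card_eq_multiplicity
  have hR'card : Nat.card (R.subgroupOf M) = r ^ (Nat.card U).factorization r := by
    rw [← hRcard]
    exact Cfsg.Agent.Lib.Helper11.FrobConcCore.card_subgroupOf_eq (hRU.trans hUM)
  have hSeq : R.subgroupOf M = (S : Subgroup M) := by
    apply Subgroup.eq_of_le_of_card_ge hS
    rw [hScard, hR'card]
  have hSmap : (S : Subgroup M).map M.subtype = R := by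
    rw [← hSeq, Subgroup.subgroupOf_map_subtype]
    exact inf_eq_left.mpr (hRU.trans hUM)
  have hP1 : ¬ (∀ q : ℕ, q.Prime → q ∣ Nat.card M → q ∉ Cfsg.sigma M → q ∈ Cfsg.kappa M) :=
    fun h => hrκ (h r hr hrM hrσ)
  have h29 := (Cfsg.Agent.S1429.result hG M hM hP1 r hrM (by
    rintro (h | h)
    · exact hrσ h
    · exact hrκ h) S).2.1
  rw [eq_bot_iff, ← h29]
  apply inf_le_inf_left
  apply Subgroup.centralizer_le
  intro x hx
  refine hRU ?_
  have : Subgroup.closure {x : G | x ∈ (S : Subgroup M).map M.subtype ∧ x ^ r = 1} ≤ R := by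
    rw [Subgroup.closure_le]
    intro y hy
    rw [← hSmap]
    exact hy.1
  exact this hx

/-- **B & G Theorem 15.2 (first step)**: if `U ≠ 1` then `K` has prime order -/
theorem bg14_card_K_prime (hG : Cfsg.IsMinSimpleOddOrder G) (hM : IsCoatom M)
    (hKU : Cfsg.IsSigmaDecomposition M K U) (hK1 : K ≠ ⊥) (hU1 : U ≠ ⊥) :
    (Nat.card K).Prime := by
  classical
  have Hκ := bg14_Hkappa hG hM
  have HL := bg14_T1312 hG hM
  have hUab := Cfsg.Agent.Lib.Helper1.BG14.U_abelian hG hM Hκ HL hKU hK1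
  have hreg := Cfsg.Agent.Lib.Helper1.BG14.kappa_regular_on_U hG hM Hκ HL hKU
  have hCU := bg14_cent_U_eq_bot hG hM hKU hU1
  have hK := hKU.hall
  have h30 := (bg14_two_uncond hG hM hK hK1).1
  have hKs1 := bg14_kstar_ne_bot hG hM hK hK1
  -- data for the four term formula
  have hUM : U ≤ M := hKU.compl.1
  have hUH : U ≤ Subgroup.normalizer (Cfsg.sigmaCore M : Set G) :=
    hUM.trans (Cfsg.Agent.Lib.Helper1.BG12.le_normalizer_sigmaCore M)
  have hKH : K ≤ Subgroup.normalizer (Cfsg.sigmaCore M : Set G) :=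
    hK.1.trans (Cfsg.Agent.Lib.Helper1.BG12.le_normalizer_sigmaCore M)
  have hUnil : Group.IsNilpotent U := by
    have : IsMulCommutative U := hUab
    let _ : CommGroup U := { (inferInstance : Group U) with mul_comm := fun a b => mul_comm' a b }
    infer_instance
  have hne : Cfsg.sigmaCore M ≠ ⊤ := fun h => hM.1 (top_le_iff.mp (h ▸ sigmaCore_le M))
  have hsolv : Group.IsSolvable (Cfsg.sigmaCore M) := hG.2.2.2 _ hne
  have hcopU : (Nat.card (Cfsg.sigmaCore M)).Coprime (Nat.card U) := by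
    apply Nat.coprime_of_dvd
    intro p hp h1 h2
    exact (bg14_prime_U hG hM hKU hp h2).1 (prime_sigmaCore hG hM hp h1)
  have hcopK : (Nat.card (Cfsg.sigmaCore M)).Coprime (Nat.card K) :=
    (bg14_coprime_K_sigma hG hM hK).symm
  -- a subgroup of prime order of `K`
  have hc1 : Nat.card K ≠ 1 := fun h => hK1 (Subgroup.card_eq_one.mp h)
  obtain ⟨p, hp, hpd⟩ := Nat.exists_prime_and_dvd hc1
  haveI : Fact p.Prime := ⟨hp⟩
  obtain ⟨x, hx⟩ := exists_prime_orderOf_dvd_card' p hpd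
  have hxo : orderOf (x : G) = p := by rw [Subgroup.orderOf_coe]; exact hx
  have hx1 : (x : G) ≠ 1 := by
    intro h
    rw [h, orderOf_one] at hxo
    exact hp.one_lt.ne hxo
  have hEK : Subgroup.zpowers (x : G) ≤ K := Subgroup.zpowers_le.mpr x.2
  have hEc : Nat.card (Subgroup.zpowers (x : G)) = p := by rw [Nat.card_zpowers, hxo]
  -- the formula for `K`
  have f1 := Cfsg.Agent.Lib.Helper11.FrobFourTerm2.four_term_conc (Cfsg.sigmaCore M) U K hUH hKH
    hKU.normal hUnil hreg hsolv hcopU hcopK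
  -- the formula for `⟨x⟩`
  have f2 := Cfsg.Agent.Lib.Helper11.FrobFourTerm2.four_term_conc (Cfsg.sigmaCore M) U
    (Subgroup.zpowers (x : G)) hUH (hEK.trans hKH) (hEK.trans hKU.normal) hUnil
    (fun e he he1 => hreg e (hEK he) he1) hsolv hcopU
    (Nat.Coprime.coprime_dvd_right (Subgroup.card_dvd_of_le hEK) hcopK)
  have e1 : Cfsg.sigmaCore M ⊓ Subgroup.centralizer ((U ⊔ K : Subgroup G) : Set G) = ⊥ := by
    rw [eq_bot_iff, ← hCU]
    exact inf_le_inf_left _ (Subgroup.centralizer_le (by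
      intro y hy
      exact (le_sup_left : U ≤ U ⊔ K) hy))
  have e2 : Cfsg.sigmaCore M ⊓ Subgroup.centralizer
      ((U ⊔ Subgroup.zpowers (x : G) : Subgroup G) : Set G) = ⊥ := by
    rw [eq_bot_iff, ← hCU]
    exact inf_le_inf_left _ (Subgroup.centralizer_le (by
      intro y hy
      exact (le_sup_left : U ≤ U ⊔ Subgroup.zpowers (x : G)) hy))
  have e3 : Cfsg.sigmaCore M ⊓ Subgroup.centralizer ((Subgroup.zpowers (x : G) : Subgroup G) :
      Set G) = Cfsg.sigmaCore M ⊓ Subgroup.centralizer (K : Set G) := by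
    rw [Cfsg.Agent.Lib.Helper1.BG14.centralizer_zpowers_eq]
    exact h30 (x : G) x.2 hx1
  rw [e1, hCU, Subgroup.card_bot, one_pow, one_mul, mul_one] at f1
  rw [e2, hCU, e3, Subgroup.card_bot, one_pow, one_mul, mul_one, hEc] at f2
  have hs2 : 2 ≤ Nat.card ↥(Cfsg.sigmaCore M ⊓ Subgroup.centralizer (K : Set G)) := by
    have h1 : Nat.card ↥(Cfsg.sigmaCore M ⊓ Subgroup.centralizer (K : Set G)) ≠ 1 :=
      fun h => hKs1 (Subgroup.card_eq_one.mp h)
    have h2 : 0 < Nat.card ↥(Cfsg.sigmaCore M ⊓ Subgroup.centralizer (K : Set G)) := Nat.card_pos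
    omega
  have := Nat.pow_right_injective hs2 (f1.symm.trans f2)
  rw [this]
  exact hp

end

end Cfsg.Agent.Lib.Helper13.BG14
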