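import Mathlib
import Cfsg.Prelude.Def_OddOrderLocal
import Cfsg.Agent.Lib.Helper13.BG14U
import Cfsg.Agent.Lib.Helper11.NilpCoprime
import Cfsg.Agent.Lib.Helper1.BG14c.PairA
import Cfsg.Agent.Lib.Helper18.BGFifteenA
import Cfsg.Agent.S1374
import Cfsg.Agent.S1378
import Cfsg.Agent.S1431
import Cfsg.Agent.S1432

set_option autoImplicit false

/-! `F(M)` is a TI-subset when `K ≠ 1` and `U ≠ 1` (B & G Theorem 15.7 for maximal subgroups of
type `𝒫₂`), by a direct argument. (helper13) -/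

namespace Cfsg.Agent.Lib.Helper13.BG14

open Cfsg Cfsg.Agent.Lib.Helper18 Cfsg.Agent.Lib.Helper28.BGt

variable {G : Type*} [Group G] [Finite G]

/-- transfer of a rank bound to subgroups of `G` inside `N` -/
theorem bg14_card_le_of_pRankLE {p k : ℕ} {N A : Subgroup G} (h : Cfsg.PRankLE p k ↥N)
    (hAN : A ≤ N) (hc : ∀ a ∈ A, ∀ b ∈ A, a * b = b * a) (he : ∀ a ∈ A, a ^ p = 1) :
    Nat.card A ≤ p ^ k := by
  have h1 := h (A.subgroupOf N) ?_ ?_
  · rwa [Nat.card_congr (Subgroup.subgroupOfEquivOfLe hAN).toEquiv] at h1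
  · refine ⟨⟨fun a b => ?_⟩⟩
    apply Subtype.ext
    apply Subtype.ext
    have := hc a.1.1 a.2 b.1.1 b.2
    simpa using this
  · intro a ha
    apply Subtype.ext
    have := he a.1 ha
    simpa using this

section

variable {M K U : Subgroup G}

/-- Frobenius–Wielandt for `UK`-invariant subgroups of `M_σ` -/
theorem bg14_fw (hG : Cfsg.IsMinSimpleOddOrder G) (hM : IsCoatom M)
    (hKU : Cfsg.IsSigmaDecomposition M K U) (hK1 : K ≠ ⊥) (hU1 : U ≠ ⊥) {Q : Subgroup G}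
    (hQ : Q ≤ Cfsg.sigmaCore M) (hUQ : U ≤ Subgroup.normalizer (Q : Set G))
    (hKQ : K ≤ Subgroup.normalizer (Q : Set G)) :
    Nat.card Q = Nat.card ↥(Q ⊓ Subgroup.centralizer (K : Set G)) ^ Nat.card K := by
  classical
  have Hκ := bg14_Hkappa hG hM
  have HL := bg14_T1312 hG hM
  have hUab := Cfsg.Agent.Lib.Helper1.BG14.U_abelian hG hM Hκ HL hKU hK1
  have hreg := Cfsg.Agent.Lib.Helper1.BG14.kappa_regular_on_U hG hM Hκ HL hKU
  have hCU := bg14_cent_U_eq_bot hG hM hKU hU1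
  have hK := hKU.hall
  have hUnil : Group.IsNilpotent U := by
    have : IsMulCommutative U := hUab
    let _ : CommGroup U := { (inferInstance : Group U) with mul_comm := fun a b => mul_comm' a b }
    infer_instance
  have hne : Q ≠ ⊤ := fun h => hM.1 (top_le_iff.mp (h ▸ (hQ.trans (sigmaCore_le M))))
  have hsolv : Group.IsSolvable Q := hG.2.2.2 _ hne
  have hcopU : (Nat.card Q).Coprime (Nat.card U) := by
    apply Nat.coprime_of_dvd
    intro p hp h1 h2
    exact (bg14_prime_U hG hM hKU hp h2).1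
      (prime_sigmaCore hG hM hp (h1.trans (Subgroup.card_dvd_of_le hQ)))
  have hcopK : (Nat.card Q).Coprime (Nat.card K) :=
    Nat.Coprime.coprime_dvd_left (Subgroup.card_dvd_of_le hQ)
      (bg14_coprime_K_sigma hG hM hK).symm
  have f1 := Cfsg.Agent.Lib.Helper11.FrobFourTerm2.four_term_conc Q U K hUQ hKQ
    hKU.normal hUnil hreg hsolv hcopU hcopK
  have e0 : Q ⊓ Subgroup.centralizer (U : Set G) = ⊥ := by
    rw [eq_bot_iff, ← hCU]
    exact inf_le_inf_right _ hQ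
  have e1 : Q ⊓ Subgroup.centralizer ((U ⊔ K : Subgroup G) : Set G) = ⊥ := by
    rw [eq_bot_iff, ← e0]
    exact inf_le_inf_left _ (Subgroup.centralizer_le (by
      intro y hy
      exact (le_sup_left : U ≤ U ⊔ K) hy))
  rw [e1, e0, Subgroup.card_bot, one_pow, one_mul, mul_one] at f1
  exact f1

/-- `|M_σ| = |K*| ^ |K|` when `U ≠ 1` -/
theorem bg14_card_sigmaCore_eq_pow (hG : Cfsg.IsMinSimpleOddOrder G) (hM : IsCoatom M)
    (hKU : Cfsg.IsSigmaDecomposition M K U) (hK1 : K ≠ ⊥) (hU1 : U ≠ ⊥) :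
    Nat.card (Cfsg.sigmaCore M) =
      Nat.card ↥(Cfsg.sigmaCore M ⊓ Subgroup.centralizer (K : Set G)) ^ Nat.card K :=
  bg14_fw hG hM hKU hK1 hU1 le_rfl
    (hKU.compl.1.trans (Cfsg.Agent.Lib.Helper1.BG12.le_normalizer_sigmaCore M))
    (hKU.hall.1.trans (Cfsg.Agent.Lib.Helper1.BG12.le_normalizer_sigmaCore M))

/-- no `UK`-invariant subgroup of `M_σ` has prime order -/
theorem bg14_no_inv_prime (hG : Cfsg.IsMinSimpleOddOrder G) (hM : IsCoatom M)
    (hKU : Cfsg.IsSigmaDecomposition M K U) (hK1 : K ≠ ⊥) (hU1 : U ≠ ⊥) {Q : Subgroup G}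
    (hQ : Q ≤ Cfsg.sigmaCore M) (hUQ : U ≤ Subgroup.normalizer (Q : Set G))
    (hKQ : K ≤ Subgroup.normalizer (Q : Set G)) : ¬ (Nat.card Q).Prime := by
  intro hp
  have h1 := bg14_fw hG hM hKU hK1 hU1 hQ hUQ hKQ
  have hKp := bg14_card_K_prime hG hM hKU hK1 hU1
  have h2 : 2 ≤ Nat.card K := hKp.two_le
  have hd : Nat.card ↥(Q ⊓ Subgroup.centralizer (K : Set G)) ∣ Nat.card Q :=
    Subgroup.card_dvd_of_le inf_le_left
  rcases (Nat.dvd_prime hp).mp hd with h | h
  · rw [h, one_pow] at h1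
    rw [h1] at hp
    exact Nat.not_prime_one hp
  · rw [h] at h1
    have h3 : Nat.card Q ^ 1 = Nat.card Q ^ Nat.card K := by rw [pow_one]; exact h1
    have := Nat.pow_right_injective hp.two_le h3
    omega


/-- `M_σ` is nilpotent when `U ≠ 1` -/
theorem bg14_sigmaCore_nilpotent_of_U (hG : Cfsg.IsMinSimpleOddOrder G) (hM : IsCoatom M)
    (hKU : Cfsg.IsSigmaDecomposition M K U) (hU1 : U ≠ ⊥) :
    Group.IsNilpotent (Cfsg.sigmaCore M) := by
  have hc1 : Nat.card U ≠ 1 := fun h => hU1 (Subgroup.card_eq_one.mp h)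
  obtain ⟨r, hr, hrU⟩ := Nat.exists_prime_and_dvd hc1
  haveI : Fact r.Prime := ⟨hr⟩
  obtain ⟨hrσ, hrκ, hrM, -⟩ := bg14_prime_U hG hM hKU hr hrU
  have hP1 : ¬ (∀ q : ℕ, q.Prime → q ∣ Nat.card M → q ∉ Cfsg.sigma M → q ∈ Cfsg.kappa M) :=
    fun h => hrκ (h r hr hrM hrσ)
  obtain ⟨S⟩ : Nonempty (Sylow r M) := inferInstance
  exact (Cfsg.Agent.S1429.result hG M hM hP1 r hrM (by
    rintro (h | h)
    · exact hrσ h
    · exact hrκ h) S).2.2

end

/-- a nilpotent group of order divisible by `q` has a central element of order `q` -/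
theorem bg14_exists_central_prime {H : Type*} [Group H] [Finite H] [hn : Group.IsNilpotent H]
    {q : ℕ} [hq : Fact q.Prime] (hd : q ∣ Nat.card H) :
    ∃ z ∈ Subgroup.center H, orderOf z = q := by
  obtain ⟨S⟩ : Nonempty (Sylow q H) := inferInstance
  have h03 := (Group.isNilpotent_of_finite_tfae (G := H)).out 0 3
  haveI hSn : (S : Subgroup H).Normal := h03.mp hn q hq S
  have hS1 : (S : Subgroup H) ≠ ⊥ := S.ne_bot_of_dvd_card hd
  have h := Cfsg.Agent.Lib.Helper1.normal_inf_center_ne_bot (S : Subgroup H) hS1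
  have hp : IsPGroup q ↥((S : Subgroup H) ⊓ Subgroup.center H) := S.isPGroup'.to_le inf_le_left
  obtain ⟨k, hk⟩ := IsPGroup.iff_card.mp hp
  have hk0 : k ≠ 0 := by
    rintro rfl
    rw [pow_zero] at hk
    exact h (Subgroup.card_eq_one.mp hk)
  have hd' : q ∣ Nat.card ↥((S : Subgroup H) ⊓ Subgroup.center H) := by
    rw [hk]; exact dvd_pow_self q hk0
  obtain ⟨z, hz⟩ := exists_prime_orderOf_dvd_card' q hd'
  refine ⟨(z : H), z.2.2, ?_⟩
  rw [Subgroup.orderOf_coe]; exact hz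

/-- the subgroup `Ω₁(O_q(Z(M_σ)))` -/
def bg14W (M : Subgroup G) (q : ℕ) : Subgroup G where
  carrier := {z | z ∈ Cfsg.sigmaCore M ∧ (∀ y ∈ Cfsg.sigmaCore M, y * z = z * y) ∧ z ^ q = 1}
  mul_mem' := by
    rintro a b ⟨ha, hac, haq⟩ ⟨hb, hbc, hbq⟩
    refine ⟨mul_mem ha hb, ?_, ?_⟩
    · intro y hy
      rw [← mul_assoc, hac y hy, mul_assoc, hbc y hy, mul_assoc]
    · have hc : Commute a b := (hac b hb).symm
      rw [hc.mul_pow, haq, hbq, one_mul]
  one_mem' := ⟨one_mem _, by simp, one_pow _⟩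
  inv_mem' := by
    rintro a ⟨ha, hac, haq⟩
    refine ⟨inv_mem ha, ?_, by rw [inv_pow, haq, inv_one]⟩
    intro y hy
    have := hac y hy
    calc y * a⁻¹ = a⁻¹ * (a * y) * a⁻¹ := by group
      _ = a⁻¹ * (y * a) * a⁻¹ := by rw [this]
      _ = a⁻¹ * y := by group

theorem bg14W_le (M : Subgroup G) (q : ℕ) : bg14W M q ≤ Cfsg.sigmaCore M := fun _ hz => hz.1

theorem bg14W_normal (M : Subgroup G) (q : ℕ) :
    M ≤ Subgroup.normalizer (bg14W M q : Set G) := by
  have hn := Cfsg.Agent.Lib.Helper1.BG12.le_normalizer_sigmaCore M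
  have key : ∀ m ∈ M, ∀ z ∈ bg14W M q, m * z * m⁻¹ ∈ bg14W M q := by
    rintro m hm z ⟨hz, hzc, hzq⟩
    have hc : ∀ y ∈ Cfsg.sigmaCore M, m * y * m⁻¹ ∈ Cfsg.sigmaCore M := fun y hy =>
      (Subgroup.mem_normalizer_iff.mp (hn hm) y).mp hy
    have hc' : ∀ y ∈ Cfsg.sigmaCore M, m⁻¹ * y * m ∈ Cfsg.sigmaCore M := fun y hy => by
      have := (Subgroup.mem_normalizer_iff.mp (hn (M.inv_mem hm)) y).mp hy
      rwa [inv_inv] at this
    refine ⟨hc z hz, ?_, ?_⟩
    · intro y hy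
      have h1 := hzc (m⁻¹ * y * m) (hc' y hy)
      calc y * (m * z * m⁻¹) = m * ((m⁻¹ * y * m) * z) * m⁻¹ := by group
        _ = m * (z * (m⁻¹ * y * m)) * m⁻¹ := by rw [h1]
        _ = m * z * m⁻¹ * y := by group
    · rw [conj_pow, hzq, mul_one, mul_inv_cancel]
  intro m hm
  rw [Subgroup.mem_normalizer_iff]
  intro z
  constructor
  · exact key m hm z
  · intro h
    have := key m⁻¹ (M.inv_mem hm) _ h
    have e : m⁻¹ * (m * z * m⁻¹) * m⁻¹⁻¹ = z := by group
    rwa [e] at this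

section

variable {M K U : Subgroup G}

/-- the `σ(M)`-case of the TI-property of `F(M)` -/
theorem bg14_fitting_TI_sigma (hG : Cfsg.IsMinSimpleOddOrder G) (hM : IsCoatom M)
    (hKU : Cfsg.IsSigmaDecomposition M K U) (hK1 : K ≠ ⊥) (hU1 : U ≠ ⊥) {x : G} {q : ℕ}
    (hq : q.Prime) (hx : x ∈ Cfsg.sigmaCore M) (hxo : orderOf x = q) :
    Subgroup.centralizer ({x} : Set G) ≤ M := by
  classical
  by_contra hxM
  haveI : Fact q.Prime := ⟨hq⟩
  have hx1 : x ≠ 1 := by
    intro h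
    rw [h, orderOf_one] at hxo
    exact hq.one_lt.ne hxo
  haveI : IsSimpleGroup G := hG.2.1
  obtain ⟨N, hN, hCN⟩ := Cfsg.Agent.Lib.Helper11.BenderE.exists_coatom_ge _
    (Cfsg.Agent.Lib.Helper11.centralizer_singleton_ne_top hG.2.2.1 hx1)
  have hxN : x ∈ N := hCN (Subgroup.mem_centralizer_singleton_iff.mpr rfl)
  obtain ⟨R, -, hRc, hRu⟩ := (Cfsg.Agent.S1374.result hG M hM x hx hx1).2
  -- `N` is not conjugate to `M`
  have hnc : ∀ h : G, N ≠ M.map (MulAut.conj h).toMonoidHom := by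
    intro h hNh
    obtain ⟨r, ⟨hrR, hr⟩, -⟩ := hRu h (hNh ▸ hxN)
    have hrN : r ∈ N := hCN (hRc.2.1 hrR)
    have hMN : M ≤ N := by
      intro m hm
      have h1 : r * m * r⁻¹ ∈ N := by
        rw [hNh, ← hr]
        exact ⟨m, hm, by simp [MulAut.conj_apply]⟩
      have h2 : m = r⁻¹ * (r * m * r⁻¹) * r := by group
      rw [h2]
      exact N.mul_mem (N.mul_mem (N.inv_mem hrN) h1) hrN
    have : M = N := by
      rcases eq_or_lt_of_le hMN with h | h
      · exact h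
      · exact absurd (hM.2 N h) hN.1
    exact hxM (this ▸ hCN)
  have hqσM : q ∈ Cfsg.sigma M := by
    apply prime_sigmaCore hG hM hq
    rw [← hxo]
    exact Subgroup.orderOf_dvd_natCard _ hx
  have hqσN : q ∉ Cfsg.sigma N := by
    intro h
    obtain ⟨g, hg⟩ := (Cfsg.Agent.S1378.result hG).2 M N hM hN ⟨q, hqσM, h⟩
    exact hnc g hg
  have hrank : Cfsg.PRankLE q 2 ↥N := by
    by_contra h
    exact hqσN (Cfsg.Agent.Lib.Helper11.BenderN.alpha_sub_sigma hG N hN q ⟨hq, h⟩)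
  -- the subgroup `W`
  haveI hnil : Group.IsNilpotent (Cfsg.sigmaCore M) := bg14_sigmaCore_nilpotent_of_U hG hM hKU hU1
  have hW1 : bg14W M q ≠ ⊥ := by
    have hd : q ∣ Nat.card (Cfsg.sigmaCore M) := by
      rw [← hxo]; exact Subgroup.orderOf_dvd_natCard _ hx
    obtain ⟨z, hzc, hzo⟩ := bg14_exists_central_prime (H := ↥(Cfsg.sigmaCore M)) hd
    intro hbot
    have hz : (z : G) ∈ bg14W M q := by
      refine ⟨z.2, ?_, ?_⟩
      · intro y hy
        have := Subgroup.mem_center_iff.mp hzc ⟨y, hy⟩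
        exact congrArg Subtype.val this
      · have : z ^ q = 1 := by rw [← hzo]; exact pow_orderOf_eq_one z
        have := congrArg Subtype.val this
        simpa using this
    rw [hbot, Subgroup.mem_bot] at hz
    have : z = 1 := Subtype.ext hz
    rw [this, orderOf_one] at hzo
    exact hq.one_lt.ne hzo
  have hWN : bg14W M q ≤ N := by
    intro z hz
    apply hCN
    rw [Subgroup.mem_centralizer_singleton_iff]
    exact (hz.2.1 x hx).symm
  have hWM := bg14W_normal M q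
  by_cases hxW : x ∈ bg14W M q
  · -- `M_σ ≤ C(x) ≤ N`
    have hσN : Cfsg.sigmaCore M ≤ N := by
      intro y hy
      apply hCN
      rw [Subgroup.mem_centralizer_singleton_iff]
      exact hxW.2.1 y hy
    have hKs1 := bg14_kstar_ne_bot hG hM hKU.hall hK1
    have hc1 : Nat.card ↥(Cfsg.sigmaCore M ⊓ Subgroup.centralizer (K : Set G)) ≠ 1 :=
      fun h => hKs1 (Subgroup.card_eq_one.mp h)
    obtain ⟨p', hp', hp'd⟩ := Nat.exists_prime_and_dvd hc1
    haveI : Fact p'.Prime := ⟨hp'⟩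
    obtain ⟨S⟩ : Nonempty (Sylow p' ↥(Cfsg.sigmaCore M)) := inferInstance
    obtain ⟨⟨L, ⟨hL, hSL⟩, hLu⟩, hSM, -⟩ :=
      (Cfsg.Agent.S1431.result hG M hM K hKU.hall hK1).2.2.1 p' hp' hp'd S
    have hSσ : (S : Subgroup ↥(Cfsg.sigmaCore M)).map (Cfsg.sigmaCore M).subtype ≤
        Cfsg.sigmaCore M := Subgroup.map_subtype_le _
    have e1 : M = L := hLu M ⟨hM, hSM⟩
    have e2 : N = L := hLu N ⟨hN, hSσ.trans hσN⟩
    exact hxM ((e1.trans e2.symm) ▸ hCN)
  · -- `⟨x⟩ × W` is elementary abelian inside `N`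
    have hxn : Subgroup.zpowers x ≤ Subgroup.normalizer (bg14W M q : Set G) :=
      (Subgroup.zpowers_le.mpr (sigmaCore_le M hx)).trans hWM
    have hxc : Nat.card (Subgroup.zpowers x) = q := by rw [Nat.card_zpowers, hxo]
    have hinf : Subgroup.zpowers x ⊓ bg14W M q = ⊥ := by
      by_contra hne
      have h1 : Subgroup.zpowers x ⊓ bg14W M q = Subgroup.zpowers x := by
        apply Subgroup.eq_of_le_of_card_ge inf_le_left
        have hd : Nat.card ↥(Subgroup.zpowers x ⊓ bg14W M q) ∣ q := by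
          rw [← hxc]; exact Subgroup.card_dvd_of_le inf_le_left
        rcases (Nat.dvd_prime hq).mp hd with h | h
        · exact absurd (Subgroup.card_eq_one.mp h) hne
        · rw [hxc, h]
      have : x ∈ Subgroup.zpowers x ⊓ bg14W M q := by
        rw [h1]; exact Subgroup.mem_zpowers x
      exact hxW this.2
    have hcard : Nat.card (Subgroup.zpowers x ⊔ bg14W M q : Subgroup G) =
        q * Nat.card (bg14W M q) := by
      rw [Cfsg.Agent.Lib.Helper1.BG12b.card_sup_of_inf_eq_bot hxn hinf, hxc]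
    have hxq : x ^ q = 1 := by rw [← hxo]; exact pow_orderOf_eq_one x
    have hmem : ∀ a ∈ (Subgroup.zpowers x ⊔ bg14W M q : Subgroup G),
        ∃ w ∈ bg14W M q, ∃ i : ℤ, a = w * x ^ i := by
      intro a ha
      rw [sup_comm] at ha
      obtain ⟨w, hw, y, hy, rfl⟩ :=
        Cfsg.Agent.Lib.Helper10.exists_mul_of_mem_sup (bg14W M q) (Subgroup.zpowers x) hxn a ha
      obtain ⟨i, rfl⟩ := Subgroup.mem_zpowers_iff.mp hy
      exact ⟨w, hw, i, rfl⟩
    have hWc : ∀ w ∈ bg14W M q, ∀ y ∈ Cfsg.sigmaCore M, Commute w y :=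
      fun w hw y hy => (hw.2.1 y hy).symm
    have hxi : ∀ i : ℤ, x ^ i ∈ Cfsg.sigmaCore M := fun i => Subgroup.zpow_mem _ hx i
    have hA : Nat.card (Subgroup.zpowers x ⊔ bg14W M q : Subgroup G) ≤ q ^ 2 := by
      apply bg14_card_le_of_pRankLE hrank (sup_le (Subgroup.zpowers_le.mpr hxN) hWN)
      · intro a ha b hb
        obtain ⟨w, hw, i, rfl⟩ := hmem a ha
        obtain ⟨w', hw', j, rfl⟩ := hmem b hb
        have h1 : Commute w (w' * x ^ j) :=
          hWc w hw _ (Subgroup.mul_mem _ (bg14W_le M q hw') (hxi j))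
        have h2 : Commute (x ^ i) (w' * x ^ j) :=
          Commute.mul_right (hWc w' hw' _ (hxi i)).symm ((Commute.refl x).zpow_zpow i j)
        exact (Commute.mul_left h1 h2).eq
      · intro a ha
        obtain ⟨w, hw, i, rfl⟩ := hmem a ha
        rw [(hWc w hw _ (hxi i)).mul_pow, hw.2.2, one_mul, ← zpow_natCast, ← zpow_mul,
          mul_comm, zpow_mul, zpow_natCast, hxq, one_zpow]
    rw [hcard] at hA
    have hWq : Nat.card (bg14W M q) ≤ q := by
      have hq0 : 0 < q := hq.pos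
      nlinarith
    have hWp : IsPGroup q (bg14W M q) := by
      intro w
      refine ⟨1, ?_⟩
      apply Subtype.ext
      rw [pow_one]
      have := w.2.2.2
      simpa using this
    obtain ⟨k, hk⟩ := IsPGroup.iff_card.mp hWp
    have hk0 : k ≠ 0 := by
      rintro rfl
      rw [pow_zero] at hk
      exact hW1 (Subgroup.card_eq_one.mp hk)
    have hk1 : k = 1 := by
      rw [hk] at hWq
      have : q ^ k ≤ q ^ 1 := by rwa [pow_one]
      have := (Nat.pow_le_pow_iff_right hq.one_lt).mp this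
      omega
    rw [hk1, pow_one] at hk
    exact bg14_no_inv_prime hG hM hKU hK1 hU1 (bg14W_le M q) (hKU.compl.1.trans hWM)
      (hKU.hall.1.trans hWM) (by rw [hk]; exact hq)


/-- an element of prime order `q ∉ σ(M)` of `F(M)`: `M` is the only maximal subgroup over its
centralizer -/
theorem bg14_fitting_nonsigma (hG : Cfsg.IsMinSimpleOddOrder G) (hM : IsCoatom M)
    (hKU : Cfsg.IsSigmaDecomposition M K U) (hK1 : K ≠ ⊥) (hU1 : U ≠ ⊥) {z : G} {q : ℕ}
    (hq : q.Prime) (hz : z ∈ Cfsg.fittingOf M) (hzo : orderOf z = q) (hqσ : q ∉ Cfsg.sigma M) :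
    ∀ L : Subgroup G, IsCoatom L → Subgroup.centralizer ({z} : Set G) ≤ L → L = M := by
  classical
  have hz1 : z ≠ 1 := by
    intro h
    rw [h, orderOf_one] at hzo
    exact hq.one_lt.ne hzo
  have hnil := bg14_sigmaCore_nilpotent_of_U hG hM hKU hU1
  have hσF : Cfsg.sigmaCore M ≤ Cfsg.fittingOf M :=
    Cfsg.Agent.Lib.Helper18.BGFifteenA.le_fittingOf (sigmaCore_le M)
      (Cfsg.Agent.Lib.Helper1.BG12.le_normalizer_sigmaCore M) hnil
  have hzM : z ∈ M := Cfsg.Agent.Lib.Helper11.MaxLocB.fittingOf_le M hz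
  -- `z` centralizes `M_σ`
  haveI hFnil : Group.IsNilpotent (Cfsg.fittingOf M) :=
    Cfsg.Agent.Lib.Helper11.MaxLocB.fittingOf_nilpotent M
  have hcomm : ∀ s ∈ Cfsg.sigmaCore M, z * s = s * z := by
    intro s hs
    have hco : (orderOf (⟨z, hz⟩ : ↥(Cfsg.fittingOf M))).Coprime
        (orderOf (⟨s, hσF hs⟩ : ↥(Cfsg.fittingOf M))) := by
      rw [Subgroup.orderOf_mk, Subgroup.orderOf_mk, hzo]
      apply (Nat.Prime.coprime_iff_not_dvd hq).mpr
      intro hd
      exact hqσ (prime_sigmaCore hG hM hq (hd.trans (Subgroup.orderOf_dvd_natCard _ hs)))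
    have := Cfsg.Agent.Lib.Helper11.commute_of_coprime_orderOf
      (⟨z, hz⟩ : ↥(Cfsg.fittingOf M)) ⟨s, hσF hs⟩ hco
    exact congrArg Subtype.val this.eq
  -- a non-identity element of `M_σ`
  have hKs1 := bg14_kstar_ne_bot hG hM hKU.hall hK1
  obtain ⟨⟨s₀, hs₀⟩, hs₀1'⟩ := (Subgroup.ne_bot_iff_exists_ne_one).mp hKs1
  have hs₀1 : s₀ ≠ 1 := fun e => hs₀1' (Subtype.ext e)
  have hs₀σ : s₀ ∈ Cfsg.sigmaCore M := hs₀.1
  have h32 := Cfsg.Agent.S1432.result hG M hM s₀ hs₀σ hs₀1 z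
    (Subgroup.mem_inf.mpr ⟨hzM, Subgroup.mem_centralizer_singleton_iff.mpr (hcomm s₀ hs₀σ)⟩)
    hz1 (by
      intro p hp hpd
      rw [hzo] at hpd
      rw [(Nat.prime_dvd_prime_iff_eq hp hq).mp hpd]
      exact hqσ)
  rcases h32 with ⟨hκ, -⟩ | ⟨-, -, -, hu⟩
  · -- `q ∈ κ(M)` is impossible
    exfalso
    have hqκ : q ∈ Cfsg.kappa M := hκ q hq (by rw [hzo])
    have hMs : Group.IsSolvable M := hG.2.2.2 M hM.1
    obtain ⟨m, hm, hmK⟩ := Cfsg.Agent.Lib.Helper1.BG14c.piHall_conj_into hMs hKU.hall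
      (Subgroup.zpowers_le.mpr hzM) (by
        intro p hp hpd
        rw [Nat.card_zpowers, hzo] at hpd
        rw [(Nat.prime_dvd_prime_iff_eq hp hq).mp hpd]
        exact hqκ)
    have hkK : m⁻¹ * z * m ∈ K := hmK z (Subgroup.mem_zpowers z)
    have hk1 : m⁻¹ * z * m ≠ 1 := by
      intro h
      apply hz1
      have : z = m * (m⁻¹ * z * m) * m⁻¹ := by group
      rw [this, h]; group
    have h30 := (bg14_two_uncond hG hM hKU.hall hK1).1 _ hkK hk1
    have hn := Cfsg.Agent.Lib.Helper1.BG12.le_normalizer_sigmaCore M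
    have hle : Cfsg.sigmaCore M ≤ Cfsg.sigmaCore M ⊓ Subgroup.centralizer (K : Set G) := by
      rw [← h30]
      intro s hs
      refine Subgroup.mem_inf.mpr ⟨hs, ?_⟩
      rw [Subgroup.mem_centralizer_singleton_iff]
      have hs' : m * s * m⁻¹ ∈ Cfsg.sigmaCore M :=
        (Subgroup.mem_normalizer_iff.mp (hn hm) s).mp hs
      have := hcomm _ hs'
      calc s * (m⁻¹ * z * m) = m⁻¹ * ((m * s * m⁻¹) * z) * m := by group
        _ = m⁻¹ * (z * (m * s * m⁻¹)) * m := by rw [this]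
        _ = m⁻¹ * z * m * s := by group
    have hcard := bg14_card_sigmaCore_eq_pow hG hM hKU hK1 hU1
    have heq : Nat.card (Cfsg.sigmaCore M) =
        Nat.card ↥(Cfsg.sigmaCore M ⊓ Subgroup.centralizer (K : Set G)) :=
      le_antisymm (Subgroup.card_le_of_le hle) (Subgroup.card_le_of_le inf_le_left)
    have hKp := bg14_card_K_prime hG hM hKU hK1 hU1
    have hs2 : 2 ≤ Nat.card ↥(Cfsg.sigmaCore M ⊓ Subgroup.centralizer (K : Set G)) := by
      have h1 : Nat.card ↥(Cfsg.sigmaCore M ⊓ Subgroup.centralizer (K : Set G)) ≠ 1 :=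
        fun h => hKs1 (Subgroup.card_eq_one.mp h)
      have h2 : 0 < Nat.card ↥(Cfsg.sigmaCore M ⊓ Subgroup.centralizer (K : Set G)) :=
        Nat.card_pos
      omega
    rw [heq] at hcard
    have h3 : Nat.card ↥(Cfsg.sigmaCore M ⊓ Subgroup.centralizer (K : Set G)) ^ 1 =
        Nat.card ↥(Cfsg.sigmaCore M ⊓ Subgroup.centralizer (K : Set G)) ^ Nat.card K := by
      rw [pow_one]; exact hcard
    have := Nat.pow_right_injective hs2 h3
    have := hKp.two_le
    omega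
  · exact hu

/-- **B & G Theorem 15.7 for type `𝒫₂`**: `F(M)` is a TI-subset of `G` when `K ≠ 1`, `U ≠ 1` -/
theorem bg14_fitting_TI (hG : Cfsg.IsMinSimpleOddOrder G) (hM : IsCoatom M)
    (hKU : Cfsg.IsSigmaDecomposition M K U) (hK1 : K ≠ ⊥) (hU1 : U ≠ ⊥) :
    Cfsg.IsTISubset (Cfsg.fittingOf M : Set G) := by
  classical
  intro g hg x hx hgx
  by_contra hx1
  have hgM : g ∉ M := fun h => hg (Cfsg.Agent.Lib.Helper11.MaxLocB.le_normalizer_fittingOf M h)
  have hFM := Cfsg.Agent.Lib.Helper11.MaxLocB.fittingOf_le M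
  -- an element of prime order
  have ho1 : orderOf x ≠ 1 := fun h => hx1 (orderOf_eq_one_iff.mp h)
  obtain ⟨q, hq, hqd⟩ := Nat.exists_prime_and_dvd ho1
  obtain ⟨y, hydef⟩ : ∃ y : G, y = x ^ (orderOf x / q) := ⟨_, rfl⟩
  have hyo : orderOf y = q := by
    rw [hydef]
    exact orderOf_pow_orderOf_div (orderOf_pos x).ne' hqd
  have hy1 : y ≠ 1 := by
    intro h
    rw [h, orderOf_one] at hyo
    exact hq.one_lt.ne hyo
  have hyF : y ∈ Cfsg.fittingOf M := by rw [hydef]; exact Subgroup.pow_mem _ hx _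
  have hgyF : g * y * g⁻¹ ∈ Cfsg.fittingOf M := by
    rw [hydef, ← conj_pow]; exact Subgroup.pow_mem _ hgx _
  have hgyo : orderOf (g * y * g⁻¹) = q := by
    have := (MulAut.conj g).orderOf_eq y
    rw [MulAut.conj_apply] at this
    rw [this, hyo]
  -- the conjugate of `M` is a maximal subgroup containing `C(g y g⁻¹)`
  have hcoat : IsCoatom (M.map (MulAut.conj g).toMonoidHom) :=
    Cfsg.Agent.Lib.Helper11.BenderF.isCoatom_conjSub g hM
  have hne : M.map (MulAut.conj g).toMonoidHom ≠ M := by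
    intro h
    have h1 : M.map (MulAut.conj (1 : G)).toMonoidHom = M.map (MulAut.conj g).toMonoidHom := by
      rw [h]
      ext t
      rw [bg14_mem_map_conj]
      simp
    have h2 := bg14_map_conj_eq_iff.mp h1
    rw [inv_one, one_mul, Cfsg.Agent.Lib.Helper1.BG14.normalizer_coatom hG hM] at h2
    exact hgM h2
  have hcent : ∀ {L : Subgroup G}, Subgroup.centralizer ({y} : Set G) ≤ L →
      Subgroup.centralizer ({g * y * g⁻¹} : Set G) ≤ L.map (MulAut.conj g).toMonoidHom := by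
    intro L hL c hc
    rw [bg14_mem_map_conj]
    apply hL
    rw [Subgroup.mem_centralizer_singleton_iff] at hc ⊢
    calc g⁻¹ * c * g * y = g⁻¹ * (c * (g * y * g⁻¹)) * g := by group
      _ = g⁻¹ * ((g * y * g⁻¹) * c) * g := by rw [hc]
      _ = y * (g⁻¹ * c * g) := by group
  by_cases hqσ : q ∈ Cfsg.sigma M
  · haveI : Fact q.Prime := ⟨hq⟩
    have hyσ : y ∈ Cfsg.sigmaCore M := by
      have := Cfsg.Agent.Lib.Helper1.BG12.pgroup_le_sigmaCore hG M hM q hqσ (Subgroup.zpowers y)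
        (Subgroup.zpowers_le.mpr (hFM hyF))
        (IsPGroup.of_card (n := 1) (by rw [Nat.card_zpowers, hyo, pow_one]))
      exact this (Subgroup.mem_zpowers y)
    have hgyσ : g * y * g⁻¹ ∈ Cfsg.sigmaCore M := by
      have := Cfsg.Agent.Lib.Helper1.BG12.pgroup_le_sigmaCore hG M hM q hqσ
        (Subgroup.zpowers (g * y * g⁻¹)) (Subgroup.zpowers_le.mpr (hFM hgyF))
        (IsPGroup.of_card (n := 1) (by rw [Nat.card_zpowers, hgyo, pow_one]))
      exact this (Subgroup.mem_zpowers _)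
    have hC1 := bg14_fitting_TI_sigma hG hM hKU hK1 hU1 hq hyσ hyo
    have hC2 := bg14_fitting_TI_sigma hG hM hKU hK1 hU1 hq hgyσ hgyo
    -- `S1374`: the conjugates of `M` containing `g y g⁻¹`
    obtain ⟨R, -, hRc, hRu⟩ :=
      (Cfsg.Agent.S1374.result hG M hM (g * y * g⁻¹) hgyσ (by
        intro h
        rw [h, orderOf_one] at hgyo
        exact hq.one_lt.ne hgyo)).2
    have hmem : g * y * g⁻¹ ∈ M.map (MulAut.conj g).toMonoidHom :=
      ⟨y, hFM hyF, by simp [MulAut.conj_apply]⟩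
    obtain ⟨r, ⟨hrR, hr⟩, -⟩ := hRu g hmem
    have hrM : r ∈ M := hC2 (hRc.2.1 hrR)
    apply hne
    rw [← hr]
    ext t
    rw [bg14_mem_map_conj]
    constructor
    · intro h
      have : t = r * (r⁻¹ * t * r) * r⁻¹ := by group
      rw [this]
      exact M.mul_mem (M.mul_mem hrM h) (M.inv_mem hrM)
    · intro h
      exact M.mul_mem (M.mul_mem (M.inv_mem hrM) h) hrM
  · have hu1 := bg14_fitting_nonsigma hG hM hKU hK1 hU1 hq hyF hyo hqσ
    have hu2 := bg14_fitting_nonsigma hG hM hKU hK1 hU1 hq hgyF hgyo hqσ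
    -- `C(y) ≤ M`
    haveI : IsSimpleGroup G := hG.2.1
    obtain ⟨L, hL, hCL⟩ := Cfsg.Agent.Lib.Helper11.BenderE.exists_coatom_ge _
      (Cfsg.Agent.Lib.Helper11.centralizer_singleton_ne_top hG.2.2.1 hy1)
    have hLM : L = M := hu1 L hL hCL
    exact hne (hu2 _ hcoat (hcent (hLM ▸ hCL)))

end

end Cfsg.Agent.Lib.Helper13.BG14
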