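import Cfsg.Agent.Lib.Helper13.FrobCfgA
import Cfsg.Prelude.Def_LocalEven

set_option autoImplicit false

/-! In the final configuration, no element of the Sylow subgroup outside `O_p` acts on a chief factor
below `O_p` nontrivially with `[X, g; p-1] ≤ Y` (helper13). -/

namespace Cfsg.Agent.Lib.Helper13

open Cfsg Cfsg.Agent.Lib.Helper1.TNPC Cfsg.Agent.Lib.Helper1.GNPC

open scoped commutatorElement IsMulCommutative

universe u

section IterMap

variable {G G' : Type*} [Group G] [Group G']

theorem iterCommutator_map (f : G →* G') (N Z : Subgroup G) (k : ℕ) :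
    (Cfsg.iterCommutator N Z k).map f = Cfsg.iterCommutator (N.map f) (Z.map f) k := by
  induction k with
  | zero => rfl
  | succ k ih =>
    show (⁅Cfsg.iterCommutator N Z k, Z⁆).map f = ⁅Cfsg.iterCommutator (N.map f) (Z.map f) k, Z.map f⁆
    rw [Subgroup.map_commutator, ih]

end IterMap

section Main

variable {Γ : Type u} [Group Γ] [Finite Γ] {p : ℕ} [hp : Fact p.Prime]
  {T : Sylow p Γ} {H : Subgroup Γ} [hHn : H.Normal] {Kb : Subgroup (Γ ⧸ H)}

theorem finalCfg_false_of_chief (c : FinalCfg p Γ T H Kb) (U V : Subgroup Γ)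
    (hUV : Cfsg.IsChiefFactor U V) (hUH : U ≤ H) (g : Γ) (hgT : g ∈ (T : Subgroup Γ)) (hgH : g ∉ H)
    (hiter : Cfsg.iterCommutator U (Subgroup.zpowers g) (p - 1) ≤ V)
    (hnt : ¬ ⁅U, Subgroup.zpowers g⁆ ≤ V) : False := by
  classical
  have hpp : p.Prime := hp.out
  haveI hUn : U.Normal := hUV.2.1
  haveI hVn : V.Normal := hUV.2.2.1
  have hVU : V ≤ U := hUV.1.le
  have hne : V ≠ U := hUV.1.ne
  have hchief := hUV.2.2.2
  set K := Kb.comap (QuotientGroup.mk' H) with hK
  haveI hKn : K.Normal := c.k.normal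
  have hsurj := QuotientGroup.mk'_surjective V
  set Wb := U.map (QuotientGroup.mk' V) with hWb
  haveI hWbn : Wb.Normal := Subgroup.Normal.map hUn _ hsurj
  have hWbp : IsPGroup p Wb := (c.hHp.to_le hUH).map _
  have hWbne : Wb ≠ ⊥ := by
    intro h
    apply hne
    apply le_antisymm hVU
    intro v hv
    have : QuotientGroup.mk' V v ∈ Wb := ⟨v, hv, rfl⟩
    rw [h, Subgroup.mem_bot] at this
    exact (QuotientGroup.eq_one_iff v).mp this
  have hWbmin : ∀ M : Subgroup (Γ ⧸ V), M.Normal → M ≤ Wb → M = ⊥ ∨ M = Wb := by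
    intro M hMn hMW
    haveI := hMn
    have h1 : (M.comap (QuotientGroup.mk' V)).Normal := inferInstance
    have h2 : V ≤ M.comap (QuotientGroup.mk' V) := by
      intro v hv
      rw [Subgroup.mem_comap]
      have : QuotientGroup.mk' V v = 1 := (QuotientGroup.eq_one_iff v).mpr hv
      rw [this]
      exact one_mem _
    have h3 : M.comap (QuotientGroup.mk' V) ≤ U := by
      intro x hx
      obtain ⟨v, hv, hvg⟩ := hMW (Subgroup.mem_comap.mp hx)
      have h4 : v⁻¹ * x ∈ V := by
        rw [← QuotientGroup.eq]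
        exact hvg
      have h5 : x = v * (v⁻¹ * x) := by group
      rw [h5]
      exact mul_mem hv (hVU h4)
    rcases hchief _ h1 h2 h3 with h | h
    · left
      rw [← Subgroup.map_comap_eq_self_of_surjective hsurj M, h, eq_bot_iff]
      rintro _ ⟨v, hv, rfl⟩
      rw [Subgroup.mem_bot]
      exact (QuotientGroup.eq_one_iff v).mpr hv
    · right
      rw [← Subgroup.map_comap_eq_self_of_surjective hsurj M, h]
  haveI hWbc : IsMulCommutative Wb := min_normal_pgroup_comm Wb hWbp hWbne hWbmin
  have hWbexp := min_normal_pgroup_exp Wb hWbp hWbne hWbmin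
  set D := (Subgroup.centralizer (Wb : Set (Γ ⧸ V))).comap (QuotientGroup.mk' V) with hD
  haveI hCn : (Subgroup.centralizer (Wb : Set (Γ ⧸ V))).Normal := Subgroup.normal_centralizer
  have hDn : D.Normal := inferInstance
  have hHD : H ≤ D := by
    haveI : (H.map (QuotientGroup.mk' V)).Normal := Subgroup.Normal.map hHn _ hsurj
    have h1 := min_normal_pgroup_central Wb hWbp hWbne hWbmin (H.map (QuotientGroup.mk' V))
      (c.hHp.map _)
    intro h hh
    rw [hD, Subgroup.mem_comap]
    exact h1 ⟨h, hh, rfl⟩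
  have hgD : g ∉ D := by
    intro hgD
    apply hnt
    rw [Subgroup.commutator_le]
    intro u hu z hz
    have hz' : QuotientGroup.mk' V z ∈ Subgroup.centralizer (Wb : Set (Γ ⧸ V)) := by
      obtain ⟨n, rfl⟩ := Subgroup.mem_zpowers_iff.mp hz
      rw [map_zpow]
      exact Subgroup.zpow_mem _ hgD n
    have h1 := Subgroup.mem_centralizer_iff.mp hz' (QuotientGroup.mk' V u) ⟨u, hu, rfl⟩
    rw [← QuotientGroup.eq_one_iff]
    have e : ((⁅u, z⁆ : Γ) : Γ ⧸ V) = ⁅QuotientGroup.mk' V u, QuotientGroup.mk' V z⁆ := by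
      rw [commutatorElement_def, commutatorElement_def]
      simp
    rw [e, commutatorElement_eq_one_iff_mul_comm]
    exact h1
  by_cases hcase : K ≤ D
  · -- `Γ / D` is a `p`-group: the Sylow subgroup fixes the chief factor
    set Pb := (T : Subgroup Γ).map (QuotientGroup.mk' V) with hPb
    have hPbp : IsPGroup p Pb := T.isPGroup'.map _
    have hWbPb : Wb ≤ Pb := Subgroup.map_mono (hUH.trans c.hHP)
    haveI hPbnil : Group.IsNilpotent Pb := hPbp.isNilpotent
    haveI hsn : (Wb.subgroupOf Pb).Normal := hWbn.subgroupOf Pb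
    have hsne : Wb.subgroupOf Pb ≠ ⊥ := by
      intro h
      apply hWbne
      rw [eq_bot_iff]
      intro w hw
      have : (⟨w, hWbPb hw⟩ : Pb) ∈ Wb.subgroupOf Pb := Subgroup.mem_subgroupOf.mpr hw
      rw [h, Subgroup.mem_bot] at this
      rw [Subgroup.mem_bot]
      exact congrArg Subtype.val this
    have h1 := Cfsg.Agent.Lib.Helper1.normal_inf_center_ne_bot (Wb.subgroupOf Pb) hsne
    obtain ⟨z, hz1⟩ := (Subgroup.ne_bot_iff_exists_ne_one).mp h1
    have hz' : (z : ↥Pb) ∈ Wb.subgroupOf Pb ⊓ Subgroup.center ↥Pb := z.2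
    set M := Wb ⊓ Subgroup.centralizer (Pb : Set (Γ ⧸ V)) with hM
    have hMn : M.Normal := by
      constructor
      intro m hm e
      obtain ⟨e₀, rfl⟩ := hsurj e
      obtain ⟨x, hx, u, hu, rfl⟩ := c.k.decomp e₀
      have hxc : QuotientGroup.mk' V x ∈ Subgroup.centralizer (Wb : Set (Γ ⧸ V)) := hcase hx
      have hub : QuotientGroup.mk' V u ∈ Pb := ⟨u, hu, rfl⟩
      have e1 : QuotientGroup.mk' V u * m * (QuotientGroup.mk' V u)⁻¹ = m := by
        have := Subgroup.mem_centralizer_iff.mp hm.2 _ hub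
        rw [this]; group
      have e2 : QuotientGroup.mk' V x * m * (QuotientGroup.mk' V x)⁻¹ = m := by
        have := Subgroup.mem_centralizer_iff.mp hxc m hm.1
        rw [← this]; group
      have e3 : QuotientGroup.mk' V (x * u) * m * (QuotientGroup.mk' V (x * u))⁻¹ = m := by
        rw [map_mul]
        calc QuotientGroup.mk' V x * QuotientGroup.mk' V u * m *
              (QuotientGroup.mk' V x * QuotientGroup.mk' V u)⁻¹
            = QuotientGroup.mk' V x * (QuotientGroup.mk' V u * m * (QuotientGroup.mk' V u)⁻¹) *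
              (QuotientGroup.mk' V x)⁻¹ := by group
          _ = m := by rw [e1, e2]
      rw [e3]
      exact hm
    have hMne : M ≠ ⊥ := by
      intro h
      apply hz1
      have hzM : ((z : ↥Pb) : Γ ⧸ V) ∈ M := by
        refine Subgroup.mem_inf.mpr ⟨Subgroup.mem_subgroupOf.mp hz'.1, ?_⟩
        rw [Subgroup.mem_centralizer_iff]
        intro l hl
        have := Subgroup.mem_center_iff.mp hz'.2 ⟨l, hl⟩
        exact congrArg Subtype.val this
      rw [h, Subgroup.mem_bot] at hzM
      apply Subtype.ext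
      apply Subtype.ext
      exact hzM
    rcases hWbmin M hMn inf_le_left with h | h
    · exact hMne h
    · apply hgD
      rw [hD, Subgroup.mem_comap, Subgroup.mem_centralizer_iff]
      intro w hw
      have hwM : w ∈ M := by rw [h]; exact hw
      have hgb : QuotientGroup.mk' V g ∈ Pb := ⟨g, hgT, rfl⟩
      exact (Subgroup.mem_centralizer_iff.mp hwM.2 _ hgb).symm
  · -- the Frobenius sum argument
    have hDK : D ⊓ K = H := by
      apply c.f2 (D ⊓ K) (le_inf hHD c.k.H_le) inf_le_right
      · have : (D ⊓ K).Normal := inferInstance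
        rw [Subgroup.normalizer_eq_top_iff.mpr this]
        exact le_top
      · intro h
        apply hcase
        have h' : K ≤ D ⊓ K := le_of_eq h.symm
        exact h'.trans inf_le_left
    obtain ⟨x, hxK, hxH⟩ := c.exists_noncentral g hgT hgH
    apply hxH
    have hgoal : g * x * g⁻¹ * x⁻¹ ∈ D := by
      -- representation on the chief factor
      have hpR : ((p : ℕ) : AddMonoid.End (Additive ↥Wb)) = 0 := natCast_rho_zero Wb hWbexp
      obtain ⟨ρu, hρu⟩ : ∃ ρu : (Γ ⧸ V) →* (AddMonoid.End (Additive ↥Wb))ˣ,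
          ∀ e, ((ρu e : (AddMonoid.End (Additive ↥Wb))ˣ) : AddMonoid.End (Additive ↥Wb)) =
            rho Wb e := ⟨(rho Wb).toHomUnits, fun _ => rfl⟩
      have hρ1 : ∀ e, ρu e = 1 ↔ e ∈ Subgroup.centralizer (Wb : Set (Γ ⧸ V)) := by
        intro e
        constructor
        · intro h
          rw [← rho_eq_one_iff Wb, ← hρu, h, Units.val_one]
        · intro h
          apply Units.ext
          rw [hρu, Units.val_one]
          exact (rho_eq_one_iff Wb e).mpr h
      have hiter' : Cfsg.iterCommutator Wb (Subgroup.zpowers (QuotientGroup.mk' V g)) (p - 1) = ⊥ := by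
        rw [hWb, ← MonoidHom.map_zpowers, ← iterCommutator_map, eq_bot_iff]
        refine (Subgroup.map_mono hiter).trans ?_
        rw [QuotientGroup.map_mk'_self]
      have h0 := rho_sub_one_pow_eq_zero Wb (QuotientGroup.mk' V g) (p - 1) hiter'
      have hN0 := geom_sum_eq_zero_of_sub_one_pow hpp hpR _ h0
      have hN : ∑ i ∈ Finset.range p,
          (((ρu (QuotientGroup.mk' V g)) ^ i : (AddMonoid.End (Additive ↥Wb))ˣ) :
            AddMonoid.End (Additive ↥Wb)) = 0 := by
        rw [← hN0]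
        apply Finset.sum_congr rfl
        intro i _
        rw [Units.val_pow_eq_pow_val, hρu]
      obtain ⟨B, hB⟩ : ∃ B : Subgroup (AddMonoid.End (Additive ↥Wb))ˣ,
          B = (K.map (QuotientGroup.mk' V)).map ρu := ⟨_, rfl⟩
      have hBmem : ∀ y ∈ K, ρu (QuotientGroup.mk' V y) ∈ B := by
        intro y hy
        rw [hB]
        exact ⟨_, ⟨y, hy, rfl⟩, rfl⟩
      have hBex : ∀ b ∈ B, ∃ y ∈ K, ρu (QuotientGroup.mk' V y) = b := by
        intro b hb
        rw [hB] at hb
        obtain ⟨_, ⟨y, hy, rfl⟩, rfl⟩ := hb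
        exact ⟨y, hy, rfl⟩
      haveI hBfin : Finite ↥B := by
        have hsj : Function.Surjective (fun y : ↥K =>
            (⟨ρu (QuotientGroup.mk' V (y : Γ)), hBmem y y.2⟩ : ↥B)) := by
          rintro ⟨b, hb⟩
          obtain ⟨y, hy, rfl⟩ := hBex b hb
          exact ⟨⟨y, hy⟩, rfl⟩
        exact Finite.of_surjective _ hsj
      have hBcomm : ∀ a ∈ B, ∀ b ∈ B, a * b = b * a := by
        intro a ha b hb
        obtain ⟨y, hy, rfl⟩ := hBex a ha
        obtain ⟨z, hz, rfl⟩ := hBex b hb
        have h1 : y * z * y⁻¹ * z⁻¹ ∈ D := hHD (c.K_comm y z hy hz)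
        have h2 : QuotientGroup.mk' V (y * z * y⁻¹ * z⁻¹) ∈
            Subgroup.centralizer (Wb : Set (Γ ⧸ V)) := h1
        have h3 := (hρ1 _).mpr h2
        rw [map_mul, map_mul, map_mul, map_mul, map_mul, map_mul, map_inv, map_inv, map_inv,
          map_inv] at h3
        have h4 := mul_inv_eq_one.mp h3
        have h5 := mul_inv_eq_iff_eq_mul.mp h4
        exact h5
      have hBnorm : ∀ b ∈ B, ρu (QuotientGroup.mk' V g) * b * (ρu (QuotientGroup.mk' V g))⁻¹ ∈ B := by
        intro b hb
        obtain ⟨y, hy, rfl⟩ := hBex b hb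
        have := hBmem (g * y * g⁻¹) (hKn.conj_mem y hy g)
        rw [map_mul, map_mul, map_mul, map_mul, map_inv, map_inv] at this
        exact this
      have hBpow : ∀ b ∈ B, b ^ Nat.card ↥Kb = 1 := by
        intro b hb
        obtain ⟨y, hy, rfl⟩ := hBex b hb
        rw [← map_pow, ← map_pow, hρ1]
        exact hHD (c.pow_card_mem y hy)
      have hBcop : (Nat.card ↥B).Coprime p := by
        rw [Nat.coprime_comm, Nat.Prime.coprime_iff_not_dvd hpp]
        intro hdvd
        obtain ⟨b, hb⟩ := exists_prime_orderOf_dvd_card' (G := ↥B) p hdvd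
        have h1 : (b : (AddMonoid.End (Additive ↥Wb))ˣ) ^ Nat.card ↥Kb = 1 := hBpow _ b.2
        have h2 : b ^ Nat.card ↥Kb = 1 := by
          apply Subtype.ext
          rw [Subgroup.coe_pow, h1, Subgroup.coe_one]
        have h3 := orderOf_dvd_of_pow_eq_one h2
        rw [hb] at h3
        exact (Nat.Prime.coprime_iff_not_dvd hpp).mp c.k.hcop.symm h3
      have hcent := commute_of_geom_sum_eq_zero hpp hpR (ρu (QuotientGroup.mk' V g)) hN B hBcomm
        hBnorm hBcop _ (hBmem x hxK)
      rw [hD, Subgroup.mem_comap, ← hρ1]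
      rw [map_mul, map_mul, map_mul, map_mul, map_mul, map_mul, map_inv, map_inv, map_inv, map_inv,
        hcent]
      group
    have hresK : g * x * g⁻¹ * x⁻¹ ∈ K := K.mul_mem (hKn.conj_mem x hxK g) (K.inv_mem hxK)
    rw [← hDK]
    exact ⟨hgoal, hresK⟩

end Main

end Cfsg.Agent.Lib.Helper13
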