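import Cfsg.Agent.Lib.Helper13.EngB
import Cfsg.Agent.Lib.Helper13.FrobCfgB
import Cfsg.Agent.Lib.Helper1.GNPC.Helpers

set_option autoImplicit false

/-! The conjugation action on `Hom(X, A)`, chief factors below a `p`-group, and the norm of an Engel
element (helper13). -/

namespace Cfsg.Agent.Lib.Helper13

section Rep

variable {G : Type*} [Group G] (X : Subgroup G) [hXn : X.Normal] (A : Type*) [CommGroup A]

/-- The action of `G` on `Hom(X, A)` induced by conjugation on the normal subgroup `X`. -/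
def engRho : G →* Monoid.End (↥X →* A) where
  toFun g :=
    { toFun := fun φ => φ.comp (MulAut.conjNormal g⁻¹ : ↥X ≃* ↥X).toMonoidHom
      map_one' := rfl
      map_mul' := fun _ _ => rfl }
  map_one' := by
    apply Monoid.End.ext
    intro φ
    ext x
    show φ ((MulAut.conjNormal (1 : G)⁻¹ : ↥X ≃* ↥X) x) = φ x
    rw [inv_one, map_one]
    rfl
  map_mul' := by
    intro g h
    apply Monoid.End.ext
    intro φ
    ext x
    show φ ((MulAut.conjNormal (g * h)⁻¹ : ↥X ≃* ↥X) x) =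
      φ ((MulAut.conjNormal h⁻¹ : ↥X ≃* ↥X) ((MulAut.conjNormal g⁻¹ : ↥X ≃* ↥X) x))
    rw [mul_inv_rev, map_mul]
    rfl

theorem engRho_apply (g : G) (φ : ↥X →* A) (x : ↥X) :
    engRho X A g φ x = φ ⟨g⁻¹ * (x : G) * g, by
      have := hXn.conj_mem x x.2 g⁻¹
      rwa [inv_inv] at this⟩ := by
  show φ ((MulAut.conjNormal g⁻¹ : ↥X ≃* ↥X) x) = _
  congr 1
  apply Subtype.ext
  rw [MulAut.conjNormal_apply]
  show g⁻¹ * (x : G) * g⁻¹⁻¹ = g⁻¹ * (x : G) * g
  rw [inv_inv]

end Rep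

section Chief

open Cfsg Cfsg.Agent.Lib.Helper1.TNPC Cfsg.Agent.Lib.Helper1.GNPC

open scoped IsMulCommutative

variable {G : Type*} [Group G] [Finite G] {p : ℕ} [hp : Fact p.Prime]

omit [Finite G] in
theorem chief_map_min (U V : Subgroup G) [hVn : V.Normal] (hUV : Cfsg.IsChiefFactor U V) :
    U.map (QuotientGroup.mk' V) ≠ ⊥ ∧
      ∀ M : Subgroup (G ⧸ V), M.Normal → M ≤ U.map (QuotientGroup.mk' V) →
        M = ⊥ ∨ M = U.map (QuotientGroup.mk' V) := by
  have hVU : V ≤ U := hUV.1.le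
  have hne : V ≠ U := hUV.1.ne
  have hchief := hUV.2.2.2
  have hsurj := QuotientGroup.mk'_surjective V
  constructor
  · intro h
    apply hne
    apply le_antisymm hVU
    intro v hv
    have : QuotientGroup.mk' V v ∈ U.map (QuotientGroup.mk' V) := ⟨v, hv, rfl⟩
    rw [h, Subgroup.mem_bot] at this
    exact (QuotientGroup.eq_one_iff v).mp this
  · intro M hMn hMW
    have := hMn
    have h1 : (M.comap (QuotientGroup.mk' V)).Normal := inferInstance
    have h2 : V ≤ M.comap (QuotientGroup.mk' V) := by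
      intro v hv
      rw [Subgroup.mem_comap]
      have : QuotientGroup.mk' V v = 1 := (QuotientGroup.eq_one_iff v).mpr hv
      rw [this]
      exact one_mem _
    have h3 : M.comap (QuotientGroup.mk' V) ≤ U := by
      intro x hx
      obtain ⟨v, hv, hvg⟩ := hMW (Subgroup.mem_comap.mp hx)
      have h4 : v⁻¹ * x ∈ V := by
        rw [← QuotientGroup.eq]
        exact hvg
      have h5 : x = v * (v⁻¹ * x) := by group
      rw [h5]
      exact mul_mem hv (hVU h4)
    rcases hchief _ h1 h2 h3 with h | h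
    · left
      rw [← Subgroup.map_comap_eq_self_of_surjective hsurj M, h, eq_bot_iff]
      rintro _ ⟨v, hv, rfl⟩
      rw [Subgroup.mem_bot]
      exact (QuotientGroup.eq_one_iff v).mpr hv
    · right
      rw [← Subgroup.map_comap_eq_self_of_surjective hsurj M, h]

/-- The ordered product `y 0 * y 1 * ... * y (k-1)`. -/
def engOrdProd (y : ℕ → G) : ℕ → G
  | 0 => 1
  | k + 1 => engOrdProd y k * y k

omit [Finite G] in
theorem map_engOrdProd {A : Type*} [CommGroup A] {X : Subgroup G} (φ : ↥X →* A) (y : ℕ → G)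
    (hy : ∀ i, y i ∈ X) (k : ℕ) :
    ∃ h : engOrdProd y k ∈ X, φ ⟨engOrdProd y k, h⟩ = ∏ i ∈ Finset.range k, φ ⟨y i, hy i⟩ := by
  induction k with
  | zero =>
    refine ⟨Subgroup.one_mem _, ?_⟩
    rw [Finset.range_zero, Finset.prod_empty]
    exact map_one φ
  | succ k ih =>
    obtain ⟨h, hk⟩ := ih
    refine ⟨Subgroup.mul_mem _ h (hy k), ?_⟩
    rw [Finset.prod_range_succ, ← hk, ← map_mul]
    rfl

/-- Chief factors below a `p`-group: the commutator and `p`-th powers fall into the lower term, and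
the norm of an Engel element kills the factor. -/
theorem chief_props (U V : Subgroup G) (hUV : Cfsg.IsChiefFactor U V) (hUp : IsPGroup p ↥U) :
    (∀ x ∈ U, ∀ y ∈ U, x * y * x⁻¹ * y⁻¹ ∈ V) ∧ (∀ x ∈ U, x ^ p ∈ V) ∧
    ∀ e : G, Cfsg.iterCommutator U (Subgroup.zpowers e) (p - 1) ≤ V → ∀ x ∈ U,
      engOrdProd (fun i => (e ^ i)⁻¹ * x * e ^ i) p ∈ V := by
  have hUn : U.Normal := hUV.2.1
  have hVn : V.Normal := hUV.2.2.1
  have hsurj := QuotientGroup.mk'_surjective V
  obtain ⟨Wb, hWb⟩ : ∃ Wb : Subgroup (G ⧸ V), Wb = U.map (QuotientGroup.mk' V) := ⟨_, rfl⟩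
  have hWbn : Wb.Normal := hWb ▸ Subgroup.Normal.map hUn _ hsurj
  have hWbp : IsPGroup p Wb := hWb ▸ hUp.map _
  obtain ⟨hWbne, hWbmin⟩ := chief_map_min U V hUV
  rw [← hWb] at hWbne hWbmin
  have hWbc : IsMulCommutative Wb := min_normal_pgroup_comm Wb hWbp hWbne hWbmin
  have hWbexp := min_normal_pgroup_exp Wb hWbp hWbne hWbmin
  have hmem : ∀ x ∈ U, QuotientGroup.mk' V x ∈ Wb := fun x hx => hWb ▸ ⟨x, hx, rfl⟩
  refine ⟨?_, ?_, ?_⟩
  · intro x hx y hy
    rw [← QuotientGroup.eq_one_iff]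
    have h1 : (⟨QuotientGroup.mk' V x, hmem x hx⟩ : ↥Wb) * ⟨QuotientGroup.mk' V y, hmem y hy⟩ =
        ⟨QuotientGroup.mk' V y, hmem y hy⟩ * ⟨QuotientGroup.mk' V x, hmem x hx⟩ := mul_comm _ _
    have h2 : QuotientGroup.mk' V x * QuotientGroup.mk' V y =
        QuotientGroup.mk' V y * QuotientGroup.mk' V x := congrArg Subtype.val h1
    show QuotientGroup.mk' V (x * y * x⁻¹ * y⁻¹) = 1
    rw [map_mul, map_mul, map_mul, h2, map_inv, map_inv]
    group
  · intro x hx
    rw [← QuotientGroup.eq_one_iff]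
    show QuotientGroup.mk' V (x ^ p) = 1
    rw [map_pow]
    exact hWbexp _ (hmem x hx)
  · intro e he x hx
    obtain ⟨a, ha⟩ : ∃ a : G ⧸ V, a = (QuotientGroup.mk' V e)⁻¹ := ⟨_, rfl⟩
    have h0 : Cfsg.iterCommutator Wb (Subgroup.zpowers a) (p - 1) = ⊥ := by
      rw [ha, Subgroup.zpowers_inv, ← MonoidHom.map_zpowers, hWb, ← iterCommutator_map, eq_bot_iff]
      refine (Subgroup.map_mono he).trans ?_
      rw [QuotientGroup.map_mk'_self]
    have h1 := rho_sub_one_pow_eq_zero Wb a (p - 1) h0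
    have hpR : ((p : ℕ) : AddMonoid.End (Additive ↥Wb)) = 0 := natCast_rho_zero Wb hWbexp
    have h2 := geom_sum_eq_zero_of_sub_one_pow hp.out hpR (rho Wb a) h1
    obtain ⟨v, hv⟩ : ∃ v : ↥Wb, v = ⟨QuotientGroup.mk' V x, hmem x hx⟩ := ⟨_, rfl⟩
    have hpart : ∀ k : ℕ, ((Additive.toMul ((∑ i ∈ Finset.range k, (rho Wb a) ^ i)
        (Additive.ofMul v)) : ↥Wb) : G ⧸ V) =
        QuotientGroup.mk' V (engOrdProd (fun i => (e ^ i)⁻¹ * x * e ^ i) k) := by
      intro k
      induction k with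
      | zero =>
        rw [Finset.range_zero, Finset.sum_empty]
        show ((1 : ↥Wb) : G ⧸ V) = QuotientGroup.mk' V 1
        rw [map_one]
        rfl
      | succ k ih =>
        have hadd : ∀ (f g : AddMonoid.End (Additive ↥Wb)) (z : Additive ↥Wb),
            (f + g) z = f z + g z := fun _ _ _ => rfl
        rw [Finset.sum_range_succ, hadd, toMul_add, Subgroup.coe_mul, ih,
          ← map_pow, rho_apply_val, hv]
        show _ = QuotientGroup.mk' V (engOrdProd (fun i => (e ^ i)⁻¹ * x * e ^ i) k *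
          ((e ^ k)⁻¹ * x * e ^ k))
        rw [map_mul (QuotientGroup.mk' V) (engOrdProd _ k), map_mul, map_mul, ha, inv_pow, map_inv,
          map_pow, inv_inv]
    have h3 := hpart p
    rw [h2] at h3
    rw [← QuotientGroup.eq_one_iff]
    exact h3.symm

end Chief

end Cfsg.Agent.Lib.Helper13
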