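import Mathlib
import Cfsg.Agent.Lib.Helper18.BLK.Defs
import Cfsg.Agent.Lib.Helper20.HupA

/-! Project BLK, piece AQ : the quotient `P ⧸ E` inherits the hypotheses of Lemma A. -/

set_option autoImplicit false

namespace Cfsg.Agent.Lib.Helper18.BLK

universe u

/-- local class-two power formula (a copy of piece T1, from `Hup.norm_formula`) -/
theorem blkaq_pow_mul {G : Type*} [Group G] (p : ℕ) [Fact p.Prime] (hp2 : p ≠ 2) (a b : G)
    (ha : Commute a (rc b a)) (hb : Commute b (rc b a)) (hm : rc b a ^ p = 1) :
    (a * b) ^ p = a ^ p * b ^ p := by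
  have hp := (Fact.out : p.Prime)
  have h1 : a⁻¹ * b * a = b * rc b a := conj_eq b a
  have h2 : a⁻¹ * rc b a * a = rc b a * 1 := by
    rw [mul_one, mul_assoc, ← ha.eq, ← mul_assoc, inv_mul_cancel, one_mul]
  have h3 : a⁻¹ * (1 : G) * a = 1 := by group
  have key := Cfsg.Agent.Lib.Helper20.Hup.norm_formula a b (rc b a) 1 h1 h2 h3 hb
    (Commute.one_right b) (Commute.one_right _) p
  rw [key, one_pow, mul_one]
  have hdvd : p ∣ p.choose 2 := hp.dvd_choose_self (by norm_num) (by
    have := hp.two_le
    omega)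
  obtain ⟨c, hc⟩ := hdvd
  rw [hc, pow_mul, hm, one_pow, mul_one]

/-- **AQ**. the quotient `P ⧸ E` inherits the hypotheses of Lemma A. -/
theorem quotient_hyp {P : Type u} [Group P] [Finite P] {p : ℕ} [Fact p.Prime] (hp2 : p ≠ 2)
    (hP : IsPGroup p P) (E : Subgroup P) [E.Normal] (hEc : E ≤ Subgroup.center P)
    (hE : Nat.card E ≤ p ^ 2) (hEe : ∀ e ∈ E, e ^ p = 1) (hTE : ∀ x : P, x ^ p = 1 → x ∈ E)
    (h1 : ∀ x g : P, x ^ p ∈ E → rc x g ∈ E) :
    ∃ E' : Subgroup (P ⧸ E), E' ≤ Subgroup.center (P ⧸ E) ∧ Nat.card E' ≤ p ^ 2 ∧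
      ∀ q : P ⧸ E, q ^ p = 1 → q ∈ E' := by
  classical
  have hp := (Fact.out : p.Prime)
  have hpow : ∀ x y : P, x ^ p ∈ E → y ^ p ∈ E → (x * y) ^ p = x ^ p * y ^ p := by
    intro x y hx hy
    have hr : rc y x ∈ E := h1 y x hy
    have hrc := hEc hr
    apply blkaq_pow_mul p hp2 x y
    · exact Subgroup.mem_center_iff.1 hrc x
    · exact Subgroup.mem_center_iff.1 hrc y
    · exact hEe _ hr
  let D : Subgroup P :=
    { carrier := {x | x ^ p ∈ E}
      one_mem' := by
        show (1 : P) ^ p ∈ E
        rw [one_pow]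
        exact E.one_mem
      mul_mem' := by
        intro a b ha hb
        show (a * b) ^ p ∈ E
        rw [hpow a b ha hb]
        exact E.mul_mem ha hb
      inv_mem' := by
        intro a ha
        show (a⁻¹) ^ p ∈ E
        rw [inv_pow]
        exact E.inv_mem ha }
  have hDmem : ∀ x : P, x ∈ D ↔ x ^ p ∈ E := fun x => Iff.rfl
  refine ⟨D.map (QuotientGroup.mk' E), ?_, ?_, ?_⟩
  · rintro q ⟨x, hx, rfl⟩
    rw [Subgroup.mem_center_iff]
    intro r
    obtain ⟨g, rfl⟩ := QuotientGroup.mk'_surjective E r
    rw [← map_mul, ← map_mul]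
    apply (QuotientGroup.eq).2
    have h2 := h1 x g ((hDmem x).1 hx)
    have e : (g * x)⁻¹ * (x * g) = rc x g := by unfold rc; group
    rw [e]
    exact h2
  · -- the cardinality
    -- the `p`-th power homomorphism `D → E`
    let ψ : ↥D →* ↥E :=
      { toFun := fun x => ⟨(x : P) ^ p, x.2⟩
        map_one' := by
          apply Subtype.ext
          show ((1 : ↥D) : P) ^ p = 1
          rw [Subgroup.coe_one, one_pow]
        map_mul' := by
          intro x y
          apply Subtype.ext
          show ((x * y : ↥D) : P) ^ p = (x : P) ^ p * (y : P) ^ p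
          rw [Subgroup.coe_mul]
          exact hpow _ _ x.2 y.2 }
    have hker_le : Nat.card ψ.ker ≤ Nat.card E := by
      apply Nat.card_le_card_of_injective
        (fun x : ψ.ker => (⟨(x : ↥D), hTE _ (by
          have := x.2
          rw [MonoidHom.mem_ker] at this
          exact congrArg Subtype.val this)⟩ : ↥E))
      intro a b hab
      apply Subtype.ext
      apply Subtype.ext
      have := congrArg (fun z : ↥E => (z : P)) hab
      exact this
    have hrange_le : Nat.card ψ.range ≤ Nat.card E := Subgroup.card_le_card_group _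
    have hD : Nat.card D ≤ Nat.card E * Nat.card E := by
      rw [← Subgroup.card_mul_index ψ.ker, Subgroup.index_ker]
      exact Nat.mul_le_mul hker_le hrange_le
    -- the kernel of `D → P ⧸ E` contains a copy of `E`
    set κ := (QuotientGroup.mk' E).comp D.subtype with hκ
    have hEle : Nat.card E ≤ Nat.card κ.ker := by
      apply Nat.card_le_card_of_injective
        (fun e : ↥E => (⟨⟨(e : P), by
          rw [hDmem, hEe _ e.2]
          exact E.one_mem⟩, by
          rw [MonoidHom.mem_ker]
          show (QuotientGroup.mk' E) (e : P) = 1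
          rw [QuotientGroup.mk'_apply, QuotientGroup.eq_one_iff]
          exact e.2⟩ : κ.ker))
      intro a b hab
      apply Subtype.ext
      have := congrArg (fun z : κ.ker => ((z : ↥D) : P)) hab
      exact this
    have hmap : Nat.card κ.ker * Nat.card (D.map (QuotientGroup.mk' E)) = Nat.card D := by
      have h := Subgroup.card_mul_index κ.ker
      rw [Subgroup.index_ker] at h
      have hr : κ.range = D.map (QuotientGroup.mk' E) := by
        rw [hκ, MonoidHom.range_eq_map, ← Subgroup.map_map, ← MonoidHom.range_eq_map,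
          Subgroup.range_subtype]
      rw [hr] at h
      exact h
    have hEpos : 0 < Nat.card E := Nat.card_pos
    have h3 : Nat.card E * Nat.card (D.map (QuotientGroup.mk' E)) ≤ Nat.card E * Nat.card E := by
      calc Nat.card E * Nat.card (D.map (QuotientGroup.mk' E))
          ≤ Nat.card κ.ker * Nat.card (D.map (QuotientGroup.mk' E)) :=
            Nat.mul_le_mul_right _ hEle
        _ = Nat.card D := hmap
        _ ≤ Nat.card E * Nat.card E := hD
    exact (Nat.le_of_mul_le_mul_left h3 hEpos).trans hE
  · intro q hq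
    obtain ⟨x, rfl⟩ := QuotientGroup.mk'_surjective E q
    refine ⟨x, ?_, rfl⟩
    show x ^ p ∈ E
    have h2 : (QuotientGroup.mk' E) (x ^ p) = 1 := by
      rw [map_pow]
      exact hq
    rw [QuotientGroup.mk'_apply, QuotientGroup.eq_one_iff] at h2
    exact h2

end Cfsg.Agent.Lib.Helper18.BLK
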