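import Mathlib
import Cfsg.Agent.Lib.Helper18.BLK.Defs
import Cfsg.Agent.Lib.Helper20.HupA
import Cfsg.Agent.Lib.Helper24.POrderFourClass
import Cfsg.Agent.S0643

/-! Project BLK, piece R : an odd `p`-group with cyclic derived subgroup is regular. -/

set_option autoImplicit false

open scoped commutatorElement

namespace Cfsg.Agent.Lib.Helper18.BLK

/-- the `p`-th power formula modulo `p`-th powers of commutators, for a finite `p`-group (`p` odd)
whose derived subgroup is generated by `d` -/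
theorem blkr_core {G : Type*} [Group G] [Finite G] {p : ℕ} [Fact p.Prime] (hp2 : p ≠ 2)
    (hG : IsPGroup p G) (d : G) (hd : d ∈ commutator G)
    (hgen : ∀ x ∈ commutator G, x ∈ Subgroup.zpowers d) (a b : G) :
    ∃ c ∈ commutator G, (a * b) ^ p = a ^ p * b ^ p * c ^ p := by
  have hp := (Fact.out : p.Prime)
  -- `K = ⟨d ^ p⟩` is normal
  have hKn : (Subgroup.zpowers (d ^ p)).Normal := by
    constructor
    intro n hn g
    obtain ⟨j, rfl⟩ := Subgroup.mem_zpowers_iff.1 hn
    have h1 : g * d * g⁻¹ ∈ commutator G := (inferInstance : (commutator G).Normal).conj_mem d hd g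
    obtain ⟨i, hi⟩ := Subgroup.mem_zpowers_iff.1 (hgen _ h1)
    have h2 : g * (d ^ p) ^ j * g⁻¹ = (g * d * g⁻¹) ^ ((p : ℤ) * j) := by
      have := map_zpow (MulAut.conj g) d ((p : ℤ) * j)
      rw [MulAut.conj_apply, MulAut.conj_apply] at this
      rw [← this, zpow_mul, zpow_natCast]
    rw [h2, ← hi, ← zpow_mul, Subgroup.mem_zpowers_iff]
    refine ⟨i * j, ?_⟩
    rw [← zpow_natCast, ← zpow_mul]
    congr 1
    ring
  haveI := hKn
  set K := Subgroup.zpowers (d ^ p) with hK
  set π := QuotientGroup.mk' K with hπ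
  have hπd : (π d) ^ p = 1 := by
    rw [← map_pow, hπ, QuotientGroup.mk'_apply, QuotientGroup.eq_one_iff]
    exact Subgroup.mem_zpowers _
  have hcomm_img : ∀ u v : G, ∃ i : ℤ, ⁅π u, π v⁆ = (π d) ^ i := by
    intro u v
    have h1 : ⁅u, v⁆ ∈ commutator G := by
      rw [commutator_def]
      exact Subgroup.commutator_mem_commutator (Subgroup.mem_top u) (Subgroup.mem_top v)
    obtain ⟨i, hi⟩ := Subgroup.mem_zpowers_iff.1 (hgen _ h1)
    refine ⟨i, ?_⟩
    rw [← map_commutatorElement, ← hi, map_zpow]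
  have he : ∀ x y : G ⧸ K, ⁅x, y⁆ ^ p = 1 := by
    intro x y
    obtain ⟨u, rfl⟩ := QuotientGroup.mk'_surjective K x
    obtain ⟨v, rfl⟩ := QuotientGroup.mk'_surjective K y
    obtain ⟨i, hi⟩ := hcomm_img u v
    rw [hi, ← zpow_natCast, ← zpow_mul, mul_comm, zpow_mul, zpow_natCast, hπd, one_zpow]
  have hQ : IsPGroup p (G ⧸ K) := hG.to_quotient K
  have hc : ∀ x y : G ⧸ K, ⁅x, y⁆ ∈ Subgroup.center (G ⧸ K) := by
    -- the image of the derived subgroup
    have hCn : ((commutator G).map π).Normal :=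
      Subgroup.Normal.map inferInstance π (QuotientGroup.mk'_surjective K)
    have hCle : (commutator G).map π ≤ Subgroup.zpowers (π d) := by
      rintro q ⟨x, hx, rfl⟩
      obtain ⟨i, hi⟩ := Subgroup.mem_zpowers_iff.1 (hgen _ hx)
      rw [← hi, map_zpow]
      exact Subgroup.zpow_mem _ (Subgroup.mem_zpowers _) i
    have hcard : Nat.card ((commutator G).map π) ∣ p := by
      refine (Subgroup.card_dvd_of_le hCle).trans ?_
      rw [Nat.card_zpowers]
      exact orderOf_dvd_of_pow_eq_one hπd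
    have hcent : (commutator G).map π ≤ Subgroup.center (G ⧸ K) := by
      rcases (Nat.dvd_prime hp).1 hcard with h | h
      · rw [Subgroup.card_eq_one.1 h]
        exact bot_le
      · haveI := hCn
        exact Cfsg.Agent.Lib.Helper24.pf_le_center_of_card_prime hQ _ h
    intro x y
    obtain ⟨u, rfl⟩ := QuotientGroup.mk'_surjective K x
    obtain ⟨v, rfl⟩ := QuotientGroup.mk'_surjective K y
    apply hcent
    refine ⟨⁅u, v⁆, ?_, map_commutatorElement _ _ _⟩
    rw [commutator_def]
    exact Subgroup.commutator_mem_commutator (Subgroup.mem_top u) (Subgroup.mem_top v)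
  have hpm := Cfsg.Agent.Lib.Helper20.Hup.pow_mul_of_class_two p hp2 hc he (π a) (π b)
  rw [← map_mul, ← map_pow, ← map_pow, ← map_pow, ← map_mul] at hpm
  have hmem : (a ^ p * b ^ p)⁻¹ * (a * b) ^ p ∈ K := by
    have := (QuotientGroup.eq (s := K)).1 hpm.symm
    exact this
  obtain ⟨j, hj⟩ := Subgroup.mem_zpowers_iff.1 hmem
  refine ⟨d ^ j, Subgroup.zpow_mem _ hd j, ?_⟩
  have h3 : (d ^ j) ^ p = (d ^ p) ^ j := by
    rw [← zpow_natCast, ← zpow_mul, mul_comm, zpow_mul, zpow_natCast]
  rw [h3, hj]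
  group

/-- **R**. Fact R: `p` odd, `P'` cyclic ⇒ `P` regular. -/
theorem regular_of_cyclic_commutator {P : Type*} [Group P] [Finite P] {p : ℕ} [Fact p.Prime]
    (hp2 : p ≠ 2) (hP : IsPGroup p P) (hc : IsCyclic (commutator P)) :
    Cfsg.IsRegularPGroup p P := by
  rw [Cfsg.Agent.S0643.result hP]
  intro a b
  set H := Subgroup.closure ({a, b} : Set P) with hH
  have haH : a ∈ H := Subgroup.subset_closure (by simp)
  have hbH : b ∈ H := Subgroup.subset_closure (by simp)
  -- the derived subgroup of `H` is cyclic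
  have hle : ∀ x : ↥(commutator ↥H), ((x : ↥H) : P) ∈ commutator P := by
    intro x
    have h1 : ((x : ↥H) : P) ∈ (commutator ↥H).map H.subtype := ⟨x, x.2, rfl⟩
    rw [Subgroup.map_subtype_commutator] at h1
    rw [commutator_def]
    exact Subgroup.commutator_mono le_top le_top h1
  let φ : ↥(commutator ↥H) →* ↥(commutator P) :=
    { toFun := fun x => ⟨((x : ↥H) : P), hle x⟩
      map_one' := rfl
      map_mul' := fun x y => rfl }
  have hφ : Function.Injective φ := by
    intro x y hxy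
    apply Subtype.ext
    apply Subtype.ext
    exact congrArg (fun z : ↥(commutator P) => (z : P)) hxy
  haveI := hc
  haveI : IsCyclic ↥(commutator ↥H) := isCyclic_of_injective φ hφ
  obtain ⟨d, hd⟩ := IsCyclic.exists_generator (α := ↥(commutator ↥H))
  have hgen : ∀ x ∈ commutator ↥H, x ∈ Subgroup.zpowers (d : ↥H) := by
    intro x hx
    obtain ⟨i, hi⟩ := Subgroup.mem_zpowers_iff.1 (hd ⟨x, hx⟩)
    rw [Subgroup.mem_zpowers_iff]
    refine ⟨i, ?_⟩
    have := congrArg (fun z : ↥(commutator ↥H) => (z : ↥H)) hi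
    simpa using this
  obtain ⟨c, hcm, hceq⟩ := blkr_core hp2 (hP.to_subgroup H) (d : ↥H) d.2 hgen ⟨a, haH⟩ ⟨b, hbH⟩
  refine ⟨(c : P), ?_, ?_⟩
  · rw [← Subgroup.map_subtype_commutator]
    exact ⟨c, hcm, rfl⟩
  · have := congrArg (fun z : ↥H => (z : P)) hceq
    simpa using this

end Cfsg.Agent.Lib.Helper18.BLK
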