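import Mathlib
import Cfsg.Agent.Lib.Helper18.BLK.Defs
import Cfsg.Agent.Lib.Helper20.HupJ

/-! Project BLK, piece R2b : cyclic derived subgroup and an agemo of index at most `p²` give a
metacyclic group. -/

set_option autoImplicit false

open scoped commutatorElement

namespace Cfsg.Agent.Lib.Helper18.BLK

universe u

open Cfsg.Agent.Lib.Helper20

/-- **R2b**. -/
theorem metacyclic_of_agemo {P : Type u} [Group P] [Finite P] {p : ℕ} [Fact p.Prime]
    (hp2 : p ≠ 2) (hP : IsPGroup p P) (hc : IsCyclic (commutator P)) (E : Subgroup P)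
    (hE : Nat.card E ≤ p ^ 2) (hTE : ∀ x : P, x ^ p = 1 → x ∈ E)
    (V : Subgroup P) (hVn : V.Normal) (hV1 : ∀ v ∈ V, ∃ h : P, v = h ^ p) (hV2 : ∀ h : P, h ^ p ∈ V)
    (hVi : V.index ≤ p ^ 2) : Cfsg.IsMetacyclic P := by
  classical
  have hp := (Fact.out : p.Prime)
  haveI := hc
  obtain ⟨t', ht'⟩ := IsCyclic.exists_generator (α := ↥(commutator P))
  set t : P := (t' : P) with ht
  have htgen : ∀ x ∈ commutator P, x ∈ Subgroup.zpowers t := by
    intro x hx
    obtain ⟨i, hi⟩ := Subgroup.mem_zpowers_iff.1 (ht' ⟨x, hx⟩)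
    rw [Subgroup.mem_zpowers_iff]
    refine ⟨i, ?_⟩
    have := congrArg (fun z : ↥(commutator P) => (z : P)) hi
    simpa using this
  have hcomm : ∀ a b : P, ⁅a, b⁆ ∈ Subgroup.zpowers t := fun a b => htgen _ (by
    rw [commutator_def]
    exact Subgroup.commutator_mem_commutator (Subgroup.mem_top a) (Subgroup.mem_top b))
  obtain ⟨g, hgS, hgmax⟩ := Set.exists_max_image {g : P | t ∈ Subgroup.zpowers g}
    (fun g => orderOf g) (Set.toFinite _) ⟨t, Subgroup.mem_zpowers t⟩
  have htg : t ∈ Subgroup.zpowers g := hgS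
  have hKN : Subgroup.zpowers t ≤ Subgroup.zpowers g := Subgroup.zpowers_le.mpr htg
  have hNn : (Subgroup.zpowers g).Normal := by
    constructor
    intro n hn x
    have h1 : x * n * x⁻¹ = ⁅x, n⁆ * n := by rw [commutatorElement_def]; group
    rw [h1]
    exact Subgroup.mul_mem _ (hKN (hcomm x n)) hn
  refine ⟨Subgroup.zpowers g, hNn, inferInstance, ?_⟩
  by_cases hg1 : g = 1
  · -- then the group is trivial
    have htriv : ∀ h : P, h = 1 := by
      intro h
      have hk1 : t = 1 := by
        rw [hg1, Subgroup.zpowers_one_eq_bot, Subgroup.mem_bot] at htg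
        exact htg
      have hh : h ∈ {g : P | t ∈ Subgroup.zpowers g} := by
        show t ∈ Subgroup.zpowers h
        rw [hk1]; exact one_mem _
      have := hgmax h hh
      simp only [hg1, orderOf_one] at this
      have hpos := orderOf_pos h
      have : orderOf h = 1 := by omega
      exact orderOf_eq_one_iff.mp this
    refine ⟨1, fun q => ?_⟩
    have hq1 : q = 1 := by
      obtain ⟨x, rfl⟩ := QuotientGroup.mk_surjective q
      rw [htriv x]
      rfl
    rw [hq1]
    exact Subgroup.one_mem (Subgroup.zpowers (1 : P ⧸ Subgroup.zpowers g))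
  · haveI := hNn
    have hcq : ∀ a b : P ⧸ Subgroup.zpowers g, a * b = b * a := by
      intro a b
      obtain ⟨x, rfl⟩ := QuotientGroup.mk_surjective a
      obtain ⟨y, rfl⟩ := QuotientGroup.mk_surjective b
      rw [← QuotientGroup.mk_mul, ← QuotientGroup.mk_mul, QuotientGroup.eq]
      have : (x * y)⁻¹ * (y * x) = ⁅y⁻¹, x⁻¹⁆ := by rw [commutatorElement_def]; group
      rw [this]
      exact hKN (hcomm _ _)
    have hQ : IsPGroup p (P ⧸ Subgroup.zpowers g) := hP.to_quotient _
    -- `g` is not a `p`-th power
    have hgV : g ∉ V := by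
      intro hg
      obtain ⟨h, hh⟩ := hV1 g hg
      have hhS : h ∈ {g : P | t ∈ Subgroup.zpowers g} := by
        show t ∈ Subgroup.zpowers h
        have hle : Subgroup.zpowers g ≤ Subgroup.zpowers h := by
          rw [hh]
          exact Subgroup.zpowers_le.mpr (Subgroup.pow_mem _ (Subgroup.mem_zpowers h) p)
        exact hle htg
      have hle := hgmax h hhS
      obtain ⟨e, he⟩ := (IsPGroup.iff_orderOf.mp hP) h
      have he0 : e ≠ 0 := by
        intro h0
        rw [h0, pow_zero, orderOf_eq_one_iff] at he
        apply hg1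
        rw [hh, he, one_pow]
      have hog : orderOf g = p ^ (e - 1) := by
        rw [hh, orderOf_pow_of_dvd hp.ne_zero (by rw [he]; exact dvd_pow_self p he0), he]
        have : p ^ e = p ^ (e - 1) * p := by
          rw [← pow_succ]
          congr 1
          omega
        rw [this, Nat.mul_div_cancel _ hp.pos]
      have hle' : orderOf h ≤ orderOf g := hle
      rw [he, hog] at hle'
      have : p ^ (e - 1) < p ^ e := Nat.pow_lt_pow_right hp.one_lt (by omega)
      omega
    -- the index of `V ⊔ ⟨g⟩`
    have hidx : (V ⊔ Subgroup.zpowers g).index ≤ p := by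
      have hle : V ≤ V ⊔ Subgroup.zpowers g := le_sup_left
      have h1 := Subgroup.relIndex_mul_index hle
      have hne1 : V.relIndex (V ⊔ Subgroup.zpowers g) ≠ 1 := by
        intro h
        rw [Subgroup.relIndex_eq_one] at h
        exact hgV (h (le_sup_right (a := V) (Subgroup.mem_zpowers g)))
      have hpow : ∃ k, V.relIndex (V ⊔ Subgroup.zpowers g) = p ^ k := by
        obtain ⟨n, hn⟩ := IsPGroup.iff_card.mp hP
        have hd : V.relIndex (V ⊔ Subgroup.zpowers g) ∣ Nat.card P :=
          (Subgroup.relIndex_dvd_card _ _).trans (Subgroup.card_subgroup_dvd_card _)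
        rw [hn] at hd
        obtain ⟨k, -, hk⟩ := (Nat.dvd_prime_pow hp).1 hd
        exact ⟨k, hk⟩
      obtain ⟨k, hk⟩ := hpow
      have hk0 : k ≠ 0 := by
        rintro rfl
        exact hne1 (by rw [hk, pow_zero])
      have hpk : p ≤ p ^ k := by
        calc p = p ^ 1 := (pow_one p).symm
          _ ≤ p ^ k := Nat.pow_le_pow_right hp.pos (by omega)
      have h2 : p * (V ⊔ Subgroup.zpowers g).index ≤ p * p := by
        calc p * (V ⊔ Subgroup.zpowers g).index
            ≤ p ^ k * (V ⊔ Subgroup.zpowers g).index := Nat.mul_le_mul_right _ hpk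
          _ = V.index := by rw [← hk]; exact h1
          _ ≤ p ^ 2 := hVi
          _ = p * p := sq p
      exact Nat.le_of_mul_le_mul_left h2 hp.pos
    -- the elements of order dividing `p` of the quotient
    have hpowQ : ∀ a b : P ⧸ Subgroup.zpowers g, (a * b) ^ p = a ^ p * b ^ p :=
      fun a b => (show Commute a b from hcq a b).mul_pow p
    have hW : Nat.card (Hup.omegaSub p hpowQ) ≤ p := by
      let ψ : (P ⧸ Subgroup.zpowers g) →* (P ⧸ Subgroup.zpowers g) :=
        { toFun := fun q => q ^ p
          map_one' := one_pow p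
          map_mul' := hpowQ }
      have hker : ψ.ker = Hup.omegaSub p hpowQ := by
        ext q
        rw [MonoidHom.mem_ker, Hup.mem_omegaSub]
        rfl
      have hVle : V.map (QuotientGroup.mk' (Subgroup.zpowers g)) ≤ ψ.range := by
        rintro q ⟨v, hv, rfl⟩
        obtain ⟨h, rfl⟩ := hV1 v hv
        exact ⟨QuotientGroup.mk' _ h, (map_pow _ h p).symm⟩
      have h2 : (V.map (QuotientGroup.mk' (Subgroup.zpowers g))).index =
          (V ⊔ Subgroup.zpowers g).index := by
        rw [Subgroup.index_map, QuotientGroup.ker_mk',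
          MonoidHom.range_eq_top.2 (QuotientGroup.mk'_surjective _), Subgroup.index_top, mul_one]
      have h3 : ψ.range.index ≤ p := by
        have hd := Subgroup.index_dvd_of_le hVle
        have hpos : 0 < (V.map (QuotientGroup.mk' (Subgroup.zpowers g))).index :=
          Nat.pos_of_ne_zero Subgroup.index_ne_zero_of_finite
        exact (Nat.le_of_dvd hpos hd).trans (by rw [h2]; exact hidx)
      have h4 : Nat.card ψ.ker * Nat.card ψ.range = Nat.card (P ⧸ Subgroup.zpowers g) := by
        have := Subgroup.card_mul_index ψ.ker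
        rwa [Subgroup.index_ker] at this
      have h5 : Nat.card ψ.range * ψ.range.index = Nat.card (P ⧸ Subgroup.zpowers g) :=
        Subgroup.card_mul_index ψ.range
      have h6 : Nat.card ψ.ker = ψ.range.index := by
        have hpos : 0 < Nat.card ψ.range := Nat.card_pos
        apply Nat.eq_of_mul_eq_mul_left hpos
        rw [mul_comm, h4, h5]
      rw [← hker, h6]
      exact h3
    exact Hup.isCyclic_of_omega_le hcq p hQ _ hW (fun q hq => hq)

end Cfsg.Agent.Lib.Helper18.BLK
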