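import Mathlib
import Cfsg.Agent.Lib.Helper28.BP2.Defs

set_option autoImplicit false

namespace Cfsg.Agent.Lib.Helper28.BP2

open Cfsg.Agent.Lib.helper14

universe u v w

section StepC

variable {F : Type u} [Field F]

/-- C1 with the statement of U6 (for this `p`) as a hypothesis. -/
theorem bp2c1_core (p : ℕ) [Fact p.Prime]
    (hU6 : ∀ P : Sylow p (PSL2 F),
      ∃ g : PSL2 F, (P : Subgroup (PSL2 F)) = (PU F).map (MulAut.conj g).toMonoidHom)
    (g : PSL2 F) (hg : orderOf g = p) :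
    ∃ (x : PSL2 F) (α : F), α ≠ 0 ∧ g = x * pr F (uS α) * x⁻¹ := by
  have hp : p.Prime := Fact.out
  have hpg : IsPGroup p (Subgroup.zpowers g) := by
    apply IsPGroup.of_card (n := 1)
    rw [Nat.card_zpowers, hg, pow_one]
  obtain ⟨P, hP⟩ := hpg.exists_le_sylow
  obtain ⟨x, hx⟩ := hU6 P
  have hgP : g ∈ (P : Subgroup (PSL2 F)) := hP (Subgroup.mem_zpowers g)
  rw [hx] at hgP
  obtain ⟨u, hu, hug⟩ := hgP
  obtain ⟨s, hs, hsu⟩ := hu
  obtain ⟨α, hα⟩ := (mem_US s).mp hs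
  refine ⟨x, α, ?_, ?_⟩
  · rintro rfl
    rw [uS_zero] at hα
    rw [← hα, map_one] at hsu
    rw [← hsu, map_one] at hug
    rw [← hug, orderOf_one] at hg
    exact hp.one_lt.ne hg
  · rw [hα, hsu, ← hug]
    rfl

end StepC

end Cfsg.Agent.Lib.Helper28.BP2
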