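import Mathlib
import Cfsg.Agent.Lib.Helper28.BP2.Defs
import Cfsg.Agent.Lib.Helper29.BP2U6
import Cfsg.Agent.Lib.Helper13.BP2C1core

set_option autoImplicit false

namespace Cfsg.Agent.Lib.Helper28.BP2

open Cfsg.Agent.Lib.helper14

universe u v w

section StepC

variable {F : Type u} [Field F] [Fintype F]

/-- **C1**.  `g` lies in a Sylow `p`-subgroup (U6). -/
theorem order_p_conj (p : ℕ) [Fact p.Prime] [CharP F p] (g : PSL2 F) (hg : orderOf g = p) :
    ∃ (x : PSL2 F) (α : F), α ≠ 0 ∧ g = x * pr F (uS α) * x⁻¹ :=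
  bp2c1_core p (fun P => sylow_conj_PU p P) g hg

end StepC

end Cfsg.Agent.Lib.Helper28.BP2
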