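import Mathlib
import Cfsg.Agent.Lib.helper7.BR.Defs
import Cfsg.Agent.Lib.Helper24.BRDEC0
import Cfsg.Agent.Lib.helper23.BRSUMH

/-!
Project BR (helper7), statement PERM3 of the skeleton (helper13): `⟨π, 1⟩ = 1`.
-/

set_option autoImplicit false
set_option linter.unusedVariables false
set_option linter.unusedSectionVars false

namespace Cfsg.Agent.Lib.helper7.BR

open Classical
open Cfsg.Agent.Lib.Helper25

universe u

variable {G : Type u} [Group G] [Fintype G] {p : ℕ} [Fact p.Prime] {P : Sylow p G} {q t : ℕ}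
  {Xp Xm Y : Finset (Cfsg.IrrCharacter G)} {H : Subgroup G}

/-- PERM3 : `⟨π, 1⟩ = 1` (Frobenius reciprocity `h7_frobenius_reciprocity`). -/
theorem inner_permChar_triv (P : Sylow p G) :
    Cfsg.classInner (permChar P) ((trivIrr G : Cfsg.IrrCharacter G) : G → ℂ) = 1 := by
  have h := brdec0_inner_perm (P := P) ((trivIrr G : Cfsg.IrrCharacter G) : G → ℂ)
    (Cfsg.Agent.Lib.helper2.isCharacter_of_irr (trivIrr G)) 1 (by
      have h1 : ∀ x : ↥(nrm P), ((trivIrr G : Cfsg.IrrCharacter G) : G → ℂ) (x : G) = 1 :=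
        fun _ => rfl
      rw [Finset.sum_congr rfl (fun x _ => h1 x)]
      simp [Nat.card_eq_fintype_card])
  simpa using h

end Cfsg.Agent.Lib.helper7.BR
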