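import Mathlib
import Cfsg.Agent.Lib.helper7.BR.Defs
import Cfsg.Agent.Lib.helper7.CharTools
import Cfsg.Agent.Lib.helper2.CharInd
import Cfsg.Agent.Lib.Helper27.BRPERM1
import Cfsg.Agent.Lib.Helper13.BRPERM3

/-!
Project BR (helper7), piece DEC2 (helper13): `⟨π, χ⟩ = 0` for `χ ∈ Xp`.
-/

set_option autoImplicit false
set_option linter.unusedVariables false
set_option linter.unusedSectionVars false

namespace Cfsg.Agent.Lib.helper7.BR

open Classical
open Cfsg.Agent.Lib.Helper25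

universe u

variable {G : Type u} [Group G] [Fintype G] {p : ℕ} [Fact p.Prime] {P : Sylow p G} {q t : ℕ}
  {Xp Xm Y : Finset (Cfsg.IrrCharacter G)} {H : Subgroup G}

/-- `π = 1 + Δ` with `Δ` a character of degree `(t - 1) p`. -/
theorem brdec2_split (hS : Setting p P q t) :
    ∃ Δ : G → ℂ, Cfsg.IsCharacter G Δ ∧ permChar P = ((trivIrr G : Cfsg.IrrCharacter G) : G → ℂ) + Δ ∧
      Δ 1 = (((t - 1) * p : ℕ) : ℂ) := by
  have hπ := permChar_isCharacter P
  have h1 : permChar P 1 = ((1 + (t - 1) * p : ℕ) : ℂ) := by rw [permChar_one, hS.index]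
  have htriv := inner_permChar_triv P
  obtain ⟨Δ, hΔ, hsplit⟩ := Cfsg.Agent.Lib.helper7.h7_char_split hπ
    ((trivIrr G : Cfsg.IrrCharacter G) : G → ℂ) (trivIrr G).2 (by rw [htriv]; exact one_ne_zero)
  refine ⟨Δ, hΔ, hsplit, ?_⟩
  have h2 := congrFun hsplit 1
  rw [Pi.add_apply, h1] at h2
  have h3 : ((trivIrr G : Cfsg.IrrCharacter G) : G → ℂ) 1 = 1 := rfl
  rw [h3] at h2
  push_cast at h2 ⊢
  linear_combination -h2

/-- DEC2 : `⟨π, χ⟩ = 0` for `χ ∈ Xp` (`χ(1) = π(1)` and `⟨π, 1⟩ = 1`). -/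
theorem inner_perm_Xp (hS : Setting p P q t) (hD : CharData p P q t Xp Xm Y)
    (χ : Cfsg.IrrCharacter G) (hχ : χ ∈ Xp) :
    Cfsg.classInner (permChar P) (χ : G → ℂ) = 0 := by
  obtain ⟨Δ, hΔ, hsplit, hΔ1⟩ := brdec2_split (P := P) hS
  have hne : χ ≠ trivIrr G := fun e => hD.triv_notMem.1 (e ▸ hχ)
  have hinner : Cfsg.classInner (permChar P) (χ : G → ℂ) = Cfsg.classInner Δ (χ : G → ℂ) := by
    rw [hsplit, classInner_add_left, irr_classInner (trivIrr G) χ, if_neg (Ne.symm hne), zero_add]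
  obtain ⟨m, hm⟩ := Cfsg.Agent.Lib.helper2.classInner_character_nat hΔ
    (Cfsg.Agent.Lib.helper2.isCharacter_of_irr χ)
  have hle := Cfsg.Agent.Lib.helper2.isCharacter_degree_ge hΔ χ m ((t - 1) * p)
    (1 + (t - 1) * p) hm hΔ1 (hD.deg_Xp χ hχ)
  have hm0 : m = 0 := by
    by_contra h0
    have h1 : 1 ≤ m := Nat.one_le_iff_ne_zero.2 h0
    have h2 : 1 * (1 + (t - 1) * p) ≤ m * (1 + (t - 1) * p) := Nat.mul_le_mul_right _ h1
    omega
  rw [hinner, hm, hm0]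
  simp

end Cfsg.Agent.Lib.helper7.BR
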