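import Mathlib
import Cfsg.Agent.Lib.helper7.BR.Defs
import Cfsg.Agent.Lib.helper7.CharTools
import Cfsg.Agent.Lib.helper2.CharInd
import Cfsg.Agent.Lib.helper23.BRSUMH
import Cfsg.Agent.Lib.Helper13.BRFROB0
import Cfsg.Agent.Lib.Helper13.BRDEC2
import Cfsg.Agent.Lib.Helper27.BRPERM1
import Cfsg.Agent.Lib.Helper13.BRPERM3
import Cfsg.Agent.Lib.Helper24.BRDEC0
import Cfsg.Agent.Lib.helper23.BRVAN

/-!
Project BR (helper7), piece DEC3 (helper13): `⟨π, θ⟩ = 0` for `θ ∈ Y`, and the common set-up of DEC3 / DEC4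
(the expansion of `π` and the degree equation).
-/

set_option autoImplicit false
set_option linter.unusedVariables false
set_option linter.unusedSectionVars false

namespace Cfsg.Agent.Lib.helper7.BR

open Classical
open Cfsg.Agent.Lib.Helper25

universe u

variable {G : Type u} [Group G] [Fintype G] {p : ℕ} [Fact p.Prime] {P : Sylow p G} {q t : ℕ}
  {Xp Xm Y : Finset (Cfsg.IrrCharacter G)} {H : Subgroup G}

/-- splitting a sum over all irreducible characters along `1, Xp, Xm, Y, rest`. -/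
theorem brdec3_sum_split [Fintype (Cfsg.IrrCharacter G)] {M : Type*} [AddCommMonoid M]
    (hD : CharData p P q t Xp Xm Y) (f : Cfsg.IrrCharacter G → M) :
    ∑ χ : Cfsg.IrrCharacter G, f χ =
      ∑ ψ ∈ rest Xp Xm Y, f ψ + (f (trivIrr G) + ((∑ χ ∈ Xp, f χ + ∑ χ ∈ Xm, f χ) + ∑ θ ∈ Y, f θ)) := by
  have h1 : ∑ ψ ∈ rest Xp Xm Y, f ψ + ∑ χ ∈ insert (trivIrr G) (Xp ∪ Xm ∪ Y), f χ =
      ∑ χ : Cfsg.IrrCharacter G, f χ := by
    unfold rest
    convert Finset.sum_sdiff (f := f) (Finset.subset_univ (insert (trivIrr G) (Xp ∪ Xm ∪ Y)))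
  have hnot : trivIrr G ∉ Xp ∪ Xm ∪ Y := by
    simp only [Finset.mem_union, not_or]
    exact ⟨⟨hD.triv_notMem.1, hD.triv_notMem.2.1⟩, hD.triv_notMem.2.2⟩
  have hdisj : Disjoint (Xp ∪ Xm) Y := Finset.disjoint_union_left.2 ⟨hD.disj.2.1, hD.disj.2.2⟩
  rw [← h1, Finset.sum_insert hnot, Finset.sum_union hdisj, Finset.sum_union hD.disj.1]

/-- `q < p` in the setting. -/
theorem brdec3_q_lt (hS : Setting p P q t) : q < p := by
  have h1 : q * 1 ≤ q * t := Nat.mul_le_mul_left q (by have := hS.ht; omega)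
  have := hS.qt
  have := hS.prime.two_le
  omega

/-- the degrees of the characters in `rest` are divisible by `p`. -/
theorem brdec3_rest_dvd [Fintype (Cfsg.IrrCharacter G)] (hS : Setting p P q t)
    (hD : CharData p P q t Xp Xm Y) (ψ : Cfsg.IrrCharacter G) (hψ : ψ ∈ rest Xp Xm Y) (d : ℕ)
    (hd : (ψ : G → ℂ) 1 = (d : ℂ)) : p ∣ d := by
  obtain ⟨m, hm⟩ := sum_subgroup_nat (P : Subgroup G) (ψ : G → ℂ)
    (Cfsg.Agent.Lib.helper2.isCharacter_of_irr ψ)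
  have h1 : ∑ x : ↥(P : Subgroup G), (ψ : G → ℂ) (x : G) = (ψ : G → ℂ) 1 := by
    rw [Finset.sum_eq_single (1 : ↥(P : Subgroup G))]
    · rfl
    · intro x _ hx
      exact rest_vanish hS hD ψ hψ x x.2 (fun e => hx (Subtype.ext e))
    · intro h
      exact absurd (Finset.mem_univ _) h
  rw [h1, hd, hS.cardP] at hm
  refine ⟨m, ?_⟩
  exact_mod_cast hm

/-- the common set-up: multiplicities `c`, degrees `d`, the expansion of `π`, the degree equation. -/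
theorem brdec3_setup [Fintype (Cfsg.IrrCharacter G)] (hS : Setting p P q t)
    (hD : CharData p P q t Xp Xm Y) :
    ∃ (c d : Cfsg.IrrCharacter G → ℕ),
      (∀ χ : Cfsg.IrrCharacter G, Cfsg.classInner (permChar P) (χ : G → ℂ) = (c χ : ℂ)) ∧
      (∀ χ : Cfsg.IrrCharacter G, (χ : G → ℂ) 1 = (d χ : ℂ)) ∧
      (permChar P = ∑ χ : Cfsg.IrrCharacter G, (c χ : ℂ) • (χ : G → ℂ)) ∧
      c (trivIrr G) = 1 ∧ (∀ χ ∈ Xp, c χ = 0) ∧ (∀ χ ∈ Xm, c χ = 0) ∧
      (∀ ψ ∈ rest Xp Xm Y, d ψ = p * (d ψ / p)) ∧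
      (t - 1) * p = (∑ θ ∈ Y, c θ) * (p - q) + p * ∑ ψ ∈ rest Xp Xm Y, c ψ * (d ψ / p) := by
  have hπ := permChar_isCharacter P
  obtain ⟨c, hc, hexp⟩ := Cfsg.Agent.Lib.helper2.isCharacter_expansion hπ
  choose d hdpos hd using fun χ : Cfsg.IrrCharacter G => irr_one_eq_finrank χ
  have hctriv : c (trivIrr G) = 1 := by
    have := hc (trivIrr G)
    rw [inner_permChar_triv P] at this
    exact_mod_cast this.symm
  have hcXp : ∀ χ ∈ Xp, c χ = 0 := by
    intro χ hχ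
    have := hc χ
    rw [inner_perm_Xp hS hD χ hχ] at this
    exact_mod_cast this.symm
  have hcXm : ∀ χ ∈ Xm, c χ = 0 := by
    intro χ hχ
    have := hc χ
    rw [inner_perm_Xm hS hD χ hχ] at this
    exact_mod_cast this.symm
  have hdrest : ∀ ψ ∈ rest Xp Xm Y, d ψ = p * (d ψ / p) := by
    intro ψ hψ
    exact (Nat.mul_div_cancel' (brdec3_rest_dvd hS hD ψ hψ (d ψ) (hd ψ))).symm
  refine ⟨c, d, hc, hd, hexp, hctriv, hcXp, hcXm, hdrest, ?_⟩
  -- the degree equation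
  have h1 : permChar P 1 = ((1 + (t - 1) * p : ℕ) : ℂ) := by rw [permChar_one, hS.index]
  have h2 : permChar P 1 = ((∑ χ : Cfsg.IrrCharacter G, c χ * d χ : ℕ) : ℂ) := by
    conv_lhs => rw [hexp]
    rw [Finset.sum_apply]
    push_cast
    refine Finset.sum_congr rfl fun χ _ => ?_
    rw [Pi.smul_apply, smul_eq_mul, hd χ]
  have h3 : 1 + (t - 1) * p = ∑ χ : Cfsg.IrrCharacter G, c χ * d χ := by
    have := h1.symm.trans h2
    exact_mod_cast this
  rw [brdec3_sum_split hD] at h3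
  have hdtriv : d (trivIrr G) = 1 := by
    have := hd (trivIrr G)
    have h4 : ((trivIrr G : Cfsg.IrrCharacter G) : G → ℂ) 1 = 1 := rfl
    rw [h4] at this
    exact_mod_cast this.symm
  have hsXp : ∑ χ ∈ Xp, c χ * d χ = 0 :=
    Finset.sum_eq_zero fun χ hχ => by rw [hcXp χ hχ, Nat.zero_mul]
  have hsXm : ∑ χ ∈ Xm, c χ * d χ = 0 :=
    Finset.sum_eq_zero fun χ hχ => by rw [hcXm χ hχ, Nat.zero_mul]
  have hsY : ∑ θ ∈ Y, c θ * d θ = (∑ θ ∈ Y, c θ) * (p - q) := by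
    rw [Finset.sum_mul]
    refine Finset.sum_congr rfl fun θ hθ => ?_
    have := (hd θ).symm.trans (hD.deg_Y θ hθ)
    have h5 : d θ = p - q := by exact_mod_cast this
    rw [h5]
  have hsR : ∑ ψ ∈ rest Xp Xm Y, c ψ * d ψ = p * ∑ ψ ∈ rest Xp Xm Y, c ψ * (d ψ / p) := by
    rw [Finset.mul_sum]
    refine Finset.sum_congr rfl fun ψ hψ => ?_
    conv_lhs => rw [hdrest ψ hψ]
    ring
  rw [hctriv, hdtriv, hsXp, hsXm, hsY, hsR] at h3
  omega

/-- DEC3 : `⟨π, θ⟩ = 0` for `θ ∈ Y`. -/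
theorem inner_perm_Y [Fintype (Cfsg.IrrCharacter G)] (hS : Setting p P q t)
    (hD : CharData p P q t Xp Xm Y) (θ : Cfsg.IrrCharacter G) (hθ : θ ∈ Y) :
    Cfsg.classInner (permChar P) (θ : G → ℂ) = 0 := by
  obtain ⟨c, d, hc, hd, hexp, hctriv, hcXp, hcXm, hdrest, heq⟩ := brdec3_setup hS hD
  have hp := hS.prime
  have hqp := brdec3_q_lt hS
  have hcop : Nat.Coprime p (p - q) := by
    have h1 : Nat.Coprime p q := brfrob0_coprime hS
    exact (Nat.coprime_self_sub_right hqp.le).2 h1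
  -- `p ∣ S`
  have hdvd : p ∣ (∑ θ ∈ Y, c θ) * (p - q) := by
    have h1 : p ∣ (t - 1) * p := Dvd.intro_left _ rfl
    rw [heq] at h1
    exact (Nat.dvd_add_left (Dvd.intro _ rfl)).1 h1
  have hdvd' : p ∣ ∑ θ ∈ Y, c θ := hcop.dvd_of_dvd_mul_right hdvd
  -- `S < p`
  have hlt : ∑ θ ∈ Y, c θ < p := by
    by_contra hge
    push Not at hge
    have h1 : p * (p - q) ≤ (∑ θ ∈ Y, c θ) * (p - q) := Nat.mul_le_mul_right _ hge
    have h2 : (∑ θ ∈ Y, c θ) * (p - q) ≤ (t - 1) * p := by rw [heq]; exact Nat.le_add_right _ _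
    have h3 : p * (p - q) ≤ p * (t - 1) := by rw [Nat.mul_comm p (t - 1)]; exact h1.trans h2
    have h4 : p - q ≤ t - 1 := Nat.le_of_mul_le_mul_left h3 hp.pos
    -- `p = q t + 1`
    have h5 := hS.qt
    have h6 := hS.hq
    have h7 := hS.ht
    have h8 : 2 * t ≤ q * t := Nat.mul_le_mul_right t h6
    have h9 : q * 3 ≤ q * t := Nat.mul_le_mul_left q h7
    have h10 : (q - 1) * (t - 1) + (q - 1) + (t - 1) + 1 = q * t := by
      obtain ⟨q', rfl⟩ : ∃ q', q = q' + 1 := ⟨q - 1, by omega⟩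
      obtain ⟨t', rfl⟩ : ∃ t', t = t' + 1 := ⟨t - 1, by omega⟩
      simp only [Nat.add_sub_cancel]
      ring
    have h11 : 1 ≤ (q - 1) * (t - 1) := Nat.mul_pos (by omega) (by omega)
    omega
  have hzero : ∑ θ ∈ Y, c θ = 0 := Nat.eq_zero_of_dvd_of_lt hdvd' hlt
  have hcθ : c θ = 0 := (Finset.sum_eq_zero_iff.1 hzero) θ hθ
  rw [hc θ, hcθ]
  simp

end Cfsg.Agent.Lib.helper7.BR
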