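import Mathlib
import Cfsg.Agent.Lib.helper7.BR.Defs
import Cfsg.Agent.Lib.Helper24.BRRSQ
import Cfsg.Agent.Lib.Helper13.BRDEC3
import Cfsg.Agent.Lib.Helper27.BRPERM6

/-!
Project BR (helper7), piece DEC4 (helper13): the decomposition of the permutation character `π`.
-/

set_option autoImplicit false
set_option linter.unusedVariables false
set_option linter.unusedSectionVars false

namespace Cfsg.Agent.Lib.helper7.BR

open Classical
open Cfsg.Agent.Lib.Helper25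

universe u

variable {G : Type u} [Group G] [Fintype G] {p : ℕ} [Fact p.Prime] {P : Sylow p G} {q t : ℕ}
  {Xp Xm Y : Finset (Cfsg.IrrCharacter G)} {H : Subgroup G}

/-- if `∑ c a = ∑ a² = T` and `∑ c² ≤ T` then `c = a`. -/
theorem brdec4_cauchy {ι : Type*} (s : Finset ι) (c a : ι → ℕ) (T : ℕ)
    (hca : ∑ i ∈ s, c i * a i = T) (haa : ∑ i ∈ s, a i * a i = T)
    (hcc : ∑ i ∈ s, c i * c i ≤ T) : ∀ i ∈ s, c i = a i := by
  have h1 : ∑ i ∈ s, ((c i : ℤ) - a i) ^ 2 =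
      ∑ i ∈ s, ((c i * c i : ℕ) : ℤ) - 2 * ∑ i ∈ s, ((c i * a i : ℕ) : ℤ) +
        ∑ i ∈ s, ((a i * a i : ℕ) : ℤ) := by
    rw [Finset.mul_sum, ← Finset.sum_sub_distrib, ← Finset.sum_add_distrib]
    refine Finset.sum_congr rfl fun i _ => ?_
    push_cast
    ring
  have h2 : ∑ i ∈ s, ((c i : ℤ) - a i) ^ 2 ≤ 0 := by
    rw [h1, ← Nat.cast_sum, ← Nat.cast_sum, ← Nat.cast_sum, hca, haa]
    have : ((∑ i ∈ s, c i * c i : ℕ) : ℤ) ≤ (T : ℤ) := by exact_mod_cast hcc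
    linarith
  have h3 : ∑ i ∈ s, ((c i : ℤ) - a i) ^ 2 = 0 :=
    le_antisymm h2 (Finset.sum_nonneg fun i _ => sq_nonneg _)
  intro i hi
  have h4 := (Finset.sum_eq_zero_iff_of_nonneg (fun i _ => sq_nonneg ((c i : ℤ) - a i))).1 h3 i hi
  have h5 : (c i : ℤ) - a i = 0 := by
    rcases sq_eq_zero_iff.1 h4 with h
    exact h
  have h6 : (c i : ℤ) = a i := by linarith
  exact_mod_cast h6

/-- DEC4 -/
theorem perm_decomp [Fintype (Cfsg.IrrCharacter G)] (hS : Setting p P q t)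
    (hD : CharData p P q t Xp Xm Y) :
    (∀ ψ ∈ rest Xp Xm Y, Cfsg.classInner (permChar P) (ψ : G → ℂ) = (ψ : G → ℂ) 1 / (p : ℂ)) ∧
    Cfsg.classInner (permChar P) (permChar P) = (t : ℂ) ∧
    ∀ g : G, permChar P g = 1 + ∑ ψ ∈ rest Xp Xm Y, (ψ : G → ℂ) 1 / (p : ℂ) * (ψ : G → ℂ) g := by
  obtain ⟨c, d, hc, hd, hexp, hctriv, hcXp, hcXm, hdrest, heq⟩ := brdec3_setup hS hD
  have hp := hS.prime
  have ht := hS.ht
  have hpC : (p : ℂ) ≠ 0 := by exact_mod_cast hp.ne_zero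
  have hcY : ∀ θ ∈ Y, c θ = 0 := by
    intro θ hθ
    have := hc θ
    rw [inner_perm_Y hS hD θ hθ] at this
    exact_mod_cast this.symm
  -- `∑ c a = t - 1`
  have hca : ∑ ψ ∈ rest Xp Xm Y, c ψ * (d ψ / p) = t - 1 := by
    have h0 : ∑ θ ∈ Y, c θ = 0 := Finset.sum_eq_zero hcY
    rw [h0, Nat.zero_mul, Nat.zero_add, Nat.mul_comm] at heq
    exact (Nat.eq_of_mul_eq_mul_left hp.pos heq).symm
  -- `∑ a² = t - 1`
  have haa : ∑ ψ ∈ rest Xp Xm Y, (d ψ / p) * (d ψ / p) = t - 1 := by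
    have h1 := rest_sum_sq hS hD
    have h2 : ∑ ψ ∈ rest Xp Xm Y, ((ψ : G → ℂ) 1) ^ 2 =
        (p : ℂ) ^ 2 * ((∑ ψ ∈ rest Xp Xm Y, (d ψ / p) * (d ψ / p) : ℕ) : ℂ) := by
      push_cast
      rw [Finset.mul_sum]
      refine Finset.sum_congr rfl fun ψ hψ => ?_
      rw [hd ψ]
      conv_lhs => rw [hdrest ψ hψ]
      push_cast
      ring
    rw [h2] at h1
    have h3 : ((∑ ψ ∈ rest Xp Xm Y, (d ψ / p) * (d ψ / p) : ℕ) : ℂ) = ((t - 1 : ℕ) : ℂ) := by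
      have h4 : (p : ℂ) ^ 2 ≠ 0 := pow_ne_zero 2 hpC
      have h5 : ((t - 1 : ℕ) : ℂ) = (t : ℂ) - 1 := by
        rw [Nat.cast_sub (by omega)]
        simp
      rw [h5]
      exact mul_left_cancel₀ h4 h1
    exact_mod_cast h3
  -- `⟨π, π⟩ = ∑ c²`
  have hnorm : Cfsg.classInner (permChar P) (permChar P) =
      ((∑ χ : Cfsg.IrrCharacter G, c χ * c χ : ℕ) : ℂ) := by
    conv_lhs => rw [hexp]
    rw [classInner_sum_left]
    push_cast
    refine Finset.sum_congr rfl fun χ _ => ?_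
    rw [classInner_smul_left,
      Cfsg.Agent.Lib.helper2.classInner_symm_of_nat _ _ (c χ) (by rw [← hexp]; exact hc χ)]
  have hsplit : ∑ χ : Cfsg.IrrCharacter G, c χ * c χ = ∑ ψ ∈ rest Xp Xm Y, c ψ * c ψ + 1 := by
    have z1 : ∑ χ ∈ Xp, c χ * c χ = 0 := Finset.sum_eq_zero (fun χ hχ => by rw [hcXp χ hχ, Nat.zero_mul])
    have z2 : ∑ χ ∈ Xm, c χ * c χ = 0 := Finset.sum_eq_zero (fun χ hχ => by rw [hcXm χ hχ, Nat.zero_mul])
    have z3 : ∑ χ ∈ Y, c χ * c χ = 0 := Finset.sum_eq_zero (fun χ hχ => by rw [hcY χ hχ, Nat.zero_mul])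
    rw [brdec3_sum_split hD, hctriv, z1, z2, z3]
    simp
  -- PERM6
  obtain ⟨m, hm, hmt, -⟩ := inner_permChar_self_le (P := P) hS
  have hcc : ∑ ψ ∈ rest Xp Xm Y, c ψ * c ψ ≤ t - 1 := by
    rw [hnorm] at hm
    have : ∑ χ : Cfsg.IrrCharacter G, c χ * c χ = m := by exact_mod_cast hm
    rw [hsplit] at this
    omega
  have hceq := brdec4_cauchy (rest Xp Xm Y) c (fun ψ => d ψ / p) (t - 1) hca haa hcc
  have hval : ∀ ψ ∈ rest Xp Xm Y, ((c ψ : ℕ) : ℂ) = (ψ : G → ℂ) 1 / (p : ℂ) := by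
    intro ψ hψ
    rw [hd ψ, hceq ψ hψ]
    conv_rhs => rw [hdrest ψ hψ]
    push_cast
    field_simp
  refine ⟨?_, ?_, ?_⟩
  · intro ψ hψ
    rw [hc ψ, hval ψ hψ]
  · rw [hnorm, hsplit]
    have : ∑ ψ ∈ rest Xp Xm Y, c ψ * c ψ = t - 1 := by
      rw [← haa]
      refine Finset.sum_congr rfl fun ψ hψ => ?_
      rw [hceq ψ hψ]
    rw [this]
    have : t - 1 + 1 = t := by omega
    rw [this]
  · intro g
    have h1 : permChar P g = ∑ χ : Cfsg.IrrCharacter G, (c χ : ℂ) * (χ : G → ℂ) g := by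
      conv_lhs => rw [hexp]
      rw [Finset.sum_apply]
      refine Finset.sum_congr rfl fun χ _ => ?_
      rw [Pi.smul_apply, smul_eq_mul]
    have z1 : ∑ χ ∈ Xp, (c χ : ℂ) * (χ : G → ℂ) g = 0 :=
      Finset.sum_eq_zero (fun χ hχ => by rw [hcXp χ hχ]; simp)
    have z2 : ∑ χ ∈ Xm, (c χ : ℂ) * (χ : G → ℂ) g = 0 :=
      Finset.sum_eq_zero (fun χ hχ => by rw [hcXm χ hχ]; simp)
    have z3 : ∑ χ ∈ Y, (c χ : ℂ) * (χ : G → ℂ) g = 0 :=
      Finset.sum_eq_zero (fun χ hχ => by rw [hcY χ hχ]; simp)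
    rw [h1, brdec3_sum_split hD, hctriv, z1, z2, z3]
    have h2 : ((trivIrr G : Cfsg.IrrCharacter G) : G → ℂ) g = 1 := rfl
    rw [h2]
    have h3 : ∑ ψ ∈ rest Xp Xm Y, (c ψ : ℂ) * (ψ : G → ℂ) g =
        ∑ ψ ∈ rest Xp Xm Y, (ψ : G → ℂ) 1 / (p : ℂ) * (ψ : G → ℂ) g :=
      Finset.sum_congr rfl fun ψ hψ => by rw [hval ψ hψ]
    rw [h3]
    push_cast
    ring

end Cfsg.Agent.Lib.helper7.BR
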