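import Mathlib
import Cfsg.Agent.Lib.helper7.BR.Defs
import Cfsg.Agent.Lib.Helper1.BRFROB3
import Cfsg.Agent.Lib.Helper13.BRDEC4
import Cfsg.Agent.Lib.Helper27.BRPERM6

/-!
Project BR (helper7), piece TWO (helper13): all two-point stabilisers have order `q`; complements exist.
-/

set_option autoImplicit false
set_option linter.unusedVariables false
set_option linter.unusedSectionVars false

namespace Cfsg.Agent.Lib.helper7.BR

open Classical
open Cfsg.Agent.Lib.Helper25

universe u

variable {G : Type u} [Group G] [Fintype G] {p : ℕ} [Fact p.Prime] {P : Sylow p G} {q t : ℕ}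
  {Xp Xm Y : Finset (Cfsg.IrrCharacter G)} {H : Subgroup G}

/-- TWO : all two-point stabilizers have order `q`; in particular complements exist. -/
theorem two_point_stab [Fintype (Cfsg.IrrCharacter G)] (hS : Setting p P q t)
    (hD : CharData p P q t Xp Xm Y) (x : G) (hx : x ∉ nrm P) :
    Nat.card ↥(nrm P ⊓ conjSub x (nrm P)) = q := by
  obtain ⟨m, hm, -, hmt⟩ := inner_permChar_self_le hS
  have h2 := (perm_decomp hS hD).2.1
  rw [hm] at h2
  exact hmt (Nat.cast_injective h2) x hx

/-- in the setting, `N_G(P)` is a proper subgroup. -/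
theorem brtwo_exists_notMem (hS : Setting p P q t) : ∃ x : G, x ∉ nrm P := by
  by_contra hcon
  push Not at hcon
  have htop : nrm P = ⊤ := by
    rw [eq_top_iff]
    intro x _
    exact hcon x
  have h1 := hS.index
  rw [htop, Subgroup.index_top] at h1
  have h2 : 0 < (t - 1) * p := Nat.mul_pos (by have := hS.ht; omega) hS.prime.pos
  omega

theorem exists_compl [Fintype (Cfsg.IrrCharacter G)] (hS : Setting p P q t)
    (hD : CharData p P q t Xp Xm Y) : ∃ H : Subgroup G, Compl P q H := by
  obtain ⟨x, hx⟩ := brtwo_exists_notMem hS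
  exact ⟨nrm P ⊓ conjSub x (nrm P), compl_of_le hS _ inf_le_left (two_point_stab hS hD x hx)⟩

end Cfsg.Agent.Lib.helper7.BR
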