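import Mathlib
import Cfsg.Agent.Lib.helper7.BR.Defs
import Cfsg.Agent.Lib.Helper13.BRLSTR1
import Cfsg.Agent.Lib.Helper1.BRFROB5

/-!
Project BR (helper7), piece LSTR5 (helper13): `C_G(h) ≤ N_G(H)` for `h ∈ H ∖ 1`.
-/

set_option autoImplicit false
set_option linter.unusedVariables false
set_option linter.unusedSectionVars false

namespace Cfsg.Agent.Lib.helper7.BR

open Classical
open Cfsg.Agent.Lib.Helper25

universe u

variable {G : Type u} [Group G] [Fintype G] {p : ℕ} [Fact p.Prime] {P : Sylow p G} {q t : ℕ}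
  {Xp Xm Y : Finset (Cfsg.IrrCharacter G)} {H : Subgroup G}

/-- LSTR5 : `C_G(h) ≤ L` for `h ∈ H ∖ 1`. -/
theorem centralizer_le_nrmH [Fintype (Cfsg.IrrCharacter G)] (hS : Setting p P q t)
    (hD : CharData p P q t Xp Xm Y) (hH : Compl P q H) (h : G) (hh : h ∈ H) (hh1 : h ≠ 1) :
    Subgroup.centralizer ({h} : Set G) ≤ nrmH H := by
  intro c hc
  have hch : h * c = c * h := by
    rw [Subgroup.mem_centralizer_iff] at hc
    exact hc h (Set.mem_singleton h)
  have e0 : c⁻¹ * h * c = h := by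
    rw [mul_assoc, hch, ← mul_assoc, inv_mul_cancel, one_mul]
  obtain ⟨l, hl, y, hy, e⟩ := fix_decomp hS hD hH h hh hh1 c (by rw [e0]; exact hH.le hh)
  -- `h' = l⁻¹ h l ∈ H`
  have hl' : l⁻¹ ∈ nrmH H := Subgroup.inv_mem _ hl
  have hh' : l⁻¹ * h * l ∈ H := by
    have := (Subgroup.mem_normalizer_iff.1 hl' h).1 hh
    simpa using this
  have hh'1 : l⁻¹ * h * l ≠ 1 := by
    intro e1
    apply hh1
    have : h = l * (l⁻¹ * h * l) * l⁻¹ := by group
    rw [this, e1]
    group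
  have hy1 : y⁻¹ = 1 := by
    apply compl_inter hS hH y⁻¹ (Subgroup.inv_mem _ hy) (l⁻¹ * h * l) hh' hh'1
    have e2 : y⁻¹ * (l⁻¹ * h * l) * y⁻¹⁻¹ = (l * y)⁻¹ * h * (l * y) := by group
    rw [e2, ← e, e0]
    exact hh
  have : y = 1 := by simpa using hy1
  rw [e, this, mul_one]
  exact hl

end Cfsg.Agent.Lib.helper7.BR
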