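import Mathlib
import Cfsg.Agent.Lib.helper3.BSZ.Defs

set_option autoImplicit false

namespace Cfsg.Agent.Lib.helper3.BSZ

open Cfsg Cfsg.Agent.Lib.helper3

variable {F : Type*} [Field F] [Fintype F] {m : ℕ}

/-- own copy of E01: two commuting involutions normalising a torus are equal. -/
theorem bsze04_two_invol (hF : Fintype.card F = 2 ^ (2 * m + 1)) (hm : 1 ≤ m) {U : Subgroup (Sz F m)}
    (hU : IsTorus m U) {z z' : Sz F m} (hz : z ∈ Subgroup.normalizer (U : Set (Sz F m))) (hz1 : z ≠ 1)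
    (hz2 : z * z = 1) (hz' : z' ∈ Subgroup.normalizer (U : Set (Sz F m))) (hz'1 : z' ≠ 1) (hz'2 : z' * z' = 1)
    (hc : z * z' = z' * z) : z = z' := by
  by_contra hne
  have hfin : Finite (Sz F m) := finite_Sz hF hm
  have hmem : z * z' ∈ U := invol_mul_mem_torus hF hm hU hz hz1 hz2 hz' hz'1 hz'2
  have hsq : (z * z') * (z * z') = 1 := by
    calc (z * z') * (z * z') = z * (z' * z) * z' := by group
      _ = z * (z * z') * z' := by rw [hc]
      _ = (z * z) * (z' * z') := by group
      _ = 1 := by rw [hz2, hz'2, one_mul]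
  have hne1 : z * z' ≠ 1 := by
    intro h
    apply hne
    calc z = z * (z' * z') := by rw [hz'2, mul_one]
      _ = (z * z') * z' := by group
      _ = z' := by rw [h, one_mul]
  have hord : orderOf (z * z') = 2 := by
    apply orderOf_eq_prime
    · rw [pow_two]; exact hsq
    · exact hne1
  have h2 : 2 ∣ Nat.card U := by
    have h3 : orderOf (⟨z * z', hmem⟩ : U) ∣ Nat.card U := orderOf_dvd_natCard _
    have h4 : orderOf (⟨z * z', hmem⟩ : U) = orderOf (z * z') := by
      rw [← Subgroup.orderOf_coe]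
    rw [h4, hord] at h3
    exact h3
  have hodd : Odd (Nat.card U) := odd_card_torus hm hU
  rcases hodd with ⟨k, hk⟩
  omega

/-- E04 [M] (cites E01): `K₂ := normalizer U ⊓ Qs`.  At most one `b* ≠ 0` with `gT 0 b* ∈ K₂` (two commuting involutions: E01).  If `gT a b ∈ K₂`, `a ≠ 0`, then `gT a b * gT a b = gT 0 (szθ a * a) ∈ K₂` (`gT_sq`), so `szθ a * a = b*`
determines `a` (`sz_norm_inj`/`norm_inj`); and `gT a b`, `gT a b' ∈ K₂` give `gT 0 (b + b' + …) ∈ K₂`, so `b'` takes at most two values.  Hence `K₂ ⊆ {1, gT 0 b*, gT a₀ b₁, gT a₀ b₂}` (`Set.ncard`/`Finset.card_le_four`). -/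
theorem nu_small (hF : Fintype.card F = 2 ^ (2 * m + 1)) (hm : 1 ≤ m) {U : Subgroup (Sz F m)}
    (hU : IsTorus m U) : Nat.card ↥(Subgroup.normalizer (U : Set (Sz F m)) ⊓ Qs hF) ≤ 4 := by
  classical
  have h2 := sz_two hF
  set K₂ : Subgroup (Sz F m) := Subgroup.normalizer (U : Set (Sz F m)) ⊓ Qs hF with hK₂
  -- reduction: it is enough to cover `K₂` by a finset of at most four elements
  suffices hcov : ∃ s : Finset (Sz F m), s.card ≤ 4 ∧ ∀ g ∈ K₂, g ∈ s by
    obtain ⟨s, hs, hsub⟩ := hcov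
    have h1 : Nat.card ↥K₂ ≤ Nat.card ↥(s : Set (Sz F m)) :=
      Nat.card_mono (Set.toFinite _) (fun g hg => hsub g hg)
    have h3 : Nat.card ↥(s : Set (Sz F m)) = s.card := by
      rw [Nat.card_coe_set_eq, Set.ncard_coe_finset]
    omega
  -- central involutions of `K₂` are unique
  have huniq : ∀ b b' : F, b ≠ 0 → b' ≠ 0 → gT hF 0 b ∈ K₂ → gT hF 0 b' ∈ K₂ → b = b' := by
    intro b b' hb hb' hg hg'
    have e := bsze04_two_invol hF hm hU hg.1 (gT_zero_ne_one hF hb) (gT_zero_sq hF b) hg'.1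
      (gT_zero_ne_one hF hb') (gT_zero_sq hF b') (by rw [gT_mul, gT_mul]; simp only [add_zero, mul_zero]; rw [add_comm])
    exact (gT_injective hF e).2
  -- squares
  have hsq : ∀ a b : F, gT hF a b ∈ K₂ → gT hF 0 (szθ m a * a) ∈ K₂ := by
    intro a b hg
    have := K₂.mul_mem hg hg
    rwa [gT_sq] at this
  -- same first coordinate
  have hsame : ∀ a b b' : F, gT hF a b ∈ K₂ → gT hF a b' ∈ K₂ → gT hF 0 (b + b') ∈ K₂ := by
    intro a b b' hg hg'
    have h3 := K₂.mul_mem hg (K₂.inv_mem hg')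
    rw [gT_inv, gT_mul] at h3
    have e1 : a + a = 0 := by linear_combination a * h2
    have e2 : b + (b' + a * szθ m a) + szθ m a * a = b + b' := by linear_combination (a * szθ m a) * h2
    rwa [e1, e2] at h3
  by_cases hex : ∃ bs : F, bs ≠ 0 ∧ gT hF 0 bs ∈ K₂
  · obtain ⟨bs, hbs, hz⟩ := hex
    have hcen : ∀ b : F, gT hF 0 b ∈ K₂ → b = 0 ∨ b = bs := by
      intro b hb
      by_cases hb0 : b = 0
      · exact Or.inl hb0
      · exact Or.inr (huniq b bs hb0 hbs hb hz)
    by_cases hex2 : ∃ a₀ b₁ : F, a₀ ≠ 0 ∧ gT hF a₀ b₁ ∈ K₂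
    · obtain ⟨a₀, b₁, ha₀, hg₀⟩ := hex2
      refine ⟨{1, gT hF 0 bs, gT hF a₀ b₁, gT hF a₀ (b₁ + bs)}, Finset.card_le_four, ?_⟩
      intro g hg
      obtain ⟨a, b, rfl⟩ := (mem_Qs hF).mp hg.2
      simp only [Finset.mem_insert, Finset.mem_singleton]
      by_cases ha : a = 0
      · subst ha
        rcases hcen b hg with h | h
        · left; rw [h, gT_zero]
        · right; left; rw [h]
      · have hn1 : szθ m a * a ≠ 0 := mul_ne_zero (szθ_ne_zero m ha) ha
        have hn2 : szθ m a₀ * a₀ ≠ 0 := mul_ne_zero (szθ_ne_zero m ha₀) ha₀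
        have e1 : szθ m a * a = szθ m a₀ * a₀ :=
          huniq _ _ hn1 hn2 (hsq a b hg) (hsq a₀ b₁ hg₀)
        have e2 : a = a₀ := sz_norm_inj hF (by rw [mul_comm, e1, mul_comm])
        subst e2
        rcases hcen _ (hsame a b b₁ hg hg₀) with h | h
        · right; right; left
          have : b = b₁ := by linear_combination h - b₁ * h2
          rw [this]
        · right; right; right
          have : b = b₁ + bs := by linear_combination h - b₁ * h2
          rw [this]
    · refine ⟨{1, gT hF 0 bs}, le_trans Finset.card_le_two (by norm_num), ?_⟩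
      intro g hg
      obtain ⟨a, b, rfl⟩ := (mem_Qs hF).mp hg.2
      simp only [Finset.mem_insert, Finset.mem_singleton]
      have ha : a = 0 := by
        by_contra ha
        exact hex2 ⟨a, b, ha, hg⟩
      subst ha
      rcases hcen b hg with h | h
      · left; rw [h, gT_zero]
      · right; rw [h]
  · refine ⟨{1}, by simp, ?_⟩
    intro g hg
    obtain ⟨a, b, rfl⟩ := (mem_Qs hF).mp hg.2
    simp only [Finset.mem_singleton]
    have ha : a = 0 := by
      by_contra ha
      exact hex ⟨_, mul_ne_zero (szθ_ne_zero m ha) ha, hsq a b hg⟩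
    subst ha
    have hb : b = 0 := by
      by_contra hb
      exact hex ⟨b, hb, hg⟩
    rw [hb, gT_zero]

end Cfsg.Agent.Lib.helper3.BSZ
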