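import Mathlib
import Cfsg.Agent.Lib.helper7.BD.CharDefs
import Cfsg.Agent.Lib.helper7.KleinDef8
import Cfsg.Agent.Lib.Helper25.ThirdMainPair
import Cfsg.Agent.Lib.Helper25.CentralDefect
import Cfsg.Agent.Lib.Helper25.PrincipalDefect
import Cfsg.Agent.Lib.Helper25.CharLinear

/-! Project BD, piece KDN : the subsection count of the principal block at an element of order `p`,
for a Sylow `p`-subgroup of order `p`. -/

set_option autoImplicit false
set_option linter.unusedVariables false
set_option linter.unusedSectionVars false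
set_option linter.style.haveILetI false

namespace Cfsg.Agent.Lib.helper7.BD

open Cfsg.Agent.Lib.helper7

universe u

section chars
variable {G : Type u} [Group G] [Fintype G]

/-- a central subgroup of order `p` of a group whose order is not divisible by `p ^ 2` is a Sylow
`p`-subgroup -/
theorem bdkdn_sylow {C : Type*} [Group C] [Finite C] (p : ℕ) [Fact p.Prime] (D : Subgroup C)
    (hD : Nat.card D = p) (hC : ¬ p ^ 2 ∣ Nat.card C) : ∃ S : Sylow p C, (S : Subgroup C) = D := by
  have hp := (Fact.out : p.Prime)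
  have hDp : IsPGroup p D := IsPGroup.of_card (n := 1) (by rw [hD, pow_one])
  obtain ⟨S, hS⟩ := hDp.exists_le_sylow
  refine ⟨S, ?_⟩
  symm
  apply Subgroup.eq_of_le_of_card_ge hS
  have h1 : Nat.card (S : Subgroup C) = p ^ (Nat.card C).factorization p := S.card_eq_multiplicity
  have h2 : (Nat.card C).factorization p ≤ 1 := by
    by_contra h
    push_neg at h
    apply hC
    have h3 : p ^ 2 ∣ p ^ (Nat.card C).factorization p := pow_dvd_pow p h
    exact h3.trans (Nat.ordProj_dvd _ _)
  rw [h1, hD]
  calc p ^ (Nat.card C).factorization p ≤ p ^ 1 := Nat.pow_le_pow_right hp.pos h2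
    _ = p := pow_one p

/-- KDN : the subsection count of the principal block at an element of order `p` is `1` -/
theorem kd_n_principal_eq_one (p : ℕ) [Fact p.Prime] (M : Ideal Cfsg.AlgInt) (hM : Cfsg.IsPModular p M)
    (P : Sylow p G) (hP : Nat.card P = p) (x : G) (hx : orderOf x = p) :
    h7_kd_n p M (Cfsg.principalBlock M G) x = 1 := by
  classical
  have hp := (Fact.out : p.Prime)
  have hx' : ∃ k : ℕ, orderOf x = p ^ k := ⟨1, by rw [hx, pow_one]⟩
  rw [h7_kd_n_eq p M hM (Cfsg.principalBlock M G) x hx']
  have hQ : IsPGroup p (Subgroup.zpowers x) := h7_kd_isPGroup_zpowers p x hx'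
  have hset : {f : Set (Cfsg.IrrCharacter (Subgroup.centralizer (Subgroup.zpowers x : Set G))) |
      Cfsg.IsBrauerPairOf p M (Cfsg.principalBlock M G) (Subgroup.zpowers x) f} =
      {Cfsg.principalBlock M (Subgroup.centralizer (Subgroup.zpowers x : Set G))} := by
    ext f
    simp only [Set.mem_setOf_eq, Set.mem_singleton_iff]
    constructor
    · intro hf
      exact (Cfsg.Agent.Lib.Helper25.tp_main p M hM _ hQ f hf.1.2).1 hf
    · intro hf
      rw [hf]
      exact (Cfsg.Agent.Lib.Helper25.tp_main p M hM _ hQ _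
        ⟨Cfsg.Agent.Lib.Helper25.trivIrr _, rfl⟩).2 rfl
  rw [hset, finsum_mem_singleton]
  -- the block rank of the principal block of the centraliser is one
  have hxC : x ∈ Subgroup.centralizer (Subgroup.zpowers x : Set G) := by
    rw [Subgroup.mem_centralizer_iff]
    intro y hy
    obtain ⟨k, rfl⟩ := Subgroup.mem_zpowers_iff.1 hy
    exact ((Commute.refl x).zpow_left k).eq
  set C' := Subgroup.centralizer (Subgroup.zpowers x : Set G) with hC'
  set x' : ↥C' := ⟨x, hxC⟩ with hx'def
  have hordx' : orderOf x' = p := by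
    rw [← hx]
    exact (Subgroup.orderOf_mk x hxC)
  have hDcard : Nat.card (Subgroup.zpowers x') = p := by rw [Nat.card_zpowers, hordx']
  have hGp : ¬ p ^ 2 ∣ Nat.card G := by
    intro h
    have h1 : Nat.card (P : Subgroup G) = p ^ (Nat.card G).factorization p := P.card_eq_multiplicity
    have h2 : 2 ≤ (Nat.card G).factorization p :=
      (hp.pow_dvd_iff_le_factorization Nat.card_pos.ne').1 h
    have h3 : p ^ 2 ≤ p ^ (Nat.card G).factorization p := Nat.pow_le_pow_right hp.pos h2
    have hP' : Nat.card (P : Subgroup G) = p := hP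
    rw [← h1, hP'] at h3
    have : p * p ≤ p := by rw [← pow_two]; exact h3
    have h4 := hp.two_le
    nlinarith
  have hCp : ¬ p ^ 2 ∣ Nat.card ↥C' := fun h => hGp (h.trans (Subgroup.card_subgroup_dvd_card C'))
  obtain ⟨S, hS⟩ := bdkdn_sylow p (Subgroup.zpowers x') hDcard hCp
  have hdef : Cfsg.IsDefectGroup p M (Cfsg.principalBlock M ↥C') (Subgroup.zpowers x') :=
    (Cfsg.Agent.Lib.Helper25.pb_main p M hM (Subgroup.zpowers x')).2 ⟨S, hS⟩
  have hcent : Subgroup.zpowers x' ≤ Subgroup.center ↥C' := by
    intro y hy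
    obtain ⟨k, rfl⟩ := Subgroup.mem_zpowers_iff.1 hy
    rw [Subgroup.mem_center_iff]
    intro g
    have hg : g * x' = x' * g := by
      apply Subtype.ext
      have := (Subgroup.mem_centralizer_iff.1 g.2) x (Subgroup.mem_zpowers x)
      show (g : G) * x = x * (g : G)
      exact this.symm
    exact ((show Commute g x' from hg).zpow_right k).eq
  exact Cfsg.Agent.Lib.Helper25.cd_main p M hM (Cfsg.principalBlock M ↥C')
    ⟨Cfsg.Agent.Lib.Helper25.trivIrr _, rfl⟩ (Subgroup.zpowers x') hdef hcent

end chars

end Cfsg.Agent.Lib.helper7.BD
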