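import Mathlib
import Cfsg.Agent.Lib.helper7.R1.Defs
import Cfsg.Agent.Lib.helper6.PermChar
import Cfsg.Prelude.Def_BrauerPairs
import Cfsg.Prelude.Def_BlockRank

set_option autoImplicit false

namespace Cfsg.Agent.Lib.Helper13.R1

open Cfsg.Agent.Lib.helper7 Cfsg.Agent.Lib.helper7.Br
open scoped ComplexConjugate

section bridge

variable {G : Type*} [Group G] [Fintype G]
variable {M : Ideal Cfsg.AlgInt}

/-- INT : the average of a character over a coset `s P` of a subgroup centralized by `s` is an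
algebraic integer (it is the trace of `ρ(s)` on the `P`-fixed points). -/
theorem avg_isIntegral (χ : Cfsg.IrrCharacter G) (s : G) (P : Subgroup G)
    (hP : ∀ u ∈ P, Commute s u) :
    IsIntegral ℤ ((Nat.card P : ℂ)⁻¹ * ∑ᶠ u : P, (χ : G → ℂ) (s * (u : G))) := by
  classical
  obtain ⟨n, ρ, -, hχ⟩ := χ.2
  let τ : Representation ℂ ↥P (Fin n → ℂ) := MonoidHom.comp ρ P.subtype
  have hτ : ∀ u : ↥P, τ u = ρ (u : G) := fun u => rfl
  have hAint : IsIntegral ℤ (ρ s) := by
    apply IsIntegral.of_pow (orderOf_pos s)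
    rw [← map_pow, pow_orderOf_eq_one, map_one]
    exact isIntegral_one
  have hcomm : ∀ u : ↥P, ρ s * τ u = τ u * ρ s := by
    intro u
    rw [hτ, ← map_mul, ← map_mul, (hP u u.2).eq]
  have h1 := Cfsg.Agent.Lib.helper6.PermChar.isIntegral_trace_mul_proj (ρ s)
    (Cfsg.Agent.Lib.helper6.PermChar.avg τ) hAint
    (Cfsg.Agent.Lib.helper6.PermChar.comm_avg τ (ρ s) hcomm)
    (Cfsg.Agent.Lib.helper6.PermChar.avg_mul_avg τ)
  rw [Cfsg.Agent.Lib.helper6.PermChar.trace_mul_avg] at h1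
  have h2 : ∀ u : ↥P, LinearMap.trace ℂ (Fin n → ℂ) (ρ s * τ u) = (χ : G → ℂ) (s * (u : G)) := by
    intro u
    rw [hτ, ← map_mul, ← hχ]
    rfl
  simp only [h2] at h1
  rw [finsum_eq_sum_of_fintype, Nat.card_eq_fintype_card]
  exact h1

end bridge

end Cfsg.Agent.Lib.Helper13.R1
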