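import Mathlib
import Cfsg.Agent.Lib.helper7.R1.Defs
import Cfsg.Agent.Lib.helper7.Q8Cent
import Cfsg.Agent.Lib.helper7.BlockHeightZero
import Cfsg.Agent.Lib.helper7.Rob1
import Cfsg.Prelude.Def_BrauerPairs
import Cfsg.Prelude.Def_BlockRank

/-!
Project R1 (S4648), piece SPAN: a class function with values in the residue field which does not
see `p`-parts is a combination of the reductions of the irreducible characters.
-/

set_option autoImplicit false

namespace Cfsg.Agent.Lib.Helper13.R1

open Cfsg.Agent.Lib.helper7 Cfsg.Agent.Lib.helper7.Br Cfsg.Agent.Lib.helper7.R1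
open scoped ComplexConjugate

section bridge

variable {G : Type*} [Group G] [Fintype G]
variable {M : Ideal Cfsg.AlgInt}

/-- the value of an irreducible character is a local integer -/
theorem span_irr_mem (hPr : M.IsPrime) (χ : Cfsg.IrrCharacter G) (g : G) :
    Cfsg.MemLocalRing M ((χ : G → ℂ) g) :=
  h7_memLocalRing_of_isIntegral hPr (Cfsg.Agent.Lib.helper2.irr_integral χ g)

/-- the reduction of an irreducible character does not see `p`-parts -/
theorem span_red_pmul {p : ℕ} [Fact p.Prime] (hM : Cfsg.IsPModular p M)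
    (χ : Cfsg.IrrCharacter G) (x y : G) (hc : Commute x y)
    (hx : ∃ k : ℕ, orderOf x = p ^ k) (hy : ¬ p ∣ orderOf y) :
    redFun hM.2.1.isPrime (χ : G → ℂ) (x * y) = redFun hM.2.1.isPrime (χ : G → ℂ) y := by
  rw [redFun_apply, redFun_apply,
    h7_res_eq_iff hM.2.1.isPrime (span_irr_mem hM.2.1.isPrime χ _)
      (span_irr_mem hM.2.1.isPrime χ _)]
  exact h7_char_pmul_congr hM (h7_irr_isCharacter χ.2) x y hc hx hy

open Classical in
/-- the statement on the `p`-regular elements -/
theorem span_regular {p : ℕ} [Fact p.Prime] (hM : Cfsg.IsPModular p M)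
    (hdel : ∀ s : G, Cfsg.IsPRegular p s →
      ∃ c : Cfsg.IrrCharacter G → ℂ, (∀ χ, Cfsg.MemLocalRing M (c χ)) ∧
        ∀ t : G, Cfsg.IsPRegular p t →
          ∑ᶠ χ : Cfsg.IrrCharacter G, c χ * (χ : G → ℂ) t = if IsConj s t then 1 else 0)
    (φ : G → h7_resRing M hM.2.1.isPrime) (hφc : ∀ g h : G, φ (h * g * h⁻¹) = φ g) :
    ∃ c : Cfsg.IrrCharacter G → h7_resRing M hM.2.1.isPrime, ∀ t : G, Cfsg.IsPRegular p t →
      φ t = ∑ᶠ χ : Cfsg.IrrCharacter G, c χ * redFun hM.2.1.isPrime (χ : G → ℂ) t := by
  have hPr := hM.2.1.isPrime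
  have : Fintype (Cfsg.IrrCharacter G) := Fintype.ofFinite _
  choose cs hcs1 hcs2 using hdel
  -- class function: conjugate elements have the same value
  have hconj : ∀ a b : G, IsConj a b → φ a = φ b := by
    intro a b hab
    obtain ⟨u, hu⟩ := isConj_iff.mp hab
    rw [← hu, hφc]
  have hreg : ∀ a b : G, IsConj a b → Cfsg.IsPRegular p a → Cfsg.IsPRegular p b := by
    intro a b hab ha
    obtain ⟨u, hu⟩ := isConj_iff.mp hab
    unfold Cfsg.IsPRegular at ha ⊢
    rw [← hu]
    have : orderOf (u * a * u⁻¹) = orderOf a := by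
      have := orderOf_injective (MulAut.conj u).toMonoidHom (MulAut.conj u).injective a
      simpa using this
    rwa [this]
  refine ⟨fun χ => ∑ C : ConjClasses G,
    if hC : Cfsg.IsPRegular p (Quotient.out C) then
      φ (Quotient.out C) * h7_res M hM.2.1.isPrime (cs (Quotient.out C) hC χ) else 0, ?_⟩
  intro t ht
  rw [finsum_eq_sum_of_fintype]
  simp only [Finset.sum_mul]
  rw [Finset.sum_comm]
  -- only the class of `t` contributes
  have hterm : ∀ C : ConjClasses G,
      (∑ χ : Cfsg.IrrCharacter G,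
        (if hC : Cfsg.IsPRegular p (Quotient.out C) then
          φ (Quotient.out C) * h7_res M hM.2.1.isPrime (cs (Quotient.out C) hC χ) else 0) *
          redFun hM.2.1.isPrime (χ : G → ℂ) t) =
      if C = ConjClasses.mk t then φ t else 0 := by
    intro C
    by_cases hC : Cfsg.IsPRegular p (Quotient.out C)
    · simp only [dif_pos hC]
      have h1 := hcs2 (Quotient.out C) hC t ht
      rw [finsum_eq_sum_of_fintype] at h1
      have h2 : h7_res M hM.2.1.isPrime
          (∑ χ : Cfsg.IrrCharacter G, cs (Quotient.out C) hC χ * (χ : G → ℂ) t) =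
          ∑ χ : Cfsg.IrrCharacter G, h7_res M hM.2.1.isPrime (cs (Quotient.out C) hC χ) *
            redFun hM.2.1.isPrime (χ : G → ℂ) t := by
        rw [h7_res_sum hM.2.1.isPrime]
        · refine Finset.sum_congr rfl fun χ _ => ?_
          rw [h7_res_mul hM.2.1.isPrime (hcs1 _ hC χ) (span_irr_mem hM.2.1.isPrime χ t),
            redFun_apply]
        · intro χ _
          exact h7_memLocalRing_mul hM.2.1.isPrime (hcs1 _ hC χ)
            (span_irr_mem hM.2.1.isPrime χ t)
      have h3 : (∑ χ : Cfsg.IrrCharacter G,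
          φ (Quotient.out C) * h7_res M hM.2.1.isPrime (cs (Quotient.out C) hC χ) *
            redFun hM.2.1.isPrime (χ : G → ℂ) t) =
          φ (Quotient.out C) * h7_res M hM.2.1.isPrime
            (∑ χ : Cfsg.IrrCharacter G, cs (Quotient.out C) hC χ * (χ : G → ℂ) t) := by
        rw [h2, Finset.mul_sum]
        refine Finset.sum_congr rfl fun χ _ => ?_
        rw [mul_assoc]
      rw [h3, h1]
      by_cases hCt : C = ConjClasses.mk t
      · have hcj : IsConj (Quotient.out C) t := by
          rw [← ConjClasses.mk_eq_mk_iff_isConj, ← hCt]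
          exact Quotient.out_eq C
        rw [if_pos hcj, if_pos hCt, h7_res_one, mul_one]
        exact hconj _ _ hcj
      · have hcj : ¬ IsConj (Quotient.out C) t := by
          intro h
          apply hCt
          rw [← ConjClasses.mk_eq_mk_iff_isConj] at h
          rw [← h]
          exact (Quotient.out_eq C).symm
        rw [if_neg hcj, if_neg hCt, h7_res_zero, mul_zero]
    · simp only [dif_neg hC, zero_mul, Finset.sum_const_zero]
      have hCt : C ≠ ConjClasses.mk t := by
        intro hCt
        apply hC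
        have hcj : IsConj t (Quotient.out C) := by
          rw [← ConjClasses.mk_eq_mk_iff_isConj, ← hCt]
          exact (Quotient.out_eq C).symm
        exact hreg _ _ hcj ht
      rw [if_neg hCt]
  rw [Finset.sum_congr rfl fun C _ => hterm C]
  rw [Finset.sum_ite_eq' Finset.univ (ConjClasses.mk t) fun _ => φ t, if_pos (Finset.mem_univ _)]

open Classical in
/-- SPAN : a class function with values in `F` which does not see `p`-parts is a combination of the
reductions of the irreducible characters (uses the Kronecker delta combinations of DEL). -/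
theorem classfn_mem_span_red {p : ℕ} [Fact p.Prime] (hM : Cfsg.IsPModular p M)
    (hdel : ∀ s : G, Cfsg.IsPRegular p s →
      ∃ c : Cfsg.IrrCharacter G → ℂ, (∀ χ, Cfsg.MemLocalRing M (c χ)) ∧
        ∀ t : G, Cfsg.IsPRegular p t →
          ∑ᶠ χ : Cfsg.IrrCharacter G, c χ * (χ : G → ℂ) t = if IsConj s t then 1 else 0)
    (φ : G → h7_resRing M hM.2.1.isPrime) (hφc : ∀ g h : G, φ (h * g * h⁻¹) = φ g)
    (hφp : ∀ x y : G, Commute x y → (∃ k : ℕ, orderOf x = p ^ k) → ¬ p ∣ orderOf y →
      φ (x * y) = φ y) :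
    ∃ c : Cfsg.IrrCharacter G → h7_resRing M hM.2.1.isPrime, ∀ g : G,
      φ g = ∑ᶠ χ : Cfsg.IrrCharacter G, c χ * redFun hM.2.1.isPrime (χ : G → ℂ) g := by
  obtain ⟨c, hc⟩ := span_regular hM hdel φ hφc
  refine ⟨c, fun g => ?_⟩
  obtain ⟨x, y, hxy, hcomm, hx, hy⟩ := h7_exists_isPPart p g
  rw [← hxy, hφp x y hcomm hx hy, hc y hy]
  refine finsum_congr fun χ => ?_
  rw [span_red_pmul hM χ x y hcomm hx hy]

end bridge

end Cfsg.Agent.Lib.Helper13.R1
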