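import Mathlib
import Cfsg.Agent.Lib.helper7.BD.Defs

/-! Project BD, piece QUOT : the quotient by a maximal subrepresentation. -/

set_option autoImplicit false
set_option linter.unusedVariables false
set_option linter.unusedSectionVars false

namespace Cfsg.Agent.Lib.helper7.BD

universe u v w

section B
variable {F : Type*} [Field F] {G : Type u} [Group G] [Fintype G]

/-- the representation on the quotient by a subrepresentation -/
def bdquot_rep {I : Type v} [AddCommGroup I] [Module F I] (ρ : Representation F G I)
    (J : Subrepresentation ρ) : Representation F G (I ⧸ J.toSubmodule) where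
  toFun g := Submodule.mapQ J.toSubmodule J.toSubmodule (ρ g)
    (fun v hv => J.apply_mem_toSubmodule g hv)
  map_one' := by
    apply Submodule.linearMap_qext
    ext v
    simp
  map_mul' g h := by
    apply Submodule.linearMap_qext
    ext v
    simp

theorem bdquot_rep_mk {I : Type v} [AddCommGroup I] [Module F I] (ρ : Representation F G I)
    (J : Subrepresentation ρ) (g : G) (v : I) :
    bdquot_rep ρ J g (Submodule.Quotient.mk v) = Submodule.Quotient.mk (ρ g v) := rfl

/-- QUOT : the quotient by a maximal subrepresentation is an irreducible representation. -/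
theorem exists_quotient_rep {I : Type v} [AddCommGroup I] [Module F I] [FiniteDimensional F I]
    (ρ : Representation F G I) (J : Subrepresentation ρ) (hJ : IsCoatom J) :
    ∃ (V : Type v) (_ : AddCommGroup V) (_ : Module F V) (_ : FiniteDimensional F V)
      (ρV : Representation F G V) (q : I →ₗ[F] V), ρV.IsIrreducible ∧ IsHom ρ ρV q ∧
      Function.Surjective q ∧ LinearMap.ker q = J.toSubmodule := by
  refine ⟨I ⧸ J.toSubmodule, inferInstance, inferInstance, inferInstance, bdquot_rep ρ J,
    J.toSubmodule.mkQ, ?_, ?_, Submodule.mkQ_surjective _, Submodule.ker_mkQ _⟩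
  · -- irreducible
    have hne : ∃ v : I, v ∉ J.toSubmodule := by
      by_contra h
      push_neg at h
      apply hJ.1
      apply Subrepresentation.toSubmodule_injective
      show J.toSubmodule = ⊤
      exact eq_top_iff.2 (fun v _ => h v)
    obtain ⟨v₀, hv₀⟩ := hne
    refine { exists_pair_ne := ⟨⊥, ⊤, ?_⟩, eq_bot_or_eq_top := ?_ }
    · intro h
      have h1 : (⊥ : Subrepresentation (bdquot_rep ρ J)).toSubmodule =
          (⊤ : Subrepresentation (bdquot_rep ρ J)).toSubmodule := by rw [h]
      have h2 : (Submodule.Quotient.mk v₀ : I ⧸ J.toSubmodule) ∈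
          (⊤ : Subrepresentation (bdquot_rep ρ J)).toSubmodule := Submodule.mem_top
      rw [← h1] at h2
      have h3 : (Submodule.Quotient.mk v₀ : I ⧸ J.toSubmodule) = 0 := (Submodule.mem_bot F).1 h2
      exact hv₀ ((Submodule.Quotient.mk_eq_zero _).1 h3)
    · intro a
      let b : Subrepresentation ρ :=
        { toSubmodule := a.toSubmodule.comap J.toSubmodule.mkQ
          apply_mem_toSubmodule := by
            intro g v hv
            rw [Submodule.mem_comap] at hv ⊢
            exact a.apply_mem_toSubmodule g hv }
      have hJb : J ≤ b := by
        intro v hv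
        show J.toSubmodule.mkQ v ∈ a.toSubmodule
        have : J.toSubmodule.mkQ v = 0 := (Submodule.Quotient.mk_eq_zero _).2 hv
        rw [this]
        exact a.toSubmodule.zero_mem
      rcases eq_or_lt_of_le hJb with h | h
      · left
        apply Subrepresentation.toSubmodule_injective
        show a.toSubmodule = ⊥
        rw [eq_bot_iff]
        intro w hw
        obtain ⟨v, rfl⟩ := Submodule.mkQ_surjective J.toSubmodule w
        have hvb : v ∈ b := hw
        rw [← h] at hvb
        exact (Submodule.mem_bot F).2 ((Submodule.Quotient.mk_eq_zero _).2 hvb)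
      · right
        have hb := hJ.2 b h
        apply Subrepresentation.toSubmodule_injective
        show a.toSubmodule = ⊤
        rw [eq_top_iff]
        intro w _
        obtain ⟨v, rfl⟩ := Submodule.mkQ_surjective J.toSubmodule w
        have hvb : v ∈ b := by rw [hb]; exact Submodule.mem_top
        exact hvb
  · rw [isHom_iff]
    intro g v
    rfl

end B

end Cfsg.Agent.Lib.helper7.BD
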