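import Mathlib
import Cfsg.Agent.Lib.helper7.BD.Defs

/-! Project BD, piece SS : a nonzero linear map does not kill every simple subrepresentation
(Maschke). -/

set_option autoImplicit false
set_option linter.unusedVariables false
set_option linter.unusedSectionVars false

namespace Cfsg.Agent.Lib.helper7.BD

universe u v w

section D
variable {F : Type*} [Field F]

theorem bdss_lt {L : Type u} [Group L] {Y : Type v} [AddCommGroup Y] [Module F Y]
    [FiniteDimensional F Y] {τ : Representation F L Y} {A B : Subrepresentation τ} (h : A < B) :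
    Module.finrank F ↥A.toSubmodule < Module.finrank F ↥B.toSubmodule := by
  apply Submodule.finrank_lt_finrank_of_lt
  refine lt_of_le_of_ne (fun x hx => h.le hx) ?_
  intro he
  exact h.ne (Subrepresentation.toSubmodule_injective he)

theorem bdss_aux {L : Type u} [Group L] [Fintype L] (hL : ((Fintype.card L : ℕ) : F) ≠ 0)
    {Y : Type v} [AddCommGroup Y] [Module F Y] [FiniteDimensional F Y] (τ : Representation F L Y)
    {Z : Type w} [AddCommGroup Z] [Module F Z] (T : Y →ₗ[F] Z) :
    ∀ n : ℕ, ∀ S : Subrepresentation τ, Module.finrank F ↥S.toSubmodule ≤ n →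
      (∃ s ∈ S.toSubmodule, T s ≠ 0) →
      ∃ S₀ : Subrepresentation τ, IsAtom S₀ ∧ ∃ s ∈ S₀.toSubmodule, T s ≠ 0 := by
  haveI : NeZero ((Nat.card L : ℕ) : F) := ⟨by rwa [Nat.card_eq_fintype_card]⟩
  intro n
  induction n with
  | zero =>
    intro S hS hP
    obtain ⟨s, hs, hTs⟩ := hP
    exfalso
    have h0 : S.toSubmodule = ⊥ := Submodule.finrank_eq_zero.1 (Nat.le_zero.1 hS)
    rw [h0] at hs
    rw [(Submodule.mem_bot F).1 hs, map_zero] at hTs
    exact hTs rfl
  | succ n ih =>
    intro S hS hP
    obtain ⟨s, hs, hTs⟩ := hP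
    by_cases hat : IsAtom S
    · exact ⟨S, hat, s, hs, hTs⟩
    · have hSne : S ≠ ⊥ := by
        rintro rfl
        have h0 : s = 0 := (Submodule.mem_bot F).1 hs
        rw [h0, map_zero] at hTs
        exact hTs rfl
      have hex : ∃ S' : Subrepresentation τ, S' < S ∧ S' ≠ ⊥ := by
        by_contra h
        push_neg at h
        exact hat ⟨hSne, fun b hb => h b hb⟩
      obtain ⟨S', hS'lt, hS'ne⟩ := hex
      obtain ⟨C, hC⟩ := exists_isCompl S'
      have hsup : S'.toSubmodule ⊔ C.toSubmodule = ⊤ := by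
        have := hC.sup_eq_top
        have h2 : (S' ⊔ C).toSubmodule = (⊤ : Subrepresentation τ).toSubmodule := by rw [this]
        exact h2
      have hinf : S'.toSubmodule ⊓ C.toSubmodule = ⊥ := by
        have := hC.inf_eq_bot
        have h2 : (S' ⊓ C).toSubmodule = (⊥ : Subrepresentation τ).toSubmodule := by rw [this]
        exact h2
      have hsmem : s ∈ S'.toSubmodule ⊔ C.toSubmodule := by rw [hsup]; exact Submodule.mem_top
      obtain ⟨a, ha, c, hc, hac⟩ := Submodule.mem_sup.1 hsmem
      have haS : a ∈ S.toSubmodule := hS'lt.le ha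
      have hcS : c ∈ S.toSubmodule := by
        have : c = s - a := by rw [← hac]; abel
        rw [this]
        exact S.toSubmodule.sub_mem hs haS
      have hlt' : C ⊓ S < S := by
        refine lt_of_le_of_ne inf_le_right ?_
        intro he
        apply hS'ne
        have hSC : S ≤ C := by rw [← he]; exact inf_le_left
        have : S' ≤ S' ⊓ C := le_inf le_rfl (hS'lt.le.trans hSC)
        rw [hC.inf_eq_bot] at this
        exact le_bot_iff.1 this
      have hT : T a ≠ 0 ∨ T c ≠ 0 := by
        by_contra h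
        push_neg at h
        apply hTs
        rw [← hac, map_add, h.1, h.2, add_zero]
      rcases hT with hTa | hTc
      · exact ih S' (by have := bdss_lt hS'lt; omega) ⟨a, ha, hTa⟩
      · exact ih (C ⊓ S) (by have := bdss_lt hlt'; omega) ⟨c, ⟨hc, hcS⟩, hTc⟩

/-- SS (Maschke) -/
theorem exists_atom_not_killed {L : Type u} [Group L] [Fintype L] (hL : ((Fintype.card L : ℕ) : F) ≠ 0)
    {Y : Type v} [AddCommGroup Y] [Module F Y] [FiniteDimensional F Y] (τ : Representation F L Y)
    {Z : Type w} [AddCommGroup Z] [Module F Z] (T : Y →ₗ[F] Z) (hT : T ≠ 0) :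
    ∃ S₀ : Subrepresentation τ, IsAtom S₀ ∧ ∃ s ∈ S₀.toSubmodule, T s ≠ 0 := by
  have hex : ∃ y : Y, T y ≠ 0 := by
    by_contra h
    push_neg at h
    exact hT (LinearMap.ext h)
  obtain ⟨y, hy⟩ := hex
  exact bdss_aux hL τ T _ ⊤ le_rfl ⟨y, Submodule.mem_top, hy⟩

end D

end Cfsg.Agent.Lib.helper7.BD
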