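import Mathlib
import Cfsg.Agent.Lib.helper7.BD.Defs
import Cfsg.Agent.Lib.Helper13.BDQUOT
import Cfsg.Agent.Lib.Helper13.BDSS

/-! Project BD, piece DESC : descent of a non-projective `N`-map to a simple `G`-module. -/

set_option autoImplicit false
set_option linter.unusedVariables false
set_option linter.unusedSectionVars false

namespace Cfsg.Agent.Lib.helper7.BD

universe u v w

section B
variable {F : Type*} [Field F] {G : Type u} [Group G] [Fintype G]

/-- every proper subrepresentation of a finite-dimensional representation lies in a coatom -/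
theorem bddesc_coatom_aux {I : Type v} [AddCommGroup I] [Module F I] [FiniteDimensional F I]
    (ρ : Representation F G I) :
    ∀ k : ℕ, ∀ J : Subrepresentation ρ, J ≠ ⊤ →
      Module.finrank F I - Module.finrank F ↥J.toSubmodule ≤ k →
      ∃ J' : Subrepresentation ρ, IsCoatom J' ∧ J ≤ J' := by
  intro k
  induction k with
  | zero =>
    intro J hJ hk
    exfalso
    apply hJ
    apply Subrepresentation.toSubmodule_injective
    show J.toSubmodule = ⊤
    apply Submodule.eq_top_of_finrank_eq
    have := Submodule.finrank_le J.toSubmodule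
    omega
  | succ k ih =>
    intro J hJ hk
    by_cases hco : IsCoatom J
    · exact ⟨J, hco, le_rfl⟩
    · have hex : ∃ J' : Subrepresentation ρ, J < J' ∧ J' ≠ ⊤ := by
        by_contra h
        push_neg at h
        exact hco ⟨hJ, fun b hb => h b hb⟩
      obtain ⟨J', hlt, hJ'⟩ := hex
      have h1 := bdss_lt hlt
      have h2 := Submodule.finrank_le J'.toSubmodule
      obtain ⟨J'', hJ'', hle⟩ := ih J' hJ' (by omega)
      exact ⟨J'', hJ'', hlt.le.trans hle⟩

theorem bddesc_aux (N : Subgroup G) [Fintype ↥N] {S : Type w} [AddCommGroup S] [Module F S]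
    (σ : Representation F ↥N S) :
    ∀ n : ℕ, ∀ (I : Type v) [AddCommGroup I] [Module F I] [FiniteDimensional F I]
      (ρ : Representation F G I) (ε : I →ₗ[F] S), Module.finrank F I ≤ n →
      IsHom (ρ.comp N.subtype) σ ε → ¬ IsProjHom (ρ.comp N.subtype) σ ε →
      ∃ (V : Type v) (_ : AddCommGroup V) (_ : Module F V) (_ : FiniteDimensional F V)
        (ρV : Representation F G V), ρV.IsIrreducible ∧
        ∃ f : V →ₗ[F] S, IsHom (ρV.comp N.subtype) σ f ∧
          ¬ IsProjHom (ρV.comp N.subtype) σ f := by
  intro n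
  induction n with
  | zero =>
    intro I _ _ _ ρ ε hn hε hnp
    exfalso
    apply hnp
    have h0 : Module.finrank F I = 0 := Nat.le_zero.1 hn
    haveI : Subsingleton I := Module.finrank_zero_iff.1 h0
    have : ε = 0 := LinearMap.ext fun v => by
      rw [Subsingleton.elim v 0, map_zero, LinearMap.zero_apply]
    rw [this]
    exact isProjHom_zero _ _
  | succ n ih =>
    intro I _ _ _ ρ ε hn hε hnp
    -- `I` is not the zero module
    have hI : (⊥ : Subrepresentation ρ) ≠ ⊤ := by
      intro hbt
      apply hnp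
      have hz : ∀ v : I, v = 0 := by
        intro v
        have h1 : v ∈ (⊤ : Subrepresentation ρ).toSubmodule := Submodule.mem_top
        rw [← hbt] at h1
        exact (Submodule.mem_bot F).1 h1
      have : ε = 0 := LinearMap.ext fun v => by
        rw [hz v, map_zero, LinearMap.zero_apply]
      rw [this]
      exact isProjHom_zero _ _
    by_cases hcase : ∃ J : Subrepresentation ρ, J ≠ ⊤ ∧
        ¬ IsProjHom ((J.toRepresentation).comp N.subtype) σ (ε ∘ₗ J.toSubmodule.subtype)
    · obtain ⟨J, hJ, hJnp⟩ := hcase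
      have hlt : Module.finrank F ↥J.toSubmodule < Module.finrank F I := by
        apply Submodule.finrank_lt
        intro h
        exact hJ (Subrepresentation.toSubmodule_injective h)
      refine ih ↥J.toSubmodule J.toRepresentation (ε ∘ₗ J.toSubmodule.subtype) (by omega) ?_ hJnp
      rw [isHom_iff]
      intro m v
      exact hε.apply m (v : I)
    · push_neg at hcase
      obtain ⟨J, hJco, -⟩ := bddesc_coatom_aux ρ _ ⊥ hI le_rfl
      obtain ⟨ψ, hψ⟩ := hcase J hJco.1
      obtain ⟨ψ', hψ'⟩ := LinearMap.exists_extend ψ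
      obtain ⟨V, iV1, iV2, iV3, ρV, q, hirr, hq, hqs, hqk⟩ := exists_quotient_rep ρ J hJco
      refine ⟨V, iV1, iV2, iV3, ρV, hirr, ?_⟩
      -- the `N`-map `h = ε - tr1 ψ'` vanishes on `J`
      have hsub : IsHom ((J.toRepresentation).comp N.subtype) (ρ.comp N.subtype)
          J.toSubmodule.subtype := by
        rw [isHom_iff]
        intro m v
        rfl
      have hh : IsHom (ρ.comp N.subtype) σ (ε - tr1 (ρ.comp N.subtype) σ ψ') :=
        hε.sub (tr1_isHom _ _ _)
      have hvan : ∀ j ∈ J.toSubmodule, (ε - tr1 (ρ.comp N.subtype) σ ψ') j = 0 := by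
        intro j hj
        have h1 := tr1_comp (σ := σ) hsub ψ'
        rw [hψ', ← hψ] at h1
        have h2 := LinearMap.congr_fun h1 ⟨j, hj⟩
        simp only [LinearMap.comp_apply, Submodule.subtype_apply] at h2
        rw [LinearMap.sub_apply, h2, sub_self]
      -- a linear section of `q`
      obtain ⟨s, hs⟩ := LinearMap.exists_rightInverse_of_surjective q (LinearMap.range_eq_top.2 hqs)
      have hsq : ∀ v : I, (ε - tr1 (ρ.comp N.subtype) σ ψ') (s (q v)) =
          (ε - tr1 (ρ.comp N.subtype) σ ψ') v := by
        intro v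
        have h1 : s (q v) - v ∈ J.toSubmodule := by
          rw [← hqk, LinearMap.mem_ker, map_sub]
          have := LinearMap.congr_fun hs (q v)
          simp only [LinearMap.comp_apply, LinearMap.id_apply] at this
          rw [this, sub_self]
        have h2 := hvan _ h1
        rw [map_sub, sub_eq_zero] at h2
        exact h2
      have hfq : ((ε - tr1 (ρ.comp N.subtype) σ ψ') ∘ₗ s) ∘ₗ q =
          ε - tr1 (ρ.comp N.subtype) σ ψ' := LinearMap.ext fun v => hsq v
      have hqN : IsHom (ρ.comp N.subtype) (ρV.comp N.subtype) q := hq.res N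
      refine ⟨(ε - tr1 (ρ.comp N.subtype) σ ψ') ∘ₗ s, ?_, ?_⟩
      · rw [isHom_iff]
        intro m w
        obtain ⟨v, rfl⟩ := hqs w
        have h1 : (ρV.comp N.subtype) m (q v) = q ((ρ.comp N.subtype) m v) := (hqN.apply m v).symm
        rw [h1]
        simp only [LinearMap.comp_apply]
        rw [hsq, hsq]
        exact hh.apply m v
      · rintro ⟨φ, hφ⟩
        apply hnp
        refine ⟨φ ∘ₗ q + ψ', ?_⟩
        rw [tr1_add, ← tr1_comp hqN φ, ← hφ, hfq]
        abel

/-- DESC : from a non-projective `N`-map out of a `G`-module to one out of a simple `G`-module. -/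
theorem exists_simple_of_nonproj (N : Subgroup G) [Fintype ↥N] {I : Type v} [AddCommGroup I] [Module F I]
    [FiniteDimensional F I] (ρ : Representation F G I) {S : Type w} [AddCommGroup S] [Module F S]
    (σ : Representation F ↥N S) (ε : I →ₗ[F] S)
    (hε : IsHom (ρ.comp N.subtype) σ ε) (hnp : ¬ IsProjHom (ρ.comp N.subtype) σ ε) :
    ∃ (V : Type v) (_ : AddCommGroup V) (_ : Module F V) (_ : FiniteDimensional F V)
      (ρV : Representation F G V), ρV.IsIrreducible ∧
      ∃ f : V →ₗ[F] S, IsHom (ρV.comp N.subtype) σ f ∧ ¬ IsProjHom (ρV.comp N.subtype) σ f :=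
  bddesc_aux N σ _ I ρ ε le_rfl hε hnp

end B

end Cfsg.Agent.Lib.helper7.BD
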