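import Mathlib
import Cfsg.Agent.Lib.helper7.BD.Defs
import Cfsg.Agent.Lib.helper7.BD.D1Defs
import Cfsg.Agent.Lib.Helper10.BDCHARS
import Cfsg.Agent.Lib.Helper24.CyclicInertial3
import Cfsg.Agent.S0968

/-!
# Project BD, stage B, piece ROOTU : the canonical character is the only member of `b` trivial on `P`
-/

set_option autoImplicit false
set_option linter.unusedVariables false
set_option linter.unusedSectionVars false
set_option linter.style.haveILetI false

namespace Cfsg.Agent.Lib.helper7.BD

universe u v w

section root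

variable {G : Type u} [Group G] [Fintype G] {M : Ideal Cfsg.AlgInt} {p : ℕ} [Fact p.Prime]
  {P : Sylow p G} {B : Set (Cfsg.IrrCharacter G)}
  {b : Set (Cfsg.IrrCharacter (Subgroup.centralizer ((P : Subgroup G) : Set G)))}
  {θ : Cfsg.IrrCharacter (Subgroup.centralizer ((P : Subgroup G) : Set G))} {T : Subgroup G}

/-- M13 = LOCU : the canonical character is the only member of `b` which is trivial on `P` (from S0968),
and `b` has defect group `P` -/
theorem root_unique (h : RootHyp p M P B b θ T)
    (ξ : Cfsg.IrrCharacter (Subgroup.centralizer ((P : Subgroup G) : Set G))) (hξ : ξ ∈ b)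
    (hξP : ∀ x : Subgroup.centralizer ((P : Subgroup G) : Set G), (x : G) ∈ (P : Subgroup G) →
      (ξ : Subgroup.centralizer ((P : Subgroup G) : Set G) → ℂ) x =
        (ξ : Subgroup.centralizer ((P : Subgroup G) : Set G) → ℂ) 1) : ξ = θ := by
  have hPC : (P : Subgroup G) ≤ Subgroup.centralizer ((P : Subgroup G) : Set G) :=
    bdchars_le_centralizer (P : Subgroup G) h.card_P
  have hPg : IsPGroup p (P : Subgroup G) := P.isPGroup'
  have hD : Cfsg.IsDefectGroup p M b
      ((P : Subgroup G).subgroupOf (Subgroup.centralizer ((P : Subgroup G) : Set G))) :=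
    Cfsg.Agent.Lib.Helper24.ci_defect h.hM B (P : Subgroup G) h.hBP hPg
      (Subgroup.centralizer ((P : Subgroup G) : Set G)) hPC le_rfl b h.hind
  have hP' : IsPGroup p
      ((P : Subgroup G).subgroupOf (Subgroup.centralizer ((P : Subgroup G) : Set G))) :=
    hPg.comap_subtype
  have hG' : (P : Subgroup G).subgroupOf (Subgroup.centralizer ((P : Subgroup G) : Set G)) ⊔
      Subgroup.centralizer
        (((P : Subgroup G).subgroupOf (Subgroup.centralizer ((P : Subgroup G) : Set G)) :
          Subgroup ↥(Subgroup.centralizer ((P : Subgroup G) : Set G))) :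
            Set ↥(Subgroup.centralizer ((P : Subgroup G) : Set G))) = ⊤ := by
    have : Subgroup.centralizer
        (((P : Subgroup G).subgroupOf (Subgroup.centralizer ((P : Subgroup G) : Set G)) :
          Subgroup ↥(Subgroup.centralizer ((P : Subgroup G) : Set G))) :
            Set ↥(Subgroup.centralizer ((P : Subgroup G) : Set G))) = ⊤ := by
      rw [eq_top_iff]
      intro c _
      rw [Subgroup.mem_centralizer_iff]
      intro y hy
      have hy' : (y : G) ∈ (P : Subgroup G) := hy
      have hc := c.2
      rw [Subgroup.mem_centralizer_iff] at hc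
      apply Subtype.ext
      exact hc (y : G) hy'
    rw [this, sup_top_eq]
  obtain ⟨⟨θ', _, huniq⟩, _, _⟩ := Cfsg.Agent.S0968.result p M h.hM
    ((P : Subgroup G).subgroupOf (Subgroup.centralizer ((P : Subgroup G) : Set G))) hP' hG' b
    h.hind.1 hD
  have e1 : ξ = θ' := huniq ξ ⟨hξ, fun x hx => hξP x hx⟩
  have e2 : θ = θ' := huniq θ ⟨h.hθ, fun x hx => h.hθP x hx⟩
  rw [e1, e2]

end root

end Cfsg.Agent.Lib.helper7.BD
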