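import Mathlib
import Cfsg.Agent.Lib.helper7.BD.D1Defs
import Cfsg.Agent.Lib.Helper25.CharOrth

/-!
# Project BD, stage B, wave 2/3, piece CJ : conjugate characters (`cjIrr_mul`, `cjIrr_of_mem_self`,
`cjIrr_injective`), VERBATIM vs Skeleton3
-/

set_option autoImplicit false
set_option linter.unusedVariables false
set_option linter.unusedSectionVars false
set_option linter.style.haveILetI false

namespace Cfsg.Agent.Lib.helper7.BD

open Cfsg.Agent.Lib.helper7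

universe u

section cj

variable {G : Type u} [Group G] (H : Subgroup G)

/-- the value of the conjugate character at `k` is the value of `ξ` at any `k₁` with `k = n k₁ n⁻¹` -/
theorem bd3cj_exists_pre {n : G} (hn : n ∈ Subgroup.normalizer (H : Set G)) (k : ↥H) :
    ∃ k₁ : ↥H, (k : G) = n * (k₁ : G) * n⁻¹ := by
  refine ⟨(H.normalizerMonoidHom ⟨n, hn⟩).symm k, ?_⟩
  have h1 : k = (H.normalizerMonoidHom ⟨n, hn⟩) ((H.normalizerMonoidHom ⟨n, hn⟩).symm k) := by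
    rw [MulEquiv.apply_symm_apply]
  conv_lhs => rw [h1]
  rfl

/-- CJ1 : `ξ ↦ ξ^n` is an action of `N_G(H)` -/
theorem cjIrr_mul {n n' : G} (hn : n ∈ Subgroup.normalizer (H : Set G))
    (hn' : n' ∈ Subgroup.normalizer (H : Set G)) (ξ : Cfsg.IrrCharacter H) :
    cjIrr H (n * n') ξ = cjIrr H n (cjIrr H n' ξ) := by
  apply Subtype.ext
  funext k
  obtain ⟨k₁, hk₁⟩ := bd3cj_exists_pre H hn k
  obtain ⟨k₂, hk₂⟩ := bd3cj_exists_pre H hn' k₁
  have hnn' : n * n' ∈ Subgroup.normalizer (H : Set G) := Subgroup.mul_mem _ hn hn'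
  have hk : (k : G) = (n * n') * (k₂ : G) * (n * n')⁻¹ := by
    rw [hk₁, hk₂]
    group
  rw [cjIrr_conj H hnn' ξ k₂ k hk, cjIrr_conj H hn (cjIrr H n' ξ) k₁ k hk₁,
    cjIrr_conj H hn' ξ k₂ k₁ hk₂]

/-- CJ2 : inner automorphisms act trivially -/
theorem cjIrr_of_mem_self {c : G} (hc : c ∈ H) (ξ : Cfsg.IrrCharacter H) : cjIrr H c ξ = ξ := by
  have hcN : c ∈ Subgroup.normalizer (H : Set G) := Subgroup.le_normalizer hc
  apply Subtype.ext
  funext k
  obtain ⟨k₁, hk₁⟩ := bd3cj_exists_pre H hcN k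
  rw [cjIrr_conj H hcN ξ k₁ k hk₁]
  have h1 : k = (⟨c, hc⟩ : ↥H) * k₁ * (⟨c, hc⟩ : ↥H)⁻¹ := by
    apply Subtype.ext
    rw [hk₁]
    rfl
  rw [h1, Cfsg.Agent.Lib.Helper25.irr_conj_invariant ξ k₁ ⟨c, hc⟩]

/-- CJ3 : conjugation is injective -/
theorem cjIrr_injective {n : G} (hn : n ∈ Subgroup.normalizer (H : Set G)) :
    Function.Injective (cjIrr H n) := by
  intro ξ ξ' h
  have hn' : n⁻¹ ∈ Subgroup.normalizer (H : Set G) := Subgroup.inv_mem _ hn
  have h1 : ∀ ζ : Cfsg.IrrCharacter H, cjIrr H n⁻¹ (cjIrr H n ζ) = ζ := by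
    intro ζ
    rw [← cjIrr_mul H hn' hn ζ, inv_mul_cancel]
    exact cjIrr_of_mem_self H (Subgroup.one_mem H) ζ
  rw [← h1 ξ, ← h1 ξ', h]

end cj

end Cfsg.Agent.Lib.helper7.BD
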