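import Mathlib
import Cfsg.Agent.Lib.helper7.BD.D1Defs
import Cfsg.Agent.Lib.helper7.BD.D1Defs2
import Cfsg.Agent.Lib.Helper24.CyclicInertial3
import Cfsg.Agent.Lib.Helper25.BDTSUB
import Cfsg.Agent.Lib.Helper13.BD3CJ
import Cfsg.Agent.Lib.helper23.BD3CJ4
import Cfsg.Agent.Lib.Helper29.BD4SUMB

/-!
# Project BD, stage B, wave 4 : the values of the members of `B` on the `p`-singular elements of `C`,
with the piece VAL (`root_value_sing`) as an explicit hypothesis `hVAL`

* `bd4val_general` : `|C| χ(c) = ∑_j a_j ∑_{n ∈ N} (r_j)^n (c)` if `m_χ(r_j) - m_χ(θ) = a_j`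
  (from VAL + SUMB + CJ4 + CJ1 + `IsReps.sum`);
* `bd4val_Y_of`, `bd4val_X_of` : the statements of VALY, VALX from it.
-/

set_option autoImplicit false
set_option linter.unusedVariables false
set_option linter.unusedSectionVars false
set_option linter.style.haveILetI false

namespace Cfsg.Agent.Lib.helper7.BD

open Cfsg.Agent.Lib.helper7

universe u


section root

variable {G : Type u} [Group G] [Fintype G] {M : Ideal Cfsg.AlgInt} {p : ℕ} [Fact p.Prime]
  {P : Sylow p G} {B : Set (Cfsg.IrrCharacter G)}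
  {b : Set (Cfsg.IrrCharacter (Subgroup.centralizer ((P : Subgroup G) : Set G)))}
  {θ : Cfsg.IrrCharacter (Subgroup.centralizer ((P : Subgroup G) : Set G))} {T : Subgroup G}

variable [Fintype ↥(Subgroup.centralizer ((P : Subgroup G) : Set G))]
  [Fintype ↥(Subgroup.normalizer ((P : Subgroup G) : Set G))]

/-- the sum of the `N`-conjugates of `ξ` at `c` is invariant under `T` (indeed under `N`) -/
theorem bd4val_A_inv (hTN : T ≤ Subgroup.normalizer ((P : Subgroup G) : Set G))
    (c : ↥(Subgroup.centralizer ((P : Subgroup G) : Set G))) (s : G) (hs : s ∈ T)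
    (ξ : Cfsg.IrrCharacter (Subgroup.centralizer ((P : Subgroup G) : Set G))) :
    ∑ n : ↥(Subgroup.normalizer ((P : Subgroup G) : Set G)),
      (cjIrr (Subgroup.centralizer ((P : Subgroup G) : Set G)) (n : G)
        (cjIrr (Subgroup.centralizer ((P : Subgroup G) : Set G)) s ξ) :
        ↥(Subgroup.centralizer ((P : Subgroup G) : Set G)) → ℂ) c =
    ∑ n : ↥(Subgroup.normalizer ((P : Subgroup G) : Set G)),
      (cjIrr (Subgroup.centralizer ((P : Subgroup G) : Set G)) (n : G) ξ :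
        ↥(Subgroup.centralizer ((P : Subgroup G) : Set G)) → ℂ) c := by
  have hNN := Cfsg.Agent.Lib.Helper24.ci_normalizer_le (P : Subgroup G)
  have hsN := hTN hs
  rw [← Equiv.sum_comp (Equiv.mulRight (⟨s, hsN⟩ :
    ↥(Subgroup.normalizer ((P : Subgroup G) : Set G))))
    (fun n => (cjIrr (Subgroup.centralizer ((P : Subgroup G) : Set G)) (n : G) ξ :
      ↥(Subgroup.centralizer ((P : Subgroup G) : Set G)) → ℂ) c)]
  refine Finset.sum_congr rfl fun n _ => ?_
  rw [Equiv.coe_mulRight]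
  show _ = (cjIrr (Subgroup.centralizer ((P : Subgroup G) : Set G)) ((n : G) * s) ξ :
      ↥(Subgroup.centralizer ((P : Subgroup G) : Set G)) → ℂ) c
  rw [cjIrr_mul _ (hNN n.2) (hNN hsN)]

/-- the sum over the block of the sums of `N`-conjugates vanishes at `p`-singular elements -/
theorem bd4val_A_sum (h : RootHyp p M P B b θ T)
    (c : ↥(Subgroup.centralizer ((P : Subgroup G) : Set G))) (hc : p ∣ orderOf c) :
    ∑ᶠ ξ ∈ b, ∑ n : ↥(Subgroup.normalizer ((P : Subgroup G) : Set G)),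
      (cjIrr (Subgroup.centralizer ((P : Subgroup G) : Set G)) (n : G) ξ :
        ↥(Subgroup.centralizer ((P : Subgroup G) : Set G)) → ℂ) c = 0 := by
  classical
  have hNN := Cfsg.Agent.Lib.Helper24.ci_normalizer_le (P : Subgroup G)
  have hbfin : b.Finite := Set.toFinite b
  rw [finsum_mem_eq_finite_toFinset_sum _ hbfin, Finset.sum_comm]
  apply Finset.sum_eq_zero
  intro n _
  have h1 := root_sum_block_sing h
    (((Subgroup.centralizer ((P : Subgroup G) : Set G)).normalizerMonoidHom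
      ⟨(n : G), hNN n.2⟩).symm c) (by
      rw [MulEquiv.orderOf_eq]
      exact hc)
  rw [finsum_mem_eq_finite_toFinset_sum _ hbfin] at h1
  rw [← h1]
  refine Finset.sum_congr rfl fun ξ _ => ?_
  rw [cjIrr_apply _ (hNN n.2)]

/-- `|T| = |C| e` -/
theorem bd4val_card (hCT : Subgroup.centralizer ((P : Subgroup G) : Set G) ≤ T) :
    (Nat.card T : ℂ) = (Nat.card (Subgroup.centralizer ((P : Subgroup G) : Set G)) : ℂ) *
      (((Subgroup.centralizer ((P : Subgroup G) : Set G)).relIndex T : ℕ) : ℂ) := by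
  have h1 := Subgroup.relIndex_mul_relIndex (⊥ : Subgroup G)
    (Subgroup.centralizer ((P : Subgroup G) : Set G)) T bot_le hCT
  rw [Subgroup.relIndex_bot_left, Subgroup.relIndex_bot_left] at h1
  rw [← h1]
  push_cast
  ring

/-- the values on the `p`-singular elements of `C`, for a general multiplicity pattern `a` -/
theorem bd4val_general (h : RootHyp p M P B b θ T) {t : ℕ}
    (r : Fin t → Cfsg.IrrCharacter (Subgroup.centralizer ((P : Subgroup G) : Set G)))
    (hr : IsReps P b θ T ((Subgroup.centralizer ((P : Subgroup G) : Set G)).relIndex T) t r)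
    (χ : Cfsg.IrrCharacter G) (hχ : χ ∈ B) (a : Fin t → ℂ)
    (hmul : ∀ j',
      Cfsg.classInner (r j' : ↥(Subgroup.centralizer ((P : Subgroup G) : Set G)) → ℂ)
          (fun c : ↥(Subgroup.centralizer ((P : Subgroup G) : Set G)) => (χ : G → ℂ) (c : G)) -
        Cfsg.classInner (θ : ↥(Subgroup.centralizer ((P : Subgroup G) : Set G)) → ℂ)
          (fun c : ↥(Subgroup.centralizer ((P : Subgroup G) : Set G)) => (χ : G → ℂ) (c : G)) = a j')
    (c : ↥(Subgroup.centralizer ((P : Subgroup G) : Set G))) (hc : p ∣ orderOf c)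
    (hVAL : (Nat.card T : ℂ) * (χ : G → ℂ) (c : G) =
      ∑ n : ↥(Subgroup.normalizer ((P : Subgroup G) : Set G)), ∑ᶠ ξ ∈ b,
        Cfsg.classInner (ξ : ↥(Subgroup.centralizer ((P : Subgroup G) : Set G)) → ℂ)
          (fun c : ↥(Subgroup.centralizer ((P : Subgroup G) : Set G)) => (χ : G → ℂ) (c : G)) *
        (cjIrr (Subgroup.centralizer ((P : Subgroup G) : Set G)) (n : G) ξ :
          ↥(Subgroup.centralizer ((P : Subgroup G) : Set G)) → ℂ) c) :
    (Nat.card (Subgroup.centralizer ((P : Subgroup G) : Set G)) : ℂ) * (χ : G → ℂ) (c : G) =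
      ∑ j', a j' * ∑ n : ↥(Subgroup.normalizer ((P : Subgroup G) : Set G)),
        (cjIrr (Subgroup.centralizer ((P : Subgroup G) : Set G)) (n : G) (r j') :
          ↥(Subgroup.centralizer ((P : Subgroup G) : Set G)) → ℂ) c := by
  classical
  have hNN := Cfsg.Agent.Lib.Helper24.ci_normalizer_le (P : Subgroup G)
  obtain ⟨hCT, hTN⟩ := root_C_le_T h
  have hbfin : b.Finite := Set.toFinite b
  -- abbreviations
  set m : Cfsg.IrrCharacter (Subgroup.centralizer ((P : Subgroup G) : Set G)) → ℂ := fun ξ =>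
    Cfsg.classInner (ξ : ↥(Subgroup.centralizer ((P : Subgroup G) : Set G)) → ℂ)
      (fun c : ↥(Subgroup.centralizer ((P : Subgroup G) : Set G)) => (χ : G → ℂ) (c : G)) with hm
  set A : Cfsg.IrrCharacter (Subgroup.centralizer ((P : Subgroup G) : Set G)) → ℂ := fun ξ =>
    ∑ n : ↥(Subgroup.normalizer ((P : Subgroup G) : Set G)),
      (cjIrr (Subgroup.centralizer ((P : Subgroup G) : Set G)) (n : G) ξ :
        ↥(Subgroup.centralizer ((P : Subgroup G) : Set G)) → ℂ) c with hA
  -- invariance under `T`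
  have hminv : ∀ s ∈ T, ∀ ξ, m (cjIrr (Subgroup.centralizer ((P : Subgroup G) : Set G)) s ξ) = m ξ :=
    fun s hs ξ => classInner_res_cjIrr _ (hNN (hTN hs)) χ ξ
  have hAinv : ∀ s ∈ T, ∀ ξ, A (cjIrr (Subgroup.centralizer ((P : Subgroup G) : Set G)) s ξ) = A ξ :=
    fun s hs ξ => bd4val_A_inv hTN c s hs ξ
  -- the sum of `A` over the block vanishes
  have hAsum : ∑ ξ ∈ hbfin.toFinset, A ξ = 0 := by
    rw [← finsum_mem_eq_finite_toFinset_sum _ hbfin]
    exact bd4val_A_sum h c hc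
  -- the function `g`
  set g : Cfsg.IrrCharacter (Subgroup.centralizer ((P : Subgroup G) : Set G)) → ℂ := fun ξ =>
    (m ξ - m θ) * A ξ with hg
  have hginv : ∀ n ∈ T, ∀ ξ ∈ b,
      g (cjIrr (Subgroup.centralizer ((P : Subgroup G) : Set G)) n ξ) = g ξ := by
    intro n hn ξ _
    rw [hg]
    simp only
    rw [hminv n hn ξ, hAinv n hn ξ]
  have hsum := hr.sum g hginv
  have hgθ : g θ = 0 := by
    rw [hg]
    simp only
    rw [sub_self, zero_mul]
  have hsum' : ∑ ξ ∈ hbfin.toFinset, g ξ =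
      (((Subgroup.centralizer ((P : Subgroup G) : Set G)).relIndex T : ℕ) : ℂ) * ∑ j', a j' * A (r j') := by
    have e1 : ∑ᶠ ξ ∈ b \ {θ}, g ξ = ∑ᶠ ξ ∈ b, g ξ := by
      apply finsum_mem_inter_support_eq
      ext ξ
      simp only [Set.mem_inter_iff, Set.mem_sdiff, Set.mem_singleton_iff, Function.mem_support]
      constructor
      · rintro ⟨⟨h1, _⟩, h3⟩
        exact ⟨h1, h3⟩
      · rintro ⟨h1, h3⟩
        refine ⟨⟨h1, ?_⟩, h3⟩
        rintro rfl
        exact h3 hgθ
    rw [← finsum_mem_eq_finite_toFinset_sum _ hbfin, ← e1, hsum]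
    congr 1
    refine Finset.sum_congr rfl fun j' _ => ?_
    rw [hg]
    simp only
    rw [hm]
    simp only
    rw [hmul j']
  -- VAL
  have hVAL' : (Nat.card T : ℂ) * (χ : G → ℂ) (c : G) = ∑ ξ ∈ hbfin.toFinset, m ξ * A ξ := by
    rw [hVAL, hA]
    simp only
    rw [Finset.sum_congr rfl fun n _ => finsum_mem_eq_finite_toFinset_sum _ hbfin, Finset.sum_comm]
    refine Finset.sum_congr rfl fun ξ _ => ?_
    rw [Finset.mul_sum]
  have hsplit : ∑ ξ ∈ hbfin.toFinset, m ξ * A ξ =
      ∑ ξ ∈ hbfin.toFinset, g ξ + m θ * ∑ ξ ∈ hbfin.toFinset, A ξ := by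
    rw [Finset.mul_sum, ← Finset.sum_add_distrib]
    refine Finset.sum_congr rfl fun ξ _ => ?_
    rw [hg]
    simp only
    ring
  rw [hsplit, hAsum, mul_zero, add_zero, hsum'] at hVAL'
  have he0 : (((Subgroup.centralizer ((P : Subgroup G) : Set G)).relIndex T : ℕ) : ℂ) ≠ 0 := by
    have het := hr.et
    have hp2 : 2 ≤ p := (Fact.out : p.Prime).two_le
    intro h0
    have h0' : (Subgroup.centralizer ((P : Subgroup G) : Set G)).relIndex T = 0 := by exact_mod_cast h0
    rw [h0', zero_mul] at het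
    omega
  rw [bd4val_card hCT] at hVAL'
  apply mul_left_cancel₀ he0
  rw [← hVAL']
  ring

/-- VALY from VAL : the values of an exceptional character on the `p`-singular elements of `C` -/
theorem bd4val_Y_of (h : RootHyp p M P B b θ T) {t : ℕ}
    (r : Fin t → Cfsg.IrrCharacter (Subgroup.centralizer ((P : Subgroup G) : Set G)))
    (hr : IsReps P b θ T ((Subgroup.centralizer ((P : Subgroup G) : Set G)).relIndex T) t r)
    (χ : Cfsg.IrrCharacter G) (hχ : χ ∈ B) (ε : ℤ) (j : Fin t)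
    (hmul : ∀ j',
      Cfsg.classInner (r j' : ↥(Subgroup.centralizer ((P : Subgroup G) : Set G)) → ℂ)
          (fun c : ↥(Subgroup.centralizer ((P : Subgroup G) : Set G)) => (χ : G → ℂ) (c : G)) -
        Cfsg.classInner (θ : ↥(Subgroup.centralizer ((P : Subgroup G) : Set G)) → ℂ)
          (fun c : ↥(Subgroup.centralizer ((P : Subgroup G) : Set G)) => (χ : G → ℂ) (c : G)) =
        if j = j' then ((ε : ℤ) : ℂ) else 0)
    (c : ↥(Subgroup.centralizer ((P : Subgroup G) : Set G))) (hc : p ∣ orderOf c)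
    (hVAL : (Nat.card T : ℂ) * (χ : G → ℂ) (c : G) =
      ∑ n : ↥(Subgroup.normalizer ((P : Subgroup G) : Set G)), ∑ᶠ ξ ∈ b,
        Cfsg.classInner (ξ : ↥(Subgroup.centralizer ((P : Subgroup G) : Set G)) → ℂ)
          (fun c : ↥(Subgroup.centralizer ((P : Subgroup G) : Set G)) => (χ : G → ℂ) (c : G)) *
        (cjIrr (Subgroup.centralizer ((P : Subgroup G) : Set G)) (n : G) ξ :
          ↥(Subgroup.centralizer ((P : Subgroup G) : Set G)) → ℂ) c) :
    (Nat.card (Subgroup.centralizer ((P : Subgroup G) : Set G)) : ℂ) * (χ : G → ℂ) (c : G) =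
      ((ε : ℤ) : ℂ) * ∑ n : ↥(Subgroup.normalizer ((P : Subgroup G) : Set G)),
        (cjIrr (Subgroup.centralizer ((P : Subgroup G) : Set G)) (n : G) (r j) :
          ↥(Subgroup.centralizer ((P : Subgroup G) : Set G)) → ℂ) c := by
  classical
  rw [bd4val_general h r hr χ hχ (fun j' => if j = j' then ((ε : ℤ) : ℂ) else 0) hmul c hc hVAL]
  rw [Finset.sum_eq_single j]
  · rw [if_pos rfl]
  · intro j' _ hj'
    rw [if_neg (fun hh => hj' hh.symm), zero_mul]
  · intro hj
    exact absurd (Finset.mem_univ j) hj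

/-- VALX from VAL : the values of a non-exceptional character on the `p`-singular elements of `C` -/
theorem bd4val_X_of (h : RootHyp p M P B b θ T) {t : ℕ}
    (r : Fin t → Cfsg.IrrCharacter (Subgroup.centralizer ((P : Subgroup G) : Set G)))
    (hr : IsReps P b θ T ((Subgroup.centralizer ((P : Subgroup G) : Set G)).relIndex T) t r)
    (χ : Cfsg.IrrCharacter G) (hχ : χ ∈ B) (ε : ℤ)
    (hmul : ∀ j,
      Cfsg.classInner (r j : ↥(Subgroup.centralizer ((P : Subgroup G) : Set G)) → ℂ)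
          (fun c : ↥(Subgroup.centralizer ((P : Subgroup G) : Set G)) => (χ : G → ℂ) (c : G)) -
        Cfsg.classInner (θ : ↥(Subgroup.centralizer ((P : Subgroup G) : Set G)) → ℂ)
          (fun c : ↥(Subgroup.centralizer ((P : Subgroup G) : Set G)) => (χ : G → ℂ) (c : G)) =
        ((ε : ℤ) : ℂ))
    (c : ↥(Subgroup.centralizer ((P : Subgroup G) : Set G))) (hc : p ∣ orderOf c)
    (hVAL : (Nat.card T : ℂ) * (χ : G → ℂ) (c : G) =
      ∑ n : ↥(Subgroup.normalizer ((P : Subgroup G) : Set G)), ∑ᶠ ξ ∈ b,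
        Cfsg.classInner (ξ : ↥(Subgroup.centralizer ((P : Subgroup G) : Set G)) → ℂ)
          (fun c : ↥(Subgroup.centralizer ((P : Subgroup G) : Set G)) => (χ : G → ℂ) (c : G)) *
        (cjIrr (Subgroup.centralizer ((P : Subgroup G) : Set G)) (n : G) ξ :
          ↥(Subgroup.centralizer ((P : Subgroup G) : Set G)) → ℂ) c) :
    (Nat.card T : ℂ) * (χ : G → ℂ) (c : G) =
      - ((ε : ℤ) : ℂ) * ∑ n : ↥(Subgroup.normalizer ((P : Subgroup G) : Set G)),
        (cjIrr (Subgroup.centralizer ((P : Subgroup G) : Set G)) (n : G) θ :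
          ↥(Subgroup.centralizer ((P : Subgroup G) : Set G)) → ℂ) c := by
  classical
  have hgen := bd4val_general h r hr χ hχ (fun _ => ((ε : ℤ) : ℂ)) hmul c hc hVAL
  have hNN := Cfsg.Agent.Lib.Helper24.ci_normalizer_le (P : Subgroup G)
  obtain ⟨hCT, hTN⟩ := root_C_le_T h
  have hbfin : b.Finite := Set.toFinite b
  set A : Cfsg.IrrCharacter (Subgroup.centralizer ((P : Subgroup G) : Set G)) → ℂ := fun ξ =>
    ∑ n : ↥(Subgroup.normalizer ((P : Subgroup G) : Set G)),
      (cjIrr (Subgroup.centralizer ((P : Subgroup G) : Set G)) (n : G) ξ :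
        ↥(Subgroup.centralizer ((P : Subgroup G) : Set G)) → ℂ) c with hA
  have hAinv : ∀ s ∈ T, ∀ ξ ∈ b,
      A (cjIrr (Subgroup.centralizer ((P : Subgroup G) : Set G)) s ξ) = A ξ :=
    fun s hs ξ _ => bd4val_A_inv hTN c s hs ξ
  have hAsum : ∑ᶠ ξ ∈ b, A ξ = 0 := bd4val_A_sum h c hc
  have hsum := hr.sum A hAinv
  -- `∑ᶠ ξ ∈ b, A ξ = A θ + ∑ᶠ ξ ∈ b \ {θ}, A ξ`
  have hsplit : ∑ᶠ ξ ∈ b, A ξ = A θ + ∑ᶠ ξ ∈ b \ {θ}, A ξ := by
    have h1 : b = insert θ (b \ {θ}) := by
      ext ξ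
      simp only [Set.mem_insert_iff, Set.mem_sdiff, Set.mem_singleton_iff]
      constructor
      · intro hξ
        by_cases hξθ : ξ = θ
        · exact Or.inl hξθ
        · exact Or.inr ⟨hξ, hξθ⟩
      · rintro (rfl | ⟨hξ, _⟩)
        · exact h.hθ
        · exact hξ
    conv_lhs => rw [h1]
    rw [finsum_mem_insert A (by simp) (hbfin.subset Set.sdiff_subset)]
  rw [hsplit, hsum] at hAsum
  have hcard : (Nat.card T : ℂ) = (Nat.card (Subgroup.centralizer ((P : Subgroup G) : Set G)) : ℂ) *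
      (((Subgroup.centralizer ((P : Subgroup G) : Set G)).relIndex T : ℕ) : ℂ) := bd4val_card hCT
  rw [hcard, mul_assoc, mul_comm ((((Subgroup.centralizer ((P : Subgroup G) : Set G)).relIndex T : ℕ)) : ℂ),
    ← mul_assoc, hgen, ← Finset.mul_sum]
  have hAθ : A θ = - ((((Subgroup.centralizer ((P : Subgroup G) : Set G)).relIndex T : ℕ) : ℂ) *
      ∑ j, A (r j)) := eq_neg_of_add_eq_zero_left hAsum
  show _ = - ((ε : ℤ) : ℂ) * A θ
  rw [hAθ]
  ring

end root

end Cfsg.Agent.Lib.helper7.BD
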