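import Mathlib
import Cfsg.Agent.Lib.helper7.BD.D1Defs
import Cfsg.Agent.Lib.Helper1.BD2BLKCJ

/-!
# Project BD, stage B, wave 2/3, piece CJ5 : a conjugate of a block inducing `B` induces `B`
(`isInducedBlock_cjSet`, VERBATIM vs Skeleton3)
-/

set_option autoImplicit false
set_option linter.unusedVariables false
set_option linter.unusedSectionVars false
set_option linter.style.haveILetI false

namespace Cfsg.Agent.Lib.helper7.BD

open Cfsg.Agent.Lib.helper7

universe u

section cj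

variable {G : Type u} [Group G] (H : Subgroup G)

/-- the induced central character is invariant under conjugation by the normalizer -/
theorem bd3cj5_icc {n : G} (hn : n ∈ Subgroup.normalizer (H : Set G)) (ξ : Cfsg.IrrCharacter H)
    (g : G) :
    Cfsg.inducedCentralChar H (cjIrr H n ξ : ↥H → ℂ) g =
      Cfsg.inducedCentralChar H (ξ : ↥H → ℂ) g := by
  unfold Cfsg.inducedCentralChar
  have hφ : ∀ k : ↥H, ((H.normalizerMonoidHom ⟨n, hn⟩ k : ↥H) : G) = n * (k : G) * n⁻¹ := fun k => rfl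
  have h1 : (cjIrr H n ξ : ↥H → ℂ) 1 = (ξ : ↥H → ℂ) 1 := by
    rw [cjIrr_apply H hn, map_one]
  rw [h1]
  symm
  apply finsum_mem_eq_of_bijOn (fun k : ↥H => H.normalizerMonoidHom ⟨n, hn⟩ k)
  · refine ⟨?_, ?_, ?_⟩
    · intro k hk
      show IsConj g ((H.normalizerMonoidHom ⟨n, hn⟩ k : ↥H) : G)
      rw [hφ]
      exact IsConj.trans hk (isConj_iff.2 ⟨n, rfl⟩)
    · intro k _ k' _ hkk'
      exact (H.normalizerMonoidHom ⟨n, hn⟩).injective hkk'
    · intro k hk
      refine ⟨(H.normalizerMonoidHom ⟨n, hn⟩).symm k, ?_, ?_⟩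
      · show IsConj g (((H.normalizerMonoidHom ⟨n, hn⟩).symm k : ↥H) : G)
        have h2 : (k : G) = n * (((H.normalizerMonoidHom ⟨n, hn⟩).symm k : ↥H) : G) * n⁻¹ := by
          rw [← hφ, MulEquiv.apply_symm_apply]
        have h3 : IsConj (k : G) (((H.normalizerMonoidHom ⟨n, hn⟩).symm k : ↥H) : G) := by
          rw [isConj_iff]
          refine ⟨n⁻¹, ?_⟩
          rw [h2]
          group
        exact IsConj.trans hk h3
      · show H.normalizerMonoidHom ⟨n, hn⟩ ((H.normalizerMonoidHom ⟨n, hn⟩).symm k) = k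
        rw [MulEquiv.apply_symm_apply]
  · intro k _
    show (ξ : ↥H → ℂ) k / (ξ : ↥H → ℂ) 1 =
      (cjIrr H n ξ : ↥H → ℂ) (H.normalizerMonoidHom ⟨n, hn⟩ k) / (ξ : ↥H → ℂ) 1
    rw [cjIrr_apply H hn, MulEquiv.symm_apply_apply]

/-- CJ5 : a conjugate of a block inducing `B` induces `B` -/
theorem isInducedBlock_cjSet [Finite G] {M : Ideal Cfsg.AlgInt} {n : G}
    (hn : n ∈ Subgroup.normalizer (H : Set G)) (b : Set (Cfsg.IrrCharacter H))
    (B : Set (Cfsg.IrrCharacter G)) (hb : Cfsg.IsInducedBlock M H b B) :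
    Cfsg.IsInducedBlock M H (cjSet H n b) B := by
  refine ⟨isPBlock_cjSet H hn b hb.1, hb.2.1, ?_⟩
  rintro ζ ⟨ξ, hξ, rfl⟩ χ hχ g
  rw [bd3cj5_icc H hn ξ g]
  exact hb.2.2 ξ hξ χ hχ g

end cj

end Cfsg.Agent.Lib.helper7.BD
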