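import Mathlib
import Cfsg.Agent.Lib.helper7.BD.D1Defs
import Cfsg.Agent.Lib.Helper24.ExtFirstMain2
import Cfsg.Agent.Lib.Helper24.CyclicInertial3
import Cfsg.Agent.Lib.Helper10.BDCHARS
import Cfsg.Agent.Lib.Helper25.BDTSTAB
import Cfsg.Agent.Lib.Helper1.BD2BLKCJ
import Cfsg.Agent.Lib.Helper13.BD3CJ
import Cfsg.Agent.Lib.Helper13.BD3CJ5

/-!
# Project BD, stage B, wave 2/3, piece IBLK : the blocks of `C` inducing `B` are the `N`-conjugates
of `b`; there are `|N : T|` of them (`root_blocks_inducing`, VERBATIM vs Skeleton3)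
-/

set_option autoImplicit false
set_option linter.unusedVariables false
set_option linter.unusedSectionVars false
set_option linter.style.haveILetI false

namespace Cfsg.Agent.Lib.helper7.BD

open Cfsg.Agent.Lib.helper7

universe u

section cj

variable {G : Type u} [Group G] (H : Subgroup G)

/-- `b ↦ b^n` is an action of `N_G(H)` on sets of characters -/
theorem bd3iblk_cjSet_mul {n n' : G} (hn : n ∈ Subgroup.normalizer (H : Set G))
    (hn' : n' ∈ Subgroup.normalizer (H : Set G)) (b : Set (Cfsg.IrrCharacter H)) :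
    cjSet H (n * n') b = cjSet H n (cjSet H n' b) := by
  unfold cjSet
  rw [Set.image_image]
  refine Set.image_congr fun ξ _ => ?_
  exact cjIrr_mul H hn hn' ξ

theorem bd3iblk_cjSet_one (b : Set (Cfsg.IrrCharacter H)) : cjSet H 1 b = b := by
  unfold cjSet
  have h1 : cjIrr H 1 = id := funext fun ξ => cjIrr_of_mem_self H (Subgroup.one_mem H) ξ
  rw [h1, Set.image_id]

end cj

section glob

variable {G : Type u} [Group G] [Fintype G] {M : Ideal Cfsg.AlgInt} {p : ℕ} [Fact p.Prime]
  {P : Sylow p G} {B : Set (Cfsg.IrrCharacter G)}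
  {b : Set (Cfsg.IrrCharacter (Subgroup.centralizer ((P : Subgroup G) : Set G)))}
  {θ : Cfsg.IrrCharacter (Subgroup.centralizer ((P : Subgroup G) : Set G))} {T : Subgroup G}

/-- first half of IBLK -/
theorem bd3iblk_iff (h : RootHyp p M P B b θ T)
    (b' : Set (Cfsg.IrrCharacter (Subgroup.centralizer ((P : Subgroup G) : Set G)))) :
    Cfsg.IsInducedBlock M (Subgroup.centralizer ((P : Subgroup G) : Set G)) b' B ↔
      ∃ n ∈ Subgroup.normalizer ((P : Subgroup G) : Set G),
        b' = cjSet (Subgroup.centralizer ((P : Subgroup G) : Set G)) n b := by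
  classical
  haveI : Fintype (Cfsg.IrrCharacter G) := Fintype.ofFinite _
  have hM := h.hM
  have hMp : M.IsPrime := hM.2.1.isPrime
  have hPg : IsPGroup p (P : Subgroup G) := P.isPGroup'
  have hPC : (P : Subgroup G) ≤ Subgroup.centralizer ((P : Subgroup G) : Set G) :=
    bdchars_le_centralizer (P : Subgroup G) h.card_P
  have hCN : Subgroup.centralizer ((P : Subgroup G) : Set G) ≤
      Subgroup.normalizer ((P : Subgroup G) : Set G) :=
    Subgroup.centralizer_le_normalizer ((P : Subgroup G) : Set G)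
  have hNN := Cfsg.Agent.Lib.Helper24.ci_normalizer_le (P : Subgroup G)
  constructor
  · intro hI'
    obtain ⟨n, hn, hnb⟩ := Cfsg.Agent.Lib.Helper24.ef_unique hM (P : Subgroup G)
      (Subgroup.centralizer ((P : Subgroup G) : Set G)) hPg hPC le_rfl hCN hNN B h.hB h.hBP b b'
      h.hind hI'
    obtain ⟨θ', hθ'b', hθ'⟩ := hnb θ h.hθ
    have hn' : n⁻¹ ∈ Subgroup.normalizer ((P : Subgroup G) : Set G) := Subgroup.inv_mem _ hn
    have hn'C := hNN hn'
    refine ⟨n⁻¹, hn', ?_⟩
    have hconj : Cfsg.IsConjCharOf (Subgroup.centralizer ((P : Subgroup G) : Set G)) n⁻¹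
        (θ : Subgroup.centralizer ((P : Subgroup G) : Set G) → ℂ)
        (θ' : Subgroup.centralizer ((P : Subgroup G) : Set G) → ℂ) := by
      intro k k' hk
      have hx : n * (k' : G) * n⁻¹ ∈ Subgroup.centralizer ((P : Subgroup G) : Set G) := by
        rw [hk]
        have : n * (n⁻¹ * (k : G) * n⁻¹⁻¹) * n⁻¹ = (k : G) := by group
        rw [this]
        exact k.2
      rw [hθ' k' hx]
      have hkk : (⟨n * (k' : G) * n⁻¹, hx⟩ : ↥(Subgroup.centralizer ((P : Subgroup G) : Set G))) = k := by
        apply Subtype.ext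
        show n * (k' : G) * n⁻¹ = (k : G)
        rw [hk]
        group
      rw [hkk]
    have hθ'eq : θ' = cjIrr (Subgroup.centralizer ((P : Subgroup G) : Set G)) n⁻¹ θ :=
      eq_cjIrr_of_isConjCharOf _ hn'C θ θ' hconj
    have hmem : θ' ∈ cjSet (Subgroup.centralizer ((P : Subgroup G) : Set G)) n⁻¹ b := by
      rw [hθ'eq]
      exact Set.mem_image_of_mem _ h.hθ
    exact bdtstab_block_eq hMp b' _ hI'.1 (isPBlock_cjSet _ hn'C b h.hind.1) θ' hθ'b' hmem
  · rintro ⟨n, hn, rfl⟩
    exact isInducedBlock_cjSet _ (hNN hn) b B h.hind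

/-- IBLK : the blocks of `C` inducing `B` are the `N`-conjugates of `b`; there are `|N : T|` of them -/
theorem root_blocks_inducing (h : RootHyp p M P B b θ T) :
    (∀ b' : Set (Cfsg.IrrCharacter (Subgroup.centralizer ((P : Subgroup G) : Set G))),
      Cfsg.IsInducedBlock M (Subgroup.centralizer ((P : Subgroup G) : Set G)) b' B ↔
        ∃ n ∈ Subgroup.normalizer ((P : Subgroup G) : Set G),
          b' = cjSet (Subgroup.centralizer ((P : Subgroup G) : Set G)) n b) ∧
    Nat.card {b' : Set (Cfsg.IrrCharacter (Subgroup.centralizer ((P : Subgroup G) : Set G))) |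
      Cfsg.IsInducedBlock M (Subgroup.centralizer ((P : Subgroup G) : Set G)) b' B} =
      T.relIndex (Subgroup.normalizer ((P : Subgroup G) : Set G)) := by
  classical
  refine ⟨bd3iblk_iff h, ?_⟩
  have hNN := Cfsg.Agent.Lib.Helper24.ci_normalizer_le (P : Subgroup G)
  -- the map `n ↦ b^n`
  let f : ↥(Subgroup.normalizer ((P : Subgroup G) : Set G)) →
      {b' : Set (Cfsg.IrrCharacter (Subgroup.centralizer ((P : Subgroup G) : Set G))) |
        Cfsg.IsInducedBlock M (Subgroup.centralizer ((P : Subgroup G) : Set G)) b' B} :=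
    fun n => ⟨cjSet (Subgroup.centralizer ((P : Subgroup G) : Set G)) (n : G) b,
      (bd3iblk_iff h _).2 ⟨(n : G), n.2, rfl⟩⟩
  have hf : ∀ n n' : ↥(Subgroup.normalizer ((P : Subgroup G) : Set G)),
      f n = f n' ↔ n⁻¹ * n' ∈ T.subgroupOf (Subgroup.normalizer ((P : Subgroup G) : Set G)) := by
    intro n n'
    have hmem : (n : G)⁻¹ * (n' : G) ∈ Subgroup.normalizer ((P : Subgroup G) : Set G) :=
      Subgroup.mul_mem _ (Subgroup.inv_mem _ n.2) n'.2
    rw [Subgroup.mem_subgroupOf]
    have e0 : ((n⁻¹ * n' : ↥(Subgroup.normalizer ((P : Subgroup G) : Set G))) : G) =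
        (n : G)⁻¹ * (n' : G) := rfl
    rw [e0, root_stab h _ hmem]
    have e1 : f n = f n' ↔ cjSet (Subgroup.centralizer ((P : Subgroup G) : Set G)) (n : G) b =
        cjSet (Subgroup.centralizer ((P : Subgroup G) : Set G)) (n' : G) b := by
      constructor
      · intro hh
        exact congrArg Subtype.val hh
      · intro hh
        exact Subtype.ext hh
    rw [e1]
    have e2 : cjSet (Subgroup.centralizer ((P : Subgroup G) : Set G)) (n' : G) b =
        cjSet (Subgroup.centralizer ((P : Subgroup G) : Set G)) (n : G)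
          (cjSet (Subgroup.centralizer ((P : Subgroup G) : Set G)) ((n : G)⁻¹ * (n' : G)) b) := by
      rw [← bd3iblk_cjSet_mul _ (hNN n.2) (hNN hmem), mul_inv_cancel_left]
    constructor
    · intro hh
      rw [e2] at hh
      have e3 := congrArg (cjSet (Subgroup.centralizer ((P : Subgroup G) : Set G)) (n : G)⁻¹) hh
      rw [← bd3iblk_cjSet_mul _ (hNN (Subgroup.inv_mem _ n.2)) (hNN n.2),
        ← bd3iblk_cjSet_mul _ (hNN (Subgroup.inv_mem _ n.2)) (hNN n.2), inv_mul_cancel,
        bd3iblk_cjSet_one, bd3iblk_cjSet_one] at e3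
      exact e3.symm
    · intro hh
      rw [e2, hh]
  -- the induced map on the cosets
  let F : ↥(Subgroup.normalizer ((P : Subgroup G) : Set G)) ⧸
      T.subgroupOf (Subgroup.normalizer ((P : Subgroup G) : Set G)) →
      {b' : Set (Cfsg.IrrCharacter (Subgroup.centralizer ((P : Subgroup G) : Set G))) |
        Cfsg.IsInducedBlock M (Subgroup.centralizer ((P : Subgroup G) : Set G)) b' B} :=
    Quotient.lift f (by
      intro a c hac
      have hac' : a⁻¹ * c ∈ T.subgroupOf (Subgroup.normalizer ((P : Subgroup G) : Set G)) :=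
        QuotientGroup.leftRel_apply.mp hac
      exact (hf a c).2 hac')
  have hF : Function.Bijective F := by
    constructor
    · intro x y
      induction x using Quotient.inductionOn with
      | h a =>
        induction y using Quotient.inductionOn with
        | h c =>
          intro hxy
          have hxy' : f a = f c := hxy
          exact Quotient.sound (QuotientGroup.leftRel_apply.mpr ((hf a c).1 hxy'))
    · rintro ⟨b', hb'⟩
      obtain ⟨n, hn, rfl⟩ := (bd3iblk_iff h b').1 hb'
      exact ⟨Quotient.mk _ ⟨n, hn⟩, rfl⟩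
  rw [← Nat.card_congr (Equiv.ofBijective F hF)]
  rfl

end glob

end Cfsg.Agent.Lib.helper7.BD
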