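import Mathlib
import Cfsg.Agent.Lib.helper7.BD.Defs
import Cfsg.Agent.Lib.helper7.BD.D1Defs
import Cfsg.Agent.Lib.helper7.Br.Defs
import Cfsg.Agent.Lib.helper7.Br.LocB
import Cfsg.Agent.Lib.helper7.BlockBrauer3
import Cfsg.Agent.Lib.helper7.SecondMain3
import Cfsg.Agent.Lib.Helper10.BDLINKB
import Cfsg.Agent.Lib.Helper10.BDCHARS
import Cfsg.Agent.Lib.Helper21.BrAC
import Cfsg.Agent.Lib.Helper29.BDSCH0
import Cfsg.Agent.Lib.Helper24.CyclicInertial3

/-!
# Project BD, stage B, piece KEYID : the Brauer image of `e_B` acts as the identity on a simple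
`N`-module lying over `b`

* `bd2keyid_idem`   : `e - e z` is idempotent for commuting idempotents;
* `bd2keyid_absorb` : `Br_P(e_B) e_b = e_b` for a block `b` of `H` (`P C_G(P) <= H <= N_G(P)`) inducing `B`;
* `root_brauer_acts_id` : the piece (VERBATIM vs Skeleton2).
-/

set_option autoImplicit false
set_option linter.unusedVariables false
set_option linter.unusedSectionVars false
set_option linter.style.haveILetI false

namespace Cfsg.Agent.Lib.helper7.BD

open Cfsg.Agent.Lib.helper7 Cfsg.Agent.Lib.helper7.Br Cfsg.Agent.Lib.helper7.R1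

universe u v w

/-- `e - e z` is idempotent for commuting idempotents `e`, `z` -/
theorem bd2keyid_idem {R : Type*} [Ring R] (e z : R) (he : e * e = e) (hz : z * z = z)
    (hc : z * e = e * z) : IsIdempotentElem (e - e * z) := by
  unfold IsIdempotentElem
  have e3 : (e - e * z) * (e - e * z) =
      e * e - e * (z * e) - e * (e * z) + e * (z * e) * z := by
    noncomm_ring
  rw [e3, hc, ← mul_assoc, he, mul_assoc e z z, hz]
  abel

section gen

variable {G : Type*} [Group G] [Fintype G] {M : Ideal Cfsg.AlgInt} {p : ℕ} [Fact p.Prime]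

/-- `Br_P(e_B) e_b = e_b` if the block `b` of `H` (`P C_G(P) ≤ H ≤ N_G(P)`) induces `B` -/
theorem bd2keyid_absorb (hM : Cfsg.IsPModular p M) (hMp : M.IsPrime) (P H : Subgroup G) [Fintype ↥H]
    (hP : IsPGroup p P) (hPH : P ≤ H) (hCH : Subgroup.centralizer (P : Set G) ≤ H)
    (hHN : H ≤ Subgroup.normalizer (P : Set G))
    (b : Set (Cfsg.IrrCharacter ↥H)) (B : Set (Cfsg.IrrCharacter G))
    (hind : Cfsg.IsInducedBlock M H b B) :
    red hMp (h7_brFun P H (Cfsg.blockCoeff B)) * eBar hMp b = eBar hMp b := by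
  classical
  haveI : Fintype (Cfsg.IrrCharacter G) := Fintype.ofFinite _
  haveI : Fintype (Cfsg.IrrCharacter ↥H) := Fintype.ofFinite _
  -- indicators
  set iB : Cfsg.IrrCharacter G → ℂ := fun χ => if χ ∈ B then (1 : ℂ) else 0 with hiB
  set ib : Cfsg.IrrCharacter ↥H → ℂ := fun ξ => if ξ ∈ b then (1 : ℂ) else 0 with hib
  have hiBm : iB ∈ h7_intSubring (G := G) M hMp := by
    obtain ⟨χ₁, hχ₁⟩ := hind.2.1
    rw [hiB, hχ₁]
    exact h7_block_indicator_mem hMp χ₁
  have hibm : ib ∈ h7_intSubring (G := ↥H) M hMp := by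
    obtain ⟨ξ₁, hξ₁⟩ := hind.1
    rw [hib, hξ₁]
    exact h7_block_indicator_mem hMp ξ₁
  have hiBB : iB * iB = iB := by
    funext χ
    simp only [Pi.mul_apply, hiB]
    split_ifs <;> simp
  -- the Brauer image of `e_B`
  have hcoefB : h7_coef iB = Cfsg.blockCoeff B := funext fun g => h7_coef_indicator B g
  set ε : ↥H → ℂ := h7_brFun P H (h7_coef iB) with hε
  have hεeq : h7_brFun P H (Cfsg.blockCoeff B) = ε := by rw [hε, hcoefB]
  have hεcl : ∀ a c : ↥H, ε (c * a * c⁻¹) = ε a :=
    fun a c => h7_brFun_class P H hHN _ (fun g k => h7_coef_conj iB g k) a c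
  have hεS : ∀ a : ↥H, Cfsg.MemLocalRing M (ε a) := by
    intro a
    rw [hε]
    unfold h7_brFun
    split_ifs
    · exact hiBm _
    · exact h7_memLocalRing_zero hMp
  set ν : Cfsg.IrrCharacter ↥H → ℂ := h7_fourier ε with hν
  have hcoefν : h7_coef ν = ε := h7_coef_fourier ε hεcl
  have hνm : ν ∈ h7_intSubring (G := ↥H) M hMp := by
    intro a
    rw [hcoefν]
    exact hεS a
  have hνev : ∀ ψ : Cfsg.IrrCharacter ↥H, ν ψ = h7_brEval P H (ψ : ↥H → ℂ) iB := by
    intro ψ
    rw [hν, h7_fourier_apply]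
    unfold h7_brEval h7_omega
    rw [Finset.sum_div]
  set z : GA (h7_resRing M hMp) ↥H := red hMp ε with hz
  have hzθ : z = theta hMp ν := by
    rw [hz]
    unfold theta
    rw [hcoefν]
  have hzz : z * z = z := by
    apply GA.ext
    intro x
    rw [GA.mul_apply']
    have h1 := h7_brFun_mul P H hM hP hCH iB iB hiBm hiBm x
    rw [hiBB] at h1
    have hsum : Cfsg.MemLocalRing M (∑ y : ↥H, ε (x * y⁻¹) * ε y) :=
      h7_memLocalRing_sum hMp _ _ fun y _ => h7_memLocalRing_mul hMp (hεS _) (hεS _)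
    have h2 := (h7_res_eq_iff hMp (hεS x) hsum).2 h1
    rw [hz]
    simp only [red_apply]
    rw [h2, h7_res_sum hMp _ _ (fun y _ => h7_memLocalRing_mul hMp (hεS _) (hεS _))]
    refine Finset.sum_congr rfl fun y _ => ?_
    rw [h7_res_mul hMp (hεS _) (hεS _)]
  -- the value of `ν` on `b`
  have hνb : ∀ ψ : Cfsg.IrrCharacter ↥H, ψ ∈ b → Cfsg.MemLocalIdeal M (ν ψ - 1) := by
    intro ψ hψ
    obtain ⟨χ₀, hχ₀⟩ := h7_brauer_hom_block P H hM hP hCH hHN ψ
    have hI := h7_brauer_induced P H hM hP hPH hHN ψ χ₀ hχ₀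
    have hbψ : b = Cfsg.blockOf M (ψ : ↥H → ℂ) := by
      obtain ⟨ξ₁, hξ₁⟩ := hind.1
      rw [hξ₁]
      rw [hξ₁] at hψ
      exact h7_blockOf_eq_of_mem hMp ξ₁ ψ hψ
    rw [← hbψ] at hI
    have hBχ : B = Cfsg.blockOf M (χ₀ : G → ℂ) := h7_induced_unique hMp H b _ _ hind hI
    have hχ₀B : χ₀ ∈ B := by
      rw [hBχ]
      exact h7_sameBlock_refl hMp _
    have h3 := hχ₀ iB hiBm
    rw [← hνev] at h3
    have h4 : iB χ₀ = 1 := by
      rw [hiB]
      simp only [if_pos hχ₀B]
    rw [h4] at h3
    exact h3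
  -- the difference `1_b - 1_b ν`
  set d : Cfsg.IrrCharacter ↥H → ℂ := ib - ib * ν with hd
  have hdm : d ∈ h7_intSubring (G := ↥H) M hMp :=
    Subring.sub_mem _ hibm (Subring.mul_mem _ hibm hνm)
  have hdI : ∀ φ : Cfsg.IrrCharacter ↥H, Cfsg.MemLocalIdeal M (d φ) := by
    intro φ
    by_cases hφ : φ ∈ b
    · have e1 : d φ = -(ν φ - 1) := by
        rw [hd, hib]
        simp only [Pi.sub_apply, Pi.mul_apply, if_pos hφ]
        ring
      rw [e1]
      exact h7_memLocalIdeal_neg (hνb φ hφ)
    · have e1 : d φ = 0 := by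
        rw [hd, hib]
        simp only [Pi.sub_apply, Pi.mul_apply, if_neg hφ]
        ring
      rw [e1]
      exact h7_memLocalIdeal_zero hMp
  obtain ⟨n, hn⟩ := h7_radical_pow hM d hdI
  have hθib : theta hMp ib = eBar hMp b := theta_indicator hMp b
  set w : GA (h7_resRing M hMp) ↥H := theta hMp d with hw
  have hsplit : eBar hMp b = w + eBar hMp b * z := by
    have e1 : ib = d + ib * ν := by
      rw [hd]
      ring
    have e2 := theta_add hMp d (ib * ν) hdm (Subring.mul_mem _ hibm hνm)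
    rw [← e1, theta_mul hMp ib ν hibm hνm, hθib, ← hzθ] at e2
    exact e2
  have hw' : w = eBar hMp b - eBar hMp b * z := eq_sub_of_add_eq hsplit.symm
  have hbb : eBar hMp b * eBar hMp b = eBar hMp b := (eBar_idem hMp b hind.1).eq
  have hcz : z * eBar hMp b = eBar hMp b * z := (eBar_central hMp b z).symm
  have hww : IsIdempotentElem w := by
    rw [hw']
    exact bd2keyid_idem _ _ hbb hzz hcz
  have hwpow : w ^ (n + 1) = 0 := by
    rw [hw, ← theta_pow hMp d hdm n]
    apply GA.ext
    intro g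
    unfold theta
    rw [red_apply, GA.zero_apply]
    exact (h7_res_eq_zero_iff hMp (h7_memLocalRing_of_memLocalIdeal (hn g))).2 (hn g)
  have hw0 : w = 0 := by
    rw [← hww.pow_succ_eq n]
    exact hwpow
  rw [hεeq, ← hz, hcz]
  rw [hw0] at hsplit
  rw [zero_add] at hsplit
  exact hsplit.symm

end gen

section root

variable {G : Type u} [Group G] [Fintype G] {M : Ideal Cfsg.AlgInt} {p : ℕ} [Fact p.Prime]
  {P : Sylow p G} {B : Set (Cfsg.IrrCharacter G)}
  {b : Set (Cfsg.IrrCharacter (Subgroup.centralizer ((P : Subgroup G) : Set G)))}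
  {θ : Cfsg.IrrCharacter (Subgroup.centralizer ((P : Subgroup G) : Set G))} {T : Subgroup G}

variable [Fintype ↥(Subgroup.centralizer ((P : Subgroup G) : Set G))]
  [Fintype ↥(Subgroup.normalizer ((P : Subgroup G) : Set G))]

/-- M8 = KEYID : the Brauer image of the block idempotent of `B` acts as the identity on a simple
`N`-module lying over `b` -/
theorem root_brauer_acts_id (h : RootHyp p M P B b θ T) (hMp : M.IsPrime) {S : Type v} [AddCommGroup S]
    [Module (h7_resRing M hMp) S] [FiniteDimensional (h7_resRing M hMp) S]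
    (σ : Representation (h7_resRing M hMp) ↥(Subgroup.normalizer ((P : Subgroup G) : Set G)) S)
    [σ.IsIrreducible]
    (hE : subOp (Subgroup.centralizer_le_normalizer ((P : Subgroup G) : Set G)) σ (eBar hMp b) ≠ 0) :
    subOp (Subgroup.centralizer_le_normalizer ((P : Subgroup G) : Set G)) σ
      (fun c => eBar hMp B (c : G)) = LinearMap.id := by
  classical
  have hM := h.hM
  haveI : IsAlgClosed (h7_resRing M hMp) := Cfsg.Agent.Lib.Helper21.Br.resRing_isAlgClosed hM
  have hCN : Subgroup.centralizer ((P : Subgroup G) : Set G) ≤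
      Subgroup.normalizer ((P : Subgroup G) : Set G) :=
    Subgroup.centralizer_le_normalizer ((P : Subgroup G) : Set G)
  have hPC : (P : Subgroup G) ≤ Subgroup.centralizer ((P : Subgroup G) : Set G) :=
    bdchars_le_centralizer (P : Subgroup G) h.card_P
  set z : GA (h7_resRing M hMp) ↥(Subgroup.centralizer ((P : Subgroup G) : Set G)) :=
    fun c => eBar hMp B (c : G) with hz
  have hzeq : z = red hMp (h7_brFun (P : Subgroup G) (Subgroup.centralizer ((P : Subgroup G) : Set G))
      (Cfsg.blockCoeff B)) := by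
    funext c
    rw [red_apply, h7_brFun_of_mem _ _ _ _ c.2]
    rfl
  have habs : z * eBar hMp b = eBar hMp b := by
    rw [hzeq]
    exact bd2keyid_absorb hM hMp (P : Subgroup G) _ P.isPGroup' hPC le_rfl hCN b B h.hind
  have hmul : ∀ a a' : GA (h7_resRing M hMp) ↥(Subgroup.centralizer ((P : Subgroup G) : Set G)),
      subOp hCN σ (a * a') = subOp hCN σ a ∘ₗ subOp hCN σ a' := by
    intro a a'
    have e1 : ∀ a'' : GA (h7_resRing M hMp) ↥(Subgroup.centralizer ((P : Subgroup G) : Set G)),
        subOp hCN σ a'' = bdlinkb_act (σ.comp (Subgroup.inclusion hCN)) a'' := fun _ => rfl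
    rw [e1, e1, e1, bdlinkb_act_mul]
    rfl
  have hUE : subOp hCN σ z ∘ₗ subOp hCN σ (eBar hMp b) = subOp hCN σ (eBar hMp b) := by
    rw [← hmul, habs]
  -- `U` commutes with the action of `N`
  have hcomm : IsHom σ σ (subOp hCN σ z) := by
    intro t
    have htN : (t : G) ∈ Subgroup.normalizer
        (((Subgroup.centralizer ((P : Subgroup G) : Set G)) : Subgroup G) : Set G) :=
      Cfsg.Agent.Lib.Helper24.ci_normalizer_le (P : Subgroup G) t.2
    have hconj : ∀ c : ↥(Subgroup.centralizer ((P : Subgroup G) : Set G)),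
        (t : G) * (c : G) * (t : G)⁻¹ ∈ Subgroup.centralizer ((P : Subgroup G) : Set G) := fun c =>
      (Subgroup.mem_normalizer_iff.mp htN (c : G)).mp c.2
    have hconj' : ∀ c : ↥(Subgroup.centralizer ((P : Subgroup G) : Set G)),
        (t : G)⁻¹ * (c : G) * (t : G) ∈ Subgroup.centralizer ((P : Subgroup G) : Set G) := fun c => by
      have := (Subgroup.mem_normalizer_iff.mp (Subgroup.inv_mem _ htN) (c : G)).mp c.2
      simpa using this
    let e : ↥(Subgroup.centralizer ((P : Subgroup G) : Set G)) ≃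
        ↥(Subgroup.centralizer ((P : Subgroup G) : Set G)) :=
      { toFun := fun c => ⟨(t : G) * (c : G) * (t : G)⁻¹, hconj c⟩
        invFun := fun c => ⟨(t : G)⁻¹ * (c : G) * (t : G), hconj' c⟩
        left_inv := fun c => by apply Subtype.ext; simp [mul_assoc]
        right_inv := fun c => by apply Subtype.ext; simp [mul_assoc] }
    have heb : ∀ c : ↥(Subgroup.centralizer ((P : Subgroup G) : Set G)), z (e c) = z c := by
      intro c
      show eBar hMp B ((t : G) * (c : G) * (t : G)⁻¹) = eBar hMp B (c : G)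
      exact eBar_class hMp B (c : G) (t : G)
    have hσ : ∀ c : ↥(Subgroup.centralizer ((P : Subgroup G) : Set G)),
        σ t ∘ₗ σ (Subgroup.inclusion hCN c) = σ (Subgroup.inclusion hCN (e c)) ∘ₗ σ t := by
      intro c
      have h1 : t * Subgroup.inclusion hCN c = Subgroup.inclusion hCN (e c) * t := by
        apply Subtype.ext
        show (t : G) * (c : G) = (t : G) * (c : G) * (t : G)⁻¹ * (t : G)
        rw [inv_mul_cancel_right]
      have h2 : σ (t * Subgroup.inclusion hCN c) = σ (Subgroup.inclusion hCN (e c) * t) := by rw [h1]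
      rw [map_mul, map_mul] at h2
      exact h2
    have key : subOp hCN σ z =
        ∑ c : ↥(Subgroup.centralizer ((P : Subgroup G) : Set G)),
          z c • σ (Subgroup.inclusion hCN c) := rfl
    rw [key]
    symm
    apply LinearMap.ext
    intro x
    simp only [LinearMap.comp_apply, LinearMap.sum_apply, LinearMap.smul_apply, map_sum, map_smul]
    rw [← Equiv.sum_comp e (fun c => z c • σ (Subgroup.inclusion hCN c) (σ t x))]
    refine Finset.sum_congr rfl fun c _ => ?_
    have h3 := LinearMap.congr_fun (hσ c) x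
    simp only [LinearMap.comp_apply] at h3
    rw [heb c, ← h3]
  obtain ⟨c₀, hc₀⟩ := schur_scalar σ (subOp hCN σ z) hcomm
  have h5 : c₀ • subOp hCN σ (eBar hMp b) = subOp hCN σ (eBar hMp b) := by
    rw [hc₀, LinearMap.smul_comp, LinearMap.id_comp] at hUE
    exact hUE
  have hc1 : c₀ = 1 := by
    by_contra hne
    apply hE
    have h6 : (c₀ - 1) • subOp hCN σ (eBar hMp b) = 0 := by
      rw [sub_smul, one_smul, h5, sub_self]
    exact (smul_eq_zero.mp h6).resolve_left (sub_ne_zero.mpr hne)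
  show subOp hCN σ z = LinearMap.id
  rw [hc₀, hc1, one_smul]

end root

end Cfsg.Agent.Lib.helper7.BD
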