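import Mathlib
import Cfsg.Agent.Lib.helper7.BD.Defs
import Cfsg.Agent.Lib.helper7.BD.D1Defs
import Cfsg.Agent.Lib.helper7.BD.Exist
import Cfsg.Agent.Lib.helper7.BD.UniqG
import Cfsg.Agent.Lib.helper7.R1.Link
import Cfsg.Agent.Lib.helper7.Rob1
import Cfsg.Agent.Lib.helper23.BDSETUP1
import Cfsg.Agent.Lib.Helper11.BDTRIV
import Cfsg.Agent.Lib.Helper11.BDFIX
import Cfsg.Agent.Lib.Helper25.CharLinear
import Cfsg.Agent.Lib.Helper10.BDCHARS
import Cfsg.Agent.Lib.Helper10.BDLINKB
import Cfsg.Agent.Lib.Lead.BDINDEP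
import Cfsg.Agent.Lib.Helper24.CyclicInertial3
import Cfsg.Agent.Lib.Helper25.CentralDefect
import Cfsg.Agent.Lib.Helper21.BrAC

/-!
# Project BD, stage B, piece UNIQB : the block `b` of `C = C_G(P)` has a unique simple module
-/

set_option autoImplicit false
set_option linter.unusedVariables false
set_option linter.unusedSectionVars false
set_option linter.style.haveILetI false

namespace Cfsg.Agent.Lib.helper7.BD

open Cfsg.Agent.Lib.helper7 Cfsg.Agent.Lib.helper7.Br Cfsg.Agent.Lib.helper7.R1

universe u v w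

section two

/-- two types as a family indexed by `Fin 2` -/
def bd2uniqb_V (X X' : Type v) : Fin 2 → Type v := Fin.cases X (fun _ => X')

noncomputable def bd2uniqb_acg (X X' : Type v) [AddCommGroup X] [AddCommGroup X'] :
    ∀ i, AddCommGroup (bd2uniqb_V X X' i) :=
  Fin.cases (motive := fun i => AddCommGroup (bd2uniqb_V X X' i)) (inferInstanceAs (AddCommGroup X))
    (fun _ => inferInstanceAs (AddCommGroup X'))

attribute [local instance] bd2uniqb_acg

noncomputable def bd2uniqb_mod (F : Type*) [Field F] (X X' : Type v) [AddCommGroup X] [AddCommGroup X']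
    [Module F X] [Module F X'] : ∀ i, Module F (bd2uniqb_V X X' i) :=
  Fin.cases (motive := fun i => Module F (bd2uniqb_V X X' i)) (inferInstanceAs (Module F X))
    (fun _ => inferInstanceAs (Module F X'))

attribute [local instance] bd2uniqb_mod

theorem bd2uniqb_fd (F : Type*) [Field F] (X X' : Type v) [AddCommGroup X] [AddCommGroup X']
    [Module F X] [Module F X'] [FiniteDimensional F X] [FiniteDimensional F X'] :
    ∀ i, FiniteDimensional F (bd2uniqb_V X X' i) :=
  Fin.cases (motive := fun i => FiniteDimensional F (bd2uniqb_V X X' i))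
    (inferInstanceAs (FiniteDimensional F X)) (fun _ => inferInstanceAs (FiniteDimensional F X'))

noncomputable def bd2uniqb_rep {F : Type*} [Field F] {H : Type*} [Group H] {X X' : Type v}
    [AddCommGroup X] [AddCommGroup X'] [Module F X] [Module F X']
    (ρ : Representation F H X) (ρ' : Representation F H X') :
    ∀ i, Representation F H (bd2uniqb_V X X' i) :=
  Fin.cases (motive := fun i => Representation F H (bd2uniqb_V X X' i)) ρ (fun _ => ρ')

end two

section root

variable {G : Type u} [Group G] [Fintype G] {M : Ideal Cfsg.AlgInt} {p : ℕ} [Fact p.Prime]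
  {P : Sylow p G} {B : Set (Cfsg.IrrCharacter G)}
  {b : Set (Cfsg.IrrCharacter (Subgroup.centralizer ((P : Subgroup G) : Set G)))}
  {θ : Cfsg.IrrCharacter (Subgroup.centralizer ((P : Subgroup G) : Set G))} {T : Subgroup G}

/-- the block `b` has rank one -/
theorem bd2uniqb_rank (h : RootHyp p M P B b θ T) : Cfsg.blockRank p b = 1 := by
  classical
  have hPC : (P : Subgroup G) ≤ Subgroup.centralizer ((P : Subgroup G) : Set G) :=
    bdchars_le_centralizer (P : Subgroup G) h.card_P
  have hPg : IsPGroup p (P : Subgroup G) := P.isPGroup'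
  have hD : Cfsg.IsDefectGroup p M b
      ((P : Subgroup G).subgroupOf (Subgroup.centralizer ((P : Subgroup G) : Set G))) :=
    Cfsg.Agent.Lib.Helper24.ci_defect h.hM B (P : Subgroup G) h.hBP hPg
      (Subgroup.centralizer ((P : Subgroup G) : Set G)) hPC le_rfl b h.hind
  apply Cfsg.Agent.Lib.Helper25.cd_main p M h.hM b h.hind.1 _ hD
  intro y hy
  rw [Subgroup.mem_center_iff]
  intro c
  have hy' : (y : G) ∈ (P : Subgroup G) := hy
  have hc := c.2
  rw [Subgroup.mem_centralizer_iff] at hc
  apply Subtype.ext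
  exact (hc (y : G) hy').symm

variable [Fintype ↥(Subgroup.centralizer ((P : Subgroup G) : Set G))]
  [Fintype ↥(Subgroup.normalizer ((P : Subgroup G) : Set G))]

attribute [local instance] bd2uniqb_acg bd2uniqb_mod

/-- M7' = UNIQB : the block `b` of `C` has a unique simple module -/
theorem root_simple_unique (h : RootHyp p M P B b θ T) (hMp : M.IsPrime)
    {X : Type v} [AddCommGroup X] [Module (h7_resRing M hMp) X] [FiniteDimensional (h7_resRing M hMp) X]
    {X' : Type v} [AddCommGroup X'] [Module (h7_resRing M hMp) X']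
    [FiniteDimensional (h7_resRing M hMp) X']
    (ρ : Representation (h7_resRing M hMp) ↥(Subgroup.centralizer ((P : Subgroup G) : Set G)) X)
    (ρ' : Representation (h7_resRing M hMp) ↥(Subgroup.centralizer ((P : Subgroup G) : Set G)) X')
    [ρ.IsIrreducible] [ρ'.IsIrreducible]
    (h1 : ∑ c : ↥(Subgroup.centralizer ((P : Subgroup G) : Set G)), eBar hMp b c • ρ c = LinearMap.id)
    (h2 : ∑ c : ↥(Subgroup.centralizer ((P : Subgroup G) : Set G)), eBar hMp b c • ρ' c = LinearMap.id) :
    IsIso ρ ρ' := by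
  by_contra hne
  have hM := h.hM
  haveI : IsAlgClosed (h7_resRing M hM.2.1.isPrime) :=
    Cfsg.Agent.Lib.Helper21.Br.resRing_isAlgClosed hM
  have hne' : ¬ IsIso ρ' ρ := by
    rintro ⟨e, he⟩
    apply hne
    refine ⟨e.symm, fun g => ?_⟩
    ext x
    have := LinearMap.congr_fun (he g) (e.symm x)
    simp only [LinearMap.coe_comp, LinearEquiv.coe_coe, Function.comp_apply,
      LinearEquiv.apply_symm_apply] at this ⊢
    rw [← this, LinearEquiv.symm_apply_apply]
  haveI iF : ∀ i, FiniteDimensional (h7_resRing M hM.2.1.isPrime) (bd2uniqb_V X X' i) :=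
    bd2uniqb_fd (h7_resRing M hMp) X X'
  have hirr : ∀ i, (bd2uniqb_rep ρ ρ' i).IsIrreducible :=
    Fin.cases (motive := fun i => (bd2uniqb_rep ρ ρ' i).IsIrreducible)
      (inferInstanceAs ρ.IsIrreducible) (fun _ => inferInstanceAs ρ'.IsIrreducible)
  have hne2 : ∀ i j, i ≠ j → ¬ IsIso (bd2uniqb_rep ρ ρ' i) (bd2uniqb_rep ρ ρ' j) := by
    intro i j hij
    fin_cases i <;> fin_cases j
    · exact absurd rfl hij
    · exact hne
    · exact hne'
    · exact absurd rfl hij
  have hblock : ∀ i, ∑ g : ↥(Subgroup.centralizer ((P : Subgroup G) : Set G)),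
      eBar hM.2.1.isPrime b g • bd2uniqb_rep ρ ρ' i g = LinearMap.id :=
    Fin.cases (motive := fun i => ∑ g : ↥(Subgroup.centralizer ((P : Subgroup G) : Set G)),
      eBar hM.2.1.isPrime b g • bd2uniqb_rep ρ ρ' i g = LinearMap.id) h1 (fun _ => h2)
  have hle := card_le_blockRank hM b h.hind.1 (bd2uniqb_V X X') (bd2uniqb_rep ρ ρ')
    (trace_linearIndependent (bd2uniqb_V X X') (bd2uniqb_rep ρ ρ') hirr hne2) hblock
  rw [bd2uniqb_rank h] at hle
  omega

end root

end Cfsg.Agent.Lib.helper7.BD
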