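import Mathlib
import Cfsg.Agent.Lib.helper15.PSL.Defs
import Cfsg.Agent.Lib.helper23.BRCLS

/-!
# Project PSL, piece CL1 : the conjugates of `a ∈ P ∖ 1` inside `P` form an `N_G(P)`-orbit of
`|N_G(P) : C_G(P)|` elements
-/

set_option autoImplicit false
set_option linter.unusedVariables false
set_option linter.unusedSectionVars false
open scoped ComplexConjugate
open Classical

namespace Cfsg.Agent.Lib.helper15.PSL

open Cfsg.Agent.Lib.helper7 Cfsg.Agent.Lib.helper7.BR Cfsg.Agent.Lib.helper2 Cfsg.Agent.Lib.Helper25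
  Cfsg.Agent.Lib.Helper29 Cfsg.Agent.Lib.helper15.BH

universe u

variable {G : Type u} [Group G] [Fintype G] {p : ℕ} [Fact p.Prime]

/-- a non-trivial element of `P` generates `P` -/
theorem pslcl1_zpowers (P : Sylow p G) (hP : Nat.card ↥(P : Subgroup G) = p) (x : G)
    (hx : x ∈ (P : Subgroup G)) (hx1 : x ≠ 1) : Subgroup.zpowers x = (P : Subgroup G) := by
  have hx1' : (⟨x, hx⟩ : ↥(P : Subgroup G)) ≠ 1 := by
    intro h1
    exact hx1 (congrArg Subtype.val h1)
  have htop : Subgroup.zpowers (⟨x, hx⟩ : ↥(P : Subgroup G)) = ⊤ :=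
    zpowers_eq_top_of_prime_card hP hx1'
  apply le_antisymm
  · exact (Subgroup.zpowers_le).mpr hx
  · intro y hy
    have hmem : (⟨y, hy⟩ : ↥(P : Subgroup G)) ∈ Subgroup.zpowers (⟨x, hx⟩ : ↥(P : Subgroup G)) := by
      rw [htop]
      exact Subgroup.mem_top _
    obtain ⟨k, hk⟩ := Subgroup.mem_zpowers_iff.mp hmem
    have hyk : y = x ^ k := by
      have := congrArg Subtype.val hk
      simpa using this.symm
    rw [hyk]
    exact Subgroup.zpow_mem_zpowers x k

/-- an element conjugating `a ∈ P ∖ 1` into `P` normalizes `P` -/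
theorem pslcl1_mem_nrm (P : Sylow p G) (hP : Nat.card ↥(P : Subgroup G) = p) (a : G)
    (ha : a ∈ (P : Subgroup G)) (ha1 : a ≠ 1) (g : G) (hg : g * a * g⁻¹ ∈ (P : Subgroup G)) :
    g ∈ nrm P := by
  have hb1 : g * a * g⁻¹ ≠ 1 := by
    intro h
    apply ha1
    have : a = g⁻¹ * (g * a * g⁻¹) * g := by group
    rw [this, h]
    group
  have hPa := pslcl1_zpowers P hP a ha ha1
  have hPb := pslcl1_zpowers P hP (g * a * g⁻¹) hg hb1
  have hpow : ∀ k : ℤ, g * a ^ k * g⁻¹ = (g * a * g⁻¹) ^ k := by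
    intro k
    rw [conj_zpow]
  change g ∈ Subgroup.normalizer ((P : Subgroup G) : Set G)
  rw [Subgroup.mem_normalizer_iff]
  intro h
  constructor
  · intro hh
    have : h ∈ Subgroup.zpowers a := by rw [hPa]; exact hh
    obtain ⟨k, hk⟩ := Subgroup.mem_zpowers_iff.mp this
    rw [← hk, hpow k, ← hPb]
    exact Subgroup.zpow_mem_zpowers _ k
  · intro hh
    have : g * h * g⁻¹ ∈ Subgroup.zpowers (g * a * g⁻¹) := by rw [hPb]; exact hh
    obtain ⟨k, hk⟩ := Subgroup.mem_zpowers_iff.mp this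
    rw [← hpow k] at hk
    have hh' : h = a ^ k := by
      have h1 : g⁻¹ * (g * a ^ k * g⁻¹) * g = g⁻¹ * (g * h * g⁻¹) * g := by rw [hk]
      have h2 : g⁻¹ * (g * a ^ k * g⁻¹) * g = a ^ k := by group
      have h3 : g⁻¹ * (g * h * g⁻¹) * g = h := by group
      rw [h2, h3] at h1
      exact h1.symm
    rw [hh', ← hPa]
    exact Subgroup.zpow_mem_zpowers _ k

/-- CL1 : the conjugates of `a ∈ P ∖ 1` inside `P` form an `N_G(P)`-orbit of `|N_G(P) : C_G(P)|` elements -/
theorem card_conj_in_P (P : Sylow p G) (hP : Nat.card ↥(P : Subgroup G) = p) (a : G)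
    (ha : a ∈ (P : Subgroup G)) (ha1 : a ≠ 1) :
    ((Finset.univ : Finset ↥(P : Subgroup G)).filter (fun b => IsConj a (b : G))).card =
      (cen P).relIndex (nrm P) := by
  letI act : MulAction ↥(nrm P) G :=
    MulAction.compHom G ((MulAut.conj : G →* MulAut G).comp (nrm P).subtype)
  have hsmul : ∀ (n : ↥(nrm P)) (g : G), n • g = (n : G) * g * (n : G)⁻¹ := fun n g => rfl
  have hstab : MulAction.stabilizer ↥(nrm P) a = (cen P).subgroupOf (nrm P) := by
    ext n
    rw [MulAction.mem_stabilizer_iff, hsmul, Subgroup.mem_subgroupOf,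
      ← centralizer_eq_cen P hP a ha ha1, Subgroup.mem_centralizer_singleton_iff]
    constructor
    · intro h
      have : (n : G) * a = (n : G) * a * (n : G)⁻¹ * (n : G) := by group
      rw [this, h]
    · intro h
      rw [h]
      group
  have horb : MulAction.orbit ↥(nrm P) a =
      Subtype.val '' (((Finset.univ : Finset ↥(P : Subgroup G)).filter
        (fun b => IsConj a (b : G)) : Finset ↥(P : Subgroup G)) : Set ↥(P : Subgroup G)) := by
    ext b
    constructor
    · rintro ⟨n, rfl⟩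
      have hmem : (n : G) * a * (n : G)⁻¹ ∈ (P : Subgroup G) := by
        have hn := n.2
        change (n : G) ∈ Subgroup.normalizer ((P : Subgroup G) : Set G) at hn
        rw [Subgroup.mem_normalizer_iff] at hn
        exact (hn a).mp ha
      refine ⟨⟨(n : G) * a * (n : G)⁻¹, hmem⟩, ?_, rfl⟩
      simp only [Finset.coe_filter, Finset.mem_univ, true_and, Set.mem_setOf_eq]
      exact isConj_iff.mpr ⟨(n : G), rfl⟩
    · rintro ⟨⟨b', hb'⟩, hb, rfl⟩
      simp only [Finset.coe_filter, Finset.mem_univ, true_and, Set.mem_setOf_eq] at hb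
      obtain ⟨g, hg⟩ := isConj_iff.mp hb
      have hgn : g ∈ nrm P := pslcl1_mem_nrm P hP a ha ha1 g (by rw [hg]; exact hb')
      exact ⟨⟨g, hgn⟩, hg⟩
  have h1 := MulAction.index_stabilizer ↥(nrm P) a
  rw [hstab, horb, Set.ncard_image_of_injective _ Subtype.val_injective, Set.ncard_coe_finset] at h1
  rw [Subgroup.relIndex, h1]
  have hE : ((Finset.univ : Finset ↥(P : Subgroup G)).filter (fun b => IsConj a (b : G))) =
      ((Finset.univ : Finset ↥(P : Subgroup G)).filter (fun b : ↥(P : Subgroup G) =>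
        IsConj a (b : G))).image Subtype.val := by
    ext b
    simp only [Finset.mem_filter, Finset.bind_def, Finset.pure_def, Finset.mem_sup, Finset.mem_univ,
      true_and, Finset.mem_singleton, Finset.mem_image]
    constructor
    · rintro ⟨⟨v, hv⟩, hb⟩
      exact ⟨v, by rw [← hv]; exact hb, hv.symm⟩
    · rintro ⟨v, hv, rfl⟩
      exact ⟨⟨v, rfl⟩, hv⟩
  rw [hE, Finset.card_image_of_injective _ Subtype.val_injective]

end Cfsg.Agent.Lib.helper15.PSL
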