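import Mathlib
import Cfsg.Agent.Lib.helper15.PSL.Defs
import Cfsg.Agent.Lib.Helper13.PSLCL1

/-!
# Project PSL, pieces EXB and TWOCLASS : `P ∖ 1` consists of two classes of `f` elements
-/

set_option autoImplicit false
set_option linter.unusedVariables false
set_option linter.unusedSectionVars false
open scoped ComplexConjugate
open Classical

namespace Cfsg.Agent.Lib.helper15.PSL

open Cfsg.Agent.Lib.helper7 Cfsg.Agent.Lib.helper7.BR Cfsg.Agent.Lib.helper2 Cfsg.Agent.Lib.Helper25
  Cfsg.Agent.Lib.Helper29 Cfsg.Agent.Lib.helper15.BH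

universe u

variable {G : Type u} [Group G] [Fintype G] {p : ℕ} [Fact p.Prime]

/-- CL1 for the finset of the subtype -/
theorem pslexb_card (P : Sylow p G) (hP : Nat.card ↥(P : Subgroup G) = p) (a : G)
    (ha : a ∈ (P : Subgroup G)) (ha1 : a ≠ 1) :
    ((Finset.univ : Finset ↥(P : Subgroup G)).filter (fun b : ↥(P : Subgroup G) =>
      IsConj a (b : G))).card = (cen P).relIndex (nrm P) := by
  rw [← card_conj_in_P P hP a ha ha1]
  have hE : ((Finset.univ : Finset ↥(P : Subgroup G)).filter (fun b => IsConj a (b : G))) =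
      ((Finset.univ : Finset ↥(P : Subgroup G)).filter (fun b : ↥(P : Subgroup G) =>
        IsConj a (b : G))).image Subtype.val := by
    ext b
    simp only [Finset.mem_filter, Finset.bind_def, Finset.pure_def, Finset.mem_sup, Finset.mem_univ,
      true_and, Finset.mem_singleton, Finset.mem_image]
    constructor
    · rintro ⟨⟨v, hv⟩, hb⟩
      exact ⟨v, by rw [← hv]; exact hb, hv.symm⟩
    · rintro ⟨v, hv, rfl⟩
      exact ⟨⟨v, rfl⟩, hv⟩
  rw [hE, Finset.card_image_of_injective _ Subtype.val_injective]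

/-- the number of non-trivial elements of `P` -/
theorem pslexb_card_ne_one (P : Sylow p G) (hP : Nat.card ↥(P : Subgroup G) = p) :
    ((Finset.univ : Finset ↥(P : Subgroup G)).filter (fun b : ↥(P : Subgroup G) =>
      (b : G) ≠ 1)).card = p - 1 := by
  have h1 : ((Finset.univ : Finset ↥(P : Subgroup G)).filter (fun b : ↥(P : Subgroup G) =>
      (b : G) ≠ 1)) = Finset.univ.erase (1 : ↥(P : Subgroup G)) := by
    ext b
    simp only [Finset.mem_filter, Finset.mem_univ, true_and, Finset.mem_erase, and_true, ne_eq]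
    constructor
    · intro h h'
      exact h (by rw [h']; rfl)
    · intro h h'
      exact h (Subtype.ext h')
  rw [h1, Finset.card_erase_of_mem (Finset.mem_univ _), Finset.card_univ, ← Nat.card_eq_fintype_card, hP]

/-- EXB : a non-conjugate element of `P ∖ 1` -/
theorem exists_nonconj {f : ℕ} {P : Sylow p G} (hL : Loc p f P) (a : G) (ha : a ∈ (P : Subgroup G))
    (ha1 : a ≠ 1) : ∃ b ∈ (P : Subgroup G), b ≠ 1 ∧ ¬ IsConj a b := by
  by_contra hcon
  push_neg at hcon
  have hsub : ((Finset.univ : Finset ↥(P : Subgroup G)).filter (fun b : ↥(P : Subgroup G) =>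
      (b : G) ≠ 1)) ⊆ ((Finset.univ : Finset ↥(P : Subgroup G)).filter (fun b : ↥(P : Subgroup G) =>
      IsConj a (b : G))) := by
    intro b hb
    simp only [Finset.mem_filter, Finset.mem_univ, true_and] at hb ⊢
    exact hcon (b : G) b.2 hb
  have hle := Finset.card_le_card hsub
  rw [pslexb_card_ne_one P hL.cardP, pslexb_card P hL.cardP a ha ha1, hL.relIndex] at hle
  have h1 := hL.two_f
  have h2 := hL.f_ge
  omega

/-- TWOCLASS : `P ∖ 1` consists of two classes of `f` elements -/
theorem two_class {f : ℕ} {P : Sylow p G} (hL : Loc p f P) (F : G → ℂ)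
    (hF : Cfsg.IsClassFunction G F) (a b : G) (ha : a ∈ (P : Subgroup G)) (ha1 : a ≠ 1)
    (hb : b ∈ (P : Subgroup G)) (hb1 : b ≠ 1) (hab : ¬ IsConj a b) :
    ∑ x : ↥(P : Subgroup G), (if (x : G) = 1 then 0 else F (x : G)) =
      (f : ℂ) * F a + (f : ℂ) * F b := by
  set A : Finset ↥(P : Subgroup G) := (Finset.univ : Finset ↥(P : Subgroup G)).filter
    (fun x : ↥(P : Subgroup G) => IsConj a (x : G)) with hA
  set B : Finset ↥(P : Subgroup G) := (Finset.univ : Finset ↥(P : Subgroup G)).filter
    (fun x : ↥(P : Subgroup G) => IsConj b (x : G)) with hB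
  set T : Finset ↥(P : Subgroup G) := (Finset.univ : Finset ↥(P : Subgroup G)).filter
    (fun x : ↥(P : Subgroup G) => (x : G) ≠ 1) with hT
  have hcA : A.card = f := by rw [hA, pslexb_card P hL.cardP a ha ha1, hL.relIndex]
  have hcB : B.card = f := by rw [hB, pslexb_card P hL.cardP b hb hb1, hL.relIndex]
  have hcT : T.card = p - 1 := pslexb_card_ne_one P hL.cardP
  have hdisj : Disjoint A B := by
    rw [Finset.disjoint_left]
    intro x hxA hxB
    simp only [hA, hB, Finset.mem_filter, Finset.mem_univ, true_and] at hxA hxB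
    exact hab (hxA.trans hxB.symm)
  have hne : ∀ c : G, c ≠ 1 → ∀ x : G, IsConj c x → x ≠ 1 := by
    intro c hc x hcx hx1
    rw [hx1] at hcx
    exact hc (isConj_one_left.mp hcx)
  have hsub : A ∪ B ⊆ T := by
    intro x hx
    rw [Finset.mem_union] at hx
    simp only [hT, Finset.mem_filter, Finset.mem_univ, true_and]
    rcases hx with hx | hx
    · simp only [hA, Finset.mem_filter, Finset.mem_univ, true_and] at hx
      exact hne a ha1 _ hx
    · simp only [hB, Finset.mem_filter, Finset.mem_univ, true_and] at hx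
      exact hne b hb1 _ hx
  have hTeq : A ∪ B = T := by
    apply Finset.eq_of_subset_of_card_le hsub
    rw [Finset.card_union_of_disjoint hdisj, hcA, hcB, hcT]
    have h1 := hL.two_f
    omega
  have hconjF : ∀ c x : G, IsConj c x → F x = F c := by
    intro c x hcx
    obtain ⟨g, hg⟩ := isConj_iff.mp hcx
    rw [← hg]
    exact hF c g
  have hsumT : ∑ x : ↥(P : Subgroup G), (if (x : G) = 1 then 0 else F (x : G)) =
      ∑ x ∈ T, F (x : G) := by
    rw [hT, Finset.sum_filter]
    apply Finset.sum_congr rfl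
    intro x _
    by_cases hx : (x : G) = 1
    · simp [hx]
    · simp [hx]
  rw [hsumT, ← hTeq, Finset.sum_union hdisj]
  have hsA : ∑ x ∈ A, F (x : G) = (f : ℂ) * F a := by
    have h1 : ∑ x ∈ A, F (x : G) = ∑ x ∈ A, F a := by
      apply Finset.sum_congr rfl
      intro x hx
      rw [hA, Finset.mem_filter] at hx
      exact hconjF a (x : G) hx.2
    rw [h1, Finset.sum_const, hcA, nsmul_eq_mul]
  have hsB : ∑ x ∈ B, F (x : G) = (f : ℂ) * F b := by
    have h1 : ∑ x ∈ B, F (x : G) = ∑ x ∈ B, F b := by
      apply Finset.sum_congr rfl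
      intro x hx
      rw [hB, Finset.mem_filter] at hx
      exact hconjF b (x : G) hx.2
    rw [h1, Finset.sum_const, hcB, nsmul_eq_mul]
  rw [hsA, hsB]

end Cfsg.Agent.Lib.helper15.PSL
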