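import Mathlib

/-!
# Project PSL, piece COUNT2 : the counting argument (pure arithmetic)
-/

set_option autoImplicit false
set_option linter.unusedVariables false
set_option linter.unusedSectionVars false

namespace Cfsg.Agent.Lib.helper15.PSL

/-- the equality case of `card * m ≤ ∑ g` -/
theorem pslcount2_eq {ι : Type*} (s : Finset ι) (g : ι → ℕ) (m : ℕ) (h : ∀ i ∈ s, m ≤ g i)
    (hs : ∑ i ∈ s, g i ≤ s.card * m) : ∀ i ∈ s, g i = m := by
  have h1 : ∑ i ∈ s, g i = s.card * m + ∑ i ∈ s, (g i - m) := by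
    rw [← smul_eq_mul, ← Finset.sum_const, ← Finset.sum_add_distrib]
    apply Finset.sum_congr rfl
    intro i hi
    have := h i hi
    omega
  have h2 : ∑ i ∈ s, (g i - m) = 0 := by omega
  intro i hi
  have h3 := (Finset.sum_eq_zero_iff.mp h2) i hi
  have h4 := h i hi
  omega

/-- the arithmetic core of COUNT2: `c' + 1` plus signs, `r` minus signs, `S` the degree sum of the plus signs other
than the principal character -/
theorem pslcount2_arith (f c' r S D : ℕ) (ε : ℤ) (hf2 : 2 ≤ f) (hcr : c' + 1 + r = f)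
    (hlow : c' * (2 * f + 2) ≤ S) (hε : ε = 1 ∨ ε = -1)
    (hrel : ε * (D : ℤ) = 1 + (S : ℤ) - (r : ℤ) * (2 * f))
    (hr : r * (2 * f) ≤ f ^ 2) (hD1 : ε = 1 → D = f) (hD2 : ε = -1 → f + 1 ≤ D)
    (hW : 1 + S + (if ε = -1 then D else 0) ≤ f ^ 2) :
    S = c' * (2 * f + 2) ∧
    ((ε = 1 ∧ 2 * (c' + 1) = f + 1 ∧ 1 + S = f ^ 2) ∨
     (ε = -1 ∧ D = f + 1 ∧ 2 * (c' + 1) = f ∧ 1 + S + D = f ^ 2 ∧ r * (2 * f) = f ^ 2)) := by
  have hfpos : (0 : ℤ) < 2 * f + 1 := by positivity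
  have hc' : (c' : ℤ) = f - 1 - r := by
    have : ((c' + 1 + r : ℕ) : ℤ) = (f : ℤ) := by rw [hcr]
    push_cast at this
    linarith
  have hlowZ : ((c' : ℤ)) * (2 * f + 2) ≤ S := by exact_mod_cast hlow
  have hrZ : (r : ℤ) * (2 * f) ≤ (f : ℤ) ^ 2 := by exact_mod_cast hr
  have h2r : 2 * (r : ℤ) ≤ f := by
    have h1 : (f : ℤ) * (2 * r) ≤ f * f := by nlinarith
    have hf0 : (0 : ℤ) < f := by exact_mod_cast (by omega : 0 < f)
    exact le_of_mul_le_mul_left h1 hf0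
  rcases hε with h1 | h1
  · -- ε = 1
    have hD := hD1 h1
    rw [h1, hD, one_mul] at hrel
    have hne : ¬ ((1 : ℤ) = -1) := by norm_num
    rw [h1, if_neg hne, add_zero] at hW
    have hWZ : 1 + (S : ℤ) ≤ (f : ℤ) ^ 2 := by exact_mod_cast hW
    -- 1 + 2 r ≤ f
    have h3 : 1 + 2 * (r : ℤ) ≤ f := by
      have h4 : (f : ℤ) * (1 + 2 * r) ≤ f * f := by nlinarith
      have hf0 : (0 : ℤ) < f := by exact_mod_cast (by omega : 0 < f)
      exact le_of_mul_le_mul_left h4 hf0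
    -- f - 1 ≤ 2 r
    have h5 : (f : ℤ) - 1 ≤ 2 * r := by
      have h6 : (2 * (f : ℤ) + 1) * (f - 1) ≤ (2 * f + 1) * (2 * r) := by
        rw [hc'] at hlowZ
        nlinarith
      exact le_of_mul_le_mul_left h6 hfpos
    have h7 : 2 * (r : ℤ) = f - 1 := by linarith
    have hS : (S : ℤ) = (f : ℤ) ^ 2 - 1 := by nlinarith
    have hc2 : 2 * (c' : ℤ) = f - 1 := by linarith
    refine ⟨?_, Or.inl ⟨h1, ?_, ?_⟩⟩
    · have : (S : ℤ) = (c' : ℤ) * (2 * f + 2) := by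
        rw [hS]
        have : (f : ℤ) = 2 * c' + 1 := by linarith
        rw [this]
        ring
      exact_mod_cast this
    · have : 2 * ((c' : ℤ) + 1) = f + 1 := by linarith
      exact_mod_cast this
    · have : 1 + (S : ℤ) = (f : ℤ) ^ 2 := by linarith
      exact_mod_cast this
  · -- ε = -1
    have hD := hD2 h1
    rw [h1] at hrel
    rw [h1, if_pos rfl] at hW
    have hWZ : 1 + (S : ℤ) + D ≤ (f : ℤ) ^ 2 := by exact_mod_cast hW
    have hDZ : (f : ℤ) + 1 ≤ D := by exact_mod_cast hD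
    -- f ≤ 2 r
    have h5 : (f : ℤ) ≤ 2 * r := by
      have h6 : (2 * (f : ℤ) + 1) * f ≤ (2 * f + 1) * (2 * r) := by
        rw [hc'] at hlowZ
        nlinarith
      exact le_of_mul_le_mul_left h6 hfpos
    have h7 : 2 * (r : ℤ) = f := by linarith
    have hSD : 1 + (S : ℤ) + D = (f : ℤ) ^ 2 := by nlinarith
    have hc2 : 2 * (c' : ℤ) = f - 2 := by linarith
    have hfe : (f : ℤ) = 2 * c' + 2 := by linarith
    have hDle : (D : ℤ) ≤ f + 1 := by
      rw [hc'] at hlowZ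
      nlinarith
    have hDeq : (D : ℤ) = f + 1 := le_antisymm hDle hDZ
    refine ⟨?_, Or.inr ⟨h1, ?_, ?_, ?_, ?_⟩⟩
    · have : (S : ℤ) = (c' : ℤ) * (2 * f + 2) := by
        have h8 : (S : ℤ) = (f : ℤ) ^ 2 - 1 - (f + 1) := by linarith
        rw [h8, hfe]
        ring
      exact_mod_cast this
    · exact_mod_cast hDeq
    · have : 2 * ((c' : ℤ) + 1) = f := by linarith
      exact_mod_cast this
    · exact_mod_cast hSD
    · have : (r : ℤ) * (2 * f) = (f : ℤ) ^ 2 := by nlinarith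
      exact_mod_cast this

/-- COUNT2 : the counting argument -/
theorem count_two (p f : ℕ) (hpf : 2 * f + 1 = p) (hf2 : 2 ≤ f) {ι : Type*} [DecidableEq ι]
    (X : Finset ι) (t0 : ι) (ht0 : t0 ∈ X) (hX : X.card = f) (a : ι → ℤ)
    (ha : ∀ i ∈ X, a i = 1 ∨ a i = -1) (deg : ι → ℕ) (hdeg0 : deg t0 = 1) (ha0 : a t0 = 1)
    (hminus : ∀ i ∈ X, a i = -1 → deg i + 1 = p)
    (hplus : ∀ i ∈ X, a i = 1 → i ≠ t0 → p + 1 ≤ deg i)
    (ε : ℤ) (hε : ε = 1 ∨ ε = -1) (D : ℕ) (hrel : ε * (D : ℤ) = ∑ i ∈ X, a i * (deg i : ℤ))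
    (hr : (X.filter (fun i => a i = -1)).card * (p - 1) ≤ f ^ 2)
    (hD1 : ε = 1 → D = f) (hD2 : ε = -1 → f + 1 ≤ D)
    (hW : ∑ i ∈ X.filter (fun i => a i = 1), deg i + (if ε = -1 then D else 0) ≤ f ^ 2) :
    (∀ i ∈ X, a i = 1 → i ≠ t0 → deg i = p + 1) ∧
    ((ε = 1 ∧ 2 * (X.filter (fun i => a i = 1)).card = f + 1 ∧
        ∑ i ∈ X.filter (fun i => a i = 1), deg i = f ^ 2) ∨
     (ε = -1 ∧ D = f + 1 ∧ 2 * (X.filter (fun i => a i = 1)).card = f ∧
        ∑ i ∈ X.filter (fun i => a i = 1), deg i + D = f ^ 2 ∧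
        (X.filter (fun i => a i = -1)).card * (p - 1) = f ^ 2)) := by
  set Xp := X.filter (fun i => a i = 1) with hXp
  set Xm := X.filter (fun i => a i = -1) with hXm
  have hXm' : Xm = X.filter (fun i => ¬ a i = 1) := by
    rw [hXm]
    apply Finset.filter_congr
    intro i hi
    rcases ha i hi with h | h
    · simp [h]
    · simp [h]
  have hpm : Xp.card + Xm.card = f := by
    rw [← hX, hXm', hXp, Finset.card_filter_add_card_filter_not]
  have ht0p : t0 ∈ Xp := by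
    rw [hXp, Finset.mem_filter]
    exact ⟨ht0, ha0⟩
  have hsplit : ∑ i ∈ X, a i * (deg i : ℤ) =
      ((∑ i ∈ Xp, deg i : ℕ) : ℤ) - ((∑ i ∈ Xm, deg i : ℕ) : ℤ) := by
    rw [← Finset.sum_filter_add_sum_filter_not X (fun i => a i = 1), ← hXp, ← hXm']
    have e1 : ∑ i ∈ Xp, a i * (deg i : ℤ) = ((∑ i ∈ Xp, deg i : ℕ) : ℤ) := by
      rw [Nat.cast_sum]
      apply Finset.sum_congr rfl
      intro i hi
      rw [hXp, Finset.mem_filter] at hi
      rw [hi.2, one_mul]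
    have e2 : ∑ i ∈ Xm, a i * (deg i : ℤ) = -((∑ i ∈ Xm, deg i : ℕ) : ℤ) := by
      rw [Nat.cast_sum, ← Finset.sum_neg_distrib]
      apply Finset.sum_congr rfl
      intro i hi
      rw [hXm, Finset.mem_filter] at hi
      rw [hi.2]
      ring
    rw [e1, e2]
    ring
  have hSm : ∑ i ∈ Xm, deg i = Xm.card * (p - 1) := by
    have e : ∑ i ∈ Xm, deg i = ∑ i ∈ Xm, (p - 1) := by
      apply Finset.sum_congr rfl
      intro i hi
      rw [hXm, Finset.mem_filter] at hi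
      have := hminus i hi.1 hi.2
      omega
    rw [e, Finset.sum_const, smul_eq_mul]
  have hSp : ∑ i ∈ Xp, deg i = 1 + ∑ i ∈ Xp.erase t0, deg i := by
    rw [← Finset.add_sum_erase Xp deg ht0p, hdeg0]
  have hce : (Xp.erase t0).card + 1 = Xp.card := by
    rw [Finset.card_erase_of_mem ht0p]
    have : 0 < Xp.card := Finset.card_pos.mpr ⟨t0, ht0p⟩
    omega
  have hge : ∀ i ∈ Xp.erase t0, 2 * f + 2 ≤ deg i := by
    intro i hi
    rw [Finset.mem_erase, hXp, Finset.mem_filter] at hi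
    have := hplus i hi.2.1 hi.2.2 hi.1
    omega
  have hlow : (Xp.erase t0).card * (2 * f + 2) ≤ ∑ i ∈ Xp.erase t0, deg i := by
    have := Finset.card_nsmul_le_sum (Xp.erase t0) deg (2 * f + 2) hge
    rwa [smul_eq_mul] at this
  have hp1 : p - 1 = 2 * f := by omega
  rw [hp1] at hr hSm
  rw [hsplit, hSm, hSp] at hrel
  rw [hSp] at hW
  obtain ⟨hS, hcase⟩ := pslcount2_arith f (Xp.erase t0).card Xm.card (∑ i ∈ Xp.erase t0, deg i) D ε hf2
    (by omega) hlow hε (by rw [hrel]; push_cast; ring) hr hD1 hD2 hW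
  constructor
  · intro i hi hai hit
    have hmem : i ∈ Xp.erase t0 := by
      rw [Finset.mem_erase, hXp, Finset.mem_filter]
      exact ⟨hit, hi, hai⟩
    have := pslcount2_eq (Xp.erase t0) deg (2 * f + 2) hge (by rw [hS]) i hmem
    omega
  · rw [hp1, hSp, ← hce]
    rcases hcase with ⟨h1, h2, h3⟩ | ⟨h1, h2, h3, h4, h5⟩
    · exact Or.inl ⟨h1, h2, h3⟩
    · exact Or.inr ⟨h1, h2, h3, h4, h5⟩

end Cfsg.Agent.Lib.helper15.PSL
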