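import Mathlib
import Cfsg.Agent.Lib.helper15.PSL.Defs
import Cfsg.Agent.Lib.Helper13.PSLCL1

/-!
# Project PSL, piece PERF : `G` is perfect
-/

set_option autoImplicit false
set_option linter.unusedVariables false
set_option linter.unusedSectionVars false
open scoped ComplexConjugate
open scoped commutatorElement
open Classical

namespace Cfsg.Agent.Lib.helper15.PSL

open Cfsg.Agent.Lib.helper7 Cfsg.Agent.Lib.helper7.BR Cfsg.Agent.Lib.helper2 Cfsg.Agent.Lib.Helper25
  Cfsg.Agent.Lib.Helper29 Cfsg.Agent.Lib.helper15.BH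

universe u

variable {G : Type u} [Group G] [Fintype G] {p : ℕ} [Fact p.Prime]

/-- PERF : `G` is perfect -/
theorem perfect_of_noK (P : Sylow p G) (hP : Nat.card ↥(P : Subgroup G) = p)
    (hnoK : ∀ K : Subgroup G, K.Normal → (P : Subgroup G) ≤ K → K = ⊤)
    (hf : 1 < (cen P).relIndex (nrm P)) : commutator G = ⊤ := by
  apply hnoK (commutator G) inferInstance
  -- an element of the normalizer not centralizing `P`
  have hnle : ¬ nrm P ≤ cen P := by
    intro hle
    have := (Subgroup.relIndex_eq_one).mpr hle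
    omega
  obtain ⟨n, hn, hnc⟩ := SetLike.not_le_iff_exists.mp hnle
  have hnc' : ∃ x ∈ (P : Subgroup G), x * n ≠ n * x := by
    by_contra hcon
    push_neg at hcon
    apply hnc
    change n ∈ Subgroup.centralizer ((P : Subgroup G) : Set G)
    rw [Subgroup.mem_centralizer_iff]
    intro x hx
    exact hcon x hx
  obtain ⟨x, hx, hxn⟩ := hnc'
  have hconj : n * x * n⁻¹ ∈ (P : Subgroup G) := by
    change n ∈ Subgroup.normalizer ((P : Subgroup G) : Set G) at hn
    rw [Subgroup.mem_normalizer_iff] at hn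
    exact (hn x).mp hx
  have hcP : ⁅n, x⁆ ∈ (P : Subgroup G) := by
    rw [commutatorElement_def]
    exact (P : Subgroup G).mul_mem hconj ((P : Subgroup G).inv_mem hx)
  have hc1 : ⁅n, x⁆ ≠ 1 := by
    intro h
    apply hxn
    rw [commutatorElement_eq_one_iff_mul_comm] at h
    exact h.symm
  have hcK : ⁅n, x⁆ ∈ commutator G := by
    rw [commutator_def]
    exact Subgroup.commutator_mem_commutator (Subgroup.mem_top n) (Subgroup.mem_top x)
  rw [← pslcl1_zpowers P hP ⁅n, x⁆ hcP hc1]
  exact (Subgroup.zpowers_le).mpr hcK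

end Cfsg.Agent.Lib.helper15.PSL
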