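import Mathlib
import Cfsg.Agent.Lib.helper15.PSL.Defs
import Cfsg.Agent.Lib.Helper13.PSLCL1

/-!
# Project PSL, piece ZLEV : the centre is contained in the normal `p`-complement of `C_G(P)`, and consists of
`p`-regular elements
-/

set_option autoImplicit false
set_option linter.unusedVariables false
set_option linter.unusedSectionVars false
open scoped ComplexConjugate
open Classical

namespace Cfsg.Agent.Lib.helper15.PSL

open Cfsg.Agent.Lib.helper7 Cfsg.Agent.Lib.helper7.BR Cfsg.Agent.Lib.helper2 Cfsg.Agent.Lib.Helper25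
  Cfsg.Agent.Lib.Helper29 Cfsg.Agent.Lib.helper15.BH

universe u

variable {G : Type u} [Group G] [Fintype G] {p : ℕ} [Fact p.Prime]

/-- the centre consists of `p`-regular elements when `P` (of order `p`) is not normal -/
theorem pslzlev_reg (P : Sylow p G) (hP : Nat.card ↥(P : Subgroup G) = p)
    (hPn : ¬ (P : Subgroup G).Normal) : ∀ ζ ∈ Subgroup.center G, ¬ p ∣ orderOf ζ := by
  have hpp := (Fact.out : p.Prime)
  intro ζ hζ hdvd
  apply hPn
  obtain ⟨m, hm⟩ := hdvd
  have hm0 : m ≠ 0 := by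
    intro h0
    rw [h0, mul_zero] at hm
    exact (orderOf_pos ζ).ne' hm
  -- `ζ ^ m` has order `p` and is central
  have hord : orderOf (ζ ^ m) = p := by
    rw [orderOf_pow' ζ hm0, hm, Nat.gcd_eq_right (Dvd.intro_left p rfl)]
    exact Nat.mul_div_cancel _ (Nat.pos_of_ne_zero hm0)
  have hcen : ζ ^ m ∈ Subgroup.center G := (Subgroup.center G).pow_mem hζ m
  have hmemC : ζ ^ m ∈ Subgroup.centralizer ((P : Subgroup G) : Set G) := by
    rw [Subgroup.mem_centralizer_iff]
    intro h _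
    exact ((Subgroup.mem_center_iff.mp hcen) h)
  have hmemP : ζ ^ m ∈ (P : Subgroup G) :=
    leoc_pel hmemC (leoc_isPGroup_zpowers 1 (by rw [hord, pow_one]))
  have hne1 : ζ ^ m ≠ 1 := by
    intro h1
    rw [h1, orderOf_one] at hord
    exact hpp.one_lt.ne hord
  have hPz := pslcl1_zpowers P hP (ζ ^ m) hmemP hne1
  -- `P ≤ Z(G)` is normal
  constructor
  intro x hx g
  have hxc : x ∈ Subgroup.center G := by
    rw [← hPz] at hx
    obtain ⟨k, hk⟩ := Subgroup.mem_zpowers_iff.mp hx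
    rw [← hk]
    exact (Subgroup.center G).zpow_mem hcen k
  have : g * x * g⁻¹ = x := by
    have h1 := (Subgroup.mem_center_iff.mp hxc) g
    rw [h1]
    group
  rw [this]
  exact hx

/-- ZLEV : the centre is contained in the normal `p`-complement of `C_G(P)`, and consists of `p`-regular elements -/
theorem center_le_ker (P : Sylow p G) (hP : Nat.card ↥(P : Subgroup G) = p)
    (hPn : ¬ (P : Subgroup G).Normal) (hstar : LeoStar P)
    (π : ↥(Subgroup.centralizer ((P : Subgroup G) : Set G)) →* ↥(P : Subgroup G))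
    (hπ : ∀ x : ↥(P : Subgroup G), π (Subgroup.inclusion (leoc_P_le_C hstar) x) = x) :
    (∀ ζ ∈ Subgroup.center G, ζ ∈ kerG π) ∧ (∀ ζ ∈ Subgroup.center G, ¬ p ∣ orderOf ζ) := by
  have hpp := (Fact.out : p.Prime)
  have hreg := pslzlev_reg P hP hPn
  refine ⟨?_, hreg⟩
  intro ζ hζ
  have hmemC : ζ ∈ Subgroup.centralizer ((P : Subgroup G) : Set G) := by
    rw [Subgroup.mem_centralizer_iff]
    intro h _
    exact ((Subgroup.mem_center_iff.mp hζ) h)
  rw [mem_kerG]
  refine ⟨⟨ζ, hmemC⟩, ?_, rfl⟩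
  -- the order of `π ζ` divides `p` and `orderOf ζ`
  have h1 : orderOf (π ⟨ζ, hmemC⟩) ∣ orderOf ζ := by
    have h0 := orderOf_map_dvd π (⟨ζ, hmemC⟩ : ↥(Subgroup.centralizer ((P : Subgroup G) : Set G)))
    have e := Subgroup.orderOf_mk ζ hmemC
    rw [e] at h0
    exact h0
  have h2 : orderOf (π ⟨ζ, hmemC⟩) ∣ p := by
    have h0 : orderOf (π ⟨ζ, hmemC⟩) ∣ Nat.card ↥(P : Subgroup G) := orderOf_dvd_natCard _
    rw [hP] at h0
    exact h0
  rcases (Nat.dvd_prime hpp).mp h2 with h3 | h3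
  · exact orderOf_eq_one_iff.mp h3
  · exfalso
    rw [h3] at h1
    exact hreg ζ hζ h1

end Cfsg.Agent.Lib.helper15.PSL
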