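import Mathlib
import Cfsg.Agent.Lib.Helper22.C3L.Defs

set_option autoImplicit false
set_option linter.unusedVariables false
set_option linter.unusedSectionVars false

/-!
# Project C3L (leader helper22) -> S5886, piece N1 (helper13): `n1`, VERBATIM vs `Helper22/C3L/Skel.lean.txt`.
Extra: `c3ln1_arith`.
-/

namespace Cfsg.Agent.Lib.Helper22.C3L

open Module

variable {F K V : Type*} [Field F] [Field K] [Algebra F K] [AddCommGroup V] [Module F V] [Module K V]
  [IsScalarTower F K V]

theorem c3ln1_arith (q r k l e : ℕ) (hq : 2 ≤ q) (hr : 2 ≤ r) (h1 : k * (q - 1) = q ^ r - 1)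
    (h2 : k ≤ l) (h3 : q ^ r = l ^ e) : e = 1 := by
  obtain ⟨r', rfl⟩ : ∃ r', r = r' + 1 := ⟨r - 1, by omega⟩
  have hr' : 1 ≤ r' := by omega
  set A := q ^ r' with hA
  have hAq : q ^ (r' + 1) = A * q := pow_succ q r'
  have hA2 : q ≤ A := by
    calc q = q ^ 1 := (pow_one q).symm
      _ ≤ q ^ r' := Nat.pow_le_pow_right (by omega) hr'
  rw [hAq] at h1 h3
  have hAqA : A ≤ A * q := Nat.le_mul_of_pos_right A (by omega)
  -- k > A
  have hk : A < k := by
    by_contra hle
    push Not at hle
    have h4 : k * (q - 1) ≤ A * (q - 1) := Nat.mul_le_mul_right _ hle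
    have h5 : A * (q - 1) = A * q - A := by rw [Nat.mul_sub, mul_one]
    omega
  have hl : A < l := lt_of_lt_of_le hk h2
  rcases Nat.lt_or_ge e 2 with he | he
  · interval_cases e
    · rw [pow_zero] at h3
      have : 2 * 2 ≤ A * q := Nat.mul_le_mul (by omega) hq
      omega
    · rfl
  · exfalso
    have h6 : l ^ 2 ≤ l ^ e := Nat.pow_le_pow_right (by omega) he
    have h7 : (A + 1) * (A + 1) ≤ l * l := Nat.mul_le_mul hl hl
    have h8 : A * q ≤ A * A := Nat.mul_le_mul_left A hA2
    have h9 : l ^ 2 = l * l := pow_two l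
    nlinarith

theorem n1 [Finite K] (hr : 2 ≤ finrank F K) : AddSubgroup.closure {k : K | Algebra.norm F k = 1} = ⊤ := by
  classical
  haveI : Finite F := Finite.of_injective (algebraMap F K) (algebraMap F K).injective
  haveI : Module.Finite F K := Module.Finite.of_finite
  set s : Set K := {k : K | Algebra.norm F k = 1} with hs
  let M : Submonoid K :=
    { carrier := s
      mul_mem' := by
        intro a b ha hb
        simp only [hs, Set.mem_setOf_eq] at ha hb ⊢
        rw [map_mul, ha, hb, mul_one]
      one_mem' := by simp [hs] }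
  let R : Subring K := Subring.closure s
  have hRs : ∀ x, x ∈ R ↔ x ∈ AddSubgroup.closure s := by
    intro x
    have h1 : (Submonoid.closure s : Set K) = s := by
      have h2 : s = (M : Set K) := rfl
      rw [h2, Submonoid.closure_eq]
    rw [Subring.mem_closure_iff, h1]
  have hnpos : 0 < Nat.card Kˣ := Nat.card_pos
  let L : Subfield K :=
    { R with
      inv_mem' := by
        intro x hx
        by_cases hx0 : x = 0
        · rw [hx0, inv_zero]; exact R.zero_mem
        · have hu : (Units.mk0 x hx0)⁻¹ = (Units.mk0 x hx0) ^ (Nat.card Kˣ - 1) := by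
            apply inv_eq_of_mul_eq_one_left
            rw [← pow_succ, Nat.sub_add_cancel hnpos]
            exact pow_card_eq_one'
          have h3 : x⁻¹ = x ^ (Nat.card Kˣ - 1) := by
            have := congrArg (fun u : Kˣ => (u : K)) hu
            simpa using this
          rw [h3]
          exact R.pow_mem hx _ }
  have hLR : ∀ x, x ∈ L ↔ x ∈ R := fun x => Iff.rfl
  suffices hL : ∀ x : K, x ∈ L by
    rw [eq_top_iff]
    intro x _
    rw [← hRs, ← hLR]
    exact hL x
  -- cardinalities
  have hsurj := FiniteField.unitsMap_norm_surjective F K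
  set f : Kˣ →* Fˣ := Units.map (Algebra.norm F : K →* F) with hf
  have hker : Nat.card f.ker * Nat.card Fˣ = Nat.card Kˣ := by
    have h1 := Subgroup.card_mul_index f.ker
    rw [Subgroup.index_ker, MonoidHom.range_eq_top.2 hsurj, Subgroup.card_top] at h1
    exact h1
  rw [Nat.card_units, Nat.card_units] at hker
  have hKF : Nat.card K = Nat.card F ^ finrank F K := Module.natCard_eq_pow_finrank
  have hKL : Nat.card K = Nat.card L ^ finrank L K := Module.natCard_eq_pow_finrank
  have hq : 2 ≤ Nat.card F := Finite.one_lt_card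
  -- ker injects into L
  have hkl : Nat.card f.ker ≤ Nat.card L := by
    have hmem : ∀ u : f.ker, ((u : Kˣ) : K) ∈ L := by
      intro u
      rw [hLR]
      apply Subring.subset_closure
      have h1 : f (u : Kˣ) = 1 := u.2
      have h2 := congrArg (fun z : Fˣ => (z : F)) h1
      simpa [hf, hs] using h2
    apply Nat.card_le_card_of_injective (fun u : f.ker => (⟨((u : Kˣ) : K), hmem u⟩ : L))
    intro u u' huu
    have h1 : ((u : Kˣ) : K) = ((u' : Kˣ) : K) := congrArg Subtype.val huu
    exact Subtype.ext (Units.ext h1)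
  have he : finrank L K = 1 := by
    apply c3ln1_arith (Nat.card F) (finrank F K) (Nat.card f.ker) (Nat.card L) (finrank L K) hq hr
    · rw [hker, hKF]
    · exact hkl
    · rw [← hKF, hKL]
  intro x
  have h1 : (⊥ : Subalgebra L K) = ⊤ := Subalgebra.bot_eq_top_of_finrank_eq_one he
  have h2 : x ∈ (⊥ : Subalgebra L K) := by rw [h1]; exact Algebra.mem_top
  rw [Algebra.mem_bot] at h2
  obtain ⟨y, rfl⟩ := h2
  exact y.2

end Cfsg.Agent.Lib.Helper22.C3L
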