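import Cfsg.Agent.Lib.Helper13.FamilyCtl
import Cfsg.Agent.Lib.Helper13.Tight

set_option autoImplicit false

/-! Lifting control of strong fusion from a normal subgroup (helper13). -/

namespace Cfsg.Agent.Lib.Helper13

open scoped Pointwise

variable {G : Type*} [Group G]

theorem mem_sup_of_le_normalizer {A B : Subgroup G} (h : A ≤ Subgroup.normalizer (B : Set G))
    {x : G} (hx : x ∈ A ⊔ B) : ∃ a ∈ A, ∃ b ∈ B, x = a * b := by
  have h1 : x ∈ ((A ⊔ B : Subgroup G) : Set G) := hx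
  rw [Subgroup.coe_mul_of_left_le_normalizer_right A B h] at h1
  obtain ⟨a, ha, b, hb, rfl⟩ := h1
  exact ⟨a, ha, b, hb, rfl⟩

theorem mem_sup_of_le_normalizer' {A B : Subgroup G} (h : A ≤ Subgroup.normalizer (B : Set G))
    {x : G} (hx : x ∈ A ⊔ B) : ∃ b ∈ B, ∃ a ∈ A, x = b * a := by
  have h1 : x ∈ ((B ⊔ A : Subgroup G) : Set G) := by rw [sup_comm]; exact hx
  rw [Subgroup.coe_mul_of_right_le_normalizer_left B A h] at h1
  obtain ⟨b, hb, a, ha, rfl⟩ := h1
  exact ⟨b, hb, a, ha, rfl⟩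

/-- Conjugation by an element of the normalizer of `T` preserves the centralizer of `T`. -/
theorem fl_conj_mem_centralizer_of_mem_normalizer {T : Subgroup G} {h c : G}
    (hh : h ∈ Subgroup.normalizer (T : Set G)) (hc : c ∈ Subgroup.centralizer (T : Set G)) :
    h * c * h⁻¹ ∈ Subgroup.centralizer (T : Set G) := by
  have h1 : T.map (MulAut.conj h).toMonoidHom = T := mem_normalizer_iff_cj_eq.mp hh
  have h2 := centralizer_cj h T
  rw [h1] at h2
  rw [h2]
  exact cj_mem hc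

/-- Elements of `N_G(T)` lying in `C_G(T) H`, as a subgroup. -/
def ctrlSub (T H : Subgroup G) : Subgroup G where
  carrier := {x | x ∈ Subgroup.normalizer (T : Set G) ∧
    ∃ c ∈ Subgroup.centralizer (T : Set G), ∃ h ∈ H, x = c * h}
  one_mem' := ⟨one_mem _, 1, one_mem _, 1, one_mem _, (mul_one 1).symm⟩
  mul_mem' := by
    rintro x y ⟨hx, c, hc, h, hh, rfl⟩ ⟨hy, c', hc', h', hh', rfl⟩
    refine ⟨mul_mem hx hy, c * (h * c' * h⁻¹), ?_, h * h', mul_mem hh hh', by group⟩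
    have hcN : c ∈ Subgroup.normalizer (T : Set G) := Subgroup.centralizer_le_normalizer _ hc
    have hhN : h ∈ Subgroup.normalizer (T : Set G) := by
      have : h = c⁻¹ * (c * h) := by group
      rw [this]
      exact mul_mem (inv_mem hcN) hx
    exact mul_mem hc (fl_conj_mem_centralizer_of_mem_normalizer hhN hc')
  inv_mem' := by
    rintro x ⟨hx, c, hc, h, hh, rfl⟩
    refine ⟨inv_mem hx, h⁻¹ * c⁻¹ * h, ?_, h⁻¹, inv_mem hh, by group⟩
    have hcN : c ∈ Subgroup.normalizer (T : Set G) := Subgroup.centralizer_le_normalizer _ hc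
    have hhN : h ∈ Subgroup.normalizer (T : Set G) := by
      have : h = c⁻¹ * (c * h) := by group
      rw [this]
      exact mul_mem (inv_mem hcN) hx
    have := fl_conj_mem_centralizer_of_mem_normalizer (inv_mem hhN) (inv_mem hc)
    rwa [inv_inv] at this

theorem mem_ctrlSub {T H : Subgroup G} {x : G} : x ∈ ctrlSub T H ↔
    x ∈ Subgroup.normalizer (T : Set G) ∧
      ∃ c ∈ Subgroup.centralizer (T : Set G), ∃ h ∈ H, x = c * h := Iff.rfl

theorem mem_ctrlSub_of_mem {T H : Subgroup G} {x : G} (hx : x ∈ Subgroup.normalizer (T : Set G))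
    (hH : x ∈ H) : x ∈ ctrlSub T H :=
  ⟨hx, 1, one_mem _, x, hH, (one_mul x).symm⟩

theorem centralizer_le_ctrlSub (T H : Subgroup G) :
    Subgroup.centralizer (T : Set G) ≤ ctrlSub T H := fun x hx =>
  ⟨Subgroup.centralizer_le_normalizer _ hx, x, hx, 1, one_mem _, (mul_one x).symm⟩

/-- If all members of `𝓕` satisfy `N_G(T) ⊆ C_G(T) H`, then conjugation chains lie in `C_G(R) H`. -/
theorem ConjChain.mem_centralizer_mul {𝓕 : Set (Subgroup G)} {H : Subgroup G}
    (h𝓕 : ∀ T ∈ 𝓕, ∀ x ∈ Subgroup.normalizer (T : Set G),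
      ∃ c ∈ Subgroup.centralizer (T : Set G), ∃ h ∈ H, x = c * h)
    {R : Subgroup G} {g : G} (hch : ConjChain 𝓕 R g) :
    ∃ c ∈ Subgroup.centralizer (R : Set G), ∃ h ∈ H, g = c * h := by
  induction hch with
  | nil R => exact ⟨1, one_mem _, 1, one_mem _, (mul_one 1).symm⟩
  | cons R T x g hT hx hRT _ ih =>
    obtain ⟨c', hc', h', hh', rfl⟩ := ih
    obtain ⟨c, hc, h, hh, rfl⟩ := h𝓕 T hT x hx
    refine ⟨(c * h) * c' * (c * h)⁻¹ * c, ?_, h * h', mul_mem hh hh', by group⟩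
    apply mul_mem _ (Subgroup.centralizer_le hRT hc)
    rw [rc_def, centralizer_cj, mem_cj] at hc'
    rw [inv_inv] at hc'
    exact hc'

/-- Frattini argument, relative form. -/
theorem exists_mul_mem_normalizer_of_relIndex [Finite G] {p : ℕ} [Fact p.Prime] {S J : Subgroup G}
    (hSJ : S ≤ J) (hS : IsPGroup p ↥S) (hSi : ¬ p ∣ S.relIndex J) {g : G}
    (hg : g ∈ Subgroup.normalizer (J : Set G)) :
    ∃ j ∈ J, j * g ∈ Subgroup.normalizer (S : Set G) := by
  have h1 : S.map (MulAut.conj g).toMonoidHom ≤ J := by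
    have := cj_mono (g := g) hSJ
    rwa [mem_normalizer_iff_cj_eq.mp hg] at this
  obtain ⟨n, hn, hle⟩ := exists_mem_cj_le_of_relIndex hSJ hS hSi h1 (isPGroup_cj g hS)
  refine ⟨n, hn, ?_⟩
  apply mem_normalizer_of_cj_le
  rw [← cj_cj]
  exact hle


theorem card_lt_of_not_le [Finite G] {T B : Subgroup G} (hTB : T ≤ B) (hBT : ¬ B ≤ T) :
    Nat.card ↥T < Nat.card ↥B := by
  by_contra hcon
  push Not at hcon
  exact hBT (le_of_eq (Subgroup.eq_of_le_of_card_ge hTB hcon).symm)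

/-- If `K ≤ X ≤ L` with `K` normalized by `L`, every element of `L` has a `p`-power in `K` and
`X` has index prime to `p` in `L`, then `X = L`. -/
theorem le_of_pow_mem_of_not_dvd_relIndex [Finite G] {p : ℕ} [Fact p.Prime] {K X L : Subgroup G}
    (hKX : K ≤ X) (hLK : L ≤ Subgroup.normalizer (K : Set G))
    (hpow : ∀ x ∈ L, ∃ k : ℕ, x ^ p ^ k ∈ K) (hp' : ¬ p ∣ X.relIndex L) : L ≤ X := by
  haveI : (K.subgroupOf L).Normal := Subgroup.normal_subgroupOf_of_le_normalizer hLK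
  have hQ : IsPGroup p (↥L ⧸ K.subgroupOf L) := by
    intro q
    induction q using QuotientGroup.induction_on with
    | H x =>
      obtain ⟨k, hk⟩ := hpow x x.2
      refine ⟨k, ?_⟩
      rw [← QuotientGroup.mk_pow, QuotientGroup.eq_one_iff]
      exact Subgroup.mem_subgroupOf.mpr hk
  have h1 : ((X.subgroupOf L).map (QuotientGroup.mk' (K.subgroupOf L))).index =
      (X.subgroupOf L).index := by
    apply Subgroup.index_map_eq _ (QuotientGroup.mk'_surjective _)
    rw [QuotientGroup.ker_mk']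
    intro x hx
    exact Subgroup.mem_subgroupOf.mpr (hKX (Subgroup.mem_subgroupOf.mp hx))
  obtain ⟨n, hn⟩ := hQ.index ((X.subgroupOf L).map (QuotientGroup.mk' (K.subgroupOf L)))
  rw [h1] at hn
  have hn' : X.relIndex L = p ^ n := hn
  rw [← Subgroup.relIndex_eq_one, hn']
  rcases Nat.eq_zero_or_pos n with rfl | hpos
  · simp
  · exfalso
    apply hp'
    rw [hn']
    exact dvd_pow_self p hpos.ne'

/-- An element centralizing `T0` and acting trivially on `T` modulo `T0` has its `|T0|`-th power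
in the centralizer of `T`. -/
theorem pow_card_mem_centralizer [Finite G] {T T0 : Subgroup G} {x : G}
    (hx0 : x ∈ Subgroup.centralizer (T0 : Set G))
    (hxT : ∀ t ∈ T, x * t * x⁻¹ * t⁻¹ ∈ T0) :
    x ^ Nat.card ↥T0 ∈ Subgroup.centralizer (T : Set G) := by
  rw [Subgroup.mem_centralizer_iff]
  intro t ht
  have hz := hxT t ht
  have key : ∀ k : ℕ, x ^ k * t * (x ^ k)⁻¹ = (x * t * x⁻¹ * t⁻¹) ^ k * t := by
    intro k
    induction k with
    | zero => simp
    | succ k ih =>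
      have hzk : (x * t * x⁻¹ * t⁻¹) ^ k ∈ T0 := pow_mem hz k
      have hcomm := (Subgroup.mem_centralizer_iff.mp hx0) _ hzk
      calc x ^ (k + 1) * t * (x ^ (k + 1))⁻¹ = x * (x ^ k * t * (x ^ k)⁻¹) * x⁻¹ := by
            rw [pow_succ']; group
        _ = x * ((x * t * x⁻¹ * t⁻¹) ^ k * t) * x⁻¹ := by rw [ih]
        _ = (x * (x * t * x⁻¹ * t⁻¹) ^ k) * (t * x⁻¹) := by group
        _ = ((x * t * x⁻¹ * t⁻¹) ^ k * x) * (t * x⁻¹) := by rw [hcomm]
        _ = (x * t * x⁻¹ * t⁻¹) ^ k * (x * t * x⁻¹ * t⁻¹) * t := by group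
        _ = (x * t * x⁻¹ * t⁻¹) ^ (k + 1) * t := by rw [pow_succ]
  have h1 := key (Nat.card ↥T0)
  have h2 : (x * t * x⁻¹ * t⁻¹) ^ Nat.card ↥T0 = 1 := by
    have := pow_card_eq_one' (G := ↥T0) (x := ⟨_, hz⟩)
    exact congrArg Subtype.val this
  rw [h2, one_mul] at h1
  calc t * x ^ Nat.card ↥T0 = (x ^ Nat.card ↥T0 * t * (x ^ Nat.card ↥T0)⁻¹) * x ^ Nat.card ↥T0 := by
        rw [h1]
    _ = x ^ Nat.card ↥T0 * t := by group


theorem cj_normal_eq (N : Subgroup G) [N.Normal] (g : G) :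
    N.map (MulAut.conj g).toMonoidHom = N := by
  ext x
  rw [mem_cj]
  constructor
  · intro h
    have := ‹N.Normal›.conj_mem _ h g
    have e : g * (g⁻¹ * x * g) * g⁻¹ = x := by group
    rwa [e] at this
  · intro h
    have := ‹N.Normal›.conj_mem _ h g⁻¹
    rwa [inv_inv] at this

/-- Key step: for a fully normalized `T ≤ P`, if `H` controls fusion of all bigger subgroups of
`P`, then `N_G(T) ⊆ C_G(T) H`. -/
theorem normalizer_le_ctrlSub [Finite G] {p : ℕ} [Fact p.Prime] (N : Subgroup G) [N.Normal]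
    (P : Sylow p G) (H : Subgroup G)
    (hNH : Subgroup.normalizer (((P : Subgroup G) ⊓ N : Subgroup G) : Set G) ≤ H)
    (hctrl : ∀ A : Subgroup G, A ≤ (P : Subgroup G) ⊓ N → ∀ n ∈ N,
      A.map (MulAut.conj n).toMonoidHom ≤ (P : Subgroup G) ⊓ N →
      ∃ h ∈ N ⊓ H, ∃ c ∈ N ⊓ Subgroup.centralizer (A : Set G), n = h * c)
    (T : Subgroup G) (hTP : T ≤ (P : Subgroup G))
    (hTfn : ¬ p ∣ ((P : Subgroup G) ⊓ Subgroup.normalizer (T : Set G)).relIndex
      (Subgroup.normalizer (T : Set G)))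
    (hΨ : ∀ B : Subgroup G, B ≤ (P : Subgroup G) → Nat.card ↥T < Nat.card ↥B → ∀ g : G,
      rc B g ≤ (P : Subgroup G) → ∃ c ∈ Subgroup.centralizer (B : Set G), ∃ h ∈ H, g = c * h) :
    Subgroup.normalizer (T : Set G) ≤ ctrlSub T H := by
  classical
  have hPp : IsPGroup p ↥(P : Subgroup G) := P.isPGroup'
  have hTp : IsPGroup p ↥T := hPp.to_le hTP
  obtain ⟨M, hM⟩ : ∃ M : Subgroup G, M = Subgroup.normalizer (T : Set G) := ⟨_, rfl⟩
  obtain ⟨R, hR⟩ : ∃ R : Subgroup G, R = (P : Subgroup G) ⊓ N := ⟨_, rfl⟩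
  have hRP : R ≤ (P : Subgroup G) := hR ▸ inf_le_left
  have hRN : R ≤ N := hR ▸ inf_le_right
  have hPR : (P : Subgroup G) ≤ Subgroup.normalizer (R : Set G) := by
    intro y hy
    rw [mem_normalizer_iff_cj_eq, hR, cj_inf, cj_normal_eq N, cj_self_of_mem hy]
  have hPH : (P : Subgroup G) ≤ H := by
    intro y hy
    apply hNH
    rw [← hR]
    exact hPR hy
  have hTM : T ≤ M := hM ▸ Subgroup.le_normalizer
  have hF3 : ∀ B : Subgroup G, B ≤ (P : Subgroup G) → T ≤ B → Nat.card ↥T < Nat.card ↥B →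
      ∀ x ∈ M, x ∈ Subgroup.normalizer (B : Set G) → x ∈ ctrlSub T H := by
    intro B hBP hTB hcard x hxM hxB
    have h1 : rc B x ≤ (P : Subgroup G) := by
      rw [rc_of_mem_normalizer hxB]; exact hBP
    obtain ⟨c, hc, h, hh, rfl⟩ := hΨ B hBP hcard x h1
    exact ⟨hM ▸ hxM, c, Subgroup.centralizer_le hTB hc, h, hh, rfl⟩
  have hPM : (P : Subgroup G) ⊓ M ≤ ctrlSub T H := by
    rintro y ⟨hy1, hy2⟩
    exact mem_ctrlSub_of_mem (hM ▸ hy2) (hPH hy1)
  rw [← hM]
  by_cases hRT : R ≤ T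
  · intro x hx
    apply mem_ctrlSub_of_mem (hM ▸ hx)
    apply hNH
    have hTN : T ⊓ N = (P : Subgroup G) ⊓ N :=
      le_antisymm (inf_le_inf_right _ hTP) (le_inf (hR ▸ hRT) inf_le_right)
    rw [← hTN, mem_normalizer_iff_cj_eq, cj_inf, cj_normal_eq N,
      mem_normalizer_iff_cj_eq.mp (hM ▸ hx)]
  · obtain ⟨J, hJ⟩ : ∃ J : Subgroup G, J = N ⊓ M := ⟨_, rfl⟩
    obtain ⟨S, hS⟩ : ∃ S : Subgroup G, S = ((P : Subgroup G) ⊓ M) ⊓ J := ⟨_, rfl⟩
    have hJM : J ≤ M := hJ ▸ inf_le_right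
    have hJN : J ≤ N := hJ ▸ inf_le_left
    have hMJ : M ≤ Subgroup.normalizer (J : Set G) := by
      intro x hx
      rw [mem_normalizer_iff_cj_eq, hJ, cj_inf, cj_normal_eq N, cj_self_of_mem hx]
    have hSJ : S ≤ J := hS ▸ inf_le_right
    have hSPM : S ≤ (P : Subgroup G) ⊓ M := hS ▸ inf_le_left
    have hSP : S ≤ (P : Subgroup G) := hSPM.trans inf_le_left
    have hSp : IsPGroup p ↥S := hPp.to_le hSP
    have hSi : ¬ p ∣ S.relIndex J := by
      rw [hS]
      apply not_dvd_relIndex_inf_of_normal hJM hMJ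
      rw [hM]; exact hTfn
    have hST : ¬ S ≤ T := by
      intro hle
      have hTR : T ⊔ R ≤ (P : Subgroup G) := sup_le hTP hRP
      have hne' : T ≠ T ⊔ R := fun h => hRT (h ▸ le_sup_right)
      have hlt := card_lt_card_inf_normalizer (hPp.to_le hTR) le_sup_left hne'
      have hle2 : (T ⊔ R) ⊓ Subgroup.normalizer (T : Set G) ≤ T := by
        rintro y ⟨hy1, hy2⟩
        obtain ⟨t, ht, r, hr, rfl⟩ := mem_sup_of_le_normalizer (hTP.trans hPR) hy1
        have hrN : r ∈ Subgroup.normalizer (T : Set G) := by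
          have : r = t⁻¹ * (t * r) := by group
          rw [this]; exact mul_mem (inv_mem (Subgroup.le_normalizer ht)) hy2
        have hrM : r ∈ M := hM ▸ hrN
        have hrS : r ∈ S := by
          rw [hS, hJ]
          exact ⟨⟨hRP hr, hrM⟩, hRN hr, hrM⟩
        exact mul_mem ht (hle hrS)
      exact absurd (Subgroup.card_le_of_le hle2) (not_le.mpr hlt)
    have hNS : ∀ y ∈ M, y ∈ Subgroup.normalizer (S : Set G) → y ∈ ctrlSub T H := by
      intro y hyM hyS
      apply hF3 (T ⊔ S) (sup_le hTP hSP) le_sup_left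
        (card_lt_of_not_le le_sup_left (fun h => hST (le_sup_right.trans h))) y hyM
      exact Subgroup.normalizer_inf_normalizer_le_normalizer_sup T S ⟨hM ▸ hyM, hyS⟩
    suffices hJle : J ≤ ctrlSub T H by
      intro x hx
      obtain ⟨j, hj, hjx⟩ := exists_mul_mem_normalizer_of_relIndex hSJ hSp hSi (hMJ hx)
      have h1 : j * x ∈ ctrlSub T H := hNS _ (mul_mem (hJM hj) hx) hjx
      have h2 : j ∈ ctrlSub T H := hJle hj
      have : x = j⁻¹ * (j * x) := by group
      rw [this]; exact mul_mem (inv_mem h2) h1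
    obtain ⟨T0, hT0⟩ : ∃ T0 : Subgroup G, T0 = T ⊓ N := ⟨_, rfl⟩
    have hT0T : T0 ≤ T := hT0 ▸ inf_le_left
    have hT0N : T0 ≤ N := hT0 ▸ inf_le_right
    have hMT0 : ∀ x ∈ M, T0.map (MulAut.conj x).toMonoidHom = T0 := by
      intro x hx
      rw [hT0, cj_inf, cj_normal_eq N, mem_normalizer_iff_cj_eq.mp (hM ▸ hx)]
    have hMC0 : ∀ x ∈ M, (Subgroup.centralizer (T0 : Set G)).map (MulAut.conj x).toMonoidHom =
        Subgroup.centralizer (T0 : Set G) := by
      intro x hx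
      rw [← centralizer_cj, hMT0 x hx]
    obtain ⟨J0, hJ0⟩ : ∃ J0 : Subgroup G, J0 = J ⊓ Subgroup.centralizer (T0 : Set G) := ⟨_, rfl⟩
    have hJ0J : J0 ≤ J := hJ0 ▸ inf_le_left
    have hJ0M : J0 ≤ M := hJ0J.trans hJM
    have hMJ0 : M ≤ Subgroup.normalizer (J0 : Set G) := by
      intro x hx
      rw [mem_normalizer_iff_cj_eq, hJ0, cj_inf, hMC0 x hx, mem_normalizer_iff_cj_eq.mp (hMJ hx)]
    obtain ⟨S0, hS0⟩ : ∃ S0 : Subgroup G, S0 = S ⊓ J0 := ⟨_, rfl⟩
    have hS0S : S0 ≤ S := hS0 ▸ inf_le_left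
    have hS0J0 : S0 ≤ J0 := hS0 ▸ inf_le_right
    have hS0p : IsPGroup p ↥S0 := hSp.to_le hS0S
    have hS0i : ¬ p ∣ S0.relIndex J0 := by
      rw [hS0]
      exact not_dvd_relIndex_inf_of_normal hJ0J (hJM.trans hMJ0) hSi
    -- `J0 ≤ ctrlSub T H`
    have hJ0le : J0 ≤ ctrlSub T H := by
      have hT0p : IsPGroup p ↥T0 := hTp.to_le hT0T
      obtain ⟨e, he⟩ := IsPGroup.iff_card.mp hT0p
      have h1 : J0 ≤ ctrlSub T H ⊓ J0 := by
        apply le_of_pow_mem_of_not_dvd_relIndex (p := p)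
          (K := J0 ⊓ Subgroup.centralizer (T : Set G))
        · exact le_inf (inf_le_right.trans (centralizer_le_ctrlSub T H)) inf_le_left
        · intro x hx
          have hxM : x ∈ M := hJ0M hx
          rw [mem_normalizer_iff_cj_eq, cj_inf, mem_normalizer_iff_cj_eq.mp (hMJ0 hxM),
            ← centralizer_cj, mem_normalizer_iff_cj_eq.mp (hM ▸ hxM)]
        · intro x hx
          refine ⟨e, ?_⟩
          rw [← he]
          refine ⟨pow_mem hx _, ?_⟩
          have hx' : x ∈ J ⊓ Subgroup.centralizer (T0 : Set G) := hJ0 ▸ hx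
          apply pow_card_mem_centralizer hx'.2
          intro t ht
          rw [hT0, Subgroup.mem_inf]
          refine ⟨?_, ?_⟩
          · have hxN : x ∈ Subgroup.normalizer (T : Set G) := hM ▸ hJ0M hx
            exact mul_mem ((Subgroup.mem_normalizer_iff.mp hxN t).mp ht) (inv_mem ht)
          · have hxN : x ∈ N := hJN (hJ0J hx)
            have : x * t * x⁻¹ * t⁻¹ = x * (t * x⁻¹ * t⁻¹) := by group
            rw [this]
            exact mul_mem hxN (‹N.Normal›.conj_mem _ (inv_mem hxN) t)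
        · intro hd
          apply hS0i
          refine dvd_trans hd ?_
          apply Subgroup.relIndex_dvd_of_le_left
          exact le_inf ((hS0S.trans hSPM).trans hPM) hS0J0
      exact h1.trans inf_le_left
    by_cases hS0T : S0 ≤ T
    swap
    · have hMle : M ≤ ctrlSub T H := by
        intro x hx
        obtain ⟨j, hj, hjx⟩ := exists_mul_mem_normalizer_of_relIndex hS0J0 hS0p hS0i (hMJ0 hx)
        have hS0P : S0 ≤ (P : Subgroup G) := hS0S.trans hSP
        have hjxM : j * x ∈ M := mul_mem (hJ0M hj) hx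
        have h1 : j * x ∈ ctrlSub T H := by
          apply hF3 (T ⊔ S0) (sup_le hTP hS0P) le_sup_left
            (card_lt_of_not_le le_sup_left (fun h => hS0T (le_sup_right.trans h))) _ hjxM
          exact Subgroup.normalizer_inf_normalizer_le_normalizer_sup T S0 ⟨hM ▸ hjxM, hjx⟩
        have : x = j⁻¹ * (j * x) := by group
        rw [this]; exact mul_mem (inv_mem (hJ0le hj)) h1
      exact hJM.trans hMle
    · intro n hn
      have hnM : n ∈ M := hJM hn
      have hnN : n ∈ N := hJN hn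
      have hS0T0 : S0 ≤ T0 := by
        rw [hT0]; exact le_inf hS0T ((hS0S.trans hSJ).trans hJN)
      have hT0R : T0 ≤ (P : Subgroup G) ⊓ N := hT0 ▸ inf_le_inf_right N hTP
      obtain ⟨k, hk, c, hc, hnkc⟩ := hctrl T0 hT0R n hnN (by rw [hMT0 n hnM]; exact hT0R)
      obtain ⟨C, hC⟩ : ∃ C : Subgroup G, C = N ⊓ Subgroup.centralizer (T0 : Set G) := ⟨_, rfl⟩
      have hcC : c ∈ C := hC ▸ hc
      have hTC : T ≤ Subgroup.normalizer (C : Set G) := by
        intro t ht
        rw [mem_normalizer_iff_cj_eq, hC, cj_inf, cj_normal_eq N, hMC0 t (hTM ht)]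
      have hmax : ∀ Q : Subgroup G, T ≤ Q → Q ≤ T ⊔ C → IsPGroup p ↥Q → Q = T := by
        intro Q hTQ hQle hQp
        by_contra hne
        have hlt := card_lt_card_inf_normalizer hQp hTQ (Ne.symm hne)
        have hle2 : Q ⊓ Subgroup.normalizer (T : Set G) ≤ T := by
          rintro y ⟨hy1, hy2⟩
          obtain ⟨t, ht, c1, hc1, rfl⟩ := mem_sup_of_le_normalizer hTC (hQle hy1)
          have hc1Q : c1 ∈ Q := by
            have : c1 = t⁻¹ * (t * c1) := by group
            rw [this]; exact mul_mem (inv_mem (hTQ ht)) hy1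
          have hc1M : c1 ∈ M := by
            have : c1 = t⁻¹ * (t * c1) := by group
            rw [this]; exact mul_mem (inv_mem (hTM ht)) (hM ▸ hy2)
          have hc1J0 : c1 ∈ J0 := by
            rw [hJ0, hJ]; rw [hC] at hc1; exact ⟨⟨hc1.1, hc1M⟩, hc1.2⟩
          have hZ : Subgroup.zpowers c1 ≤ J0 := (Subgroup.zpowers_le).mpr hc1J0
          have hZp : IsPGroup p ↥(Subgroup.zpowers c1) :=
            hQp.to_le ((Subgroup.zpowers_le).mpr hc1Q)
          obtain ⟨j, hj, hjle⟩ := exists_mem_cj_le_of_relIndex hS0J0 hS0p hS0i hZ hZp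
          have h3 : j * c1 * j⁻¹ ∈ T0 := hS0T0 (hjle (cj_mem (Subgroup.mem_zpowers c1)))
          have h4 : c1 ∈ T0 := by
            have := hMT0 j⁻¹ (inv_mem (hJ0M hj))
            rw [← this, mem_cj, inv_inv]
            exact h3
          exact mul_mem ht (hT0T h4)
        exact absurd (Subgroup.card_le_of_le hle2) (not_le.mpr hlt)
      obtain ⟨E, hE⟩ : ∃ E : Subgroup G, E = (T ⊔ C) ⊓ H := ⟨_, rfl⟩
      have hTE : T ≤ E := hE ▸ le_inf le_sup_left (hTP.trans hPH)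
      obtain ⟨Q, hTQ, hQE, hQp, hQi⟩ := exists_sylow_between hTE hTp
      have hQT : Q = T := hmax Q hTQ (hQE.trans (hE ▸ inf_le_left)) hQp
      rw [hQT] at hQi
      have hkH : k ∈ H := hk.2
      have hT'E : T.map (MulAut.conj c).toMonoidHom ≤ E := by
        rintro _ ⟨t, ht, rfl⟩
        show c * t * c⁻¹ ∈ E
        rw [hE, Subgroup.mem_inf]
        have hcTC : c ∈ T ⊔ C := (le_sup_right : C ≤ T ⊔ C) hcC
        have htTC : t ∈ T ⊔ C := (le_sup_left : T ≤ T ⊔ C) ht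
        refine ⟨mul_mem (mul_mem hcTC htTC) (inv_mem hcTC), ?_⟩
        have hc_eq : c = k⁻¹ * n := by rw [hnkc]; group
        have : c * t * c⁻¹ = k⁻¹ * (n * t * n⁻¹) * k := by rw [hc_eq]; group
        rw [this]
        have hntn : n * t * n⁻¹ ∈ T :=
          (Subgroup.mem_normalizer_iff.mp (hM ▸ hnM) t).mp ht
        exact mul_mem (mul_mem (inv_mem hkH) (hPH (hTP hntn))) hkH
      obtain ⟨e, heE, hele⟩ := exists_mem_cj_le_of_relIndex hTE hTp hQi hT'E (isPGroup_cj c hTp)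
      rw [cj_cj] at hele
      have hecM : e * c ∈ M := hM ▸ mem_normalizer_of_cj_le hele
      have heE' : e ∈ (T ⊔ C) ⊓ H := hE ▸ heE
      obtain ⟨c1, hc1, t, ht, hect⟩ := mem_sup_of_le_normalizer' hTC heE'.1
      have hc2C : c1 * (t * c * t⁻¹) ∈ C := by
        apply mul_mem hc1
        have := mem_normalizer_iff_cj_eq.mp (hTC ht)
        rw [← this]; exact cj_mem hcC
      have hc2M : c1 * (t * c * t⁻¹) ∈ M := by
        have : c1 * (t * c * t⁻¹) = (e * c) * t⁻¹ := by rw [hect]; group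
        rw [this]; exact mul_mem hecM (inv_mem (hTM ht))
      have hc2J0 : c1 * (t * c * t⁻¹) ∈ J0 := by
        rw [hJ0, hJ]; rw [hC] at hc2C; exact ⟨⟨hc2C.1, hc2M⟩, hc2C.2⟩
      have htcs : t ∈ ctrlSub T H := mem_ctrlSub_of_mem (hM ▸ hTM ht) (hPH (hTP ht))
      have hke : k * e⁻¹ ∈ ctrlSub T H := by
        apply mem_ctrlSub_of_mem _ (mul_mem hkH (inv_mem heE'.2))
        rw [← hM]
        have : k * e⁻¹ = n * (e * c)⁻¹ := by rw [hnkc]; group
        rw [this]; exact mul_mem hnM (inv_mem hecM)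
      have : n = (k * e⁻¹) * (c1 * (t * c * t⁻¹)) * t := by rw [hnkc, hect]; group
      rw [this]
      exact mul_mem (mul_mem hke (hJ0le hc2J0)) htcs

theorem controls_lift_aux [Finite G] {p : ℕ} [Fact p.Prime] (N : Subgroup G) [N.Normal]
    (P : Sylow p G) (H : Subgroup G)
    (hNH : Subgroup.normalizer (((P : Subgroup G) ⊓ N : Subgroup G) : Set G) ≤ H)
    (hctrl : ∀ A : Subgroup G, A ≤ (P : Subgroup G) ⊓ N → ∀ n ∈ N,
      A.map (MulAut.conj n).toMonoidHom ≤ (P : Subgroup G) ⊓ N →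
      ∃ h ∈ N ⊓ H, ∃ c ∈ N ⊓ Subgroup.centralizer (A : Set G), n = h * c) :
    ∀ (d : ℕ) (A : Subgroup G), A ≤ (P : Subgroup G) →
      Nat.card ↥(P : Subgroup G) - Nat.card ↥A < d → ∀ g : G, rc A g ≤ (P : Subgroup G) →
      ∃ c ∈ Subgroup.centralizer (A : Set G), ∃ h ∈ H, g = c * h := by
  intro d
  induction d with
  | zero => intro A _ h; exact absurd h (Nat.not_lt_zero _)
  | succ d ih =>
    intro A hAP hcard g hg
    have hch := (conjChain_fullyNormalized P A hAP g hg).restrict_card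
    apply ConjChain.mem_centralizer_mul _ hch
    rintro T ⟨⟨hTP, hTfn⟩, hAT⟩ x hx
    have := normalizer_le_ctrlSub N P H hNH hctrl T hTP hTfn
      (fun B hBP hTB g' hg' => ih B hBP (by
        have := Subgroup.card_le_of_le hBP
        omega) g' hg') hx
    exact this.2

/-- **Lifting control of strong fusion from a normal subgroup.** If `H ≥ N_G(P ∩ N)` and `H ∩ N`
controls strong fusion in `P ∩ N` with respect to `N`, then `H` controls strong fusion in `P` with
respect to `G`. -/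
theorem controls_lift [Finite G] {p : ℕ} [Fact p.Prime] (N : Subgroup G) [N.Normal]
    (P : Sylow p G) (H : Subgroup G)
    (hNH : Subgroup.normalizer (((P : Subgroup G) ⊓ N : Subgroup G) : Set G) ≤ H)
    (hctrl : ∀ A : Subgroup G, A ≤ (P : Subgroup G) ⊓ N → ∀ n ∈ N,
      A.map (MulAut.conj n).toMonoidHom ≤ (P : Subgroup G) ⊓ N →
      ∃ h ∈ N ⊓ H, ∃ c ∈ N ⊓ Subgroup.centralizer (A : Set G), n = h * c) :
    ∀ A : Subgroup G, A ≤ (P : Subgroup G) → ∀ g : G,
      A.map (MulAut.conj g).toMonoidHom ≤ (P : Subgroup G) →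
      ∃ h ∈ H, ∃ c ∈ Subgroup.centralizer (A : Set G), g = h * c := by
  intro A hAP g hg
  have h1 : rc A g⁻¹ ≤ (P : Subgroup G) := by
    rw [rc_def, inv_inv]; exact hg
  obtain ⟨c, hc, h, hh, hgch⟩ := controls_lift_aux N P H hNH hctrl
    (Nat.card ↥(P : Subgroup G) - Nat.card ↥A + 1) A hAP (Nat.lt_succ_self _) g⁻¹ h1
  refine ⟨h⁻¹, inv_mem hh, c⁻¹, inv_mem hc, ?_⟩
  have : g = (g⁻¹)⁻¹ := (inv_inv g).symm
  rw [this, hgch]; group

/-- `K` controls strong fusion in `R` with respect to `N` (elementwise form). -/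
def CtlStrong (R N K : Subgroup G) : Prop :=
  ∀ A : Subgroup G, A ≤ R → ∀ n ∈ N, A.map (MulAut.conj n).toMonoidHom ≤ R →
    ∃ h ∈ K, ∃ c ∈ N ⊓ Subgroup.centralizer (A : Set G), n = h * c

theorem CtlStrong.mono {R N K K' : Subgroup G} (h : CtlStrong R N K) (hKK' : K ≤ K') :
    CtlStrong R N K' := by
  intro A hA n hn hAn
  obtain ⟨h', hh', c, hc, e⟩ := h A hA n hn hAn
  exact ⟨h', hKK' hh', c, hc, e⟩

theorem ctlStrong_self (R N : Subgroup G) : CtlStrong R N N := by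
  intro A _ n hn _
  exact ⟨n, hn, 1, one_mem _, (mul_one n).symm⟩

/-- Conjugating the controlling subgroup by an element normalizing `R` (and `N`). -/
theorem CtlStrong.conj {R N : Subgroup G} [N.Normal] {V : Subgroup G}
    (h : CtlStrong R N (N ⊓ Subgroup.normalizer (V : Set G))) {x : G}
    (hx : x ∈ Subgroup.normalizer (R : Set G)) :
    CtlStrong R N (N ⊓ Subgroup.normalizer ((V.map (MulAut.conj x).toMonoidHom : Subgroup G) : Set G)) := by
  intro A hA n hn hAn
  have hxR : R.map (MulAut.conj x⁻¹).toMonoidHom = R := mem_normalizer_iff_cj_eq.mp (inv_mem hx)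
  have hA' : A.map (MulAut.conj x⁻¹).toMonoidHom ≤ R := by
    have := cj_mono (g := x⁻¹) hA
    rwa [hxR] at this
  have hn' : x⁻¹ * n * x ∈ N := by
    have := ‹N.Normal›.conj_mem _ hn x⁻¹
    rwa [inv_inv] at this
  have hAn' : (A.map (MulAut.conj x⁻¹).toMonoidHom).map (MulAut.conj (x⁻¹ * n * x)).toMonoidHom ≤ R := by
    rw [cj_cj]
    have e : x⁻¹ * n * x * x⁻¹ = x⁻¹ * n := by group
    rw [e, ← cj_cj]
    have := cj_mono (g := x⁻¹) hAn
    rwa [hxR] at this
  obtain ⟨h', hh', c, hc, e⟩ := h _ hA' _ hn' hAn'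
  refine ⟨x * h' * x⁻¹, ⟨‹N.Normal›.conj_mem _ hh'.1 x, ?_⟩, x * c * x⁻¹,
    ⟨‹N.Normal›.conj_mem _ hc.1 x, ?_⟩, ?_⟩
  · rw [normalizer_cj]
    exact cj_mem hh'.2
  · have h1 := centralizer_cj x (A.map (MulAut.conj x⁻¹).toMonoidHom)
    rw [cj_cj_inv] at h1
    rw [h1]
    exact cj_mem hc.2
  · have : n = x * (x⁻¹ * n * x) * x⁻¹ := by group
    rw [this, e]; group

/-- Enlargement: control by `K` and by `N_N(V1)` gives control by `K ∩ N(V1)`. -/
theorem CtlStrong.inf_normalizer {R N K V1 : Subgroup G} (hK : CtlStrong R N K)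
    (h1 : CtlStrong R N (N ⊓ Subgroup.normalizer (V1 : Set G))) (hV1R : V1 ≤ R) :
    CtlStrong R N (K ⊓ Subgroup.normalizer (V1 : Set G)) := by
  intro A hA n hn hAn
  obtain ⟨h₁, hh₁, c₁, hc₁, e₁⟩ := h1 A hA n hn hAn
  have hAh : A.map (MulAut.conj h₁).toMonoidHom = A.map (MulAut.conj n).toMonoidHom := by
    have hh₁n : h₁ = n * c₁⁻¹ := by rw [e₁]; group
    rw [hh₁n, ← cj_cj]
    congr 1
    have hc₁' : c₁⁻¹ ∈ Subgroup.centralizer (A : Set G) := inv_mem hc₁.2
    ext y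
    rw [mem_cj, inv_inv]
    have hcomm : ∀ a ∈ A, a * c₁⁻¹ = c₁⁻¹ * a := Subgroup.mem_centralizer_iff.mp hc₁'
    constructor
    · intro hy
      have := hcomm _ hy
      have e : y = c₁⁻¹ * (c₁ * y * c₁⁻¹) * c₁ := by group
      rw [e, ← this]
      have : c₁ * y * c₁⁻¹ * c₁⁻¹ * c₁ = c₁ * y * c₁⁻¹ := by group
      rw [this]; exact hy
    · intro hy
      have := hcomm _ hy
      have e : c₁ * y * c₁⁻¹ = c₁ * (y * c₁⁻¹) := by group
      rw [e, this]
      have : c₁ * (c₁⁻¹ * y) = y := by group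
      rw [this]; exact hy
  have hA1 : A ⊔ V1 ≤ R := sup_le hA hV1R
  have hA1h : (A ⊔ V1).map (MulAut.conj h₁).toMonoidHom ≤ R := by
    rw [Subgroup.map_sup, hAh, mem_normalizer_iff_cj_eq.mp hh₁.2]
    exact sup_le hAn hV1R
  obtain ⟨h₂, hh₂, c₂, hc₂, e₂⟩ := hK (A ⊔ V1) hA1 h₁ hh₁.1 hA1h
  have hc₂A : c₂ ∈ Subgroup.centralizer (A : Set G) :=
    Subgroup.centralizer_le (le_sup_left : A ≤ A ⊔ V1) hc₂.2
  have hc₂V : c₂ ∈ Subgroup.centralizer (V1 : Set G) :=
    Subgroup.centralizer_le (le_sup_right : V1 ≤ A ⊔ V1) hc₂.2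
  refine ⟨h₂, Subgroup.mem_inf.mpr ⟨hh₂, ?_⟩, c₂ * c₁,
    Subgroup.mem_inf.mpr ⟨mul_mem hc₂.1 hc₁.1, mul_mem hc₂A hc₁.2⟩, ?_⟩
  · have : h₂ = h₁ * c₂⁻¹ := by rw [e₂]; group
    rw [this]
    exact mul_mem hh₁.2 (inv_mem (Subgroup.centralizer_le_normalizer _ hc₂V))
  · rw [e₁, e₂]; group

/-- Control by all `N_N(ˣV)`, `x ∈ s`, gives control by their intersection. -/
theorem CtlStrong.iInf_finset {R N V : Subgroup G} (hVR : ∀ x ∈ Subgroup.normalizer (R : Set G),
      V.map (MulAut.conj x).toMonoidHom ≤ R)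
    (h : ∀ x ∈ Subgroup.normalizer (R : Set G),
      CtlStrong R N (N ⊓ Subgroup.normalizer ((V.map (MulAut.conj x).toMonoidHom : Subgroup G) : Set G)))
    (s : Finset G) (hs : ∀ x ∈ s, x ∈ Subgroup.normalizer (R : Set G)) :
    CtlStrong R N (N ⊓ ⨅ x ∈ s,
      Subgroup.normalizer ((V.map (MulAut.conj x).toMonoidHom : Subgroup G) : Set G)) := by
  classical
  induction s using Finset.induction_on with
  | empty =>
    apply (ctlStrong_self R N).mono
    simp
  | insert a s _ ih =>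
    have ha := hs a (Finset.mem_insert_self a s)
    have ih' := ih (fun x hx => hs x (Finset.mem_insert_of_mem hx))
    apply (ih'.inf_normalizer (h a ha) (hVR a ha)).mono
    rw [Finset.iInf_insert]
    intro y hy
    exact ⟨hy.1.1, hy.2, hy.1.2⟩

end Cfsg.Agent.Lib.Helper13
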