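import Mathlib
import Cfsg.Agent.Lib.Helper18.Fpf4Mod

/-!
# `final_lemma` (piece P4 of helper1's plan for S4305), part A: general lemmas
-/

set_option autoImplicit false

namespace Cfsg.Agent.Lib.Helper13.FrobFinal

open scoped commutatorElement
open Cfsg.Agent.Lib.Helper18.Fpf4

section General

variable {G : Type*} [Group G]

/-- in a finite group, one inclusion suffices for membership in the normalizer -/
theorem mem_normalizer_of_conj_mem [Finite G] (H : Subgroup G) (a : G)
    (h : ∀ k ∈ H, a * k * a⁻¹ ∈ H) : a ∈ Subgroup.normalizer (H : Set G) := by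
  let σ : H → H := fun k => ⟨a * k * a⁻¹, h k k.2⟩
  have hinj : Function.Injective σ := by
    intro k l hkl
    have h1 : a * (k : G) * a⁻¹ = a * (l : G) * a⁻¹ := congrArg Subtype.val hkl
    exact Subtype.ext (mul_left_cancel (mul_right_cancel h1))
  have hsurj : Function.Surjective σ := Finite.injective_iff_surjective.mp hinj
  rw [Subgroup.mem_normalizer_iff]
  intro k
  constructor
  · exact h k
  · intro hk
    obtain ⟨l, hl⟩ := hsurj ⟨a * k * a⁻¹, hk⟩
    have h1 : a * (l : G) * a⁻¹ = a * k * a⁻¹ := congrArg Subtype.val hl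
    have h2 : (l : G) = k := mul_left_cancel (mul_right_cancel h1)
    rw [← h2]
    exact l.2

theorem mem_of_pow_mem [Finite G] (H : Subgroup G) {y : G} {m : ℕ}
    (hm : (Nat.card G).Coprime m) (h : y ^ m ∈ H) : y ∈ H := by
  have h2 : (y ^ m) ^ ((Nat.card G).gcdB m) = y := (powCoprime hm).left_inv y
  rw [← h2]
  exact H.zpow_mem h _

/-- a nontrivial element of a cyclic group of prime exponent generates it -/
theorem mem_zpowers_of_prime {f u : G} {p : ℕ} (hp : p.Prime) (hfp : f ^ p = 1)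
    (hu : u ∈ Subgroup.zpowers f) (hu1 : u ≠ 1) : f ∈ Subgroup.zpowers u := by
  obtain ⟨k, rfl⟩ := Subgroup.mem_zpowers_iff.mp hu
  have hcop : IsCoprime k (p : ℤ) := by
    rw [isCoprime_comm]
    apply (Nat.prime_iff_prime_int.mp hp).coprime_iff_not_dvd.mpr
    rintro ⟨m, rfl⟩
    apply hu1
    rw [zpow_mul, zpow_natCast, hfp, one_zpow]
  obtain ⟨a, b, hab⟩ := hcop
  rw [Subgroup.mem_zpowers_iff]
  refine ⟨a, ?_⟩
  have : f = f ^ (a * k + b * (p : ℤ)) := by rw [hab, zpow_one]
  conv_rhs => rw [this]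
  rw [zpow_add, zpow_mul' f b, zpow_natCast, hfp, one_zpow, mul_one, mul_comm a k, zpow_mul]

end General

section Mod

variable {T : Type*} [CommGroup T]

/-- the automorphisms acting trivially modulo `N` -/
def trivMod (N : Subgroup T) : Subgroup (MulAut T) where
  carrier := {g | ∀ t : T, g t * t⁻¹ ∈ N}
  one_mem' := by
    intro t
    simp
  mul_mem' := by
    intro g h hg hh t
    have e : (g * h) t * t⁻¹ = (g (h t) * (h t)⁻¹) * (h t * t⁻¹) := by
      rw [MulAut.mul_apply]; group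
    rw [e]
    exact N.mul_mem (hg (h t)) (hh t)
  inv_mem' := by
    intro g hg t
    have h1 := hg (g⁻¹ t)
    rw [MulAut.apply_inv_self] at h1
    have e : g⁻¹ t * t⁻¹ = (t * (g⁻¹ t)⁻¹)⁻¹ := by group
    rw [e]
    exact N.inv_mem h1

theorem mem_trivMod {N : Subgroup T} {g : MulAut T} : g ∈ trivMod N ↔ ∀ t : T, g t * t⁻¹ ∈ N :=
  Iff.rfl

theorem trivMod_preserves {N : Subgroup T} {g : MulAut T} (hg : g ∈ trivMod N) {n : T}
    (hn : n ∈ N) : g n ∈ N := by
  have h1 := hg n
  have e : g n = (g n * n⁻¹) * n := by group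
  rw [e]
  exact N.mul_mem h1 hn

theorem conj_mem_trivMod {N : Subgroup T} {g c : MulAut T} (hg : g ∈ trivMod N)
    (hc : ∀ n ∈ N, c n ∈ N) : c * g * c⁻¹ ∈ trivMod N := by
  intro t
  have h1 := hc _ (hg (c⁻¹ t))
  rw [map_mul, map_inv, MulAut.apply_inv_self] at h1
  simpa [MulAut.mul_apply] using h1

/-- `⁅Rb, ⟨x⟩⁆` acts trivially modulo `N` -/
theorem commutator_le_trivMod (Rb : Subgroup (MulAut T)) (x : MulAut T) (N : Subgroup T)
    (hNR : ∀ c ∈ Rb, ∀ n ∈ N, c n ∈ N) (hNx : ∀ t : T, x t * t⁻¹ ∈ N) :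
    ⁅Rb, Subgroup.zpowers x⁆ ≤ trivMod N := by
  have hx : Subgroup.zpowers x ≤ trivMod N := by
    rw [Subgroup.zpowers_le]
    exact hNx
  rw [Subgroup.commutator_le]
  intro c hc g hg
  have e : ⁅c, g⁆ = (c * g * c⁻¹) * g⁻¹ := by rw [commutatorElement_def]
  rw [e]
  exact Subgroup.mul_mem _ (conj_mem_trivMod (hx hg) (hNR c hc)) (Subgroup.inv_mem _ (hx hg))

end Mod

end Cfsg.Agent.Lib.Helper13.FrobFinal
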