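import Mathlib
import Cfsg.Agent.Lib.Helper18.Fpf4Mod
import Cfsg.Agent.Lib.Helper13.FrobFinalA

/-!
# `final_lemma` (piece P4 of helper1's plan for S4305), part B: the reduction to the
fixed-point-freeness of `x` on `C_T(⁅Rb, ⟨x⟩⁆)`
-/

set_option autoImplicit false

namespace Cfsg.Agent.Lib.Helper13.FrobFinal

open scoped commutatorElement
open Cfsg.Agent.Lib.Helper18.Fpf4

variable {T : Type*} [CommGroup T] [Finite T]

/-- `⁅Rb, ⟨x⟩⁆ ≤ Rb` -/
theorem comm_le_left (Rb : Subgroup (MulAut T)) (x : MulAut T)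
    (hxR : ∀ c ∈ Rb, x * c * x⁻¹ ∈ Rb) : ⁅Rb, Subgroup.zpowers x⁆ ≤ Rb := by
  rw [← Subgroup.le_normalizer_iff_commutator_le_left, Subgroup.zpowers_le]
  exact mem_normalizer_of_conj_mem Rb x hxR

/-- `⟨x⟩` normalizes `⁅Rb, ⟨x⟩⁆` -/
theorem zpowers_normalizes_comm (Rb : Subgroup (MulAut T)) (x : MulAut T)
    (hxR : ∀ c ∈ Rb, x * c * x⁻¹ ∈ Rb) :
    ∀ h ∈ Subgroup.zpowers x, ∀ d ∈ ⁅Rb, Subgroup.zpowers x⁆,
      h * d * h⁻¹ ∈ ⁅Rb, Subgroup.zpowers x⁆ := by
  have hxN : Subgroup.zpowers x ≤ Subgroup.normalizer (Rb : Set (MulAut T)) := by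
    rw [Subgroup.zpowers_le]
    exact mem_normalizer_of_conj_mem Rb x hxR
  have key : Subgroup.zpowers x ≤
      Subgroup.normalizer ((⁅Rb, Subgroup.zpowers x⁆ : Subgroup (MulAut T)) : Set (MulAut T)) := by
    rw [Subgroup.commutator_def, Subgroup.le_normalizer_closure_iff]
    rintro a' ha' g ⟨k, hk, a, ha, rfl⟩
    have e : a' * ⁅k, a⁆ * a'⁻¹ = ⁅a' * k * a'⁻¹, a' * a * a'⁻¹⁆ := by
      simp only [commutatorElement_def]; group
    rw [e, ← Subgroup.commutator_def]
    exact Subgroup.commutator_mem_commutator ((Subgroup.le_normalizer_iff.mp hxN) a' ha' k hk)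
      (Subgroup.mul_mem _ (Subgroup.mul_mem _ ha' ha) (Subgroup.inv_mem _ ha'))
  intro h hh d hd
  exact (Subgroup.le_normalizer_iff.mp key) h hh d hd

/-- subgroups between `⁅Rb, ⟨x⟩⁆` and `Rb` are normalized by `⟨x⟩` -/
theorem conj_mem_of_between (Rb E : Subgroup (MulAut T)) (x : MulAut T)
    (hE1 : ⁅Rb, Subgroup.zpowers x⁆ ≤ E) (hE2 : E ≤ Rb) :
    ∀ h ∈ Subgroup.zpowers x, ∀ e ∈ E, h * e * h⁻¹ ∈ E := by
  intro h hh e he
  have e1 : h * e * h⁻¹ = (⁅e, h⁆)⁻¹ * e := by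
    rw [commutatorElement_def]; group
  rw [e1]
  exact E.mul_mem (E.inv_mem (hE1 (Subgroup.commutator_mem_commutator (hE2 he) hh))) he

/-- if `x` centralizes no nonidentity element of `Rb` then `Rb = ⁅Rb, ⟨x⟩⁆` -/
theorem le_comm_of_fpf (Rb : Subgroup (MulAut T)) (x : MulAut T)
    (hxR : ∀ c ∈ Rb, x * c * x⁻¹ ∈ Rb) (hfpf : ∀ c ∈ Rb, x * c = c * x → c = 1) :
    Rb ≤ ⁅Rb, Subgroup.zpowers x⁆ := by
  have hxN := mem_normalizer_of_conj_mem Rb x hxR
  have hx' : ∀ c ∈ Rb, x * c⁻¹ * x⁻¹ ∈ Rb := fun c hc => hxR _ (Rb.inv_mem hc)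
  let θ : Rb → Rb := fun c => ⟨⁅(c : MulAut T), x⁆, by
    rw [commutatorElement_def, mul_assoc, mul_assoc]
    refine Rb.mul_mem c.2 ?_
    rw [← mul_assoc]
    exact hx' c c.2⟩
  have hinj : Function.Injective θ := by
    intro c c' hcc
    have h1 : ⁅(c : MulAut T), x⁆ = ⁅(c' : MulAut T), x⁆ := congrArg Subtype.val hcc
    simp only [commutatorElement_def] at h1
    have h2 : (c : MulAut T) * x * (c : MulAut T)⁻¹ = (c' : MulAut T) * x * (c' : MulAut T)⁻¹ :=
      mul_right_cancel h1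
    have h3 : x * ((c' : MulAut T)⁻¹ * c) = ((c' : MulAut T)⁻¹ * c) * x := by
      have : x * ((c' : MulAut T)⁻¹ * c) =
          (c' : MulAut T)⁻¹ * ((c' : MulAut T) * x * (c' : MulAut T)⁻¹) * c := by group
      rw [this, ← h2]
      group
    have h4 := hfpf _ (Rb.mul_mem (Rb.inv_mem c'.2) c.2) h3
    apply Subtype.ext
    have : (c' : MulAut T) = c := by
      have := inv_mul_eq_one.mp h4
      exact this
    exact this.symm
  have hsurj : Function.Surjective θ := Finite.injective_iff_surjective.mp hinj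
  intro r hr
  obtain ⟨c, hc⟩ := hsurj ⟨r, hr⟩
  have h1 : ⁅(c : MulAut T), x⁆ = r := congrArg Subtype.val hc
  rw [← h1]
  exact Subgroup.commutator_mem_commutator c.2 (Subgroup.mem_zpowers x)

/-- the norm argument: an `x`-invariant subgroup `C` on which `x` has no fixed points lies in `N`
if `x` acts trivially modulo `N` -/
theorem le_of_fpf_norm (x : MulAut T) {q : ℕ} (hxq : x ^ q = 1) (hcopqT : (Nat.card T).Coprime q)
    (N C : Subgroup T) (hNx : x ∈ trivMod N) (hCx : ∀ t ∈ C, x t ∈ C)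
    (hfpf : ∀ t ∈ C, x t = t → t = 1) : C ≤ N := by
  intro t ht
  have hpowC : ∀ k : ℕ, (x ^ k) t ∈ C := by
    intro k
    induction k with
    | zero => simpa using ht
    | succ k ih =>
      rw [pow_succ', MulAut.mul_apply]
      exact hCx _ ih
  have hP : ∏ k ∈ Finset.range q, (x ^ k) t = 1 := by
    apply hfpf
    · exact Subgroup.prod_mem C (fun k _ => hpowC k)
    · rw [map_prod]
      have h1 : ∀ k ∈ Finset.range q, x ((x ^ k) t) = (x ^ (k + 1)) t := by
        intro k _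
        rw [pow_succ', MulAut.mul_apply]
      rw [Finset.prod_congr rfl h1]
      have h2 := Finset.prod_range_succ (fun k => (x ^ k) t) q
      have h3 := Finset.prod_range_succ' (fun k => (x ^ k) t) q
      rw [h2] at h3
      simp only [hxq, pow_zero, MulAut.one_apply] at h3
      exact mul_right_cancel h3.symm
  have hmod : ∀ k : ℕ, (x ^ k) t * t⁻¹ ∈ N := fun k => (Subgroup.pow_mem _ hNx k) t
  have h4 : (∏ k ∈ Finset.range q, (x ^ k) t) * (t ^ q)⁻¹ ∈ N := by
    have : (∏ k ∈ Finset.range q, (x ^ k) t) * (t ^ q)⁻¹ =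
        ∏ k ∈ Finset.range q, ((x ^ k) t * t⁻¹) := by
      rw [Finset.prod_mul_distrib, Finset.prod_const, Finset.card_range, inv_pow]
    rw [this]
    exact Subgroup.prod_mem N (fun k _ => hmod k)
  rw [hP, one_mul] at h4
  have h5 : t ^ q ∈ N := by
    have := N.inv_mem h4
    rwa [inv_inv] at this
  exact mem_of_pow_mem N hcopqT h5

/-- the trace argument: if `D` acts trivially modulo `N` and its fixed points lie in `N`,
then `N = ⊤` -/
theorem eq_top_of_fixSub_le (D : Subgroup (MulAut T)) (N : Subgroup T)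
    (hcop : (Nat.card T).Coprime (Nat.card D)) (hD : D ≤ trivMod N)
    (hC : fixSub (D : Set (MulAut T)) ≤ N) : N = ⊤ := by
  classical
  haveI : Fintype ↥D := Fintype.ofFinite _
  rw [eq_top_iff]
  intro t _
  have h1 : trP D t ∈ N := by
    apply hC
    intro y hy
    exact mem_apply_trP D y hy t
  have h2 : t ^ Nat.card D * (trP D t)⁻¹ ∈ N := by
    have : t ^ Nat.card D * (trP D t)⁻¹ = ∏ y : ↥D, (t * ((y : MulAut T) t)⁻¹) := by
      rw [Finset.prod_mul_distrib, Finset.prod_const, Finset.card_univ, Finset.prod_inv_distrib,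
        ← trP_apply, Nat.card_eq_fintype_card]
    rw [this]
    apply Subgroup.prod_mem
    intro y _
    have h3 := hD y.2 t
    have e : t * ((y : MulAut T) t)⁻¹ = ((y : MulAut T) t * t⁻¹)⁻¹ := by group
    rw [e]
    exact N.inv_mem h3
  have h3 : t ^ Nat.card D ∈ N := by
    have := N.mul_mem h2 h1
    rwa [inv_mul_cancel_right] at this
  exact mem_of_pow_mem N hcop h3

end Cfsg.Agent.Lib.Helper13.FrobFinal
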