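import Mathlib
import Cfsg.Agent.Lib.Helper18.Fpf4Mod
import Cfsg.Agent.Lib.Helper13.FrobFinalB

/-!
# `final_lemma` (piece P4 of helper1's plan for S4305), part C: `x` has no fixed point on
`C_T(⁅Rb, ⟨x⟩⁆)`, and the final statement
-/

set_option autoImplicit false

namespace Cfsg.Agent.Lib.Helper13.FrobFinal

open scoped commutatorElement
open Cfsg.Agent.Lib.Helper18.Fpf4

variable {T : Type*} [CommGroup T] [Finite T]

section CaseTwo

variable (Rb : Subgroup (MulAut T)) (f x : MulAut T) {p : ℕ} (hp : p.Prime)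
  (hRab : ∀ c ∈ Rb, ∀ d ∈ Rb, c * d = d * c)
  (hfR : ∀ c ∈ Rb, f * c * f⁻¹ ∈ Rb) (hxR : ∀ c ∈ Rb, x * c * x⁻¹ ∈ Rb)
  (hfp : f ^ p = 1)
  (hxf : ∀ g ∈ Subgroup.zpowers f, x * g * x⁻¹ ∈ Subgroup.zpowers f)
  (hfree : ∀ g ∈ Subgroup.zpowers f, x * g = g * x → g = 1)
  (hirr : ∀ D : Subgroup (MulAut T), D ≤ Rb → (∀ d ∈ D, f * d * f⁻¹ ∈ D) →
    (∀ d ∈ D, x * d * x⁻¹ ∈ D) → D = ⊥ ∨ D = Rb)
  (hRb : Rb ≠ ⊥)
  (hD1 : Rb ⊓ Subgroup.centralizer (Subgroup.zpowers f : Set (MulAut T)) = ⊥)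

include hp hfR hxR hfp hxf hfree hirr hRb hD1 in
/-- in case II, `⁅Rb, ⟨x⟩⁆` and its conjugate under `g ∈ ⟨f⟩`, `g ≠ 1`, generate `Rb` -/
theorem sup_conj_eq (g : MulAut T) (hg : g ∈ Subgroup.zpowers f) (hg1 : g ≠ 1) :
    ⁅Rb, Subgroup.zpowers x⁆ ⊔ (⁅Rb, Subgroup.zpowers x⁆).map (MulAut.conj g).toMonoidHom = Rb := by
  have hfN : Subgroup.zpowers f ≤ Subgroup.normalizer (Rb : Set (MulAut T)) := by
    rw [Subgroup.zpowers_le]
    exact mem_normalizer_of_conj_mem Rb f hfR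
  have hxNf : x ∈ Subgroup.normalizer ((Subgroup.zpowers f : Subgroup (MulAut T)) : Set (MulAut T)) :=
    mem_normalizer_of_conj_mem _ x hxf
  have hgR : ∀ c ∈ Rb, g * c * g⁻¹ ∈ Rb := fun c hc =>
    (Subgroup.mem_normalizer_iff.mp (hfN hg) c).mp hc
  have hgR' : ∀ c ∈ Rb, g⁻¹ * c * g ∈ Rb := fun c hc =>
    (Subgroup.mem_normalizer_iff''.mp (hfN hg) c).mp hc
  have hD0R := comm_le_left Rb x hxR
  set E := ⁅Rb, Subgroup.zpowers x⁆ ⊔ (⁅Rb, Subgroup.zpowers x⁆).map (MulAut.conj g).toMonoidHom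
    with hE
  have hE1 : ⁅Rb, Subgroup.zpowers x⁆ ≤ E := le_sup_left
  have hE1' : (⁅Rb, Subgroup.zpowers x⁆).map (MulAut.conj g).toMonoidHom ≤ E := le_sup_right
  have hE2 : E ≤ Rb := by
    apply sup_le hD0R
    rintro _ ⟨d, hd, rfl⟩
    simp only [MulEquiv.coe_toMonoidHom, MulAut.conj_apply]
    exact hgR d (hD0R hd)
  have hEx := conj_mem_of_between Rb E x hE1 hE2
  -- invariance under `g x g⁻¹`
  have hEx' : ∀ e ∈ E, (g * x * g⁻¹) * e * (g * x * g⁻¹)⁻¹ ∈ E := by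
    intro e he
    have he' : g⁻¹ * e * g ∈ Rb := hgR' e (hE2 he)
    have e1 : (g * x * g⁻¹) * e * (g * x * g⁻¹)⁻¹ =
        (g * ⁅g⁻¹ * e * g, x⁆ * g⁻¹)⁻¹ * e := by
      rw [commutatorElement_def]; group
    rw [e1]
    refine E.mul_mem (E.inv_mem (hE1' ?_)) he
    refine ⟨⁅g⁻¹ * e * g, x⁆, Subgroup.commutator_mem_commutator he' (Subgroup.mem_zpowers x), ?_⟩
    simp only [MulEquiv.coe_toMonoidHom, MulAut.conj_apply]
  -- the element `u`
  have hu : x⁻¹ * (g * x * g⁻¹) ∈ Subgroup.zpowers f := by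
    have h1 : x⁻¹ * g * x ∈ Subgroup.zpowers f :=
      (Subgroup.mem_normalizer_iff''.mp hxNf g).mp hg
    have e1 : x⁻¹ * (g * x * g⁻¹) = (x⁻¹ * g * x) * g⁻¹ := by group
    rw [e1]
    exact Subgroup.mul_mem _ h1 (Subgroup.inv_mem _ hg)
  have hu1 : x⁻¹ * (g * x * g⁻¹) ≠ 1 := by
    intro h1
    apply hg1
    apply hfree g hg
    have h2 : g * x * g⁻¹ = x := by
      have : g * x * g⁻¹ = x * (x⁻¹ * (g * x * g⁻¹)) := by group
      rw [this, h1, mul_one]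
    have : x * g = (g * x * g⁻¹) * g := by rw [h2]
    rw [this]
    group
  have hEu : ∀ e ∈ E, (x⁻¹ * (g * x * g⁻¹)) * e * (x⁻¹ * (g * x * g⁻¹))⁻¹ ∈ E := by
    intro e he
    have h1 := hEx x⁻¹ (Subgroup.inv_mem _ (Subgroup.mem_zpowers x)) _ (hEx' e he)
    have e1 : (x⁻¹ * (g * x * g⁻¹)) * e * (x⁻¹ * (g * x * g⁻¹))⁻¹ =
        x⁻¹ * ((g * x * g⁻¹) * e * (g * x * g⁻¹)⁻¹) * x⁻¹⁻¹ := by group
    rw [e1]
    exact h1
  have hfu : f ∈ Subgroup.zpowers (x⁻¹ * (g * x * g⁻¹)) := mem_zpowers_of_prime hp hfp hu hu1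
  have hEf : ∀ e ∈ E, f * e * f⁻¹ ∈ E := by
    have h1 : Subgroup.zpowers (x⁻¹ * (g * x * g⁻¹)) ≤
        Subgroup.normalizer (E : Set (MulAut T)) := by
      rw [Subgroup.zpowers_le]
      exact mem_normalizer_of_conj_mem E _ hEu
    intro e he
    exact (Subgroup.mem_normalizer_iff.mp (h1 hfu) e).mp he
  rcases hirr E hE2 hEf (fun e he => hEx x (Subgroup.mem_zpowers x) e he) with hbot | htop
  · exfalso
    apply hRb
    rw [eq_bot_iff, ← hD1]
    have hD0 : ⁅Rb, Subgroup.zpowers x⁆ = ⊥ := by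
      rw [eq_bot_iff, ← hbot]
      exact hE1
    -- `x` commutes with `Rb`
    have hxc : ∀ c ∈ Rb, c * x = x * c := by
      intro c hc
      have : ⁅c, x⁆ ∈ ⁅Rb, Subgroup.zpowers x⁆ :=
        Subgroup.commutator_mem_commutator hc (Subgroup.mem_zpowers x)
      rw [hD0, Subgroup.mem_bot, commutatorElement_eq_one_iff_mul_comm] at this
      exact this
    have huc : x⁻¹ * (g * x * g⁻¹) ∈ Subgroup.centralizer (Rb : Set (MulAut T)) := by
      rw [Subgroup.mem_centralizer_iff]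
      intro c hc
      have h1 := hxc c hc
      have h2 := hxc _ (hgR' c hc)
      -- c * u = u * c
      have h1' : c * x⁻¹ = x⁻¹ * c := by
        have : c * x⁻¹ = x⁻¹ * (x * c) * x⁻¹ := by group
        rw [this, ← h1]; group
      have h2' : c * (g * x * g⁻¹) = (g * x * g⁻¹) * c := by
        have : c * (g * x * g⁻¹) = g * ((g⁻¹ * c * g) * x) * g⁻¹ := by group
        rw [this, h2]; group
      calc c * (x⁻¹ * (g * x * g⁻¹)) = (c * x⁻¹) * (g * x * g⁻¹) := by group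
        _ = x⁻¹ * (c * (g * x * g⁻¹)) := by rw [h1']; group
        _ = x⁻¹ * (g * x * g⁻¹) * c := by rw [h2']; group
    have hzc : Subgroup.zpowers f ≤ Subgroup.centralizer (Rb : Set (MulAut T)) := by
      have h1 : Subgroup.zpowers (x⁻¹ * (g * x * g⁻¹)) ≤
          Subgroup.centralizer (Rb : Set (MulAut T)) := by
        rw [Subgroup.zpowers_le]; exact huc
      rw [Subgroup.zpowers_le]
      exact h1 hfu
    intro c hc
    refine Subgroup.mem_inf.mpr ⟨hc, ?_⟩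
    rw [Subgroup.mem_centralizer_iff]
    intro g' hg'
    have := (Subgroup.mem_centralizer_iff.mp (hzc hg')) c hc
    exact this.symm
  · exact htop

end CaseTwo

end Cfsg.Agent.Lib.Helper13.FrobFinal
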