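import Mathlib
import Cfsg.Agent.Lib.Helper18.Fpf4Mod
import Cfsg.Agent.Lib.Helper13.FrobFinalC

/-!
# `final_lemma` (piece P4 of helper1's plan for S4305), part D: the final statement
-/

set_option autoImplicit false

namespace Cfsg.Agent.Lib.Helper13.FrobFinal

open scoped commutatorElement
open Cfsg.Agent.Lib.Helper18.Fpf4

variable {T : Type*} [CommGroup T] [Finite T]

/-- if `y` is fixed by `D₀` and `D₀` and `g D₀ g⁻¹` generate the abelian group `Rb`, which has no
fixed points, then the `D₀`-trace of `g y` is trivial -/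
theorem trP_conj_eq_one (Rb D0 : Subgroup (MulAut T)) (g : MulAut T)
    (hRab : ∀ c ∈ Rb, ∀ d ∈ Rb, c * d = d * c)
    (hfixR : ∀ t : T, (∀ c ∈ Rb, c t = t) → t = 1)
    (hD0R : D0 ≤ Rb) (hgR : ∀ c ∈ Rb, g * c * g⁻¹ ∈ Rb)
    (hsup : D0 ⊔ D0.map (MulAut.conj g).toMonoidHom = Rb)
    {y : T} (hy : y ∈ fixSub (D0 : Set (MulAut T))) : trP D0 (g y) = 1 := by
  apply hfixR
  have hle : Rb ≤ MulAction.stabilizer (MulAut T) (trP D0 (g y)) := by
    rw [← hsup]
    apply sup_le
    · intro d hd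
      rw [MulAction.mem_stabilizer_iff, MulAut.smul_def]
      exact mem_apply_trP D0 d hd (g y)
    · rintro _ ⟨d, hd, rfl⟩
      rw [MulAction.mem_stabilizer_iff, MulAut.smul_def]
      simp only [MulEquiv.coe_toMonoidHom, MulAut.conj_apply]
      have heR : g * d * g⁻¹ ∈ Rb := hgR d (hD0R hd)
      have hs : ∀ y' ∈ D0, (g * d * g⁻¹) * y' * (g * d * g⁻¹)⁻¹ ∈ D0 := by
        intro y' hy'
        rw [hRab _ heR _ (hD0R hy'), mul_assoc, mul_inv_cancel, mul_one]
        exact hy'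
      rw [← trP_conj D0 (g * d * g⁻¹) hs (g y)]
      congr 1
      rw [MulAut.mul_apply, MulAut.mul_apply, MulAut.inv_apply_self]
      congr 1
      exact hy d hd
  intro c hc
  have := hle hc
  rwa [MulAction.mem_stabilizer_iff, MulAut.smul_def] at this

theorem final_lemma (Rb : Subgroup (MulAut T))
    (f x : MulAut T) {p q : ℕ} (hp : p.Prime) (hq : q.Prime)
    (hRab : ∀ c ∈ Rb, ∀ d ∈ Rb, c * d = d * c)
    (hfR : ∀ c ∈ Rb, f * c * f⁻¹ ∈ Rb) (hxR : ∀ c ∈ Rb, x * c * x⁻¹ ∈ Rb)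
    (hfp : f ^ p = 1) (hxq : x ^ q = 1)
    (hxf : ∀ g ∈ Subgroup.zpowers f, x * g * x⁻¹ ∈ Subgroup.zpowers f)
    (hfree : ∀ g ∈ Subgroup.zpowers f, x * g = g * x → g = 1)
    (hcopRT : (Nat.card Rb).Coprime (Nat.card T))
    (hcopqT : (Nat.card T).Coprime q) (hcopqR : (Nat.card Rb).Coprime q)
    (hfixR : ∀ t : T, (∀ c ∈ Rb, c t = t) → t = 1)
    (hfixA : ∀ t : T, f t = t → x t = t → t = 1)
    (hfixRA : ∀ c ∈ Rb, f * c = c * f → x * c = c * x → c = 1)
    (hirr : ∀ D : Subgroup (MulAut T), D ≤ Rb → (∀ d ∈ D, f * d * f⁻¹ ∈ D) →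
      (∀ d ∈ D, x * d * x⁻¹ ∈ D) → D = ⊥ ∨ D = Rb)
    (N : Subgroup T) (hNR : ∀ c ∈ Rb, ∀ n ∈ N, c n ∈ N) (hNx : ∀ t : T, x t * t⁻¹ ∈ N) :
    N = ⊤ := by
  classical
  by_cases hRb : Rb = ⊥
  · -- `T` is trivial
    rw [eq_top_iff]
    intro t _
    have : t = 1 := by
      apply hfixR
      intro c hc
      rw [hRb, Subgroup.mem_bot] at hc
      rw [hc, MulAut.one_apply]
    rw [this]
    exact N.one_mem
  have hD0R := comm_le_left Rb x hxR
  have hD0N := commutator_le_trivMod Rb x N hNR hNx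
  have hcop : (Nat.card T).Coprime (Nat.card ↥(⁅Rb, Subgroup.zpowers x⁆)) :=
    (Nat.Coprime.coprime_dvd_left (Subgroup.card_dvd_of_le hD0R) hcopRT).symm
  apply eq_top_of_fixSub_le _ N hcop hD0N
  have hxN : x ∈ trivMod N := hNx
  apply le_of_fpf_norm x hxq hcopqT N _ hxN
  · -- `C` is `x`-invariant
    intro t ht d hd
    have h1 : x⁻¹ * d * x⁻¹⁻¹ ∈ ⁅Rb, Subgroup.zpowers x⁆ :=
      zpowers_normalizes_comm Rb x hxR x⁻¹ (Subgroup.inv_mem _ (Subgroup.mem_zpowers x)) d hd
    have h2 := ht _ h1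
    rw [inv_inv, MulAut.mul_apply, MulAut.mul_apply] at h2
    have h3 := congrArg x h2
    rwa [MulAut.apply_inv_self] at h3
  · -- `x` has no fixed points on `C`
    intro y hy hxy
    -- the two cases
    have hfN : Subgroup.zpowers f ≤ Subgroup.normalizer (Rb : Set (MulAut T)) := by
      rw [Subgroup.zpowers_le]
      exact mem_normalizer_of_conj_mem Rb f hfR
    have hxNf : x ∈ Subgroup.normalizer
        ((Subgroup.zpowers f : Subgroup (MulAut T)) : Set (MulAut T)) :=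
      mem_normalizer_of_conj_mem _ x hxf
    have hD1f : ∀ d ∈ Rb ⊓ Subgroup.centralizer (Subgroup.zpowers f : Set (MulAut T)),
        f * d * f⁻¹ ∈ Rb ⊓ Subgroup.centralizer (Subgroup.zpowers f : Set (MulAut T)) := by
      intro d hd
      have h1 := (Subgroup.mem_centralizer_iff.mp (Subgroup.mem_inf.mp hd).2) f
        (Subgroup.mem_zpowers f)
      rw [h1, mul_assoc, mul_inv_cancel, mul_one]
      exact hd
    have hD1x : ∀ d ∈ Rb ⊓ Subgroup.centralizer (Subgroup.zpowers f : Set (MulAut T)),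
        x * d * x⁻¹ ∈ Rb ⊓ Subgroup.centralizer (Subgroup.zpowers f : Set (MulAut T)) := by
      intro d hd
      obtain ⟨hdR, hdC⟩ := Subgroup.mem_inf.mp hd
      refine Subgroup.mem_inf.mpr ⟨hxR d hdR, ?_⟩
      rw [Subgroup.mem_centralizer_iff]
      intro g hg
      have hg' : x⁻¹ * g * x ∈ Subgroup.zpowers f :=
        (Subgroup.mem_normalizer_iff''.mp hxNf g).mp hg
      have h1 := (Subgroup.mem_centralizer_iff.mp hdC) _ hg'
      calc g * (x * d * x⁻¹) = x * ((x⁻¹ * g * x) * d) * x⁻¹ := by group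
        _ = x * (d * (x⁻¹ * g * x)) * x⁻¹ := by rw [h1]
        _ = x * d * x⁻¹ * g := by group
    rcases hirr _ inf_le_left hD1f hD1x with hD1 | hD1
    · -- case II
      have hyfix : ∀ d ∈ ⁅Rb, Subgroup.zpowers x⁆, d y = y := hy
      -- `z := trP ⟨f⟩ y = 1`
      have hz : trP (Subgroup.zpowers f) y = 1 := by
        apply hfixA
        · exact mem_apply_trP _ f (Subgroup.mem_zpowers f) y
        · rw [← trP_conj (Subgroup.zpowers f) x hxf y, hxy]
      haveI : Fintype ↥(Subgroup.zpowers f) := Fintype.ofFinite _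
      have h1 : trP ⁅Rb, Subgroup.zpowers x⁆ (trP (Subgroup.zpowers f) y) =
          y ^ Nat.card ↥(⁅Rb, Subgroup.zpowers x⁆) := by
        rw [trP_apply (Subgroup.zpowers f), map_prod]
        rw [Finset.prod_eq_single (1 : ↥(Subgroup.zpowers f))]
        · rw [Subgroup.coe_one, MulAut.one_apply]
          exact trP_of_fixed _ y hyfix
        · intro g _ hg1
          have hg1' : (g : MulAut T) ≠ 1 := fun h => hg1 (Subtype.ext h)
          have hgR : ∀ c ∈ Rb, (g : MulAut T) * c * (g : MulAut T)⁻¹ ∈ Rb := fun c hc =>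
            (Subgroup.mem_normalizer_iff.mp (hfN g.2) c).mp hc
          exact trP_conj_eq_one Rb _ g hRab hfixR hD0R hgR
            (sup_conj_eq Rb f x hp hfR hxR hfp hxf hfree hirr hRb hD1 g g.2 hg1') hy
        · intro h
          exact absurd (Finset.mem_univ _) h
      rw [hz, map_one] at h1
      have h2 : y ^ Nat.card ↥(⁅Rb, Subgroup.zpowers x⁆) ∈ (⊥ : Subgroup T) := by
        rw [Subgroup.mem_bot]; exact h1.symm
      exact Subgroup.mem_bot.mp (mem_of_pow_mem ⊥ hcop h2)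
    · -- case I
      have hfc : ∀ c ∈ Rb, f * c = c * f := by
        intro c hc
        have : c ∈ Rb ⊓ Subgroup.centralizer (Subgroup.zpowers f : Set (MulAut T)) := by
          rw [hD1]; exact hc
        exact (Subgroup.mem_centralizer_iff.mp (Subgroup.mem_inf.mp this).2) f
          (Subgroup.mem_zpowers f)
      have hle := le_comm_of_fpf Rb x hxR (fun c hc hxc => hfixRA c hc (hfc c hc) hxc)
      apply hfixR
      intro c hc
      exact hy c (hle hc)

end Cfsg.Agent.Lib.Helper13.FrobFinal
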