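import Cfsg.Agent.Lib.Helper13.ConjFamily

set_option autoImplicit false

namespace Cfsg.Agent.Lib.Helper13

variable {G : Type*} [Group G]

section

variable {p : ℕ} {W : Subgroup G → Subgroup G} {S : Subgroup G}

theorem tower_shift (U : Subgroup G) (j i : ℕ) :
    Cfsg.functorTower W S (Cfsg.functorTower W S U j) i = Cfsg.functorTower W S U (j + i) := by
  induction i with
  | zero => rfl
  | succ i ih =>
    rw [tower_succ, ih]
    rfl

theorem tower_le (hW : Cfsg.IsConjugacyFunctor p W) (hS : IsPGroup p ↥S) {U : Subgroup G}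
    (hU : U ≤ S) (j : ℕ) : Cfsg.functorTower W S U j ≤ S := by
  cases j with
  | zero => exact hU
  | succ j =>
    rw [tower_succ]
    exact ((hW _ (hS.to_le inf_le_left)).1).trans inf_le_left

theorem wellPlaced_tower (hW : Cfsg.IsConjugacyFunctor p W) (hS : IsPGroup p ↥S) {U : Subgroup G}
    (hU : Cfsg.IsWellPlaced p W S U) (j : ℕ) :
    Cfsg.IsWellPlaced p W S (Cfsg.functorTower W S U j) := by
  refine ⟨tower_le hW hS hU.1 j, fun i => ?_⟩
  rw [tower_shift]
  exact hU.2 (j + i)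

theorem tower_ne_bot (hW : Cfsg.IsConjugacyFunctor p W) (hS : IsPGroup p ↥S) {U : Subgroup G}
    (hU : U ≤ S) (hne : U ≠ ⊥) (j : ℕ) : Cfsg.functorTower W S U j ≠ ⊥ := by
  cases j with
  | zero => exact hne
  | succ j =>
    rw [tower_succ]
    apply (hW _ (hS.to_le inf_le_left)).2.1
    intro hbot
    apply hne
    have h0 : U ≤ S ⊓ Subgroup.normalizer ((Cfsg.functorTower W S U 0 : Subgroup G) : Set G) :=
      le_inf hU Subgroup.le_normalizer
    have h1 := h0.trans (tower_normalizer_mono' hW hS U (Nat.zero_le j))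
    rw [hbot] at h1
    exact le_bot_iff.mp h1

theorem normalizer_le_normalizer_functor (hW : Cfsg.IsConjugacyFunctor p W) {Q : Subgroup G}
    (hQ : IsPGroup p ↥Q) :
    Subgroup.normalizer (Q : Set G) ≤ Subgroup.normalizer ((W Q : Subgroup G) : Set G) := by
  intro g hg
  rw [mem_normalizer_iff_cj_eq] at hg ⊢
  rw [← (hW Q hQ).2.2 g, hg]

/-- The chain of normalizers in `S` of the tower terms repeats within `|S| + 1` steps. -/
theorem exists_tower_normalizer_eq [Finite G] (hW : Cfsg.IsConjugacyFunctor p W) (hS : IsPGroup p ↥S)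
    (T : Subgroup G) :
    ∃ i ≤ Nat.card ↥S,
      S ⊓ Subgroup.normalizer ((Cfsg.functorTower W S T i : Subgroup G) : Set G) =
      S ⊓ Subgroup.normalizer ((Cfsg.functorTower W S T (i + 1) : Subgroup G) : Set G) := by
  by_contra hcon
  push Not at hcon
  have hgrow : ∀ i ≤ Nat.card ↥S + 1, i + 1 ≤ Nat.card ↥(S ⊓ Subgroup.normalizer
      ((Cfsg.functorTower W S T i : Subgroup G) : Set G)) := by
    intro i
    induction i with
    | zero => intro _; exact Nat.card_pos
    | succ i ih =>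
      intro hi
      have h1 := ih (by omega)
      have hlt : S ⊓ Subgroup.normalizer ((Cfsg.functorTower W S T i : Subgroup G) : Set G) <
          S ⊓ Subgroup.normalizer ((Cfsg.functorTower W S T (i + 1) : Subgroup G) : Set G) :=
        lt_of_le_of_ne (tower_normalizer_mono hW hS T i) (hcon i (by omega))
      have h2 : Nat.card ↥(S ⊓ Subgroup.normalizer ((Cfsg.functorTower W S T i : Subgroup G) : Set G)) <
          Nat.card ↥(S ⊓ Subgroup.normalizer ((Cfsg.functorTower W S T (i + 1) : Subgroup G) : Set G)) := by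
        by_contra hge
        push Not at hge
        exact absurd (Subgroup.eq_of_le_of_card_ge hlt.le hge) hlt.ne
      omega
  have h3 := hgrow (Nat.card ↥S + 1) le_rfl
  have h4 : Nat.card ↥(S ⊓ Subgroup.normalizer
      ((Cfsg.functorTower W S T (Nat.card ↥S + 1) : Subgroup G) : Set G)) ≤ Nat.card ↥S :=
    Subgroup.card_le_of_le inf_le_left
  omega

/-- The tower reaches `W S`. -/
theorem tower_eq_functor_top [Finite G] [Fact p.Prime] (hW : Cfsg.IsConjugacyFunctor p W)
    (hS : IsPGroup p ↥S) (T : Subgroup G) :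
    Cfsg.functorTower W S T (Nat.card ↥S + 1) = W S := by
  obtain ⟨i, hi, heq⟩ := exists_tower_normalizer_eq hW hS T
  have hQS : S ⊓ Subgroup.normalizer ((Cfsg.functorTower W S T i : Subgroup G) : Set G) = S := by
    by_contra hne
    have hlt := card_lt_card_inf_normalizer hS
      (inf_le_left : S ⊓ Subgroup.normalizer ((Cfsg.functorTower W S T i : Subgroup G) : Set G) ≤ S) hne
    have hle : S ⊓ Subgroup.normalizer ((S ⊓ Subgroup.normalizer
        ((Cfsg.functorTower W S T i : Subgroup G) : Set G) : Subgroup G) : Set G) ≤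
        S ⊓ Subgroup.normalizer ((Cfsg.functorTower W S T (i + 1) : Subgroup G) : Set G) := by
      rw [tower_succ]
      exact inf_le_inf_left _ (normalizer_le_normalizer_functor hW (hS.to_le inf_le_left))
    rw [← heq] at hle
    have := Subgroup.card_le_of_le hle
    omega
  rw [tower_stable T i heq (Nat.card ↥S + 1) (by omega), tower_succ, hQS]

end

section Control

variable {p : ℕ} [Fact p.Prime] [Finite G] {W : Subgroup G → Subgroup G}

/-- Control of strong fusion in `H` holds with respect to any Sylow `p`-subgroup of `H`. -/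
theorem controls_of_sylow (hW : Cfsg.IsConjugacyFunctor p W) {H : Subgroup G}
    (hc : Cfsg.ControlsStrongFusionIn p W H) {Q : Subgroup G} (hQH : Q ≤ H) (hQ : IsPGroup p ↥Q)
    (hQi : ¬ p ∣ Q.relIndex H) :
    ∀ (A : Set G) (h : G), h ∈ H → A ⊆ Q → (fun a => h * a * h⁻¹) '' A ⊆ Q →
      ∃ x ∈ H ⊓ Subgroup.normalizer ((W Q : Subgroup G) : Set G),
        ∀ a ∈ A, x * a * x⁻¹ = h * a * h⁻¹ := by
  obtain ⟨T, hTH, hTp, hTi, hT⟩ := hc
  obtain ⟨k, hkH, hle⟩ := exists_mem_cj_le_of_relIndex (p := p) hQH hQ hQi hTH hTp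
  have hHk : H.map (MulAut.conj k).toMonoidHom = H := cj_self_of_mem hkH
  have hTQ : T.map (MulAut.conj k).toMonoidHom = Q := by
    apply eq_of_le_of_not_dvd_relIndex (p := p) hle hQH hQ
    rw [← hHk, relIndex_cj]
    exact hTi
  intro A h hh hAQ hhA
  have hA' : (fun a => k⁻¹ * a * k) '' A ⊆ (T : Set G) := by
    rintro _ ⟨a, ha, rfl⟩
    have := hAQ ha
    rw [SetLike.mem_coe, ← hTQ, mem_cj] at this
    exact this
  have hh' : k⁻¹ * h * k ∈ H := H.mul_mem (H.mul_mem (H.inv_mem hkH) hh) hkH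
  have hhA' : (fun a => (k⁻¹ * h * k) * a * (k⁻¹ * h * k)⁻¹) '' ((fun a => k⁻¹ * a * k) '' A) ⊆ (T : Set G) := by
    rintro _ ⟨_, ⟨a, ha, rfl⟩, rfl⟩
    have := hhA ⟨a, ha, rfl⟩
    rw [SetLike.mem_coe, ← hTQ, mem_cj] at this
    have e : (k⁻¹ * h * k) * (k⁻¹ * a * k) * (k⁻¹ * h * k)⁻¹ = k⁻¹ * (h * a * h⁻¹) * k := by group
    show (k⁻¹ * h * k) * (k⁻¹ * a * k) * (k⁻¹ * h * k)⁻¹ ∈ T
    rw [e]
    exact this
  obtain ⟨x', hx', hxa⟩ := hT _ (k⁻¹ * h * k) hh' hA' hhA'
  refine ⟨k * x' * k⁻¹, Subgroup.mem_inf.mpr ⟨?_, ?_⟩, ?_⟩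
  · exact H.mul_mem (H.mul_mem hkH (Subgroup.mem_inf.mp hx').1) (H.inv_mem hkH)
  · rw [← hTQ, (hW T hTp).2.2 k, normalizer_cj]
    exact cj_mem (Subgroup.mem_inf.mp hx').2
  · intro a ha
    have := hxa (k⁻¹ * a * k) ⟨a, ha, rfl⟩
    calc k * x' * k⁻¹ * a * (k * x' * k⁻¹)⁻¹ = k * (x' * (k⁻¹ * a * k) * x'⁻¹) * k⁻¹ := by group
      _ = k * ((k⁻¹ * h * k) * (k⁻¹ * a * k) * (k⁻¹ * h * k)⁻¹) * k⁻¹ := by rw [this]
      _ = h * a * h⁻¹ := by group

end Control

end Cfsg.Agent.Lib.Helper13
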