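import Cfsg.Agent.Lib.Helper13.ConjFamily

set_option autoImplicit false

namespace Cfsg.Agent.Lib.Helper13

variable {G : Type*} [Group G]

/-- Right conjugate of a set: `g⁻¹ X g`. -/
def rcs (X : Set G) (g : G) : Set G := (fun a => g⁻¹ * a * g) '' X

theorem rcs_def (X : Set G) (g : G) : rcs X g = (fun a => g⁻¹ * a * g) '' X := rfl

theorem mem_rcs_of_mem {X : Set G} {g a : G} (h : a ∈ X) : g⁻¹ * a * g ∈ rcs X g := ⟨a, h, rfl⟩

theorem mem_rcs_iff {X : Set G} {g a : G} : a ∈ rcs X g ↔ g * a * g⁻¹ ∈ X := by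
  constructor
  · rintro ⟨b, hb, rfl⟩
    have : g * (g⁻¹ * b * g) * g⁻¹ = b := by group
    rwa [this]
  · intro h
    refine ⟨g * a * g⁻¹, h, ?_⟩
    show g⁻¹ * (g * a * g⁻¹) * g = a
    group

theorem rcs_one (X : Set G) : rcs X 1 = X := by
  ext a
  rw [mem_rcs_iff]
  simp

theorem rcs_rcs (X : Set G) (g h : G) : rcs (rcs X g) h = rcs X (g * h) := by
  ext a
  rw [mem_rcs_iff, mem_rcs_iff, mem_rcs_iff]
  have : g * (h * a * h⁻¹) * g⁻¹ = g * h * a * (g * h)⁻¹ := by group
  rw [this]

theorem rcs_mono {X Y : Set G} (h : X ⊆ Y) (g : G) : rcs X g ⊆ rcs Y g := Set.image_mono h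

theorem coe_rc (R : Subgroup G) (g : G) : ((rc R g : Subgroup G) : Set G) = rcs (R : Set G) g := by
  ext a
  rw [mem_rcs_iff, SetLike.mem_coe, mem_rc, SetLike.mem_coe]

theorem rcs_of_mem_centralizer {X : Set G} {c : G} (hc : c ∈ Subgroup.centralizer X) :
    rcs X c = X := by
  have hc' : c⁻¹ ∈ Subgroup.centralizer X := Subgroup.inv_mem _ hc
  ext a
  constructor
  · rintro ⟨b, hb, rfl⟩
    have h1 : b * c = c * b := Subgroup.mem_centralizer_iff.mp hc b hb
    have : c⁻¹ * b * c = b := by rw [mul_assoc, h1]; group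
    show c⁻¹ * b * c ∈ X
    rwa [this]
  · intro ha
    refine ⟨a, ha, ?_⟩
    have h1 : a * c = c * a := Subgroup.mem_centralizer_iff.mp hc a ha
    show c⁻¹ * a * c = a
    rw [mul_assoc, h1]; group

theorem conj_mem_centralizer_rcs {X : Set G} {x c : G} (hc : c ∈ Subgroup.centralizer (rcs X x)) :
    x * c * x⁻¹ ∈ Subgroup.centralizer X := by
  rw [Subgroup.mem_centralizer_iff]
  intro a ha
  have h1 := Subgroup.mem_centralizer_iff.mp hc _ (mem_rcs_of_mem (g := x) ha)
  calc a * (x * c * x⁻¹) = x * ((x⁻¹ * a * x) * c) * x⁻¹ := by group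
    _ = x * (c * (x⁻¹ * a * x)) * x⁻¹ := by rw [h1]
    _ = x * c * x⁻¹ * a := by group

theorem rcs_subset_of_image_subset {X : Set G} {B : Subgroup G} {g : G}
    (h : (fun a => g⁻¹ * a * g) '' X ⊆ (B : Set G)) : rcs X g ⊆ (B : Set G) := h

theorem rc_closure_le {X : Set G} {B : Subgroup G} {g : G} (h : rcs X g ⊆ (B : Set G)) :
    rc (Subgroup.closure X) g ≤ B := by
  rw [rc_def, MonoidHom.map_closure, Subgroup.closure_le]
  rintro _ ⟨a, ha, rfl⟩
  apply h
  refine ⟨a, ha, ?_⟩
  simp [MulAut.conj_apply]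

/-- Chains of conjugations by generators from `Gen`, or by elements centralizing the current set,
all of whose running conjugates stay inside `B`. -/
inductive GChain (B : Subgroup G) (Gen : Set G) : Set G → G → Prop
  | nil (X : Set G) : GChain B Gen X 1
  | cons (X : Set G) (x g : G) (hx : x ∈ Gen ∨ x ∈ Subgroup.centralizer X)
      (hB : rcs X x ⊆ (B : Set G)) (h : GChain B Gen (rcs X x) g) : GChain B Gen X (x * g)

namespace GChain

variable {B : Subgroup G} {Gen : Set G}

theorem mono {X : Set G} {g : G} (h : GChain B Gen X g) :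
    ∀ {X' : Set G}, X' ⊆ X → GChain B Gen X' g := by
  induction h with
  | nil X => intro X' _; exact GChain.nil X'
  | cons X x g hx hB _ ih =>
    intro X' hX'
    refine GChain.cons X' x g ?_ ((rcs_mono hX' x).trans hB) (ih (rcs_mono hX' x))
    rcases hx with hx | hx
    · exact Or.inl hx
    · exact Or.inr (Subgroup.centralizer_le hX' hx)

theorem single {X : Set G} {x : G} (hx : x ∈ Gen ∨ x ∈ Subgroup.centralizer X)
    (hB : rcs X x ⊆ (B : Set G)) : GChain B Gen X x := by
  have := GChain.cons X x 1 hx hB (GChain.nil _)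
  rwa [mul_one] at this

theorem append {X : Set G} {g : G} (h : GChain B Gen X g) :
    ∀ {k : G}, GChain B Gen (rcs X g) k → GChain B Gen X (g * k) := by
  induction h with
  | nil X =>
    intro k hk
    rw [rcs_one] at hk
    rw [one_mul]
    exact hk
  | cons X x g hx hB _ ih =>
    intro k hk
    rw [mul_assoc]
    apply GChain.cons X x (g * k) hx hB
    apply ih
    rwa [rcs_rcs]

theorem rcs_subset {X : Set G} {g : G} (h : GChain B Gen X g) (hX : X ⊆ (B : Set G)) :
    rcs X g ⊆ (B : Set G) := by
  induction h with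
  | nil X => rwa [rcs_one]
  | cons X x g hx hB _ ih =>
    rw [← rcs_rcs]
    exact ih hB

theorem reverse (hinv : ∀ x ∈ Gen, x⁻¹ ∈ Gen) {X : Set G} {g : G} (h : GChain B Gen X g) :
    X ⊆ (B : Set G) → GChain B Gen (rcs X g) g⁻¹ := by
  induction h with
  | nil X => intro _; rw [inv_one]; exact GChain.nil _
  | cons X x g hx hB _ ih =>
    intro hX
    rw [mul_inv_rev, ← rcs_rcs]
    apply (ih hB).append
    rw [rcs_rcs, mul_inv_cancel, rcs_one]
    apply GChain.single
    · rcases hx with hx | hx
      · exact Or.inl (hinv x hx)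
      · right
        rw [rcs_of_mem_centralizer hx]
        exact Subgroup.inv_mem _ hx
    · rw [rcs_rcs, mul_inv_cancel, rcs_one]
      exact hX

/-- Replace every generator step by a chain of another kind. -/
theorem bind {B' : Subgroup G} {Gen' : Set G} (hBB' : B ≤ B')
    (hstep : ∀ x ∈ Gen, ∀ Y : Set G, Y ⊆ (B : Set G) → rcs Y x ⊆ (B : Set G) → GChain B' Gen' Y x)
    {X : Set G} {g : G} (h : GChain B Gen X g) : X ⊆ (B : Set G) → GChain B' Gen' X g := by
  induction h with
  | nil X => intro _; exact GChain.nil _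
  | cons X x g hx hB _ ih =>
    intro hX
    rcases hx with hx | hx
    · exact (hstep x hx X hX hB).append (ih hB)
    · have h1 : GChain B' Gen' X x := GChain.single (Or.inr hx) (hB.trans hBB')
      exact h1.append (ih hB)

/-- Transport a chain by conjugation with `n`. -/
theorem conj {B' : Subgroup G} {Gen' : Set G} (n : G)
    (hB' : ∀ b ∈ B, n * b * n⁻¹ ∈ B') (hGen : ∀ x ∈ Gen, n * x * n⁻¹ ∈ Gen')
    {X : Set G} {g : G} (h : GChain B Gen X g) : GChain B' Gen' (rcs X n⁻¹) (n * g * n⁻¹) := by
  induction h with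
  | nil X =>
    have : n * 1 * n⁻¹ = 1 := by group
    rw [this]
    exact GChain.nil _
  | cons X x g hx hB _ ih =>
    have e : n * (x * g) * n⁻¹ = (n * x * n⁻¹) * (n * g * n⁻¹) := by group
    have e2 : rcs (rcs X n⁻¹) (n * x * n⁻¹) = rcs (rcs X x) n⁻¹ := by
      rw [rcs_rcs, rcs_rcs]
      congr 1
      group
    rw [e]
    refine GChain.cons _ _ _ ?_ ?_ ?_
    · rcases hx with hx | hx
      · exact Or.inl (hGen x hx)
      · right
        rw [Subgroup.mem_centralizer_iff]
        intro a ha
        rw [mem_rcs_iff, inv_inv] at ha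
        have h1 := Subgroup.mem_centralizer_iff.mp hx _ ha
        calc a * (n * x * n⁻¹) = n * ((n⁻¹ * a * n) * x) * n⁻¹ := by group
          _ = n * (x * (n⁻¹ * a * n)) * n⁻¹ := by rw [h1]
          _ = n * x * n⁻¹ * a := by group
    · rw [e2]
      intro a ha
      rw [mem_rcs_iff, inv_inv] at ha
      have h1 := hB' _ (hB ha)
      have : n * (n⁻¹ * a * n) * n⁻¹ = a := by group
      rwa [this] at h1
    · rw [e2]
      exact ih

/-- A chain given by a finite list of generators. -/
theorem of_fin : ∀ (n : ℕ) (b : Fin n → G) (X : Set G), (∀ i, b i ∈ Gen) →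
    (∀ k : ℕ, k ≤ n → rcs X ((List.ofFn b).take k).prod ⊆ (B : Set G)) →
    GChain B Gen X (List.ofFn b).prod := by
  intro n
  induction n with
  | zero =>
    intro b X _ _
    simp only [List.ofFn_zero, List.prod_nil]
    exact GChain.nil _
  | succ n ih =>
    intro b X hb hk
    rw [List.ofFn_succ, List.prod_cons]
    refine GChain.cons X (b 0) _ (Or.inl (hb 0)) ?_ ?_
    · have := hk 1 (by omega)
      rw [List.ofFn_succ] at this
      simpa using this
    · apply ih (fun i => b i.succ) _ (fun i => hb i.succ)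
      intro k hkn
      have := hk (k + 1) (by omega)
      rw [List.ofFn_succ, List.take_succ_cons, List.prod_cons, ← rcs_rcs] at this
      exact this

/-- Extract the normal form: a centralizing element followed by a list of generators. -/
theorem to_fin {X : Set G} {g : G} (h : GChain B Gen X g) : X ⊆ (B : Set G) →
    ∃ c ∈ Subgroup.centralizer X, ∃ (n : ℕ) (b : Fin n → G), (∀ i, b i ∈ Gen) ∧
      g = c * (List.ofFn b).prod ∧
      ∀ k : ℕ, k ≤ n → rcs X ((List.ofFn b).take k).prod ⊆ (B : Set G) := by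
  induction h with
  | nil X =>
    intro hX
    refine ⟨1, Subgroup.one_mem _, 0, Fin.elim0, fun i => i.elim0, by simp, ?_⟩
    intro k _
    simp only [List.ofFn_zero, List.take_nil, List.prod_nil]
    rwa [rcs_one]
  | cons X x g hx hB _ ih =>
    intro hX
    obtain ⟨c, hc, n, b, hb, hg, hk⟩ := ih hB
    rcases hx with hx | hx
    · refine ⟨x * c * x⁻¹, conj_mem_centralizer_rcs hc, n + 1, Fin.cons x b, ?_, ?_, ?_⟩
      · intro i
        refine Fin.cases ?_ (fun j => ?_) i
        · simpa using hx
        · simpa using hb j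
      · have hlist : List.ofFn (Fin.cons x b : Fin (n + 1) → G) = x :: List.ofFn b := by
          rw [List.ofFn_succ]; simp
        rw [hlist, List.prod_cons, hg]
        group
      · have hlist : List.ofFn (Fin.cons x b : Fin (n + 1) → G) = x :: List.ofFn b := by
          rw [List.ofFn_succ]; simp
        intro k hkn
        rw [hlist]
        cases k with
        | zero =>
          simp only [List.take_zero, List.prod_nil]
          rwa [rcs_one]
        | succ k =>
          rw [List.take_succ_cons, List.prod_cons, ← rcs_rcs]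
          exact hk k (by omega)
    · rw [rcs_of_mem_centralizer hx] at hc hk
      refine ⟨x * c, Subgroup.mul_mem _ hx hc, n, b, hb, ?_, hk⟩
      rw [hg, mul_assoc]

end GChain

/-- Abstract form of Alperin's induction. -/
theorem alperin_induction [Finite G] {p : ℕ} [Fact p.Prime] (S : Sylow p G)
    (Good : Subgroup G → G → Prop)
    (hmono : ∀ (R R' : Subgroup G) (g : G), R' ≤ R → Good R g → Good R' g)
    (happ : ∀ (R : Subgroup G) (g k : G), Good R g → Good (rc R g) k → Good R (g * k))
    (hrev : ∀ (R : Subgroup G) (g : G), R ≤ (S : Subgroup G) → rc R g ≤ (S : Subgroup G) →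
      Good R g → Good (rc R g) g⁻¹)
    (htop : ∀ g ∈ Subgroup.normalizer (((S : Subgroup G) : Subgroup G) : Set G), Good (S : Subgroup G) g)
    (hkey : ∀ R : Subgroup G, R ≤ (S : Subgroup G) → R ≠ (S : Subgroup G) →
      (∀ R' : Subgroup G, R' ≤ (S : Subgroup G) → Nat.card ↥R < Nat.card ↥R' →
        ∀ g : G, rc R' g ≤ (S : Subgroup G) → Good R' g) →
      ∃ U : Subgroup G, U ≤ (S : Subgroup G) ∧ (∃ c : G, rc R c = U) ∧
        ¬ p ∣ ((S : Subgroup G) ⊓ Subgroup.normalizer ((U : Subgroup G) : Set G)).relIndex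
          (Subgroup.normalizer ((U : Subgroup G) : Set G)) ∧
        ∀ m ∈ Subgroup.normalizer ((U : Subgroup G) : Set G), Good U m) :
    ∀ (n : ℕ) (R : Subgroup G), R ≤ (S : Subgroup G) →
      Nat.card ↥(S : Subgroup G) - Nat.card ↥R ≤ n →
      ∀ g : G, rc R g ≤ (S : Subgroup G) → Good R g := by
  have hSp : IsPGroup p ↥(S : Subgroup G) := S.isPGroup'
  have htop' : ∀ g : G, rc (S : Subgroup G) g ≤ (S : Subgroup G) → Good (S : Subgroup G) g := by
    intro g hg
    have hgN : g⁻¹ ∈ Subgroup.normalizer (((S : Subgroup G) : Subgroup G) : Set G) :=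
      mem_normalizer_of_cj_le hg
    have hgN' : g ∈ Subgroup.normalizer (((S : Subgroup G) : Subgroup G) : Set G) := by
      simpa using Subgroup.inv_mem _ hgN
    exact htop g hgN'
  have claimA : ∀ (R U : Subgroup G) (c₀ : G), R ≤ (S : Subgroup G) → rc R c₀ = U →
      ¬ p ∣ ((S : Subgroup G) ⊓ Subgroup.normalizer ((U : Subgroup G) : Set G)).relIndex
        (Subgroup.normalizer ((U : Subgroup G) : Set G)) →
      ∃ m ∈ Subgroup.normalizer ((U : Subgroup G) : Set G),
        rc ((S : Subgroup G) ⊓ Subgroup.normalizer (R : Set G)) (c₀ * m) ≤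
          (S : Subgroup G) ⊓ Subgroup.normalizer ((U : Subgroup G) : Set G) := by
    intro R U c₀ _ hU hsyl
    have h1 : rc ((S : Subgroup G) ⊓ Subgroup.normalizer (R : Set G)) c₀ ≤
        Subgroup.normalizer ((U : Subgroup G) : Set G) := by
      rw [← hU, normalizer_rc]
      exact rc_mono inf_le_right c₀
    obtain ⟨n, hn, hle⟩ := exists_mem_cj_le_of_relIndex (p := p) inf_le_right
      (hSp.to_le inf_le_left) hsyl h1 (isPGroup_rc c₀ (hSp.to_le inf_le_left))
    refine ⟨n⁻¹, Subgroup.inv_mem _ hn, ?_⟩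
    rw [← rc_rc, rc_def _ n⁻¹, inv_inv]
    exact hle
  intro n
  induction n with
  | zero =>
    intro R hRS hcard g hg
    have : R = (S : Subgroup G) := by
      apply Subgroup.eq_of_le_of_card_ge hRS
      omega
    subst this
    exact htop' g hg
  | succ n ih =>
    intro R hRS hcard g hg
    by_cases hRtop : R = (S : Subgroup G)
    · subst hRtop
      exact htop' g hg
    · have hcardS : Nat.card ↥R ≤ Nat.card ↥(S : Subgroup G) := Subgroup.card_le_of_le hRS
      obtain ⟨U, hUS, ⟨c, hc'⟩, hsyl, hUgood⟩ := hkey R hRS hRtop (by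
        intro R' hR'S hlt g' hg'
        have hcardS' : Nat.card ↥R' ≤ Nat.card ↥(S : Subgroup G) := Subgroup.card_le_of_le hR'S
        exact ih R' hR'S (by omega) g' hg')
      -- first leg
      obtain ⟨m, hm, hle⟩ := claimA R U c hRS hc' hsyl
      have hgrow := card_lt_card_inf_normalizer hSp hRS hRtop
      have hchain1 : Good R (c * m) := by
        have := ih ((S : Subgroup G) ⊓ Subgroup.normalizer (R : Set G)) inf_le_left (by omega)
          (c * m) (hle.trans inf_le_left)
        exact hmono _ _ _ (le_inf hRS Subgroup.le_normalizer) this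
      have hU1 : rc R (c * m) = U := by
        rw [← rc_rc, hc', rc_of_mem_normalizer hm]
      -- second leg
      have hR'S : rc R g ≤ (S : Subgroup G) := hg
      have hR'top : rc R g ≠ (S : Subgroup G) := by
        intro heq
        apply hRtop
        apply Subgroup.eq_of_le_of_card_ge hRS
        rw [← heq, card_rc]
      have hc'' : rc (rc R g) (g⁻¹ * (c * m)) = U := by
        rw [rc_rc, mul_inv_cancel_left, hU1]
      obtain ⟨m', hm', hle'⟩ := claimA (rc R g) U (g⁻¹ * (c * m)) hR'S hc'' hsyl
      have hgrow' := card_lt_card_inf_normalizer hSp hR'S hR'top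
      rw [card_rc] at hgrow'
      have hchain2 : Good (rc R g) (g⁻¹ * (c * m) * m') := by
        have := ih ((S : Subgroup G) ⊓ Subgroup.normalizer ((rc R g : Subgroup G) : Set G)) inf_le_left
          (by omega) (g⁻¹ * (c * m) * m') (hle'.trans inf_le_left)
        exact hmono _ _ _ (le_inf hR'S Subgroup.le_normalizer) this
      have hU2 : rc (rc R g) (g⁻¹ * (c * m) * m') = U := by
        rw [← rc_rc, hc'', rc_of_mem_normalizer hm']
      have hrev' := hrev _ _ hR'S (hU2 ▸ hUS) hchain2
      rw [hU2] at hrev'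
      -- assemble
      have hmid : Good (rc R (c * m)) m' := by
        rw [hU1]
        exact hUgood m' hm'
      have h12 := happ _ _ _ hchain1 hmid
      have hU3 : rc R (c * m * m') = U := by
        rw [← rc_rc, hU1, rc_of_mem_normalizer hm']
      have h123 : Good R (c * m * m' * (g⁻¹ * (c * m) * m')⁻¹) := by
        apply happ _ _ _ h12
        rw [hU3]
        exact hrev'
      have e : c * m * m' * (g⁻¹ * (c * m) * m')⁻¹ = g := by group
      rwa [e] at h123

end Cfsg.Agent.Lib.Helper13
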