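import Cfsg.Agent.Lib.Helper13.WellPlaced2
import Cfsg.Agent.Lib.Helper13.GChain

set_option autoImplicit false

namespace Cfsg.Agent.Lib.Helper13

variable {G : Type*} [Group G]

/-- Frattini argument for `C_G(U) ⊴ N_G(U)`: when `N_S(U)` is Sylow in `N_G(U)`, every element of
`N_G(U)` is a product of an element of `C_G(U)` and an element of `N_G(U) ∩ N_G(U C_S(U))`. -/
theorem frattini_centralizer [Finite G] {p : ℕ} [Fact p.Prime] {S U : Subgroup G} (hS : IsPGroup p ↥S)
    (hsyl : ¬ p ∣ (S ⊓ Subgroup.normalizer (U : Set G)).relIndex (Subgroup.normalizer (U : Set G)))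
    (m : G) (hm : m ∈ Subgroup.normalizer (U : Set G)) :
    ∃ c ∈ Subgroup.centralizer (U : Set G), ∃ y ∈ Subgroup.normalizer (U : Set G),
      y ∈ Subgroup.normalizer ((U ⊔ (S ⊓ Subgroup.centralizer (U : Set G)) : Subgroup G) : Set G) ∧
        m = c * y := by
  have hCN : Subgroup.centralizer (U : Set G) ≤ Subgroup.normalizer (U : Set G) :=
    fun x hx => Subgroup.centralizer_le_normalizer _ hx
  have hCconj : ∀ n ∈ Subgroup.normalizer (U : Set G),
      (Subgroup.centralizer (U : Set G)).map (MulAut.conj n).toMonoidHom =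
        Subgroup.centralizer (U : Set G) := by
    intro n hn
    rw [← centralizer_cj, mem_normalizer_iff_cj_eq.mp hn]
  have hDp : IsPGroup p ↥(S ⊓ Subgroup.centralizer (U : Set G)) := hS.to_le inf_le_left
  -- `D = S ∩ C(U)` is Sylow in `C(U)`
  have hDsyl : ¬ p ∣ (S ⊓ Subgroup.centralizer (U : Set G)).relIndex
      (Subgroup.centralizer (U : Set G)) := by
    obtain ⟨D', hDD', hD'C, hD'p, hD'i⟩ := exists_sylow_between (p := p)
      (inf_le_right : S ⊓ Subgroup.centralizer (U : Set G) ≤ Subgroup.centralizer (U : Set G)) hDp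
    obtain ⟨n, hn, hle⟩ := exists_mem_cj_le_of_relIndex (p := p)
      (inf_le_right : S ⊓ Subgroup.normalizer (U : Set G) ≤ Subgroup.normalizer (U : Set G))
      (hS.to_le inf_le_left) hsyl (hD'C.trans hCN) hD'p
    have h1 : D'.map (MulAut.conj n).toMonoidHom ≤ S ⊓ Subgroup.centralizer (U : Set G) := by
      apply le_inf (hle.trans inf_le_left)
      exact (cj_mono hD'C).trans (hCconj n hn).le
    have h2 : Nat.card ↥D' ≤ Nat.card ↥(S ⊓ Subgroup.centralizer (U : Set G)) := by
      rw [← card_cj n D']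
      exact Subgroup.card_le_of_le h1
    have h3 : S ⊓ Subgroup.centralizer (U : Set G) = D' := Subgroup.eq_of_le_of_card_ge hDD' h2
    rw [h3]
    exact hD'i
  -- conjugate `m D m⁻¹` back into `D` inside `C(U)`
  have hE : (S ⊓ Subgroup.centralizer (U : Set G)).map (MulAut.conj m).toMonoidHom ≤
      Subgroup.centralizer (U : Set G) :=
    (cj_mono inf_le_right).trans (hCconj m hm).le
  obtain ⟨c, hc, hle⟩ := exists_mem_cj_le_of_relIndex (p := p)
    (inf_le_right : S ⊓ Subgroup.centralizer (U : Set G) ≤ Subgroup.centralizer (U : Set G))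
    hDp hDsyl hE (isPGroup_cj m hDp)
  rw [cj_cj] at hle
  have hyD : c * m ∈ Subgroup.normalizer ((S ⊓ Subgroup.centralizer (U : Set G) : Subgroup G) : Set G) :=
    mem_normalizer_of_cj_le hle
  have hyU : c * m ∈ Subgroup.normalizer (U : Set G) :=
    Subgroup.mul_mem _ (hCN hc) hm
  refine ⟨c⁻¹, Subgroup.inv_mem _ hc, c * m, hyU, ?_, by group⟩
  rw [mem_normalizer_iff_cj_eq, Subgroup.map_sup, mem_normalizer_iff_cj_eq.mp hyU,
    mem_normalizer_iff_cj_eq.mp hyD]

/-- The local hypothesis on `N_G(H)`, stated for some Sylow `p`-subgroup `Q` of `N_G(H)`, gives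
chains with respect to any other Sylow `p`-subgroup `Q₁` of `N_G(H)`. -/
theorem gchain_of_local [Finite G] {p : ℕ} [Fact p.Prime] {W V : Subgroup G → Subgroup G}
    (hW : Cfsg.IsConjugacyFunctor p W) (hV : Cfsg.IsConjugacyFunctor p V)
    {H Q Q₁ : Subgroup G}
    (hQH : Q ≤ Subgroup.normalizer (H : Set G)) (hQp : IsPGroup p ↥Q)
    (hQi : ¬ p ∣ Q.relIndex (Subgroup.normalizer (H : Set G)))
    (hQ₁H : Q₁ ≤ Subgroup.normalizer (H : Set G)) (hQ₁p : IsPGroup p ↥Q₁)
    (hQ₁i : ¬ p ∣ Q₁.relIndex (Subgroup.normalizer (H : Set G)))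
    (hprop : ∀ (X : Set G) (a : G), X ⊆ Q → a ∈ Subgroup.normalizer ((H : Subgroup G) : Set G) →
      (fun x => a⁻¹ * x * a) '' X ⊆ Q →
      ∃ c ∈ Subgroup.normalizer ((H : Subgroup G) : Set G) ⊓ Subgroup.centralizer X,
        ∃ (n : ℕ) (b : Fin n → G),
          (∀ i, b i ∈ Subgroup.normalizer ((H : Subgroup G) : Set G) ⊓
              Subgroup.normalizer ((W Q : Subgroup G) : Set G) ∨
            b i ∈ Subgroup.normalizer ((H : Subgroup G) : Set G) ⊓
              Subgroup.centralizer ((V Q : Subgroup G) : Set G)) ∧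
          a = c * (List.ofFn b).prod ∧
          ∀ k : ℕ, k ≤ n →
            (fun x => (((List.ofFn b).take k).prod)⁻¹ * x * ((List.ofFn b).take k).prod) ''
              ((fun x => c⁻¹ * x * c) '' X) ⊆ Q) :
    ∀ (X : Set G) (a : G), X ⊆ (Q₁ : Set G) → a ∈ Subgroup.normalizer (H : Set G) →
      rcs X a ⊆ (Q₁ : Set G) →
      GChain Q₁ (((Subgroup.normalizer (H : Set G) ⊓
            Subgroup.normalizer ((W Q₁ : Subgroup G) : Set G) : Subgroup G) : Set G) ∪
          ((Subgroup.normalizer (H : Set G) ⊓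
            Subgroup.centralizer ((V Q₁ : Subgroup G) : Set G) : Subgroup G) : Set G)) X a := by
  obtain ⟨n, hnH, hle⟩ := exists_mem_cj_le_of_relIndex (p := p) hQ₁H hQ₁p hQ₁i hQH hQp
  have hNn : (Subgroup.normalizer (H : Set G)).map (MulAut.conj n).toMonoidHom =
      Subgroup.normalizer (H : Set G) := cj_self_of_mem hnH
  have hQQ₁ : Q.map (MulAut.conj n).toMonoidHom = Q₁ := by
    apply eq_of_le_of_not_dvd_relIndex (p := p) hle hQ₁H hQ₁p
    rw [← hNn, relIndex_cj]
    exact hQi
  intro X a hX ha hXa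
  have hnN : ∀ z ∈ Subgroup.normalizer (H : Set G), n * z * n⁻¹ ∈ Subgroup.normalizer (H : Set G) :=
    fun z hz => Subgroup.mul_mem _ (Subgroup.mul_mem _ hnH hz) (Subgroup.inv_mem _ hnH)
  -- pull back to `Q`
  have hX' : rcs X n ⊆ (Q : Set G) := by
    intro a' ha'
    rw [mem_rcs_iff] at ha'
    have h1 := hX ha'
    rw [SetLike.mem_coe, ← hQQ₁, mem_cj] at h1
    have e : n⁻¹ * (n * a' * n⁻¹) * n = a' := by group
    rwa [e] at h1
  have ha' : n⁻¹ * a * n ∈ Subgroup.normalizer (H : Set G) :=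
    Subgroup.mul_mem _ (Subgroup.mul_mem _ (Subgroup.inv_mem _ hnH) ha) hnH
  have hXa' : rcs (rcs X n) (n⁻¹ * a * n) ⊆ (Q : Set G) := by
    rw [rcs_rcs]
    have e : n * (n⁻¹ * a * n) = a * n := by group
    rw [e, ← rcs_rcs]
    intro a' ha'
    rw [mem_rcs_iff] at ha'
    have h1 := hXa ha'
    rw [SetLike.mem_coe, ← hQQ₁, mem_cj] at h1
    have e : n⁻¹ * (n * a' * n⁻¹) * n = a' := by group
    rwa [e] at h1
  obtain ⟨c, hc, k, b, hb, hab, hk⟩ := hprop (rcs X n) (n⁻¹ * a * n) hX' ha' hXa'
  have hcX : rcs (rcs X n) c = rcs X n := rcs_of_mem_centralizer (Subgroup.mem_inf.mp hc).2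
  have hchain : GChain Q (((Subgroup.normalizer (H : Set G) ⊓
            Subgroup.normalizer ((W Q : Subgroup G) : Set G) : Subgroup G) : Set G) ∪
          ((Subgroup.normalizer (H : Set G) ⊓
            Subgroup.centralizer ((V Q : Subgroup G) : Set G) : Subgroup G) : Set G))
      (rcs X n) (n⁻¹ * a * n) := by
    rw [hab]
    refine GChain.cons _ c _ (Or.inr (Subgroup.mem_inf.mp hc).2) (by rw [hcX]; exact hX') ?_
    apply GChain.of_fin
    · intro i
      rcases hb i with h | h
      · exact Or.inl h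
      · exact Or.inr h
    · intro j hj
      exact hk j hj
  have hconj := hchain.conj (B' := Q₁)
    (Gen' := ((Subgroup.normalizer (H : Set G) ⊓
            Subgroup.normalizer ((W Q₁ : Subgroup G) : Set G) : Subgroup G) : Set G) ∪
          ((Subgroup.normalizer (H : Set G) ⊓
            Subgroup.centralizer ((V Q₁ : Subgroup G) : Set G) : Subgroup G) : Set G)) n ?_ ?_
  · rw [rcs_rcs, mul_inv_cancel, rcs_one] at hconj
    have e : n * (n⁻¹ * a * n) * n⁻¹ = a := by group
    rwa [e] at hconj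
  · intro z hz
    rw [← hQQ₁]
    exact cj_mem hz
  · intro z hz
    rcases hz with hz | hz
    · left
      refine Subgroup.mem_inf.mpr ⟨hnN z (Subgroup.mem_inf.mp hz).1, ?_⟩
      rw [← hQQ₁, (hW Q hQp).2.2 n, normalizer_cj]
      exact cj_mem (Subgroup.mem_inf.mp hz).2
    · right
      refine Subgroup.mem_inf.mpr ⟨hnN z (Subgroup.mem_inf.mp hz).1, ?_⟩
      rw [← hQQ₁, (hV Q hQp).2.2 n, centralizer_cj]
      exact cj_mem (Subgroup.mem_inf.mp hz).2

/-- Local control of strong fusion by the pair `(W, V)` in `N_G(H)`, in the form used in the statements. -/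
def LocalPair (p : ℕ) (W V : Subgroup G → Subgroup G) (H : Subgroup G) : Prop :=
  ∃ Q : Subgroup G, Q ≤ Subgroup.normalizer ((H : Subgroup G) : Set G) ∧ IsPGroup p ↥Q ∧
    ¬ p ∣ (Q).relIndex (Subgroup.normalizer ((H : Subgroup G) : Set G)) ∧
    ∀ (X : Set G) (a : G), X ⊆ Q → a ∈ Subgroup.normalizer ((H : Subgroup G) : Set G) →
      (fun x => a⁻¹ * x * a) '' X ⊆ Q →
      ∃ c ∈ Subgroup.normalizer ((H : Subgroup G) : Set G) ⊓ Subgroup.centralizer X,
        ∃ (n : ℕ) (b : Fin n → G),
          (∀ i, b i ∈ Subgroup.normalizer ((H : Subgroup G) : Set G) ⊓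
              Subgroup.normalizer ((W Q : Subgroup G) : Set G) ∨
            b i ∈ Subgroup.normalizer ((H : Subgroup G) : Set G) ⊓
              Subgroup.centralizer ((V Q : Subgroup G) : Set G)) ∧
          a = c * (List.ofFn b).prod ∧
          ∀ k : ℕ, k ≤ n →
            (fun x => (((List.ofFn b).take k).prod)⁻¹ * x * ((List.ofFn b).take k).prod) ''
              ((fun x => c⁻¹ * x * c) '' X) ⊆ Q

section Climb

variable [Finite G] {p : ℕ} [Fact p.Prime] {W V : Subgroup G → Subgroup G} {S : Subgroup G}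

theorem center_le_tower_normalizer (hW : Cfsg.IsConjugacyFunctor p W) (hS : IsPGroup p ↥S)
    {U : Subgroup G} (hUS : U ≤ S) (j : ℕ) :
    S ⊓ Subgroup.centralizer (S : Set G) ≤
      (S ⊓ Subgroup.normalizer ((Cfsg.functorTower W S U j : Subgroup G) : Set G)) ⊓
        Subgroup.centralizer ((S ⊓ Subgroup.normalizer
          ((Cfsg.functorTower W S U j : Subgroup G) : Set G) : Subgroup G) : Set G) := by
  intro z hz
  have hz1 := (Subgroup.mem_inf.mp hz).1
  have hz2 := (Subgroup.mem_inf.mp hz).2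
  refine Subgroup.mem_inf.mpr ⟨Subgroup.mem_inf.mpr ⟨hz1, ?_⟩, ?_⟩
  · apply Subgroup.centralizer_le_normalizer
    exact Subgroup.centralizer_le (tower_le hW hS hUS j) hz2
  · exact Subgroup.centralizer_le (inf_le_left : S ⊓ _ ≤ S) hz2

theorem center_le_tower (hW : Cfsg.IsConjugacyFunctor p W) (hS : IsPGroup p ↥S)
    (hWZ : ∀ H : Subgroup G, IsPGroup p ↥H → H ⊓ Subgroup.centralizer ((H : Subgroup G) : Set G) ≤ W H)
    {U : Subgroup G} (hUS : U ≤ S) (hZU : S ⊓ Subgroup.centralizer (S : Set G) ≤ U) (j : ℕ) :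
    S ⊓ Subgroup.centralizer (S : Set G) ≤ Cfsg.functorTower W S U j := by
  cases j with
  | zero => exact hZU
  | succ j =>
    rw [tower_succ]
    exact (center_le_tower_normalizer hW hS hUS j).trans (hWZ _ (hS.to_le inf_le_left))

/-- Climbing the tower of a well-placed subgroup containing `Z(S)`. -/
theorem pair_tower_climb (hS : IsPGroup p ↥S) (hSne : S ≠ ⊥)
    (hW : Cfsg.IsConjugacyFunctor p W) (hV : Cfsg.IsConjugacyFunctor p V)
    (hWZ : ∀ H : Subgroup G, IsPGroup p ↥H → H ⊓ Subgroup.centralizer ((H : Subgroup G) : Set G) ≤ W H)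
    (hVmono : ∀ H K : Subgroup G, IsPGroup p ↥H → IsPGroup p ↥K → H ≠ ⊥ → K ≠ ⊥ →
      H ⊓ Subgroup.centralizer ((H : Subgroup G) : Set G) ≤
        K ⊓ Subgroup.centralizer ((K : Subgroup G) : Set G) → V H ≤ V K)
    (hloc : ∀ H : Subgroup G, S ⊓ Subgroup.centralizer (S : Set G) ≤ H → H ≤ S → LocalPair p W V H)
    {U : Subgroup G} (hU : Cfsg.IsWellPlaced p W S U)
    (hZU : S ⊓ Subgroup.centralizer (S : Set G) ≤ U) (hUne : U ≠ ⊥)
    (m : G) (hm : m ∈ Subgroup.normalizer (U : Set G)) :
    GChain S (((Subgroup.normalizer ((W S : Subgroup G) : Set G) : Subgroup G) : Set G) ∪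
      ((Subgroup.centralizer ((V S : Subgroup G) : Set G) : Subgroup G) : Set G)) (U : Set G) m := by
  have hUS := hU.1
  -- one step up the tower
  have step : ∀ j : ℕ, ∀ x ∈ ((Subgroup.normalizer ((Cfsg.functorTower W S U j : Subgroup G) : Set G) :
        Subgroup G) : Set G) ∪ ((Subgroup.centralizer ((V S : Subgroup G) : Set G) : Subgroup G) : Set G),
      ∀ Y : Set G, Y ⊆ ((S ⊓ Subgroup.normalizer ((Cfsg.functorTower W S U j : Subgroup G) : Set G) :
          Subgroup G) : Set G) →
        rcs Y x ⊆ ((S ⊓ Subgroup.normalizer ((Cfsg.functorTower W S U j : Subgroup G) : Set G) :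
          Subgroup G) : Set G) →
        GChain (S ⊓ Subgroup.normalizer ((Cfsg.functorTower W S U (j + 1) : Subgroup G) : Set G))
          (((Subgroup.normalizer ((Cfsg.functorTower W S U (j + 1) : Subgroup G) : Set G) :
            Subgroup G) : Set G) ∪
            ((Subgroup.centralizer ((V S : Subgroup G) : Set G) : Subgroup G) : Set G)) Y x := by
    intro j x hx Y hY hYx
    have hmonoQ := tower_normalizer_mono hW hS U j
    rcases hx with hx | hx
    · -- a step in `N(T_j)`: use the local hypothesis at `T_j`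
      obtain ⟨Q, hQH, hQp, hQi, hprop⟩ := hloc (Cfsg.functorTower W S U j)
        (center_le_tower hW hS hWZ hUS hZU j) (tower_le hW hS hUS j)
      have hQjp : IsPGroup p ↥(S ⊓ Subgroup.normalizer
          ((Cfsg.functorTower W S U j : Subgroup G) : Set G)) := hS.to_le inf_le_left
      have hch := gchain_of_local hW hV hQH hQp hQi
        (inf_le_right : S ⊓ Subgroup.normalizer
          ((Cfsg.functorTower W S U j : Subgroup G) : Set G) ≤ _) hQjp (hU.2 j) hprop Y x hY hx hYx
      refine hch.bind hmonoQ ?_ hY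
      intro z hz Y' hY' hY'z
      apply GChain.single _ (hY'z.trans hmonoQ)
      left
      rcases hz with hz | hz
      · left
        rw [tower_succ]
        exact (Subgroup.mem_inf.mp hz).2
      · right
        have hne : S ⊓ Subgroup.normalizer ((Cfsg.functorTower W S U j : Subgroup G) : Set G) ≠ ⊥ := by
          intro hbot
          apply tower_ne_bot hW hS hUS hUne j
          have : Cfsg.functorTower W S U j ≤
              S ⊓ Subgroup.normalizer ((Cfsg.functorTower W S U j : Subgroup G) : Set G) :=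
            le_inf (tower_le hW hS hUS j) Subgroup.le_normalizer
          rw [hbot] at this
          exact le_bot_iff.mp this
        have hVV := hVmono S _ hS hQjp hSne hne (center_le_tower_normalizer hW hS hUS j)
        exact Subgroup.centralizer_le hVV (Subgroup.mem_inf.mp hz).2
    · apply GChain.single _ (hYx.trans hmonoQ)
      exact Or.inl (Or.inr hx)
  have hUQ : ∀ j : ℕ, (U : Set G) ⊆ ((S ⊓ Subgroup.normalizer
      ((Cfsg.functorTower W S U j : Subgroup G) : Set G) : Subgroup G) : Set G) := by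
    intro j
    have h0 : U ≤ S ⊓ Subgroup.normalizer
        ((Cfsg.functorTower W S U 0 : Subgroup G) : Set G) :=
      le_inf hUS Subgroup.le_normalizer
    exact h0.trans (tower_normalizer_mono' hW hS U (Nat.zero_le j))
  have key : ∀ j : ℕ, GChain (S ⊓ Subgroup.normalizer ((Cfsg.functorTower W S U j : Subgroup G) : Set G))
      (((Subgroup.normalizer ((Cfsg.functorTower W S U j : Subgroup G) : Set G) : Subgroup G) : Set G) ∪
        ((Subgroup.centralizer ((V S : Subgroup G) : Set G) : Subgroup G) : Set G)) (U : Set G) m := by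
    intro j
    induction j with
    | zero =>
      refine GChain.single (Or.inl (Set.mem_union_left _ hm)) ?_
      rw [← coe_rc, rc_of_mem_normalizer hm]
      exact hUQ 0
    | succ j ih =>
      exact ih.bind (tower_normalizer_mono hW hS U j) (step j) (hUQ j)
  have hfin := key (Nat.card ↥S + 1)
  rw [tower_eq_functor_top hW hS U] at hfin
  have hSN : S ⊓ Subgroup.normalizer ((W S : Subgroup G) : Set G) = S := by
    apply inf_eq_left.mpr
    exact (Subgroup.le_normalizer).trans (normalizer_le_normalizer_functor hW hS)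
  rw [hSN] at hfin
  exact hfin

end Climb

end Cfsg.Agent.Lib.Helper13
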