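import Mathlib
import Cfsg.Agent.Lib.Helper1.Hig.Basic

set_option autoImplicit false

/-! Project Hig (S3050), piece W: the submodule `Wsub = fixU(Ω₁) + fixL(Ω₁)` is invariant,
`2`-torsion, quadratic and nontrivial. -/

namespace Cfsg.Agent.Lib.Helper13.Hig

open Matrix Cfsg.Agent.Lib.helper15.NatMod Cfsg.Agent.Lib.helper15.QS Cfsg.Agent.Lib.Helper1.Hig

universe u v w

variable {F : Type u} [Field F] [Fintype F] [CharP F 2] {A : Type v} [AddCommGroup A]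
  [DistribMulAction (SpecialLinearGroup (Fin 2) F) A]

theorem Wsub_two {a : A} (ha : a ∈ Wsub F A) : a + a = 0 := by
  have hle : Wsub F A ≤ tors2 A := sup_le inf_le_right inf_le_right
  exact hle ha

/-- `NN t` maps `fixL ⊓ tors2` into `fixU ⊓ tors2` -/
theorem h13hig_NN_mem (h : FPF F A) (t : F) {z : A} (hL : z ∈ fixL F A) (hz : z + z = 0) :
    NN t z ∈ fixU F A ⊓ tors2 A := by
  by_cases ht : t = 0
  · subst ht
    rw [NN_param_zero]
    exact AddSubgroup.zero_mem _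
  · rw [NN_eq_ww_of_fixL h t ht hz hL]
    exact ⟨ww_fixL_mem_fixU t ht hL, two_tors_smul _ hz⟩

/-- `MM s` maps `fixU ⊓ tors2` into `fixL ⊓ tors2` -/
theorem h13hig_MM_mem (h : FPF F A) (s : F) {z : A} (hU : z ∈ fixU F A) (hz : z + z = 0) :
    MM s z ∈ fixL F A ⊓ tors2 A := by
  by_cases hs : s = 0
  · subst hs
    rw [MM_param_zero]
    exact AddSubgroup.zero_mem _
  · have hs' : s⁻¹ ≠ 0 := inv_ne_zero hs
    have e : MM s z = MM (s⁻¹)⁻¹ z := by rw [inv_inv]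
    rw [e, MM_eq_ww_of_fixU h s⁻¹ hs' hz hU]
    exact ⟨ww_fixU_mem_fixL s⁻¹ hs' hU, two_tors_smul _ hz⟩

theorem h13hig_uu_mem (h : FPF F A) (t : F) (a : A) (ha : a ∈ Wsub F A) :
    uu t • a ∈ Wsub F A := by
  obtain ⟨z0, hz0, z1, hz1, rfl⟩ := AddSubgroup.mem_sup.mp ha
  have h1 := h13hig_NN_mem h t hz1.1 hz1.2
  have e : uu t • (z0 + z1) = (z0 + NN t z1) + z1 := by
    rw [smul_add, hz0.1 t, uu_apply]
    abel
  rw [e]
  exact AddSubgroup.mem_sup.mpr ⟨z0 + NN t z1, AddSubgroup.add_mem _ hz0 h1, z1, hz1, rfl⟩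

theorem h13hig_ll_mem (h : FPF F A) (s : F) (a : A) (ha : a ∈ Wsub F A) :
    ll s • a ∈ Wsub F A := by
  obtain ⟨z0, hz0, z1, hz1, rfl⟩ := AddSubgroup.mem_sup.mp ha
  have h1 := h13hig_MM_mem h s hz0.1 hz0.2
  have e : ll s • (z0 + z1) = z0 + (MM s z0 + z1) := by
    rw [smul_add, hz1.1 s, ll_apply]
    abel
  rw [e]
  exact AddSubgroup.mem_sup.mpr ⟨z0, hz0, MM s z0 + z1, AddSubgroup.add_mem _ h1 hz1, rfl⟩

theorem Wsub_smul (h : FPF F A) (g : SpecialLinearGroup (Fin 2) F) (a : A) (ha : a ∈ Wsub F A) :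
    g • a ∈ Wsub F A := by
  have hg : g ∈ Subgroup.closure
      (Set.range (uu : F → SpecialLinearGroup (Fin 2) F) ∪ Set.range ll) := by
    rw [closure_uu_ll]
    exact Subgroup.mem_top g
  have key : (∀ a ∈ Wsub F A, g • a ∈ Wsub F A) ∧ (∀ a ∈ Wsub F A, g⁻¹ • a ∈ Wsub F A) := by
    induction hg using Subgroup.closure_induction with
    | mem x hx =>
      rcases hx with ⟨t, rfl⟩ | ⟨s, rfl⟩
      · refine ⟨fun a ha => h13hig_uu_mem h t a ha, fun a ha => ?_⟩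
        rw [uu_inv]
        exact h13hig_uu_mem h (-t) a ha
      · refine ⟨fun a ha => h13hig_ll_mem h s a ha, fun a ha => ?_⟩
        rw [ll_inv]
        exact h13hig_ll_mem h (-s) a ha
    | one =>
      refine ⟨fun a ha => ?_, fun a ha => ?_⟩
      · rwa [one_smul]
      · rwa [inv_one, one_smul]
    | mul x y _ _ ihx ihy =>
      refine ⟨fun a ha => ?_, fun a ha => ?_⟩
      · rw [mul_smul]
        exact ihx.1 _ (ihy.1 a ha)
      · rw [_root_.mul_inv_rev, mul_smul]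
        exact ihy.2 _ (ihx.2 a ha)
    | inv x _ ihx =>
      refine ⟨ihx.2, fun a ha => ?_⟩
      rw [inv_inv]
      exact ihx.1 a ha
  exact key.1 a ha

theorem Wsub_quad (h : FPF F A) (t : F) (a : A) (ha : a ∈ Wsub F A) : NN t a ∈ fixU F A := by
  obtain ⟨z0, hz0, z1, hz1, rfl⟩ := AddSubgroup.mem_sup.mp ha
  rw [NN_add, NN_of_fix hz0.1, zero_add]
  exact (h13hig_NN_mem h t hz1.1 hz1.2).1

theorem Wsub_ne_bot [Finite A] [Nontrivial A] (h2 : ∀ a : A, ∃ k : ℕ, 2 ^ k • a = 0) :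
    Wsub F A ≠ ⊥ := by
  obtain ⟨z, hz0, hz2, hzU⟩ := exists_fixU_two (F := F) h2
  intro hbot
  have hzW : z ∈ Wsub F A :=
    (le_sup_left : fixU F A ⊓ tors2 A ≤ Wsub F A) ⟨hzU, hz2⟩
  rw [hbot, AddSubgroup.mem_bot] at hzW
  exact hz0 hzW

end Cfsg.Agent.Lib.Helper13.Hig
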