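import Mathlib
import Cfsg.Agent.Lib.Helper1.O9L.Defs
import Cfsg.Agent.Lib.helper4.OTSSTDP

set_option autoImplicit false
set_option linter.unusedVariables false

/-!
# O9L row ASMB (`asm_b`), project O9L (designer helper1), written by helper13: the CORE
(`o9lasmb_core`: `asm_b` from the statements of the rows it cites, given as hypotheses).
-/

namespace Cfsg.Agent.Lib.Helper1.O9L

open Matrix Module Cfsg.Agent.Lib.Helper13.OTS Cfsg.Agent.Lib.Helper16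

theorem o9lasmb_castV {F : Type*} [Field F] [Fintype F] {d d' : ℕ} {s s' : ℤ} {N N' : ℕ}
    (hd : d = d') (hs : s = s') (hN : N = N') (h : OmV F d s N) : OmV F d' s' N' := by
  subst hd; subst hs; subst hN; exact h

theorem o9lasmb_castR {F : Type*} [Field F] [Fintype F] {d d' : ℕ} {s s' : ℤ} {N N' : ℕ}
    (hd : d = d') (hs : s = s') (hN : N = N') (h : OmR F d s N) : OmR F d' s' N' := by
  subst hd; subst hs; subst hN; exact h

theorem o9lasmb_castN {F : Type*} [Field F] [Fintype F] {d : ℕ} {s : ℤ} {N N' : ℕ}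
    (hN : N = N') (h : OmN F d s N) : OmN F d s N' := by
  subst hN; exact h

/-- `p ∣ q`, `p ∤ m` for `m ≡ ±1 (mod q)`-type numbers: arithmetic used for `hc`. -/
theorem o9lasmb_not_dvd_sub (p q k : ℕ) (hp : p.Prime) (hpq : p ∣ q) (hk : 1 ≤ k) (hq : 1 ≤ q) :
    ¬ p ∣ q ^ k - 1 := by
  intro h
  have h1 : p ∣ q ^ k := dvd_trans hpq (dvd_pow_self q (by omega))
  have h2 : 1 ≤ q ^ k := Nat.one_le_pow _ _ hq
  have h3 : p ∣ q ^ k - (q ^ k - 1) := Nat.dvd_sub h1 h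
  have h4 : q ^ k - (q ^ k - 1) = 1 := by omega
  rw [h4] at h3
  exact hp.one_lt.ne' (Nat.dvd_one.mp h3)

theorem o9lasmb_not_dvd_add (p q k : ℕ) (hp : p.Prime) (hpq : p ∣ q) (hk : 1 ≤ k) :
    ¬ p ∣ q ^ k + 1 := by
  intro h
  have h1 : p ∣ q ^ k := dvd_trans hpq (dvd_pow_self q (by omega))
  have h3 : p ∣ 1 := (Nat.dvd_add_right h1).mp h
  exact hp.one_lt.ne' (Nat.dvd_one.mp h3)

/-- from `2 n = m` with `p ∤ m`: `(n : F) ≠ 0` -/
theorem o9lasmb_cast_ne {F : Type*} [Field F] (p : ℕ) [CharP F p] (n m : ℕ)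
    (h : 2 * n = m) (hm : ¬ p ∣ m) : (n : F) ≠ 0 := by
  apply cast_ne_zero_of_not_dvd p
  intro hn
  exact hm (h ▸ Dvd.dvd.mul_left hn 2)

/-- The assembly core: everything from the rows it cites, as hypotheses. -/
theorem o9lasmb_core {F : Type*} [Field F] [Fintype F] (p : ℕ) [Fact p.Prime] [CharP F p] (hp2 : p ≠ 2)
    (hF : Odd (Fintype.card F)) (a b : F) (hab : Aniso a b) (n : ℕ)
    (hn : 2 * n = Fintype.card F ^ 3 - 1 ∨ 2 * n = Fintype.card F ^ 3 + 1 ∨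
      2 * n = (Fintype.card F ^ 2 + 1) * (Fintype.card F - 1) ∨
      2 * n = (Fintype.card F ^ 2 + 1) * (Fintype.card F + 1) ∨ n = Fintype.card F ^ 2 - 1)
    (Htriv : ∀ {ι : Type} [Fintype ι] [DecidableEq ι]
      (Qs : QuadraticForm F (ι → F)) (d : ℕ) (s : ℤ) (hs : QStd Qs d s) (hd : 1 ≤ d), OmV F d s 1)
    (Hsumv : ∀ (d₁ d₂ : ℕ) (hd₁ : 1 ≤ d₁) (s₁ s₂ : ℤ) (N₁ N₂ : ℕ)
      (h₁ : OmV F d₁ s₁ N₁) (h₂ : OmR F d₂ s₂ N₂) (hc : ((Nat.lcm N₁ N₂ / N₁ : ℕ) : F) ≠ 0),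
      OmV F (d₁ + d₂) (s₁ * s₂) (Nat.lcm N₁ N₂))
    (Hsq : ∀ (h2 : (2 : F) ≠ 0) (d : ℕ) (s : ℤ) (M : ℕ) (h : OmN F d s (2 * M)), OmR F d s M)
    (Hplus : ∀ (h2 : (2 : F) ≠ 0) (k : ℕ) (hk : 1 ≤ k), OmN F k 1 (Fintype.card F ^ k - 1))
    (Hminus : ∀ (h2 : (2 : F) ≠ 0) (a b : F) (hab : Aniso a b) (k : ℕ) (hk : 1 ≤ k),
      OmN F k (-1) (Fintype.card F ^ k + 1))
    (Hsumn : ∀ (h2 : (2 : F) ≠ 0) (d₁ d₂ : ℕ) (hd₁ : 1 ≤ d₁) (s₁ s₂ : ℤ) (N₁ N₂ : ℕ)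
      (h₁ : OmN F d₁ s₁ N₁) (h₂ : OmN F d₂ s₂ N₂), OmR F (d₁ + d₂) (s₁ * s₂) (Nat.lcm N₁ N₂))
    (Harith : ∀ (q : ℕ) (hq : Odd q) (hq3 : 3 ≤ q),
      2 * Nat.lcm (q ^ 2 + 1) (q ^ 2 - 1) = q ^ 4 - 1 ∧
      2 * Nat.lcm (q ^ 3 - 1) (q + 1) = (q ^ 3 - 1) * (q + 1) ∧
      2 * Nat.lcm (q ^ 3 + 1) (q - 1) = (q ^ 3 + 1) * (q - 1) ∧
      2 * Nat.lcm (q ^ 2 + 1) (q - 1) = (q ^ 2 + 1) * (q - 1) ∧
      2 * Nat.lcm (q ^ 2 + 1) (q + 1) = (q ^ 2 + 1) * (q + 1) ∧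
      Nat.lcm (q ^ 2 - 1) (q - 1) = q ^ 2 - 1) :
    OmV F 4 (-1) n := by
  have h2 : (2 : F) ≠ 0 := two_ne_zero_of_odd hF
  have hpq : p ∣ Fintype.card F := char_dvd_card p
  have hpp : p.Prime := Fact.out
  set q := Fintype.card F with hqdef
  have hq1 : 1 < q := Fintype.one_lt_card
  have hq3 : 3 ≤ q := by
    obtain ⟨t, ht⟩ := hF
    omega
  obtain ⟨-, -, -, ha4, ha5, ha6⟩ := Harith q hF hq3
  have hTp : OmV F 1 1 1 := Htriv (qfPlus 1 F) 1 1 (q_std_plus 1) le_rfl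
  have hTm : OmV F 1 (-1) 1 := Htriv (qfMinus 0 F a b) 1 (-1) (q_std_minus 1 le_rfl a b hab) le_rfl
  -- the final step: from the trivial piece of type `s₁` and `OmR F 3 s₂ n`
  have key : ∀ (s₁ s₂ : ℤ), s₁ * s₂ = -1 → OmV F 1 s₁ 1 → OmR F 3 s₂ n → (n : F) ≠ 0 →
      OmV F 4 (-1) n := by
    intro s₁ s₂ hs hT hR hc
    have hl : Nat.lcm 1 n = n := Nat.lcm_one_left n
    have h := Hsumv 1 3 le_rfl s₁ s₂ 1 n hT hR (by rw [hl, Nat.div_one]; exact hc)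
    exact o9lasmb_castV (by norm_num) hs hl h
  rcases hn with hn | hn | hn | hn | hn
  · -- 2 n = q^3 - 1
    have hN : OmN F 3 1 (2 * n) := o9lasmb_castN hn.symm (Hplus h2 3 (by norm_num))
    have hR : OmR F 3 1 n := Hsq h2 3 1 n hN
    exact key (-1) 1 (by norm_num) hTm hR
      (o9lasmb_cast_ne p n _ hn (o9lasmb_not_dvd_sub p q 3 hpp hpq (by norm_num) (by omega)))
  · -- 2 n = q^3 + 1
    have hN : OmN F 3 (-1) (2 * n) := o9lasmb_castN hn.symm (Hminus h2 a b hab 3 (by norm_num))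
    have hR : OmR F 3 (-1) n := Hsq h2 3 (-1) n hN
    exact key 1 (-1) (by norm_num) hTp hR
      (o9lasmb_cast_ne p n _ hn (o9lasmb_not_dvd_add p q 3 hpp hpq (by norm_num)))
  · -- 2 n = (q^2+1)(q-1)
    have hS := Hsumn h2 2 1 (by norm_num) (-1) 1 _ _ (Hminus h2 a b hab 2 (by norm_num))
      (Hplus h2 1 le_rfl)
    have hl : Nat.lcm (q ^ 2 + 1) (q ^ 1 - 1) = n := by
      rw [pow_one]
      have : 2 * Nat.lcm (q ^ 2 + 1) (q - 1) = 2 * n := by rw [ha4, hn]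
      omega
    have hR : OmR F 3 (-1 * 1) n := o9lasmb_castR (by norm_num) rfl hl hS
    refine key 1 (-1 * 1) (by norm_num) hTp hR (o9lasmb_cast_ne p n _ hn ?_)
    intro hd
    rcases (Nat.Prime.dvd_mul hpp).mp hd with h | h
    · exact o9lasmb_not_dvd_add p q 2 hpp hpq (by norm_num) h
    · have := o9lasmb_not_dvd_sub p q 1 hpp hpq le_rfl (by omega)
      rw [pow_one] at this
      exact this h
  · -- 2 n = (q^2+1)(q+1)
    have hS := Hsumn h2 2 1 (by norm_num) (-1) (-1) _ _ (Hminus h2 a b hab 2 (by norm_num))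
      (Hminus h2 a b hab 1 le_rfl)
    have hl : Nat.lcm (q ^ 2 + 1) (q ^ 1 + 1) = n := by
      rw [pow_one]
      have : 2 * Nat.lcm (q ^ 2 + 1) (q + 1) = 2 * n := by rw [ha5, hn]
      omega
    have hR : OmR F 3 (-1 * -1) n := o9lasmb_castR (by norm_num) rfl hl hS
    refine key (-1) (-1 * -1) (by norm_num) hTm hR (o9lasmb_cast_ne p n _ hn ?_)
    intro hd
    rcases (Nat.Prime.dvd_mul hpp).mp hd with h | h
    · exact o9lasmb_not_dvd_add p q 2 hpp hpq (by norm_num) h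
    · have := o9lasmb_not_dvd_add p q 1 hpp hpq le_rfl
      rw [pow_one] at this
      exact this h
  · -- n = q^2 - 1
    have hS := Hsumn h2 2 1 (by norm_num) 1 1 _ _ (Hplus h2 2 (by norm_num)) (Hplus h2 1 le_rfl)
    have hl : Nat.lcm (q ^ 2 - 1) (q ^ 1 - 1) = n := by
      rw [pow_one, ha6, hn]
    have hR : OmR F 3 (1 * 1) n := o9lasmb_castR (by norm_num) rfl hl hS
    refine key (-1) (1 * 1) (by norm_num) hTm hR ?_
    apply cast_ne_zero_of_not_dvd p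
    rw [hn]
    exact o9lasmb_not_dvd_sub p q 2 hpp hpq (by norm_num) (by omega)

end Cfsg.Agent.Lib.Helper1.O9L
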