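import Mathlib
import Cfsg.Agent.Lib.helper17.OMP.Defs
import Cfsg.Agent.Lib.Helper22.CTATVAPI
import Cfsg.Agent.Lib.Lead.SLn

/-!
# Project OMP (designer helper17), row E3 (helper13): the torus word `hE i j s` is diagonal.
-/

set_option autoImplicit false

namespace Cfsg.Agent.Lib.helper17.OMP

open Matrix Cfsg.Agent.Lib.helper14.CTE Cfsg.Agent.Lib.helper14.CTA Cfsg.Agent.Lib.helper17.SLN

universe u v w

section E

variable {F : Type u} [Field F] {ι : Type w} [Fintype ι] [DecidableEq ι]

theorem hE_coe (i j : ι) (hij : i ≠ j) (s : F) (hs : s ≠ 0) :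
    ((hE i j s : Matrix.SpecialLinearGroup ι F) : Matrix ι ι F) =
      Matrix.diagonal (fun k => if k = i then s else if k = j then s⁻¹ else 1) := by
  have h := Cfsg.Agent.Lib.Lead.diag2n_decompose_aux (F := F) hij s hs
  rw [h]
  unfold hE
  simp only [Matrix.SpecialLinearGroup.coe_mul, tv_coe hij, tv_coe hij.symm, Matrix.transvection,
    Matrix.mul_assoc]

/-- the diagonal entries of `hE i j s`. -/
def ompe3_d (i j : ι) (s : F) (k : ι) : F := if k = i then s else if k = j then s⁻¹ else 1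

omit [Fintype ι] in
theorem ompe3_d_ne (i j : ι) (s : F) (hs : s ≠ 0) (k : ι) : ompe3_d i j s k ≠ 0 := by
  unfold ompe3_d
  split_ifs
  · exact hs
  · exact inv_ne_zero hs
  · exact one_ne_zero

/-- conjugating a transvection by a diagonal matrix (as an identity `D * x = x' * D`). -/
theorem ompe3_diag_tv (g : Matrix.SpecialLinearGroup ι F) (d : ι → F) (hg : g.1 = Matrix.diagonal d)
    (a b : ι) (hab : a ≠ b) (t : F) (hb : d b ≠ 0) :
    g * tv a b t = tv a b (d a * (d b)⁻¹ * t) * g := by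
  apply Subtype.ext
  rw [Matrix.SpecialLinearGroup.coe_mul, Matrix.SpecialLinearGroup.coe_mul, tv_coe hab, tv_coe hab, hg]
  simp only [Matrix.transvection, Matrix.mul_add, Matrix.add_mul, Matrix.mul_one, Matrix.one_mul]
  congr 1
  ext k l
  rw [Matrix.diagonal_mul, Matrix.mul_diagonal]
  simp only [Matrix.single_apply]
  by_cases h : a = k ∧ b = l
  · obtain ⟨rfl, rfl⟩ := h
    simp only [and_self, if_true]
    field_simp
  · simp only [h, if_false, mul_zero, zero_mul]

theorem hE_conj_tv (i j : ι) (hij : i ≠ j) (s : F) (hs : s ≠ 0) (a b : ι) (hab : a ≠ b) (t : F) :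
    (hE i j s : Matrix.SpecialLinearGroup ι F) * tv a b t * (hE i j s)⁻¹ =
      tv a b ((if a = i then s else if a = j then s⁻¹ else 1) * (if b = i then s else if b = j then s⁻¹ else 1)⁻¹ * t) := by
  have h := ompe3_diag_tv (hE i j s : Matrix.SpecialLinearGroup ι F) (ompe3_d i j s)
    (hE_coe i j hij s hs) a b hab t (ompe3_d_ne i j s hs b)
  rw [h, mul_assoc, mul_inv_cancel, mul_one]
  rfl

theorem hE_inv (i j : ι) (hij : i ≠ j) (s : F) (hs : s ≠ 0) :
    (hE i j s : Matrix.SpecialLinearGroup ι F)⁻¹ = hE i j s⁻¹ := by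
  apply inv_eq_of_mul_eq_one_right
  apply Subtype.ext
  rw [Matrix.SpecialLinearGroup.coe_mul, hE_coe i j hij s hs, hE_coe i j hij s⁻¹ (inv_ne_zero hs),
    Matrix.diagonal_mul_diagonal, Matrix.SpecialLinearGroup.coe_one, ← Matrix.diagonal_one]
  congr 1
  funext k
  by_cases hki : k = i
  · simp [hki, hs]
  · by_cases hkj : k = j
    · simp [hkj, hij.symm, hs]
    · simp [hki, hkj]

end E

end Cfsg.Agent.Lib.helper17.OMP
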