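import Mathlib

/-!
# SL3 row E2 (`bn_count`), verbatim vs `helper17/SL3/Skel.lean.txt` (Mathlib only).
-/

set_option autoImplicit false

namespace Cfsg.Agent.Lib.helper17.SL3

universe u v

variable {G : Type u} [Group G]

/-- pushing the right factor of `B n B` to a coset representative -/
theorem sl3e2_push (B : Subgroup G) (n : G) (X : Set G)
    (hc : ∀ g ∈ B, ∃ b ∈ B, ∃ y ∈ X, n * g = b * n * y) (b₁ b₂ : G) (h₁ : b₁ ∈ B) (h₂ : b₂ ∈ B) :
    ∃ b ∈ B, ∃ y ∈ X, b₁ * n * b₂ = b * n * y := by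
  obtain ⟨b', hb', y, hy, e⟩ := hc b₂ h₂
  refine ⟨b₁ * b', B.mul_mem h₁ hb', y, hy, ?_⟩
  rw [mul_assoc b₁ n b₂, e]
  group

/-- E2 [M]. -/
theorem bn_count (B : Subgroup G) [Finite B] (n1 n2 : G) (X1 X2 : Set G) (q : ℕ)
    (hX1 : X1.Finite ∧ X1.ncard ≤ q) (hX2 : X2.Finite ∧ X2.ncard ≤ q)
    (hc1 : ∀ g ∈ B, ∃ b ∈ B, ∃ y ∈ X1, n1 * g = b * n1 * y)
    (hc2 : ∀ g ∈ B, ∃ b ∈ B, ∃ y ∈ X2, n2 * g = b * n2 * y)
    (hall : ∀ g : G, ∃ m ∈ ({1, n1, n2, n1 * n2, n2 * n1, n1 * n2 * n1} : Set G),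
      ∃ b₁ ∈ B, ∃ b₂ ∈ B, g = b₁ * m * b₂) :
    Finite G ∧ Nat.card G ≤ Nat.card B * (1 + 2 * q + 2 * q ^ 2 + q ^ 3) := by
  classical
  have hBfin : (B : Set G).Finite := Set.toFinite _
  set Bf : Finset G := hBfin.toFinset with hBf
  set Y1 : Finset G := hX1.1.toFinset with hY1
  set Y2 : Finset G := hX2.1.toFinset with hY2
  have hBmem : ∀ g, g ∈ Bf ↔ g ∈ B := fun g => by rw [hBf, Set.Finite.mem_toFinset]; rfl
  have hY1mem : ∀ g, g ∈ Y1 ↔ g ∈ X1 := fun g => by rw [hY1, Set.Finite.mem_toFinset]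
  have hY2mem : ∀ g, g ∈ Y2 ↔ g ∈ X2 := fun g => by rw [hY2, Set.Finite.mem_toFinset]
  have hBcard : Bf.card = Nat.card B := by
    rw [hBf, ← Set.ncard_eq_toFinset_card _ hBfin]
    exact (Nat.card_coe_set_eq (B : Set G))
  have hY1card : Y1.card ≤ q := by
    rw [hY1, ← Set.ncard_eq_toFinset_card _ hX1.1]; exact hX1.2
  have hY2card : Y2.card ≤ q := by
    rw [hY2, ← Set.ncard_eq_toFinset_card _ hX2.1]; exact hX2.2
  -- the six pieces
  let T1 : Finset G := (Bf ×ˢ Y1).image (fun p => p.1 * n1 * p.2)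
  let T2 : Finset G := (Bf ×ˢ Y2).image (fun p => p.1 * n2 * p.2)
  let T12 : Finset G := (Bf ×ˢ Y1 ×ˢ Y2).image (fun p => p.1 * n1 * p.2.1 * n2 * p.2.2)
  let T21 : Finset G := (Bf ×ˢ Y2 ×ˢ Y1).image (fun p => p.1 * n2 * p.2.1 * n1 * p.2.2)
  let T121 : Finset G := (Bf ×ˢ Y1 ×ˢ Y2 ×ˢ Y1).image
    (fun p => p.1 * n1 * p.2.1 * n2 * p.2.2.1 * n1 * p.2.2.2)
  let T : Finset G := Bf ∪ T1 ∪ T2 ∪ T12 ∪ T21 ∪ T121
  have hcov : ∀ g : G, g ∈ T := by
    intro g
    obtain ⟨m, hm, b₁, h₁, b₂, h₂, hg⟩ := hall g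
    simp only [Set.mem_insert_iff, Set.mem_singleton_iff] at hm
    simp only [T, Finset.mem_union]
    rw [hg]
    rcases hm with hm | hm | hm | hm | hm | hm <;> rw [hm]
    · left; left; left; left; left
      rw [hBmem, mul_one]
      exact B.mul_mem h₁ h₂
    · left; left; left; left; right
      obtain ⟨b, hb, y, hy, e⟩ := sl3e2_push B n1 X1 hc1 b₁ b₂ h₁ h₂
      rw [e]
      exact Finset.mem_image.mpr ⟨(b, y), Finset.mem_product.mpr ⟨(hBmem b).mpr hb,
        (hY1mem y).mpr hy⟩, rfl⟩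
    · left; left; left; right
      obtain ⟨b, hb, y, hy, e⟩ := sl3e2_push B n2 X2 hc2 b₁ b₂ h₁ h₂
      rw [e]
      exact Finset.mem_image.mpr ⟨(b, y), Finset.mem_product.mpr ⟨(hBmem b).mpr hb,
        (hY2mem y).mpr hy⟩, rfl⟩
    · left; left; right
      obtain ⟨b', hb', y2, hy2, e2⟩ := hc2 b₂ h₂
      obtain ⟨b, hb, y1, hy1, e1⟩ := sl3e2_push B n1 X1 hc1 b₁ b' h₁ hb'
      have e : b₁ * (n1 * n2) * b₂ = b * n1 * y1 * n2 * y2 := by
        calc b₁ * (n1 * n2) * b₂ = b₁ * n1 * (n2 * b₂) := by group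
          _ = b₁ * n1 * (b' * n2 * y2) := by rw [e2]
          _ = (b₁ * n1 * b') * n2 * y2 := by group
          _ = b * n1 * y1 * n2 * y2 := by rw [e1]
      rw [e]
      exact Finset.mem_image.mpr ⟨(b, y1, y2), Finset.mem_product.mpr ⟨(hBmem b).mpr hb,
        Finset.mem_product.mpr ⟨(hY1mem y1).mpr hy1, (hY2mem y2).mpr hy2⟩⟩, rfl⟩
    · left; right
      obtain ⟨b', hb', y1, hy1, e1⟩ := hc1 b₂ h₂
      obtain ⟨b, hb, y2, hy2, e2⟩ := sl3e2_push B n2 X2 hc2 b₁ b' h₁ hb'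
      have e : b₁ * (n2 * n1) * b₂ = b * n2 * y2 * n1 * y1 := by
        calc b₁ * (n2 * n1) * b₂ = b₁ * n2 * (n1 * b₂) := by group
          _ = b₁ * n2 * (b' * n1 * y1) := by rw [e1]
          _ = (b₁ * n2 * b') * n1 * y1 := by group
          _ = b * n2 * y2 * n1 * y1 := by rw [e2]
      rw [e]
      exact Finset.mem_image.mpr ⟨(b, y2, y1), Finset.mem_product.mpr ⟨(hBmem b).mpr hb,
        Finset.mem_product.mpr ⟨(hY2mem y2).mpr hy2, (hY1mem y1).mpr hy1⟩⟩, rfl⟩
    · right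
      obtain ⟨b', hb', y1', hy1', e1'⟩ := hc1 b₂ h₂
      obtain ⟨b'', hb'', y2, hy2, e2⟩ := hc2 b' hb'
      obtain ⟨b, hb, y1, hy1, e1⟩ := sl3e2_push B n1 X1 hc1 b₁ b'' h₁ hb''
      have e : b₁ * (n1 * n2 * n1) * b₂ = b * n1 * y1 * n2 * y2 * n1 * y1' := by
        calc b₁ * (n1 * n2 * n1) * b₂ = b₁ * n1 * n2 * (n1 * b₂) := by group
          _ = b₁ * n1 * n2 * (b' * n1 * y1') := by rw [e1']
          _ = b₁ * n1 * (n2 * b') * n1 * y1' := by group
          _ = b₁ * n1 * (b'' * n2 * y2) * n1 * y1' := by rw [e2]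
          _ = (b₁ * n1 * b'') * n2 * y2 * n1 * y1' := by group
          _ = b * n1 * y1 * n2 * y2 * n1 * y1' := by rw [e1]
      rw [e]
      exact Finset.mem_image.mpr ⟨(b, y1, y2, y1'), Finset.mem_product.mpr ⟨(hBmem b).mpr hb,
        Finset.mem_product.mpr ⟨(hY1mem y1).mpr hy1, Finset.mem_product.mpr
          ⟨(hY2mem y2).mpr hy2, (hY1mem y1').mpr hy1'⟩⟩⟩, rfl⟩
  have hfin : Finite G := by
    have : (Set.univ : Set G) ⊆ (T : Set G) := fun g _ => hcov g
    exact Set.finite_univ_iff.mp (Set.Finite.subset T.finite_toSet this)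
  refine ⟨hfin, ?_⟩
  have hcard : Nat.card G ≤ T.card := by
    have : Fintype G := Fintype.ofFinite G
    rw [Nat.card_eq_fintype_card, ← Finset.card_univ]
    exact Finset.card_le_card (fun g _ => hcov g)
  have c1 : T1.card ≤ Nat.card B * q := by
    refine le_trans Finset.card_image_le ?_
    rw [Finset.card_product, hBcard]
    exact Nat.mul_le_mul_left _ hY1card
  have c2 : T2.card ≤ Nat.card B * q := by
    refine le_trans Finset.card_image_le ?_
    rw [Finset.card_product, hBcard]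
    exact Nat.mul_le_mul_left _ hY2card
  have c12 : T12.card ≤ Nat.card B * (q * q) := by
    refine le_trans Finset.card_image_le ?_
    rw [Finset.card_product, Finset.card_product, hBcard]
    exact Nat.mul_le_mul_left _ (Nat.mul_le_mul hY1card hY2card)
  have c21 : T21.card ≤ Nat.card B * (q * q) := by
    refine le_trans Finset.card_image_le ?_
    rw [Finset.card_product, Finset.card_product, hBcard]
    exact Nat.mul_le_mul_left _ (Nat.mul_le_mul hY2card hY1card)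
  have c121 : T121.card ≤ Nat.card B * (q * (q * q)) := by
    refine le_trans Finset.card_image_le ?_
    rw [Finset.card_product, Finset.card_product, Finset.card_product, hBcard]
    exact Nat.mul_le_mul_left _ (Nat.mul_le_mul hY1card (Nat.mul_le_mul hY2card hY1card))
  have hT : T.card ≤ Bf.card + T1.card + T2.card + T12.card + T21.card + T121.card := by
    simp only [T]
    refine le_trans (Finset.card_union_le _ _) (Nat.add_le_add_right ?_ _)
    refine le_trans (Finset.card_union_le _ _) (Nat.add_le_add_right ?_ _)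
    refine le_trans (Finset.card_union_le _ _) (Nat.add_le_add_right ?_ _)
    refine le_trans (Finset.card_union_le _ _) (Nat.add_le_add_right ?_ _)
    exact Finset.card_union_le _ _
  calc Nat.card G ≤ T.card := hcard
    _ ≤ Bf.card + T1.card + T2.card + T12.card + T21.card + T121.card := hT
    _ ≤ Nat.card B + Nat.card B * q + Nat.card B * q + Nat.card B * (q * q) +
          Nat.card B * (q * q) + Nat.card B * (q * (q * q)) := by
        rw [hBcard]; omega
    _ = Nat.card B * (1 + 2 * q + 2 * q ^ 2 + q ^ 3) := by ring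

end Cfsg.Agent.Lib.helper17.SL3
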