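import Mathlib

/-!
# SL3 row C1 (`cubes_span`), verbatim vs `helper17/SL3/Skel.lean.txt` (Mathlib only).

`K := Subring.closure {ζ³}`; the units of `F` lying in `K` form a subgroup `M` of `Fˣ` containing all cubes, so of index
`1` or `3`; `|K| = |M| + 1` divides `q`; index `3` forces `q = 4`.
-/

set_option autoImplicit false

namespace Cfsg.Agent.Lib.helper17.SL3

/-- in a finite cyclic group a subgroup containing all `r`-th powers has index dividing `r` -/
theorem sl3c1_index_dvd {A : Type*} [CommGroup A] [IsCyclic A] [Finite A]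
    (H : Subgroup A) (r : ℕ) (h : ∀ a : A, a ^ r ∈ H) : H.index ∣ r := by
  have hcyc : IsCyclic (A ⧸ H) :=
    isCyclic_of_surjective (QuotientGroup.mk' H) (QuotientGroup.mk'_surjective H)
  rw [Subgroup.index_eq_card, ← IsCyclic.exponent_eq_card]
  apply Monoid.exponent_dvd_of_forall_pow_eq_one
  intro q
  induction q using QuotientGroup.induction_on with
  | H a =>
    rw [← QuotientGroup.mk_pow, QuotientGroup.eq_one_iff]
    exact h a

/-- the units of `F` lying in a subring, as a subgroup of `Fˣ` (`F` finite) -/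
def sl3c1_unitsIn {F : Type*} [Field F] [Fintype F] (K : Subring F) : Subgroup Fˣ where
  carrier := {u | (u : F) ∈ K}
  mul_mem' := fun {a b} ha hb => by
    show ((a * b : Fˣ) : F) ∈ K
    rw [Units.val_mul]
    exact K.mul_mem ha hb
  one_mem' := by
    show ((1 : Fˣ) : F) ∈ K
    rw [Units.val_one]
    exact K.one_mem
  inv_mem' := fun {a} ha => by
    show ((a⁻¹ : Fˣ) : F) ∈ K
    classical
    have h1 : a ^ Fintype.card Fˣ = 1 := pow_card_eq_one
    have hpos : 0 < Fintype.card Fˣ := Fintype.card_pos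
    have h2 : a⁻¹ = a ^ (Fintype.card Fˣ - 1) := by
      rw [inv_eq_iff_mul_eq_one, ← pow_succ', Nat.sub_add_cancel hpos, h1]
    rw [h2, Units.val_pow_eq_pow_val]
    exact K.pow_mem ha _

theorem sl3c1_mem_unitsIn {F : Type*} [Field F] [Fintype F] (K : Subring F) (u : Fˣ) :
    u ∈ sl3c1_unitsIn K ↔ (u : F) ∈ K := Iff.rfl

/-- `|K| = |M| + 1` -/
theorem sl3c1_card {F : Type*} [Field F] [Fintype F] (K : Subring F) :
    Nat.card K = Nat.card (sl3c1_unitsIn K) + 1 := by
  classical
  rw [Nat.card_eq_fintype_card, Nat.card_eq_fintype_card, Fintype.card_subtype,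
    Fintype.card_subtype]
  have hset : (Finset.univ.filter fun x : F => x ∈ K) =
      insert 0 ((Finset.univ.filter fun u : Fˣ => u ∈ sl3c1_unitsIn K).map
        ⟨Units.val, Units.val_injective⟩) := by
    ext x
    simp only [Finset.mem_filter, Finset.mem_univ, true_and, Finset.mem_insert, Finset.mem_map,
      Function.Embedding.coeFn_mk]
    constructor
    · intro hx
      by_cases h0 : x = 0
      · left; exact h0
      · right
        exact ⟨Units.mk0 x h0, hx, rfl⟩
    · rintro (rfl | ⟨u, hu, rfl⟩)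
      · exact K.zero_mem
      · exact hu
  rw [hset, Finset.card_insert_of_notMem, Finset.card_map]
  simp only [Finset.mem_map, Finset.mem_filter, Finset.mem_univ, true_and,
    Function.Embedding.coeFn_mk, not_exists, not_and]
  intro u _
  exact u.ne_zero

/-- the subring generated by `ζ³` is everything unless `q = 4` -/
theorem sl3c1_subring_top {F : Type*} [Field F] [Fintype F] (hq : Fintype.card F ≠ 4) (ζ : Fˣ)
    (hζ : ∀ y : Fˣ, y ∈ Subgroup.zpowers ζ) (x : F) :
    x ∈ Subring.closure ({(ζ : F) ^ 3} : Set F) := by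
  classical
  set K : Subring F := Subring.closure ({(ζ : F) ^ 3} : Set F) with hK
  set M : Subgroup Fˣ := sl3c1_unitsIn K with hM
  have hcyc : IsCyclic Fˣ := ⟨ζ, hζ⟩
  have hz3 : ζ ^ 3 ∈ M := by
    rw [hM, sl3c1_mem_unitsIn, Units.val_pow_eq_pow_val]
    exact Subring.subset_closure rfl
  have hcubes : ∀ a : Fˣ, a ^ 3 ∈ M := by
    intro a
    obtain ⟨i, rfl⟩ := Subgroup.mem_zpowers_iff.mp (hζ a)
    have : (ζ ^ i) ^ 3 = (ζ ^ 3) ^ i := by
      rw [← zpow_natCast, ← zpow_mul, ← zpow_natCast, ← zpow_mul, mul_comm]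
    rw [this]
    exact M.zpow_mem hz3 i
  have hidx : M.index ∣ 3 := sl3c1_index_dvd M 3 hcubes
  have hmul : Nat.card M * M.index = Fintype.card F - 1 := by
    rw [Subgroup.card_mul_index, Nat.card_units, Nat.card_eq_fintype_card]
  have hcardK : Nat.card K = Nat.card M + 1 := sl3c1_card K
  have hdvd : Nat.card K ∣ Fintype.card F := by
    have := AddSubgroup.card_addSubgroup_dvd_card K.toAddSubgroup
    rw [Nat.card_eq_fintype_card (α := F)] at this
    exact this
  have hq2 : 1 < Fintype.card F := Fintype.one_lt_card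
  have hMpos : 0 < Nat.card M := Nat.card_pos
  have hfull : Nat.card K = Fintype.card F := by
    have h3 : M.index = 1 ∨ M.index = 3 := by
      have := (Nat.dvd_prime Nat.prime_three).mp hidx
      exact this
    rcases h3 with h1 | h3
    · rw [h1, mul_one] at hmul
      omega
    · exfalso
      rw [h3] at hmul
      rw [hcardK] at hdvd
      -- (h+1) ∣ 3h+1
      have hq' : Fintype.card F = 3 * Nat.card M + 1 := by omega
      rw [hq'] at hdvd
      have h2 : (Nat.card M + 1) ∣ 2 := by
        have h5 : (Nat.card M + 1) ∣ 3 * (Nat.card M + 1) := Dvd.intro_left 3 rfl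
        have h6 : 3 * (Nat.card M + 1) = (3 * Nat.card M + 1) + 2 := by ring
        rw [h6] at h5
        exact (Nat.dvd_add_right hdvd).mp h5
      have h7 := Nat.le_of_dvd (by norm_num) h2
      have : Nat.card M = 1 := by omega
      apply hq
      omega
  -- `K` has as many elements as `F`
  have hfilter : (Finset.univ.filter fun y : F => y ∈ K) = Finset.univ := by
    apply Finset.eq_univ_of_card
    rw [← Fintype.card_subtype, ← Nat.card_eq_fintype_card]
    exact hfull
  have : x ∈ Finset.univ.filter fun y : F => y ∈ K := by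
    rw [hfilter]; exact Finset.mem_univ x
  exact (Finset.mem_filter.mp this).2

/-- C1 [M]. -/
theorem cubes_span {F : Type*} [Field F] [Fintype F] (hq : Fintype.card F ≠ 4) (ζ : Fˣ)
    (hζ : ∀ y : Fˣ, y ∈ Subgroup.zpowers ζ) :
    AddSubgroup.closure (Set.range fun j : ℕ => (ζ : F) ^ (3 * j)) = ⊤ := by
  rw [eq_top_iff]
  intro x _
  have hx := sl3c1_subring_top hq ζ hζ x
  rw [Subring.mem_closure_iff] at hx
  refine AddSubgroup.closure_mono ?_ hx
  intro y hy
  rw [SetLike.mem_coe, ← Submonoid.powers_eq_closure, Submonoid.mem_powers_iff] at hy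
  obtain ⟨k, rfl⟩ := hy
  exact ⟨k, (pow_mul (ζ : F) 3 k)⟩

end Cfsg.Agent.Lib.helper17.SL3
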