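import Mathlib
import Cfsg.Prelude.Def_GeometricClasses
import Cfsg.Agent.Lib.Helper19.OU.Defs
import Cfsg.Agent.Lib.Helper11.OUTAU
import Cfsg.Agent.Lib.Helper20.OUKLIN

set_option autoImplicit false
set_option linter.unusedVariables false
set_option linter.unusedSectionVars false

/-!
# Project OU (leader helper19) -> S5700, piece FORM (helper13) : the ten form identities of the row, VERBATIM vs
`Helper19/OU/Skel.lean.txt`: `ks_adj' ks_ff ks_sq_mv ks_sing kl_sing ho_symm ho_theta ho_kl ho_of_perp ho_ne`.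
Extras: `ouform_mem_kl` (`x ∈ K u ↔ x = a u + b θ u`), `ouform_f_comb` (bilinear expansion on two `K`-line elements).
-/

namespace Cfsg.Agent.Lib.Helper19.OU

open Matrix Cfsg.Agent.Lib.Helper28.HForm Cfsg.Agent.Lib.Helper28.OGen
  Cfsg.Agent.Lib.Helper28.OMax Cfsg.Agent.Lib.Helper28.OQ Cfsg.Agent.Lib.Helper28.OMax2
  Cfsg.Agent.Lib.Helper28.OIwa Cfsg.Agent.Lib.Helper28.OPair

variable {n : ℕ} {F : Type*} [Field F] {Q : (Fin n → F) → F}
  {f : (Fin n → F) → (Fin n → F) → F} {θ : Matrix (Fin n) (Fin n) F} {t N : F}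
  {G M : Subgroup (Matrix.GeneralLinearGroup (Fin n) F)}

theorem ks_adj' (ks : KS Q f θ t N) (u v : Fin n → F) :
    f u (θ *ᵥ v) = t * f u v - f (θ *ᵥ u) v := outau_adj' ks u v

theorem ks_ff (ks : KS Q f θ t N) (u v : Fin n → F) : f (θ *ᵥ u) (θ *ᵥ v) = N * f u v :=
  outau_ff ks u v

theorem ks_sq_mv (ks : KS Q f θ t N) (x : Fin n → F) :
    θ *ᵥ (θ *ᵥ x) = t • (θ *ᵥ x) - N • x := outau_sq_mv ks x

theorem ks_sing (ks : KS Q f θ t N) {u : Fin n → F} (hu : Q u = 0) :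
    Q (θ *ᵥ u) = 0 ∧ f u (θ *ᵥ u) = 0 ∧ f (θ *ᵥ u) u = 0 := by
  have h2 : f u (θ *ᵥ u) = 0 := by rw [ks.fθ, hu, mul_zero]
  refine ⟨by rw [ks.Qθ, hu, mul_zero], h2, ?_⟩
  rw [s_symm ks.hq.sym]; exact h2

/-- membership in the `K`-line -/
theorem ouform_mem_kl (θ : Matrix (Fin n) (Fin n) F) (u x : Fin n → F) :
    x ∈ Kl θ u ↔ ∃ a b : F, x = a • u + b • (θ *ᵥ u) := by
  unfold Kl
  rw [Submodule.mem_span_pair]
  constructor
  · rintro ⟨a, b, h⟩; exact ⟨a, b, h.symm⟩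
  · rintro ⟨a, b, h⟩; exact ⟨a, b, h.symm⟩

/-- bilinear expansion -/
theorem ouform_f_comb (hs : SymF f) (a b c d : F) (u u' v v' : Fin n → F) :
    f (a • u + b • u') (c • v + d • v') =
      a * c * f u v + a * d * f u v' + b * c * f u' v + b * d * f u' v' := by
  rw [hs.add_left, f_add_right hs, f_add_right hs, hs.smul_left, hs.smul_left, hs.smul_left, hs.smul_left,
    s_smul_right hs, s_smul_right hs, s_smul_right hs, s_smul_right hs]
  ring

/-- the `K`-line of a singular vector is totally singular -/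
theorem kl_sing (ks : KS Q f θ t N) {u : Fin n → F} (hu : Q u = 0) : ∀ x ∈ Kl θ u, Q x = 0 := by
  intro x hx
  obtain ⟨a, b, rfl⟩ := (ouform_mem_kl θ u x).1 hx
  have hs : SymF f := ks.hq.sym
  obtain ⟨h1, h2, h3⟩ := ks_sing ks hu
  rw [ks.hq.polar, ks.hq.smul, ks.hq.smul, hs.smul_left, s_smul_right hs, hu, h1, h2]
  ring

theorem ho_symm (ks : KS Q f θ t N) {u v : Fin n → F} (h : HO f θ u v) : HO f θ v u := by
  have hs : SymF f := ks.hq.sym
  obtain ⟨h1, h2⟩ := h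
  have h1' : f v u = 0 := by rw [s_symm hs]; exact h1
  refine ⟨h1', ?_⟩
  rw [ks.adj v u, h1', s_symm hs v (θ *ᵥ u), h2]
  ring

theorem ho_theta (ks : KS Q f θ t N) {u v : Fin n → F} (h : HO f θ u v) :
    f u (θ *ᵥ v) = 0 ∧ f (θ *ᵥ u) (θ *ᵥ v) = 0 := by
  obtain ⟨h1, h2⟩ := h
  constructor
  · rw [ks_adj' ks, h1, h2]; ring
  · rw [ks_ff ks, h1, mul_zero]

theorem ho_kl (ks : KS Q f θ t N) {u v : Fin n → F} (h : HO f θ u v) :
    ∀ x ∈ Kl θ u, ∀ y ∈ Kl θ v, f x y = 0 := by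
  intro x hx y hy
  obtain ⟨a, b, rfl⟩ := (ouform_mem_kl θ u x).1 hx
  obtain ⟨c, d, rfl⟩ := (ouform_mem_kl θ v y).1 hy
  have hs : SymF f := ks.hq.sym
  obtain ⟨h3, h4⟩ := ho_theta ks h
  obtain ⟨h1, h2⟩ := h
  rw [ouform_f_comb hs, h1, h2, h3, h4]
  ring

/-- `w ⊥ K u ⊔ K v` gives `HO u w` and `HO v w` -/
theorem ho_of_perp (ks : KS Q f θ t N) {u w : Fin n → F} (S : Submodule F (Fin n → F))
    (hS : Kl θ u ≤ S) (h : ∀ s ∈ S, f s w = 0) : HO f θ u w := by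
  constructor
  · apply h
    apply hS
    exact Submodule.subset_span (Set.mem_insert _ _)
  · apply h
    apply hS
    exact Submodule.subset_span (Set.mem_insert_of_mem _ (Set.mem_singleton _))

/-- `¬ HO v y` : the vector `f (y, v) θ y - f (θ y, v) y` (`= τ_y v - v`) is non-zero for `y ≠ 0` -/
theorem ho_ne (ks : KS Q f θ t N) {v y : Fin n → F} (hy : y ≠ 0) (h : ¬ HO f θ v y) :
    f y v • (θ *ᵥ y) - f (θ *ᵥ y) v • y ≠ 0 := by
  have hs : SymF f := ks.hq.sym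
  intro h0
  apply h
  have hli := kl_li2 ks hy
  rw [LinearIndependent.pair_iff] at hli
  have h1 := hli (-(f (θ *ᵥ y) v)) (f y v) (by rw [← h0]; module)
  obtain ⟨h2, h3⟩ := h1
  have h2' : f (θ *ᵥ y) v = 0 := by simpa using h2
  constructor
  · rw [s_symm hs]; exact h3
  · rw [ks.adj v y, s_symm hs v y, h3, s_symm hs v (θ *ᵥ y), h2']
    ring

end Cfsg.Agent.Lib.Helper19.OU
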