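import Mathlib
import Cfsg.Prelude.Def_OddOrderLocal
import Cfsg.Agent.Lib.Helper13.BG14V
import Cfsg.Agent.Lib.Helper13.BG14N
import Cfsg.Agent.Lib.Helper28.BGtJ
import Cfsg.Agent.Lib.Helper1.BG14b.ConjEquiv
import Cfsg.Agent.Lib.Helper11.FrobKernelNil
import Cfsg.Agent.Lib.Helper11.CNNormalSylow
import Cfsg.Agent.Lib.Helper11.MaxSubB
import Cfsg.Agent.S1414
import Cfsg.Agent.S1417
import Cfsg.Agent.S1423
import Cfsg.Agent.S1425
import Cfsg.Agent.S1429

set_option autoImplicit false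

/-! B & G Lemma 15.6(a) (τ₂-part of statement S1436): if `x ∈ M_σ^#`, `C_G(x) ⊄ M`, `N ⊇ C_G(x)` maximal and
`σ(N) ∩ π(M) ≠ ∅`, then `τ₂(M) = ∅`. Part A: the set-up and B & G Theorem 14.4(d2). (helper13) -/

namespace Cfsg.Agent.Lib.Helper13.BG15

open Cfsg Cfsg.Agent.Lib.Helper18 Cfsg.Agent.Lib.Helper28.BGt Cfsg.Agent.Lib.Helper13.BG14

variable {G : Type*} [Group G] [Finite G]

/-- the basic consequences of B & G Theorem 14.4 for an element of prime order -/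
theorem bg15_setup (hG : Cfsg.IsMinSimpleOddOrder G) {M N : Subgroup G} (hM : IsCoatom M)
    (hN : IsCoatom N) {x : G} {q : ℕ} (hq : q.Prime) (hx : x ∈ Cfsg.sigmaCore M)
    (hxo : orderOf x = q) (hxM : ¬ Subgroup.centralizer ({x} : Set G) ≤ M)
    (hxN : Subgroup.centralizer ({x} : Set G) ≤ N) :
    (∀ g : G, N ≠ M.map (MulAut.conj g).toMonoidHom) ∧ q ∈ Cfsg.tau2 N ∧
      Cfsg.sigmaCore N ⊓ M = ⊥ ∧ Cfsg.IsComplIn (M ⊓ N) (Cfsg.sigmaCore N) N ∧
      Group.IsNilpotent (Cfsg.sigmaCore N) ∧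
      (∀ L : Subgroup G, IsCoatom L → Subgroup.centralizer ({x} : Set G) ≤ L → L = N) ∧
      q ∈ Cfsg.sigma M := by
  haveI : Fact q.Prime := ⟨hq⟩
  have hsimple : IsSimpleGroup G := hG.2.1
  have hx1 : x ≠ 1 := by
    intro h
    rw [h, orderOf_one] at hxo
    exact hq.one_lt.ne hxo
  obtain ⟨N₀, ⟨hN₀, hxN₀⟩, huniq, hF, -, -, hcompl, -⟩ := bg14_cent_not_le hG M hM x hx hx1 hxM
  have hNN : N = N₀ := huniq N hN hxN
  subst hNN
  have hqσ : q ∈ Cfsg.sigma M := bg14_prime_orderOf_sigma hG hM hx hq (by rw [hxo])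
  have hXc : Nat.card (Subgroup.zpowers x) = q := by rw [Nat.card_zpowers, hxo]
  have hXp : IsPGroup q (Subgroup.zpowers x) := IsPGroup.of_card (n := 1) (by rw [hXc, pow_one])
  have hX1 : Subgroup.zpowers x ≠ ⊥ := by
    intro h
    rw [h, Subgroup.card_bot] at hXc
    exact hq.one_lt.ne hXc
  have hXM : Subgroup.zpowers x ≤ M := Subgroup.zpowers_le.mpr (sigmaCore_le M hx)
  have hne : N ≠ M := by
    rintro rfl
    exact hxM hxN
  have hCN : Subgroup.centralizer ({x} : Set G) ≤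
      Subgroup.normalizer ((Subgroup.zpowers x : Subgroup G) : Set G) := by
    rw [← Cfsg.Agent.Lib.Helper1.BG14.centralizer_zpowers_eq]
    exact Subgroup.centralizer_le_normalizer _
  have hNtop : Subgroup.normalizer ((Subgroup.zpowers x : Subgroup G) : Set G) ≠ ⊤ :=
    Cfsg.Agent.Lib.Helper11.normalizer_ne_top_of_simple hX1
      (Cfsg.Agent.Lib.Helper11.MaxSubD.pgroup_ne_top hG q _ hXp)
  obtain ⟨Ms, hMs, hNMs⟩ := Cfsg.Agent.Lib.Helper11.BenderE.exists_coatom_ge _ hNtop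
  have hMsN : Ms = N := huniq Ms hMs (hCN.trans hNMs)
  subst hMsN
  obtain ⟨hnc, hτ2, hbot, -⟩ := bg14_other_max_ex hG hM hMs hqσ hXp hX1 hXM hne hNMs
  refine ⟨hnc, hτ2, hbot, hcompl, ?_, huniq, hqσ⟩
  rw [hF]
  unfold Cfsg.fittingHallOf
  haveI := Cfsg.Agent.Lib.Helper11.fittingHall_isNilpotent (G := ↥Ms)
  exact Group.nilpotent_of_mulEquiv
    (Subgroup.equivMapOfInjective (Cfsg.fittingHall ↥Ms) Ms.subtype Ms.subtype_injective)

/-- `p ∈ σ(N)` divides `|N_σ|` -/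
theorem bg15_dvd_card_sigmaCore (hG : Cfsg.IsMinSimpleOddOrder G) {N : Subgroup G}
    (hN : IsCoatom N) {p : ℕ} (hp : p ∈ Cfsg.sigma N) : p ∣ Nat.card (Cfsg.sigmaCore N) := by
  have hH := (Cfsg.Agent.Lib.Helper11.BenderO.sigma_hall hG N hN).1
  have h1 := Cfsg.Agent.Lib.Helper1.BG12.card_mul_relIndex_of_le (sigmaCore_le N)
  have h2 : p ∣ Nat.card (Cfsg.sigmaCore N) * (Cfsg.sigmaCore N).relIndex N := by
    rw [h1]; exact hp.2.1
  rcases (Nat.Prime.dvd_mul hp.1).mp h2 with h | h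
  · exact h
  · exact absurd h (hH.2.2 p hp.1 hp)

/-- inside `N`: the elements of a normal subgroup `O` of `↥N` of order prime to `p` commute with the
elements of a `p`-subgroup `W ≤ N` normalized by `N` -/
theorem bg15_commute_core {N W : Subgroup G} {p : ℕ} [hp : Fact p.Prime] (O : Subgroup ↥N)
    [hOn : O.Normal] (hO : (Nat.card O).Coprime p) (hWN : W ≤ N)
    (hWn : N ≤ Subgroup.normalizer (W : Set G)) (hWp : IsPGroup p W) {a w : G} (haN : a ∈ N)
    (ha : (⟨a, haN⟩ : ↥N) ∈ O) (hw : w ∈ W) : a * w = w * a := by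
  haveI hn : (W.subgroupOf N).Normal := Subgroup.normal_subgroupOf_of_le_normalizer hWn
  have hcard : Nat.card (W.subgroupOf N) = Nat.card W :=
    Nat.card_congr (Subgroup.subgroupOfEquivOfLe hWN).toEquiv
  obtain ⟨k, hk⟩ := IsPGroup.iff_card.mp hWp
  have hcop : (Nat.card O).Coprime (Nat.card (W.subgroupOf N)) := by
    rw [hcard, hk]
    exact Nat.Coprime.pow_right k hO
  have hdis : Disjoint O (W.subgroupOf N) :=
    disjoint_iff.mpr (Subgroup.inf_eq_bot_of_coprime hcop)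
  have hc := Subgroup.commute_of_normal_of_disjoint O (W.subgroupOf N) hOn hn hdis
    ⟨a, haN⟩ ⟨w, hWN hw⟩ ha (Subgroup.mem_subgroupOf.mpr hw)
  exact congrArg Subtype.val hc.eq

/-- an element of `N` whose order is prime to the index of the normal subgroup `O` of `↥N` lies in `O` -/
theorem bg15_mem_of_coprime_index {N : Subgroup G} (O : Subgroup ↥N) [O.Normal] {a : G}
    (haN : a ∈ N) (hcop : (orderOf a).Coprime O.index) : (⟨a, haN⟩ : ↥N) ∈ O := by
  have hle := Cfsg.Agent.Lib.Helper1.BG12.le_of_coprime_index O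
    (Subgroup.zpowers (⟨a, haN⟩ : ↥N)) (by
      rw [Nat.card_zpowers, Subgroup.orderOf_mk]; exact hcop)
  exact hle (Subgroup.mem_zpowers _)

/-- **B & G Theorem 14.4(d2)** (for nilpotent `M_σ`): `π(M) ∩ σ(N) ⊆ β(N)` -/
theorem bg15_mem_beta (hG : Cfsg.IsMinSimpleOddOrder G) {M N : Subgroup G} (hM : IsCoatom M)
    (hN : IsCoatom N) {x : G} {q : ℕ} (hq : q.Prime) (hx : x ∈ Cfsg.sigmaCore M)
    (hxo : orderOf x = q) (hxM : ¬ Subgroup.centralizer ({x} : Set G) ≤ M)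
    (hxN : Subgroup.centralizer ({x} : Set G) ≤ N)
    (hnil : Group.IsNilpotent (Cfsg.sigmaCore M)) {p : ℕ} (hp : p ∈ Cfsg.sigma N)
    (hpM : p ∣ Nat.card M) : p ∈ Cfsg.beta N := by
  by_contra hpβ
  obtain ⟨hnc, hτ2, hbot, hcompl, hnilN, huniq, hqσ⟩ :=
    bg15_setup hG hM hN hq hx hxo hxM hxN
  haveI : Fact p.Prime := ⟨hp.1⟩
  haveI : Fact q.Prime := ⟨hq⟩
  have hpN : p ∣ Nat.card N := hp.2.1
  have h14N := ((Cfsg.Agent.S1414.result hG N hN).2.2.2.2 p hp.1 hpN hpβ).2.2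
  have hqp : q ≠ p := by
    rintro rfl
    exact hτ2.2.1 hp
  have hpσN : p ∣ Nat.card (Cfsg.sigmaCore N) := bg15_dvd_card_sigmaCore hG hN hp
  -- `q ≤ p`
  have hqlep : q ≤ p := by
    apply h14N q hq
    by_contra hnd
    obtain ⟨B, hBN, hBe, hB2⟩ :=
      Cfsg.Agent.Lib.Helper1.BG10.exists_elemAb_sq_of_not_pRankLE_one q N hτ2.2.2.2
    have h17 := Cfsg.Agent.S1417.result hG N hN q hτ2 B ⟨hBN, hBe, hB2⟩
    have hcB : Cfsg.sigmaCore N ⊓ Subgroup.centralizer (B : Set G) = ⊥ := h17.2.2.2.1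
    have hσF : Cfsg.sigmaCore N ≤ Cfsg.fittingOf N :=
      Cfsg.Agent.Lib.Helper18.BGFifteenA.le_fittingOf (sigmaCore_le N)
        (Cfsg.Agent.Lib.Helper1.BG12.le_normalizer_sigmaCore N) hnilN
    have hpF : p ∣ Nat.card (Cfsg.fittingOf N) := hpσN.trans (Subgroup.card_dvd_of_le hσF)
    have hW1 := Cfsg.Agent.Lib.Helper11.MaxSubB.fP_ne_bot N p hpF
    have hWN := Cfsg.Agent.Lib.Helper11.MaxSubB.fP_le_self N p
    have hWp := Cfsg.Agent.Lib.Helper11.MaxSubB.fP_isPGroup N p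
    have hWn := Cfsg.Agent.Lib.Helper11.MaxSubB.le_normalizer_fP N p
    have hWσ : Cfsg.Agent.Lib.Helper11.MaxSubB.fP N p ≤ Cfsg.sigmaCore N :=
      Cfsg.Agent.Lib.Helper1.BG12.pgroup_le_sigmaCore hG N hN p hp _ hWN hWp
    haveI := Cfsg.Agent.Lib.Helper1.pPrimeCore_normal (G := ↥N) p
    have hOc := Cfsg.Agent.Lib.Helper1.pPrimeCore_card_coprime (G := ↥N) p
    apply hW1
    rw [eq_bot_iff, ← hcB]
    intro w hw
    refine Subgroup.mem_inf.mpr ⟨hWσ hw, ?_⟩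
    rw [Subgroup.mem_centralizer_iff]
    intro b hb
    have hbN : b ∈ N := hBN hb
    have hbo : orderOf b ∣ q := orderOf_dvd_of_pow_eq_one (hBe.2 b hb)
    have hbO : (⟨b, hbN⟩ : ↥N) ∈ Cfsg.pPrimeCore p ↥N := by
      apply bg15_mem_of_coprime_index _ hbN
      apply Nat.Coprime.coprime_dvd_left hbo
      exact (Nat.Prime.coprime_iff_not_dvd hq).mpr hnd
    exact bg15_commute_core (Cfsg.pPrimeCore p ↥N) hOc hWN hWn hWp hbN hbO hw
  have hqltp : q < p := lt_of_le_of_ne hqlep hqp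
  -- an element of order `p` of `M`
  obtain ⟨a', ha'⟩ := exists_prime_orderOf_dvd_card' (G := ↥M) p hpM
  have haM : (a' : G) ∈ M := a'.2
  have hao : orderOf (a' : G) = p := by rw [Subgroup.orderOf_coe]; exact ha'
  -- `q ∉ β(M)`
  have hqβ : q ∉ Cfsg.beta M := by
    intro hβ
    obtain ⟨P⟩ : Nonempty (Sylow q ↥(Cfsg.sigmaCore M)) := inferInstance
    have h23 := Cfsg.Agent.S1423.result hG M hM q hqσ (Subgroup.zpowers x)
      (Subgroup.zpowers_le.mpr (sigmaCore_le M hx)) (by rw [Nat.card_zpowers, hxo]) P (Or.inl hβ)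
    apply hxM
    rw [← Cfsg.Agent.Lib.Helper1.BG14.centralizer_zpowers_eq]
    exact h23.1.1
  have h14M := ((Cfsg.Agent.S1414.result hG M hM).2.2.2.2 q hq hqσ.2.1 hqβ).2.2
  have hndM : ¬ p ∣ (Cfsg.pPrimeCore q ↥M).index := by
    intro h
    have := h14M p hp.1 h
    omega
  haveI := Cfsg.Agent.Lib.Helper1.pPrimeCore_normal (G := ↥M) q
  have hOc := Cfsg.Agent.Lib.Helper1.pPrimeCore_card_coprime (G := ↥M) q
  have haO : (⟨(a' : G), haM⟩ : ↥M) ∈ Cfsg.pPrimeCore q ↥M := by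
    apply bg15_mem_of_coprime_index _ haM
    rw [hao]
    exact (Nat.Prime.coprime_iff_not_dvd hp.1).mpr hndM
  have hσF : Cfsg.sigmaCore M ≤ Cfsg.fittingOf M :=
    Cfsg.Agent.Lib.Helper18.BGFifteenA.le_fittingOf (sigmaCore_le M)
      (Cfsg.Agent.Lib.Helper1.BG12.le_normalizer_sigmaCore M) hnil
  have hxW : x ∈ Cfsg.Agent.Lib.Helper11.MaxSubB.fP M q :=
    ⟨hσF hx, 1, by rw [pow_one, ← hxo, pow_orderOf_eq_one]⟩
  have hcomm := bg15_commute_core (Cfsg.pPrimeCore q ↥M) hOc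
    (Cfsg.Agent.Lib.Helper11.MaxSubB.fP_le_self M q)
    (Cfsg.Agent.Lib.Helper11.MaxSubB.le_normalizer_fP M q)
    (Cfsg.Agent.Lib.Helper11.MaxSubB.fP_isPGroup M q) haM haO hxW
  -- `a' ∈ M ∩ N`, a `p'`-group
  have haC : (a' : G) ∈ Subgroup.centralizer ({x} : Set G) :=
    Subgroup.mem_centralizer_singleton_iff.mpr hcomm
  have haMN : (a' : G) ∈ M ⊓ N := Subgroup.mem_inf.mpr ⟨haM, hxN haC⟩
  have hpMN : p ∣ Nat.card ↥(M ⊓ N) := by
    rw [← hao]
    exact Subgroup.orderOf_dvd_natCard _ haMN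
  exact compl_prime_not_sigma hG hN hcompl hp.1 hpMN hp

/-- every element of order `p ∈ β(N) ∩ π(M)` of `M` acts without fixed points on `M_σ` (when `κ(M) = ∅`
and `N` is not conjugate to `M`) -/
theorem bg15_fpf (hG : Cfsg.IsMinSimpleOddOrder G) {M N : Subgroup G} (hM : IsCoatom M)
    (hN : IsCoatom N) (hnc : ∀ g : G, N ≠ M.map (MulAut.conj g).toMonoidHom)
    (hκ : Cfsg.kappa M = ∅) {p : ℕ} (hp : p ∈ Cfsg.sigma N) (hpβ : p ∈ Cfsg.beta N)
    (hpσ : p ∉ Cfsg.sigma M) {a : G} (haM : a ∈ M) (hao : orderOf a = p) :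
    Cfsg.sigmaCore M ⊓ Subgroup.centralizer ({a} : Set G) = ⊥ := by
  haveI : Fact p.Prime := ⟨hp.1⟩
  by_contra hne
  obtain ⟨⟨y, hy⟩, hy1'⟩ := (Subgroup.ne_bot_iff_exists_ne_one).mp hne
  have hy1 : y ≠ 1 := fun e => hy1' (Subtype.ext e)
  obtain ⟨hyσ, hyC⟩ := Subgroup.mem_inf.mp hy
  have hya : y * a = a * y := Subgroup.mem_centralizer_singleton_iff.mp hyC
  have ha1 : a ≠ 1 := by
    intro h
    rw [h, orderOf_one] at hao
    exact hp.1.one_lt.ne hao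
  have h32 := Cfsg.Agent.S1432.result hG M hM y hyσ hy1 a
    (Subgroup.mem_inf.mpr ⟨haM, Subgroup.mem_centralizer_singleton_iff.mpr hya.symm⟩) ha1 (by
      intro r hr hrd
      rw [hao] at hrd
      rw [(Nat.prime_dvd_prime_iff_eq hr hp.1).mp hrd]
      exact hpσ)
  rcases h32 with ⟨h1, -⟩ | ⟨-, -, hCa, -⟩
  · have : p ∈ Cfsg.kappa M := h1 p hp.1 (by rw [hao])
    rw [hκ] at this
    exact this
  · -- conjugate `a` into `N_σ`
    have hY1 : Subgroup.zpowers a ≠ ⊥ := by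
      intro h
      apply ha1
      have : a ∈ Subgroup.zpowers a := Subgroup.mem_zpowers a
      rw [h, Subgroup.mem_bot] at this
      exact this
    obtain ⟨g, hg⟩ := Cfsg.Agent.S1425.result hG N hN (Subgroup.zpowers a) hY1 (by
      intro r hr hrd
      rw [Nat.card_zpowers, hao] at hrd
      rw [(Nat.prime_dvd_prime_iff_eq hr hp.1).mp hrd]
      exact hp)
    have hgaσ : g * a * g⁻¹ ∈ Cfsg.sigmaCore N :=
      hg ⟨a, Subgroup.mem_zpowers a, by simp [MulAut.conj_apply]⟩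
    have hgao : orderOf (g * a * g⁻¹) = p := by
      have := (MulAut.conj g).orderOf_eq a
      rw [MulAut.conj_apply] at this
      rw [this, hao]
    obtain ⟨P⟩ : Nonempty (Sylow p ↥(Cfsg.sigmaCore N)) := inferInstance
    have h23 := Cfsg.Agent.S1423.result hG N hN p hp (Subgroup.zpowers (g * a * g⁻¹))
      (Subgroup.zpowers_le.mpr (sigmaCore_le N hgaσ)) (by rw [Nat.card_zpowers, hgao]) P
      (Or.inl hpβ)
    have hcoat : IsCoatom (conjSub g M) := Cfsg.Agent.Lib.Helper11.BenderF.isCoatom_conjSub g hM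
    have hle : Subgroup.centralizer ((Subgroup.zpowers (g * a * g⁻¹) : Subgroup G) : Set G) ≤
        conjSub g M := by
      rw [Cfsg.Agent.Lib.Helper1.BG14.centralizer_zpowers_eq]
      exact (Cfsg.Agent.Lib.Helper1.BG14b.centralizer_conj_le_iff g a M).mpr hCa
    exact hnc g (h23.1.2 _ hcoat hle).symm

end Cfsg.Agent.Lib.Helper13.BG15
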