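import Mathlib
import Cfsg.Prelude.Def_OddOrderLocal
import Cfsg.Agent.Lib.Helper13.BG15A

set_option autoImplicit false

/-! B & G Lemma 15.6(a) (τ₂-part of statement S1436), part B: the `τ₂`-contradiction. (helper13) -/

namespace Cfsg.Agent.Lib.Helper13.BG15

open Cfsg Cfsg.Agent.Lib.Helper18 Cfsg.Agent.Lib.Helper28.BGt Cfsg.Agent.Lib.Helper13.BG14

variable {G : Type*} [Group G] [Finite G]

/-- the `τ₂`-context from the landed statements -/
theorem bg15_ctx (hG : Cfsg.IsMinSimpleOddOrder G) {M E A : Subgroup G} {r : ℕ} (hM : IsCoatom M)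
    (hE : Cfsg.IsComplIn E (Cfsg.sigmaCore M) M) (hr : r ∈ Cfsg.tau2 M) (hAE : A ≤ E)
    (hAe : Cfsg.IsElementaryAbelian r A) (hA2 : Nat.card A = r ^ 2) : Tau2Ctx M E r A :=
  ⟨hG, fun M hM p _ A hA => Cfsg.Agent.S1416.result hG M hM p A hA,
    fun M hM p _ hp A hA => Cfsg.Agent.S1417.result hG M hM p hp A hA, hM, hE, hr, hAE, hAe, hA2⟩

/-- an element of `A` has order dividing `r`, prime to `|M_σ|` -/
theorem bg15_A_coprime {M E A : Subgroup G} {r : ℕ} (c : Tau2Ctx M E r A) {s b : G}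
    (hs : s ∈ Cfsg.sigmaCore M) (hb : b ∈ A) : (orderOf s).Coprime (orderOf b) := by
  have h1 : orderOf b ∣ r := orderOf_dvd_of_pow_eq_one (c.hAe.2 b hb)
  have h2 : orderOf s ∣ Nat.card (Cfsg.sigmaCore M) := Subgroup.orderOf_dvd_natCard _ hs
  apply Nat.Coprime.coprime_dvd_left h2
  apply Nat.Coprime.coprime_dvd_right h1
  exact ((Nat.Prime.coprime_iff_not_dvd c.prime).mpr c.not_dvd_sigmaCore).symm

/-- Case `C_A(a) = 1`: Thompson's theorem makes `M_σ A` nilpotent -/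
theorem bg15_thompson {M E A : Subgroup G} {r : ℕ} (c : Tau2Ctx M E r A) {a : G} {p : ℕ}
    (hp : p.Prime) (haE : a ∈ E) (hao : orderOf a = p)
    (hfa : Cfsg.sigmaCore M ⊓ Subgroup.centralizer ({a} : Set G) = ⊥)
    (hσ1 : Cfsg.sigmaCore M ≠ ⊥)
    (hB : A ⊓ Subgroup.centralizer ({a} : Set G) = ⊥) : False := by
  have haM : a ∈ M := c.hEM haE
  have ha1 : a ≠ 1 := by
    intro h
    rw [h, orderOf_one] at hao
    exact hp.one_lt.ne hao
  have hnA : A ≤ Subgroup.normalizer (Cfsg.sigmaCore M : Set G) :=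
    c.hAM.trans (Cfsg.Agent.Lib.Helper1.BG12.le_normalizer_sigmaCore M)
  have hnU : M ≤ Subgroup.normalizer ((Cfsg.sigmaCore M ⊔ A : Subgroup G) : Set G) := c.t17.2.2.1
  have haA : ∀ b ∈ A, a * b * a⁻¹ ∈ A := fun b hb =>
    (Subgroup.mem_normalizer_iff.mp (c.E_le_normalizer haE) b).mp hb
  have haσ : ∀ s ∈ Cfsg.sigmaCore M, a * s * a⁻¹ ∈ Cfsg.sigmaCore M := fun s hs =>
    (Subgroup.mem_normalizer_iff.mp
      (Cfsg.Agent.Lib.Helper1.BG12.le_normalizer_sigmaCore M haM) s).mp hs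
  have hE1 : Subgroup.zpowers a ≠ ⊥ := by
    intro h
    apply ha1
    have : a ∈ Subgroup.zpowers a := Subgroup.mem_zpowers a
    rw [h, Subgroup.mem_bot] at this
    exact this
  -- fixed points of `a` on `M_σ A`
  have hfix : ∀ u ∈ (Cfsg.sigmaCore M ⊔ A : Subgroup G), a * u = u * a → u = 1 := by
    intro u hu hau
    obtain ⟨s, hs, b, hb, rfl⟩ :=
      Cfsg.Agent.Lib.Helper10.exists_mul_of_mem_sup (Cfsg.sigmaCore M) A hnA u hu
    have h1 : (a * s * a⁻¹) * (a * b * a⁻¹) = s * b := by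
      calc (a * s * a⁻¹) * (a * b * a⁻¹) = a * (s * b) * a⁻¹ := by group
        _ = (s * b) * a * a⁻¹ := by rw [hau]
        _ = s * b := by group
    have h2 : s⁻¹ * (a * s * a⁻¹) = b * (a * b * a⁻¹)⁻¹ := by
      calc s⁻¹ * (a * s * a⁻¹) = s⁻¹ * ((a * s * a⁻¹) * (a * b * a⁻¹)) * (a * b * a⁻¹)⁻¹ := by
            group
        _ = s⁻¹ * (s * b) * (a * b * a⁻¹)⁻¹ := by rw [h1]
        _ = b * (a * b * a⁻¹)⁻¹ := by group
    have h3 : s⁻¹ * (a * s * a⁻¹) ∈ Cfsg.sigmaCore M ⊓ A := by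
      refine Subgroup.mem_inf.mpr ⟨mul_mem (inv_mem hs) (haσ s hs), ?_⟩
      rw [h2]
      exact mul_mem hb (inv_mem (haA b hb))
    rw [c.sigmaCore_inf_A, Subgroup.mem_bot] at h3
    have h4 : a * s * a⁻¹ = s := by
      have : a * s * a⁻¹ = s * (s⁻¹ * (a * s * a⁻¹)) := by group
      rw [this, h3, mul_one]
    have h5 : a * b * a⁻¹ = b := by
      have h6 : b * (a * b * a⁻¹)⁻¹ = 1 := by rw [← h2, h3]
      have : a * b * a⁻¹ = (b * (a * b * a⁻¹)⁻¹)⁻¹ * b := by group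
      rw [this, h6, inv_one, one_mul]
    have hs1 : s ∈ Cfsg.sigmaCore M ⊓ Subgroup.centralizer ({a} : Set G) := by
      refine Subgroup.mem_inf.mpr ⟨hs, Subgroup.mem_centralizer_singleton_iff.mpr ?_⟩
      calc s * a = (a * s * a⁻¹) * a := by rw [h4]
        _ = a * s := by group
    have hb1 : b ∈ A ⊓ Subgroup.centralizer ({a} : Set G) := by
      refine Subgroup.mem_inf.mpr ⟨hb, Subgroup.mem_centralizer_singleton_iff.mpr ?_⟩
      calc b * a = (a * b * a⁻¹) * a := by rw [h5]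
        _ = a * b := by group
    rw [hfa, Subgroup.mem_bot] at hs1
    rw [hB, Subgroup.mem_bot] at hb1
    rw [hs1, hb1, mul_one]
  have hnil : Group.IsNilpotent ↥(Cfsg.sigmaCore M ⊔ A : Subgroup G) := by
    apply Cfsg.Agent.Lib.Helper11.FrobKernelNil.kernel_nilpotent _ (Subgroup.zpowers a) hE1
    · exact (Subgroup.zpowers_le.mpr haM).trans hnU
    · intro e he he1 u hu heu
      apply hfix u hu
      -- `a` is a power of `e`
      have heo : orderOf e = p := by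
        have h1 : orderOf e ∣ p := by
          rw [← hao]
          exact orderOf_dvd_of_mem_zpowers he
        rcases (Nat.dvd_prime hp).mp h1 with h | h
        · exact absurd (orderOf_eq_one_iff.mp h) he1
        · exact h
      have hz : Subgroup.zpowers e = Subgroup.zpowers a := by
        apply Subgroup.eq_of_le_of_card_ge (Subgroup.zpowers_le.mpr he)
        rw [Nat.card_zpowers, Nat.card_zpowers, heo, hao]
      have hae : a ∈ Subgroup.zpowers e := by rw [hz]; exact Subgroup.mem_zpowers a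
      obtain ⟨i, rfl⟩ := Subgroup.mem_zpowers_iff.mp hae
      have hc : Commute e u := heu
      exact (hc.zpow_left i).eq
  -- `A` centralizes `M_σ`
  apply hσ1
  rw [eq_bot_iff, ← c.t17.2.2.2.1]
  intro s hs
  refine Subgroup.mem_inf.mpr ⟨hs, ?_⟩
  rw [Subgroup.mem_centralizer_iff]
  intro b hb
  have hco := bg15_A_coprime c hs hb
  have := Cfsg.Agent.Lib.Helper11.commute_of_coprime_orderOf
    (⟨s, Subgroup.mem_sup_left hs⟩ : ↥(Cfsg.sigmaCore M ⊔ A : Subgroup G))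
    ⟨b, Subgroup.mem_sup_right hb⟩ (by
      rw [Subgroup.orderOf_mk, Subgroup.orderOf_mk]; exact hco)
  exact (congrArg Subtype.val this.eq).symm

/-- Case `r ∈ σ(L)` and `A ≤ L`: an `E_{p³}` of `L_σ` centralizes `A`, hence lies in `M` -/
theorem bg15_sigma_in {M E A : Subgroup G} {r : ℕ} (c : Tau2Ctx M E r A) {L : Subgroup G}
    (hL : IsCoatom L) {p : ℕ} (hp : p.Prime) (hpr : p ≠ r) (hpσ : p ∉ Cfsg.sigma M)
    (hnilL : Group.IsNilpotent (Cfsg.sigmaCore L)) (hrL : r ∈ Cfsg.sigma L) (hAL : A ≤ L)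
    {B₃ : Subgroup G} (hB3 : B₃ ≤ Cfsg.sigmaCore L) (hc : ∀ u ∈ B₃, ∀ v ∈ B₃, u * v = v * u)
    (he : ∀ u ∈ B₃, u ^ p = 1) (hcard : p ^ 2 < Nat.card B₃) : False := by
  haveI := c.fact
  have hAσ : A ≤ Cfsg.sigmaCore L :=
    Cfsg.Agent.Lib.Helper1.BG12.pgroup_le_sigmaCore c.hG L hL r hrL A hAL c.isPGroup_A
  have hBM : B₃ ≤ M := by
    intro u hu
    apply c.cent_le
    rw [Subgroup.mem_centralizer_iff]
    intro v hv
    have h1 : orderOf u ∣ p := orderOf_dvd_of_pow_eq_one (he u hu)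
    have h2 : orderOf v ∣ r := orderOf_dvd_of_pow_eq_one (c.hAe.2 v hv)
    have hco : (orderOf v).Coprime (orderOf u) := by
      apply Nat.Coprime.coprime_dvd_left h2
      apply Nat.Coprime.coprime_dvd_right h1
      exact (Nat.coprime_primes c.prime hp).mpr hpr.symm
    have := Cfsg.Agent.Lib.Helper11.commute_of_coprime_orderOf
      (⟨v, hAσ hv⟩ : ↥(Cfsg.sigmaCore L)) ⟨u, hB3 hu⟩ (by
        rw [Subgroup.orderOf_mk, Subgroup.orderOf_mk]; exact hco)
    exact congrArg Subtype.val this.eq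
  have h2 := Cfsg.Agent.Lib.Helper1.BG15.rank_le_two_of_not_sigma c.hG c.hM hp hpσ
  have := bg14_card_le_of_pRankLE h2 hBM hc he
  omega

/-- a non-identity element of `A` has order `r` -/
theorem bg15_orderOf_A {M E A : Subgroup G} {r : ℕ} (c : Tau2Ctx M E r A) {b : G} (hb : b ∈ A)
    (hb1 : b ≠ 1) : orderOf b = r := by
  have h1 : orderOf b ∣ r := orderOf_dvd_of_pow_eq_one (c.hAe.2 b hb)
  rcases (Nat.dvd_prime c.prime).mp h1 with h | h
  · exact absurd (orderOf_eq_one_iff.mp h) hb1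
  · exact h

/-- Case `r ∉ σ(L)`: then `r ∈ τ₂(L)`, `A ≤ L` and `a ∈ N_L(A)` lies in a complement of `L_σ` -/
theorem bg15_nonsigma {M E A : Subgroup G} {r : ℕ} (c : Tau2Ctx M E r A) {L : Subgroup G}
    (hL : IsCoatom L) {a b : G} (haE : a ∈ E) (ha1 : a ≠ 1) (haL : a ∈ Cfsg.sigmaCore L)
    (hb : b ∈ A) (hb1 : b ≠ 1) (hab : b * a = a * b)
    (hCa : Subgroup.centralizer ({a} : Set G) ≤ L) (hrL : r ∉ Cfsg.sigma L)
    (hκL : r ∉ Cfsg.kappa L) : False := by
  haveI := c.fact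
  have hbo := bg15_orderOf_A c hb hb1
  have hbC : b ∈ Subgroup.centralizer ({a} : Set G) :=
    Subgroup.mem_centralizer_singleton_iff.mpr hab
  have hbL : b ∈ L := hCa hbC
  have h32 := Cfsg.Agent.S1432.result c.hG L hL a haL ha1 b (Subgroup.mem_inf.mpr ⟨hbL, hbC⟩) hb1 (by
    intro s hs hsd
    rw [hbo] at hsd
    rw [(Nat.prime_dvd_prime_iff_eq hs c.prime).mp hsd]
    exact hrL)
  rcases h32 with ⟨h1, -⟩ | ⟨hτ, -, hCb, -⟩
  · exact hκL (h1 r c.prime (by rw [hbo]))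
  · have hτ2 : r ∈ Cfsg.tau2 L := hτ r c.prime (by rw [hbo])
    have hAL : A ≤ L := by
      intro v hv
      apply hCb
      exact Subgroup.mem_centralizer_singleton_iff.mpr (c.A_comm hv hb)
    obtain ⟨E_L, hE_L, hAE_L⟩ := exists_compl_ge c.hG hL hAL (by
      intro s hs hsd
      rw [c.hA2] at hsd
      rw [(Nat.prime_dvd_prime_iff_eq hs c.prime).mp (hs.dvd_of_dvd_pow hsd)]
      exact hrL)
    have c₂ := bg15_ctx c.hG hL hE_L hτ2 hAE_L c.hAe c.hA2
    have haEL : a ∈ E_L := by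
      rw [← c₂.inf_normalizer]
      exact Subgroup.mem_inf.mpr ⟨sigmaCore_le L haL, c.E_le_normalizer haE⟩
    have : a ∈ E_L ⊓ Cfsg.sigmaCore L := Subgroup.mem_inf.mpr ⟨haEL, haL⟩
    rw [hE_L.2.2.1, Subgroup.mem_bot] at this
    exact ha1 this

/-- Case `r ∈ σ(L)` and `A ⊄ L`: B & G Theorem 14.4 for `b ∈ L_σ` -/
theorem bg15_sigma_out {M E A : Subgroup G} {r : ℕ} (c : Tau2Ctx M E r A) {L : Subgroup G}
    (hL : IsCoatom L) {a b : G} (haE : a ∈ E) (haL : a ∈ Cfsg.sigmaCore L)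
    (hb : b ∈ A) (hb1 : b ≠ 1) (hab : b * a = a * b)
    (hCa : Subgroup.centralizer ({a} : Set G) ≤ L) (hrL : r ∈ Cfsg.sigma L)
    (hAL : ¬ A ≤ L) : False := by
  haveI := c.fact
  have hsimple : IsSimpleGroup G := c.hG.2.1
  have hbo := bg15_orderOf_A c hb hb1
  have hbC : b ∈ Subgroup.centralizer ({a} : Set G) :=
    Subgroup.mem_centralizer_singleton_iff.mpr hab
  have hbL : b ∈ L := hCa hbC
  have hbσ : b ∈ Cfsg.sigmaCore L :=
    pelem_mem_sigmaCore c.hG hL hrL hbL (k := 1) (by rw [pow_one]; exact c.hAe.2 b hb)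
  have hACb : A ≤ Subgroup.centralizer ({b} : Set G) := by
    intro v hv
    exact Subgroup.mem_centralizer_singleton_iff.mpr (c.A_comm hv hb)
  have hCbL : ¬ Subgroup.centralizer ({b} : Set G) ≤ L := fun h => hAL (hACb.trans h)
  obtain ⟨H, ⟨hH, hbH⟩, -, -, -, hcomplC, hcomplH, -⟩ :=
    bg14_cent_not_le c.hG L hL b hbσ hb1 hCbL
  obtain ⟨-, hτ2H, hbotH, -, -, -, -⟩ := bg15_setup c.hG hL hH c.prime hbσ hbo hCbL hbH
  -- Hall conjugation inside `C_G(b)`
  have hMc_top : Subgroup.centralizer ({b} : Set G) ≠ ⊤ :=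
    Cfsg.Agent.Lib.Helper11.centralizer_singleton_ne_top c.hG.2.2.1 hb1
  have hMs : Group.IsSolvable ↥(Subgroup.centralizer ({b} : Set G)) := c.hG.2.2.2 _ hMc_top
  have hK : Cfsg.IsPiHallOf {s | s.Prime ∧ s ∉ Cfsg.sigma H}
      (L ⊓ Subgroup.centralizer ({b} : Set G)) (Subgroup.centralizer ({b} : Set G)) := by
    refine ⟨inf_le_right, ?_, ?_⟩
    · intro s hs hsd
      refine ⟨hs, fun hσ => ?_⟩
      exact compl_prime_not_sigma c.hG hH hcomplH hs
        (hsd.trans (Subgroup.card_dvd_of_le (inf_le_inf_left L hbH))) hσ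
    · intro s hs hsπ hsd
      have h1 := Cfsg.Agent.Lib.Helper1.BG15.card_of_isComplIn hcomplC
      have h2 := Cfsg.Agent.Lib.Helper1.BG12.card_mul_relIndex_of_le
        (inf_le_right : L ⊓ Subgroup.centralizer ({b} : Set G) ≤ Subgroup.centralizer ({b} : Set G))
      have hpos : 0 < Nat.card ↥(L ⊓ Subgroup.centralizer ({b} : Set G)) := Nat.card_pos
      have h3 : (L ⊓ Subgroup.centralizer ({b} : Set G)).relIndex
          (Subgroup.centralizer ({b} : Set G)) =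
          Nat.card ↥(Cfsg.sigmaCore H ⊓ Subgroup.centralizer ({b} : Set G)) := by
        apply Nat.eq_of_mul_eq_mul_left hpos
        rw [h2, h1]
      rw [h3] at hsd
      exact hsπ.2 (prime_sigmaCore c.hG hH hs
        (hsd.trans (Subgroup.card_dvd_of_le inf_le_left)))
  obtain ⟨m, hm, hmA⟩ := Cfsg.Agent.Lib.Helper1.BG14c.piHall_conj_into hMs hK hACb (by
    intro s hs hsd
    rw [c.hA2] at hsd
    rw [(Nat.prime_dvd_prime_iff_eq hs c.prime).mp (hs.dvd_of_dvd_pow hsd)]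
    exact ⟨c.prime, hτ2H.2.1⟩)
  obtain ⟨e, he, n, hn, hmen⟩ := hcomplC.2.2.2 m⁻¹ (inv_mem hm)
  have hm' : m = n⁻¹ * e⁻¹ := by
    have : m = (m⁻¹)⁻¹ := (inv_inv m).symm
    rw [this, hmen, mul_inv_rev]
  have hnA : ∀ y ∈ A, n * y * n⁻¹ ∈ L ⊓ Subgroup.centralizer ({b} : Set G) := by
    intro y hy
    have h1 := hmA y hy
    have h2 : n * y * n⁻¹ = e⁻¹ * (m⁻¹ * y * m) * e := by
      rw [hmen, hm']; group
    rw [h2]
    exact mul_mem (mul_mem (inv_mem he) h1) he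
  have hnσ : n ∈ Cfsg.sigmaCore H := hn.1
  have hnH : n ∈ H := sigmaCore_le H hnσ
  -- the conjugate `A''` of `A` in `L ∩ H`
  have hA''E : conjSub n A ≤ L ⊓ H := by
    intro z hz
    rw [mem_conjSub] at hz
    have h1 := hnA _ hz
    have h2 : n * (n⁻¹ * z * n) * n⁻¹ = z := by group
    rw [h2] at h1
    exact Subgroup.mem_inf.mpr ⟨h1.1, hbH h1.2⟩
  have c' := bg15_ctx c.hG hH hcomplH hτ2H hA''E
    (Cfsg.Agent.Lib.Helper11.BenderF.elemAb_conjSub r n c.hAe) (by rw [card_conjSub]; exact c.hA2)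
  have hinf := c'.inf_normalizer
  have haN : n * a * n⁻¹ ∈ Subgroup.normalizer ((conjSub n A : Subgroup G) : Set G) := by
    rw [Cfsg.Agent.Lib.Helper11.ExcA.normalizer_conjSub]
    exact conj_mem_conjSub (c.E_le_normalizer haE)
  have haCb : a ∈ Subgroup.centralizer ({b} : Set G) :=
    Subgroup.mem_centralizer_singleton_iff.mpr hab.symm
  have haH : a ∈ H := hbH haCb
  have haL' : a ∈ L := sigmaCore_le L haL
  have hnaH : n * a * n⁻¹ ∈ H := mul_mem (mul_mem hnH haH) (inv_mem hnH)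
  have hnaL : n * a * n⁻¹ ∈ L := by
    have : n * a * n⁻¹ ∈ H ⊓ Subgroup.normalizer ((conjSub n A : Subgroup G) : Set G) :=
      Subgroup.mem_inf.mpr ⟨hnaH, haN⟩
    rw [hinf] at this
    exact this.1
  have ht : n * a * n⁻¹ * a⁻¹ ∈ Cfsg.sigmaCore H ⊓ L := by
    refine Subgroup.mem_inf.mpr ⟨?_, mul_mem hnaL (inv_mem haL')⟩
    have h1 : a * n⁻¹ * a⁻¹ ∈ Cfsg.sigmaCore H :=
      (Subgroup.mem_normalizer_iff.mp
        (Cfsg.Agent.Lib.Helper1.BG12.le_normalizer_sigmaCore H haH) n⁻¹).mp (inv_mem hnσ)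
    have h2 : n * a * n⁻¹ * a⁻¹ = n * (a * n⁻¹ * a⁻¹) := by group
    rw [h2]
    exact mul_mem hnσ h1
  rw [hbotH, Subgroup.mem_bot] at ht
  have hna : n * a = a * n := by
    calc n * a = (n * a * n⁻¹ * a⁻¹) * (a * n) := by group
      _ = a * n := by rw [ht, one_mul]
  have hnL : n ∈ L := hCa (Subgroup.mem_centralizer_singleton_iff.mpr hna)
  have hn1 : n ∈ Cfsg.sigmaCore H ⊓ L := Subgroup.mem_inf.mpr ⟨hnσ, hnL⟩
  rw [hbotH, Subgroup.mem_bot] at hn1
  apply hAL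
  intro y hy
  have := hnA y hy
  rw [hn1, one_mul, inv_one, mul_one] at this
  exact this.1

end Cfsg.Agent.Lib.Helper13.BG15
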