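import Mathlib
import Cfsg.Prelude.Def_OddOrderLocal
import Cfsg.Agent.Lib.Helper13.BG15B
import Cfsg.Agent.Lib.Helper21.BG14e

set_option autoImplicit false

/-! B & G Lemma 15.6(a) (τ₂-part of statement S1436), part C: assembly. (helper13) -/

namespace Cfsg.Agent.Lib.Helper13.BG15

open Cfsg Cfsg.Agent.Lib.Helper18 Cfsg.Agent.Lib.Helper28.BGt Cfsg.Agent.Lib.Helper13.BG14

variable {G : Type*} [Group G] [Finite G]

/-- the contradiction from `r ∈ τ₂(M)` and an element `a ∈ E` of prime order `p ≠ r` acting without fixed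
points on `M_σ` that lies in `L_σ` for a maximal subgroup `L ⊇ C_G(a)` with `L_σ` nilpotent of `p`-rank `≥ 3` -/
theorem bg15_core {M E A : Subgroup G} {r : ℕ} (c : Tau2Ctx M E r A) {L : Subgroup G}
    (hL : IsCoatom L) {p : ℕ} (hp : p.Prime) (hpr : p ≠ r) (hpσ : p ∉ Cfsg.sigma M) {a : G}
    (haE : a ∈ E) (hao : orderOf a = p)
    (hfa : Cfsg.sigmaCore M ⊓ Subgroup.centralizer ({a} : Set G) = ⊥)
    (hσ1 : Cfsg.sigmaCore M ≠ ⊥) (haL : a ∈ Cfsg.sigmaCore L)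
    (hnilL : Group.IsNilpotent (Cfsg.sigmaCore L))
    (hCa : Subgroup.centralizer ({a} : Set G) ≤ L)
    {B₃ : Subgroup G} (hB3 : B₃ ≤ Cfsg.sigmaCore L) (hc : ∀ u ∈ B₃, ∀ v ∈ B₃, u * v = v * u)
    (he : ∀ u ∈ B₃, u ^ p = 1) (hcard : p ^ 2 < Nat.card B₃) (hκL : r ∉ Cfsg.kappa L) :
    False := by
  have ha1 : a ≠ 1 := by
    intro h
    rw [h, orderOf_one] at hao
    exact hp.one_lt.ne hao
  by_cases hB : A ⊓ Subgroup.centralizer ({a} : Set G) = ⊥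
  · exact bg15_thompson c hp haE hao hfa hσ1 hB
  · obtain ⟨⟨b, hb⟩, hb1'⟩ := (Subgroup.ne_bot_iff_exists_ne_one).mp hB
    have hb1 : b ≠ 1 := fun e => hb1' (Subtype.ext e)
    obtain ⟨hbA, hbC⟩ := Subgroup.mem_inf.mp hb
    have hab : b * a = a * b := Subgroup.mem_centralizer_singleton_iff.mp hbC
    by_cases hrL : r ∈ Cfsg.sigma L
    · by_cases hAL : A ≤ L
      · exact bg15_sigma_in c hL hp hpr hpσ hnilL hrL hAL hB3 hc he hcard
      · exact bg15_sigma_out c hL haE haL hbA hb1 hab hCa hrL hAL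
    · exact bg15_nonsigma c hL haE ha1 haL hbA hb1 hab hCa hrL hκL

/-- **B & G Lemma 15.6(a), `τ₂`-part**: `x ∈ M_σ` of prime order with `C_G(x) ⊄ M`, `N ⊇ C_G(x)` maximal,
`p ∈ σ(N) ∩ π(M)`, `κ(M) = ∅` (and no prime of `τ₂(M)` in `κ(N)`): then `τ₂(M) = ∅` -/
theorem bg15_tau2_empty_of_prime (hG : Cfsg.IsMinSimpleOddOrder G) {M N : Subgroup G}
    (hM : IsCoatom M) (hN : IsCoatom N) {x : G} {q : ℕ} (hq : q.Prime)
    (hx : x ∈ Cfsg.sigmaCore M) (hxo : orderOf x = q)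
    (hxM : ¬ Subgroup.centralizer ({x} : Set G) ≤ M)
    (hxN : Subgroup.centralizer ({x} : Set G) ≤ N) {p : ℕ} (hp : p ∈ Cfsg.sigma N)
    (hpM : p ∣ Nat.card M) (hκ : Cfsg.kappa M = ∅)
    (hκN : ∀ r ∈ Cfsg.tau2 M, r ∉ Cfsg.kappa N) : Cfsg.tau2 M = ∅ := by
  haveI : Fact p.Prime := ⟨hp.1⟩
  rw [Set.eq_empty_iff_forall_notMem]
  intro r hr
  obtain ⟨hnc, hτ2N, hbot, hcompl, hnilN, huniq, hqσ⟩ := bg15_setup hG hM hN hq hx hxo hxM hxN
  have hx1 : x ≠ 1 := by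
    intro h
    rw [h, orderOf_one] at hxo
    exact hq.one_lt.ne hxo
  have hσ1 : Cfsg.sigmaCore M ≠ ⊥ := by
    intro h
    rw [h, Subgroup.mem_bot] at hx
    exact hx1 hx
  -- `p ∉ σ(M)`
  have hpσ : p ∉ Cfsg.sigma M := by
    intro h
    obtain ⟨g, hg⟩ := (Cfsg.Agent.S1378.result hG).2 M N hM hN ⟨p, h, hp⟩
    exact hnc g hg
  -- `M_σ` is nilpotent
  obtain ⟨S⟩ : Nonempty (Sylow p ↥M) := inferInstance
  have hnil : Group.IsNilpotent (Cfsg.sigmaCore M) :=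
    (Cfsg.Agent.S1429.result hG M hM (by
      intro h
      have := h p hp.1 hpM hpσ
      rw [hκ] at this
      exact this) p hpM (by
      rintro (h | h)
      · exact hpσ h
      · rw [hκ] at h
        exact h) S).2.2
  have hpβ : p ∈ Cfsg.beta N := bg15_mem_beta hG hM hN hq hx hxo hxM hxN hnil hp hpM
  have hpr : p ≠ r := by
    rintro rfl
    exact not_beta_of_tau2 hG hM hr N hpβ
  -- an element of order `p` in a complement `E`
  obtain ⟨a', ha'⟩ := exists_prime_orderOf_dvd_card' (G := ↥M) p hpM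
  obtain ⟨a, haM, hao⟩ : ∃ a : G, a ∈ M ∧ orderOf a = p :=
    ⟨(a' : G), a'.2, by rw [Subgroup.orderOf_coe]; exact ha'⟩
  have ha1 : a ≠ 1 := by
    intro h
    rw [h, orderOf_one] at hao
    exact hp.1.one_lt.ne hao
  obtain ⟨E, hE, haE'⟩ := exists_compl_ge hG hM (Subgroup.zpowers_le.mpr haM) (by
    intro s hs hsd
    rw [Nat.card_zpowers, hao] at hsd
    rw [(Nat.prime_dvd_prime_iff_eq hs hp.1).mp hsd]
    exact hpσ)
  have haE : a ∈ E := haE' (Subgroup.mem_zpowers a)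
  obtain ⟨A, hAE, hAe, hA2⟩ := exists_sq_le_compl hG hM hE hr
  have c := bg15_ctx hG hM hE hr hAE hAe hA2
  have hfa := bg15_fpf hG hM hN hnc hκ hp hpβ hpσ haM hao
  -- conjugate `a` into `N_σ`
  have hY1 : Subgroup.zpowers a ≠ ⊥ := by
    intro h
    apply ha1
    have : a ∈ Subgroup.zpowers a := Subgroup.mem_zpowers a
    rw [h, Subgroup.mem_bot] at this
    exact this
  obtain ⟨g, hg⟩ := Cfsg.Agent.S1425.result hG N hN (Subgroup.zpowers a) hY1 (by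
    intro s hs hsd
    rw [Nat.card_zpowers, hao] at hsd
    rw [(Nat.prime_dvd_prime_iff_eq hs hp.1).mp hsd]
    exact hp)
  have hgaσ : g * a * g⁻¹ ∈ Cfsg.sigmaCore N :=
    hg ⟨a, Subgroup.mem_zpowers a, by simp [MulAut.conj_apply]⟩
  have hgao : orderOf (g * a * g⁻¹) = p := by
    have := (MulAut.conj g).orderOf_eq a
    rw [MulAut.conj_apply] at this
    rw [this, hao]
  have hL : IsCoatom (conjSub g⁻¹ N) := Cfsg.Agent.Lib.Helper11.BenderF.isCoatom_conjSub g⁻¹ hN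
  have hσL : Cfsg.sigmaCore (conjSub g⁻¹ N) = conjSub g⁻¹ (Cfsg.sigmaCore N) :=
    Cfsg.Agent.Lib.Helper1.BG14b.sigmaCore_conjSub hG hN g⁻¹
  have haL : a ∈ Cfsg.sigmaCore (conjSub g⁻¹ N) := by
    rw [hσL, mem_conjSub, inv_inv]
    exact hgaσ
  have hnilL : Group.IsNilpotent (Cfsg.sigmaCore (conjSub g⁻¹ N)) := by
    rw [hσL]
    haveI := hnilN
    exact Group.nilpotent_of_mulEquiv (Subgroup.equivMapOfInjective (Cfsg.sigmaCore N)
      (MulAut.conj g⁻¹).toMonoidHom (MulAut.conj g⁻¹).injective)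
  obtain ⟨P⟩ : Nonempty (Sylow p ↥(Cfsg.sigmaCore N)) := inferInstance
  have h23 := Cfsg.Agent.S1423.result hG N hN p hp (Subgroup.zpowers (g * a * g⁻¹))
    (Subgroup.zpowers_le.mpr (sigmaCore_le N hgaσ)) (by rw [Nat.card_zpowers, hgao]) P
    (Or.inl hpβ)
  have hCa : Subgroup.centralizer ({a} : Set G) ≤ conjSub g⁻¹ N := by
    have h1 : Subgroup.centralizer ({g * a * g⁻¹} : Set G) ≤ N := by
      rw [← Cfsg.Agent.Lib.Helper1.BG14.centralizer_zpowers_eq]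
      exact h23.1.1
    have h2 := (Cfsg.Agent.Lib.Helper1.BG14b.centralizer_conj_le_iff g⁻¹ (g * a * g⁻¹) N).mpr h1
    have h3 : g⁻¹ * (g * a * g⁻¹) * g⁻¹⁻¹ = a := by group
    rwa [h3] at h2
  -- an elementary abelian `p`-subgroup of order `> p²` of `L_σ`
  have hrk : ¬ Cfsg.PRankLE p 2 ↥N := hpβ.1.2
  unfold Cfsg.PRankLE at hrk
  push_neg at hrk
  obtain ⟨A₀, hA₀c, hA₀e, hA₀card⟩ := hrk
  have hB₀N : A₀.map N.subtype ≤ N := Subgroup.map_subtype_le A₀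
  have hB₀p : IsPGroup p ↥(A₀.map N.subtype) := by
    rintro ⟨_, u, hu, rfl⟩
    refine ⟨1, ?_⟩
    apply Subtype.ext
    rw [pow_one]
    have := hA₀e u hu
    simpa using congrArg Subtype.val this
  have hB₀σ : A₀.map N.subtype ≤ Cfsg.sigmaCore N :=
    Cfsg.Agent.Lib.Helper1.BG12.pgroup_le_sigmaCore hG N hN p hp _ hB₀N hB₀p
  have hB3 : conjSub g⁻¹ (A₀.map N.subtype) ≤ Cfsg.sigmaCore (conjSub g⁻¹ N) := by
    rw [hσL]
    exact conjSub_mono hB₀σ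
  have hB3c : ∀ u ∈ conjSub g⁻¹ (A₀.map N.subtype), ∀ v ∈ conjSub g⁻¹ (A₀.map N.subtype),
      u * v = v * u := by
    rintro _ ⟨_, ⟨u, hu, rfl⟩, rfl⟩ _ ⟨_, ⟨v, hv, rfl⟩, rfl⟩
    have huv : u * v = v * u := by
      have := hA₀c.is_comm.comm ⟨u, hu⟩ ⟨v, hv⟩
      simpa using congrArg Subtype.val this
    have huv' : (u : G) * (v : G) = (v : G) * (u : G) := by
      have := congrArg Subtype.val huv
      simpa using this
    simp only [MulEquiv.coe_toMonoidHom, MulAut.conj_apply, Subgroup.coe_subtype]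
    calc g⁻¹ * (u : G) * g⁻¹⁻¹ * (g⁻¹ * (v : G) * g⁻¹⁻¹) = g⁻¹ * ((u : G) * (v : G)) * g⁻¹⁻¹ := by
          group
      _ = g⁻¹ * ((v : G) * (u : G)) * g⁻¹⁻¹ := by rw [huv']
      _ = g⁻¹ * (v : G) * g⁻¹⁻¹ * (g⁻¹ * (u : G) * g⁻¹⁻¹) := by group
  have hB3e : ∀ u ∈ conjSub g⁻¹ (A₀.map N.subtype), u ^ p = 1 := by
    rintro _ ⟨_, ⟨u, hu, rfl⟩, rfl⟩
    have h1 : (u : G) ^ p = 1 := by
      have := hA₀e u hu
      simpa using congrArg Subtype.val this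
    simp only [MulEquiv.coe_toMonoidHom, MulAut.conj_apply, Subgroup.coe_subtype]
    rw [conj_pow, h1]; group
  have hB3card : p ^ 2 < Nat.card ↥(conjSub g⁻¹ (A₀.map N.subtype)) := by
    rw [card_conjSub, Subgroup.card_map_of_injective N.subtype_injective]
    exact hA₀card
  have hκL : r ∉ Cfsg.kappa (conjSub g⁻¹ N) := by
    rw [Cfsg.Agent.Lib.Helper21.BG14e.kappa_conjSub hG hN]
    exact hκN r hr
  exact bg15_core c hL hp.1 hpr hpσ haE hao hfa hσ1 haL hnilL hCa hB3 hB3c hB3e hB3card hκL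

end Cfsg.Agent.Lib.Helper13.BG15
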