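import Mathlib
import Cfsg.Prelude.Def_OddOrderLocal
import Cfsg.Agent.Lib.Helper13.BG15C
import Cfsg.Agent.S1351
import Cfsg.Agent.S1352
import Cfsg.Agent.S1366
import Cfsg.Agent.S1367
import Cfsg.Agent.S1372
import Cfsg.Agent.S1419

set_option autoImplicit false

/-! B & G Lemma 15.6(a) (τ₂-part of statement S1436), part D: no prime of `τ₂(M)` lies in `κ(N)`.
(helper13) -/

namespace Cfsg.Agent.Lib.Helper13.BG15

open Cfsg Cfsg.Agent.Lib.Helper18 Cfsg.Agent.Lib.Helper28.BGt Cfsg.Agent.Lib.Helper13.BG14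

variable {G : Type*} [Group G] [Finite G]

/-- `x ∈ M_σ^#`, `C_G(x) ⊄ M`, `N ⊇ C_G(x)` maximal: no prime of `τ₂(M)` lies in `κ(N)` -/
theorem bg15_tau2_not_kappa (hG : Cfsg.IsMinSimpleOddOrder G) {M N : Subgroup G}
    (hM : IsCoatom M) (hN : IsCoatom N) {x : G} (hx : x ∈ Cfsg.sigmaCore M) (hx1 : x ≠ 1)
    (hxM : ¬ Subgroup.centralizer ({x} : Set G) ≤ M)
    (hxN : Subgroup.centralizer ({x} : Set G) ≤ N) {r : ℕ} (hr : r ∈ Cfsg.tau2 M) :
    r ∉ Cfsg.kappa N := by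
  intro hrκ
  haveI : Fact r.Prime := ⟨hr.1⟩
  have hsimple : IsSimpleGroup G := hG.2.1
  obtain ⟨N₀, ⟨hN₀, hxN₀⟩, huniq, -, -, -, hcompl, hdecN⟩ :=
    bg14_cent_not_le hG M hM x hx hx1 hxM
  have hNN : N = N₀ := huniq N hN hxN
  subst hNN
  have hrN : r ∣ Nat.card N := hrκ.2.1
  have hrσN : r ∉ Cfsg.sigma N := hrκ.2.2.1
  have hrNσ : ¬ r ∣ Nat.card (Cfsg.sigmaCore N) := fun h => hrσN (prime_sigmaCore hG hN hr.1 h)
  -- an element of order `r` in `M ∩ N`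
  have hrMN : r ∣ Nat.card ↥(M ⊓ N) := by
    have h1 := Cfsg.Agent.Lib.Helper1.BG15.card_of_isComplIn hcompl
    rw [h1] at hrN
    rcases (Nat.Prime.dvd_mul hr.1).mp hrN with h | h
    · exact h
    · exact absurd h hrNσ
  obtain ⟨k', hk'⟩ := exists_prime_orderOf_dvd_card' (G := ↥(M ⊓ N)) r hrMN
  obtain ⟨k, hkMN, hko⟩ : ∃ k : G, k ∈ M ⊓ N ∧ orderOf k = r :=
    ⟨(k' : G), k'.2, by rw [Subgroup.orderOf_coe]; exact hk'⟩
  have hkM : k ∈ M := hkMN.1
  have hkN : k ∈ N := hkMN.2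
  have hKc : Nat.card (Subgroup.zpowers k) = r := by rw [Nat.card_zpowers, hko]
  have hK1 : Subgroup.zpowers k ≠ ⊥ := by
    intro h
    rw [h, Subgroup.card_bot] at hKc
    exact hr.1.one_lt.ne hKc
  have hKN : Subgroup.zpowers k ≤ N := Subgroup.zpowers_le.mpr hkN
  -- a Hall `κ(N)`-subgroup has order `r`
  obtain ⟨⟨K₀, hK₀⟩, hcyc⟩ := Cfsg.Agent.S1351.result hG N hN
  obtain ⟨⟨U₀, hdec₀⟩, -⟩ := Cfsg.Agent.S1352.result hG N hN K₀ (hcyc K₀ hK₀) hK₀
  have hU₀1 : U₀ ≠ ⊥ := (hdecN K₀ U₀ hdec₀).1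
  have hrK₀ : r ∣ Nat.card K₀ := by
    have h1 := Cfsg.Agent.Lib.Helper1.BG12.card_mul_relIndex_of_le hK₀.1
    rw [← h1] at hrN
    rcases (Nat.Prime.dvd_mul hr.1).mp hrN with h | h
    · exact h
    · exact absurd h (hK₀.2.2 r hr.1 hrκ)
  have hK₀1 : K₀ ≠ ⊥ := by
    intro h
    rw [h, Subgroup.card_bot] at hrK₀
    exact hr.1.one_lt.ne' (Nat.dvd_one.mp hrK₀)
  have hK₀p := (Cfsg.Agent.S1372.result hG N hN K₀ U₀ hdec₀ hK₀1 hU₀1).1
  have hK₀c : Nat.card K₀ = r := ((Nat.prime_dvd_prime_iff_eq hr.1 hK₀p).mp hrK₀).symm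
  -- `K := ⟨k⟩` is a Hall `κ(N)`-subgroup
  have hK : Cfsg.IsPiHallOf (Cfsg.kappa N) (Subgroup.zpowers k) N := by
    refine ⟨hKN, ?_, ?_⟩
    · intro s hs hsd
      rw [hKc] at hsd
      rw [(Nat.prime_dvd_prime_iff_eq hs hr.1).mp hsd]
      exact hrκ
    · intro s hs hsκ hsd
      apply hK₀.2.2 s hs hsκ
      have h1 := Cfsg.Agent.Lib.Helper1.BG12.card_mul_relIndex_of_le hK₀.1
      have h2 := Cfsg.Agent.Lib.Helper1.BG12.card_mul_relIndex_of_le hKN
      rw [hK₀c] at h1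
      rw [hKc] at h2
      have h3 : K₀.relIndex N = (Subgroup.zpowers k).relIndex N :=
        Nat.eq_of_mul_eq_mul_left hr.1.pos (h1.trans h2.symm)
      rw [h3]
      exact hsd
  have hKcyc : IsCyclic ↥(Subgroup.zpowers k) := inferInstance
  obtain ⟨⟨U, hdec⟩, -⟩ := Cfsg.Agent.S1352.result hG N hN (Subgroup.zpowers k) hKcyc hK
  obtain ⟨Ns, ⟨hNs, hKst, hKstH⟩, -⟩ :=
    Cfsg.Agent.S1366.result hG N hN (Subgroup.zpowers k) U hdec hK1
  have h67 := (Cfsg.Agent.S1367.result hG N hN (Subgroup.zpowers k) U hdec hK1 Ns hNs hKst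
    hKstH).2 (Subgroup.zpowers k) le_rfl (by rw [hKc]; exact hr.1)
  -- the `τ₂`-context of `M`
  obtain ⟨E, hE, hKE⟩ := exists_compl_ge hG hM (Subgroup.zpowers_le.mpr hkM) (by
    intro s hs hsd
    rw [hKc] at hsd
    rw [(Nat.prime_dvd_prime_iff_eq hs hr.1).mp hsd]
    exact hr.2.1)
  obtain ⟨A, hAE, hAe, hA2⟩ := exists_sq_le_compl hG hM hE hr
  have c := bg15_ctx hG hM hE hr hAE hAe hA2
  have hKA : Subgroup.zpowers k ≤ A := c.le_A_of_card hKE hKc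
  have hANs : A ≤ Ns := (c.A_le_centralizer hKA).trans h67.1
  -- `r ∈ σ(N*)`
  have hkσ : k ∈ Cfsg.sigmaCore Ns := by
    have : k ∈ Subgroup.zpowers k := Subgroup.mem_zpowers k
    rw [hKst] at this
    exact this.1
  have hrσs : r ∈ Cfsg.sigma Ns := by
    apply prime_sigmaCore hG hNs hr.1
    rw [← hko]
    exact Subgroup.orderOf_dvd_natCard _ hkσ
  have hne : Ns ≠ M := by
    rintro rfl
    exact hr.2.1 hrσs
  -- the Sylow `r`-subgroups of `G` are not abelian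
  have hS : ∀ P : Sylow r G, ¬ IsMulCommutative (P : Subgroup G) := by
    intro P hP
    have hAσ : A ≤ Cfsg.sigmaCore Ns :=
      Cfsg.Agent.Lib.Helper1.BG12.pgroup_le_sigmaCore hG Ns hNs r hrσs A hANs c.isPGroup_A
    have hAp : IsPGroup r ↥(A.subgroupOf (Cfsg.sigmaCore Ns)) := c.isPGroup_A.comap_subtype
    obtain ⟨S, hS⟩ := hAp.exists_le_sylow
    have hKs1 : Cfsg.sigmaCore N ⊓ Subgroup.centralizer ((Subgroup.zpowers k : Subgroup G) : Set G)
        ≠ ⊥ := bg14_kstar_ne_bot hG hN hK hK1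
    have hKst' : Subgroup.zpowers k = Cfsg.sigmaCore Ns ⊓ Subgroup.centralizer
        ((Cfsg.sigmaCore N ⊓ Subgroup.centralizer ((Subgroup.zpowers k : Subgroup G) : Set G) :
          Subgroup G) : Set G) := by
      rw [Subgroup.coe_inf]; exact hKst
    have h31 := (Cfsg.Agent.S1431.result hG Ns hNs _ hKstH hKs1).2.2.1 r hr.1 (by
      rw [← hKst', hKc]) S
    have hAS : A ≤ (S : Subgroup ↥(Cfsg.sigmaCore Ns)).map (Cfsg.sigmaCore Ns).subtype := by
      intro v hv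
      exact ⟨⟨v, hAσ hv⟩, hS (Subgroup.mem_subgroupOf.mpr hv), rfl⟩
    have hSp : IsPGroup r ↥((S : Subgroup ↥(Cfsg.sigmaCore Ns)).map (Cfsg.sigmaCore Ns).subtype) :=
      S.isPGroup'.map _
    obtain ⟨Q, hQ⟩ := hSp.exists_le_sylow
    obtain ⟨g, hg⟩ := MulAction.exists_smul_eq G P Q
    have hQc : ∀ u ∈ (Q : Subgroup G), ∀ v ∈ (Q : Subgroup G), u * v = v * u := by
      intro u hu v hv
      rw [← hg, Sylow.coe_subgroup_smul] at hu hv
      obtain ⟨u', hu', rfl⟩ := (Subgroup.mem_smul_pointwise_iff_exists _ _ _).mp hu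
      obtain ⟨v', hv', rfl⟩ := (Subgroup.mem_smul_pointwise_iff_exists _ _ _).mp hv
      have h1 : u' * v' = v' * u' := by
        have := hP.is_comm.comm ⟨u', hu'⟩ ⟨v', hv'⟩
        simpa using congrArg Subtype.val this
      simp only [MulAut.smul_def, MulAut.conj_apply]
      calc g * u' * g⁻¹ * (g * v' * g⁻¹) = g * (u' * v') * g⁻¹ := by group
        _ = g * (v' * u') * g⁻¹ := by rw [h1]
        _ = g * v' * g⁻¹ * (g * u' * g⁻¹) := by group
    have hSM : (S : Subgroup ↥(Cfsg.sigmaCore Ns)).map (Cfsg.sigmaCore Ns).subtype ≤ M := by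
      intro u hu
      apply c.cent_le
      rw [Subgroup.mem_centralizer_iff]
      intro v hv
      exact hQc v (hQ (hAS hv)) u (hQ hu)
    obtain ⟨Mx, -, hMx⟩ := h31.1
    have e1 := hMx M ⟨hM, hSM⟩
    have e2 := hMx Ns ⟨hNs, h31.2.1⟩
    exact hne (e2.trans e1.symm)
  have h19 := (Cfsg.Agent.S1419.result hG M hM E hE r hr hS A ⟨hAE, hAe, hA2⟩).2.1.1
  -- `A₀ = C_A(M_σ)` lies in `N` and is conjugate to `K`
  have hA₀x : A ⊓ Subgroup.centralizer (Cfsg.sigmaCore M : Set G) ≤ N := by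
    intro y hy
    apply hxN
    rw [Subgroup.mem_centralizer_singleton_iff]
    exact (Subgroup.mem_centralizer_iff.mp hy.2 x hx).symm
  have hNsolv : Group.IsSolvable ↥N := hG.2.2.2 N hN.1
  obtain ⟨m, hm, hmA⟩ := Cfsg.Agent.Lib.Helper1.BG14c.piHall_conj_into hNsolv hK hA₀x (by
    intro s hs hsd
    rw [h19] at hsd
    rw [(Nat.prime_dvd_prime_iff_eq hs hr.1).mp hsd]
    exact hrκ)
  have hKeq : conjSub m⁻¹ (A ⊓ Subgroup.centralizer (Cfsg.sigmaCore M : Set G)) =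
      Subgroup.zpowers k := by
    apply Subgroup.eq_of_le_of_card_ge
    · intro z hz
      rw [mem_conjSub, inv_inv] at hz
      have h1 := hmA _ hz
      have h2 : m⁻¹ * (m * z * m⁻¹) * m = z := by group
      rwa [h2] at h1
    · rw [card_conjSub, h19, hKc]
  have hCA₀ : Subgroup.centralizer
      ((A ⊓ Subgroup.centralizer (Cfsg.sigmaCore M : Set G) : Subgroup G) : Set G) ≤
      conjSub m Ns := by
    intro z hz
    rw [mem_conjSub]
    apply h67.1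
    rw [Subgroup.mem_centralizer_iff]
    intro k₁ hk₁
    have hk₁' : k₁ ∈ conjSub m⁻¹ (A ⊓ Subgroup.centralizer (Cfsg.sigmaCore M : Set G)) := by
      rw [hKeq]; exact hk₁
    rw [mem_conjSub, inv_inv] at hk₁'
    have h1 := Subgroup.mem_centralizer_iff.mp hz _ hk₁'
    calc k₁ * (m⁻¹ * z * m) = m⁻¹ * ((m * k₁ * m⁻¹) * z) * m := by group
      _ = m⁻¹ * (z * (m * k₁ * m⁻¹)) * m := by rw [h1]
      _ = m⁻¹ * z * m * k₁ := by group
  have hne2 : Cfsg.sigmaCore M ⊓ Subgroup.centralizer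
      ((A ⊓ Subgroup.centralizer (Cfsg.sigmaCore M : Set G) : Subgroup G) : Set G) ≠ ⊥ := by
    intro h
    have : x ∈ Cfsg.sigmaCore M ⊓ Subgroup.centralizer
        ((A ⊓ Subgroup.centralizer (Cfsg.sigmaCore M : Set G) : Subgroup G) : Set G) := by
      refine Subgroup.mem_inf.mpr ⟨hx, ?_⟩
      rw [Subgroup.mem_centralizer_iff]
      intro y hy
      exact (Subgroup.mem_centralizer_iff.mp hy.2 x hx).symm
    rw [h, Subgroup.mem_bot] at this
    exact hx1 this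
  have hcu := (c.cent_unique inf_le_left h19 hne2).2 (conjSub m Ns)
    (Cfsg.Agent.Lib.Helper11.BenderF.isCoatom_conjSub m hNs) hCA₀
  have := Cfsg.Agent.Lib.Helper1.BG12.sigma_conjSub Ns r hrσs m
  rw [hcu] at this
  exact hr.2.1 this

end Cfsg.Agent.Lib.Helper13.BG15
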