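import Mathlib
import Cfsg.Prelude.Def_OddOrderLocal
import Cfsg.Agent.Lib.Helper13.BG15D

set_option autoImplicit false

/-! B & G Lemma 15.6(a) (statement S1436), part E: reduction to elements of prime order. (helper13) -/

namespace Cfsg.Agent.Lib.Helper13.BG15

open Cfsg Cfsg.Agent.Lib.Helper18 Cfsg.Agent.Lib.Helper28.BGt Cfsg.Agent.Lib.Helper13.BG14

variable {G : Type*} [Group G] [Finite G]

/-- reduction to prime order: a power `y` of `x` of prime order with the same `M`, `N` -/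
theorem bg15_prime_power (hG : Cfsg.IsMinSimpleOddOrder G) {M N : Subgroup G} (hM : IsCoatom M)
    (hN : IsCoatom N) {x : G} (hx : x ∈ Cfsg.sigmaCore M) (hx1 : x ≠ 1)
    (hxM : ¬ Subgroup.centralizer ({x} : Set G) ≤ M)
    (hxN : Subgroup.centralizer ({x} : Set G) ≤ N) :
    ∃ (y : G) (q : ℕ), q.Prime ∧ y ∈ Cfsg.sigmaCore M ∧ orderOf y = q ∧
      ¬ Subgroup.centralizer ({y} : Set G) ≤ M ∧ Subgroup.centralizer ({y} : Set G) ≤ N ∧
      y ∈ Subgroup.zpowers x := by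
  have hxo : orderOf x ≠ 1 := fun h => hx1 (orderOf_eq_one_iff.mp h)
  obtain ⟨q, hq, hqd⟩ := Nat.exists_prime_and_dvd hxo
  have hyo : orderOf (x ^ (orderOf x / q)) = q :=
    orderOf_pow_orderOf_div (orderOf_pos x).ne' hqd
  obtain ⟨y, hy⟩ : ∃ y, y = x ^ (orderOf x / q) := ⟨_, rfl⟩
  rw [← hy] at hyo
  have hyσ : y ∈ Cfsg.sigmaCore M := by rw [hy]; exact Subgroup.pow_mem _ hx _
  have hy1 : y ≠ 1 := by
    intro h
    rw [h, orderOf_one] at hyo
    exact hq.one_lt.ne hyo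
  have hCxy : Subgroup.centralizer ({x} : Set G) ≤ Subgroup.centralizer ({y} : Set G) := by
    intro c hc
    rw [Subgroup.mem_centralizer_singleton_iff] at hc ⊢
    rw [hy]
    have hcx : Commute c x := hc
    exact (hcx.pow_right _).eq
  have hyM : ¬ Subgroup.centralizer ({y} : Set G) ≤ M := fun h => hxM (hCxy.trans h)
  obtain ⟨N₁, ⟨hN₁, hyN₁⟩, -⟩ := bg14_cent_not_le hG M hM y hyσ hy1 hyM
  obtain ⟨N₀, -, huniq, -⟩ := bg14_cent_not_le hG M hM x hx hx1 hxM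
  have e1 : N = N₀ := huniq N hN hxN
  have e2 : N₁ = N₀ := huniq N₁ hN₁ (hCxy.trans hyN₁)
  refine ⟨y, q, hq, hyσ, hyo, hyM, ?_, ?_⟩
  · rw [e1, ← e2]; exact hyN₁
  · rw [hy]; exact Subgroup.pow_mem _ (Subgroup.mem_zpowers x) _

/-- **B & G Lemma 15.6(a), `τ₂`-part** -/
theorem bg15_tau2_empty (hG : Cfsg.IsMinSimpleOddOrder G) {M N : Subgroup G} (hM : IsCoatom M)
    (hN : IsCoatom N) {x : G} (hx : x ∈ Cfsg.sigmaCore M) (hx1 : x ≠ 1)
    (hxM : ¬ Subgroup.centralizer ({x} : Set G) ≤ M)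
    (hxN : Subgroup.centralizer ({x} : Set G) ≤ N) {p : ℕ} (hp : p ∈ Cfsg.sigma N)
    (hpM : p ∣ Nat.card M) (hκ : Cfsg.kappa M = ∅) : Cfsg.tau2 M = ∅ := by
  obtain ⟨y, q, hq, hyσ, hyo, hyM, hyN, -⟩ := bg15_prime_power hG hM hN hx hx1 hxM hxN
  exact bg15_tau2_empty_of_prime hG hM hN hq hyσ hyo hyM hyN hp hpM hκ
    (fun r hr => bg15_tau2_not_kappa hG hM hN hx hx1 hxM hxN hr)

end Cfsg.Agent.Lib.Helper13.BG15
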