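import Mathlib
import Cfsg.Prelude.Def_OddOrderLocal
import Cfsg.Agent.Lib.Helper13.BG15E
import Cfsg.Agent.S1434

set_option autoImplicit false

/-! B & G Lemma 15.6(a) (statement S1436), part F: `κ(M) = ∅`. (helper13) -/

namespace Cfsg.Agent.Lib.Helper13.BG15

open Cfsg Cfsg.Agent.Lib.Helper18 Cfsg.Agent.Lib.Helper28.BGt Cfsg.Agent.Lib.Helper13.BG14

variable {G : Type*} [Group G] [Finite G]

/-- **B & G Lemma 15.6(a), `κ`-part**: `x ∈ M_σ^#`, `C_G(x) ⊄ M`, `N ⊇ C_G(x)` maximal and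
`σ(N) ∩ π(M) ≠ ∅` force `κ(M) = ∅` -/
theorem bg15_kappa_empty (hG : Cfsg.IsMinSimpleOddOrder G) {M N : Subgroup G} (hM : IsCoatom M)
    (hN : IsCoatom N) {x : G} (hx : x ∈ Cfsg.sigmaCore M) (hx1 : x ≠ 1)
    (hxM : ¬ Subgroup.centralizer ({x} : Set G) ≤ M)
    (hxN : Subgroup.centralizer ({x} : Set G) ≤ N) {p : ℕ} (hp : p ∈ Cfsg.sigma N)
    (hpM : p ∣ Nat.card M) : Cfsg.kappa M = ∅ := by
  rw [Set.eq_empty_iff_forall_notMem]
  intro s hsκ
  obtain ⟨y, q, hq, hyσ, hyo, hyM, hyN, -⟩ := bg15_prime_power hG hM hN hx hx1 hxM hxN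
  haveI : Fact q.Prime := ⟨hq⟩
  have hy1 : y ≠ 1 := by
    intro h
    rw [h, orderOf_one] at hyo
    exact hq.one_lt.ne hyo
  obtain ⟨hnc, hτ2N, hbot, hcompl, hnilN, huniq, hqσ⟩ := bg15_setup hG hM hN hq hyσ hyo hyM hyN
  have hpσ : p ∉ Cfsg.sigma M := by
    intro h
    obtain ⟨g, hg⟩ := (Cfsg.Agent.S1378.result hG).2 M N hM hN ⟨p, h, hp⟩
    exact hnc g hg
  -- the standard factorisation of `M`
  obtain ⟨⟨K, hK⟩, hcyc⟩ := Cfsg.Agent.S1351.result hG M hM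
  obtain ⟨⟨U, hdec⟩, -⟩ := Cfsg.Agent.S1352.result hG M hM K (hcyc K hK) hK
  have hsK : s ∣ Nat.card K := by
    have h1 := Cfsg.Agent.Lib.Helper1.BG12.card_mul_relIndex_of_le hK.1
    have h2 : s ∣ Nat.card K * K.relIndex M := by rw [h1]; exact hsκ.2.1
    rcases (Nat.Prime.dvd_mul hsκ.1).mp h2 with h | h
    · exact h
    · exact absurd h (hK.2.2 s hsκ.1 hsκ)
  have hK1 : K ≠ ⊥ := by
    intro h
    rw [h, Subgroup.card_bot] at hsK
    exact hsκ.1.one_lt.ne' (Nat.dvd_one.mp hsK)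
  by_cases hU1 : U = ⊥
  · -- type `𝒫₁`: `p ∣ |K|`
    have hKσ : K ⊓ Cfsg.sigmaCore M = ⊥ :=
      Cfsg.Agent.Lib.Helper1.BG15.kappa_inf_sigmaCore hG hM hK.2.1
    have hcardM : Nat.card M = Nat.card K * Nat.card (Cfsg.sigmaCore M) := by
      have e1 := Cfsg.Agent.Lib.Helper1.BG15.card_of_isComplIn hdec.compl
      rw [hU1, Subgroup.card_bot, one_mul] at e1
      rw [e1]
      exact Cfsg.Agent.Lib.Helper1.BG12b.card_sup_of_inf_eq_bot
        (hK.1.trans (Cfsg.Agent.Lib.Helper1.BG12.le_normalizer_sigmaCore M)) hKσ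
    have hpK : p ∣ Nat.card K := by
      rw [hcardM] at hpM
      rcases (Nat.Prime.dvd_mul hp.1).mp hpM with h | h
      · exact h
      · exact absurd (prime_sigmaCore hG hM hp.1 h) hpσ
    obtain ⟨Ms, ⟨hMs, hKst, hKstH⟩, -⟩ := Cfsg.Agent.S1366.result hG M hM K U hdec hK1
    have hKMs : K ≤ Cfsg.sigmaCore Ms := by
      intro z hz
      rw [hKst] at hz
      exact hz.1
    have hpσs : p ∈ Cfsg.sigma Ms :=
      prime_sigmaCore hG hMs hp.1 (hpK.trans (Subgroup.card_dvd_of_le hKMs))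
    obtain ⟨g, hg⟩ := (Cfsg.Agent.S1378.result hG).2 Ms N hMs hN ⟨p, hpσs, hp⟩
    have hNg : N = conjSub g Ms := hg
    -- `K*` is a Hall `σ(M)`-subgroup of `M*`
    have h34 := (Cfsg.Agent.S1434.result hG M hM K U hdec hK1 Ms hMs hKst hKstH).2.1
    have hKs1 := bg14_kstar_ne_bot hG hM hK hK1
    have hcardN : Nat.card N = Nat.card Ms := by rw [hNg, card_conjSub]
    -- the conjugate of `K*` in `N` is a Hall `σ(M)`-subgroup of `N`
    have hKgN : conjSub g (Cfsg.sigmaCore M ⊓ Subgroup.centralizer (K : Set G)) ≤ N := by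
      rw [hNg]; exact conjSub_mono h34.1
    have hrel : ∀ X : Subgroup G, X ≤ N →
        Nat.card X = Nat.card ↥(Cfsg.sigmaCore M ⊓ Subgroup.centralizer (K : Set G)) →
        X.relIndex N = (Cfsg.sigmaCore M ⊓ Subgroup.centralizer (K : Set G)).relIndex Ms := by
      intro X hXN hXc
      have e1 := Cfsg.Agent.Lib.Helper1.BG12.card_mul_relIndex_of_le hXN
      have e2 := Cfsg.Agent.Lib.Helper1.BG12.card_mul_relIndex_of_le h34.1
      rw [hXc, hcardN, ← e2] at e1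
      exact Nat.eq_of_mul_eq_mul_left Nat.card_pos e1
    have hKgH : Cfsg.IsPiHallOf (Cfsg.sigma M)
        (conjSub g (Cfsg.sigmaCore M ⊓ Subgroup.centralizer (K : Set G))) N := by
      refine ⟨hKgN, ?_, ?_⟩
      · intro t ht htd
        rw [card_conjSub] at htd
        exact h34.2.1 t ht htd
      · intro t ht htσ
        rw [hrel _ hKgN (card_conjSub _ _)]
        exact h34.2.2 t ht htσ
    have hNsolv : Group.IsSolvable ↥N := hG.2.2.2 N hN.1
    have hyN' : y ∈ N := hyN (Subgroup.mem_centralizer_singleton_iff.mpr rfl)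
    obtain ⟨n, hn, hny⟩ := Cfsg.Agent.Lib.Helper1.BG14c.piHall_conj_into hNsolv hKgH
      (Subgroup.zpowers_le.mpr hyN') (by
        intro t ht htd
        rw [Nat.card_zpowers, hyo] at htd
        rw [(Nat.prime_dvd_prime_iff_eq ht hq).mp htd]
        exact hqσ)
    -- `K₂`, a Hall `κ(N)`-subgroup of `N` containing `y`
    have hyK₂ : y ∈ conjSub n (conjSub g (Cfsg.sigmaCore M ⊓ Subgroup.centralizer (K : Set G))) := by
      rw [mem_conjSub]
      exact hny y (Subgroup.mem_zpowers y)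
    have hK₂N : conjSub n (conjSub g (Cfsg.sigmaCore M ⊓ Subgroup.centralizer (K : Set G))) ≤ N := by
      intro z hz
      rw [mem_conjSub] at hz
      have h1 := hKgN hz
      have h2 : z = n * (n⁻¹ * z * n) * n⁻¹ := by group
      rw [h2]
      exact N.mul_mem (N.mul_mem hn h1) (N.inv_mem hn)
    have hκN : Cfsg.kappa N = Cfsg.kappa Ms := by
      rw [hNg]; exact Cfsg.Agent.Lib.Helper21.BG14e.kappa_conjSub hG hMs g
    have hK₂c : Nat.card ↥(conjSub n (conjSub g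
        (Cfsg.sigmaCore M ⊓ Subgroup.centralizer (K : Set G)))) =
        Nat.card ↥(Cfsg.sigmaCore M ⊓ Subgroup.centralizer (K : Set G)) := by
      rw [card_conjSub, card_conjSub]
    have hK₂H : Cfsg.IsPiHallOf (Cfsg.kappa N)
        (conjSub n (conjSub g (Cfsg.sigmaCore M ⊓ Subgroup.centralizer (K : Set G)))) N := by
      refine ⟨hK₂N, ?_, ?_⟩
      · intro t ht htd
        rw [hK₂c] at htd
        rw [hκN]
        exact hKstH.2.1 t ht htd
      · intro t ht htκ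
        rw [hrel _ hK₂N hK₂c]
        rw [hκN] at htκ
        exact hKstH.2.2 t ht htκ
    obtain ⟨-, hcycN⟩ := Cfsg.Agent.S1351.result hG N hN
    obtain ⟨⟨U₂, hdec₂⟩, -⟩ := Cfsg.Agent.S1352.result hG N hN _ (hcycN _ hK₂H) hK₂H
    obtain ⟨N₀, ⟨hN₀, hyN₀⟩, huniq₀, -, -, -, -, hdecN⟩ :=
      bg14_cent_not_le hG M hM y hyσ hy1 hyM
    have hNN : N = N₀ := huniq₀ N hN hyN
    subst hNN
    obtain ⟨-, hyA, -⟩ := hdecN _ U₂ hdec₂
    have hyUσ : y ∈ U₂ ⊔ Cfsg.sigmaCore N := hyA.2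
    have hqκ : q ∈ Cfsg.kappa N := by
      apply hK₂H.2.1 q hq
      rw [← hyo]
      exact Subgroup.orderOf_dvd_natCard _ hyK₂
    have hU₂σ : U₂ ⊓ Cfsg.sigmaCore N = ⊥ := by
      rw [eq_bot_iff, ← hdec₂.compl.2.2.1]
      exact inf_le_inf_left _ le_sup_right
    have hcard₂ : Nat.card (U₂ ⊔ Cfsg.sigmaCore N : Subgroup G) =
        Nat.card U₂ * Nat.card (Cfsg.sigmaCore N) :=
      Cfsg.Agent.Lib.Helper1.BG12b.card_sup_of_inf_eq_bot
        (hdec₂.compl.1.trans (Cfsg.Agent.Lib.Helper1.BG12.le_normalizer_sigmaCore N)) hU₂σ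
    have hqd : q ∣ Nat.card U₂ * Nat.card (Cfsg.sigmaCore N) := by
      rw [← hcard₂, ← hyo]
      exact Subgroup.orderOf_dvd_natCard _ hyUσ
    rcases (Nat.Prime.dvd_mul hq).mp hqd with h | h
    · exact (bg14_prime_U hG hN hdec₂ hq h).2.1 hqκ
    · exact hqκ.2.2.1 (prime_sigmaCore hG hN hq h)
  · -- type `𝒫₂`
    exact hyM (bg14_fitting_TI_sigma hG hM hdec hK1 hU1 hq hyσ hyo)

end Cfsg.Agent.Lib.Helper13.BG15
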