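import Mathlib
import Cfsg.Prelude.Def_OddOrderLocal
import Cfsg.Agent.Lib.Helper13.BG15F

set_option autoImplicit false

/-! B & G Lemma 15.6(b) (statement S1436, second part): conjugacy in `M`. (helper13) -/

namespace Cfsg.Agent.Lib.Helper13.BG15

open Cfsg Cfsg.Agent.Lib.Helper18 Cfsg.Agent.Lib.Helper28.BGt Cfsg.Agent.Lib.Helper13.BG14

variable {G : Type*} [Group G] [Finite G]

/-- **B & G Lemma 15.6(b)** -/
theorem bg15_conj_in_M (hG : Cfsg.IsMinSimpleOddOrder G) {M N : Subgroup G} (hM : IsCoatom M)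
    (hN : IsCoatom N) {x : G} (hx : x ∈ Cfsg.sigmaCore M) (hx1 : x ≠ 1)
    (hxM : ¬ Subgroup.centralizer ({x} : Set G) ≤ M)
    (hxN : Subgroup.centralizer ({x} : Set G) ≤ N) {y : G} {N' : Subgroup G} {g : G}
    (hy : y ∈ Cfsg.sigmaCore M) (hy1 : y ≠ 1)
    (hyM : ¬ Subgroup.centralizer ({y} : Set G) ≤ M) (hN' : IsCoatom N')
    (hyN' : Subgroup.centralizer ({y} : Set G) ≤ N')
    (hg : N'.map (MulAut.conj g).toMonoidHom = N) :
    ∃ m ∈ M, N'.map (MulAut.conj m).toMonoidHom = N := by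
  have hg' : conjSub g N' = N := hg
  -- the conjugate `M₂ = gMg⁻¹` with `y₂ = gyg⁻¹`
  have hM₂ : IsCoatom (conjSub g M) := Cfsg.Agent.Lib.Helper11.BenderF.isCoatom_conjSub g hM
  have hy₂σ : g * y * g⁻¹ ∈ Cfsg.sigmaCore (conjSub g M) :=
    Cfsg.Agent.Lib.Helper1.BG14b.conj_mem_sigmaCore_conjSub hG hM g hy
  have hy₂1 : g * y * g⁻¹ ≠ 1 := by
    intro h
    apply hy1
    have : y = g⁻¹ * (g * y * g⁻¹) * g := by group
    rw [this, h]; group
  have hy₂M : ¬ Subgroup.centralizer ({g * y * g⁻¹} : Set G) ≤ conjSub g M :=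
    fun h => hyM ((Cfsg.Agent.Lib.Helper1.BG14b.centralizer_conj_le_iff g y M).mp h)
  have hy₂N : Subgroup.centralizer ({g * y * g⁻¹} : Set G) ≤ N := by
    rw [← hg']
    exact (Cfsg.Agent.Lib.Helper1.BG14b.centralizer_conj_le_iff g y N').mpr hyN'
  obtain ⟨N₁, -, huniq₁, -, -, -, hcompl₁, -⟩ := bg14_cent_not_le hG M hM x hx hx1 hxM
  have e1 : N = N₁ := huniq₁ N hN hxN
  subst e1
  obtain ⟨N₂, -, huniq₂, -, -, -, hcompl₂, -⟩ :=
    bg14_cent_not_le hG (conjSub g M) hM₂ (g * y * g⁻¹) hy₂σ hy₂1 hy₂M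
  have e2 : N = N₂ := huniq₂ N hN hy₂N
  subst e2
  -- Hall conjugation in `N`
  have hK : Cfsg.IsPiHallOf {s | s.Prime ∧ s ∉ Cfsg.sigma N} (conjSub g M ⊓ N) N := by
    refine ⟨inf_le_right, ?_, ?_⟩
    · intro s hs hsd
      exact ⟨hs, compl_prime_not_sigma hG hN hcompl₂ hs hsd⟩
    · intro s hs hsπ hsd
      have h1 := Cfsg.Agent.Lib.Helper1.BG15.card_of_isComplIn hcompl₂
      have h2 := Cfsg.Agent.Lib.Helper1.BG12.card_mul_relIndex_of_le
        (inf_le_right : conjSub g M ⊓ N ≤ N)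
      have h3 : (conjSub g M ⊓ N).relIndex N = Nat.card (Cfsg.sigmaCore N) := by
        apply Nat.eq_of_mul_eq_mul_left (Nat.card_pos (α := ↥(conjSub g M ⊓ N)))
        rw [h2, h1]
      rw [h3] at hsd
      exact hsπ.2 (prime_sigmaCore hG hN hs hsd)
  have hNsolv : Group.IsSolvable ↥N := hG.2.2.2 N hN.1
  obtain ⟨n, hn, hnD⟩ := Cfsg.Agent.Lib.Helper1.BG14c.piHall_conj_into hNsolv hK
    (inf_le_right : M ⊓ N ≤ N) (by
      intro s hs hsd
      exact ⟨hs, compl_prime_not_sigma hG hN hcompl₁ hs hsd⟩)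
  obtain ⟨n', hn'def⟩ : ∃ n' : G, n' = n⁻¹ := ⟨_, rfl⟩
  have hn' : n' ∈ N := by rw [hn'def]; exact N.inv_mem hn
  have hxMN : x ∈ M ⊓ N :=
    Subgroup.mem_inf.mpr ⟨sigmaCore_le M hx, hxN (Subgroup.mem_centralizer_singleton_iff.mpr rfl)⟩
  have hx₁M₂ : n' * x * n'⁻¹ ∈ conjSub g M := by
    have := (hnD x hxMN).1
    rw [hn'def, inv_inv]
    exact this
  have hM₁ : IsCoatom (conjSub n' M) := Cfsg.Agent.Lib.Helper11.BenderF.isCoatom_conjSub n' hM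
  have hx₁σ : n' * x * n'⁻¹ ∈ Cfsg.sigmaCore (conjSub n' M) :=
    Cfsg.Agent.Lib.Helper1.BG14b.conj_mem_sigmaCore_conjSub hG hM n' hx
  have hx₁1 : n' * x * n'⁻¹ ≠ 1 := by
    intro h
    apply hx1
    have : x = n'⁻¹ * (n' * x * n'⁻¹) * n' := by group
    rw [this, h]; group
  obtain ⟨-, R, -, hRc, hRu⟩ :=
    Cfsg.Agent.S1374.result hG (conjSub n' M) hM₁ (n' * x * n'⁻¹) hx₁σ hx₁1
  have hconj : conjSub (g * n'⁻¹) (conjSub n' M) = conjSub g M := by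
    rw [conjSub_mul]
    congr 1
    group
  obtain ⟨r, ⟨hrR, hr⟩, -⟩ := hRu (g * n'⁻¹) (by
    show n' * x * n'⁻¹ ∈ conjSub (g * n'⁻¹) (conjSub n' M)
    rw [hconj]; exact hx₁M₂)
  have hr' : conjSub r (conjSub n' M) = conjSub (g * n'⁻¹) (conjSub n' M) := hr
  have hnN : conjSub n' N = N :=
    Cfsg.Agent.Lib.Helper11.conjSub_eq_self_of_mem_normalizer (Subgroup.le_normalizer hn')
  have hrN : r ∈ N := by
    have h1 : Subgroup.centralizer ({n' * x * n'⁻¹} : Set G) ≤ N := by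
      have := (Cfsg.Agent.Lib.Helper1.BG14b.centralizer_conj_le_iff n' x N).mpr hxN
      rwa [hnN] at this
    exact h1 (hRc.2.1 hrR)
  rw [hconj] at hr'
  rw [conjSub_mul] at hr'
  have hmem : (r * n')⁻¹ * g ∈ Subgroup.normalizer (M : Set G) := bg14_map_conj_eq_iff.mp hr'
  rw [Cfsg.Agent.Lib.Helper1.BG14.normalizer_coatom hG hM] at hmem
  refine ⟨(r * n')⁻¹ * g, hmem, ?_⟩
  show conjSub ((r * n')⁻¹ * g) N' = N
  rw [← conjSub_mul, hg']
  exact Cfsg.Agent.Lib.Helper11.conjSub_eq_self_of_mem_normalizer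
    (Subgroup.le_normalizer (N.inv_mem (N.mul_mem hrN hn')))

end Cfsg.Agent.Lib.Helper13.BG15
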