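import Mathlib

/-!
# SLK row D1 (`det_lmap`), verbatim vs `Helper1/SLK/Skel.lean.txt` (Mathlib only).
-/

set_option autoImplicit false

namespace Cfsg.Agent.Lib.Helper1.SLK

universe u

/-- determinant of a block diagonal matrix with blocks of varying size -/
theorem slkd1_det_blockDiagonal' {R : Type*} [CommRing R] {o : Type*} [Fintype o] [DecidableEq o]
    {κ : o → Type*} [∀ i, Fintype (κ i)] [∀ i, DecidableEq (κ i)]
    (d : ∀ i, Matrix (κ i) (κ i) R) : (Matrix.blockDiagonal' d).det = ∏ i, (d i).det := by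
  classical
  let _ : LinearOrder o := LinearOrder.lift' (Fintype.equivFin o) (Fintype.equivFin o).injective
  rw [(Matrix.blockTriangular_blockDiagonal' d).det_fintype]
  apply Finset.prod_congr rfl
  intro k _
  let e : {x : Σ i, κ i // x.1 = k} ≃ κ k :=
    { toFun := fun x => x.2 ▸ x.1.2
      invFun := fun l => ⟨⟨k, l⟩, rfl⟩
      left_inv := by rintro ⟨⟨i, l⟩, rfl⟩; rfl
      right_inv := fun l => rfl }
  have : (Matrix.blockDiagonal' d).toSquareBlock Sigma.fst k = (d k).submatrix e e := by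
    ext ⟨⟨i, l⟩, hi⟩ ⟨⟨j, l'⟩, hj⟩
    simp only at hi hj
    subst hi
    subst hj
    rw [Matrix.toSquareBlock_def]
    show Matrix.blockDiagonal' d ⟨j, l⟩ ⟨j, l'⟩ = d j l l'
    rw [Matrix.blockDiagonal'_apply, dif_pos rfl]
    rfl
  rw [this, Matrix.det_submatrix_equiv_self]

/-- dependent version of `LinearMap.det_pi` -/
theorem slkd1_det_pi {F : Type*} [Field F] {ι : Type*} [Fintype ι] [DecidableEq ι]
    (M : ι → Type*) [∀ j, AddCommGroup (M j)] [∀ j, Module F (M j)] [∀ j, Module.Finite F (M j)]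
    (f : ∀ j, M j →ₗ[F] M j) :
    LinearMap.det (LinearMap.pi (fun i ↦ (f i).comp (LinearMap.proj i)) :
      (∀ j, M j) →ₗ[F] (∀ j, M j)) = ∏ j, LinearMap.det (f j) := by
  classical
  let b : ∀ j, Module.Basis (Module.Free.ChooseBasisIndex F (M j)) F (M j) :=
    fun j => Module.Free.chooseBasis F (M j)
  let B := Pi.basis b
  have hdet : ∀ j, LinearMap.det (f j) = (LinearMap.toMatrix (b j) (b j) (f j)).det :=
    fun j => (LinearMap.det_toMatrix (b j) (f j)).symm
  rw [← LinearMap.det_toMatrix B]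
  simp_rw [hdet]
  have : (LinearMap.toMatrix B B) (LinearMap.pi fun i ↦ f i ∘ₗ LinearMap.proj i) =
      Matrix.blockDiagonal' (fun j ↦ LinearMap.toMatrix (b j) (b j) (f j)) := by
    ext ⟨i, l⟩ ⟨j, k⟩
    rw [LinearMap.toMatrix_apply, Matrix.blockDiagonal'_apply]
    show (Pi.basis b).repr ((LinearMap.pi fun i ↦ f i ∘ₗ LinearMap.proj i) (Pi.basis b ⟨j, k⟩)) ⟨i, l⟩ = _
    rw [Pi.basis_repr, Pi.basis_apply]
    simp only [LinearMap.pi_apply, LinearMap.coe_comp, Function.comp_apply, LinearMap.coe_proj,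
      Function.eval]
    by_cases h : i = j
    · subst h
      rw [dif_pos rfl, Pi.single_eq_same, LinearMap.toMatrix_apply]
      rfl
    · rw [dif_neg h, Pi.single_eq_of_ne h, map_zero, map_zero]
      rfl
  rw [this, slkd1_det_blockDiagonal']

/-- D1 [M]. -/
theorem det_lmap {F : Type u} [Field F] {ι : Type*} [Fintype ι] [DecidableEq ι]
    (M : ι → Type*) [∀ j, AddCommGroup (M j)] [∀ j, Module F (M j)] [∀ j, Module.Finite F (M j)]
    (f : ∀ j, M j →ₗ[F] M j) :
    LinearMap.det (DirectSum.lmap f) = ∏ j, LinearMap.det (f j) := by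
  classical
  have e := DirectSum.linearEquivFunOnFintype F ι M
  have key : DirectSum.lmap f =
      ((DirectSum.linearEquivFunOnFintype F ι M).symm : (∀ j, M j) →ₗ[F] (DirectSum ι M)) ∘ₗ
        (LinearMap.pi (fun i ↦ (f i).comp (LinearMap.proj i)) : (∀ j, M j) →ₗ[F] (∀ j, M j)) ∘ₗ
        ((DirectSum.linearEquivFunOnFintype F ι M : (DirectSum ι M) ≃ₗ[F] (∀ j, M j)) :
          (DirectSum ι M) →ₗ[F] (∀ j, M j)) := by
    apply LinearMap.ext
    intro x
    apply (DirectSum.linearEquivFunOnFintype F ι M).injective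
    funext i
    rw [LinearMap.comp_apply, LinearMap.comp_apply, LinearEquiv.coe_coe, LinearEquiv.coe_coe,
      LinearEquiv.apply_symm_apply]
    rfl
  rw [key]
  have := LinearMap.det_conj (LinearMap.pi (fun i ↦ (f i).comp (LinearMap.proj i)) :
      (∀ j, M j) →ₗ[F] (∀ j, M j)) (DirectSum.linearEquivFunOnFintype F ι M).symm
  rw [LinearEquiv.symm_symm] at this
  rw [this, slkd1_det_pi]

end Cfsg.Agent.Lib.Helper1.SLK
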