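import Mathlib

/-!
# SLK row G1 (`fiber_ncard_le_index`), verbatim vs `Helper1/SLK/Skel.lean.txt` (Mathlib only).
-/

set_option autoImplicit false

namespace Cfsg.Agent.Lib.Helper1.SLK

/-- every class in the fibre has a representative `y` and a conjugator `g` -/
theorem slkg1_exists_rep {S G : Type*} [Group S] [Group G] (ι : S →* G) (x : S)
    (c : ConjClasses S) (hc : ConjClasses.map ι c = ConjClasses.mk (ι x)) :
    ∃ y : S, ∃ g : G, c = ConjClasses.mk y ∧ g * ι x * g⁻¹ = ι y := by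
  obtain ⟨y, rfl⟩ := ConjClasses.exists_rep c
  have h1 : ConjClasses.mk (ι y) = ConjClasses.mk (ι x) := hc
  rw [ConjClasses.mk_eq_mk_iff_isConj] at h1
  obtain ⟨g, hg⟩ := isConj_iff.mp h1.symm
  exact ⟨y, g, rfl, hg⟩

/-- G1 [M]. -/
theorem fiber_ncard_le_index {S G A : Type*} [Group S] [Group G] [CommGroup A] [Finite A]
    (ι : S →* G) (δ : G →* A) (hι : Function.Injective ι) (hker : ι.range = δ.ker)
    (x : S) (D : Subgroup A) (hD : ∀ a ∈ D, ∃ h : G, Commute h (ι x) ∧ δ h = a) :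
    {c : ConjClasses S | ConjClasses.map ι c = ConjClasses.mk (ι x)}.ncard ≤ D.index := by
  classical
  set T : Set (ConjClasses S) := {c | ConjClasses.map ι c = ConjClasses.mk (ι x)} with hT
  have hrep : ∀ c : T, ∃ y : S, ∃ g : G, c.1 = ConjClasses.mk y ∧ g * ι x * g⁻¹ = ι y :=
    fun c => slkg1_exists_rep ι x c.1 c.2
  choose ys gs hys hgs using hrep
  let f : T → A ⧸ D := fun c => QuotientGroup.mk (δ (gs c))
  have hf : Function.Injective f := by
    intro c c' hcc
    have h1 : (δ (gs c))⁻¹ * δ (gs c') ∈ D := QuotientGroup.eq.mp hcc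
    obtain ⟨h, hcomm, hδ⟩ := hD _ h1
    set k : G := gs c' * h⁻¹ * (gs c)⁻¹ with hk
    have hkδ : δ k = 1 := by
      rw [hk, map_mul, map_mul, map_inv, map_inv, hδ]
      rw [mul_inv_rev, inv_inv]
      have : δ (gs c') * ((δ (gs c'))⁻¹ * δ (gs c)) * (δ (gs c))⁻¹ = 1 := by group
      exact this
    have hkr : k ∈ ι.range := by rw [hker]; exact hkδ
    obtain ⟨s, hs⟩ := hkr
    have hcomm' : h⁻¹ * ι x * h = ι x := by
      have := hcomm.eq
      calc h⁻¹ * ι x * h = h⁻¹ * (ι x * h) := by group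
        _ = h⁻¹ * (h * ι x) := by rw [this]
        _ = ι x := by group
    have hconj : k * ι (ys c) * k⁻¹ = ι (ys c') := by
      rw [← hgs c, ← hgs c', hk]
      calc gs c' * h⁻¹ * (gs c)⁻¹ * (gs c * ι x * (gs c)⁻¹) * (gs c' * h⁻¹ * (gs c)⁻¹)⁻¹
          = gs c' * (h⁻¹ * ι x * h) * (gs c')⁻¹ := by group
        _ = gs c' * ι x * (gs c')⁻¹ := by rw [hcomm']
    have hS : s * ys c * s⁻¹ = ys c' := by
      apply hι
      rw [map_mul, map_mul, map_inv, hs]
      exact hconj
    apply Subtype.ext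
    rw [hys c, hys c', ConjClasses.mk_eq_mk_iff_isConj]
    exact isConj_iff.mpr ⟨s, hS⟩
  have h2 : T.ncard = Nat.card T := (Nat.card_coe_set_eq T).symm
  rw [h2, Subgroup.index_eq_card]
  exact Nat.card_le_card_of_injective f hf

end Cfsg.Agent.Lib.Helper1.SLK
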