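import Cfsg.Agent.Lib.Helper1.SLK.Defs
import Cfsg.Agent.Lib.Helper26.SLKG2
import Cfsg.Agent.Lib.Helper13.SLKG1

/-!
# SLK row A8 (`slFib_ncard_le`): the core, with the conclusion of A7 (`exists_commute_det_pow`) as a hypothesis.
Cites G1 (Helper13) and G2 (Helper26).
-/

set_option autoImplicit false

namespace Cfsg.Agent.Lib.Helper1.SLK

open Polynomial
open Cfsg.Agent.Lib.Helper29.GLK

universe u

/-- the range of `toGL` is the kernel of `det` -/
theorem slka8_range_toGL {F : Type u} [Field F] {n : ℕ} :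
    (Matrix.SpecialLinearGroup.toGL :
      Matrix.SpecialLinearGroup (Fin n) F →* Matrix.GeneralLinearGroup (Fin n) F).range =
      (Matrix.GeneralLinearGroup.det : Matrix.GeneralLinearGroup (Fin n) F →* Fˣ).ker := by
  ext g
  constructor
  · rintro ⟨s, rfl⟩
    rw [MonoidHom.mem_ker]
    exact Matrix.SpecialLinearGroup.coeToGL_det s
  · intro hg
    rw [MonoidHom.mem_ker] at hg
    have hdet : (g : Matrix (Fin n) (Fin n) F).det = 1 := by
      have := congrArg Units.val hg
      simpa using this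
    refine ⟨⟨(g : Matrix (Fin n) (Fin n) F), hdet⟩, ?_⟩
    apply Units.ext
    rfl

/-- A8 core: `hA7` is the conclusion of A7 for `toGL x` and `G`. -/
theorem slka8_core {F : Type u} [Field F] [Fintype F] {n : ℕ}
    (x : Matrix.SpecialLinearGroup (Fin n) F) (G : ℕ → F[X])
    (hA7 : ∀ (i : Fin n), (G i).natDegree ≠ 0 → ∀ c : Fˣ,
      ∃ h : Matrix.GeneralLinearGroup (Fin n) F,
        Commute h (Matrix.SpecialLinearGroup.toGL x) ∧
          Matrix.GeneralLinearGroup.det h = c ^ ((i : ℕ) + 1)) :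
    (slFib x).ncard ≤ tg (Fintype.card F) (fun i : Fin n => G i) := by
  classical
  let gens : Set Fˣ := {a | ∃ i : Fin n, (G i).natDegree ≠ 0 ∧ ∃ c : Fˣ, a = c ^ ((i : ℕ) + 1)}
  let D : Subgroup Fˣ := Subgroup.closure gens
  have hD : ∀ a ∈ D, ∃ h : Matrix.GeneralLinearGroup (Fin n) F,
      Commute h (Matrix.SpecialLinearGroup.toGL x) ∧ Matrix.GeneralLinearGroup.det h = a := by
    intro a ha
    induction ha using Subgroup.closure_induction with
    | mem a ha =>
      obtain ⟨i, hi, c, rfl⟩ := ha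
      exact hA7 i hi c
    | one => exact ⟨1, Commute.one_left _, map_one _⟩
    | mul a b _ _ iha ihb =>
      obtain ⟨h1, hc1, hd1⟩ := iha
      obtain ⟨h2, hc2, hd2⟩ := ihb
      exact ⟨h1 * h2, hc1.mul_left hc2, by rw [map_mul, hd1, hd2]⟩
    | inv a _ iha =>
      obtain ⟨h1, hc1, hd1⟩ := iha
      exact ⟨h1⁻¹, hc1.inv_left, by rw [map_inv, hd1]⟩
  have h1 := fiber_ncard_le_index
    (Matrix.SpecialLinearGroup.toGL :
      Matrix.SpecialLinearGroup (Fin n) F →* Matrix.GeneralLinearGroup (Fin n) F)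
    (Matrix.GeneralLinearGroup.det : Matrix.GeneralLinearGroup (Fin n) F →* Fˣ)
    Matrix.SpecialLinearGroup.toGL_injective slka8_range_toGL x D hD
  have hidx : D.index ∣ tg (Fintype.card F) (fun i : Fin n => G i) := by
    unfold tg
    apply Nat.dvd_gcd
    · unfold tE
      apply Finset.dvd_gcd
      intro i hi
      have hi' : (G i).natDegree ≠ 0 := (Finset.mem_filter.mp hi).2
      apply index_dvd_of_forall_pow_mem
      intro a
      exact Subgroup.subset_closure ⟨i, hi', a, rfl⟩
    · have h2 := D.index_dvd_card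
      rw [Nat.card_units, Nat.card_eq_fintype_card] at h2
      exact h2
  have hpos : 0 < tg (Fintype.card F) (fun i : Fin n => G i) := by
    unfold tg
    apply Nat.gcd_pos_of_pos_right
    have : 1 < Fintype.card F := Fintype.one_lt_card
    omega
  exact le_trans h1 (Nat.le_of_dvd hpos hidx)

end Cfsg.Agent.Lib.Helper1.SLK
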