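import Cfsg.Agent.Lib.Helper1.SLK.Defs
import Cfsg.Agent.Lib.Helper26.SLKG2

/-!
# SLK row E6 (`tchi_range_index`), verbatim vs `Helper1/SLK/Skel.lean.txt`.  Cites G2 (Helper26).
-/

set_option autoImplicit false

namespace Cfsg.Agent.Lib.Helper1.SLK

open Polynomial
open Cfsg.Agent.Lib.Helper29.GLK

universe u

/-- the value of `tchi T` on `Pi.mulSingle i a` for an occurring `i` -/
theorem slke6_tchi_mulSingle {F : Type u} [Field F] {n : ℕ} (T : Fin n → F[X]) (i : Fin n)
    (hi : (T i).natDegree ≠ 0) (a : Fˣ) :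
    tchi T (Pi.mulSingle i a) = a ^ ((i : ℕ) + 1) := by
  classical
  show ∏ j ∈ Finset.univ.filter (fun j : Fin n => (T j).natDegree ≠ 0),
    (Pi.mulSingle i a : Fin n → Fˣ) j ^ ((j : ℕ) + 1) = a ^ ((i : ℕ) + 1)
  rw [Finset.prod_eq_single i]
  · rw [Pi.mulSingle_eq_same]
  · intro j _ hji
    rw [Pi.mulSingle_eq_of_ne hji, one_pow]
  · intro h
    exact absurd (Finset.mem_filter.mpr ⟨Finset.mem_univ i, hi⟩) h

/-- E6 [M]. -/
theorem tchi_range_index {F : Type u} [Field F] [Fintype F] {n : ℕ} (T : Fin n → F[X]) :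
    (tchi T).range.index ∣ tg (Fintype.card F) T := by
  classical
  unfold tg
  apply Nat.dvd_gcd
  · unfold tE
    apply Finset.dvd_gcd
    intro i hi
    have hi' : (T i).natDegree ≠ 0 := (Finset.mem_filter.mp hi).2
    apply index_dvd_of_forall_pow_mem
    intro a
    exact ⟨Pi.mulSingle i a, slke6_tchi_mulSingle T i hi' a⟩
  · have h1 := (tchi T).range.index_dvd_card
    rw [Nat.card_units, Nat.card_eq_fintype_card] at h1
    exact h1

end Cfsg.Agent.Lib.Helper1.SLK
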