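import Mathlib
import Cfsg.Agent.Lib.helper7.REE.Defs

/-!
# Project REE, row G4J (`E_basic`): core on the statements of the cited rows
(G4E `D_basic`, G4H `V_basic`, G4I `A1_basic`).
-/

set_option autoImplicit false

namespace Cfsg.Agent.Lib.helper7.REE

open Matrix Cfsg.Agent.Lib.helper8

universe u v

/-- `q = 24 b + 3`. -/
theorem reeg4j_q (m : ℕ) : ∃ b, qq m = 24 * b + 3 := by
  induction m with
  | zero => exact ⟨0, by simp [qq]⟩
  | succ k ih =>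
    obtain ⟨b, hb⟩ := ih
    refine ⟨9 * b + 1, ?_⟩
    have : qq (k + 1) = 9 * qq k := by
      unfold qq
      rw [show 2 * (k + 1) + 1 = (2 * k + 1) + 2 by ring, pow_add]
      ring
    rw [this, hb]; ring

namespace ReeAx

variable {G : Type u} [Group G] [Finite G] {K : Type v} [Field K] [Fintype K] {m : ℕ}

theorem reeg4j_tsq (R : ReeAx G K m) (d : G) (hd : R.t * d = d * R.t) :
    R.t * d * (R.t * d) = d * d := by
  calc R.t * d * (R.t * d) = R.t * (d * R.t) * d := by simp only [mul_assoc]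
    _ = R.t * (R.t * d) * d := by rw [hd]
    _ = R.t * R.t * d * d := by simp only [mul_assoc]
    _ = d * d := by rw [R.t_sq, one_mul]

/-- the set `D ∪ t D` as a subgroup -/
def reeg4jS (R : ReeAx G K m) (hcomm : ∀ d ∈ R.D, R.t * d = d * R.t) : Subgroup G where
  carrier := {e | e ∈ R.D ∨ ∃ d ∈ R.D, e = R.t * d}
  one_mem' := Or.inl (one_mem _)
  mul_mem' := by
    intro a b ha hb
    rcases ha with ha | ⟨d, hd, rfl⟩
    · rcases hb with hb | ⟨d', hd', rfl⟩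
      · exact Or.inl (mul_mem ha hb)
      · refine Or.inr ⟨a * d', mul_mem ha hd', ?_⟩
        rw [← mul_assoc, ← hcomm a ha, mul_assoc]
    · rcases hb with hb | ⟨d', hd', rfl⟩
      · exact Or.inr ⟨d * b, mul_mem hd hb, by rw [mul_assoc]⟩
      · refine Or.inl ?_
        have : R.t * d * (R.t * d') = d * d' := by
          calc R.t * d * (R.t * d') = d * R.t * (R.t * d') := by rw [hcomm d hd]
            _ = d * (R.t * R.t) * d' := by simp only [mul_assoc]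
            _ = d * d' := by rw [R.t_sq, mul_one]
        rw [this]; exact mul_mem hd hd'
  inv_mem' := by
    intro a ha
    have htinv : R.t⁻¹ = R.t := inv_eq_of_mul_eq_one_left R.t_sq
    rcases ha with ha | ⟨d, hd, rfl⟩
    · exact Or.inl (inv_mem ha)
    · refine Or.inr ⟨d⁻¹, inv_mem hd, ?_⟩
      rw [_root_.mul_inv_rev, htinv, hcomm _ (inv_mem hd)]

theorem reeg4j_mem (R : ReeAx G K m) (hcomm : ∀ d ∈ R.D, R.t * d = d * R.t) (e : G) :
    e ∈ R.E ↔ e ∈ R.D ∨ ∃ d ∈ R.D, e = R.t * d := by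
  constructor
  · intro he
    have hle : R.E ≤ R.reeg4jS hcomm := by
      unfold ReeAx.E
      refine sup_le ?_ ?_
      · rw [Subgroup.zpowers_le]
        exact Or.inr ⟨1, one_mem _, by rw [mul_one]⟩
      · intro d hd; exact Or.inl hd
    exact hle he
  · intro he
    have hD : R.D ≤ R.E := le_sup_right
    have ht : R.t ∈ R.E := (le_sup_left : Subgroup.zpowers R.t ≤ R.E) (Subgroup.mem_zpowers _)
    rcases he with he | ⟨d, hd, rfl⟩
    · exact hD he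
    · exact mul_mem ht (hD hd)

theorem reeg4j_card (R : ReeAx G K m) (hcomm : ∀ d ∈ R.D, R.t * d = d * R.t)
    (htD : R.t ∉ R.D) : Nat.card R.E = 2 * Nat.card R.D := by
  have hD : R.D ≤ R.E := le_sup_right
  have ht : R.t ∈ R.E := (le_sup_left : Subgroup.zpowers R.t ≤ R.E) (Subgroup.mem_zpowers _)
  let f : Bool × R.D → R.E := fun p =>
    if p.1 then ⟨R.t * p.2.1, mul_mem ht (hD p.2.2)⟩ else ⟨p.2.1, hD p.2.2⟩
  have hf : Function.Bijective f := by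
    constructor
    · rintro ⟨a, d⟩ ⟨a', d'⟩ h
      cases a <;> cases a'
      · simp only [f, Bool.false_eq_true, if_false, Subtype.mk.injEq] at h
        have : d = d' := Subtype.ext h
        rw [this]
      · exfalso
        simp only [f, Bool.false_eq_true, if_false, if_true, Subtype.mk.injEq] at h
        apply htD
        have : R.t = d.1 * d'.1⁻¹ := by rw [h, mul_inv_cancel_right]
        rw [this]; exact mul_mem d.2 (inv_mem d'.2)
      · exfalso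
        simp only [f, Bool.false_eq_true, if_false, if_true, Subtype.mk.injEq] at h
        apply htD
        have : R.t = d'.1 * d.1⁻¹ := by rw [← h, mul_inv_cancel_right]
        rw [this]; exact mul_mem d'.2 (inv_mem d.2)
      · simp only [f, if_true, Subtype.mk.injEq] at h
        have : d = d' := Subtype.ext (mul_left_cancel h)
        rw [this]
    · rintro ⟨e, he⟩
      rcases (R.reeg4j_mem hcomm e).1 he with hd | ⟨d, hd, rfl⟩
      · exact ⟨(false, ⟨e, hd⟩), by simp [f]⟩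
      · exact ⟨(true, ⟨d, hd⟩), by simp [f]⟩
  rw [← Nat.card_congr (Equiv.ofBijective f hf), Nat.card_prod]
  simp

/-- G4J core: `E_basic` from the statements of `D_basic`, `V_basic`, `A1_basic`. -/
theorem reeg4j_core (R : ReeAx G K m)
    (hDb : IsCyclic R.D ∧ 2 * Nat.card R.D = qq m + 1 ∧ R.n0 ∈ R.D ∧ R.D ≤ R.L ∧
      (∀ d ∈ R.D, d * d = 1 → d = 1 ∨ d = R.n0) ∧
      (∀ d ∈ R.D, R.t * d = d * R.t) ∧ R.t ∉ R.D)
    (hVb : (∀ v, v ∈ R.V ↔ v = 1 ∨ v = R.t ∨ v = R.n0 ∨ v = R.t * R.n0) ∧ Nat.card R.V = 4 ∧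
      R.t * R.n0 = R.n0 * R.t ∧ R.t ≠ R.n0 ∧ R.n0 ≠ 1 ∧ R.t * R.n0 ≠ 1 ∧
      (∀ v ∈ R.V, v * v = 1) ∧ R.V ≤ R.E ∧ (∀ v ∈ R.V, v ∈ R.L → v = 1 ∨ v = R.n0))
    (hAb : (∀ a, a ∈ R.A1 ↔ a ∈ R.D ∧ a ^ ((qq m + 1) / 4) = 1) ∧ IsCyclic R.A1 ∧
      4 * Nat.card R.A1 = qq m + 1 ∧ R.A1 ≤ R.D ∧
      (∀ d ∈ R.D, d ∈ R.A1 ∨ ∃ a ∈ R.A1, d = R.n0 * a) ∧ R.V ⊓ R.A1 = ⊥ ∧
      (∀ a ∈ R.A1, Odd (orderOf a))) :
    Nat.card R.E = qq m + 1 ∧ (∀ e₁ ∈ R.E, ∀ e₂ ∈ R.E, e₁ * e₂ = e₂ * e₁) ∧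
    (∀ e, e ∈ R.E ↔ ∃ v ∈ R.V, ∃ a ∈ R.A1, e = v * a) ∧
    (∀ e, e ∈ R.E ↔ e ∈ R.D ∨ ∃ d ∈ R.D, e = R.t * d) ∧
    (∀ e ∈ R.E, e ^ ((qq m + 1) / 2) = 1) ∧ (∀ e ∈ R.E, e * e = 1 → e ∈ R.V) ∧
    (∀ e ∈ R.E, e ∉ R.V → e * e ∈ R.A1 ∧ e * e ≠ 1) ∧
    (∀ e ∈ R.E, Odd (orderOf e) → e ∈ R.A1) ∧
    R.A1 ≤ R.E ∧ R.D ≤ R.E := by
  obtain ⟨hDcyc, hDcard, hn0D, hDL, hDinv, hcomm, htD⟩ := hDb
  obtain ⟨hVmem, hVcard, htn0, htnen0, hn0ne, htn0ne, hVsq, hVE, hVL⟩ := hVb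
  obtain ⟨hAmem, hAcyc, hAcard, hAD, hDA, hVA, hAodd⟩ := hAb
  obtain ⟨b, hb⟩ := reeg4j_q m
  have hq2 : (qq m + 1) / 2 = 12 * b + 2 := by omega
  have hq4 : (qq m + 1) / 4 = 6 * b + 1 := by omega
  have hDc : Nat.card R.D = 12 * b + 2 := by omega
  have hmem := R.reeg4j_mem hcomm
  have hDE : R.D ≤ R.E := le_sup_right
  have htE : R.t ∈ R.E := (le_sup_left : Subgroup.zpowers R.t ≤ R.E) (Subgroup.mem_zpowers _)
  -- `D` is abelian
  have hDab : ∀ d₁ ∈ R.D, ∀ d₂ ∈ R.D, d₁ * d₂ = d₂ * d₁ := by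
    intro d₁ h₁ d₂ h₂
    have := hDcyc
    have := (IsCyclic.commGroup (α := R.D)).mul_comm ⟨d₁, h₁⟩ ⟨d₂, h₂⟩
    exact congrArg Subtype.val this
  -- `d ^ |D| = 1`
  have hDpow : ∀ d ∈ R.D, d ^ (12 * b + 2) = 1 := by
    intro d hd
    have h1 : (⟨d, hd⟩ : R.D) ^ Nat.card R.D = 1 := pow_card_eq_one'
    rw [hDc] at h1
    exact congrArg Subtype.val h1
  -- the square of an element of `E`
  have hEsq : ∀ e ∈ R.E, ∃ d ∈ R.D, e * e = d * d := by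
    intro e he
    rcases (hmem e).1 he with hd | ⟨d, hd, rfl⟩
    · exact ⟨e, hd, rfl⟩
    · exact ⟨d, hd, R.reeg4j_tsq d (hcomm d hd)⟩
  -- abelian
  have hEab : ∀ e₁ ∈ R.E, ∀ e₂ ∈ R.E, e₁ * e₂ = e₂ * e₁ := by
    intro e₁ h₁ e₂ h₂
    have hct : ∀ d ∈ R.D, Commute R.t d := fun d hd => hcomm d hd
    have hcd : ∀ d₁ ∈ R.D, ∀ d₂ ∈ R.D, Commute d₁ d₂ := fun d₁ h₁ d₂ h₂ => hDab d₁ h₁ d₂ h₂
    rcases (hmem e₁).1 h₁ with hd₁ | ⟨d₁, hd₁, rfl⟩ <;>
      rcases (hmem e₂).1 h₂ with hd₂ | ⟨d₂, hd₂, rfl⟩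
    · exact hDab _ hd₁ _ hd₂
    · exact ((hct e₁ hd₁).symm.mul_right (hcd _ hd₁ _ hd₂)).eq
    · exact ((hct e₂ hd₂).mul_left (hcd _ hd₁ _ hd₂)).eq
    · exact (((Commute.refl R.t).mul_right (hct d₂ hd₂)).mul_left
        ((hct d₁ hd₁).symm.mul_right (hcd _ hd₁ _ hd₂))).eq
  have hAE : R.A1 ≤ R.E := hAD.trans hDE
  -- involutions
  have hEinv : ∀ e ∈ R.E, e * e = 1 → e ∈ R.V := by
    intro e he hee
    rcases (hmem e).1 he with hd | ⟨d, hd, rfl⟩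
    · rcases hDinv e hd hee with h | h
      · rw [h]; exact one_mem _
      · rw [h, hVmem]; exact Or.inr (Or.inr (Or.inl rfl))
    · have hdd : d * d = 1 := by
        rw [← R.reeg4j_tsq d (hcomm d hd)]; exact hee
      rcases hDinv d hd hdd with h | h
      · rw [h, mul_one, hVmem]; exact Or.inr (Or.inl rfl)
      · rw [h, hVmem]; exact Or.inr (Or.inr (Or.inr rfl))
  -- decomposition `E = V A₁`
  have hdec : ∀ e, e ∈ R.E ↔ ∃ v ∈ R.V, ∃ a ∈ R.A1, e = v * a := by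
    intro e
    constructor
    · intro he
      have h1V : (1 : G) ∈ R.V := one_mem _
      have htV : R.t ∈ R.V := (hVmem _).2 (Or.inr (Or.inl rfl))
      have hnV : R.n0 ∈ R.V := (hVmem _).2 (Or.inr (Or.inr (Or.inl rfl)))
      have htnV : R.t * R.n0 ∈ R.V := (hVmem _).2 (Or.inr (Or.inr (Or.inr rfl)))
      rcases (hmem e).1 he with hd | ⟨d, hd, rfl⟩
      · rcases hDA e hd with ha | ⟨a, ha, rfl⟩
        · exact ⟨1, h1V, e, ha, by rw [one_mul]⟩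
        · exact ⟨R.n0, hnV, a, ha, rfl⟩
      · rcases hDA d hd with ha | ⟨a, ha, rfl⟩
        · exact ⟨R.t, htV, d, ha, rfl⟩
        · exact ⟨R.t * R.n0, htnV, a, ha, by rw [mul_assoc]⟩
    · rintro ⟨v, hv, a, ha, rfl⟩
      exact mul_mem (hVE hv) (hAE ha)
  refine ⟨?_, hEab, hdec, hmem, ?_, hEinv, ?_, ?_, hAE, hDE⟩
  · rw [R.reeg4j_card hcomm htD]; exact hDcard
  · intro e he
    rw [hq2]
    obtain ⟨d, hd, hsq⟩ := hEsq e he
    rw [show 12 * b + 2 = 2 * (6 * b + 1) by ring, pow_mul, pow_two, hsq, ← pow_two, ← pow_mul,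
      show 2 * (6 * b + 1) = 12 * b + 2 by ring]
    exact hDpow d hd
  · intro e he heV
    obtain ⟨d, hd, hsq⟩ := hEsq e he
    refine ⟨?_, fun h => heV (hEinv e he h)⟩
    rw [hAmem, hsq]
    refine ⟨mul_mem hd hd, ?_⟩
    rw [hq4, ← pow_two, ← pow_mul, show 2 * (6 * b + 1) = 12 * b + 2 by ring]
    exact hDpow d hd
  · intro e he hodd
    obtain ⟨v, hv, a, ha, rfl⟩ := (hdec e).1 he
    obtain ⟨k, hk⟩ := hodd
    have hpow : (v * a) ^ (2 * k + 1) = 1 := by rw [← hk]; exact pow_orderOf_eq_one _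
    have hva : v * a = a * v := hEab v (hVE hv) a (hAE ha)
    have hvv : v ^ (2 * k + 1) = v := by
      rw [pow_succ, pow_mul, pow_two, hVsq v hv, one_pow, one_mul]
    have hv1 : v = (a ^ (2 * k + 1))⁻¹ := by
      have : v ^ (2 * k + 1) * a ^ (2 * k + 1) = 1 := by
        rw [← (Commute.mul_pow (show Commute v a from hva) (2 * k + 1))]; exact hpow
      rw [hvv] at this
      exact eq_inv_of_mul_eq_one_left this
    have hvA : v ∈ R.A1 := by rw [hv1]; exact inv_mem (pow_mem ha _)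
    have : v ∈ R.V ⊓ R.A1 := ⟨hv, hvA⟩
    rw [hVA, Subgroup.mem_bot] at this
    rw [this, one_mul]; exact ha

end ReeAx

end Cfsg.Agent.Lib.helper7.REE
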