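import Mathlib
import Cfsg.Agent.Lib.Helper13.REEG4Jcore

/-!
# Project REE, row G4I (`A1_basic`): core on the statements of the cited rows
(G4E `D_basic`, G4H `V_basic`).
-/

set_option autoImplicit false

namespace Cfsg.Agent.Lib.helper7.REE

open Matrix Cfsg.Agent.Lib.helper8

universe u v

/-- A subgroup `B` which is the union of a subgroup `A` and a second coset `x A` has order
`2 |A|`. -/
theorem reeg4i_card_pair {G : Type u} [Group G] (A B : Subgroup G) (x : G) (hAB : A ≤ B)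
    (hx : x ∈ B) (hxA : x ∉ A) (hdec : ∀ b ∈ B, b ∈ A ∨ ∃ a ∈ A, b = x * a) :
    Nat.card B = 2 * Nat.card A := by
  let f : Bool × A → B := fun p =>
    if p.1 then ⟨x * p.2.1, mul_mem hx (hAB p.2.2)⟩ else ⟨p.2.1, hAB p.2.2⟩
  have hf : Function.Bijective f := by
    constructor
    · rintro ⟨a, d⟩ ⟨a', d'⟩ h
      cases a <;> cases a'
      · simp only [f, Bool.false_eq_true, if_false, Subtype.mk.injEq] at h
        have : d = d' := Subtype.ext h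
        rw [this]
      · exfalso
        simp only [f, Bool.false_eq_true, if_false, if_true, Subtype.mk.injEq] at h
        apply hxA
        have : x = d.1 * d'.1⁻¹ := by rw [h, mul_inv_cancel_right]
        rw [this]; exact mul_mem d.2 (inv_mem d'.2)
      · exfalso
        simp only [f, Bool.false_eq_true, if_false, if_true, Subtype.mk.injEq] at h
        apply hxA
        have : x = d'.1 * d.1⁻¹ := by rw [← h, mul_inv_cancel_right]
        rw [this]; exact mul_mem d'.2 (inv_mem d.2)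
      · simp only [f, if_true, Subtype.mk.injEq] at h
        have : d = d' := Subtype.ext (mul_left_cancel h)
        rw [this]
    · rintro ⟨e, he⟩
      rcases hdec e he with hd | ⟨d, hd, rfl⟩
      · exact ⟨(false, ⟨e, hd⟩), by simp [f]⟩
      · exact ⟨(true, ⟨d, hd⟩), by simp [f]⟩
  rw [← Nat.card_congr (Equiv.ofBijective f hf), Nat.card_prod]
  simp

namespace ReeAx

variable {G : Type u} [Group G] [Finite G] {K : Type v} [Field K] [Fintype K] {m : ℕ}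

/-- the set `{d ∈ D | d ^ ((q + 1) / 4) = 1}` as a subgroup -/
def reeg4iS (R : ReeAx G K m) (hab : ∀ d₁ ∈ R.D, ∀ d₂ ∈ R.D, d₁ * d₂ = d₂ * d₁) :
    Subgroup G where
  carrier := {d | d ∈ R.D ∧ d ^ ((qq m + 1) / 4) = 1}
  one_mem' := ⟨one_mem _, one_pow _⟩
  mul_mem' := by
    intro a b ha hb
    refine ⟨mul_mem ha.1 hb.1, ?_⟩
    rw [Commute.mul_pow (show Commute a b from hab a ha.1 b hb.1), ha.2, hb.2, one_mul]
  inv_mem' := by
    intro a ha
    exact ⟨inv_mem ha.1, by rw [inv_pow, ha.2, inv_one]⟩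

theorem reeg4i_mem (R : ReeAx G K m) (hab : ∀ d₁ ∈ R.D, ∀ d₂ ∈ R.D, d₁ * d₂ = d₂ * d₁)
    (a : G) : a ∈ R.A1 ↔ a ∈ R.D ∧ a ^ ((qq m + 1) / 4) = 1 := by
  have h : R.A1 = R.reeg4iS hab := by
    unfold ReeAx.A1
    exact Subgroup.closure_eq (R.reeg4iS hab)
  rw [h]; exact Iff.rfl

/-- G4I core: `A1_basic` from the statements of `D_basic`, `V_basic`. -/
theorem reeg4i_core (R : ReeAx G K m)
    (hDb : IsCyclic R.D ∧ 2 * Nat.card R.D = qq m + 1 ∧ R.n0 ∈ R.D ∧ R.D ≤ R.L ∧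
      (∀ d ∈ R.D, d * d = 1 → d = 1 ∨ d = R.n0) ∧
      (∀ d ∈ R.D, R.t * d = d * R.t) ∧ R.t ∉ R.D)
    (hVb : (∀ v, v ∈ R.V ↔ v = 1 ∨ v = R.t ∨ v = R.n0 ∨ v = R.t * R.n0) ∧ Nat.card R.V = 4 ∧
      R.t * R.n0 = R.n0 * R.t ∧ R.t ≠ R.n0 ∧ R.n0 ≠ 1 ∧ R.t * R.n0 ≠ 1 ∧
      (∀ v ∈ R.V, v * v = 1) ∧ R.V ≤ R.E ∧ (∀ v ∈ R.V, v ∈ R.L → v = 1 ∨ v = R.n0)) :
    (∀ a, a ∈ R.A1 ↔ a ∈ R.D ∧ a ^ ((qq m + 1) / 4) = 1) ∧ IsCyclic R.A1 ∧
    4 * Nat.card R.A1 = qq m + 1 ∧ R.A1 ≤ R.D ∧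
    (∀ d ∈ R.D, d ∈ R.A1 ∨ ∃ a ∈ R.A1, d = R.n0 * a) ∧ R.V ⊓ R.A1 = ⊥ ∧
    (∀ a ∈ R.A1, Odd (orderOf a)) := by
  obtain ⟨hDcyc, hDcard, hn0D, hDL, hDinv, hcomm, htD⟩ := hDb
  obtain ⟨hVmem, hVcard, htn0, htnen0, hn0ne, htn0ne, hVsq, hVE, hVL⟩ := hVb
  obtain ⟨b, hb⟩ := reeg4j_q m
  have hq4 : (qq m + 1) / 4 = 6 * b + 1 := by omega
  have hDc : Nat.card R.D = 12 * b + 2 := by omega
  have hDab : ∀ d₁ ∈ R.D, ∀ d₂ ∈ R.D, d₁ * d₂ = d₂ * d₁ := by
    intro d₁ h₁ d₂ h₂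
    have := hDcyc
    have := (IsCyclic.commGroup (α := R.D)).mul_comm ⟨d₁, h₁⟩ ⟨d₂, h₂⟩
    exact congrArg Subtype.val this
  have hDpow : ∀ d ∈ R.D, d ^ (12 * b + 2) = 1 := by
    intro d hd
    have h1 : (⟨d, hd⟩ : R.D) ^ Nat.card R.D = 1 := pow_card_eq_one'
    rw [hDc] at h1
    exact congrArg Subtype.val h1
  have hmem := R.reeg4i_mem hDab
  have hAD : R.A1 ≤ R.D := fun a ha => ((hmem a).1 ha).1
  have hn0sq : R.n0 * R.n0 = 1 := R.n0_sq
  have hn0pow : R.n0 ^ (6 * b + 1) = R.n0 := by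
    rw [pow_succ, show 6 * b = 2 * (3 * b) by ring, pow_mul, pow_two, hn0sq, one_pow, one_mul]
  have hn0A : R.n0 ∉ R.A1 := by
    intro h
    have := ((hmem _).1 h).2
    rw [hq4, hn0pow] at this
    exact hn0ne this
  -- decomposition of `D`
  have hdec : ∀ d ∈ R.D, d ∈ R.A1 ∨ ∃ a ∈ R.A1, d = R.n0 * a := by
    intro d hd
    have hk : d ^ (6 * b + 1) ∈ R.D := pow_mem hd _
    have hk2 : d ^ (6 * b + 1) * d ^ (6 * b + 1) = 1 := by
      rw [← pow_add, show 6 * b + 1 + (6 * b + 1) = 12 * b + 2 by ring]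
      exact hDpow d hd
    rcases hDinv _ hk hk2 with h | h
    · left
      rw [hmem, hq4]; exact ⟨hd, h⟩
    · right
      refine ⟨R.n0 * d, ?_, ?_⟩
      · rw [hmem, hq4]
        refine ⟨mul_mem hn0D hd, ?_⟩
        rw [Commute.mul_pow (show Commute R.n0 d from hDab _ hn0D _ hd), hn0pow, h, hn0sq]
      · rw [← mul_assoc, hn0sq, one_mul]
  have hcard : Nat.card R.D = 2 * Nat.card R.A1 :=
    reeg4i_card_pair R.A1 R.D R.n0 hAD hn0D hn0A hdec
  have hAodd : ∀ a ∈ R.A1, Odd (orderOf a) := by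
    intro a ha
    have h1 := ((hmem a).1 ha).2
    rw [hq4] at h1
    have hdvd : orderOf a ∣ 6 * b + 1 := orderOf_dvd_of_pow_eq_one h1
    have hodd : Odd (6 * b + 1) := ⟨3 * b, by ring⟩
    exact Odd.of_dvd_nat hodd hdvd
  refine ⟨hmem, ?_, by omega, hAD, hdec, ?_, hAodd⟩
  · have := hDcyc
    have h1 : IsCyclic (R.A1.subgroupOf R.D) := inferInstance
    exact isCyclic_of_surjective (Subgroup.subgroupOfEquivOfLe hAD).toMonoidHom
      (Subgroup.subgroupOfEquivOfLe hAD).surjective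
  · rw [eq_bot_iff]
    rintro v ⟨hvV, hvA⟩
    rw [Subgroup.mem_bot]
    have hvD : v ∈ R.D := hAD hvA
    rcases (hVmem v).1 hvV with h | h | h | h
    · exact h
    · exact absurd (h ▸ hvD) htD
    · exact absurd (h ▸ hvA) hn0A
    · exfalso
      apply htD
      have : R.t = v * R.n0 := by rw [h, mul_assoc, hn0sq, mul_one]
      rw [this]; exact mul_mem hvD hn0D

end ReeAx

end Cfsg.Agent.Lib.helper7.REE
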