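import Mathlib
import Cfsg.Agent.Lib.Helper13.REEG4Icore
import Cfsg.Agent.Lib.Helper16.REEG4E
import Cfsg.Agent.Lib.helper4.REEG4H

/-!
# Project REE, row G4I (`A1_basic`), verbatim.
-/

set_option autoImplicit false

namespace Cfsg.Agent.Lib.helper7.REE

open Matrix Cfsg.Agent.Lib.helper8

universe u v

namespace ReeAx

variable {G : Type u} [Group G] [Finite G] {K : Type v} [Field K] [Fintype K] {m : ℕ}

/-- G4I. `A₁`, the odd part of `D`. -/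
theorem A1_basic (R : ReeAx G K m) :
    (∀ a, a ∈ R.A1 ↔ a ∈ R.D ∧ a ^ ((qq m + 1) / 4) = 1) ∧ IsCyclic R.A1 ∧
    4 * Nat.card R.A1 = qq m + 1 ∧ R.A1 ≤ R.D ∧
    (∀ d ∈ R.D, d ∈ R.A1 ∨ ∃ a ∈ R.A1, d = R.n0 * a) ∧ R.V ⊓ R.A1 = ⊥ ∧
    (∀ a ∈ R.A1, Odd (orderOf a)) :=
  R.reeg4i_core R.D_basic R.V_basic

end ReeAx

end Cfsg.Agent.Lib.helper7.REE
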