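import Mathlib
import Cfsg.Agent.Lib.Helper13.REEG4Jcore
import Cfsg.Agent.Lib.Helper13.REEG4I

/-!
# Project REE, row G4J (`E_basic`), verbatim.
-/

set_option autoImplicit false

namespace Cfsg.Agent.Lib.helper7.REE

open Matrix Cfsg.Agent.Lib.helper8

universe u v

namespace ReeAx

variable {G : Type u} [Group G] [Finite G] {K : Type v} [Field K] [Fintype K] {m : ℕ}

/-- G4J. `E = ⟨t⟩ × D = V × A₁`, abelian of order `q + 1` and exponent `(q + 1) / 2`. -/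
theorem E_basic (R : ReeAx G K m) :
    Nat.card R.E = qq m + 1 ∧ (∀ e₁ ∈ R.E, ∀ e₂ ∈ R.E, e₁ * e₂ = e₂ * e₁) ∧
    (∀ e, e ∈ R.E ↔ ∃ v ∈ R.V, ∃ a ∈ R.A1, e = v * a) ∧
    (∀ e, e ∈ R.E ↔ e ∈ R.D ∨ ∃ d ∈ R.D, e = R.t * d) ∧
    (∀ e ∈ R.E, e ^ ((qq m + 1) / 2) = 1) ∧ (∀ e ∈ R.E, e * e = 1 → e ∈ R.V) ∧
    (∀ e ∈ R.E, e ∉ R.V → e * e ∈ R.A1 ∧ e * e ≠ 1) ∧
    (∀ e ∈ R.E, Odd (orderOf e) → e ∈ R.A1) ∧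
    R.A1 ≤ R.E ∧ R.D ≤ R.E :=
  R.reeg4j_core R.D_basic R.V_basic R.A1_basic

end ReeAx

end Cfsg.Agent.Lib.helper7.REE
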