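import Mathlib
import Cfsg.Agent.Lib.Helper13.REEG4Icore

/-!
# Project REE, row G4L (`cent_V`): core on the statements of the cited rows
(G4A `L_basic`, G4E `D_basic`, G4G `D_w`, G4H `V_basic`, G4J `E_basic`).
-/

set_option autoImplicit false

namespace Cfsg.Agent.Lib.helper7.REE

open Matrix Cfsg.Agent.Lib.helper8

universe u v

namespace ReeAx

variable {G : Type u} [Group G] [Finite G] {K : Type v} [Field K] [Fintype K] {m : ℕ}

/-- G4L core: `cent_V` from the statements of `L_basic`, `D_basic`, `D_w`, `V_basic`,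
`E_basic`. -/
theorem reeg4l_core (R : ReeAx G K m)
    (hLb : (∀ c : G, R.t * c = c * R.t ↔ c ∈ R.L ∨ ∃ l ∈ R.L, c = R.t * l) ∧ R.t ∉ R.L ∧
      2 * Nat.card R.L = qq m * (qq m ^ 2 - 1) ∧
      Nat.card (Subgroup.centralizer {R.t}) = qq m * (qq m ^ 2 - 1) ∧
      R.n0 ∈ R.L ∧ (∀ l ∈ R.L, R.t * l = l * R.t) ∧
      (∀ x y : SpecialLinearGroup (Fin 2) K, R.psi x = R.psi y ↔ x = y ∨ x = -y))
    (hDb : IsCyclic R.D ∧ 2 * Nat.card R.D = qq m + 1 ∧ R.n0 ∈ R.D ∧ R.D ≤ R.L ∧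
      (∀ d ∈ R.D, d * d = 1 → d = 1 ∨ d = R.n0) ∧
      (∀ d ∈ R.D, R.t * d = d * R.t) ∧ R.t ∉ R.D)
    (hDw : ∃ w ∈ R.L, w ∉ R.D ∧ w * w = 1 ∧ (∀ d ∈ R.D, w * d * w⁻¹ = d⁻¹) ∧
      ∀ l ∈ R.L, l * R.n0 = R.n0 * l → l ∈ R.D ∨ ∃ d ∈ R.D, l = d * w)
    (hVb : (∀ v, v ∈ R.V ↔ v = 1 ∨ v = R.t ∨ v = R.n0 ∨ v = R.t * R.n0) ∧ Nat.card R.V = 4 ∧
      R.t * R.n0 = R.n0 * R.t ∧ R.t ≠ R.n0 ∧ R.n0 ≠ 1 ∧ R.t * R.n0 ≠ 1 ∧
      (∀ v ∈ R.V, v * v = 1) ∧ R.V ≤ R.E ∧ (∀ v ∈ R.V, v ∈ R.L → v = 1 ∨ v = R.n0))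
    (hEb : Nat.card R.E = qq m + 1 ∧ (∀ e₁ ∈ R.E, ∀ e₂ ∈ R.E, e₁ * e₂ = e₂ * e₁) ∧
      (∀ e, e ∈ R.E ↔ ∃ v ∈ R.V, ∃ a ∈ R.A1, e = v * a) ∧
      (∀ e, e ∈ R.E ↔ e ∈ R.D ∨ ∃ d ∈ R.D, e = R.t * d) ∧
      (∀ e ∈ R.E, e ^ ((qq m + 1) / 2) = 1) ∧ (∀ e ∈ R.E, e * e = 1 → e ∈ R.V) ∧
      (∀ e ∈ R.E, e ∉ R.V → e * e ∈ R.A1 ∧ e * e ≠ 1) ∧
      (∀ e ∈ R.E, Odd (orderOf e) → e ∈ R.A1) ∧
      R.A1 ≤ R.E ∧ R.D ≤ R.E) :
    Nat.card (Subgroup.centralizer (R.V : Set G)) = 2 * (qq m + 1) ∧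
    R.E ≤ Subgroup.centralizer (R.V : Set G) ∧
    (∀ x ∈ Subgroup.centralizer (R.V : Set G), x ^ ((qq m + 1) / 4) = 1 → x ∈ R.A1) := by
  obtain ⟨hCt, htL, -, -, hn0L, hLt, -⟩ := hLb
  obtain ⟨-, -, hn0D, hDL, -, hcomm, htD⟩ := hDb
  obtain ⟨w, hwL, hwD, hww, hwinvD, hCn0⟩ := hDw
  obtain ⟨hVmem, -, htn0, -, -, -, -, hVE, -⟩ := hVb
  obtain ⟨hEcard, hEab, -, hEmem, -, -, -, hEodd, -, hDE⟩ := hEb
  obtain ⟨b, hb⟩ := reeg4j_q m
  have hq4 : (qq m + 1) / 4 = 6 * b + 1 := by omega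
  have htE : R.t ∈ R.E := (le_sup_left : Subgroup.zpowers R.t ≤ R.E) (Subgroup.mem_zpowers _)
  have htinv : R.t⁻¹ = R.t := inv_eq_of_mul_eq_one_left R.t_sq
  have hwinv' : w⁻¹ = w := inv_eq_of_mul_eq_one_left hww
  have htw : R.t * w = w * R.t := hLt w hwL
  -- `E ≤ C(V)`
  have hEC : R.E ≤ Subgroup.centralizer (R.V : Set G) := by
    intro e he
    rw [Subgroup.mem_centralizer_iff]
    intro v hv
    exact hEab v (hVE hv) e he
  -- `w` inverts `E`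
  have hwinvE : ∀ e ∈ R.E, w * e * w⁻¹ = e⁻¹ := by
    intro e he
    rcases (hEmem e).1 he with hd | ⟨d, hd, rfl⟩
    · exact hwinvD e hd
    · calc w * (R.t * d) * w⁻¹ = (w * R.t) * d * w⁻¹ := by simp only [mul_assoc]
        _ = R.t * (w * d * w⁻¹) := by rw [← htw]; simp only [mul_assoc]
        _ = R.t * d⁻¹ := by rw [hwinvD d hd]
        _ = (R.t * d)⁻¹ := by
          rw [_root_.mul_inv_rev, htinv, hcomm _ (inv_mem hd)]
  -- `w ∈ C(V)`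
  have hwn0 : R.n0 * w = w * R.n0 := by
    have h1 := hwinvD R.n0 hn0D
    have hn0inv : R.n0⁻¹ = R.n0 := inv_eq_of_mul_eq_one_left R.n0_sq
    rw [hn0inv] at h1
    have : w * R.n0 = R.n0 * w := by
      calc w * R.n0 = w * R.n0 * w⁻¹ * w := by rw [inv_mul_cancel_right]
        _ = R.n0 * w := by rw [h1]
    exact this.symm
  have hwC : w ∈ Subgroup.centralizer (R.V : Set G) := by
    rw [Subgroup.mem_centralizer_iff]
    intro v hv
    rcases (hVmem v).1 hv with h | h | h | h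
    · rw [h, one_mul, mul_one]
    · rw [h]; exact htw
    · rw [h]; exact hwn0
    · rw [h, mul_assoc, hwn0, ← mul_assoc, htw, mul_assoc]
  have hwE : w ∉ R.E := by
    intro h
    rcases (hEmem w).1 h with hd | ⟨d, hd, hwd⟩
    · exact hwD hd
    · apply htL
      have : R.t = w * d⁻¹ := by rw [hwd, mul_inv_cancel_right]
      rw [this]; exact mul_mem hwL (inv_mem (hDL hd))
  -- `d w = w d⁻¹`
  have hdw : ∀ d ∈ R.D, d * w = w * d⁻¹ := by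
    intro d hd
    have h1 := hwinvD d⁻¹ (inv_mem hd)
    rw [inv_inv] at h1
    calc d * w = w * d⁻¹ * w⁻¹ * w := by rw [h1]
      _ = w * d⁻¹ := by rw [inv_mul_cancel_right]
  -- decomposition of `C(V)`
  have hdec : ∀ x ∈ Subgroup.centralizer (R.V : Set G), x ∈ R.E ∨ ∃ e ∈ R.E, x = w * e := by
    intro x hx
    rw [Subgroup.mem_centralizer_iff] at hx
    have hxt : R.t * x = x * R.t := hx R.t ((hVmem _).2 (Or.inr (Or.inl rfl)))
    have hxn : R.n0 * x = x * R.n0 := hx R.n0 ((hVmem _).2 (Or.inr (Or.inr (Or.inl rfl))))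
    rcases (hCt x).1 hxt with hl | ⟨l, hl, rfl⟩
    · rcases hCn0 x hl hxn.symm with hd | ⟨d, hd, rfl⟩
      · exact Or.inl (hDE hd)
      · exact Or.inr ⟨d⁻¹, hDE (inv_mem hd), hdw d hd⟩
    · have hln : l * R.n0 = R.n0 * l := by
        have h1 : R.t * (R.n0 * l) = R.t * (l * R.n0) := by
          calc R.t * (R.n0 * l) = R.n0 * (R.t * l) := by
                rw [← mul_assoc, htn0, mul_assoc]
            _ = R.t * l * R.n0 := hxn
            _ = R.t * (l * R.n0) := by rw [mul_assoc]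
        exact (mul_left_cancel h1).symm
      rcases hCn0 l hl hln with hd | ⟨d, hd, rfl⟩
      · exact Or.inl (mul_mem htE (hDE hd))
      · refine Or.inr ⟨R.t * d⁻¹, mul_mem htE (hDE (inv_mem hd)), ?_⟩
        rw [hdw d hd, ← mul_assoc, htw, mul_assoc]
  refine ⟨?_, hEC, ?_⟩
  · rw [reeg4i_card_pair R.E (Subgroup.centralizer (R.V : Set G)) w hEC hwC hwE hdec, hEcard]
  · intro x hx hxk
    rw [hq4] at hxk
    rcases hdec x hx with he | ⟨e, he, rfl⟩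
    · apply hEodd x he
      have hdvd : orderOf x ∣ 6 * b + 1 := orderOf_dvd_of_pow_eq_one hxk
      exact Odd.of_dvd_nat ⟨3 * b, by ring⟩ hdvd
    · exfalso
      have hsq : w * e * (w * e) = 1 := by
        calc w * e * (w * e) = (w * e * w⁻¹) * (w * w) * e := by
              simp only [mul_assoc, inv_mul_cancel_left]
          _ = 1 := by rw [hwinvE e he, hww, mul_one, inv_mul_cancel]
      have h1 : (w * e) ^ (6 * b + 1) = w * e := by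
        rw [pow_succ, show 6 * b = 2 * (3 * b) by ring, pow_mul, pow_two, hsq, one_pow, one_mul]
      rw [h1] at hxk
      apply hwE
      have : w = e⁻¹ := eq_inv_of_mul_eq_one_left hxk
      rw [this]; exact inv_mem he

end ReeAx

end Cfsg.Agent.Lib.helper7.REE
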