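import Mathlib
import Cfsg.Agent.Lib.Helper13.REEG4Lcore
import Cfsg.Agent.Lib.Helper13.REEG4J
import Cfsg.Agent.Lib.helper8.REEG4A
import Cfsg.Agent.Lib.Helper16.REEG4G

/-!
# Project REE, row G4L (`cent_V`), verbatim.
-/

set_option autoImplicit false

namespace Cfsg.Agent.Lib.helper7.REE

open Matrix Cfsg.Agent.Lib.helper8

universe u v

namespace ReeAx

variable {G : Type u} [Group G] [Finite G] {K : Type v} [Field K] [Fintype K] {m : ℕ}

/-- G4L. `C(V) = E ∪ E w`, of order `2 (q + 1)`; `A₁` is the set of elements of `C(V)` of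
order dividing `(q + 1) / 4`. -/
theorem cent_V (R : ReeAx G K m) :
    Nat.card (Subgroup.centralizer (R.V : Set G)) = 2 * (qq m + 1) ∧
    R.E ≤ Subgroup.centralizer (R.V : Set G) ∧
    (∀ x ∈ Subgroup.centralizer (R.V : Set G), x ^ ((qq m + 1) / 4) = 1 → x ∈ R.A1) :=
  R.reeg4l_core R.L_basic R.D_basic R.D_w R.V_basic R.E_basic

end ReeAx

end Cfsg.Agent.Lib.helper7.REE
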