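import Mathlib
import Cfsg.Agent.Lib.Helper13.S5955.Defs2

set_option autoImplicit false

/-!
# S5955 row N7 (`types`): powers of an irreducible isometry in different `⟨q⟩`-cosets are not
isomorphic
-/

namespace Cfsg.Agent.Lib.Helper13.S5955

open Polynomial Module

/-- `F[y]` has no zero divisors when `y` is irreducible. -/
theorem s5955n7_domain {F V : Type*} [Field F] [AddCommGroup V] [Module F V]
    (y : Module.End F V) (hirr : ∀ U : Submodule F V, SInv y U → U = ⊥ ∨ U = ⊤) (a b : F[X])
    (hab : aeval y (a * b) = 0) : aeval y a = 0 ∨ aeval y b = 0 := by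
  have hinv : SInv y (LinearMap.ker (aeval y a)) := Cfsg.Agent.Lib.Helper24.el_inv_ker y a
  rcases hirr _ hinv with h | h
  · right
    apply LinearMap.ext
    intro v
    have h1 : aeval y a (aeval y b v) = 0 := by
      have h2 := congrArg (fun f : Module.End F V => f v) hab
      simp only [map_mul, Module.End.mul_apply, LinearMap.zero_apply] at h2
      exact h2
    have hmem : aeval y b v ∈ LinearMap.ker (aeval y a) := LinearMap.mem_ker.mpr h1
    rw [h, Submodule.mem_bot] at hmem
    rw [hmem, LinearMap.zero_apply]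
  · left
    apply LinearMap.ext
    intro v
    have hmem : v ∈ LinearMap.ker (aeval y a) := by
      rw [h]
      exact Submodule.mem_top
    rw [LinearMap.zero_apply]
    exact LinearMap.mem_ker.mp hmem

/-- the minimal polynomial of an irreducible endomorphism is irreducible -/
theorem s5955n7_minpoly_irr {F V : Type*} [Field F] [AddCommGroup V] [Module F V]
    [FiniteDimensional F V] [Nontrivial V]
    (y : Module.End F V) (hirr : ∀ U : Submodule F V, SInv y U → U = ⊥ ∨ U = ⊤) :
    Irreducible (minpoly F y) := by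
  have hint : IsIntegral F y := Algebra.IsIntegral.isIntegral y
  rw [irreducible_iff]
  refine ⟨minpoly.not_isUnit F y, ?_⟩
  intro a b hab
  have h0 : aeval y (a * b) = 0 := by rw [← hab, minpoly.aeval]
  have hne : minpoly F y ≠ 0 := minpoly.ne_zero hint
  have ha0 : a ≠ 0 := by
    rintro rfl
    rw [zero_mul] at hab
    exact hne hab
  have hb0 : b ≠ 0 := by
    rintro rfl
    rw [mul_zero] at hab
    exact hne hab
  rcases s5955n7_domain y hirr a b h0 with h | h
  · right
    obtain ⟨c, hc⟩ := minpoly.dvd F y h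
    have h1 : a * 1 = a * (b * c) := by
      rw [mul_one, ← mul_assoc, ← hab, hc]
    have h2 := mul_left_cancel₀ ha0 h1
    exact IsUnit.of_mul_eq_one c h2.symm
  · left
    obtain ⟨c, hc⟩ := minpoly.dvd F y h
    have h1 : b * 1 = b * (a * c) := by
      rw [mul_one, ← mul_assoc, mul_comm b a, ← hab, hc]
    have h2 := mul_left_cancel₀ hb0 h1
    exact IsUnit.of_mul_eq_one c h2.symm


/-- Frobenius: `g(β^q) = g(β)^q` for `g ∈ F[X]`, `q = |F|`, in a commutative `F`-algebra. -/
theorem s5955n7_frob {F : Type*} [Field F] [Fintype F] {L : Type*} [CommRing L] [Algebra F L]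
    (g : F[X]) (β : L) : aeval (β ^ Fintype.card F) g = (aeval β g) ^ Fintype.card F := by
  rw [← expand_aeval, FiniteField.expand_card, map_pow]

theorem s5955n7_frob_iter {F : Type*} [Field F] [Fintype F] {L : Type*} [CommRing L] [Algebra F L]
    (g : F[X]) (β : L) (hβ : aeval β g = 0) (e : ℕ) :
    aeval (β ^ (Fintype.card F ^ e)) g = 0 := by
  induction e with
  | zero => rwa [pow_zero, pow_one]
  | succ e ih =>
    rw [pow_succ, pow_mul, s5955n7_frob, ih, zero_pow Fintype.card_ne_zero]

/-- powers of an element of order `r` in a monoid where it is a unit -/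
theorem s5955n7_pow_eq {L : Type*} [Monoid L] (η : L) (r : ℕ) (hr : r ≠ 0) (hηr : η ^ r = 1)
    (hord : orderOf η = r) (a b : ℕ) : η ^ a = η ^ b ↔ a ≡ b [MOD r] := by
  have hu : ((Units.ofPowEqOne η r hηr hr : Lˣ) : L) = η := Units.val_ofPowEqOne _ _ _ _
  have h1 : η ^ a = η ^ b ↔
      (Units.ofPowEqOne η r hηr hr : Lˣ) ^ a = (Units.ofPowEqOne η r hηr hr : Lˣ) ^ b := by
    rw [Units.ext_iff, Units.val_pow_eq_pow_val, Units.val_pow_eq_pow_val, hu]
  rw [h1, pow_eq_pow_iff_modEq, ← orderOf_units, hu, hord]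

/-- the core of N7 for a general space -/
theorem s5955n7_core {F : Type*} [Field F] [Fintype F] {p : ℕ} [hp : Fact p.Prime] [CharP F p]
    {V : Type*} [AddCommGroup V] [Module F V] [FiniteDimensional F V] [Nontrivial V]
    (r : ℕ) [hr : Fact r.Prime] (hrp : r ≠ p)
    (y : Module.End F V) (hyr : y ^ r = 1) (hy1 : y ≠ 1)
    (hirr : ∀ U : Submodule F V, SInv y U → U = ⊥ ∨ U = ⊤)
    (l l' : ℕ) (hl : ¬ r ∣ l)
    (hcos : ∀ e : ℕ, ¬ (l' ≡ l * Fintype.card F ^ e [MOD r]))
    (φ : V ≃ₗ[F] V) (hφ : ∀ v, φ ((y ^ l) v) = (y ^ l') (φ v)) : False := by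
  classical
  have hint : IsIntegral F y := Algebra.IsIntegral.isIntegral y
  have hμirr : Irreducible (minpoly F y) := s5955n7_minpoly_irr y hirr
  have : Fact (Irreducible (minpoly F y)) := ⟨hμirr⟩
  have hμ0 : minpoly F y ≠ 0 := minpoly.ne_zero hint
  set η : AdjoinRoot (minpoly F y) := AdjoinRoot.root (minpoly F y) with hη
  have key : ∀ P : F[X], aeval y P = 0 ↔ aeval η P = 0 := by
    intro P
    rw [← minpoly.dvd_iff, hη, AdjoinRoot.aeval_eq, AdjoinRoot.mk_eq_zero]
  -- `η` has order `r`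
  have hηr : η ^ r = 1 := by
    have h1 : aeval y (X ^ r - 1 : F[X]) = 0 := by
      rw [map_sub, map_pow, aeval_X, map_one, hyr, sub_self]
    have h2 := (key _).mp h1
    rw [map_sub, map_pow, aeval_X, map_one, sub_eq_zero] at h2
    exact h2
  have hη1 : η ≠ 1 := by
    intro h1
    have h2 : aeval η (X - 1 : F[X]) = 0 := by
      rw [map_sub, aeval_X, map_one, h1, sub_self]
    have h3 := (key _).mpr h2
    rw [map_sub, aeval_X, map_one, sub_eq_zero] at h3
    exact hy1 h3
  have hηord : orderOf η = r := orderOf_eq_prime hηr hη1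
  -- degree of the minimal polynomial
  have hμdvd : minpoly F y ∣ cyclotomic r F := by
    have h1 : aeval y (X ^ r - 1 : F[X]) = 0 := by
      rw [map_sub, map_pow, aeval_X, map_one, hyr, sub_self]
    have h2 : minpoly F y ∣ cyclotomic r F * (X - 1) := by
      rw [cyclotomic_prime_mul_X_sub_one]
      exact minpoly.dvd F y h1
    rcases hμirr.prime.dvd_or_dvd h2 with h | h
    · exact h
    · exfalso
      have h3 : aeval y (X - 1 : F[X]) = 0 := (minpoly.dvd_iff).mp h
      rw [map_sub, aeval_X, map_one, sub_eq_zero] at h3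
      exact hy1 h3
  have hdeg : (minpoly F y).natDegree = orderOf ((Fintype.card F : ℕ) : ZMod r) :=
    Cfsg.Agent.Lib.Helper24.el_cyc_deg r hrp _ hμirr hμdvd
  -- the field `L`
  have : FiniteDimensional F (AdjoinRoot (minpoly F y)) :=
    (AdjoinRoot.powerBasis hμ0).finite
  have hfr : finrank F (AdjoinRoot (minpoly F y)) = (minpoly F y).natDegree := by
    rw [(AdjoinRoot.powerBasis hμ0).finrank, AdjoinRoot.powerBasis_dim]
  have hintL : IsIntegral F (η ^ l) := Algebra.IsIntegral.isIntegral _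
  set g := minpoly F (η ^ l) with hg
  have hg0 : g ≠ 0 := minpoly.ne_zero hintL
  have hgdeg : g.natDegree ≤ orderOf ((Fintype.card F : ℕ) : ZMod r) := by
    rw [← hdeg, ← hfr]
    exact minpoly.natDegree_le _
  have hgl : aeval (η ^ l) g = 0 := minpoly.aeval F _
  -- `g (y ^ l) = 0`
  have hgy : aeval (y ^ l) g = 0 := by
    have h1 : aeval y (g.comp (X ^ l)) = aeval (y ^ l) g := by
      rw [aeval_comp, map_pow, aeval_X]
    have h2 : aeval η (g.comp (X ^ l)) = aeval (η ^ l) g := by
      rw [aeval_comp, map_pow, aeval_X]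
    rw [← h1, key, h2, hgl]
  -- transport along `φ`
  have hconj : LinearEquiv.conjAlgEquiv F φ (y ^ l) = y ^ l' := by
    apply LinearMap.ext
    intro v
    rw [LinearEquiv.conjAlgEquiv_apply, LinearMap.comp_apply, LinearMap.comp_apply,
      LinearEquiv.coe_coe, LinearEquiv.coe_coe, hφ, LinearEquiv.apply_symm_apply]
  have hgy' : aeval (y ^ l') g = 0 := by
    rw [← hconj, aeval_algHom_apply, hgy, map_zero]
  have hgl' : aeval (η ^ l') g = 0 := by
    have h1 : aeval y (g.comp (X ^ l')) = aeval (y ^ l') g := by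
      rw [aeval_comp, map_pow, aeval_X]
    have h2 : aeval η (g.comp (X ^ l')) = aeval (η ^ l') g := by
      rw [aeval_comp, map_pow, aeval_X]
    rw [← h2, ← key, h1, hgy']
  -- the roots
  set i := orderOf ((Fintype.card F : ℕ) : ZMod r) with hi
  have hroot : ∀ e : ℕ, aeval (η ^ (l * Fintype.card F ^ e)) g = 0 := by
    intro e
    rw [pow_mul]
    exact s5955n7_frob_iter g _ hgl e
  have hqr : ¬ r ∣ Fintype.card F := by
    intro hd
    obtain ⟨n, _, hn⟩ := FiniteField.card F p
    rw [hn] at hd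
    exact hrp ((Nat.prime_dvd_prime_iff_eq hr.out hp.out).mp (hr.out.dvd_of_dvd_pow hd))
  have hinj : ∀ e e' : ℕ, e < i → e' < i →
      η ^ (l * Fintype.card F ^ e) = η ^ (l * Fintype.card F ^ e') → e = e' := by
    intro e e' he he' heq
    rw [s5955n7_pow_eq η r hr.out.ne_zero hηr hηord] at heq
    have hcop : Nat.Coprime l r := ((Nat.Prime.coprime_iff_not_dvd hr.out).mpr hl).symm
    have h1 : Fintype.card F ^ e ≡ Fintype.card F ^ e' [MOD r] :=
      Nat.ModEq.cancel_left_of_coprime (by rw [Nat.gcd_comm]; exact hcop) heq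
    have h2 : ((Fintype.card F : ℕ) : ZMod r) ^ e = ((Fintype.card F : ℕ) : ZMod r) ^ e' := by
      have := (ZMod.natCast_eq_natCast_iff _ _ _).mpr h1
      push_cast at this
      exact this
    have hipos : 0 < i := Cfsg.Agent.Lib.Helper24.el_ord_pos (F := F) r hrp
    have h3 := (s5955n7_pow_eq ((Fintype.card F : ℕ) : ZMod r) i hipos.ne'
      (pow_orderOf_eq_one _) rfl e e').mp h2
    have h4 : e % i = e' % i := h3
    rw [Nat.mod_eq_of_lt he, Nat.mod_eq_of_lt he'] at h4
    exact h4
  -- counting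
  by_cases hmem : ∃ e : ℕ, e < i ∧ η ^ l' = η ^ (l * Fintype.card F ^ e)
  · obtain ⟨e, _, he⟩ := hmem
    rw [s5955n7_pow_eq η r hr.out.ne_zero hηr hηord] at he
    exact hcos e he
  · push Not at hmem
    let Z : Finset (AdjoinRoot (minpoly F y)) :=
      insert (η ^ l') ((Finset.range i).image (fun e => η ^ (l * Fintype.card F ^ e)))
    have hZsub : Z.val ⊆ (g.map (algebraMap F (AdjoinRoot (minpoly F y)))).roots := by
      intro z hz
      rw [Finset.mem_val] at hz
      rw [mem_roots (Polynomial.map_ne_zero hg0), IsRoot.def, eval_map_algebraMap]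
      rcases Finset.mem_insert.mp hz with rfl | hz
      · exact hgl'
      · obtain ⟨e, _, rfl⟩ := Finset.mem_image.mp hz
        exact hroot e
    have hcard : Z.card = i + 1 := by
      rw [Finset.card_insert_of_notMem, Finset.card_image_of_injOn, Finset.card_range]
      · intro e he e' he' heq
        exact hinj e e' (Finset.mem_range.mp he) (Finset.mem_range.mp he') heq
      · intro hm
        obtain ⟨e, he, heq⟩ := Finset.mem_image.mp hm
        exact hmem e (Finset.mem_range.mp he) heq.symm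
    have hle := card_le_degree_of_subset_roots hZsub
    rw [hcard, natDegree_map] at hle
    omega

/-- N7 [L] TYPES -/
theorem types {F : Type*} [Field F] [Fintype F] {p : ℕ} [Fact p.Prime] [CharP F p]
    (r : ℕ) [Fact r.Prime] (hrp : r ≠ p) (h : ℕ) (hh : 1 ≤ h)
    (y : Module.End F (Fin h ⊕ Fin h → F)) (hyr : y ^ r = 1) (hy1 : y ≠ 1)
    (hirr : ∀ U : Submodule F (Fin h ⊕ Fin h → F), SInv y U → U = ⊥ ∨ U = ⊤)
    (l l' : ℕ) (hl : ¬ r ∣ l) (hl' : ¬ r ∣ l')
    (hcos : ∀ e : ℕ, ¬ (l' ≡ l * Fintype.card F ^ e [MOD r])) :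
    ¬ ∃ φ : (Fin h ⊕ Fin h → F) ≃ₗ[F] (Fin h ⊕ Fin h → F),
      ∀ v, φ ((y ^ l) v) = (y ^ l') (φ v) := by
  rintro ⟨φ, hφ⟩
  have _hl'' := hl'
  have : Nonempty (Fin h ⊕ Fin h) := ⟨Sum.inl ⟨0, by omega⟩⟩
  have : Nontrivial (Fin h ⊕ Fin h → F) := Function.nontrivial
  exact s5955n7_core r hrp y hyr hy1 hirr l l' hl hcos φ hφ

end Cfsg.Agent.Lib.Helper13.S5955
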