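import Cfsg.Agent.Lib.Helper24.SCH.Defs

set_option autoImplicit false

namespace Cfsg.Agent.Lib.Helper24.SCH

open scoped commutatorElement

universe u v

section D

variable {G : Type u} [Group G] [Finite G] {p : ℕ} [Fact p.Prime]

omit [Finite G] [Fact p.Prime] in
/-- the quotient map by a `p'`-subgroup is injective on a `p`-subgroup. -/
theorem h13_schD2_inj (K : Subgroup G) [K.Normal] (hK : (Nat.card K).Coprime p) (Q : Subgroup G)
    (hQ : IsPGroup p Q) :
    Function.Injective ((QuotientGroup.mk' K).comp Q.subtype) := by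
  rw [injective_iff_map_eq_one]
  intro x hx
  have hxK : (x : G) ∈ K := by
    have h2 : ((x : G) : G ⧸ K) = 1 := hx
    exact (QuotientGroup.eq_one_iff _).mp h2
  obtain ⟨k, hk⟩ := hQ x
  have h1 : orderOf (x : G) ∣ p ^ k := by
    apply orderOf_dvd_of_pow_eq_one
    have := congrArg (Subtype.val) hk
    simpa using this
  have h2 : orderOf (x : G) ∣ Nat.card K := by
    have h3 : orderOf (⟨(x : G), hxK⟩ : K) ∣ Nat.card K := orderOf_dvd_natCard _
    have h4 : orderOf (⟨(x : G), hxK⟩ : K) = orderOf (x : G) := by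
      rw [← Subgroup.orderOf_coe]
    rwa [h4] at h3
  have h5 : orderOf (x : G) = 1 :=
    Nat.eq_one_of_dvd_coprimes (Nat.Coprime.pow_right k hK) h2 h1
  have h6 : (x : G) = 1 := orderOf_eq_one_iff.mp h5
  exact Subtype.ext h6

/-- D2 [S-M]. `Q ⊓ K = ⊥`, so `mk' K` is injective on `Q`. -/
theorem sylow_quot_equiv (K : Subgroup G) [K.Normal] (hK : (Nat.card K).Coprime p) (Q : Sylow p G) :
    Nonempty (↥((Q.mapSurjective (QuotientGroup.mk'_surjective K) : Sylow p (G ⧸ K)) :
      Subgroup (G ⧸ K)) ≃* ↥(Q : Subgroup G)) := by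
  have hinj := h13_schD2_inj K hK (Q : Subgroup G) Q.2
  have hrange : ((QuotientGroup.mk' K).comp (Q : Subgroup G).subtype).range =
      ((Q.mapSurjective (QuotientGroup.mk'_surjective K) : Sylow p (G ⧸ K)) : Subgroup (G ⧸ K)) := by
    rw [Sylow.coe_mapSurjective, MonoidHom.range_comp, Subgroup.range_subtype]
  exact ⟨((MonoidHom.ofInjective hinj).trans (MulEquiv.subgroupCongr hrange)).symm⟩

end D

end Cfsg.Agent.Lib.Helper24.SCH
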