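import Mathlib

set_option autoImplicit false

namespace Cfsg.Agent.Lib.helper15.SLM

open Matrix

variable {F : Type*} [Field F] [Fintype F] [DecidableEq F]
  {ι : Type*} [Fintype ι] [DecidableEq ι]

/-- the linear functional `w ↦ η ⬝ᵥ w` -/
def h13_dotL (η : ι → F) : (ι → F) →ₗ[F] F where
  toFun w := η ⬝ᵥ w
  map_add' := dotProduct_add η
  map_smul' c w := by simp [dotProduct_smul]

theorem h13_dotL_surjective (η : ι → F) (hη : η ≠ 0) : Function.Surjective (h13_dotL η) := by
  obtain ⟨i, hi⟩ : ∃ i, η i ≠ 0 := by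
    by_contra h
    push_neg at h
    exact hη (funext h)
  intro c
  refine ⟨Pi.single i (c / η i), ?_⟩
  show η ⬝ᵥ Pi.single i (c / η i) = c
  rw [dotProduct_single]
  field_simp

theorem h13_card_ker (q n : ℕ) (hq : Fintype.card F = q) (hn : Fintype.card ι = n)
    (η : ι → F) (hη : η ≠ 0) :
    (Finset.univ.filter (fun w : ι → F => η ⬝ᵥ w = 0)).card = q ^ (n - 1) := by
  classical
  have hsurj := h13_dotL_surjective η hη
  have hrk := LinearMap.finrank_range_add_finrank_ker (h13_dotL η)
  rw [LinearMap.range_eq_top.2 hsurj, finrank_top, Module.finrank_self, Module.finrank_pi,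
    hn] at hrk
  have hk : Module.finrank F ↥(LinearMap.ker (h13_dotL η)) = n - 1 := by omega
  have hc : Fintype.card ↥(LinearMap.ker (h13_dotL η)) = q ^ (n - 1) := by
    rw [Module.card_eq_pow_finrank (K := F) (V := ↥(LinearMap.ker (h13_dotL η))), hq, hk]
  rw [← hc, Fintype.card_subtype]
  congr 1
  ext w
  simp only [Finset.mem_filter, Finset.mem_univ, true_and, LinearMap.mem_ker]
  rfl

/-- C4 : the number of nonzero vectors in a hyperplane -/
theorem card_hyperplane (q n : ℕ) (hq : Fintype.card F = q) (hn : Fintype.card ι = n)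
    (η : ι → F) (hη : η ≠ 0) :
    (Finset.univ.filter (fun w : ι → F => w ≠ 0 ∧ η ⬝ᵥ w = 0)).card = q ^ (n - 1) - 1 := by
  classical
  have h := h13_card_ker q n hq hn η hη
  have he : Finset.univ.filter (fun w : ι → F => w ≠ 0 ∧ η ⬝ᵥ w = 0) =
      (Finset.univ.filter (fun w : ι → F => η ⬝ᵥ w = 0)).erase 0 := by
    ext w
    simp [Finset.mem_erase]
  rw [he, Finset.card_erase_of_mem (by simp), h]

end Cfsg.Agent.Lib.helper15.SLM
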