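import Mathlib
import Cfsg.Agent.Lib.Lead.STB.Defs
import Cfsg.Agent.Lib.Helper16.STDW13

/-!
# Project STB (designer lead, S2094), row W11 (helper13), VERBATIM:
`IsMon.cj_w`, `IsMon.cj_h`, `IsMon.cj_ws`, `IsMon.cj_hs`.
-/

set_option autoImplicit false

namespace Cfsg.Agent.Lib.Lead.STB

open Cfsg.Agent.Lib.helper15.St2 Cfsg.Agent.Lib.helper3.STC Cfsg.Agent.Lib.Lead.STD

universe v w

namespace SysB

variable {K : Type*} [Field K] {ι : Type*} {G : Type*} [Group G] (S : SysB K ι G)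

variable [DecidableEq ι]

theorem IsMon.cj_w {g : G} {σ : Equiv.Perm (ι ⊕ ι)} {d : ι ⊕ ι → K} {d0 : K} (hg : S.IsMon g σ d d0) {a b : ι ⊕ ι}
    (hab : a ≠ b) (u : K) (hu : u ≠ 0) :
    cj g (S.w a b u) = S.w (σ a) (σ b) (d a * (d b)⁻¹ * u) :=
  Cfsg.Agent.Lib.Lead.STD.SysD.IsMon.cj_w S.toSysD hg.1 hab u hu

theorem IsMon.cj_h {g : G} {σ : Equiv.Perm (ι ⊕ ι)} {d : ι ⊕ ι → K} {d0 : K} (hg : S.IsMon g σ d d0) {a b : ι ⊕ ι}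
    (hab : a ≠ b) (u : K) (hu : u ≠ 0) :
    cj g (S.h a b u) = S.w (σ a) (σ b) (d a * (d b)⁻¹ * u) * S.w (σ a) (σ b) (-(d a * (d b)⁻¹)) :=
  Cfsg.Agent.Lib.Lead.STD.SysD.IsMon.cj_h S.toSysD hg.1 hab u hu

theorem IsMon.cj_ws {g : G} {σ : Equiv.Perm (ι ⊕ ι)} {d : ι ⊕ ι → K} {d0 : K} (hg : S.IsMon g σ d d0) (a : ι ⊕ ι)
    (u : K) (hu : u ≠ 0) :
    cj g (S.ws a u) = S.ws (σ a) (d a * d0 * u) := by
  obtain ⟨-, hσ, hd, hd0, hx⟩ := hg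
  unfold ws
  rw [cj_mul, cj_mul, hx a u, hx (ng a) u⁻¹, hσ a]
  have h1 := hd a
  have ha : d a ≠ 0 := fun h => by rw [h, zero_mul] at h1; exact zero_ne_one h1
  have h0 : d0 ≠ 0 := fun h => by rw [h, zero_mul] at hd0; exact zero_ne_one hd0
  have e : d (ng a) * d0 * u⁻¹ = (d a * d0 * u)⁻¹ := by
    have e1 : d (ng a) = (d a)⁻¹ := eq_inv_of_mul_eq_one_right h1
    have e2 : d0 = d0⁻¹ := eq_inv_of_mul_eq_one_right hd0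
    rw [mul_inv, mul_inv, ← e1, ← e2]
  rw [e]

theorem IsMon.cj_hs {g : G} {σ : Equiv.Perm (ι ⊕ ι)} {d : ι ⊕ ι → K} {d0 : K} (hg : S.IsMon g σ d d0) (a : ι ⊕ ι)
    (u : K) (hu : u ≠ 0) :
    cj g (S.hs a u) = S.ws (σ a) (d a * d0 * u) * S.ws (σ a) (-(d a * d0)) := by
  unfold hs
  rw [cj_mul, IsMon.cj_ws S hg a u hu, IsMon.cj_ws S hg a (-1) (neg_ne_zero.mpr one_ne_zero), mul_neg_one]

end SysB

end Cfsg.Agent.Lib.Lead.STB
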