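import Mathlib
import Cfsg.Agent.Lib.Lead.STB.Defs
import Cfsg.Agent.Lib.Lead.STB.Defs3
import Cfsg.Agent.Lib.Lead.STDB1
import Cfsg.Agent.Lib.Helper22.STBN1
import Cfsg.Agent.Lib.Helper25.STBN6
import Cfsg.Agent.Lib.Helper5.STBF2b

/-!
# Project STB (designer lead, S2094), part 2, row F5 (helper13), VERBATIM: `recell`
(if the `j`-coordinate of `y` is not `0` then `y * p` lies in `cell o j`).
-/

set_option autoImplicit false

namespace Cfsg.Agent.Lib.Lead.STB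

open Cfsg.Agent.Lib.helper15.St2 Cfsg.Agent.Lib.helper3.STC Cfsg.Agent.Lib.Lead.STD

universe v w

namespace SysB

variable {K : Type*} [Field K] {ι : Type*} [DecidableEq ι] {G : Type*} [Group G] (S : SysB K ι G)

section F
variable (o : ι ⊕ ι)

theorem recell [Finite K] {j : ι ⊕ ι} (hj : j ≠ o) (hj' : j ≠ ng o) {u : K} (hu : u ≠ 0) {y' p : G} (hy' : y' ∈ S.Yj o j) (hp : p ∈ S.Phat o) :
    S.x j o u * y' * p ∈ S.cell o j := by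
  have hoj : o ≠ j := hj.symm
  have hoj' : o ≠ ng j := fun h => hj' (by rw [h, ng_ng])
  have hu' : -u⁻¹ ≠ 0 := neg_ne_zero.mpr (inv_ne_zero hu)
  have e1 : S.x j o u = S.w j o u * S.x j o (-u) * S.x o j u⁻¹ := by
    show S.x j o u = S.toSysD.w j o u * S.x j o (-u) * S.x o j u⁻¹
    unfold SysD.w
    rw [S.toSysD.x_neg j o u, S.toSysD.x_neg o j u⁻¹]
    group
  obtain ⟨y₂, hy₂, p₂, hp₂, e2⟩ := S.Yj_Pg o hj hj' y' hy' u⁻¹
  have e3 : S.w j o u = S.w o j 1 * S.h o j (-u⁻¹)⁻¹ := by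
    show S.toSysD.w j o u = S.toSysD.w o j 1 * S.toSysD.h o j (-u⁻¹)⁻¹
    rw [S.toSysD.w_swap hoj hoj' u hu, S.toSysD.w_eq_w_one_mul_h hoj hoj' (-u⁻¹) hu']
  obtain ⟨hP, hN⟩ := S.NP_h o hj hj' (t := (-u⁻¹)⁻¹) (inv_ne_zero hu')
  have hy₃ : S.x j o (-u) * y' * y₂ ∈ S.Yg o :=
    mul_mem (mul_mem (S.x_mem_Yg o j (-u)) (S.Yj_le_Yg o j hy')) hy₂
  refine ⟨cj (S.h o j (-u⁻¹)⁻¹) (S.x j o (-u) * y' * y₂), hN _ hy₃, S.h o j (-u⁻¹)⁻¹ * (p₂ * p),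
    mul_mem hP (mul_mem (S.Pg_le_Phat o hp₂) hp), ?_⟩
  calc S.x j o u * y' * p
      = S.w o j 1 * S.h o j (-u⁻¹)⁻¹ * S.x j o (-u) * (S.x o j u⁻¹ * y') * p := by
        rw [e1, e3]; group
    _ = S.w o j 1 * cj (S.h o j (-u⁻¹)⁻¹) (S.x j o (-u) * y' * y₂) * (S.h o j (-u⁻¹)⁻¹ * (p₂ * p)) := by
        rw [e2]; unfold cj; group

end F

end SysB

end Cfsg.Agent.Lib.Lead.STB
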