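import Mathlib
import Cfsg.Agent.Lib.Lead.STB.Defs
import Cfsg.Agent.Lib.Lead.STB.Defs3
import Cfsg.Agent.Lib.Helper1.STBX1
import Cfsg.Agent.Lib.Helper22.STBN1
import Cfsg.Agent.Lib.Helper5.STBN4s
import Cfsg.Agent.Lib.helper15.STBN4a

/-!
# Project STB (designer lead, S2094), part 2, row F6 (helper13), CORE: the dichotomy `Yg_dich`
from the statement of F6a `YT_dich` (at `T = Finset.univ`).
-/

set_option autoImplicit false

namespace Cfsg.Agent.Lib.Lead.STB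

open Cfsg.Agent.Lib.helper15.St2 Cfsg.Agent.Lib.helper3.STC Cfsg.Agent.Lib.Lead.STD

universe v w

namespace SysB

variable {K : Type*} [Field K] {ι : Type*} [DecidableEq ι] {G : Type*} [Group G] (S : SysB K ι G)

section F
variable (o : ι ⊕ ι)

omit [DecidableEq ι] in
theorem stbf6_Ys_le_YT : S.Ys o ≤ S.YT o Set.univ := by
  unfold Ys YT
  exact S.XQ_mono (Q := fun _ b => b = o) (Q' := fun a b => b = o ∧ a ∈ (Set.univ : Set (ι ⊕ ι)))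
    (Qs := fun _ => False) (Qs' := fun _ => False) (fun a b _ _ h => ⟨h, Set.mem_univ a⟩) (fun _ h => h)

omit [DecidableEq ι] in
theorem stbf6_YT_le_Yj (j : ι ⊕ ι) : S.YT o (Set.univ \ {j}) ≤ S.Yj o j := by
  unfold YT Yj
  exact S.XQ_mono (Q := fun a b => b = o ∧ a ∈ ((Set.univ : Set (ι ⊕ ι)) \ {j})) (Q' := fun a b => b = o ∧ a ≠ j)
    (Qs := fun _ => False) (Qs' := fun a => a = ng o) (fun a b _ _ h => ⟨h.1, fun e => h.2.2 e⟩) (fun _ h => h.elim)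

omit [DecidableEq ι] in
theorem stbf6_xs_mem_Yj (j : ι ⊕ ι) (u : K) : S.xs (ng o) u ∈ S.Yj o j := by
  unfold Yj
  exact S.xs_mem_XQ (Q := fun a b => b = o ∧ a ≠ j) (Qs := fun a => a = ng o) (a := ng o) rfl u

omit [DecidableEq ι] in
/-- the core of F6: `hT` is the statement of F6a `YT_dich` for the full set. -/
theorem stbf6_core
    (hT : ∀ y ∈ S.YT o (Set.univ : Set (ι ⊕ ι)), y = 1 ∨
      ∃ j, j ≠ o ∧ j ≠ ng o ∧ ∃ u : K, u ≠ 0 ∧ ∃ y' ∈ S.YT o ((Set.univ : Set (ι ⊕ ι)) \ {j}), y = S.x j o u * y') :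
    ∀ y ∈ S.Yg o,
      (∃ j, j ≠ o ∧ j ≠ ng o ∧ ∃ u : K, u ≠ 0 ∧ ∃ y' ∈ S.Yj o j, y = S.x j o u * y') ∨ ∃ u : K, y = S.xs (ng o) u := by
  intro y hy
  obtain ⟨u, y₁, hy₁, rfl⟩ := S.Yg_decomp_s o y hy
  rcases hT y₁ (S.stbf6_Ys_le_YT o hy₁) with h1 | ⟨j, hj, hj', u', hu', y', hy', rfl⟩
  · right
    exact ⟨u, by rw [h1, mul_one]⟩
  · left
    refine ⟨j, hj, hj', u', hu', S.xs (ng o) u * y',
      mul_mem (S.stbf6_xs_mem_Yj o j u) (S.stbf6_YT_le_Yj o j hy'), ?_⟩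
    have hc := S.Yg_comm o (S.xs (ng o) u) (S.xs_mem_Yg o u) (S.x j o u') (S.x_mem_Yg o j u')
    rw [← mul_assoc, hc, mul_assoc]

end F

end SysB

end Cfsg.Agent.Lib.Lead.STB
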