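import Mathlib
import Cfsg.Agent.Lib.Lead.STB.Defs
import Cfsg.Agent.Lib.Lead.STB.Defs3
import Cfsg.Agent.Lib.helper15.STBF6a
import Cfsg.Agent.Lib.Helper13.STBF6core

/-!
# Project STB (designer lead, S2094), part 2, row F6 (helper13), VERBATIM: the dichotomy `Yg_dich`
(`stbf6_core` on helper15's `YT_dich`).
-/

set_option autoImplicit false

namespace Cfsg.Agent.Lib.Lead.STB

open Cfsg.Agent.Lib.helper15.St2 Cfsg.Agent.Lib.helper3.STC Cfsg.Agent.Lib.Lead.STD

universe v w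

namespace SysB

variable {K : Type*} [Field K] {ι : Type*} [DecidableEq ι] {G : Type*} [Group G] (S : SysB K ι G)

section F
variable (o : ι ⊕ ι)

theorem Yg_dich [Finite ι] : ∀ y ∈ S.Yg o,
    (∃ j, j ≠ o ∧ j ≠ ng o ∧ ∃ u : K, u ≠ 0 ∧ ∃ y' ∈ S.Yj o j, y = S.x j o u * y') ∨ ∃ u : K, y = S.xs (ng o) u := by
  have := Fintype.ofFinite (ι ⊕ ι)
  apply S.stbf6_core o
  intro y hy
  have h := S.YT_dich o Finset.univ y (by rwa [Finset.coe_univ])
  rcases h with h | ⟨j, -, hj, hj', u, hu, y', hy', e⟩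
  · left; exact h
  · right; exact ⟨j, hj, hj', u, hu, y', by rwa [Finset.coe_univ] at hy', e⟩

end F

end SysB

end Cfsg.Agent.Lib.Lead.STB
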