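import Mathlib
import Cfsg.Agent.Lib.Helper10.SZC.Defs

/-!
# Project SZC (S4775, designer helper10), row A1 (`arith`), verbatim.
-/

set_option autoImplicit false
open scoped ComplexConjugate

namespace Cfsg.Agent.Lib.Helper10.SZC

/-- Bezout certificate for coprimality of naturals. -/
theorem h13_szcA1_cop (x y : ℕ) (u v : ℤ) (h : u * x + v * y = 1) : Nat.Coprime x y := by
  rw [← Nat.isCoprime_iff_coprime]
  exact ⟨u, v, h⟩

/-- `r ^ 2 = 2 * q`, `q ≥ 8`: `r = 2 (t + 2)`, `q = 2 (t + 2) ^ 2`. -/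
theorem h13_szcA1_param {q r : ℕ} (hq : 8 ≤ q) (hr : r ^ 2 = 2 * q) :
    ∃ t : ℕ, r = 2 * t + 4 ∧ q = 2 * t ^ 2 + 8 * t + 8 := by
  have hev : Even r := by
    have h2 : Even (r ^ 2) := by rw [hr]; exact even_two_mul q
    exact (Nat.even_pow.1 h2).1
  obtain ⟨s, hs⟩ := hev
  have hq2 : q = 2 * s * s := by
    rw [hs] at hr
    nlinarith
  have hs2 : 2 ≤ s := by
    by_contra hlt
    push Not at hlt
    have h1 : s ≤ 1 := by omega
    have h2 : s * s ≤ 1 := by nlinarith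
    have h3 : q = 2 * (s * s) := by rw [hq2]; ring
    omega
  obtain ⟨t, rfl⟩ := Nat.exists_eq_add_of_le hs2
  refine ⟨t, by omega, ?_⟩
  rw [hq2]; ring

/-- A1 -/
theorem arith {q r : ℕ} (hq : 8 ≤ q) (hr : r ^ 2 = 2 * q) :
    Even r ∧ Even q ∧ 4 ≤ r ∧ r + 4 ≤ q ∧
    aN q r false * aN q r true = q ^ 2 + 1 ∧
    Nat.Coprime (aN q r false) (aN q r true) ∧
    (∀ i, Nat.Coprime (aN q r i) (q ^ 2 * (q - 1))) ∧
    (∀ i, 4 ∣ aN q r i - 1) ∧ (∀ i, 5 ≤ aN q r i) ∧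
    (aN q r false - 1) / 4 + (aN q r true - 1) / 4 = q / 2 ∧
    aN q r false = aN q r true + 2 * r := by
  obtain ⟨t, rfl, rfl⟩ := h13_szcA1_param hq hr
  have hf : aN (2 * t ^ 2 + 8 * t + 8) (2 * t + 4) false = 2 * t ^ 2 + 10 * t + 13 := by
    simp only [aN]; ring_nf; simp
  have ht : aN (2 * t ^ 2 + 8 * t + 8) (2 * t + 4) true = 2 * t ^ 2 + 6 * t + 5 := by
    simp only [aN, if_true]
    have : 2 * t ^ 2 + 8 * t + 8 - (2 * t + 4) = 2 * t ^ 2 + 6 * t + 4 := by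
      have : 2 * t ^ 2 + 8 * t + 8 = (2 * t ^ 2 + 6 * t + 4) + (2 * t + 4) := by ring
      omega
    rw [this]
  have hq1 : 2 * t ^ 2 + 8 * t + 8 - 1 = 2 * t ^ 2 + 8 * t + 7 := by omega
  -- parities of products of consecutive numbers
  obtain ⟨a, ha⟩ : ∃ a, (t + 2) * (t + 3) = 2 * a := by
    have := Nat.even_mul_succ_self (t + 2)
    obtain ⟨a, ha⟩ := this
    exact ⟨a, by rw [show t + 3 = t + 2 + 1 by ring, ha]; ring⟩
  obtain ⟨b, hb⟩ : ∃ b, (t + 1) * (t + 2) = 2 * b := by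
    have := Nat.even_mul_succ_self (t + 1)
    obtain ⟨b, hb⟩ := this
    exact ⟨b, by rw [show t + 2 = t + 1 + 1 by ring, hb]; ring⟩
  have hfa : 2 * t ^ 2 + 10 * t + 13 - 1 = 4 * a := by
    have : 2 * t ^ 2 + 10 * t + 12 = 4 * a := by nlinarith
    omega
  have htb : 2 * t ^ 2 + 6 * t + 5 - 1 = 4 * b := by
    have : 2 * t ^ 2 + 6 * t + 4 = 4 * b := by nlinarith
    omega
  have hcop1 : Nat.Coprime (2 * t ^ 2 + 10 * t + 13) (2 * t ^ 2 + 8 * t + 8) := by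
    apply h13_szcA1_cop _ _ (-(2 * (t : ℤ) + 3)) (2 * (t : ℤ) + 5)
    push_cast; ring
  have hcop2 : Nat.Coprime (2 * t ^ 2 + 6 * t + 5) (2 * t ^ 2 + 8 * t + 8) := by
    apply h13_szcA1_cop _ _ (2 * (t : ℤ) + 5) (-(2 * (t : ℤ) + 3))
    push_cast; ring
  -- `x y - (q - 1)(q + 1) = 2`
  have hcop3 : Nat.Coprime (2 * t ^ 2 + 10 * t + 13) (2 * t ^ 2 + 8 * t + 7) := by
    apply h13_szcA1_cop _ _
      (1 - ((t : ℤ) ^ 2 + 5 * t + 6) * (2 * (t : ℤ) ^ 2 + 6 * t + 5))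
      (((t : ℤ) ^ 2 + 5 * t + 6) * (2 * (t : ℤ) ^ 2 + 8 * t + 9))
    push_cast; ring
  have hcop4 : Nat.Coprime (2 * t ^ 2 + 6 * t + 5) (2 * t ^ 2 + 8 * t + 7) := by
    apply h13_szcA1_cop _ _
      (1 - ((t : ℤ) ^ 2 + 3 * t + 2) * (2 * (t : ℤ) ^ 2 + 10 * t + 13))
      (((t : ℤ) ^ 2 + 3 * t + 2) * (2 * (t : ℤ) ^ 2 + 8 * t + 9))
    push_cast; ring
  have hcop5 : Nat.Coprime (2 * t ^ 2 + 10 * t + 13) (2 * t ^ 2 + 6 * t + 5) := by
    apply h13_szcA1_cop _ _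
      (1 + ((t : ℤ) ^ 2 + 5 * t + 6) * ((t : ℤ) + 1))
      (-(((t : ℤ) ^ 2 + 5 * t + 6) * ((t : ℤ) + 3)))
    push_cast; ring
  refine ⟨⟨t + 2, by ring⟩, ⟨t ^ 2 + 4 * t + 4, by ring⟩, by omega, by nlinarith, ?_, ?_, ?_,
    ?_, ?_, ?_, ?_⟩
  · rw [hf, ht]; ring
  · rw [hf, ht]; exact hcop5
  · intro i
    cases i
    · rw [hf, hq1]
      exact Nat.Coprime.mul_right (Nat.Coprime.pow_right 2 hcop1) hcop3
    · rw [ht, hq1]
      exact Nat.Coprime.mul_right (Nat.Coprime.pow_right 2 hcop2) hcop4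
  · intro i
    cases i
    · rw [hf, hfa]; exact dvd_mul_right 4 a
    · rw [ht, htb]; exact dvd_mul_right 4 b
  · intro i
    cases i
    · rw [hf]; nlinarith
    · rw [ht]; nlinarith
  · rw [hf, ht, hfa, htb, Nat.mul_div_cancel_left a (by norm_num),
      Nat.mul_div_cancel_left b (by norm_num)]
    have h2 : 2 * t ^ 2 + 8 * t + 8 = 2 * (t ^ 2 + 4 * t + 4) := by ring
    rw [h2, Nat.mul_div_cancel_left _ (by norm_num)]
    nlinarith
  · rw [hf, ht]; ring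

end Cfsg.Agent.Lib.Helper10.SZC
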