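import Cfsg.Agent.Lib.Helper21.TS.XA
import Cfsg.Agent.Lib.helper8.TSTRANSA

/-!
# Project TS (S5666): piece LAMSUB (`lamU_add lamU_neg lamU_scalar lamU_conj lamU_move lamU_smul`)
`Λ_u` is an `F`-subspace containing the scalars, stable under conjugation by `O(B)`, independent of `u ≠ 0`.
-/

set_option autoImplicit false
set_option linter.unusedSectionVars false
set_option linter.unusedVariables false

namespace Cfsg.Agent.Lib.Helper21.TS

open Matrix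
open scoped Kronecker
open Cfsg.Agent.Lib.helper7.TP

variable {ι : Type*} [Fintype ι] [DecidableEq ι] {a b : ℕ} {F : Type*} [Field F]
  {J1 : Matrix (Fin a) (Fin a) F} {J2 : Matrix (Fin b) (Fin b) F}
  {M : Subgroup (Matrix.GeneralLinearGroup (Fin a × Fin b) F)}

/-- LAMSUB [M] (needs `TS/XA.lean`). `Λ_u` is an additive group (`XAm_mul`). -/
theorem lamU_add (C : Ctx J1 J2) {u : Fin a → F} {η η' : Matrix (Fin b) (Fin b) F}
    (h : η ∈ LamU J1 J2 M u) (h' : η' ∈ LamU J1 J2 M u) : η + η' ∈ LamU J1 J2 M u := by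
  obtain ⟨hs, hm⟩ := h
  obtain ⟨hs', hm'⟩ := h'
  refine ⟨hs.add hs', ?_⟩
  rw [← XAm_mul J1 u (bf_self_alt C.alt C.two u)]
  exact hm.mul hm'

theorem lamU_neg (C : Ctx J1 J2) {u : Fin a → F} {η : Matrix (Fin b) (Fin b) F}
    (h : η ∈ LamU J1 J2 M u) : -η ∈ LamU J1 J2 M u := by
  obtain ⟨hs, hm⟩ := h
  refine ⟨hs.neg, ?_⟩
  apply hm.of_mul_eq_one
  rw [XAm_mul J1 u (bf_self_alt C.alt C.two u), add_neg_cancel, XAm_zero]

/-- LAMSUB. scalars: `X_u(c • 1) = t_u(c) ⊗ 1 ∈ T0`. -/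
theorem lamU_scalar (C : Ctx J1 J2) (hT0 : T0 J1 J2 ≤ M) (u : Fin a → F) (c : F) :
    c • (1 : Matrix (Fin b) (Fin b) F) ∈ LamU J1 J2 M u := by
  have hu : bf J1 u u = 0 := bf_self_alt C.alt C.two u
  refine ⟨(selfAdj_one J2).smul c, ?_⟩
  rw [XAm_scalar]
  refine ⟨kronG (tvG J1 u hu c) 1,
    hT0 (kronG_mem_T0 (tvG_mem_Iso C.alt u hu c) (Iso J2).one_mem), ?_⟩
  rw [kronG_coe, tvG_coe, Units.val_one]

/-- LAMSUB. `(1 ⊗ β) X_u(η) (1 ⊗ β)⁻¹ = X_u(β η β⁻¹)`. -/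
theorem lamU_conj (C : Ctx J1 J2) (hT0 : T0 J1 J2 ≤ M) {u : Fin a → F} {η : Matrix (Fin b) (Fin b) F}
    (h : η ∈ LamU J1 J2 M u) {β : Matrix.GeneralLinearGroup (Fin b) F} (hβ : β ∈ Iso J2) :
    (β : Matrix (Fin b) (Fin b) F) * η * ((β⁻¹ : Matrix.GeneralLinearGroup (Fin b) F) : Matrix (Fin b) (Fin b) F)
      ∈ LamU J1 J2 M u := by
  obtain ⟨hs, hm⟩ := h
  refine ⟨hs.conj hβ, ?_⟩
  rw [← XAm_conjB]
  exact hm.conj (hT0 (kronG_mem_T0 (Iso J1).one_mem hβ))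

/-- LAMSUB. `(α ⊗ 1) X_u(η) (α ⊗ 1)⁻¹ = X_{αu}(η)`; with `sp_trans`: `Λ_u` does not depend on `u ≠ 0`. -/
theorem lamU_move (C : Ctx J1 J2) (hT0 : T0 J1 J2 ≤ M) {u u' : Fin a → F} (hu : u ≠ 0) (hu' : u' ≠ 0)
    {η : Matrix (Fin b) (Fin b) F} (h : η ∈ LamU J1 J2 M u) : η ∈ LamU J1 J2 M u' := by
  obtain ⟨α, hα, rfl⟩ := sp_trans C.alt C.two C.det1 hu hu'
  obtain ⟨hs, hm⟩ := h
  refine ⟨hs, ?_⟩
  rw [← XAm_conjA u η α hα]
  exact hm.conj (hT0 (kronG_mem_T0 hα (Iso J2).one_mem))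

/-- auxiliary: `0 ∈ Λ_u`. -/
theorem tslamsub_zero (u : Fin a → F) : (0 : Matrix (Fin b) (Fin b) F) ∈ LamU J1 J2 M u := by
  refine ⟨selfAdj_zero J2, ?_⟩
  rw [XAm_zero]
  exact InM_one M

/-- auxiliary: `(x * x) • η ∈ Λ_u`. -/
theorem tslamsub_sq (C : Ctx J1 J2) (hT0 : T0 J1 J2 ≤ M) {u : Fin a → F} (hu : u ≠ 0)
    {η : Matrix (Fin b) (Fin b) F} (h : η ∈ LamU J1 J2 M u) (x : F) : (x * x) • η ∈ LamU J1 J2 M u := by
  by_cases hx : x = 0
  · rw [hx, mul_zero, zero_smul]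
    exact tslamsub_zero u
  · have hxu : x • u ≠ 0 := smul_ne_zero hx hu
    obtain ⟨hs, hm⟩ := lamU_move C hT0 hu hxu h
    refine ⟨hs.smul _, ?_⟩
    rw [← XAm_smul_left]
    exact hm

/-- auxiliary: in a finite field with `2 ≠ 0` every element is a sum of two squares. -/
theorem tslamsub_two_sq [Fintype F] (two : (2 : F) ≠ 0) (c : F) : ∃ x y : F, x * x + y * y = c := by
  classical
  have hchar : ringChar F ≠ 2 := by
    intro h2
    apply two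
    have := CharP.cast_eq_zero F (ringChar F)
    rw [h2] at this
    exact_mod_cast this
  have hodd : Fintype.card F % 2 = 1 := FiniteField.odd_card_of_char_ne_two hchar
  let f : Polynomial F := Polynomial.X ^ 2
  let g : Polynomial F := Polynomial.X ^ 2 - Polynomial.C c
  obtain ⟨x, y, hxy⟩ : ∃ x y, f.eval x + g.eval y = 0 :=
    FiniteField.exists_root_sum_quadratic (Polynomial.degree_X_pow 2)
      (Polynomial.degree_X_pow_sub_C (by decide) _) hodd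
  refine ⟨x, y, ?_⟩
  simp only [f, g, Polynomial.eval_C, Polynomial.eval_X, Polynomial.eval_pow, Polynomial.eval_sub] at hxy
  linear_combination hxy

/-- LAMSUB. `Λ_u` is an `F`-subspace: `X_{λu}(η) = X_u(λ² η)`, `lamU_move` to `λ u`, and every element of a finite
field is a sum of two squares (`FiniteField.exists_root_sum_quadratic`). -/
theorem lamU_smul [Fintype F] (C : Ctx J1 J2) (hT0 : T0 J1 J2 ≤ M) {u : Fin a → F} (hu : u ≠ 0)
    {η : Matrix (Fin b) (Fin b) F} (h : η ∈ LamU J1 J2 M u) (c : F) : c • η ∈ LamU J1 J2 M u := by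
  obtain ⟨x, y, hxy⟩ := tslamsub_two_sq C.two c
  rw [← hxy, add_smul]
  exact lamU_add C (tslamsub_sq C hT0 hu h x) (tslamsub_sq C hT0 hu h y)

end Cfsg.Agent.Lib.Helper21.TS
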