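import Mathlib
import Cfsg.Agent.Lib.Helper9.A2S.Defs

set_option autoImplicit false

namespace Cfsg.Agent.Lib.Helper9.A2S

open Equiv

/-- an element of `2`-power order has a conjugate in any given Sylow `2`-subgroup -/
theorem a2sPM1_conj_mem {G : Type*} [Group G] [Finite G] (T : Sylow 2 G) (c : G) (k : ℕ)
    (hc : orderOf c = 2 ^ k) : ∃ g : G, g * c * g⁻¹ ∈ (T : Subgroup G) := by
  have hp : IsPGroup 2 ↥(Subgroup.zpowers c) := by
    apply IsPGroup.of_card (n := k)
    rw [Nat.card_zpowers, hc]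
  obtain ⟨Q, hQ⟩ := hp.exists_le_sylow
  obtain ⟨g, hg⟩ := MulAction.exists_smul_eq G Q T
  refine ⟨g, ?_⟩
  have hcQ : c ∈ (Q : Subgroup G) := hQ (Subgroup.mem_zpowers c)
  have : g * c * g⁻¹ ∈ ((g • Q : Sylow 2 G) : Subgroup G) := by
    rw [Sylow.coe_subgroup_smul]
    rw [Subgroup.mem_pointwise_smul_iff_inv_smul_mem]
    simpa [MulAut.smul_def, mul_assoc] using hcQ
  rwa [hg] at this

/-- A2S-PM1a -/
theorem exists_cycle_mem_sylow {α : Type*} [Fintype α] [DecidableEq α] (i : ℕ)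
    (hα : Fintype.card α = 2 ^ i) (hi : 1 ≤ i) (T : Sylow 2 (Perm α)) :
    ∃ x ∈ (T : Subgroup (Perm α)), x.IsCycle ∧ x.support = Finset.univ := by
  classical
  set l : List α := (Finset.univ : Finset α).toList with hl
  have hnd : l.Nodup := Finset.nodup_toList _
  have hlen : l.length = 2 ^ i := by rw [hl, Finset.length_toList, Finset.card_univ, hα]
  have h2 : 2 ≤ l.length := by
    rw [hlen]
    calc 2 = 2 ^ 1 := by norm_num
      _ ≤ 2 ^ i := Nat.pow_le_pow_right (by norm_num) hi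
  have hcyc : (l.formPerm).IsCycle := List.isCycle_formPerm hnd h2
  have hsupp : (l.formPerm).support = Finset.univ := by
    rw [List.support_formPerm_of_nodup l hnd, hl, Finset.toList_toFinset]
    intro x hx
    rw [hx] at h2
    simp at h2
  have hord : orderOf l.formPerm = 2 ^ i := by
    rw [hcyc.orderOf, hsupp, Finset.card_univ, hα]
  obtain ⟨g, hg⟩ := a2sPM1_conj_mem T l.formPerm i hord
  refine ⟨g * l.formPerm * g⁻¹, hg, hcyc.conj, ?_⟩
  rw [Perm.support_conj, hsupp]
  ext a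
  simp only [Finset.mem_map, Finset.mem_univ, true_and, iff_true]
  exact ⟨g⁻¹ a, by simp⟩

/-- A2S-PM1b -/
theorem exists_swap_mem_sylow {α : Type*} [Fintype α] [DecidableEq α]
    (hα : 2 ≤ Fintype.card α) (T : Sylow 2 (Perm α)) :
    ∃ τ ∈ (T : Subgroup (Perm α)), τ.IsSwap := by
  classical
  obtain ⟨a, b, hab⟩ := Fintype.exists_pair_of_one_lt_card (α := α) (by omega)
  have hord : orderOf (swap a b) = 2 ^ 1 := by
    rw [pow_one]
    exact orderOf_eq_prime (by rw [pow_two, swap_mul_self]) (by simpa [swap_eq_one_iff] using hab)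
  obtain ⟨g, hg⟩ := a2sPM1_conj_mem T (swap a b) 1 hord
  refine ⟨g * swap a b * g⁻¹, hg, g a, g b, ?_, ?_⟩
  · intro h
    exact hab (g.injective h)
  · exact (swap_apply_apply g a b).symm

end Cfsg.Agent.Lib.Helper9.A2S
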