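import Mathlib
import Cfsg.Agent.Lib.helper15.S5972.Defs
import Cfsg.Agent.Lib.helper15.S5972OS2CTX
import Cfsg.Agent.Lib.Helper21.S5955N10w

/-!
# Project S5972 (designer helper15), row MAXEL, core (twin of S5955 N10): the instances of TRANSPORT and
TRANSPORTD for the spaces `OS2 F h k` enter as hypotheses.  `s5972maxel_build` is shared with DISTEL.
-/

set_option autoImplicit false
set_option linter.unusedVariables false

namespace Cfsg.Agent.Lib.helper15.S5972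

open Polynomial Module Cfsg.Agent.Lib.Helper13.S5955

/-- the instance of TRANSPORT (`o_transport`) used by MAXEL / DISTEL -/
def S5972MaxelT (F : Type*) [Field F] (r d : ℕ) : Prop :=
  ∀ (h k : ℕ) (y' : Module.End F (Fin h ⊕ Fin h → F)), OCtx r (os2B y' r k) (os2X y' k) →
    finrank F (OS2 F h k) = 2 * d + 1 →
    ∃ (y : Module.End F (Unit ⊕ (Fin d ⊕ Fin d) → F))
      (ψ : (Unit ⊕ (Fin d ⊕ Fin d) → F) ≃ₗ[F] OS2 F h k) (c : F), c ≠ 0 ∧ OCtx r (stdO d F) y ∧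
      (∀ u v, os2B y' r k (ψ u) (ψ v) = c * stdO d F u v) ∧ (∀ u, ψ (y u) = os2X y' k (ψ u))

/-- the instance of TRANSPORTD (`o_transport_dims`) used by MAXEL / DISTEL -/
def S5972MaxelTD (F : Type*) [Field F] (r d : ℕ) : Prop :=
  ∀ (h k : ℕ) (y' : Module.End F (Fin h ⊕ Fin h → F))
    (y : Module.End F (Unit ⊕ (Fin d ⊕ Fin d) → F))
    (ψ : (Unit ⊕ (Fin d ⊕ Fin d) → F) ≃ₗ[F] OS2 F h k) (c : F), c ≠ 0 →
    (∀ u v, os2B y' r k (ψ u) (ψ v) = c * stdO d F u v) → (∀ u, ψ (y u) = os2X y' k (ψ u)) →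
    finrank F (fixS y) = finrank F (fixS (os2X y' k)) ∧ (y = 1 ↔ os2X y' k = 1) ∧
      ((∀ W, SInv (os2X y' k) W → STI (os2B y' r k) W → W ≤ fixS (os2X y' k)) →
        ∀ W, SInv y W → STI (stdO d F) W → W ≤ fixS y)

/-- from a fixed-point-free symplectic `y'` of odd order `r` on the standard `2h`-space, `2h + k = 2d + 1`, `h ≥ 1`:
an orthogonal context `≠ 1` on the standard `(2d+1)`-space with fixed space of dimension `k`. -/
theorem s5972maxel_build {F : Type*} [Field F] (r d : ℕ) (hr : Odd r) (hr1 : 1 < r)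
    (hT : S5972MaxelT F r d) (hTD : S5972MaxelTD F r d)
    (h k : ℕ) (hh : 1 ≤ h) (hhk : 2 * h + k = 2 * d + 1)
    (y' : Module.End F (Fin h ⊕ Fin h → F)) (hy' : SCtx r (stdB h F) y') (hfix : fixS y' = ⊥) :
    ∃ y : Module.End F (Unit ⊕ (Fin d ⊕ Fin d) → F), OCtx r (stdO d F) y ∧ y ≠ 1 ∧
      finrank F (fixS y) = k ∧
      ((∀ W, SInv (os2X y' k) W → STI (os2B y' r k) W → W ≤ fixS (os2X y' k)) →
        ∀ W, SInv y W → STI (stdO d F) W → W ≤ fixS y) := by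
  obtain ⟨hctx, hdim, hfx, hne⟩ := os2_ctx (F := F) r k hr hr1 y' hy' hfix
  rw [hhk] at hdim
  obtain ⟨y, ψ, c, hc0, hy, hB, hx⟩ := hT h k y' hctx hdim
  obtain ⟨hfd, h1, hall⟩ := hTD h k y' y ψ c hc0 hB hx
  exact ⟨y, hy, fun hy1 => hne hh (h1.mp hy1), by rw [hfd, hfx], hall⟩

/-- MAXEL core -/
theorem s5972maxel_core {F : Type*} [Field F] [Fintype F] {p : ℕ} [Fact p.Prime] [CharP F p]
    (hp2 : p ≠ 2) (r : ℕ) [Fact r.Prime] (hrp : r ≠ p) (hr2 : r ≠ 2) (d i c : ℕ)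
    (hi : i = orderOf ((Fintype.card F : ℕ) : ZMod r)) (hc : c = if Even i then i else 2 * i)
    (hcd : c ≤ 2 * d + 1) (hT : S5972MaxelT F r d) (hTD : S5972MaxelTD F r d) :
    ∃ y : Module.End F (Unit ⊕ (Fin d ⊕ Fin d) → F), OCtx r (stdO d F) y ∧ y ≠ 1 ∧
      finrank F (fixS y) = (2 * d + 1) % c := by
  have hrpr : r.Prime := Fact.out
  have hodd : Odd r := hrpr.odd_of_ne_two hr2
  have hipos : 0 < i := hi ▸ Cfsg.Agent.Lib.Helper24.el_ord_pos (F := F) (p := p) r hrp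
  -- `c = 2 e`, `e ≥ 1`
  obtain ⟨e, he2⟩ : ∃ e, c = 2 * e := by
    by_cases hie : Even i
    · obtain ⟨k, hk⟩ := hie
      exact ⟨k, by rw [hc, if_pos ⟨k, hk⟩, hk]; ring⟩
    · exact ⟨i, by rw [hc, if_neg hie]⟩
  have hcpos : 0 < c := by
    by_cases hie : Even i
    · rw [hc, if_pos hie]; exact hipos
    · rw [hc, if_neg hie]; omega
  have he : 1 ≤ e := by omega
  have hed : e ≤ d := by omega
  -- `d' = e * (d / e)`
  set A : ℕ := d / e with hA
  have hA1 : 1 ≤ A := Nat.div_pos hed he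
  set d' : ℕ := e * A with hd'
  have hd'1 : 1 ≤ d' := Nat.mul_pos he hA1
  have hd'd : d' ≤ d := Nat.mul_div_le d e
  have hmod : (2 * d') % c = 0 := by
    rw [he2, hd', ← mul_assoc]
    exact Nat.mul_mod_right _ _
  have hk : 2 * d' + (2 * d + 1) % c = 2 * d + 1 := by
    have h1 : (2 * d + 1) % (2 * e) = 2 * (d % e) + 1 := by
      have := Nat.div_add_mod d e
      have h2 : 2 * d + 1 = (2 * e) * (d / e) + (2 * (d % e) + 1) := by nlinarith
      rw [h2, Nat.mul_add_mod]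
      apply Nat.mod_eq_of_lt
      have := Nat.mod_lt d he
      omega
    rw [he2, h1, hd']
    have := Nat.div_add_mod d e
    nlinarith
  have hcd' : c ≤ 2 * d' := by
    rw [he2, hd']
    nlinarith
  obtain ⟨y', hy', hy'1, hfix'⟩ := maxel (F := F) r hrp hr2 d' i c hi hc hcd'
  rw [hmod] at hfix'
  have hfix : fixS y' = ⊥ := Submodule.finrank_eq_zero.mp hfix'
  obtain ⟨y, hy, hy1, hfd, -⟩ := s5972maxel_build r d hodd hrpr.one_lt hT hTD d' _ hd'1 hk y' hy' hfix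
  exact ⟨y, hy, hy1, hfd⟩

end Cfsg.Agent.Lib.helper15.S5972
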