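import Mathlib
import Cfsg.Agent.Lib.Helper13.S5972MAXELcore
import Cfsg.Agent.Lib.Helper24.S5972TRANSPORT
import Cfsg.Agent.Lib.Helper25.S5972TRANSPORTD

/-!
# Project S5972 (designer helper15), row MAXEL (`o_maxel`), verbatim; and the two instances
`s5972maxel_T` / `s5972maxel_TD` of TRANSPORT / TRANSPORTD (shared with DISTEL).
-/

set_option autoImplicit false
set_option linter.unusedVariables false

namespace Cfsg.Agent.Lib.helper15.S5972

open Polynomial Module Cfsg.Agent.Lib.Helper13.S5955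

theorem s5972maxel_two_ne {F : Type*} [Field F] {p : ℕ} [Fact p.Prime] [CharP F p]
    (hp2 : p ≠ 2) : (2 : F) ≠ 0 := by
  apply Ring.two_ne_zero
  rw [ringChar.eq F p]
  exact hp2

theorem s5972maxel_T {F : Type*} [Field F] [Fintype F] (h2 : (2 : F) ≠ 0) (r d : ℕ) :
    S5972MaxelT F r d := by
  intro h k y' hctx hdim
  exact o_transport h2 (os2B y' r k) (os2X y' k) hctx d hdim

theorem s5972maxel_TD {F : Type*} [Field F] (r d : ℕ) : S5972MaxelTD F r d := by
  intro h k y' y ψ c hc hB hx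
  obtain ⟨-, hfd, h1, hall⟩ :=
    o_transport_dims (stdO d F) y (os2B y' r k) (os2X y' k) ψ c hc hB hx
  exact ⟨hfd, h1, hall⟩

/-- MAXEL [M]: an isometry `≠ 1` of order `r` of the standard `(2d+1)`-space whose fixed space has dimension `(2d+1) mod c`.
(S5955 `maxel` (Helper21/S5955N10w.lean) with `2d' = c ⌊(2d+1)/c⌋`: `fixS y = ⊥`; OS2CTX with `k = (2d+1) mod c`; TRANSPORT + TRANSPORTD.) -/
theorem o_maxel {F : Type*} [Field F] [Fintype F] {p : ℕ} [Fact p.Prime] [CharP F p]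
    (hp2 : p ≠ 2) (r : ℕ) [Fact r.Prime] (hrp : r ≠ p) (hr2 : r ≠ 2) (d i c : ℕ)
    (hi : i = orderOf ((Fintype.card F : ℕ) : ZMod r)) (hc : c = if Even i then i else 2 * i)
    (hcd : c ≤ 2 * d + 1) :
    ∃ y : Module.End F (Unit ⊕ (Fin d ⊕ Fin d) → F), OCtx r (stdO d F) y ∧ y ≠ 1 ∧
      finrank F (fixS y) = (2 * d + 1) % c :=
  s5972maxel_core hp2 r hrp hr2 d i c hi hc hcd
    (s5972maxel_T (s5972maxel_two_ne (F := F) hp2) r d) (s5972maxel_TD r d)

end Cfsg.Agent.Lib.helper15.S5972
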