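import Mathlib
import Cfsg.Agent.Lib.Helper10.BGL.FldDefs
import Cfsg.Agent.Lib.helper23.BGLFL04

/-!
# Project BGL (designer Helper10; S2189 / S2190), block FLD, row FL8 (`aset_div_two`): CORE on the statement of FL6 (`sl2_conj_two`).
-/

set_option autoImplicit false

namespace Cfsg.Agent.Lib.Helper10.BGL

open Cfsg.Lie Cfsg.Lie.ChevalleyDatum Cfsg.Agent.Lib.helper8

universe u

variable {K : Type u} [Field K] [Finite K]

/-- FL8 core: `hFL6` is the statement of FL6 `sl2_conj_two`. -/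
theorem bglfl08_core [CharP K 2]
    (hFL6 : ∀ (S : Subgroup (Matrix.SpecialLinearGroup (Fin 2) K)) (t u : K), t ≠ 0 → sx t ∈ S → sx u ∈ S →
      sy (1 : K) ∈ S → sy (u / t) ∈ S)
    (D : ChevalleyDatum)
    (hD : D ∈ [chevG2, chevB2, chevD4, chevF4, chevE6, chevE7, chevE8]) (a : ℕ)
    (H : Subgroup (GL D.Idx K)) (hL : Lq D K (2 ^ a) ≤ H) (s : ℕ) (hs : s < D.nroots) (t u : K)
    (ht : t ∈ Aset D H s) (hu : u ∈ Aset D H s) (ht0 : t ≠ 0) : u / t ∈ Aset D H s := by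
  haveI : Fact (Nat.Prime 2) := ⟨Nat.prime_two⟩
  have hB := h8base_all.{u} D hD
  obtain ⟨φ, hφx, hφy⟩ := aset_sl2 (K := K) D hD s hs
  have h1 : (1 : K) ∈ Aset D H (D.neg s) := aset_rat D H (2 ^ a) hL hB (D.neg s) 1 (one_pow _)
  have hx : sx t ∈ H.comap φ := by
    rw [Subgroup.mem_comap, hφx]
    exact (aset_iff D hB H s t).1 ht
  have hxu : sx u ∈ H.comap φ := by
    rw [Subgroup.mem_comap, hφx]
    exact (aset_iff D hB H s u).1 hu
  have hy : sy (1 : K) ∈ H.comap φ := by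
    rw [Subgroup.mem_comap, hφy]
    exact (aset_iff D hB H (D.neg s) 1).1 h1
  have h := hFL6 (H.comap φ) t u ht0 hx hxu hy
  rw [Subgroup.mem_comap, hφy] at h
  rw [← aset_negroot 2 D hD a H hL s hs]
  exact (aset_iff D hB H (D.neg s) (u / t)).2 h

end Cfsg.Agent.Lib.Helper10.BGL
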