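import Mathlib
import Cfsg.Agent.Lib.Helper10.BGL.FldDefs
import Cfsg.Agent.Lib.Helper13.BGLFL08core
import Cfsg.Agent.Lib.helper23.BGLFL06

/-!
# Project BGL (designer Helper10; S2189 / S2190), block FLD, row FL8 (`aset_div_two`), VERBATIM vs `Helper10/BGL/SkelFLD.lean.txt`.
-/

set_option autoImplicit false

namespace Cfsg.Agent.Lib.Helper10.BGL

open Cfsg.Lie Cfsg.Lie.ChevalleyDatum Cfsg.Agent.Lib.helper8

universe u

variable {K : Type u} [Field K] [Finite K]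

/-- FL8 [S-M].  FL5 (`S = H.comap φ`), FL6, FL4; `sy 1 ∈ S` since `1 ∈ A_{-s}` (`aset_rat`). -/
theorem aset_div_two [CharP K 2] (D : ChevalleyDatum)
    (hD : D ∈ [chevG2, chevB2, chevD4, chevF4, chevE6, chevE7, chevE8]) (a : ℕ)
    (H : Subgroup (GL D.Idx K)) (hL : Lq D K (2 ^ a) ≤ H) (s : ℕ) (hs : s < D.nroots) (t u : K)
    (ht : t ∈ Aset D H s) (hu : u ∈ Aset D H s) (ht0 : t ≠ 0) : u / t ∈ Aset D H s :=
  bglfl08_core (fun S t u ht hx hu hy => sl2_conj_two S t u ht hx hu hy) D hD a H hL s hs t u ht hu ht0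

end Cfsg.Agent.Lib.Helper10.BGL
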