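import Mathlib
import Cfsg.Agent.Lib.Helper25.BGL.PCDefs
import Cfsg.Agent.Lib.Helper10.BGL.Bridge

/-!
# Project BGL (designer helper25 for blocks PC / PA / SE), row PA04 (`pa_exc_torus`): CORE on the statement of PA02 (`pa_phi`).
-/

set_option autoImplicit false

namespace Cfsg.Agent.Lib.Helper10.BGL

open Cfsg.Lie Cfsg.Lie.ChevalleyDatum Cfsg.Agent.Lib.helper8

universe u

variable {K : Type u} [Field K]

/-- the `SL₂` word identity of the exceptional case -/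
theorem bglpa04_word (A B : K) (hA : A ≠ 0) (hB : B ≠ 0) (hsq : (A * B) ^ 2 = -1) :
    sy B * sx A * sy (-B) * sx (-A) * sy B * sx A = sd (-(A * B)) (neg_ne_zero.2 (mul_ne_zero hA hB)) := by
  have hAB : A * B ≠ 0 := mul_ne_zero hA hB
  have hinv : (-(A * B))⁻¹ = A * B := by
    apply inv_eq_of_mul_eq_one_right
    linear_combination (-1 : K) * hsq
  apply Subtype.ext
  show (sy B).1 * (sx A).1 * (sy (-B)).1 * (sx (-A)).1 * (sy B).1 * (sx A).1 = (sd (-(A * B)) _).1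
  simp only [sx, sy, sd, Matrix.mul_fin_two, hinv]
  ext i j
  fin_cases i <;> fin_cases j
  · simp
    linear_combination hsq
  · simp
    linear_combination A * hsq
  · simp
    linear_combination B * hsq
  · simp
    linear_combination (A * B + 1) * hsq

/-- PA04 core: `hPA02` is the conclusion of PA02 `pa_phi`. -/
theorem bglpa04_core (D : ChevalleyDatum) (hD : Seven D)
    (hPA02 : ∃ φ : Matrix.SpecialLinearGroup (Fin 2) K →* GL D.Idx K,
      (∀ t : K, φ (sx t) = xg D hD (D.nroots - 1) t) ∧ (∀ t : K, φ (sy t) = xg D hD 0 t) ∧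
      (∀ (t : K) (ht : t ≠ 0), φ (sd t ht) = hg D hD (D.nroots - 1) t))
    (q : ℕ) (hq : Odd q) (H : Subgroup (GL D.Idx K))
    (hL : Lq D K q ≤ H) (h : GL D.Idx K) (hh : h ∈ H) (b : GL D.Idx K) (c₁ c₂ : K) (hc₁ : c₁ ≠ 0) (hc₂ : c₂ ≠ 0)
    (h1 : ∀ s : K, b⁻¹ * xg D hD (D.nroots - 1) s * b = xg D hD (D.nroots - 1) (c₁ * s))
    (h2 : ∀ s : K, b⁻¹ * (h * xg D hD (D.nroots - 1) s * h⁻¹) * b = xg D hD 0 (c₂ * s))
    (hsq : (c₁ * c₂) ^ 2 = -1) :
    b * hg D hD (D.nroots - 1) (-(c₁ * c₂)) * b⁻¹ ∈ H := by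
  obtain ⟨φ, hφx, hφy, hφd⟩ := hPA02
  have hne : -(c₁ * c₂) ≠ 0 := neg_ne_zero.2 (mul_ne_zero hc₁ hc₂)
  -- the root elements with parameter `± 1` lie in `H`
  have hx1 : ∀ s : K, s ^ q = s → xg D hD (D.nroots - 1) s ∈ H := fun s hs =>
    hL (x_mem_Lq D q (D.nroots - 1) s hs _ (xg_val D hD (D.nroots - 1) s))
  have hone : (1 : K) ^ q = 1 := one_pow q
  have hneg : (-1 : K) ^ q = -1 := hq.neg_one_pow
  -- the conjugates of the six factors
  have hA : ∀ s : K, s ^ q = s → b * xg D hD (D.nroots - 1) (c₁ * s) * b⁻¹ ∈ H := by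
    intro s hs
    rw [← h1 s]
    have : b * (b⁻¹ * xg D hD (D.nroots - 1) s * b) * b⁻¹ = xg D hD (D.nroots - 1) s := by group
    rw [this]
    exact hx1 s hs
  have hB : ∀ s : K, s ^ q = s → b * xg D hD 0 (c₂ * s) * b⁻¹ ∈ H := by
    intro s hs
    rw [← h2 s]
    have : b * (b⁻¹ * (h * xg D hD (D.nroots - 1) s * h⁻¹) * b) * b⁻¹ =
        h * xg D hD (D.nroots - 1) s * h⁻¹ := by group
    rw [this]
    exact H.mul_mem (H.mul_mem hh (hx1 s hs)) (H.inv_mem hh)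
  have hA1 : b * φ (sx c₁) * b⁻¹ ∈ H := by
    have := hA 1 hone
    rwa [mul_one, ← hφx] at this
  have hA2 : b * φ (sx (-c₁)) * b⁻¹ ∈ H := by
    have := hA (-1) hneg
    rwa [mul_neg, mul_one, ← hφx] at this
  have hB1 : b * φ (sy c₂) * b⁻¹ ∈ H := by
    have := hB 1 hone
    rwa [mul_one, ← hφy] at this
  have hB2 : b * φ (sy (-c₂)) * b⁻¹ ∈ H := by
    have := hB (-1) hneg
    rwa [mul_neg, mul_one, ← hφy] at this
  rw [← hφd (-(c₁ * c₂)) hne, ← bglpa04_word c₁ c₂ hc₁ hc₂ hsq]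
  simp only [map_mul]
  have e : b * (φ (sy c₂) * φ (sx c₁) * φ (sy (-c₂)) * φ (sx (-c₁)) * φ (sy c₂) * φ (sx c₁)) * b⁻¹ =
      (b * φ (sy c₂) * b⁻¹) * (b * φ (sx c₁) * b⁻¹) * (b * φ (sy (-c₂)) * b⁻¹) * (b * φ (sx (-c₁)) * b⁻¹) *
        (b * φ (sy c₂) * b⁻¹) * (b * φ (sx c₁) * b⁻¹) := by group
  rw [e]
  exact H.mul_mem (H.mul_mem (H.mul_mem (H.mul_mem (H.mul_mem hB1 hA1) hB2) hA2) hB1) hA1

end Cfsg.Agent.Lib.Helper10.BGL
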