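import Cfsg.Agent.Lib.Helper13.PResidual
import Mathlib.GroupTheory.Transfer

set_option autoImplicit false

namespace Cfsg.Agent.Lib.Helper13

variable {G : Type*} [Group G]

/-- Burnside: if a Sylow `p`-subgroup is central in its normalizer, `O^p(G)` is a `p'`-group. -/
theorem not_dvd_card_pResidual_of_burnside [Finite G] {p : ℕ} [Fact p.Prime] (P : Sylow p G)
    (hP : Subgroup.normalizer ((P : Subgroup G) : Set G) ≤ Subgroup.centralizer ((P : Subgroup G) : Set G)) :
    ¬ p ∣ Nat.card ↥(Cfsg.pResidual p G) := by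
  have hp : p.Prime := Fact.out
  have hle : Cfsg.pResidual p G ≤ (MonoidHom.transferSylow P hP).ker := by
    unfold Cfsg.pResidual
    rw [Subgroup.closure_le]
    intro x hx
    have hx' : Nat.Coprime (orderOf x) p := hx
    show x ∈ (MonoidHom.transferSylow P hP).ker
    rw [MonoidHom.mem_ker]
    have h1 : orderOf (MonoidHom.transferSylow P hP x) ∣ orderOf x := orderOf_map_dvd _ x
    obtain ⟨k, hk⟩ := (IsPGroup.iff_orderOf.mp P.isPGroup') (MonoidHom.transferSylow P hP x)
    have h2 : Nat.Coprime (orderOf (MonoidHom.transferSylow P hP x)) p :=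
      Nat.Coprime.coprime_dvd_left h1 hx'
    rw [hk] at h2
    rcases Nat.eq_zero_or_pos k with rfl | hpos
    · rw [pow_zero] at hk
      exact orderOf_eq_one_iff.mp hk
    · exfalso
      have : p ∣ Nat.gcd (p ^ k) p := Nat.dvd_gcd (dvd_pow_self p hpos.ne') dvd_rfl
      rw [Nat.Coprime] at h2
      rw [h2] at this
      exact hp.one_lt.ne' (Nat.dvd_one.mp this)
  intro hdvd
  exact MonoidHom.not_dvd_card_ker_transferSylow P hP (hdvd.trans (Subgroup.card_dvd_of_le hle))

/-- A group whose `O^p` is a `p'`-group has a normal `p`-complement. -/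
theorem hasNormalPComplement_of_not_dvd_card_pResidual [Finite G] {p : ℕ} [Fact p.Prime]
    (P : Sylow p G) (h : ¬ p ∣ Nat.card ↥(Cfsg.pResidual p G)) :
    (Cfsg.pResidual p G).IsComplement' (P : Subgroup G) := by
  haveI := pResidual_normal' (G := G) p
  have hp : p.Prime := Fact.out
  apply Subgroup.isComplement'_of_disjoint_and_mul_eq_univ
  · rw [disjoint_iff, eq_bot_iff]
    intro x hx
    have hx1 : x ∈ Cfsg.pResidual p G := (Subgroup.mem_inf.mp hx).1
    have hx2 : x ∈ (P : Subgroup G) := (Subgroup.mem_inf.mp hx).2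
    obtain ⟨k, hk⟩ := (IsPGroup.iff_orderOf.mp P.isPGroup') ⟨x, hx2⟩
    rw [Subgroup.orderOf_mk] at hk
    have hdvd : orderOf x ∣ Nat.card ↥(Cfsg.pResidual p G) := by
      have := orderOf_dvd_natCard (⟨x, hx1⟩ : ↥(Cfsg.pResidual p G))
      rwa [Subgroup.orderOf_mk] at this
    rcases Nat.eq_zero_or_pos k with rfl | hpos
    · rw [pow_zero] at hk
      rw [Subgroup.mem_bot]
      exact orderOf_eq_one_iff.mp hk
    · exfalso
      apply h
      refine dvd_trans ?_ hdvd
      rw [hk]
      exact dvd_pow_self p hpos.ne'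
  · rw [← Subgroup.normal_mul, sup_comm, sylow_sup_pResidual_eq_top (P : Subgroup G) P.not_dvd_index]
    rfl

end Cfsg.Agent.Lib.Helper13
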