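import Mathlib
import Cfsg.Agent.Lib.Helper22.C3L.Defs

set_option autoImplicit false
set_option linter.unusedVariables false
set_option linter.unusedSectionVars false

/-!
# Project C3L (leader helper22) -> S5886, piece N2 (helper13): `n2`, VERBATIM vs `Helper22/C3L/Skel.lean.txt`.
Jacobson density for the simple `A`-module `W`; `End_A W` is `F` because its image in `K` is a proper subalgebra.
-/

namespace Cfsg.Agent.Lib.Helper22.C3L

open Module

variable {F K V : Type*} [Field F] [Field K] [Algebra F K] [AddCommGroup V] [Module F V] [Module K V]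
  [IsScalarTower F K V]

theorem n2 [FiniteDimensional F K] {W : Type*} [AddCommGroup W] [Module F W] [Module K W] [IsScalarTower F K W]
    (hW : finrank K W = 1) (hr : (finrank F K).Prime) (A : Subalgebra F (Module.End F W))
    (hK : ∀ a : K, kmul F K a ∈ A) (T : Module.End F W) (hT : T ∈ A) (hTK : ∀ a : K, T ≠ kmul F K a) : A = ⊤ := by
  classical
  obtain ⟨w0, hw0, hgen⟩ := finrank_eq_one_iff'.1 hW
  haveI : Module.Finite K W := Module.finite_of_finrank_eq_succ hW
  haveI : Module.Finite F W := Module.Finite.trans K W
  have hsm : ∀ (a : A) (w : W), a • w = (a : Module.End F W) w := fun a w => rfl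
  -- `W` is a simple `A`-module
  haveI : Nontrivial W := ⟨⟨w0, 0, hw0⟩⟩
  haveI : IsSimpleModule A W := by
    rw [isSimpleModule_iff]
    refine { exists_pair_ne := ⟨⊥, ⊤, bot_ne_top⟩, eq_bot_or_eq_top := ?_ }
    intro N
    by_cases hN : N = ⊥
    · exact Or.inl hN
    · right
      obtain ⟨w, hwN, hw⟩ := (Submodule.ne_bot_iff N).1 hN
      rw [eq_top_iff]
      intro w' _
      -- w' = b • w for some b : K
      obtain ⟨a, rfl⟩ := hgen w
      obtain ⟨a', rfl⟩ := hgen w'
      have ha : a ≠ 0 := by
        intro h0
        apply hw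
        rw [h0, zero_smul]
      have h1 : a' • w0 = (⟨kmul F K (a' * a⁻¹), hK _⟩ : A) • (a • w0) := by
        rw [hsm]
        simp only [kmul_apply]
        rw [smul_smul, mul_assoc, inv_mul_cancel₀ ha, mul_one]
      rw [h1]
      exact N.smul_mem _ hwN
  -- the subalgebra `Z` of `K`
  let Z : Subalgebra F K :=
    { carrier := {b | ∀ S ∈ A, kmul F K b * S = S * kmul F K b}
      mul_mem' := by
        intro b b' hb hb' S hS
        have e : kmul F K (V := W) (b * b') = kmul F K b * kmul F K b' := by
          apply LinearMap.ext; intro w; simp [mul_smul]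
        rw [e, mul_assoc, hb' S hS, ← mul_assoc, hb S hS, mul_assoc]
      add_mem' := by
        intro b b' hb hb' S hS
        have e : kmul F K (V := W) (b + b') = kmul F K b + kmul F K b' := by
          apply LinearMap.ext; intro w; simp [add_smul]
        rw [e, add_mul, mul_add, hb S hS, hb' S hS]
      algebraMap_mem' := by
        intro c S hS
        apply LinearMap.ext
        intro w
        simp only [Module.End.mul_apply, kmul_apply, algebraMap_smul, map_smul] }
  have hZmem : ∀ b : K, b ∈ Z ↔ ∀ S ∈ A, kmul F K b * S = S * kmul F K b := fun b => Iff.rfl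
  haveI : IsSimpleOrder (Subalgebra F K) := Subalgebra.isSimpleOrder_of_finrank_prime F K hr
  have hZbot : Z = ⊥ := by
    rcases eq_bot_or_eq_top Z with h | h
    · exact h
    · exfalso
      -- `T` commutes with `K`, so `T = kmul c`
      obtain ⟨c, hc⟩ := hgen (T w0)
      apply hTK c
      apply LinearMap.ext
      intro w
      obtain ⟨a, rfl⟩ := hgen w
      have ha : a ∈ Z := by rw [h]; exact Algebra.mem_top
      have h1 := LinearMap.congr_fun ((hZmem a).1 ha T hT) w0
      simp only [Module.End.mul_apply, kmul_apply] at h1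
      rw [← h1, ← hc, kmul_apply, smul_comm]
  -- `A`-endomorphisms of `W` are `F`-scalars
  have hend : ∀ φ : Module.End A W, ∃ c : F, ∀ w, φ w = c • w := by
    intro φ
    have hφK : ∀ (a : K) (w : W), φ (a • w) = a • φ w := by
      intro a w
      have := φ.map_smul (⟨kmul F K a, hK a⟩ : A) w
      rw [hsm, hsm] at this
      simpa using this
    obtain ⟨b, hb⟩ := hgen (φ w0)
    have hφ : ∀ w, φ w = b • w := by
      intro w
      obtain ⟨a, rfl⟩ := hgen w
      rw [hφK, ← hb, smul_comm]
    have hbZ : b ∈ Z := by
      rw [hZmem]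
      intro S hS
      apply LinearMap.ext
      intro w
      simp only [Module.End.mul_apply, kmul_apply]
      have := φ.map_smul (⟨S, hS⟩ : A) w
      rw [hsm, hsm] at this
      simp only at this
      rw [← hφ, ← hφ, this]
    rw [hZbot, Algebra.mem_bot] at hbZ
    obtain ⟨c, rfl⟩ := hbZ
    refine ⟨c, fun w => ?_⟩
    rw [hφ, algebraMap_smul]
  -- density
  rw [eq_top_iff]
  intro S₀ _
  let f : Module.End (Module.End A W) W :=
    { toFun := fun w => S₀ w
      map_add' := fun x y => map_add S₀ x y
      map_smul' := by
        intro φ w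
        obtain ⟨c, hc⟩ := hend φ
        simp only [Module.End.smul_def, RingHom.id_apply]
        rw [hc, hc, map_smul] }
  obtain ⟨s, hs⟩ := Module.Finite.fg_top (R := F) (M := W)
  obtain ⟨a, ha⟩ := jacobson_density f s
  have e : S₀ = (a : Module.End F W) := by
    apply LinearMap.ext_on hs
    intro m hm
    have := ha m (by simpa using hm)
    rw [hsm] at this
    exact this
  rw [e]
  exact a.2

end Cfsg.Agent.Lib.Helper22.C3L
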