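import Mathlib
import Cfsg.Agent.Lib.Helper13.OTS.Defs
import Cfsg.Agent.Lib.helper15.OTSQS2CTX
import Cfsg.Agent.Lib.helper15.OTSQS2DIST
import Cfsg.Agent.Lib.Helper21.OTSISOSTD
import Cfsg.Agent.Lib.Helper27.OTSTRANSPORTD
import Cfsg.Agent.Lib.Helper21.S5955N10w
import Cfsg.Agent.Lib.Helper1.S5955N11

/-!
# Project OTS (designer helper13), rows MAXEL + DISTEL, cores: the statements of FORMEX and QS2TY enter as hypotheses
(QS2CTX, QS2DIST, ISOSTD, TRANSPORTD, S5955 `maxel` / `distel` are cited).  `otsmaxel_build` is shared by the two rows.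
-/

set_option autoImplicit false
set_option linter.unusedVariables false

namespace Cfsg.Agent.Lib.Helper13.OTS

open Polynomial Module Cfsg.Agent.Lib.Helper13.S5955 Cfsg.Agent.Lib.helper15.S5972

/-- the statement of FORMEX over `F` -/
def OtsFormEx (F : Type*) [Field F] [Fintype F] : Prop :=
  ∀ (k₀ : ℕ) (s₀ : ℤ), (s₀ = 1 ∨ s₀ = -1) → (k₀ = 0 → s₀ = 1) →
    ∃ (κ : Type) (_ : Fintype κ) (_ : DecidableEq κ) (Q₀ : QuadraticForm F (κ → F)),
      (QuadraticMap.polarBilin Q₀).Nondegenerate ∧ Fintype.card κ = 2 * k₀ ∧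
      Cfsg.Agent.Lib.Helper16.OSemi.IsType (⇑Q₀) k₀ s₀

/-- the statement of QS2TY over `F`, for the prime `r` -/
def OtsQs2Ty (F : Type*) [Field F] [Fintype F] (r i : ℕ) : Prop :=
  ∀ (h : ℕ) (κ : Type) [Fintype κ] [DecidableEq κ]
    (y : Module.End F (Fin h ⊕ Fin h → F)), SCtx r (stdB h F) y → fixS y = ⊥ →
    ∀ (Q₀ : QuadraticForm F (κ → F)), (QuadraticMap.polarBilin Q₀).Nondegenerate → ∀ (k₀ : ℕ),
    Fintype.card κ = 2 * k₀ → ∀ (s₀ : ℤ), (s₀ = 1 ∨ s₀ = -1) →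
    Cfsg.Agent.Lib.Helper16.OSemi.IsType (⇑Q₀) k₀ s₀ →
    QTy (qs2Q y Q₀) ⊤ (s₀ * SCy i (2 * h))

/-- `SCy` is a sign -/
theorem otsmaxel_scy (i g : ℕ) : SCy i g = 1 ∨ SCy i g = -1 := by
  unfold SCy
  split_ifs
  · exact Or.inl rfl
  · exact Or.inr rfl

theorem otsmaxel_scy_sq (i g : ℕ) : SCy i g * SCy i g = 1 := by
  rcases otsmaxel_scy i g with h | h <;> rw [h] <;> norm_num

/-- if `FMin = 0` the whole space has the type of a fixed-point-free element -/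
theorem otsmaxel_fmin_zero (i c d : ℕ) (ε : ℤ) (hε : ε = 1 ∨ ε = -1) (hc : 0 < c)
    (h0 : FMin i c d ε = 0) : (2 * d) % c = 0 ∧ ε * SCy i (2 * d) = 1 := by
  unfold FMin at h0
  split_ifs at h0 with hcond
  · omega
  · refine ⟨h0, ?_⟩
    have hiff : ε = 1 ↔ (Odd i ∨ Even ((2 * d) / i)) := by
      by_contra hne
      exact hcond ⟨h0, hne⟩
    unfold SCy
    split_ifs with h
    · rw [hiff.mpr h]; norm_num
    · have : ε ≠ 1 := fun h1 => h (hiff.mp h1)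
      rcases hε with h1 | h1
      · exact absurd h1 this
      · rw [h1]; norm_num

/-- from a fixed-point-free symplectic `y'` of odd order `r` on the standard `2h`-space, `2h + 2k₀ = 2d`, `h ≥ 1`:
a quadratic context `≠ 1` on the standard space `Qs` with fixed space of dimension `2k₀`. -/
theorem otsmaxel_build {F : Type*} [Field F] [Fintype F] {p : ℕ} [Fact p.Prime] [CharP F p]
    {ι : Type} [Fintype ι] [DecidableEq ι] (Qs : QuadraticForm F (ι → F)) (d : ℕ) (ε : ℤ)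
    (hs : QStd Qs d ε) (r : ℕ) [Fact r.Prime] (hrp : r ≠ p) (hr2 : r ≠ 2) (i : ℕ)
    (hFE : OtsFormEx F) (hTY : OtsQs2Ty F r i)
    (h k₀ : ℕ) (hh : 1 ≤ h) (hhk : 2 * h + 2 * k₀ = 2 * d) (hk0 : k₀ = 0 → ε * SCy i (2 * h) = 1)
    (y' : Module.End F (Fin h ⊕ Fin h → F)) (hy' : SCtx r (stdB h F) y') (hfix : fixS y' = ⊥) :
    ∃ y : Module.End F (ι → F), QCtx r Qs y ∧ y ≠ 1 ∧ finrank F (fixS y) = 2 * k₀ ∧
      ((∀ U : Submodule F (Fin h ⊕ Fin h → F), SInv y' U → STI (stdB h F) U → U = ⊥) →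
        ∀ W : Submodule F (ι → F), SInv y W → QTS Qs W → W ≤ fixS y) := by
  have hrpr : r.Prime := Fact.out
  have hppr : p.Prime := Fact.out
  have hodd : Odd r := hrpr.odd_of_ne_two hr2
  have hrF : ((r : ℕ) : F) ≠ 0 := by
    intro h0
    have := (CharP.cast_eq_zero_iff F p r).mp h0
    exact hrp ((Nat.prime_dvd_prime_iff_eq hppr hrpr).mp this).symm
  have hs₀ : ε * SCy i (2 * h) = 1 ∨ ε * SCy i (2 * h) = -1 := by
    rcases hs.eps with h1 | h1 <;> rcases otsmaxel_scy i (2 * h) with h2 | h2 <;>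
      rw [h1, h2] <;> norm_num
  obtain ⟨κ, hκF, hκD, Q₀, hQ₀, hκ, hty₀⟩ := hFE k₀ (ε * SCy i (2 * h)) hs₀ hk0
  obtain ⟨hctx, hdim, hfx, hne⟩ := qs2_ctx (F := F) (κ := κ) r hodd hrpr.one_lt y' hy' hfix Q₀ hQ₀
  have hty := hTY h κ y' hy' hfix Q₀ hQ₀ k₀ hκ _ hs₀ hty₀
  rw [mul_assoc, otsmaxel_scy_sq, mul_one] at hty
  rw [hκ, hhk] at hdim
  obtain ⟨ψ, hψ⟩ := q_iso_std Qs d ε hs (qs2Q y' Q₀) hctx.nd hdim hty
  obtain ⟨y, -, hy, -, hfd, h1, hall⟩ := q_transport_dims Qs (qs2Q y' Q₀) (qs2X κ y') ψ hψ hctx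
  refine ⟨y, hy, fun hy1 => hne hh (h1.mp hy1), by rw [hfd, hfx, hκ], ?_⟩
  intro hno
  apply hall
  intro W hW hWs
  exact qs2_dist r hodd hrpr.one_lt hrF y' hy' hfix hno Q₀ W hW hWs

/-- MAXEL core -/
theorem otsmaxel_core {F : Type*} [Field F] [Fintype F] {p : ℕ} [Fact p.Prime] [CharP F p]
    {ι : Type} [Fintype ι] [DecidableEq ι] (Qs : QuadraticForm F (ι → F)) (d : ℕ) (ε : ℤ)
    (hs : QStd Qs d ε) (r : ℕ) [Fact r.Prime] (hrp : r ≠ p) (hr2 : r ≠ 2) (i c : ℕ)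
    (hi : i = orderOf ((Fintype.card F : ℕ) : ZMod r)) (hc : c = if Even i then i else 2 * i)
    (hex : c + FMin i c d ε ≤ 2 * d) (hFE : OtsFormEx F) (hTY : OtsQs2Ty F r i) :
    ∃ y : Module.End F (ι → F), QCtx r Qs y ∧ y ≠ 1 ∧ finrank F (fixS y) = FMin i c d ε := by
  have hipos : 0 < i := hi ▸ Cfsg.Agent.Lib.Helper24.el_ord_pos (F := F) (p := p) r hrp
  -- `c = 2 e`, `e ≥ 1`
  obtain ⟨e, he2⟩ : ∃ e, c = 2 * e := by
    by_cases hie : Even i
    · obtain ⟨k, hk⟩ := hie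
      exact ⟨k, by rw [hc, if_pos ⟨k, hk⟩, hk]; ring⟩
    · exact ⟨i, by rw [hc, if_neg hie]⟩
  have hcpos : 0 < c := by
    by_cases hie : Even i
    · rw [hc, if_pos hie]; exact hipos
    · rw [hc, if_neg hie]; omega
  have he : 1 ≤ e := by omega
  -- `FMin = 2 k₀`, `2 d - FMin = 2 h`, `c ∣ 2 h`
  obtain ⟨k₀, h, hk₀, hhk, hmod⟩ : ∃ k₀ h : ℕ, FMin i c d ε = 2 * k₀ ∧ 2 * h + 2 * k₀ = 2 * d ∧
      (2 * h) % c = 0 := by
    unfold FMin at hex ⊢
    split_ifs at hex ⊢ with hcond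
    · refine ⟨e, d - e, he2, by omega, ?_⟩
      have h1 : 2 * (d - e) = 2 * d - c := by omega
      rw [h1]
      exact Nat.sub_mod_eq_zero_of_mod_eq (by rw [hcond.1, Nat.mod_self])
    · have h1 : (2 * d) % (2 * e) = 2 * (d % e) := Nat.mul_mod_mul_left 2 d e
      refine ⟨d % e, e * (d / e), by rw [he2, h1], ?_, ?_⟩
      · have := Nat.div_add_mod d e
        nlinarith
      · rw [he2, ← mul_assoc]
        exact Nat.mul_mod_right _ _
  have hch : c ≤ 2 * h := by omega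
  have hh : 1 ≤ h := by omega
  have hk0 : k₀ = 0 → ε * SCy i (2 * h) = 1 := by
    intro h0
    have h1 : FMin i c d ε = 0 := by rw [hk₀, h0]
    have h2 : 2 * h = 2 * d := by omega
    rw [h2]
    exact (otsmaxel_fmin_zero i c d ε hs.eps hcpos h1).2
  obtain ⟨y', hy', hy'1, hfix'⟩ := maxel (F := F) r hrp hr2 h i c hi hc hch
  rw [hmod] at hfix'
  have hfix : fixS y' = ⊥ := Submodule.finrank_eq_zero.mp hfix'
  obtain ⟨y, hy, hy1, hfd, -⟩ := otsmaxel_build Qs d ε hs r hrp hr2 i hFE hTY h k₀ hh hhk hk0 y' hy' hfix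
  exact ⟨y, hy, hy1, by rw [hfd, hk₀]⟩

/-- DISTEL core -/
theorem otsdistel_core {F : Type*} [Field F] [Fintype F] {p : ℕ} [Fact p.Prime] [CharP F p]
    {ι : Type} [Fintype ι] [DecidableEq ι] (Qs : QuadraticForm F (ι → F)) (d : ℕ) (ε : ℤ)
    (hs : QStd Qs d ε) (r : ℕ) [Fact r.Prime] (hrp : r ≠ p) (hr2 : r ≠ 2) (i : ℕ)
    (hi : i = orderOf ((Fintype.card F : ℕ) : ZMod r)) (hie : Even i)
    (hex : i + FMin i i d ε ≤ 2 * d) (hFE : OtsFormEx F) (hTY : OtsQs2Ty F r i) :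
    ∃ y : Module.End F (ι → F), QCtx r Qs y ∧ y ≠ 1 ∧
      finrank F (fixS y) + i * min ((r - 1) / i) ((2 * d - FMin i i d ε) / i) = 2 * d ∧
      ∀ W : Submodule F (ι → F), SInv y W → QTS Qs W → W ≤ fixS y := by
  have hrpr : r.Prime := Fact.out
  have hipos : 0 < i := hi ▸ Cfsg.Agent.Lib.Helper24.el_ord_pos (F := F) (p := p) r hrp
  -- `i ∣ r - 1`
  have hnd : ¬ r ∣ Fintype.card F := s5955n10_not_dvd r hrp
  have hir : i ∣ r - 1 := by
    rw [hi]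
    have hq0 : ((Fintype.card F : ℕ) : ZMod r) ≠ 0 := by
      rw [Ne, ZMod.natCast_eq_zero_iff]
      exact hnd
    exact orderOf_dvd_of_pow_eq_one (ZMod.pow_card_sub_one_eq_one hq0)
  have ht1 : 1 ≤ (r - 1) / i :=
    Nat.div_pos (Nat.le_of_dvd (Nat.sub_pos_of_lt hrpr.one_lt) hir) hipos
  set f₀ : ℕ := FMin i i d ε with hf₀
  have hn1 : 1 ≤ (2 * d - f₀) / i := Nat.div_pos (by omega) hipos
  obtain ⟨e, he⟩ : ∃ e, i = 2 * e := by
    obtain ⟨k, hk⟩ := hie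
    exact ⟨k, by rw [hk]; ring⟩
  have he1 : 1 ≤ e := by omega
  set A : ℕ := min ((r - 1) / i) ((2 * d - f₀) / i) with hA
  have hA1 : 1 ≤ A := le_min ht1 hn1
  have hAn : A ≤ (2 * d - f₀) / i := min_le_right _ _
  have hAt : A ≤ (r - 1) / i := min_le_left _ _
  have hiA : i * A ≤ 2 * d - f₀ := by
    calc i * A ≤ i * ((2 * d - f₀) / i) := Nat.mul_le_mul_left _ hAn
      _ ≤ 2 * d - f₀ := Nat.mul_div_le _ _
  set h : ℕ := e * A with hh'
  have h2h : 2 * h = i * A := by rw [hh', he]; ring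
  have hh1 : 1 ≤ h := Nat.mul_pos he1 hA1
  have hih : i ≤ 2 * h := by
    rw [h2h]
    exact Nat.le_mul_of_pos_right i hA1
  have hdiv : (2 * h) / i = A := by
    rw [h2h]
    exact Nat.mul_div_cancel_left A hipos
  obtain ⟨y', hy', hy'1, hdim', hsub'⟩ := distel (F := F) r hrp hr2 h i hi hie hih
  rw [hdiv, min_eq_right hAt, ← h2h] at hdim'
  have hfix0 : finrank F (fixS y') = 0 := by omega
  have hfix : fixS y' = ⊥ := Submodule.finrank_eq_zero.mp hfix0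
  have hno : ∀ U : Submodule F (Fin h ⊕ Fin h → F), SInv y' U → STI (stdB h F) U → U = ⊥ := by
    intro U hU hUti
    have := hsub' U hU hUti
    rw [hfix] at this
    exact le_bot_iff.mp this
  have hhd : h ≤ d := by omega
  have hhk : 2 * h + 2 * (d - h) = 2 * d := by omega
  have hk0 : d - h = 0 → ε * SCy i (2 * h) = 1 := by
    intro h0
    have h2 : 2 * h = 2 * d := by omega
    have h1 : FMin i i d ε = 0 := by omega
    rw [h2]
    exact (otsmaxel_fmin_zero i i d ε hs.eps hipos h1).2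
  obtain ⟨y, hy, hy1, hfd, hall⟩ := otsmaxel_build Qs d ε hs r hrp hr2 i hFE hTY h (d - h) hh1 hhk hk0
    y' hy' hfix
  refine ⟨y, hy, hy1, ?_, hall hno⟩
  rw [hfd, ← h2h]
  omega

end Cfsg.Agent.Lib.Helper13.OTS
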