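import Mathlib
import Cfsg.Agent.Lib.Helper13.OTSMAXELcore
import Cfsg.Agent.Lib.Helper20.OTSFORMEX
import Cfsg.Agent.Lib.helper8.OTSQS2TY

/-!
# Project OTS (designer helper13), rows MAXEL (`q_maxel`) and DISTEL (`q_distel`), verbatim.
-/

set_option autoImplicit false
set_option linter.unusedVariables false

namespace Cfsg.Agent.Lib.Helper13.OTS

open Polynomial Module Cfsg.Agent.Lib.Helper13.S5955 Cfsg.Agent.Lib.helper15.S5972

theorem otsmaxel_formex (F : Type*) [Field F] [Fintype F] : OtsFormEx F :=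
  fun k₀ s₀ hs h0 => q_form_ex k₀ s₀ hs h0

theorem otsmaxel_qs2ty {F : Type*} [Field F] [Fintype F] {p : ℕ} [Fact p.Prime] [CharP F p]
    (r : ℕ) [Fact r.Prime] (hrp : r ≠ p) (hr2 : r ≠ 2) (i : ℕ)
    (hi : i = orderOf ((Fintype.card F : ℕ) : ZMod r)) : OtsQs2Ty F r i := by
  intro h κ _ _ y hy hfix Q₀ hQ₀ k₀ hκ s₀ hs₀1 hs₀
  exact qs2_ty r hrp hr2 y hy hfix Q₀ hQ₀ k₀ hκ s₀ hs₀1 hs₀ i hi

/-- MAXEL [M-L] (twin of helper13's S5972 `o_maxel`). -/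
theorem q_maxel {F : Type*} [Field F] [Fintype F] {p : ℕ} [Fact p.Prime] [CharP F p]
    {ι : Type} [Fintype ι] [DecidableEq ι] (Qs : QuadraticForm F (ι → F)) (d : ℕ) (ε : ℤ)
    (hs : QStd Qs d ε) (r : ℕ) [Fact r.Prime] (hrp : r ≠ p) (hr2 : r ≠ 2) (i c : ℕ)
    (hi : i = orderOf ((Fintype.card F : ℕ) : ZMod r)) (hc : c = if Even i then i else 2 * i)
    (hex : c + FMin i c d ε ≤ 2 * d) :
    ∃ y : Module.End F (ι → F), QCtx r Qs y ∧ y ≠ 1 ∧ finrank F (fixS y) = FMin i c d ε :=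
  otsmaxel_core Qs d ε hs r hrp hr2 i c hi hc hex (otsmaxel_formex F) (otsmaxel_qs2ty r hrp hr2 i hi)

/-- DISTEL [M-L] (twin of helper13's S5972 `o_distel`). -/
theorem q_distel {F : Type*} [Field F] [Fintype F] {p : ℕ} [Fact p.Prime] [CharP F p]
    {ι : Type} [Fintype ι] [DecidableEq ι] (Qs : QuadraticForm F (ι → F)) (d : ℕ) (ε : ℤ)
    (hs : QStd Qs d ε) (r : ℕ) [Fact r.Prime] (hrp : r ≠ p) (hr2 : r ≠ 2) (i : ℕ)
    (hi : i = orderOf ((Fintype.card F : ℕ) : ZMod r)) (hie : Even i)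
    (hex : i + FMin i i d ε ≤ 2 * d) :
    ∃ y : Module.End F (ι → F), QCtx r Qs y ∧ y ≠ 1 ∧
      finrank F (fixS y) + i * min ((r - 1) / i) ((2 * d - FMin i i d ε) / i) = 2 * d ∧
      ∀ W : Submodule F (ι → F), SInv y W → QTS Qs W → W ≤ fixS y :=
  otsdistel_core Qs d ε hs r hrp hr2 i hi hie hex (otsmaxel_formex F) (otsmaxel_qs2ty r hrp hr2 i hi)

end Cfsg.Agent.Lib.Helper13.OTS
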