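import Cfsg.Agent.Lib.Helper13.SAGd
import Cfsg.Agent.Lib.Helper10.CoprimeGen

set_option autoImplicit false

/-! Conjugation invariance of the strong Alperin–Goldschmidt family; moving `N_G(P)`-steps to the
end (helper13). -/

namespace Cfsg.Agent.Lib.Helper13

open Cfsg.Agent.Lib.helper17 (opOf opOf_le cj_opOf)

variable {G : Type*} [Group G]

theorem ppcOf_cj_le (p : ℕ) (y : G) (N : Subgroup G) :
    (ppcOf p N).map (MulAut.conj y).toMonoidHom ≤
      ppcOf p (N.map (MulAut.conj y).toMonoidHom) := by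
  rintro _ ⟨_, ⟨k, hk, rfl⟩, rfl⟩
  have h1 := Cfsg.Agent.Lib.Helper10.pPrimePCore_map_equiv_le p
    (N.equivMapOfInjective (MulAut.conj y).toMonoidHom (MulAut.conj y).injective)
  have h2 := h1 (Subgroup.mem_map_of_mem _ hk)
  refine ⟨_, h2, ?_⟩
  rfl

theorem ppcOf_cj (p : ℕ) (y : G) (N : Subgroup G) :
    ppcOf p (N.map (MulAut.conj y).toMonoidHom) =
      (ppcOf p N).map (MulAut.conj y).toMonoidHom := by
  apply le_antisymm _ (ppcOf_cj_le p y N)
  have h1 := ppcOf_cj_le p y⁻¹ (N.map (MulAut.conj y).toMonoidHom)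
  rw [cj_inv_cj] at h1
  rw [cj_le_iff] at h1
  rw [inv_inv] at h1
  exact h1

theorem cj_sup' (g : G) (A B : Subgroup G) :
    (A ⊔ B).map (MulAut.conj g).toMonoidHom =
      A.map (MulAut.conj g).toMonoidHom ⊔ B.map (MulAut.conj g).toMonoidHom :=
  Subgroup.map_sup _ _ _

theorem relSE_cj {p : ℕ} (y : G) {T M : Subgroup G} (h : RelSE p T M) :
    RelSE p (T.map (MulAut.conj y).toMonoidHom) (M.map (MulAut.conj y).toMonoidHom) := by
  obtain ⟨hTM, hMN, hne, hd, hse⟩ := h
  refine ⟨cj_mono hTM, ?_, ?_, ?_, ?_⟩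
  · rw [normalizer_cj]
    exact cj_mono hMN
  · rw [normalizer_cj]
    intro he
    exact hne (Subgroup.map_injective (MulAut.conj y).injective he)
  · rw [relIndex_cj]
    exact hd
  · intro g hg hgM
    rw [normalizer_cj, mem_cj] at hg
    have hgM' : y⁻¹ * g * y ∉ M := fun h => hgM (mem_cj.mpr h)
    have h1 := hse _ hg hgM'
    have e : (M.map (MulAut.conj y).toMonoidHom).map (MulAut.conj g).toMonoidHom =
        (M.map (MulAut.conj (y⁻¹ * g * y)).toMonoidHom).map (MulAut.conj y).toMonoidHom := by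
      rw [cj_cj, cj_cj]
      congr 3
      group
    rw [e, ← cj_inf, relIndex_cj]
    exact h1

theorem isMinOver_cj {p : ℕ} (y : G) {T X : Subgroup G} (h : IsMinOver p T X) :
    IsMinOver p (T.map (MulAut.conj y).toMonoidHom) (X.map (MulAut.conj y).toMonoidHom) := by
  obtain ⟨hTX, hXN, hNX, hd, hmin⟩ := h
  refine ⟨cj_mono hTX, ?_, ?_, ?_, ?_⟩
  · rw [normalizer_cj]
    exact cj_mono hXN
  · rw [normalizer_cj, normalizer_cj]
    exact cj_mono hNX
  · rw [relIndex_cj]
    exact hd
  · intro Y hTY hYN hNY hdY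
    rw [normalizer_cj] at hYN hNY
    have h1 : X ≤ Y.map (MulAut.conj y⁻¹).toMonoidHom := by
      apply hmin
      · rw [← cj_le_iff]
        exact hTY
      · have := cj_mono (g := y⁻¹) hYN
        rwa [cj_inv_cj] at this
      · rw [normalizer_cj]
        have := cj_mono (g := y⁻¹) hNY
        rwa [cj_inv_cj] at this
      · have := relIndex_cj y T (Y.map (MulAut.conj y⁻¹).toMonoidHom)
        rw [cj_cj_inv] at this
        rw [← this]
        exact hdY
    rw [cj_le_iff]
    exact h1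

theorem sagFamily_cj {p : ℕ} {P H : Subgroup G} {y : G}
    (hy : y ∈ Subgroup.normalizer (P : Set G)) (h : H ∈ sagFamily p P) :
    H.map (MulAut.conj y).toMonoidHom ∈ sagFamily p P := by
  obtain ⟨hHP, hfn, hcen, hppc, M, hM⟩ := h
  have hP : P.map (MulAut.conj y).toMonoidHom = P := mem_normalizer_iff_cj_eq.mp hy
  refine ⟨?_, ?_, ?_, ?_, ⟨_, relSE_cj y hM⟩⟩
  · calc H.map (MulAut.conj y).toMonoidHom ≤ P.map (MulAut.conj y).toMonoidHom := cj_mono hHP
      _ = P := hP
  · rw [normalizer_cj]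
    nth_rewrite 1 [← hP]
    rw [← cj_inf, relIndex_cj]
    exact hfn
  · rw [centralizer_cj]
    nth_rewrite 1 [← hP]
    rw [← cj_inf]
    exact cj_mono hcen
  · rw [normalizer_cj, ppcOf_cj, hppc, cj_sup', centralizer_cj]

theorem sagStep_cj {p : ℕ} {P H : Subgroup G} {x y : G}
    (hy : y ∈ Subgroup.normalizer (P : Set G)) (h : sagStep p P H x) :
    sagStep p P (H.map (MulAut.conj y).toMonoidHom) (y * x * y⁻¹) := by
  obtain ⟨hfam, X, hX, hx⟩ := h
  refine ⟨sagFamily_cj hy hfam, _, isMinOver_cj y hX, ?_⟩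
  have := cj_opOf p y X
  unfold Cfsg.Agent.Lib.helper17.cj at this
  rw [← this]
  exact cj_mem hx

theorem PChain.conj {𝓢 : Subgroup G → G → Prop} (y : G)
    (hinv : ∀ T x, 𝓢 T x → 𝓢 (T.map (MulAut.conj y).toMonoidHom) (y * x * y⁻¹))
    {R : Subgroup G} {g : G} (h : PChain 𝓢 R g) :
    PChain 𝓢 (R.map (MulAut.conj y).toMonoidHom) (y * g * y⁻¹) := by
  induction h with
  | nil R =>
    have : y * 1 * y⁻¹ = 1 := by group
    rw [this]
    exact PChain.nil _
  | cons R T x g hS hRT _ ih =>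
    have e : y * (x * g) * y⁻¹ = (y * x * y⁻¹) * (y * g * y⁻¹) := by group
    rw [e]
    apply PChain.cons _ (T.map (MulAut.conj y).toMonoidHom) _ _ (hinv T x hS) (cj_mono hRT)
    have e2 : rc (R.map (MulAut.conj y).toMonoidHom) (y * x * y⁻¹) =
        (rc R x).map (MulAut.conj y).toMonoidHom := by
      rw [rc_def, rc_def, cj_cj, cj_cj]
      congr 3
      group
    rw [e2]
    exact ih

/-- Move the `N_G(P)`-steps to the end of the chain. -/
theorem PChain.normalize {p : ℕ} {P : Subgroup G} {R : Subgroup G} {g : G}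
    (h : PChain (sagStep' p P) R g) :
    ∃ g' y : G, y ∈ Subgroup.normalizer (P : Set G) ∧ g = g' * y ∧ PChain (sagStep p P) R g' := by
  induction h with
  | nil R => exact ⟨1, 1, one_mem _, (mul_one 1).symm, PChain.nil R⟩
  | cons R T x g hS hRT _ ih =>
    obtain ⟨g', y, hy, rfl, hch⟩ := ih
    rcases hS with hS | ⟨-, hxP⟩
    · exact ⟨x * g', y, hy, by group, PChain.cons R T x g' hS hRT hch⟩
    · refine ⟨x * g' * x⁻¹, x * y, mul_mem hxP hy, by group, ?_⟩
      have h1 := PChain.conj x (fun T z hz => sagStep_cj hxP hz) hch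
      rw [rc_def, cj_cj_inv] at h1
      exact h1

/-- Conversion of a chain into indexed data. -/
theorem PChain.exists_fin {𝓢 : Subgroup G → G → Prop} {R : Subgroup G} {g : G}
    (h : PChain 𝓢 R g) :
    ∀ (A : Set G), A ⊆ R →
    ∃ (n : ℕ) (T : Fin n → Subgroup G) (x : Fin n → G), (List.ofFn x).prod = g ∧
      (∀ i, 𝓢 (T i) (x i)) ∧
      ∀ i : Fin n,
        (fun a => (((List.ofFn x).take i.val).prod)⁻¹ * a * ((List.ofFn x).take i.val).prod) '' A ⊆
          (T i : Set G) := by
  induction h with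
  | nil R =>
    intro A _
    exact ⟨0, Fin.elim0, Fin.elim0, by simp, fun i => i.elim0, fun i => i.elim0⟩
  | cons R T x g hS hRT _ ih =>
    intro A hA
    have hA' : (fun a => x⁻¹ * a * x) '' A ⊆ ((rc R x : Subgroup G) : Set G) := by
      rintro _ ⟨a, ha, rfl⟩
      exact rc_mem (hA ha)
    obtain ⟨n, T', x', hprod, hF, hstep⟩ := ih _ hA'
    have hlist : List.ofFn (Fin.cons x x' : Fin (n + 1) → G) = x :: List.ofFn x' := by
      rw [List.ofFn_succ]
      simp
    refine ⟨n + 1, Fin.cons T T', Fin.cons x x', ?_, ?_, ?_⟩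
    · rw [hlist, List.prod_cons, hprod]
    · intro i
      refine Fin.cases ?_ (fun j => ?_) i
      · simpa using hS
      · simpa using hF j
    · intro i
      refine Fin.cases ?_ (fun j => ?_) i
      · rintro _ ⟨a, ha, rfl⟩
        simp only [Fin.val_zero, List.take_zero, List.prod_nil, inv_one, one_mul, mul_one,
          Fin.cons_zero]
        exact hRT (hA ha)
      · rintro _ ⟨a, ha, rfl⟩
        have := hstep j ⟨x⁻¹ * a * x, ⟨a, ha, rfl⟩, rfl⟩
        simp only [Fin.val_succ, Fin.cons_succ]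
        rw [hlist, List.take_succ_cons, List.prod_cons]
        have e : (x * ((List.ofFn x').take j.val).prod)⁻¹ * a * (x * ((List.ofFn x').take j.val).prod) =
            (((List.ofFn x').take j.val).prod)⁻¹ * (x⁻¹ * a * x) * ((List.ofFn x').take j.val).prod := by
          group
        rw [e]
        exact this

end Cfsg.Agent.Lib.Helper13
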