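import Cfsg.Agent.Lib.Helper13.WellPlaced2
import Mathlib.GroupTheory.Focal

set_option autoImplicit false

/-! Control of transfer: local-to-global tools (helper13). -/

namespace Cfsg.Agent.Lib.Helper13

variable {G : Type*} [Group G]

section Chain

variable {𝓕 : Set (Subgroup G)}

/-- Along a conjugation chain, `a⁻¹ a^k` is a product of local commutators. -/
theorem ConjChain.comm_mem {D : Subgroup G}
    (hstep : ∀ T ∈ 𝓕, ∀ a ∈ T, ∀ x ∈ Subgroup.normalizer ((T : Subgroup G) : Set G),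
      a⁻¹ * (x⁻¹ * a * x) ∈ D)
    {R : Subgroup G} {k : G} (h : ConjChain 𝓕 R k) : ∀ a ∈ R, a⁻¹ * (k⁻¹ * a * k) ∈ D := by
  induction h with
  | nil R =>
    intro a _
    have : a⁻¹ * ((1 : G)⁻¹ * a * 1) = 1 := by group
    rw [this]; exact D.one_mem
  | cons R T x g hT hx hRT _ ih =>
    intro a ha
    have h1 := hstep T hT a (hRT ha) x hx
    have h2 := ih (x⁻¹ * a * x) (rc_mem ha)
    have e : a⁻¹ * ((x * g)⁻¹ * a * (x * g)) =
        (a⁻¹ * (x⁻¹ * a * x)) * ((x⁻¹ * a * x)⁻¹ * (g⁻¹ * (x⁻¹ * a * x) * g)) := by group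
    rw [e]
    exact D.mul_mem h1 h2

end Chain

section Focal

variable [Finite G] {p : ℕ} [Fact p.Prime]

/-- The focal subgroup theorem, in the form used here. -/
theorem sylow_inf_commutator_le (S : Sylow p G) (K : Subgroup G)
    (h : ∀ x ∈ (S : Subgroup G), ∀ u : G, x * u * x⁻¹ * u⁻¹ ∈ (S : Subgroup G) →
      x * u * x⁻¹ * u⁻¹ ∈ K) :
    (S : Subgroup G) ⊓ ⁅(⊤ : Subgroup G), ⊤⁆ ≤ K := by
  have hfoc := Subgroup.commutator_inf_eq_focalSubgroup S
  rw [inf_comm]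
  have : _root_.commutator G = ⁅(⊤ : Subgroup G), ⊤⁆ := rfl
  rw [← this, hfoc, Subgroup.focalSubgroup_def, Subgroup.closure_le]
  rintro g ⟨hgS, x, hx, u, rfl⟩
  rw [commutatorElement_def] at hgS ⊢
  exact h x hx u hgS

/-- A commutator `⁅x,u⁆ ∈ S` with `x ∈ S` lies in `D` as soon as conjugation chains do. -/
theorem comm_mem_of_conjChain (S : Sylow p G) (𝓕 : Set (Subgroup G))
    (h𝓕 : ∀ U ∈ 𝓕, U ≤ (S : Subgroup G))
    (hfam : ∀ T : Subgroup G, T ≤ (S : Subgroup G) → ∃ U ∈ 𝓕,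
      (∃ g : G, T.map (MulAut.conj g).toMonoidHom = U) ∧
      ¬ p ∣ ((S : Subgroup G) ⊓ Subgroup.normalizer ((U : Subgroup G) : Set G)).relIndex
        (Subgroup.normalizer ((U : Subgroup G) : Set G)))
    {D : Subgroup G}
    (hstep : ∀ T ∈ 𝓕, ∀ a ∈ T, ∀ x ∈ Subgroup.normalizer ((T : Subgroup G) : Set G),
      a⁻¹ * (x⁻¹ * a * x) ∈ D) :
    (S : Subgroup G) ⊓ ⁅(⊤ : Subgroup G), ⊤⁆ ≤ D := by
  apply sylow_inf_commutator_le
  intro x hx u hg
  have hux : u * x * u⁻¹ ∈ (S : Subgroup G) := by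
    have h1 : u * x * u⁻¹ = (x⁻¹ * (x * u * x⁻¹ * u⁻¹))⁻¹ := by group
    rw [h1]
    exact Subgroup.inv_mem _ (Subgroup.mul_mem _ (Subgroup.inv_mem _ hx) hg)
  have hRS : Subgroup.zpowers x ≤ (S : Subgroup G) := by
    rw [Subgroup.zpowers_le]; exact hx
  have hrc : rc (Subgroup.zpowers x) u⁻¹ ≤ (S : Subgroup G) := by
    intro y hy
    rw [mem_rc, Subgroup.mem_zpowers_iff] at hy
    obtain ⟨n, hn⟩ := hy
    have : y = (u * x * u⁻¹) ^ n := by
      rw [conj_zpow, hn]; group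
    rw [this]
    exact Subgroup.zpow_mem _ hux n
  have hchain := conjChain_of_le S 𝓕 h𝓕 hfam (Nat.card ↥(S : Subgroup G)) (Subgroup.zpowers x) hRS
    (Nat.sub_le _ _) u⁻¹ hrc
  have := hchain.comm_mem hstep x⁻¹ (Subgroup.inv_mem _ (Subgroup.mem_zpowers x))
  have e : x⁻¹⁻¹ * (u⁻¹⁻¹ * x⁻¹ * u⁻¹) = x * u * x⁻¹ * u⁻¹ := by group
  rw [e] at this
  exact this

end Focal

section Sylow

variable [Finite G] {p : ℕ} [Fact p.Prime] {W : Subgroup G → Subgroup G}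

/-- Control of transfer in `H` holds with respect to any Sylow `p`-subgroup of `H`. -/
theorem transfer_of_sylow (hW : Cfsg.IsConjugacyFunctor p W) {H : Subgroup G}
    (hc : Cfsg.ControlsTransferIn p W H) {Q : Subgroup G} (hQH : Q ≤ H) (hQ : IsPGroup p ↥Q)
    (hQi : ¬ p ∣ Q.relIndex H) :
    Q ⊓ ⁅H, H⁆ = Q ⊓ ⁅H ⊓ Subgroup.normalizer ((W Q : Subgroup G) : Set G),
      H ⊓ Subgroup.normalizer ((W Q : Subgroup G) : Set G)⁆ := by
  obtain ⟨T, hTH, hTp, hTi, hT⟩ := hc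
  obtain ⟨k, hkH, hle⟩ := exists_mem_cj_le_of_relIndex (p := p) hQH hQ hQi hTH hTp
  have hHk : H.map (MulAut.conj k).toMonoidHom = H := cj_self_of_mem hkH
  have hTQ : T.map (MulAut.conj k).toMonoidHom = Q := by
    apply eq_of_le_of_not_dvd_relIndex (p := p) hle hQH hQ
    rw [← hHk, relIndex_cj]
    exact hTi
  have := congrArg (fun X : Subgroup G => X.map (MulAut.conj k).toMonoidHom) hT
  beta_reduce at this
  rw [cj_inf, cj_inf, Subgroup.map_commutator, Subgroup.map_commutator, cj_inf, hHk, hTQ,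
    ← normalizer_cj, ← (hW T hTp).2.2 k, hTQ] at this
  exact this

end Sylow

end Cfsg.Agent.Lib.Helper13
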