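import Mathlib
import Cfsg.Prelude.Def_ConjugacyFunctors
import Cfsg.Agent.Lib.Helper13.TransferCtl
import Cfsg.Agent.Lib.Helper13.CentralSylow
import Cfsg.Agent.Lib.Helper13.Conj

set_option autoImplicit false

open scoped commutatorElement

namespace Cfsg.Agent.Lib.Helper13

universe u

section Induced

variable {p : ℕ} [Fact p.Prime]

theorem inducedFunctor_map {G H : Type u} [Group G] [Group H] [Finite G]
    (W : ∀ (Q : Type u) [Group Q], Subgroup Q) (hW : Cfsg.IsCharPFunctor.{u} p W)
    (e : G ≃* H) (T : Subgroup G) (hT : IsPGroup p ↥T) :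
    Cfsg.inducedFunctor W (T.map e.toMonoidHom) =
      (Cfsg.inducedFunctor W T).map e.toMonoidHom := by
  unfold Cfsg.inducedFunctor
  have h1 := hW.2 ↥T ↥(T.map e.toMonoidHom) hT (e.subgroupMap T)
  rw [← h1, Subgroup.map_map, Subgroup.map_map]
  congr 1

theorem inducedFunctor_le {G : Type u} [Group G]
    (W : ∀ (Q : Type u) [Group Q], Subgroup Q) (T : Subgroup G) :
    Cfsg.inducedFunctor W T ≤ T := by
  unfold Cfsg.inducedFunctor
  exact Subgroup.map_subtype_le _

theorem inducedFunctor_ne_bot {G : Type u} [Group G] [Finite G]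
    (W : ∀ (Q : Type u) [Group Q], Subgroup Q) (hW : Cfsg.IsCharPFunctor.{u} p W)
    (T : Subgroup G) (hT : IsPGroup p ↥T) (hne : T ≠ ⊥) :
    Cfsg.inducedFunctor W T ≠ ⊥ := by
  unfold Cfsg.inducedFunctor
  have : Nontrivial ↥T := (Subgroup.nontrivial_iff_ne_bot T).mpr hne
  have h1 := hW.1 ↥T hT this
  intro h
  apply h1
  rw [Subgroup.map_eq_bot_iff_of_injective _ T.subtype_injective] at h
  exact h

theorem inducedFunctor_isConjugacyFunctor {G : Type u} [Group G] [Finite G]
    (W : ∀ (Q : Type u) [Group Q], Subgroup Q) (hW : Cfsg.IsCharPFunctor.{u} p W) :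
    Cfsg.IsConjugacyFunctor p (Cfsg.inducedFunctor (G := G) W) := by
  intro P hP
  refine ⟨inducedFunctor_le W P, inducedFunctor_ne_bot W hW P hP, fun g => ?_⟩
  exact inducedFunctor_map W hW (MulAut.conj g) P hP

theorem controlsTransferIn_map {G H : Type u} [Group G] [Group H] [Finite G]
    (W : ∀ (Q : Type u) [Group Q], Subgroup Q) (hW : Cfsg.IsCharPFunctor.{u} p W)
    (e : G ≃* H) (K : Subgroup G)
    (h : Cfsg.ControlsTransferIn p (Cfsg.inducedFunctor (G := G) W) K) :
    Cfsg.ControlsTransferIn p (Cfsg.inducedFunctor (G := H) W) (K.map e.toMonoidHom) := by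
  obtain ⟨T, hTK, hTp, hTi, hT⟩ := h
  have hinj : Function.Injective e.toMonoidHom := e.injective
  refine ⟨T.map e.toMonoidHom, Subgroup.map_mono hTK, hTp.map _, ?_, ?_⟩
  · rw [Subgroup.relIndex_map_map_of_injective _ _ hinj]
    exact hTi
  · have := congrArg (fun X : Subgroup G => X.map e.toMonoidHom) hT
    beta_reduce at this
    rw [Subgroup.map_inf _ _ _ hinj, Subgroup.map_inf _ _ _ hinj, Subgroup.map_commutator,
      Subgroup.map_commutator, Subgroup.map_inf _ _ _ hinj, Subgroup.map_equiv_normalizer_eq,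
      ← inducedFunctor_map W hW e T hTp] at this
    exact this

end Induced

section Sec

variable {p : ℕ} [Fact p.Prime]

def SecCtl (p : ℕ) (W : ∀ (Q : Type u) [Group Q], Subgroup Q) (G : Type u) [Group G] : Prop :=
  ∀ (Q : Type u) [Group Q] [Finite Q],
    (∃ (K : Subgroup G) (f : ↥K →* Q), Function.Surjective f) →
      Cfsg.ControlsTransferIn p (Cfsg.inducedFunctor (G := Q) W) ⊤

theorem secCtl_of_sections {G : Type u} [Group G] [Finite G]
    (W : ∀ (Q : Type u) [Group Q], Subgroup Q) (hW : Cfsg.IsCharPFunctor.{u} p W)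
    (hctl : ∀ (K R : Subgroup G) [hR : (R.subgroupOf K).Normal],
      Cfsg.ControlsTransferIn p (Cfsg.inducedFunctor (G := (↥K ⧸ R.subgroupOf K)) W) ⊤) :
    SecCtl p W G := by
  intro Q _ _ ⟨K, f, hf⟩
  have hR : ((f.ker.map K.subtype).subgroupOf K) = f.ker :=
    Subgroup.comap_map_eq_self_of_injective K.subtype_injective f.ker
  have : ((f.ker.map K.subtype).subgroupOf K).Normal := by rw [hR]; infer_instance
  have h1 := hctl K (f.ker.map K.subtype)
  have e : (↥K ⧸ (f.ker.map K.subtype).subgroupOf K) ≃* Q :=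
    (QuotientGroup.quotientMulEquivOfEq hR).trans (QuotientGroup.quotientKerEquivOfSurjective f hf)
  have h2 := controlsTransferIn_map W hW e ⊤ h1
  rwa [Subgroup.map_top_of_surjective _ e.surjective] at h2

theorem secCtl_subgroup {G : Type u} [Group G]
    (W : ∀ (Q : Type u) [Group Q], Subgroup Q) (h : SecCtl p W G) (N : Subgroup G) :
    SecCtl p W ↥N := by
  intro Q _ _ ⟨K, f, hf⟩
  apply h Q
  refine ⟨K.map N.subtype,
    f.comp (K.equivMapOfInjective N.subtype N.subtype_injective).symm.toMonoidHom, ?_⟩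
  exact hf.comp (K.equivMapOfInjective N.subtype N.subtype_injective).symm.surjective

theorem secCtl_quotient {G : Type u} [Group G]
    (W : ∀ (Q : Type u) [Group Q], Subgroup Q) (h : SecCtl p W G) (M : Subgroup G) [M.Normal] :
    SecCtl p W (G ⧸ M) := by
  intro Q _ _ ⟨K, f, hf⟩
  apply h Q
  refine ⟨K.comap (QuotientGroup.mk' M), f.comp ((QuotientGroup.mk' M).subgroupComap K), ?_⟩
  exact hf.comp (MonoidHom.subgroupComap_surjective_of_surjective _ K
    (QuotientGroup.mk'_surjective M))

theorem secCtl_self {G : Type u} [Group G] [Finite G]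
    (W : ∀ (Q : Type u) [Group Q], Subgroup Q) (h : SecCtl p W G) :
    Cfsg.ControlsTransferIn p (Cfsg.inducedFunctor (G := G) W) ⊤ := by
  apply h G
  exact ⟨⊤, (Subgroup.topEquiv : (⊤ : Subgroup G) ≃* G).toMonoidHom,
    (Subgroup.topEquiv : (⊤ : Subgroup G) ≃* G).surjective⟩

theorem exists_normal_index_p_of_dvd {G : Type*} [Group G] [Finite G]
    (h : p ∣ (commutator G).index) : ∃ N : Subgroup G, N.Normal ∧ N.index = p := by
  have hp : p.Prime := Fact.out
  have hpd : p ∣ Nat.card (Abelianization G) := h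
  obtain ⟨z, hz⟩ := exists_prime_orderOf_dvd_card' (G := Abelianization G) p hpd
  have hninj : ¬ Function.Injective (powMonoidHom p : Abelianization G →* Abelianization G) := by
    intro hinj
    have h1 : (powMonoidHom p : Abelianization G →* Abelianization G) z = 1 := by
      rw [powMonoidHom_apply, ← hz]; exact pow_orderOf_eq_one z
    have h2 : z = 1 := by
      apply hinj
      rw [h1, map_one]
    rw [h2, orderOf_one] at hz
    exact hp.one_lt.ne hz
  have hnsurj : ¬ Function.Surjective (powMonoidHom p : Abelianization G →* Abelianization G) :=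
    fun hs => hninj (Finite.injective_iff_surjective.2 hs)
  obtain ⟨R, hR⟩ : ∃ R, R = (powMonoidHom p : Abelianization G →* Abelianization G).range :=
    ⟨_, rfl⟩
  have hRtop : R ≠ ⊤ := by
    intro h
    rw [hR] at h
    exact hnsurj (MonoidHom.range_eq_top.1 h)
  have hRn : R.Normal := Subgroup.normal_of_isMulCommutative R
  have hE : IsPGroup p (Abelianization G ⧸ R) := by
    intro y
    obtain ⟨w, rfl⟩ := QuotientGroup.mk_surjective y
    refine ⟨1, ?_⟩
    rw [pow_one, ← QuotientGroup.mk_pow, QuotientGroup.eq_one_iff, hR]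
    exact ⟨w, rfl⟩
  obtain ⟨k, hk⟩ := IsPGroup.iff_card.1 hE
  have hk0 : k ≠ 0 := by
    intro h
    rw [h, pow_zero] at hk
    have h1 : R.index = 1 := hk
    rw [Subgroup.index_eq_one] at h1
    exact hRtop h1
  obtain ⟨K, hK⟩ := Sylow.exists_subgroup_card_pow_prime p (G := Abelianization G ⧸ R) (n := k - 1)
    (by rw [hk]; exact pow_dvd_pow p (Nat.sub_le k 1))
  have hKidx : K.index = p := by
    have h1 := Subgroup.card_mul_index K
    rw [hK, hk] at h1
    have h2 : p ^ k = p ^ (k - 1) * p := by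
      rw [← pow_succ]; congr 1; omega
    rw [h2] at h1
    exact Nat.eq_of_mul_eq_mul_left (pow_pos hp.pos _) h1
  have hKn : K.Normal := Subgroup.normal_of_isMulCommutative K
  have hof : Function.Surjective (Abelianization.of : G →* Abelianization G) :=
    QuotientGroup.mk_surjective
  refine ⟨(K.comap (QuotientGroup.mk' R)).comap (Abelianization.of : G →* Abelianization G),
    ?_, ?_⟩
  · exact Subgroup.Normal.comap (Subgroup.Normal.comap hKn _) _
  · rw [Subgroup.index_comap_of_surjective _ hof,
      Subgroup.index_comap_of_surjective _ (QuotientGroup.mk'_surjective _), hKidx]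

theorem exists_normal_index_p_of_not_le {G : Type*} [Group G] [Finite G] (S : Sylow p G)
    (h : ¬ (S : Subgroup G) ≤ commutator G) : ∃ N : Subgroup G, N.Normal ∧ N.index = p := by
  have hp : p.Prime := Fact.out
  apply exists_normal_index_p_of_dvd
  by_contra hnd
  apply h
  intro x hx
  rw [← QuotientGroup.eq_one_iff]
  obtain ⟨k, hk⟩ := (IsPGroup.iff_orderOf.mp S.isPGroup') ⟨x, hx⟩
  rw [Subgroup.orderOf_mk] at hk
  have h1 : orderOf (x : G ⧸ commutator G) ∣ p ^ k := by
    rw [← hk]
    exact orderOf_dvd_of_pow_eq_one (by rw [← QuotientGroup.mk_pow, pow_orderOf_eq_one]; rfl)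
  have h2 : orderOf (x : G ⧸ commutator G) ∣ (commutator G).index := orderOf_dvd_natCard _
  have h3 : Nat.Coprime (p ^ k) (commutator G).index :=
    Nat.Coprime.pow_left k ((Nat.Prime.coprime_iff_not_dvd hp).mpr hnd)
  have h4 := Nat.eq_one_of_dvd_coprimes h3 h1 h2
  exact orderOf_eq_one_iff.mp h4


theorem coprime_lift {G : Type*} [Group G] [Finite G] {H : Type*} [Group H] (f : G →* H)
    (g : G) (hg : (orderOf (f g)).Coprime p) :
    ∃ j : ℕ, (orderOf (g ^ j)).Coprime p ∧ f (g ^ j) = f g := by
  have hp : p.Prime := Fact.out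
  obtain ⟨k, m, hm, hkm⟩ := Nat.exists_eq_pow_mul_and_not_dvd (Nat.card_pos (α := G)).ne' p
    hp.ne_one
  have hc : (p ^ k).Coprime (orderOf (f g)) := Nat.Coprime.pow_left k hg.symm
  obtain ⟨j, hj⟩ := exists_pow_eq_self_of_coprime hc
  refine ⟨p ^ k * j, ?_, ?_⟩
  · have h1 : (g ^ (p ^ k * j)) ^ m = 1 := by
      rw [← pow_mul, mul_right_comm, pow_mul, ← hkm, pow_card_eq_one']
      exact one_pow _
    have h2 : orderOf (g ^ (p ^ k * j)) ∣ m := orderOf_dvd_of_pow_eq_one h1
    exact Nat.Coprime.coprime_dvd_left h2 ((Nat.Prime.coprime_iff_not_dvd hp).mpr hm).symm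
  · rw [map_pow, pow_mul]
    exact hj

theorem isPGroup_quotient_of_coprime_mem {G : Type*} [Group G] [Finite G] (C : Subgroup G)
    [C.Normal] (h : ∀ g : G, (orderOf g).Coprime p → g ∈ C) : IsPGroup p (G ⧸ C) := by
  have hp : p.Prime := Fact.out
  obtain ⟨k, m, hm, hkm⟩ := Nat.exists_eq_pow_mul_and_not_dvd (Nat.card_pos (α := G)).ne' p
    hp.ne_one
  intro y
  obtain ⟨g, rfl⟩ := QuotientGroup.mk_surjective y
  refine ⟨k, ?_⟩
  rw [← QuotientGroup.mk_pow, QuotientGroup.eq_one_iff]
  apply h
  have h1 : (g ^ (p ^ k)) ^ m = 1 := by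
    rw [← pow_mul, ← hkm, pow_card_eq_one']
  have h2 : orderOf (g ^ (p ^ k)) ∣ m := orderOf_dvd_of_pow_eq_one h1
  exact Nat.Coprime.coprime_dvd_left h2 ((Nat.Prime.coprime_iff_not_dvd hp).mpr hm).symm

theorem exists_normal_index_p_of_isPGroup {Q : Type*} [Group Q] [Finite Q] [Nontrivial Q]
    (hQ : IsPGroup p Q) : ∃ N : Subgroup Q, N.Normal ∧ N.index = p := by
  apply exists_normal_index_p_of_dvd
  have : Group.IsNilpotent Q := hQ.isNilpotent
  have hlt : commutator Q < ⊤ := Group.IsSolvable.commutator_lt_top_of_nontrivial Q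
  obtain ⟨n, hn⟩ := hQ.index (commutator Q)
  rw [hn]
  apply dvd_pow_self
  intro h0
  rw [h0, pow_zero, Subgroup.index_eq_one] at hn
  exact hlt.ne hn

theorem not_le_commutator_of_central {G : Type*} [Group G] [Finite G] (S : Sylow p G)
    (hS : (S : Subgroup G) ≠ ⊥) (hcen : (S : Subgroup G) ≤ Subgroup.center G) :
    ¬ (S : Subgroup G) ≤ commutator G := by
  have hp : p.Prime := Fact.out
  intro hle
  have hmul := exists_mul_of_central_sylow S hcen
  have hcomm : commutator G ≤ Cfsg.pPrimeCore p G := by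
    rw [commutator_eq_closure, Subgroup.closure_le]
    rintro _ ⟨a, b, rfl⟩
    obtain ⟨t, ht, r, hr, rfl⟩ := hmul a
    obtain ⟨t', ht', r', hr', rfl⟩ := hmul b
    have hr1 := Subgroup.mem_center_iff.mp (hcen hr)
    have hr2 := Subgroup.mem_center_iff.mp (hcen hr')
    have : ⁅t * r, t' * r'⁆ = ⁅t, t'⁆ := by
      rw [commutatorElement_def, commutatorElement_def]
      have e1 : t * r * (t' * r') = t * t' * (r * r') := by
        calc t * r * (t' * r') = t * (r * t') * r' := by group
          _ = t * (t' * r) * r' := by rw [hr1 t']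
          _ = t * t' * (r * r') := by group
      have e2 : (t * r)⁻¹ * (t' * r')⁻¹ = (r' * r)⁻¹ * (t⁻¹ * t'⁻¹) := by
        have h3 : r⁻¹ * t⁻¹ = t⁻¹ * r⁻¹ := by
          rw [← mul_inv_rev, ← mul_inv_rev, hr1 t]
        have h4 : r'⁻¹ * t'⁻¹ = t'⁻¹ * r'⁻¹ := by
          rw [← mul_inv_rev, ← mul_inv_rev, hr2 t']
        have h5 : r⁻¹ * t'⁻¹ = t'⁻¹ * r⁻¹ := by
          rw [← mul_inv_rev, ← mul_inv_rev, hr1 t']
        calc (t * r)⁻¹ * (t' * r')⁻¹ = r⁻¹ * t⁻¹ * (r'⁻¹ * t'⁻¹) := by group
          _ = t⁻¹ * r⁻¹ * (t'⁻¹ * r'⁻¹) := by rw [h3, h4]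
          _ = t⁻¹ * (r⁻¹ * t'⁻¹) * r'⁻¹ := by group
          _ = t⁻¹ * (t'⁻¹ * r⁻¹) * r'⁻¹ := by rw [h5]
          _ = (r' * r)⁻¹ * (t⁻¹ * t'⁻¹) := by
            have h6 := hr1 (t⁻¹ * t'⁻¹)
            have h7 := hr2 (t⁻¹ * t'⁻¹)
            have h8 : (r' * r)⁻¹ * (t⁻¹ * t'⁻¹) = (t⁻¹ * t'⁻¹) * (r' * r)⁻¹ := by
              rw [← inv_inj]
              simp only [mul_inv_rev, inv_inv]
              calc t' * t * (r' * r) = (t' * t * r') * r := by group
                _ = (r' * (t' * t)) * r := by rw [← hr2 (t' * t)]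
                _ = r' * ((t' * t) * r) := by group
                _ = r' * (r * (t' * t)) := by rw [hr1 (t' * t)]
                _ = r' * r * (t' * t) := by group
            rw [h8]; group
      calc t * r * (t' * r') * (t * r)⁻¹ * (t' * r')⁻¹
          = (t * r * (t' * r')) * ((t * r)⁻¹ * (t' * r')⁻¹) := by group
        _ = t * t' * (r * r') * ((r' * r)⁻¹ * (t⁻¹ * t'⁻¹)) := by rw [e1, e2]
        _ = t * t' * (r * r' * (r' * r)⁻¹) * (t⁻¹ * t'⁻¹) := by group
        _ = t * t' * t⁻¹ * t'⁻¹ := by
          have : r * r' * (r' * r)⁻¹ = 1 := by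
            rw [hr2 r]; group
          rw [this]; group
    rw [this, commutatorElement_def]
    exact Subgroup.mul_mem _ (Subgroup.mul_mem _ (Subgroup.mul_mem _ ht ht')
      (Subgroup.inv_mem _ ht)) (Subgroup.inv_mem _ ht')
  apply hS
  rw [Subgroup.eq_bot_iff_forall]
  intro x hx
  have hx' : x ∈ Cfsg.pPrimeCore p G := hcomm (hle hx)
  obtain ⟨k, hk⟩ := (IsPGroup.iff_orderOf.mp S.isPGroup') ⟨x, hx⟩
  rw [Subgroup.orderOf_mk] at hk
  have h1 : orderOf x ∣ Nat.card ↥(Cfsg.pPrimeCore p G) := by
    have := orderOf_dvd_natCard (⟨x, hx'⟩ : ↥(Cfsg.pPrimeCore p G))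
    rwa [Subgroup.orderOf_mk] at this
  have h2 : Nat.Coprime (p ^ k) (Nat.card ↥(Cfsg.pPrimeCore p G)) :=
    Nat.Coprime.pow_left k (Cfsg.Agent.Lib.Helper1.pPrimeCore_card_coprime p).symm
  have h3 := Nat.eq_one_of_dvd_coprimes h2 (hk ▸ dvd_rfl) h1
  exact orderOf_eq_one_iff.mp h3

theorem exists_index_p_of_secCtl (W : ∀ (Q : Type u) [Group Q], Subgroup Q)
    (hW : Cfsg.IsCharPFunctor.{u} p W) :
    ∀ n : ℕ, ∀ (G : Type u) [Group G] [Finite G], Nat.card G ≤ n → SecCtl p W G →
      ∀ S : Sylow p G, (S : Subgroup G) ≠ ⊥ →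
      (∀ g ∈ Subgroup.normalizer ((S : Subgroup G) : Set G), (orderOf g).Coprime p →
        g ∈ Subgroup.centralizer ((S : Subgroup G) : Set G)) →
      ∃ N : Subgroup G, N.Normal ∧ N.index = p := by
  intro n
  induction n with
  | zero =>
    intro G _ _ h
    have := Nat.card_pos (α := G)
    omega
  | succ n ih =>
    intro G _ _ hcard hsec S hS hN
    have hp : p.Prime := Fact.out
    have hconj := inducedFunctor_isConjugacyFunctor (G := G) W hW
    have hctl := secCtl_self W hsec
    have hSi : ¬ p ∣ (S : Subgroup G).relIndex ⊤ := by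
      rw [Subgroup.relIndex_top_right]; exact S.not_dvd_index
    have htr := transfer_of_sylow hconj hctl (Q := S) le_top S.isPGroup' hSi
    rw [top_inf_eq] at htr
    obtain ⟨V, hV⟩ : ∃ V, V = Cfsg.inducedFunctor (G := G) W (S : Subgroup G) := ⟨_, rfl⟩
    rw [← hV] at htr
    have hVS : V ≤ S := hV ▸ inducedFunctor_le W _
    have hVne : V ≠ ⊥ := hV ▸ inducedFunctor_ne_bot W hW _ S.isPGroup' hS
    have hNS : Subgroup.normalizer ((S : Subgroup G) : Set G) ≤
        Subgroup.normalizer (V : Set G) := by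
      intro g hg
      have h1 : (S : Subgroup G).map (MulAut.conj g).toMonoidHom = S :=
        mem_normalizer_iff_cj_eq.mp hg
      have h2 := (hconj S S.isPGroup').2.2 g
      rw [h1, ← hV] at h2
      exact mem_normalizer_iff_cj_eq.mpr h2.symm
    by_cases htop : Subgroup.normalizer (V : Set G) = ⊤
    · have hVn : V.Normal := Subgroup.normalizer_eq_top_iff.mp htop
      by_cases hVeq : V = S
      · have hall : ∀ g : G, (orderOf g).Coprime p →
            g ∈ Subgroup.centralizer ((S : Subgroup G) : Set G) := by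
          intro g hg
          apply hN g _ hg
          rw [← hVeq, htop]; trivial
        by_cases hcen : (S : Subgroup G) ≤ Subgroup.center G
        · exact exists_normal_index_p_of_not_le S (not_le_commutator_of_central S hS hcen)
        · have hSn : (S : Subgroup G).Normal := hVeq ▸ hVn
          have hCn : (Subgroup.centralizer ((S : Subgroup G) : Set G)).Normal :=
            Subgroup.normal_centralizer
          have hPQ := isPGroup_quotient_of_coprime_mem
            (Subgroup.centralizer ((S : Subgroup G) : Set G)) hall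
          have hnt : Nontrivial (G ⧸ Subgroup.centralizer ((S : Subgroup G) : Set G)) := by
            rw [QuotientGroup.nontrivial_iff]
            intro h
            apply hcen
            exact Subgroup.centralizer_eq_top_iff_subset.mp h
          obtain ⟨N, hNn, hNi⟩ := exists_normal_index_p_of_isPGroup hPQ
          refine ⟨N.comap (QuotientGroup.mk' _), inferInstance, ?_⟩
          rw [Subgroup.index_comap_of_surjective _ (QuotientGroup.mk'_surjective _), hNi]
      · have hlt : Nat.card (G ⧸ V) < Nat.card G := by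
          rw [Subgroup.card_eq_card_quotient_mul_card_subgroup V]
          have h1 : 1 < Nat.card ↥V := by
            rw [Subgroup.one_lt_card_iff_ne_bot]; exact hVne
          have h2 := Nat.card_pos (α := G ⧸ V)
          nlinarith
        have hsecQ := secCtl_quotient W hsec V
        obtain ⟨Sb, hSb⟩ : ∃ Sb : Sylow p (G ⧸ V), Sb =
            S.mapSurjective (QuotientGroup.mk'_surjective V) := ⟨_, rfl⟩
        have hSbc : (Sb : Subgroup (G ⧸ V)) = (S : Subgroup G).map (QuotientGroup.mk' V) := by
          rw [hSb]; rfl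
        have hSbne : (Sb : Subgroup (G ⧸ V)) ≠ ⊥ := by
          rw [hSbc]
          intro h
          rw [Subgroup.map_eq_bot_iff, QuotientGroup.ker_mk'] at h
          exact hVeq (le_antisymm hVS h)
        have hcm : ((S : Subgroup G).map (QuotientGroup.mk' V)).comap (QuotientGroup.mk' V) =
            (S : Subgroup G) := by
          rw [Subgroup.comap_map_eq, QuotientGroup.ker_mk']
          exact sup_eq_left.mpr hVS
        have hNb : ∀ g ∈ Subgroup.normalizer ((Sb : Subgroup (G ⧸ V)) : Set (G ⧸ V)),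
            (orderOf g).Coprime p →
            g ∈ Subgroup.centralizer ((Sb : Subgroup (G ⧸ V)) : Set (G ⧸ V)) := by
          intro gb hgb hco
          obtain ⟨g, rfl⟩ := QuotientGroup.mk'_surjective V gb
          obtain ⟨j, hj1, hj2⟩ := coprime_lift (p := p) (QuotientGroup.mk' V) g hco
          have hgn : g ∈ Subgroup.normalizer ((S : Subgroup G) : Set G) := by
            apply mem_normalizer_of_cj_le
            intro x hx
            rw [mem_cj] at hx
            rw [← hcm, Subgroup.mem_comap]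
            rw [hSbc] at hgb
            have h1 : (QuotientGroup.mk' V) (g⁻¹ * x * g) ∈
                (S : Subgroup G).map (QuotientGroup.mk' V) := Subgroup.mem_map_of_mem _ hx
            have h2 := (Subgroup.mem_normalizer_iff.mp hgb _).mp h1
            have h3 : (QuotientGroup.mk' V) g * (QuotientGroup.mk' V) (g⁻¹ * x * g) *
                ((QuotientGroup.mk' V) g)⁻¹ = (QuotientGroup.mk' V) x := by
              rw [← map_inv, ← map_mul, ← map_mul]
              congr 1
              group
            rwa [h3] at h2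
          have hgjn : g ^ j ∈ Subgroup.normalizer ((S : Subgroup G) : Set G) :=
            Subgroup.pow_mem _ hgn j
          have hgjc := hN _ hgjn hj1
          rw [← hj2, hSbc, Subgroup.mem_centralizer_iff]
          rintro _ ⟨x, hx, rfl⟩
          rw [← map_mul, ← map_mul, Subgroup.mem_centralizer_iff.mp hgjc x hx]
        obtain ⟨N, hNn, hNi⟩ := ih (G ⧸ V) (by omega) hsecQ Sb hSbne hNb
        refine ⟨N.comap (QuotientGroup.mk' _), inferInstance, ?_⟩
        rw [Subgroup.index_comap_of_surjective _ (QuotientGroup.mk'_surjective _), hNi]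
    · obtain ⟨Nw, hNw⟩ : ∃ Nw, Nw = Subgroup.normalizer (V : Set G) := ⟨_, rfl⟩
      rw [← hNw] at htr htop hNS
      have hSNw : (S : Subgroup G) ≤ Nw := Subgroup.le_normalizer.trans hNS
      have hlt : Nat.card ↥Nw < Nat.card G := by
        apply lt_of_le_of_ne (Subgroup.card_le_card_group Nw)
        intro h
        exact htop (Subgroup.eq_top_of_card_eq Nw h)
      have hsecN := secCtl_subgroup W hsec Nw
      obtain ⟨S', hS'⟩ : ∃ S' : Sylow p ↥Nw, S' = S.subtype hSNw := ⟨_, rfl⟩
      have hS'c : (S' : Subgroup ↥Nw) = (S : Subgroup G).subgroupOf Nw := by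
        rw [hS']; rfl
      have hS'ne : (S' : Subgroup ↥Nw) ≠ ⊥ := by
        rw [hS'c]
        intro h
        rw [Subgroup.subgroupOf_eq_bot, disjoint_iff, inf_eq_left.mpr hSNw] at h
        exact hS h
      have hN' : ∀ g ∈ Subgroup.normalizer ((S' : Subgroup ↥Nw) : Set ↥Nw),
          (orderOf g).Coprime p →
          g ∈ Subgroup.centralizer ((S' : Subgroup ↥Nw) : Set ↥Nw) := by
        intro g hg hco
        have hgn : (g : G) ∈ Subgroup.normalizer ((S : Subgroup G) : Set G) := by
          apply mem_normalizer_of_cj_le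
          intro x hx
          rw [mem_cj] at hx
          have hxN : x ∈ Nw := by
            have h1 := hSNw hx
            have h2 : x = (g : G) * ((g : G)⁻¹ * x * g) * (g : G)⁻¹ := by group
            rw [h2]
            exact Nw.mul_mem (Nw.mul_mem g.2 h1) (Nw.inv_mem g.2)
          rw [hS'c] at hg
          have h3 : (g⁻¹ * ⟨x, hxN⟩ * g : ↥Nw) ∈ (S : Subgroup G).subgroupOf Nw := by
            rw [Subgroup.mem_subgroupOf]
            exact hx
          have h4 := (Subgroup.mem_normalizer_iff.mp hg _).mp h3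
          rw [Subgroup.mem_subgroupOf] at h4
          have h5 : ((g * (g⁻¹ * ⟨x, hxN⟩ * g) * g⁻¹ : ↥Nw) : G) = x := by
            push_cast
            group
          rwa [h5] at h4
        have hco' : (orderOf (g : G)).Coprime p := by
          rwa [Subgroup.orderOf_coe]
        have hgc := hN _ hgn hco'
        rw [hS'c, Subgroup.mem_centralizer_iff]
        intro h hh
        rw [SetLike.mem_coe, Subgroup.mem_subgroupOf] at hh
        apply Subtype.ext
        push_cast
        exact Subgroup.mem_centralizer_iff.mp hgc _ hh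
      obtain ⟨M, hMn, hMi⟩ := ih ↥Nw (by omega) hsecN S' hS'ne hN'
      apply exists_normal_index_p_of_not_le S
      intro hle
      have hle2 : (S : Subgroup G) ≤ ⁅Nw, Nw⁆ := by
        have h1 : (S : Subgroup G) ⊓ ⁅(⊤ : Subgroup G), ⊤⁆ = S := inf_eq_left.mpr hle
        rw [htr] at h1
        exact inf_eq_left.mp h1
      have hcyc : IsCyclic (↥Nw ⧸ M) := by
        apply isCyclic_of_prime_card (p := p)
        exact hMi
      have hcomm : commutator ↥Nw ≤ M :=
        Subgroup.Normal.quotient_commutative_iff_commutator_le.mp inferInstance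
      have hS'M : (S' : Subgroup ↥Nw) ≤ M := by
        intro x hx
        apply hcomm
        rw [hS'c, Subgroup.mem_subgroupOf] at hx
        have h1 := hle2 hx
        have h2 : (commutator ↥Nw).map Nw.subtype = ⁅Nw, Nw⁆ := by
          rw [commutator_def, Subgroup.map_commutator, ← MonoidHom.range_eq_map,
            Subgroup.range_subtype]
        rw [← h2] at h1
        obtain ⟨y, hy, hyx⟩ := h1
        have : y = x := Subtype.ext hyx
        rwa [← this]
      have hdvd := Subgroup.index_dvd_of_le hS'M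
      rw [hMi] at hdvd
      exact S'.not_dvd_index hdvd

end Sec

end Cfsg.Agent.Lib.Helper13
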