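import Mathlib
import Cfsg.Prelude.Def_ConjugacyFunctors
import Cfsg.Prelude.Def_CaseTheorems
import Cfsg.Prelude.Def_Transfer
import Cfsg.Agent.S0072
import Cfsg.Agent.Lib.Helper13.SectionFunctor
import Cfsg.Agent.Lib.Helper9.ZJ8

set_option autoImplicit false

open scoped commutatorElement

namespace Cfsg.Agent.Lib.Helper13

universe u

section NPCB

variable {p : ℕ} [Fact p.Prime]

theorem npc_iff {G : Type u} [Group G] [Finite G] :
    Cfsg.HasNormalPComplement p G ↔
      ∃ K : Subgroup G, K.Normal ∧ (Nat.card K).Coprime p ∧ ∃ k : ℕ, K.index = p ^ k := by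
  constructor
  · rintro ⟨P, N, hNn, hN⟩
    refine ⟨N, hNn, Cfsg.Agent.Lib.Helper1.card_coprime_of_isComplement'_sylow P hN, ?_⟩
    obtain ⟨m, hm⟩ := IsPGroup.iff_card.mp P.2
    exact ⟨m, by rw [Cfsg.Agent.Lib.Helper1.index_eq_card_of_isComplement' hN, hm]⟩
  · rintro ⟨K, hKn, hKc, k, hk⟩
    obtain ⟨P⟩ : Nonempty (Sylow p G) := inferInstance
    exact ⟨P, K, hKn, Cfsg.Agent.S0072.isComplement'_sylow_of_normal_pcomp K hKc hk P⟩

theorem npc_of_surjective {A B : Type u} [Group A] [Group B] [Finite A] (f : A →* B)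
    (hf : Function.Surjective f) (h : Cfsg.HasNormalPComplement p A) :
    Cfsg.HasNormalPComplement p B := by
  have hp : p.Prime := Fact.out
  have : Finite B := Finite.of_surjective f hf
  rw [npc_iff] at h ⊢
  obtain ⟨K, hKn, hKc, k, hk⟩ := h
  refine ⟨K.map f, hKn.map f hf, ?_, ?_⟩
  · exact Nat.Coprime.coprime_dvd_left (Subgroup.card_map_dvd K f) hKc
  · have h1 : (K.map f).index ∣ K.index := Subgroup.index_map_dvd K hf
    rw [hk] at h1
    obtain ⟨m, _, hm⟩ := (Nat.dvd_prime_pow hp).mp h1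
    exact ⟨m, hm⟩

theorem npc_of_injective {A B : Type u} [Group A] [Group B] [Finite B] (f : A →* B)
    (hf : Function.Injective f) (h : Cfsg.HasNormalPComplement p B) :
    Cfsg.HasNormalPComplement p A := by
  have hp : p.Prime := Fact.out
  have : Finite A := Finite.of_injective f hf
  rw [npc_iff] at h ⊢
  obtain ⟨K, hKn, hKc, k, hk⟩ := h
  refine ⟨K.comap f, hKn.comap f, ?_, ?_⟩
  · have h1 : Nat.card ↥(K.comap f) ∣ Nat.card ↥K := by
      have h2 : Nat.card ↥((K.comap f).map f) = Nat.card ↥(K.comap f) :=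
        Subgroup.card_map_of_injective hf
      rw [← h2]
      exact Subgroup.card_dvd_of_le (Subgroup.map_comap_le f K)
    exact Nat.Coprime.coprime_dvd_left h1 hKc
  · have h1 : (K.comap f).index ∣ K.index := by
      rw [Subgroup.index_comap]
      exact Subgroup.relIndex_dvd_index_of_normal K f.range
    rw [hk] at h1
    obtain ⟨m, _, hm⟩ := (Nat.dvd_prime_pow hp).mp h1
    exact ⟨m, hm⟩

theorem npc_of_quotient {G : Type u} [Group G] [Finite G] (N : Subgroup G) [N.Normal]
    (hN : (Nat.card N).Coprime p) (h : Cfsg.HasNormalPComplement p (G ⧸ N)) :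
    Cfsg.HasNormalPComplement p G := by
  rw [npc_iff] at h ⊢
  obtain ⟨K, hKn, hKc, k, hk⟩ := h
  refine ⟨K.comap (QuotientGroup.mk' N), hKn.comap _, ?_, k, ?_⟩
  · have h1 : Nat.card ↥(K.comap (QuotientGroup.mk' N)) = Nat.card ↥N * Nat.card ↥K := by
      have h2 := Subgroup.card_mul_index (K.comap (QuotientGroup.mk' N))
      rw [Subgroup.index_comap_of_surjective _ (QuotientGroup.mk'_surjective N)] at h2
      have h3 := Subgroup.card_mul_index K
      have h4 := Subgroup.card_eq_card_quotient_mul_card_subgroup N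
      have h5 : 0 < K.index := Nat.pos_of_ne_zero Subgroup.index_ne_zero_of_finite
      have h6 : Nat.card ↥(K.comap (QuotientGroup.mk' N)) * K.index =
          (Nat.card ↥N * Nat.card ↥K) * K.index := by
        rw [h2, h4, ← h3]; ring
      exact Nat.eq_of_mul_eq_mul_right h5 h6
    rw [h1]
    exact Nat.Coprime.mul_left hN hKc
  · rw [Subgroup.index_comap_of_surjective _ (QuotientGroup.mk'_surjective N), hk]

theorem npc_of_isPGroup {G : Type u} [Group G] [Finite G] (h : IsPGroup p G) :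
    Cfsg.HasNormalPComplement p G := by
  rw [npc_iff]
  refine ⟨⊥, inferInstance, by simp, ?_⟩
  obtain ⟨k, hk⟩ := IsPGroup.iff_card.mp h
  exact ⟨k, by rw [Subgroup.index_bot, hk]⟩


theorem inducedFunctor_map_hom {G H : Type u} [Group G] [Group H] [Finite G]
    (W : ∀ (Q : Type u) [Group Q], Subgroup Q) (hW : Cfsg.IsCharPFunctor.{u} p W)
    (f : G →* H) (T : Subgroup G) (hT : IsPGroup p ↥T) (hinj : ∀ t ∈ T, f t = 1 → t = 1) :
    Cfsg.inducedFunctor W (T.map f) = (Cfsg.inducedFunctor W T).map f := by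
  unfold Cfsg.inducedFunctor
  have hbij : Function.Bijective (f.subgroupMap T) := by
    refine ⟨?_, f.subgroupMap_surjective T⟩
    rw [injective_iff_map_eq_one]
    intro t ht
    apply Subtype.ext
    apply hinj t.1 t.2
    exact congrArg Subtype.val ht
  have h1 := hW.2 ↥T ↥(T.map f) hT (MulEquiv.ofBijective (f.subgroupMap T) hbij)
  rw [← h1, Subgroup.map_map, Subgroup.map_map]
  congr 1

theorem pCore_map_equiv {A B : Type u} [Group A] [Group B] (e : A ≃* B) :
    (Cfsg.pCore p A).map e.toMonoidHom = Cfsg.pCore p B := by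
  apply le_antisymm
  · exact Cfsg.Agent.Lib.Helper9.pCore_map_le_of_surjective e.toMonoidHom e.surjective
  · have h1 := Cfsg.Agent.Lib.Helper9.pCore_map_le_of_surjective (p := p) e.symm.toMonoidHom
      e.symm.surjective
    intro x hx
    refine ⟨e.symm x, h1 ⟨x, hx, rfl⟩, ?_⟩
    simp

def Good (p : ℕ) (W : ∀ (Q : Type u) [Group Q], Subgroup Q) (Q : Type u) [Group Q] : Prop :=
  Subgroup.centralizer ((Cfsg.pCore p Q : Subgroup Q) : Set Q) ≤ Cfsg.pCore p Q →
  Cfsg.HasNormalPComplement p (Q ⧸ Cfsg.pCore p Q) →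
  ∀ T : Sylow p Q, IsCoatom (T : Subgroup Q) →
    (Cfsg.inducedFunctor (G := Q) W (T : Subgroup Q)).Normal

theorem good_of_equiv {Q₁ Q₂ : Type u} [Group Q₁] [Group Q₂] [Finite Q₁]
    (W : ∀ (Q : Type u) [Group Q], Subgroup Q) (hW : Cfsg.IsCharPFunctor.{u} p W)
    (e : Q₁ ≃* Q₂) (h : Good p W Q₁) : Good p W Q₂ := by
  have : Finite Q₂ := Finite.of_surjective e e.surjective
  intro hc₂ hn₂ T₂ hco₂
  have hO : (Cfsg.pCore p Q₁).map e.toMonoidHom = Cfsg.pCore p Q₂ := pCore_map_equiv e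
  have hc₁ : Subgroup.centralizer ((Cfsg.pCore p Q₁ : Subgroup Q₁) : Set Q₁) ≤ Cfsg.pCore p Q₁ := by
    intro x hx
    have h1 : e x ∈ Subgroup.centralizer ((Cfsg.pCore p Q₂ : Subgroup Q₂) : Set Q₂) := by
      rw [Subgroup.mem_centralizer_iff]
      intro y hy
      rw [SetLike.mem_coe, ← hO] at hy
      obtain ⟨y', hy', rfl⟩ := hy
      have := Subgroup.mem_centralizer_iff.mp hx y' hy'
      show e y' * e x = e x * e y'
      rw [← map_mul, ← map_mul, this]
    have h2 := hc₂ h1
    rw [← hO] at h2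
    obtain ⟨x', hx', hxx⟩ := h2
    have : x' = x := e.injective hxx
    rwa [← this]
  have hn₁ : Cfsg.HasNormalPComplement p (Q₁ ⧸ Cfsg.pCore p Q₁) := by
    have hle : Cfsg.pCore p Q₂ ≤ (Cfsg.pCore p Q₁).comap e.symm.toMonoidHom := by
      intro y hy
      rw [← hO] at hy
      obtain ⟨y', hy', rfl⟩ := hy
      rw [Subgroup.mem_comap]
      simpa using hy'
    apply npc_of_surjective (QuotientGroup.map (Cfsg.pCore p Q₂) (Cfsg.pCore p Q₁)
      e.symm.toMonoidHom hle) _ hn₂
    intro z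
    obtain ⟨x, rfl⟩ := QuotientGroup.mk_surjective z
    refine ⟨QuotientGroup.mk (e x), ?_⟩
    rw [QuotientGroup.map_mk]
    simp
  obtain ⟨T₁, hT₁⟩ : ∃ T₁ : Sylow p Q₁, T₁ = T₂.mapSurjective
      (f := e.symm.toMonoidHom) e.symm.surjective := ⟨_, rfl⟩
  have hT₁c : (T₁ : Subgroup Q₁) = (T₂ : Subgroup Q₂).map e.symm.toMonoidHom := by
    rw [hT₁]; rfl
  have hco₁ : IsCoatom (T₁ : Subgroup Q₁) := by
    rw [hT₁c]
    exact (OrderIso.isCoatom_iff (MulEquiv.mapSubgroup e.symm) _).mpr hco₂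
  have hnorm := h hc₁ hn₁ T₁ hco₁
  have hT₂ : (T₁ : Subgroup Q₁).map e.toMonoidHom = (T₂ : Subgroup Q₂) := by
    rw [hT₁c, Subgroup.map_map]
    ext x
    simp
  rw [← hT₂, inducedFunctor_map W hW e _ T₁.isPGroup']
  exact hnorm.map _ e.surjective

def SecGood (p : ℕ) (W : ∀ (Q : Type u) [Group Q], Subgroup Q) (G : Type u) [Group G] : Prop :=
  ∀ (Q : Type u) [Group Q] [Finite Q],
    (∃ (K : Subgroup G) (f : ↥K →* Q), Function.Surjective f) → Good p W Q

theorem secGood_of_sections {G : Type u} [Group G] [Finite G]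
    (W : ∀ (Q : Type u) [Group Q], Subgroup Q) (hW : Cfsg.IsCharPFunctor.{u} p W)
    (hloc : ∀ (K R : Subgroup G) [hR : (R.subgroupOf K).Normal],
      Good p W (↥K ⧸ R.subgroupOf K)) :
    SecGood p W G := by
  intro Q _ _ ⟨K, f, hf⟩
  have hR : ((f.ker.map K.subtype).subgroupOf K) = f.ker :=
    Subgroup.comap_map_eq_self_of_injective K.subtype_injective f.ker
  have : ((f.ker.map K.subtype).subgroupOf K).Normal := by rw [hR]; infer_instance
  have h1 := hloc K (f.ker.map K.subtype)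
  have e : (↥K ⧸ (f.ker.map K.subtype).subgroupOf K) ≃* Q :=
    (QuotientGroup.quotientMulEquivOfEq hR).trans (QuotientGroup.quotientKerEquivOfSurjective f hf)
  exact good_of_equiv W hW e h1

theorem secGood_subgroup {G : Type u} [Group G]
    (W : ∀ (Q : Type u) [Group Q], Subgroup Q) (h : SecGood p W G) (N : Subgroup G) :
    SecGood p W ↥N := by
  intro Q _ _ ⟨K, f, hf⟩
  apply h Q
  refine ⟨K.map N.subtype,
    f.comp (K.equivMapOfInjective N.subtype N.subtype_injective).symm.toMonoidHom, ?_⟩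
  exact hf.comp (K.equivMapOfInjective N.subtype N.subtype_injective).symm.surjective

theorem secGood_quotient {G : Type u} [Group G]
    (W : ∀ (Q : Type u) [Group Q], Subgroup Q) (h : SecGood p W G) (M : Subgroup G) [M.Normal] :
    SecGood p W (G ⧸ M) := by
  intro Q _ _ ⟨K, f, hf⟩
  apply h Q
  refine ⟨K.comap (QuotientGroup.mk' M), f.comp ((QuotientGroup.mk' M).subgroupComap K), ?_⟩
  exact hf.comp (MonoidHom.subgroupComap_surjective_of_surjective _ K
    (QuotientGroup.mk'_surjective M))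

theorem secGood_self {G : Type u} [Group G] [Finite G]
    (W : ∀ (Q : Type u) [Group Q], Subgroup Q) (h : SecGood p W G) : Good p W G := by
  apply h G
  exact ⟨⊤, (Subgroup.topEquiv : (⊤ : Subgroup G) ≃* G).toMonoidHom,
    (Subgroup.topEquiv : (⊤ : Subgroup G) ≃* G).surjective⟩

end NPCB

end Cfsg.Agent.Lib.Helper13
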