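import Mathlib
import Cfsg.Agent.Lib.Helper13.NPCFunctor
import Cfsg.Agent.Lib.Helper13.ConjFamily
import Cfsg.Agent.Lib.Helper13.FusionLift
import Cfsg.Agent.Lib.Helper10.PComp3
import Cfsg.Agent.Lib.Helper13.WellPlaced2
import Cfsg.Agent.Lib.Helper5.PConstr

set_option autoImplicit false

open scoped commutatorElement

namespace Cfsg.Agent.Lib.Helper13

universe u

section NPCD

variable {p : ℕ} [Fact p.Prime]

theorem npc_of_le_conj {G : Type u} [Group G] [Finite G] (A B : Subgroup G) (g : G)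
    (h : A.map (MulAut.conj g).toMonoidHom ≤ B) (hB : Cfsg.HasNormalPComplement p ↥B) :
    Cfsg.HasNormalPComplement p ↥A := by
  apply npc_of_injective
    (((MulAut.conj g).toMonoidHom.comp A.subtype).codRestrict B (fun a => h ⟨a, a.2, rfl⟩)) _ hB
  intro a b hab
  have := congrArg Subtype.val hab
  apply Subtype.ext
  exact (MulAut.conj g).injective this

theorem npc_top_iff {G : Type u} [Group G] [Finite G] :
    Cfsg.HasNormalPComplement p ↥(⊤ : Subgroup G) ↔ Cfsg.HasNormalPComplement p G := by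
  constructor
  · exact npc_of_surjective (Subgroup.topEquiv : (⊤ : Subgroup G) ≃* G).toMonoidHom
      (Subgroup.topEquiv : (⊤ : Subgroup G) ≃* G).surjective
  · exact npc_of_injective (Subgroup.topEquiv : (⊤ : Subgroup G) ≃* G).toMonoidHom
      (Subgroup.topEquiv : (⊤ : Subgroup G) ≃* G).injective

theorem npc_normalizer_functor_all {G : Type u} [Group G] [Finite G]
    (W : ∀ (Q : Type u) [Group Q], Subgroup Q) (hW : Cfsg.IsCharPFunctor.{u} p W)
    (S : Sylow p G)
    (h : Cfsg.HasNormalPComplement p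
      ↥(Subgroup.normalizer ((Cfsg.inducedFunctor (G := G) W (S : Subgroup G) : Subgroup G) : Set G)))
    (S' : Sylow p G) :
    Cfsg.HasNormalPComplement p
      ↥(Subgroup.normalizer ((Cfsg.inducedFunctor (G := G) W (S' : Subgroup G) : Subgroup G) : Set G)) := by
  obtain ⟨g, hg⟩ := MulAction.exists_smul_eq G S' S
  have hconj := inducedFunctor_isConjugacyFunctor (G := G) W hW
  apply npc_of_le_conj _ _ g _ h
  rw [← normalizer_cj, ← (hconj S' S'.isPGroup').2.2 g, ← sylow_smul_coe, hg]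

theorem normalizer_map_quotient_le {G : Type u} [Group G] [Finite G] (O : Subgroup G) [O.Normal]
    (hO : (Nat.card O).Coprime p) (V : Subgroup G) (hV : IsPGroup p ↥V) :
    Subgroup.normalizer ((V.map (QuotientGroup.mk' O) : Subgroup (G ⧸ O)) : Set (G ⧸ O)) ≤
      (Subgroup.normalizer (V : Set G)).map (QuotientGroup.mk' O) := by
  have hp : p.Prime := Fact.out
  intro xb hxb
  obtain ⟨x, rfl⟩ := QuotientGroup.mk'_surjective O xb
  have hcm : (V.map (QuotientGroup.mk' O)).comap (QuotientGroup.mk' O) = V ⊔ O := by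
    rw [Subgroup.comap_map_eq, QuotientGroup.ker_mk']
  have hR : V.map (MulAut.conj x).toMonoidHom ≤ V ⊔ O := by
    rintro _ ⟨v, hv, rfl⟩
    rw [← hcm, Subgroup.mem_comap]
    have h1 : (QuotientGroup.mk' O) v ∈ V.map (QuotientGroup.mk' O) := Subgroup.mem_map_of_mem _ hv
    have h2 := (Subgroup.mem_normalizer_iff.mp hxb _).mp h1
    simpa using h2
  have hVi : ¬ p ∣ V.relIndex (V ⊔ O) := by
    intro hd
    have h1 := Cfsg.Agent.Lib.Helper10.relIndex_sup_dvd_card V O
    exact (Nat.Prime.coprime_iff_not_dvd hp).mp hO.symm (dvd_trans hd h1)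
  obtain ⟨k, hk, hle⟩ := exists_mem_cj_le_of_relIndex (p := p) (le_sup_left : V ≤ V ⊔ O) hV hVi hR
    (hV.map _)
  rw [cj_cj] at hle
  have hkx : k * x ∈ Subgroup.normalizer (V : Set G) := mem_normalizer_of_cj_le hle
  have hVO : V ≤ Subgroup.normalizer (O : Set G) := by
    rw [Subgroup.normalizer_eq_top]; exact le_top
  obtain ⟨v, hv, o, ho, rfl⟩ := mem_sup_of_le_normalizer hVO hk
  refine ⟨o * x, ?_, ?_⟩
  · have h1 : o * x = v⁻¹ * (v * o * x) := by group
    rw [h1]
    exact Subgroup.mul_mem _ (Subgroup.le_normalizer (Subgroup.inv_mem _ hv)) hkx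
  · rw [map_mul]
    have : (QuotientGroup.mk' O) o = 1 := (QuotientGroup.eq_one_iff o).mpr ho
    rw [this, one_mul]

theorem npc_functor_quotient_pprime {G : Type u} [Group G] [Finite G]
    (W : ∀ (Q : Type u) [Group Q], Subgroup Q) (hW : Cfsg.IsCharPFunctor.{u} p W)
    (O : Subgroup G) [O.Normal] (hO : (Nat.card O).Coprime p) (S : Sylow p G)
    (h : Cfsg.HasNormalPComplement p
      ↥(Subgroup.normalizer ((Cfsg.inducedFunctor (G := G) W (S : Subgroup G) : Subgroup G) : Set G))) :
    Cfsg.HasNormalPComplement p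
      ↥(Subgroup.normalizer ((Cfsg.inducedFunctor (G := G ⧸ O) W
        ((S.mapSurjective (QuotientGroup.mk'_surjective O) : Sylow p (G ⧸ O)) : Subgroup (G ⧸ O)) :
          Subgroup (G ⧸ O)) : Set (G ⧸ O))) := by
  have hcoe : ((S.mapSurjective (QuotientGroup.mk'_surjective O) : Sylow p (G ⧸ O)) :
      Subgroup (G ⧸ O)) = (S : Subgroup G).map (QuotientGroup.mk' O) := rfl
  rw [hcoe]
  have hinj : ∀ t ∈ (S : Subgroup G), (QuotientGroup.mk' O) t = 1 → t = 1 := by
    intro t ht h1
    have h2 : t ∈ O := (QuotientGroup.eq_one_iff t).mp h1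
    exact Cfsg.Agent.Lib.Helper5.h5_eq_one_of_mem_pgroup_of_mem_coprime S.isPGroup' hO ht h2
  rw [inducedFunctor_map_hom W hW (QuotientGroup.mk' O) _ S.isPGroup' hinj]
  obtain ⟨V, hV⟩ : ∃ V, V = Cfsg.inducedFunctor (G := G) W (S : Subgroup G) := ⟨_, rfl⟩
  rw [← hV] at h ⊢
  have hVp : IsPGroup p ↥V := S.isPGroup'.to_le (hV ▸ inducedFunctor_le W _)
  have h1 := normalizer_map_quotient_le O hO V hVp
  have h2 : Cfsg.HasNormalPComplement p
      ↥((Subgroup.normalizer (V : Set G)).map (QuotientGroup.mk' O)) :=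
    npc_of_surjective ((QuotientGroup.mk' O).subgroupMap _)
      ((QuotientGroup.mk' O).subgroupMap_surjective _) h
  apply npc_of_le_conj _ _ 1 _ h2
  rw [cj_one]
  exact h1

theorem npc_subgroup_step {G : Type u} [Group G] [Finite G]
    (W : ∀ (Q : Type u) [Group Q], Subgroup Q) (hW : Cfsg.IsCharPFunctor.{u} p W)
    (M : Subgroup G) (T : Sylow p ↥M)
    (hT : Cfsg.HasNormalPComplement p ↥(Subgroup.normalizer
      ((Cfsg.inducedFunctor (G := G) W ((T : Subgroup ↥M).map M.subtype) : Subgroup G) : Set G))) :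
    Cfsg.HasNormalPComplement p ↥(Subgroup.normalizer
      ((Cfsg.inducedFunctor (G := ↥M) W (T : Subgroup ↥M) : Subgroup ↥M) : Set ↥M)) := by
  have hinj : ∀ t ∈ (T : Subgroup ↥M), M.subtype t = 1 → t = 1 := by
    intro t _ h1
    exact M.subtype_injective (by rw [h1, map_one])
  rw [inducedFunctor_map_hom W hW M.subtype _ T.isPGroup' hinj] at hT
  have hle : ∀ x : ↥(Subgroup.normalizer
      ((Cfsg.inducedFunctor (G := ↥M) W (T : Subgroup ↥M) : Subgroup ↥M) : Set ↥M)),
      ((x : ↥M) : G) ∈ Subgroup.normalizer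
        (((Cfsg.inducedFunctor (G := ↥M) W (T : Subgroup ↥M)).map M.subtype : Subgroup G) : Set G) := by
    intro x
    apply Subgroup.le_normalizer_map M.subtype
    exact ⟨x.1, x.2, rfl⟩
  apply npc_of_injective ((M.subtype.comp (Subgroup.subtype _)).codRestrict _ hle) _ hT
  intro a b hab
  have := congrArg Subtype.val hab
  apply Subtype.ext
  apply Subtype.ext
  exact this

theorem functor_normal_of_normal {G : Type u} [Group G] [Finite G]
    (W : ∀ (Q : Type u) [Group Q], Subgroup Q) (hW : Cfsg.IsCharPFunctor.{u} p W)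
    (T : Subgroup G) (hT : IsPGroup p ↥T) [hn : T.Normal] :
    (Cfsg.inducedFunctor (G := G) W T).Normal := by
  rw [← Subgroup.normalizer_eq_top_iff, eq_top_iff]
  have h1 := normalizer_le_normalizer_functor (inducedFunctor_isConjugacyFunctor (G := G) W hW) hT
  rw [Subgroup.normalizer_eq_top_iff.mpr hn] at h1
  exact h1

end NPCD

end Cfsg.Agent.Lib.Helper13
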