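import Mathlib
import Cfsg.Agent.Lib.Helper13.NPCFunctor2
import Cfsg.Agent.Lib.Helper1.Fitting

set_option autoImplicit false

open scoped commutatorElement

namespace Cfsg.Agent.Lib.Helper13

universe u

section NPCE

variable {p : ℕ} [Fact p.Prime]

theorem isPSolvable_of_chain {G : Type u} [Group G] [Finite G] (H L : Subgroup G) [H.Normal]
    [L.Normal] (hHL : H ≤ L) (hH : IsPGroup p ↥H) (hL : (H.relIndex L).Coprime p)
    (hG : ∃ k : ℕ, L.index = p ^ k) : Cfsg.IsPSolvable p G := by
  obtain ⟨a, ha⟩ := IsPGroup.iff_card.mp hH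
  obtain ⟨k, hk⟩ := hG
  refine ⟨3, ![⊥, H, L, ⊤], rfl, rfl, ?_, ?_, ?_⟩
  · rw [Fin.monotone_iff_le_succ]
    intro i
    fin_cases i
    · exact bot_le
    · exact hHL
    · exact le_top
  · intro i
    fin_cases i
    · show (⊥ : Subgroup G).Normal
      infer_instance
    · show H.Normal
      infer_instance
    · show L.Normal
      infer_instance
    · show (⊤ : Subgroup G).Normal
      infer_instance
  · intro i
    fin_cases i
    · left
      refine ⟨a, ?_⟩
      show (⊥ : Subgroup G).relIndex H = p ^ a
      rw [Subgroup.relIndex_bot_left, ha]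
    · right
      exact hL
    · left
      refine ⟨k, ?_⟩
      show L.relIndex ⊤ = p ^ k
      rw [Subgroup.relIndex_top_right, hk]

theorem card_comap_mk {G : Type u} [Group G] [Finite G] (N : Subgroup G) [N.Normal]
    (K : Subgroup (G ⧸ N)) :
    Nat.card ↥(K.comap (QuotientGroup.mk' N)) = Nat.card ↥N * Nat.card ↥K := by
  have h2 := Subgroup.card_mul_index (K.comap (QuotientGroup.mk' N))
  rw [Subgroup.index_comap_of_surjective _ (QuotientGroup.mk'_surjective N)] at h2
  have h3 := Subgroup.card_mul_index K
  have h4 := Subgroup.card_eq_card_quotient_mul_card_subgroup N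
  have h5 : 0 < K.index := Nat.pos_of_ne_zero Subgroup.index_ne_zero_of_finite
  have h6 : Nat.card ↥(K.comap (QuotientGroup.mk' N)) * K.index =
      (Nat.card ↥N * Nat.card ↥K) * K.index := by
    rw [h2, h4, ← h3]; ring
  exact Nat.eq_of_mul_eq_mul_right h5 h6

theorem card_quotient_lt {G : Type u} [Group G] [Finite G] (N : Subgroup G) [N.Normal]
    (hN : N ≠ ⊥) : Nat.card (G ⧸ N) < Nat.card G := by
  rw [Subgroup.card_eq_card_quotient_mul_card_subgroup N]
  have h1 : 1 < Nat.card ↥N := by
    rw [Subgroup.one_lt_card_iff_ne_bot]; exact hN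
  have h2 := Nat.card_pos (α := G ⧸ N)
  nlinarith

theorem factorization_eq_of_sylow_le {G : Type u} [Group G] [Finite G] (S : Sylow p G)
    (X : Subgroup G) (h : (S : Subgroup G) ≤ X) :
    (Nat.card ↥X).factorization p = (Nat.card G).factorization p := by
  have hp : p.Prime := Fact.out
  apply le_antisymm
  · exact (Nat.factorization_le_iff_dvd Nat.card_pos.ne' Nat.card_pos.ne').mpr
      (Subgroup.card_subgroup_dvd_card X) p
  · rw [← Nat.Prime.pow_dvd_iff_le_factorization hp Nat.card_pos.ne', ← Sylow.card_eq_multiplicity]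
    exact Subgroup.card_dvd_of_le h

theorem npc_of_secGood (W : ∀ (Q : Type u) [Group Q], Subgroup Q)
    (hW : Cfsg.IsCharPFunctor.{u} p W) :
    ∀ n : ℕ, ∀ (G : Type u) [Group G] [Finite G], Nat.card G ≤ n → SecGood p W G →
      ∀ S : Sylow p G, Cfsg.HasNormalPComplement p ↥(Subgroup.normalizer
        ((Cfsg.inducedFunctor (G := G) W (S : Subgroup G) : Subgroup G) : Set G)) →
      Cfsg.HasNormalPComplement p G := by
  intro n
  induction n with
  | zero =>
    intro G _ _ h
    have := Nat.card_pos (α := G)
    omega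
  | succ n ih =>
    intro G _ _ hcard hsec S hN
    have hp : p.Prime := Fact.out
    by_contra hno
    have hconj := inducedFunctor_isConjugacyFunctor (G := G) W hW
    have hall := npc_normalizer_functor_all W hW S hN
    have hnn : ¬ (Cfsg.inducedFunctor (G := G) W (S : Subgroup G)).Normal := by
      intro hn
      apply hno
      rw [← npc_top_iff]
      have h1 := Subgroup.normalizer_eq_top_iff.mpr hn
      rw [h1] at hN
      exact hN
    have hF : ∃ Q : Subgroup G, IsPGroup p ↥Q ∧ Q ≠ ⊥ ∧
        ¬ Cfsg.HasNormalPComplement p ↥(Subgroup.normalizer (Q : Set G)) := by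
      by_contra hcon
      apply hno
      rw [Cfsg.Agent.S0072.result p]
      intro Q hQ hQ1
      by_contra h2
      exact hcon ⟨Q, hQ, hQ1, h2⟩
    obtain ⟨μ, hμ⟩ : ∃ μ : Subgroup G → ℕ, μ = fun (H : Subgroup G) =>
        (Nat.card ↥(Subgroup.normalizer (H : Set G))).factorization p * (Nat.card G + 1) +
          Nat.card ↥H := ⟨_, rfl⟩
    obtain ⟨H, hH𝓗, hmax⟩ := Set.exists_max_image
      {Q : Subgroup G | IsPGroup p ↥Q ∧ Q ≠ ⊥ ∧
        ¬ Cfsg.HasNormalPComplement p ↥(Subgroup.normalizer (Q : Set G))} μ (Set.toFinite _) hF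
    obtain ⟨hHp, hH1, hHno⟩ := hH𝓗
    have hbig : ∀ U : Subgroup G, IsPGroup p ↥U → U ≠ ⊥ → μ H < μ U →
        Cfsg.HasNormalPComplement p ↥(Subgroup.normalizer (U : Set G)) := by
      intro U hU hU1 hlt
      by_contra h2
      have := hmax U ⟨hU, hU1, h2⟩
      omega
    have step3 : Subgroup.normalizer (H : Set G) = ⊤ := by
      by_contra hne
      apply hHno
      obtain ⟨M, hM⟩ : ∃ M, M = Subgroup.normalizer (H : Set G) := ⟨_, rfl⟩
      rw [← hM] at hne ⊢
      have hlt : Nat.card ↥M < Nat.card G := by
        apply lt_of_le_of_ne (Subgroup.card_le_card_group M)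
        intro h
        exact hne (Subgroup.eq_top_of_card_eq M h)
      obtain ⟨T⟩ : Nonempty (Sylow p ↥M) := inferInstance
      apply ih ↥M (by omega) (secGood_subgroup W hsec M) T
      apply npc_subgroup_step W hW M T
      obtain ⟨T', hT'⟩ : ∃ T', T' = (T : Subgroup ↥M).map M.subtype := ⟨_, rfl⟩
      rw [← hT']
      have hT'p : IsPGroup p ↥T' := hT' ▸ T.isPGroup'.map _
      have hT'card : Nat.card ↥T' = p ^ (Nat.card ↥M).factorization p := by
        rw [hT', Subgroup.card_map_of_injective M.subtype_injective, Sylow.card_eq_multiplicity]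
      have hHM : H ≤ M := hM ▸ Subgroup.le_normalizer
      have hT'1 : T' ≠ ⊥ := by
        intro h
        rw [h, Subgroup.card_bot] at hT'card
        obtain ⟨a, ha⟩ := IsPGroup.iff_card.mp hHp
        have ha0 : a ≠ 0 := by
          intro h0
          rw [h0, pow_zero] at ha
          exact hH1 (Subgroup.card_eq_one.mp ha)
        have h1 : p ∣ Nat.card ↥M :=
          dvd_trans (ha ▸ dvd_pow_self p ha0) (Subgroup.card_dvd_of_le hHM)
        have h2 := Nat.Prime.factorization_pos_of_dvd hp Nat.card_pos.ne' h1
        have h3 := Nat.one_lt_pow h2.ne' hp.one_lt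
        omega
      obtain ⟨S', hS'⟩ := hT'p.exists_le_sylow
      by_cases hTS : T' = (S' : Subgroup G)
      · rw [hTS]; exact hall S'
      · obtain ⟨V, hV⟩ : ∃ V, V = Cfsg.inducedFunctor (G := G) W T' := ⟨_, rfl⟩
        rw [← hV]
        have hVT : V ≤ T' := hV ▸ inducedFunctor_le W _
        have hVp : IsPGroup p ↥V := hT'p.to_le hVT
        have hV1 : V ≠ ⊥ := hV ▸ inducedFunctor_ne_bot W hW _ hT'p hT'1
        apply hbig V hVp hV1
        have hXlt := card_lt_card_inf_normalizer S'.isPGroup' hS' hTS
        have hXle : (S' : Subgroup G) ⊓ Subgroup.normalizer (T' : Set G) ≤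
            Subgroup.normalizer (V : Set G) :=
          inf_le_right.trans (hV ▸ normalizer_le_normalizer_functor hconj hT'p)
        have hXp : IsPGroup p ↥((S' : Subgroup G) ⊓ Subgroup.normalizer (T' : Set G)) :=
          S'.isPGroup'.to_le inf_le_left
        obtain ⟨b, hb⟩ := IsPGroup.iff_card.mp hXp
        have hb1 : (Nat.card ↥M).factorization p < b := by
          rw [hT'card, hb] at hXlt
          exact (Nat.pow_lt_pow_iff_right hp.one_lt).mp hXlt
        have hb2 : b ≤ (Nat.card ↥(Subgroup.normalizer (V : Set G))).factorization p := by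
          rw [← Nat.Prime.pow_dvd_iff_le_factorization hp Nat.card_pos.ne', ← hb]
          exact Subgroup.card_dvd_of_le hXle
        have hHG : Nat.card ↥H ≤ Nat.card G := Subgroup.card_le_card_group H
        rw [hμ]
        simp only
        rw [← hM]
        have h4 : ((Nat.card ↥M).factorization p + 1) * (Nat.card G + 1) ≤
            (Nat.card ↥(Subgroup.normalizer (V : Set G))).factorization p * (Nat.card G + 1) :=
          Nat.mul_le_mul_right _ (by omega)
        nlinarith
    have hHn : H.Normal := Subgroup.normalizer_eq_top_iff.mp step3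
    have hHS : H ≤ (S : Subgroup G) :=
      (Cfsg.Agent.Lib.Helper1.le_pCore hHn hHp).trans (Cfsg.Agent.Lib.Helper1.pCore_le_sylow p S)
    have step4 : Cfsg.HasNormalPComplement p (G ⧸ H) := by
      have hlt := card_quotient_lt H hH1
      obtain ⟨Sb, hSb⟩ : ∃ Sb : Sylow p (G ⧸ H),
          Sb = S.mapSurjective (QuotientGroup.mk'_surjective H) := ⟨_, rfl⟩
      have hSbc : (Sb : Subgroup (G ⧸ H)) = (S : Subgroup G).map (QuotientGroup.mk' H) := by
        rw [hSb]; rfl
      apply ih (G ⧸ H) (by omega) (secGood_quotient W hsec H) Sb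
      obtain ⟨Ub, hUb⟩ : ∃ Ub, Ub = Cfsg.inducedFunctor (G := G ⧸ H) W (Sb : Subgroup (G ⧸ H)) :=
        ⟨_, rfl⟩
      rw [← hUb]
      obtain ⟨U, hU⟩ : ∃ U, U = Ub.comap (QuotientGroup.mk' H) := ⟨_, rfl⟩
      have hconjb := inducedFunctor_isConjugacyFunctor (G := G ⧸ H) W hW
      have hUbS : Ub ≤ Sb := hUb ▸ inducedFunctor_le W _
      have hScm : ((S : Subgroup G).map (QuotientGroup.mk' H)).comap (QuotientGroup.mk' H) =
          (S : Subgroup G) := by
        rw [Subgroup.comap_map_eq, QuotientGroup.ker_mk']
        exact sup_eq_left.mpr hHS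
      have hUS : U ≤ (S : Subgroup G) := by
        rw [hU, ← hScm, ← hSbc]
        exact Subgroup.comap_mono hUbS
      have hUp : IsPGroup p ↥U := S.isPGroup'.to_le hUS
      have hHU : H ≤ U := by
        intro x hx
        rw [hU, Subgroup.mem_comap]
        have : (QuotientGroup.mk' H) x = 1 := (QuotientGroup.eq_one_iff x).mpr hx
        rw [this]; exact Ub.one_mem
      have hU1 : U ≠ ⊥ := fun h => hH1 (le_bot_iff.mp (h ▸ hHU))
      have hNU : (Subgroup.normalizer (Ub : Set (G ⧸ H))).comap (QuotientGroup.mk' H) =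
          Subgroup.normalizer (U : Set G) := by
        rw [hU]
        exact Subgroup.comap_normalizer_eq_of_surjective _ (QuotientGroup.mk'_surjective H)
      have hNb : Subgroup.normalizer (Ub : Set (G ⧸ H)) =
          (Subgroup.normalizer (U : Set G)).map (QuotientGroup.mk' H) := by
        rw [← hNU, Subgroup.map_comap_eq_self_of_surjective (QuotientGroup.mk'_surjective H)]
      have hUnpc : Cfsg.HasNormalPComplement p ↥(Subgroup.normalizer (U : Set G)) := by
        apply hbig U hUp hU1
        have hSN : (S : Subgroup G) ≤ Subgroup.normalizer (U : Set G) := by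
          rw [← hNU, ← hScm, ← hSbc]
          apply Subgroup.comap_mono
          rw [hUb]
          exact Subgroup.le_normalizer.trans
            (normalizer_le_normalizer_functor hconjb Sb.isPGroup')
        have hf1 := factorization_eq_of_sylow_le S _ hSN
        have hf2 : (Nat.card ↥(Subgroup.normalizer (H : Set G))).factorization p =
            (Nat.card G).factorization p :=
          factorization_eq_of_sylow_le S _ (step3 ▸ le_top)
        have hlt2 : Nat.card ↥H < Nat.card ↥U := by
          apply lt_of_le_of_ne (Subgroup.card_le_of_le hHU)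
          intro hcard2
          have hHU2 : H = U := Subgroup.eq_of_le_of_card_ge hHU hcard2.ge
          have hUb1 : Ub = ⊥ := by
            rw [← Subgroup.map_comap_eq_self_of_surjective (QuotientGroup.mk'_surjective H) Ub,
              ← hU, ← hHU2]
            rw [Subgroup.map_eq_bot_iff, QuotientGroup.ker_mk']
          have hSb1 : (Sb : Subgroup (G ⧸ H)) = ⊥ := by
            by_contra hne
            exact inducedFunctor_ne_bot W hW _ Sb.isPGroup' hne (hUb ▸ hUb1)
          have hSH : (S : Subgroup G) = H := by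
            apply le_antisymm _ hHS
            rw [hSbc, Subgroup.map_eq_bot_iff, QuotientGroup.ker_mk'] at hSb1
            exact hSb1
          have hSn : (S : Subgroup G).Normal := hSH ▸ hHn
          exact hnn (functor_normal_of_normal W hW _ S.isPGroup')
        rw [hμ]
        simp only
        rw [hf1, hf2]
        omega
      rw [hNb]
      exact npc_of_surjective ((QuotientGroup.mk' H).subgroupMap _)
        ((QuotientGroup.mk' H).subgroupMap_surjective _) hUnpc
    have step5 : Cfsg.pPrimeCore p G = ⊥ := by
      by_contra hO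
      apply hno
      have hOc : (Nat.card ↥(Cfsg.pPrimeCore p G)).Coprime p :=
        Cfsg.Agent.Lib.Helper1.pPrimeCore_card_coprime p
      apply npc_of_quotient (Cfsg.pPrimeCore p G) hOc
      have hlt := card_quotient_lt (Cfsg.pPrimeCore p G) hO
      exact ih (G ⧸ Cfsg.pPrimeCore p G) (by omega) (secGood_quotient W hsec _) _
        (npc_functor_quotient_pprime W hW _ hOc S hN)
    have step6 : Subgroup.centralizer ((Cfsg.pCore p G : Subgroup G) : Set G) ≤ Cfsg.pCore p G := by
      obtain ⟨K, hKn, hKc, k, hk⟩ := npc_iff.mp step4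
      have hLn : (K.comap (QuotientGroup.mk' H)).Normal := hKn.comap _
      have hHL : H ≤ K.comap (QuotientGroup.mk' H) := by
        intro x hx
        rw [Subgroup.mem_comap]
        have : (QuotientGroup.mk' H) x = 1 := (QuotientGroup.eq_one_iff x).mpr hx
        rw [this]; exact K.one_mem
      have hrel : (H.relIndex (K.comap (QuotientGroup.mk' H))).Coprime p := by
        have h1 := Cfsg.Agent.Lib.Helper1.card_mul_relIndex_of_le hHL
        rw [card_comap_mk] at h1
        have h2 : H.relIndex (K.comap (QuotientGroup.mk' H)) = Nat.card ↥K :=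
          Nat.eq_of_mul_eq_mul_left Nat.card_pos h1
        rw [h2]; exact hKc
      have hidx : ∃ k : ℕ, (K.comap (QuotientGroup.mk' H)).index = p ^ k :=
        ⟨k, by rw [Subgroup.index_comap_of_surjective _ (QuotientGroup.mk'_surjective H), hk]⟩
      exact Cfsg.Agent.Lib.Helper5.h5_centralizer_pCore_le
        (isPSolvable_of_chain H _ hHL hHp hrel hidx) step5
    have step7 : IsCoatom (S : Subgroup G) := by
      constructor
      · intro hS
        apply hno
        apply npc_of_isPGroup
        have h1 : IsPGroup p ↥(⊤ : Subgroup G) := hS ▸ S.isPGroup'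
        intro g
        obtain ⟨k, hk⟩ := h1 ⟨g, Subgroup.mem_top g⟩
        exact ⟨k, congrArg Subtype.val hk⟩
      · intro M hSM
        by_contra hM
        have hle : (S : Subgroup G) ≤ M := hSM.le
        obtain ⟨T, hT⟩ : ∃ T : Sylow p ↥M, T = S.subtype hle := ⟨_, rfl⟩
        have hTc : (T : Subgroup ↥M).map M.subtype = (S : Subgroup G) := by
          rw [hT, Sylow.coe_subtype, Subgroup.subgroupOf_map_subtype]
          exact inf_eq_left.mpr hle
        have hlt : Nat.card ↥M < Nat.card G := by
          apply lt_of_le_of_ne (Subgroup.card_le_card_group M)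
          intro h
          exact hM (Subgroup.eq_top_of_card_eq M h)
        have hMnpc : Cfsg.HasNormalPComplement p ↥M := by
          apply ih ↥M (by omega) (secGood_subgroup W hsec M) T
          apply npc_subgroup_step W hW M T
          rw [hTc]
          exact hN
        obtain ⟨K, hKn, hKc, k, hk⟩ := npc_iff.mp hMnpc
        have hP0M : Cfsg.pCore p G ≤ M :=
          (Cfsg.Agent.Lib.Helper1.pCore_le_sylow p S).trans hle
        have hKbot : K = ⊥ := by
          rw [Subgroup.eq_bot_iff_forall]
          intro x hx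
          have hxc : (x : G) ∈ Subgroup.centralizer ((Cfsg.pCore p G : Subgroup G) : Set G) := by
            rw [Subgroup.mem_centralizer_iff]
            intro z hz
            have hzM : z ∈ M := hP0M hz
            have h1 : x * ⟨z, hzM⟩ * x⁻¹ * (⟨z, hzM⟩ : ↥M)⁻¹ ∈ K := by
              have : x * ⟨z, hzM⟩ * x⁻¹ * (⟨z, hzM⟩ : ↥M)⁻¹ =
                  x * (⟨z, hzM⟩ * x⁻¹ * (⟨z, hzM⟩ : ↥M)⁻¹) := by group
              rw [this]
              exact K.mul_mem hx (hKn.conj_mem _ (K.inv_mem hx) _)
            have h2 : (x : G) * z * (x : G)⁻¹ * z⁻¹ ∈ Cfsg.pCore p G :=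
              Subgroup.mul_mem _ ((Cfsg.pCore_normal p G).conj_mem z hz _) (Subgroup.inv_mem _ hz)
            have h3 : (x : G) * z * (x : G)⁻¹ * z⁻¹ ∈ K.map M.subtype :=
              ⟨_, h1, by simp⟩
            have hKc' : (Nat.card ↥(K.map M.subtype)).Coprime p := by
              rw [Subgroup.card_map_of_injective M.subtype_injective]; exact hKc
            have h4 := Cfsg.Agent.Lib.Helper5.h5_eq_one_of_mem_pgroup_of_mem_coprime
              (Cfsg.Agent.Lib.Helper1.pCore_isPGroup p) hKc' h2 h3
            calc z * (x : G) = ((x : G) * z * (x : G)⁻¹ * z⁻¹)⁻¹ * ((x : G) * z) := by group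
              _ = (x : G) * z := by rw [h4]; group
          have hx0 := step6 hxc
          have hKc' : (Nat.card ↥(K.map M.subtype)).Coprime p := by
            rw [Subgroup.card_map_of_injective M.subtype_injective]; exact hKc
          have h5 := Cfsg.Agent.Lib.Helper5.h5_eq_one_of_mem_pgroup_of_mem_coprime
            (Cfsg.Agent.Lib.Helper1.pCore_isPGroup p) hKc' hx0 ⟨x, hx, rfl⟩
          exact Subtype.ext h5
        have hMp : IsPGroup p ↥M := by
          rw [IsPGroup.iff_card]
          refine ⟨k, ?_⟩
          rw [← hk, hKbot, Subgroup.index_bot]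
        have := S.is_maximal' hMp hle
        exact hSM.ne this.symm
    have step8 : Cfsg.HasNormalPComplement p (G ⧸ Cfsg.pCore p G) := by
      have hle : H ≤ (Cfsg.pCore p G).comap (MonoidHom.id G) :=
        Cfsg.Agent.Lib.Helper1.le_pCore hHn hHp
      apply npc_of_surjective (QuotientGroup.map H (Cfsg.pCore p G) (MonoidHom.id G) hle) _ step4
      intro z
      obtain ⟨x, rfl⟩ := QuotientGroup.mk_surjective z
      exact ⟨QuotientGroup.mk x, by simp⟩
    exact hnn (secGood_self W hsec step6 step8 S step7)

end NPCE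

end Cfsg.Agent.Lib.Helper13
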