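import Cfsg.Agent.Lib.Helper13.SecFusB
import Cfsg.Agent.Lib.Helper13.NPCFunctor2
import Cfsg.Agent.Lib.Helper13.WellPlaced2

set_option autoImplicit false

/-! Lifting family control of strong fusion through a quotient by a normal `p'`-subgroup
(helper13). -/

namespace Cfsg.Agent.Lib.Helper13

universe u

section PPrime

variable {p : ℕ} [Fact p.Prime] {𝓦 : Set (∀ (Q : Type u) [Group Q], Subgroup Q)}

theorem sylow_le_normalizer_induced (h𝓦 : ∀ W ∈ 𝓦, Cfsg.IsCharPFunctor.{u} p W)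
    {G : Type u} [Group G] [Finite G] {S : Subgroup G} (hS : IsPGroup p ↥S)
    {W : ∀ (Q : Type u) [Group Q], Subgroup Q} (hW : W ∈ 𝓦) :
    S ≤ Subgroup.normalizer ((Cfsg.inducedFunctor (G := G) W S : Subgroup G) : Set G) :=
  Subgroup.le_normalizer.trans
    (normalizer_le_normalizer_functor (inducedFunctor_isConjugacyFunctor W (h𝓦 W hW)) hS)

theorem lift_freach_pprime (h𝓦 : ∀ W ∈ 𝓦, Cfsg.IsCharPFunctor.{u} p W)
    {G : Type u} [Group G] [Finite G] (D : Subgroup G) [D.Normal] (hD : (Nat.card D).Coprime p)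
    (S : Sylow p G) {A : Set G} (hA : A ⊆ ((S : Subgroup G) : Set G)) {cb : G ⧸ D}
    (h : FReach (indFam 𝓦 (G ⧸ D)) ⊤ ((S : Subgroup G).map (QuotientGroup.mk' D))
      ((QuotientGroup.mk' D) '' A) cb) :
    ∃ c : G, (QuotientGroup.mk' D) c = cb ∧ FReach (indFam 𝓦 G) ⊤ (S : Subgroup G) A c := by
  have hp : p.Prime := Fact.out
  have hinj : ∀ t ∈ (S : Subgroup G), (QuotientGroup.mk' D) t = 1 → t = 1 := by
    intro t ht h1
    have h2 : t ∈ D := (QuotientGroup.eq_one_iff t).mp h1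
    exact Cfsg.Agent.Lib.Helper5.h5_eq_one_of_mem_pgroup_of_mem_coprime S.isPGroup' hD ht h2
  induction h with
  | one _ => exact ⟨1, map_one _, FReach.one hA⟩
  | step cb yb V hV hyb hcb hAb ih =>
    obtain ⟨c, hc, hcr⟩ := ih
    obtain ⟨W, hW, rfl⟩ := hV
    obtain ⟨VS, hVS⟩ : ∃ VS, VS = Cfsg.inducedFunctor (G := G) W (S : Subgroup G) := ⟨_, rfl⟩
    have hVSle : VS ≤ (S : Subgroup G) := hVS ▸ inducedFunctor_le W _
    have hVSp : IsPGroup p ↥VS := S.isPGroup'.to_le hVSle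
    have hSM : (S : Subgroup G) ≤ Subgroup.normalizer (VS : Set G) :=
      hVS ▸ sylow_le_normalizer_induced h𝓦 S.isPGroup' hW
    have hyb2 := (Subgroup.mem_inf.mp hyb).2
    beta_reduce at hyb2
    rw [inducedFunctor_map_hom W (h𝓦 W hW) (QuotientGroup.mk' D) _ S.isPGroup' hinj, ← hVS] at hyb2
    obtain ⟨y₁, hy₁M, hy₁⟩ := normalizer_map_quotient_le D hD VS hVSp hyb2
    obtain ⟨PB, hPB⟩ : ∃ PB : Subgroup G,
        PB = Subgroup.closure ((fun a => (y₁ * c) * a * (y₁ * c)⁻¹) '' A) := ⟨_, rfl⟩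
    have hPBp : IsPGroup p ↥PB := by
      apply (isPGroup_cj (y₁ * c) S.isPGroup').to_le
      rw [hPB, Subgroup.closure_le]
      rintro _ ⟨a, ha, rfl⟩
      exact ⟨a, hA ha, rfl⟩
    have hcm : ((S : Subgroup G).map (QuotientGroup.mk' D)).comap (QuotientGroup.mk' D) =
        (S : Subgroup G) ⊔ D := by
      rw [Subgroup.comap_map_eq, QuotientGroup.ker_mk']
    have hPB_SD : PB ≤ (S : Subgroup G) ⊔ D := by
      rw [hPB, Subgroup.closure_le]
      rintro _ ⟨a, ha, rfl⟩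
      rw [SetLike.mem_coe, ← hcm, Subgroup.mem_comap]
      have := hAb _ ⟨a, ha, rfl⟩
      rw [← hc, ← hy₁] at this
      simpa only [map_mul, map_inv] using this
    have hPB_M : PB ≤ Subgroup.normalizer (VS : Set G) := by
      rw [hPB, Subgroup.closure_le]
      rintro _ ⟨a, ha, rfl⟩
      have h1 : c * a * c⁻¹ ∈ Subgroup.normalizer (VS : Set G) := hSM (hcr.conj_mem a ha)
      have e : (y₁ * c) * a * (y₁ * c)⁻¹ = y₁ * (c * a * c⁻¹) * y₁⁻¹ := by group
      show (y₁ * c) * a * (y₁ * c)⁻¹ ∈ Subgroup.normalizer (VS : Set G)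
      rw [e]
      exact Subgroup.mul_mem _ (Subgroup.mul_mem _ hy₁M h1) (Subgroup.inv_mem _ hy₁M)
    obtain ⟨X, hX⟩ : ∃ X : Subgroup G,
        X = ((S : Subgroup G) ⊔ D) ⊓ Subgroup.normalizer (VS : Set G) := ⟨_, rfl⟩
    have hSX : (S : Subgroup G) ≤ X := hX ▸ le_inf le_sup_left hSM
    have hXSD : X ≤ (S : Subgroup G) ⊔ D := hX ▸ inf_le_left
    have hSi : ¬ p ∣ (S : Subgroup G).relIndex X := by
      intro hd
      have h1 := Subgroup.relIndex_mul_relIndex _ _ _ hSX hXSD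
      have h2 := Cfsg.Agent.Lib.Helper10.relIndex_sup_dvd_card (S : Subgroup G) D
      have h3 : p ∣ Nat.card ↥D := (hd.trans (Dvd.intro _ h1)).trans h2
      exact (Nat.Prime.coprime_iff_not_dvd hp).mp hD.symm h3
    obtain ⟨k, hkX, hk⟩ := exists_mem_cj_le_of_relIndex (p := p) hSX S.isPGroup' hSi
      (hX ▸ le_inf hPB_SD hPB_M) hPBp
    rw [hX] at hkX
    have hSD : (S : Subgroup G) ≤ Subgroup.normalizer (D : Set G) := by
      rw [Subgroup.normalizer_eq_top]; exact le_top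
    obtain ⟨s, hs, d, hd, rfl⟩ := mem_sup_of_le_normalizer hSD (Subgroup.mem_inf.mp hkX).1
    have hdM : d ∈ Subgroup.normalizer (VS : Set G) := by
      have e : d = s⁻¹ * (s * d) := by group
      rw [e]
      exact Subgroup.mul_mem _ (Subgroup.inv_mem _ (hSM hs)) (Subgroup.mem_inf.mp hkX).2
    have hπd : (QuotientGroup.mk' D) d = 1 := (QuotientGroup.eq_one_iff d).mpr hd
    refine ⟨(d * y₁) * c, ?_, ?_⟩
    · rw [map_mul, map_mul, hπd, one_mul, hy₁, hc]
    · refine FReach.step c (d * y₁) _ ⟨W, hW, rfl⟩ ?_ hcr ?_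
      · refine Subgroup.mem_inf.mpr ⟨Subgroup.mem_top _, ?_⟩
        show d * y₁ ∈ Subgroup.normalizer
          ((Cfsg.inducedFunctor (G := G) W (S : Subgroup G) : Subgroup G) : Set G)
        rw [← hVS]
        exact Subgroup.mul_mem _ hdM hy₁M
      · intro a ha
        have hb : (y₁ * c) * a * (y₁ * c)⁻¹ ∈ PB := by
          rw [hPB]
          exact Subgroup.subset_closure ⟨a, ha, rfl⟩
        have h1 : (s * d) * ((y₁ * c) * a * (y₁ * c)⁻¹) * (s * d)⁻¹ ∈ (S : Subgroup G) :=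
          hk ⟨_, hb, rfl⟩
        have e : (d * y₁) * c * a * ((d * y₁) * c)⁻¹ =
            s⁻¹ * ((s * d) * ((y₁ * c) * a * (y₁ * c)⁻¹) * (s * d)⁻¹) * s := by group
        rw [e]
        exact Subgroup.mul_mem _ (Subgroup.mul_mem _ (Subgroup.inv_mem _ hs) h1) hs

/-- Family control of strong fusion lifts through the quotient by a normal `p'`-subgroup. -/
theorem fcs_of_quotient_pprime (h𝓦 : ∀ W ∈ 𝓦, Cfsg.IsCharPFunctor.{u} p W)
    {G : Type u} [Group G] [Finite G] (D : Subgroup G) [D.Normal] (hD : (Nat.card D).Coprime p)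
    (h : FCS p 𝓦 (G ⧸ D)) : FCS p 𝓦 G := by
  obtain ⟨S⟩ : Nonempty (Sylow p G) := inferInstance
  have hinj : ∀ t ∈ (S : Subgroup G), (QuotientGroup.mk' D) t = 1 → t = 1 := by
    intro t ht h1
    have h2 : t ∈ D := (QuotientGroup.eq_one_iff t).mp h1
    exact Cfsg.Agent.Lib.Helper5.h5_eq_one_of_mem_pgroup_of_mem_coprime S.isPGroup' hD ht h2
  have hSbp : IsPGroup p ↥((S : Subgroup G).map (QuotientGroup.mk' D)) := S.isPGroup'.map _
  have hSbi : ¬ p ∣ ((S : Subgroup G).map (QuotientGroup.mk' D)).relIndex ⊤ := by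
    rw [Subgroup.relIndex_top_right]
    intro hd
    exact S.not_dvd_index
      (hd.trans (Subgroup.index_map_dvd (S : Subgroup G) (QuotientGroup.mk'_surjective D)))
  have hRb := family_fusion_of_sylow (indFam_isConjugacyFunctor h𝓦 (G ⧸ D)) h le_top hSbp hSbi
  unfold FCS
  rw [familyControlsStrongFusionIn_iff]
  refine ⟨S, le_top, S.isPGroup', ?_, ?_⟩
  · rw [Subgroup.relIndex_top_right]; exact S.not_dvd_index
  · intro A h' _ hA hhA
    have hAb : (QuotientGroup.mk' D) '' A ⊆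
        (((S : Subgroup G).map (QuotientGroup.mk' D) : Subgroup (G ⧸ D)) : Set (G ⧸ D)) := by
      rintro _ ⟨a, ha, rfl⟩
      exact ⟨a, hA ha, rfl⟩
    have hhAb : (fun a => (QuotientGroup.mk' D) h' * a * ((QuotientGroup.mk' D) h')⁻¹) ''
        ((QuotientGroup.mk' D) '' A) ⊆
        (((S : Subgroup G).map (QuotientGroup.mk' D) : Subgroup (G ⧸ D)) : Set (G ⧸ D)) := by
      rintro _ ⟨_, ⟨a, ha, rfl⟩, rfl⟩
      refine ⟨h' * a * h'⁻¹, hhA ⟨a, ha, rfl⟩, ?_⟩
      simp only [map_mul, map_inv]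
    obtain ⟨cb, hcb, hagree⟩ := hRb _ ((QuotientGroup.mk' D) h') (Subgroup.mem_top _) hAb hhAb
    obtain ⟨c, hc, hcr⟩ := lift_freach_pprime h𝓦 D hD S hA hcb
    refine ⟨c, hcr, ?_⟩
    intro a ha
    have h1 : c * a * c⁻¹ ∈ (S : Subgroup G) := hcr.conj_mem a ha
    have h2 : h' * a * h'⁻¹ ∈ (S : Subgroup G) := hhA ⟨a, ha, rfl⟩
    have h3 : (QuotientGroup.mk' D) ((c * a * c⁻¹) * (h' * a * h'⁻¹)⁻¹) = 1 := by
      have := hagree _ ⟨a, ha, rfl⟩
      rw [← hc] at this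
      simp only [map_mul, map_inv] at this ⊢
      rw [this]
      group
    have h4 := hinj _ (Subgroup.mul_mem _ h1 (Subgroup.inv_mem _ h2)) h3
    exact mul_inv_eq_one.mp h4

end PPrime

end Cfsg.Agent.Lib.Helper13
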