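import Cfsg.Agent.Lib.Helper13.KInfC
import Cfsg.Prelude.Def_PLocal

set_option autoImplicit false

/-! Confinement of the star families by a forcing hypothesis on a normal subgroup of class two
(helper13). -/

namespace Cfsg.Agent.Lib.Helper13

open Cfsg

variable {G : Type*} [Group G]

theorem kiter_mono {N N' Z Z' : Subgroup G} (hN : N ≤ N') (hZ : Z ≤ Z') (k : ℕ) :
    Cfsg.iterCommutator N Z k ≤ Cfsg.iterCommutator N' Z' k := by
  induction k with
  | zero => exact hN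
  | succ k ih => exact Subgroup.commutator_mono ih hZ

theorem kiter_bot (Z : Subgroup G) (k : ℕ) : Cfsg.iterCommutator (⊥ : Subgroup G) Z k = ⊥ := by
  induction k with
  | zero => rfl
  | succ k ih =>
    show ⁅Cfsg.iterCommutator (⊥ : Subgroup G) Z k, Z⁆ = ⊥
    rw [ih, Subgroup.commutator_bot_left]

theorem kiter_add (N Z : Subgroup G) (j k : ℕ) :
    Cfsg.iterCommutator N Z (j + k) = Cfsg.iterCommutator (Cfsg.iterCommutator N Z j) Z k := by
  induction k with
  | zero => rfl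
  | succ k ih =>
    show ⁅Cfsg.iterCommutator N Z (j + k), Z⁆ = ⁅Cfsg.iterCommutator (Cfsg.iterCommutator N Z j) Z k, Z⁆
    rw [ih]

/-- If `⁅N, Z⁆ ≤ M` with `M` normalized suitably (here: `⁅M, Z⁆ ≤ M`), the chain from `N` falls
under the chain from `M`, shifted by one. -/
theorem kiter_le_of_commutator_le {N M Z : Subgroup G} (h : ⁅N, Z⁆ ≤ M) (k : ℕ) :
    Cfsg.iterCommutator N Z (k + 1) ≤ Cfsg.iterCommutator M Z k := by
  rw [add_comm, kiter_add]
  exact kiter_mono h le_rfl k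

/-- A subgroup of class at most two has trivial triple commutator. -/
theorem classTwo_triple {B : Subgroup G} (hB : B ∈ Cfsg.classTwoSubgroups G) : ⁅⁅B, B⁆, B⁆ = ⊥ :=
  Subgroup.commutator_eq_bot_iff_le_centralizer.mpr hB

theorem zIn_commutator_eq_bot (B : Subgroup G) :
    ⁅B ⊓ Subgroup.centralizer (B : Set G), B⁆ = ⊥ :=
  Subgroup.commutator_eq_bot_iff_le_centralizer.mpr inf_le_right

/-- A subgroup `B` with `⁅B, A⁆` inside the centre of `B` acts quadratically on `A`. -/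
theorem quadratic_of_commutator_le_zIn {A B : Subgroup G}
    (h : ⁅B, A⁆ ≤ B ⊓ Subgroup.centralizer (B : Set G)) : ⁅⁅A, B⁆, B⁆ = ⊥ := by
  rw [Subgroup.commutator_comm A B]
  exact le_bot_iff.mp ((Subgroup.commutator_mono h le_rfl).trans (zIn_commutator_eq_bot B).le)

/-- The confinement theorem: a forcing hypothesis on a normal subgroup `A₀` of class two puts all
the relevant members of the star families of `S` inside `T`, so that the K-infinity subgroups of
`S` and `T` agree. -/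
theorem kinf_confined {S T A₀ : Subgroup G} (hTS : T ≤ S) (hAT : A₀ ≤ T) [hAn : A₀.Normal]
    (hA2 : A₀ ∈ Cfsg.classTwoSubgroups G)
    (hATc : ⁅A₀, T⁆ ≤ A₀ ⊓ Subgroup.centralizer (A₀ : Set G))
    (hforce : ∀ g ∈ S, Cfsg.iterCommutator A₀ (Subgroup.zpowers g) 3 = ⊥ →
      ⁅⁅A₀ ⊓ Subgroup.centralizer (A₀ : Set G), Subgroup.zpowers g⁆, Subgroup.zpowers g⁆ = ⊥ →
      g ∈ T) :
    (⨆ n, kEvenIn S n) = (⨆ n, kEvenIn T n) ∧ (⨅ n, kOddIn S n) = (⨅ n, kOddIn T n) := by
  obtain ⟨Z, hZ⟩ : ∃ Z : Subgroup G, Z = A₀ ⊓ Subgroup.centralizer (A₀ : Set G) := ⟨_, rfl⟩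
  rw [← hZ] at hATc hforce
  have hZn : Z.Normal := by
    rw [hZ]
    infer_instance
  have hZA : Z ≤ A₀ := hZ ▸ inf_le_left
  have hZZ : ⁅Z, Z⁆ = ⊥ := by
    rw [Subgroup.commutator_eq_bot_iff_le_centralizer]
    exact (hZ ▸ inf_le_right : Z ≤ Subgroup.centralizer (A₀ : Set G)).trans
      (Subgroup.centralizer_le hZA)
  have hZ2 : Z ∈ Cfsg.classTwoSubgroups G := by
    show ⁅Z, Z⁆ ≤ _
    rw [hZZ]
    exact bot_le
  -- a subgroup of `S` acting suitably lies in `T`
  have hsub : ∀ B : Subgroup G, B ≤ S → Cfsg.iterCommutator A₀ B 3 = ⊥ → ⁅⁅Z, B⁆, B⁆ = ⊥ → B ≤ T := by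
    intro B hBS h3 h2 g hg
    have hgB : Subgroup.zpowers g ≤ B := (Subgroup.zpowers_le).mpr hg
    apply hforce g (hBS hg)
    · exact le_bot_iff.mp ((kiter_mono le_rfl hgB 3).trans h3.le)
    · exact le_bot_iff.mp ((Subgroup.commutator_mono (Subgroup.commutator_mono le_rfl hgB) hgB).trans h2.le)
  -- a subgroup acting quadratically on `A₀`
  have hquad : ∀ B : Subgroup G, B ≤ S → ⁅B, A₀⁆ ≤ B ⊓ Subgroup.centralizer (B : Set G) → B ≤ T := by
    intro B hBS h
    have h2 : ⁅⁅A₀, B⁆, B⁆ = ⊥ := quadratic_of_commutator_le_zIn h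
    apply hsub B hBS
    · show ⁅⁅⁅A₀, B⁆, B⁆, B⁆ = ⊥
      rw [h2, Subgroup.commutator_bot_left]
    · exact le_bot_iff.mp ((Subgroup.commutator_mono (Subgroup.commutator_mono hZA le_rfl) le_rfl).trans h2.le)
  apply kinf_sandwich hTS hAT
  · -- A₀ in the lower family
    intro Q hQS
    refine ⟨hA2, ?_, ?_⟩
    · rw [Subgroup.normalizer_eq_top]
      exact le_top
    · intro A hA hAQ hAN _ hZAA
      rw [← hZ] at hZAA ⊢
      have hAA : ⁅A₀, A⁆ ≤ A := Subgroup.le_normalizer_iff_commutator_le_right.mp hAN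
      have h3 : Cfsg.iterCommutator A₀ A 3 = ⊥ := by
        show ⁅⁅⁅A₀, A⁆, A⁆, A⁆ = ⊥
        exact le_bot_iff.mp ((Subgroup.commutator_mono (Subgroup.commutator_mono hAA le_rfl) le_rfl).trans
          (classTwo_triple hA).le)
      have hAT' : A ≤ T := hsub A (hAQ.trans hQS) h3 hZAA
      exact (Subgroup.commutator_mono le_rfl hAT').trans hATc
  · -- A₀ in the upper family
    intro Q hQT
    refine ⟨hA2, ?_⟩
    rw [← hZ]
    exact (Subgroup.commutator_mono le_rfl hQT).trans hATc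
  · -- the upper family is confined
    rintro Q hAQ hQS B ⟨⟨_, hBQ⟩, hBS⟩
    exact hquad B hBS ((Subgroup.commutator_mono le_rfl hAQ).trans hBQ)
  · -- the lower family is confined
    rintro Q hAQ hQS B ⟨⟨hB2, hQB, hB⟩, hBS⟩
    have hBZ : ⁅B, Z⁆ ≤ B ⊓ Subgroup.centralizer (B : Set G) := by
      apply hB Z hZ2 (hZA.trans hAQ)
      · rw [Subgroup.normalizer_eq_top]
        exact le_top
      · rw [hZZ, Subgroup.commutator_bot_right]
      · exact le_bot_iff.mp ((Subgroup.commutator_mono (Subgroup.commutator_le_right _ Z) le_rfl).trans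
          hZZ.le)
    have h2 : ⁅⁅Z, B⁆, B⁆ = ⊥ := quadratic_of_commutator_le_zIn hBZ
    have hAB : ⁅A₀, B⁆ ≤ B :=
      Subgroup.le_normalizer_iff_commutator_le_right.mp (hAQ.trans hQB)
    apply hsub B hBS _ h2
    show ⁅⁅⁅A₀, B⁆, B⁆, B⁆ = ⊥
    exact le_bot_iff.mp ((Subgroup.commutator_mono (Subgroup.commutator_mono hAB le_rfl) le_rfl).trans
      (classTwo_triple hB2).le)

end Cfsg.Agent.Lib.Helper13
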