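import Cfsg.Agent.Lib.Helper13.EngF

set_option autoImplicit false

/-! The Engel hypothesis on sections and control of transfer (helper13). -/

namespace Cfsg.Agent.Lib.Helper13

universe u

section EngelHypDef

/-- The Engel hypothesis of a constrained group: every Sylow `p`-subgroup `T` with `W(T)` not normal
contains an element outside `O_p` that is an Engel element on all chief factors below `O_p`. -/
def EngelHyp (p : ℕ) (W : ∀ (Q : Type u) [Group Q], Subgroup Q) (Q : Type u) [Group Q] : Prop :=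
  Subgroup.centralizer ((Cfsg.pCore p Q : Subgroup Q) : Set Q) ≤ Cfsg.pCore p Q →
    ∀ T : Sylow p Q, ¬ (Cfsg.inducedFunctor (G := Q) W ((T : Subgroup Q))).Normal →
      ∃ g : Q, g ∈ (T : Subgroup Q) ∧ g ∉ Cfsg.pCore p Q ∧
        ∀ U V : Subgroup Q, Cfsg.IsChiefFactor U V → U ≤ Cfsg.pCore p Q →
          Cfsg.iterCommutator U (Subgroup.zpowers g) (p - 1) ≤ V

variable {p : ℕ} [Fact p.Prime] {W : ∀ (Q : Type u) [Group Q], Subgroup Q}

theorem isChiefFactor_comap {Q₁ Q₂ : Type u} [Group Q₁] [Group Q₂] (e : Q₁ ≃* Q₂)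
    {U V : Subgroup Q₂} (h : Cfsg.IsChiefFactor U V) :
    Cfsg.IsChiefFactor (U.comap e.toMonoidHom) (V.comap e.toMonoidHom) := by
  obtain ⟨hlt, hUn, hVn, hmin⟩ := h
  refine ⟨?_, hUn.comap _, hVn.comap _, ?_⟩
  · refine lt_of_le_of_ne (Subgroup.comap_mono hlt.le) ?_
    intro heq
    apply hlt.ne
    rw [← Subgroup.map_comap_eq_self_of_surjective (f := e.toMonoidHom) e.surjective V,
      ← Subgroup.map_comap_eq_self_of_surjective (f := e.toMonoidHom) e.surjective U, heq]
  · intro N hN hVN hNU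
    have hNn : (N.map e.toMonoidHom).Normal := hN.map _ e.surjective
    have h1 : V ≤ N.map e.toMonoidHom := by
      rw [← Subgroup.map_comap_eq_self_of_surjective (f := e.toMonoidHom) e.surjective V]
      exact Subgroup.map_mono hVN
    have h2 : N.map e.toMonoidHom ≤ U := by
      rw [← Subgroup.map_comap_eq_self_of_surjective (f := e.toMonoidHom) e.surjective U]
      exact Subgroup.map_mono hNU
    rcases hmin _ hNn h1 h2 with h | h
    · left
      rw [← h, Subgroup.comap_map_eq_self_of_injective (f := e.toMonoidHom) e.injective]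
    · right
      rw [← h, Subgroup.comap_map_eq_self_of_injective (f := e.toMonoidHom) e.injective]

theorem engelHyp_of_equiv (hW : Cfsg.IsCharPFunctor.{u} p W)
    (Q₁ Q₂ : Type u) [Group Q₁] [Group Q₂] [Finite Q₁] (e : Q₁ ≃* Q₂) (h : EngelHyp p W Q₁) :
    EngelHyp p W Q₂ := by
  intro hc₂ T₂ hnn₂
  have hfin : Finite Q₂ := Finite.of_equiv Q₁ e.toEquiv
  have hO : (Cfsg.pCore p Q₁).map e.toMonoidHom = Cfsg.pCore p Q₂ := pCore_map_equiv e
  have hc₁ : Subgroup.centralizer ((Cfsg.pCore p Q₁ : Subgroup Q₁) : Set Q₁) ≤ Cfsg.pCore p Q₁ := by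
    intro x hx
    have h1 : e x ∈ Subgroup.centralizer ((Cfsg.pCore p Q₂ : Subgroup Q₂) : Set Q₂) := by
      rw [Subgroup.mem_centralizer_iff]
      intro y hy
      rw [SetLike.mem_coe, ← hO] at hy
      obtain ⟨y', hy', rfl⟩ := hy
      have := Subgroup.mem_centralizer_iff.mp hx y' hy'
      show e y' * e x = e x * e y'
      rw [← map_mul, ← map_mul, this]
    have h2 := hc₂ h1
    rw [← hO] at h2
    obtain ⟨x', hx', hxx'⟩ := h2
    have : x' = x := e.injective hxx'
    rw [← this]; exact hx'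
  obtain ⟨T₁, hT₁⟩ : ∃ T₁ : Subgroup Q₁, T₁ = (T₂ : Subgroup Q₂).comap e.toMonoidHom := ⟨_, rfl⟩
  have hmap : T₁.map e.toMonoidHom = (T₂ : Subgroup Q₂) := by
    rw [hT₁]
    exact Subgroup.map_comap_eq_self_of_surjective (f := e.toMonoidHom) e.surjective _
  have hT₁p : IsPGroup p ↥T₁ := by
    rw [hT₁]
    exact T₂.isPGroup'.comap_of_injective e.toMonoidHom e.injective
  have hT₁i : ¬ p ∣ T₁.index := by
    rw [hT₁, Subgroup.index_comap_of_surjective _ e.surjective]
    exact T₂.not_dvd_index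
  have hnn₁ : ¬ (Cfsg.inducedFunctor (G := Q₁) W ((hT₁p.toSylow hT₁i : Sylow p Q₁) :
      Subgroup Q₁)).Normal := by
    rw [hT₁p.toSylow_coe hT₁i]
    intro hn
    apply hnn₂
    have h1 := inducedFunctor_map_hom W hW e.toMonoidHom T₁ hT₁p
      (fun t _ ht => e.injective (by rw [map_one]; exact ht))
    rw [hmap] at h1
    rw [h1]
    exact hn.map _ e.surjective
  obtain ⟨g, hgT, hgP, hEng⟩ := h hc₁ (hT₁p.toSylow hT₁i) hnn₁
  rw [hT₁p.toSylow_coe hT₁i] at hgT
  refine ⟨e g, ?_, ?_, ?_⟩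
  · rw [hT₁] at hgT
    exact hgT
  · intro hcon
    rw [← hO] at hcon
    obtain ⟨g', hg', hgg'⟩ := hcon
    have : g' = g := e.injective hgg'
    exact hgP (this ▸ hg')
  · intro U V hUV hU
    have h1 := hEng _ _ (isChiefFactor_comap e hUV) (by
      rw [← Subgroup.comap_map_eq_self_of_injective (f := e.toMonoidHom) e.injective (Cfsg.pCore p Q₁), hO]
      exact Subgroup.comap_mono hU)
    have h2 := Subgroup.map_mono (f := e.toMonoidHom) h1
    rw [iterCommutator_map, Subgroup.map_comap_eq_self_of_surjective (f := e.toMonoidHom) e.surjective,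
      Subgroup.map_comap_eq_self_of_surjective (f := e.toMonoidHom) e.surjective, MonoidHom.map_zpowers] at h2
    exact h2

/-- An isomorphism-invariant functor satisfying the Engel hypothesis on all sections controls
transfer. -/
theorem engel_ft (hW : Cfsg.IsCharPFunctor.{u} p W) :
    ∀ (n : ℕ) (Γ : Type u) [Group Γ] [Finite Γ], Nat.card Γ = n →
      SecAll (EngelHyp p W) Γ → FT p {W} Γ := by
  have h𝓦 : ∀ W' ∈ ({W} : Set (∀ (Q : Type u) [Group Q], Subgroup Q)),
      Cfsg.IsCharPFunctor.{u} p W' := by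
    intro W' hW'
    rw [Set.mem_singleton_iff] at hW'
    rw [hW']; exact hW
  intro n
  induction n using Nat.strong_induction_on with
  | _ n ih =>
  intro Γ _ _ hcard hsec
  have hprop : ∀ (Q : Type u) [Group Q] [Finite Q] (K : Subgroup Γ) (f : ↥K →* Q),
      Function.Surjective f → Nat.card Q < Nat.card Γ → FT p {W} Q := by
    intro Q _ _ K f hf hlt
    exact ih (Nat.card Q) (hcard ▸ hlt) Q rfl (secAll_section hsec K f hf)
  have hsub : ∀ N : Subgroup Γ, N ≠ ⊤ → FT p {W} ↥N := by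
    intro N hN
    exact hprop ↥N N (MonoidHom.id ↥N) Function.surjective_id (card_subgroup_lt_of_ne_top N hN)
  have hH : HypT p {W} Γ := by
    apply hypT_of_engel h𝓦 ⟨W, rfl⟩ hsub
    intro hc S
    by_cases hn : (Cfsg.inducedFunctor (G := Γ) W (S : Subgroup Γ)).Normal
    · exact Or.inl ⟨W, rfl, hn⟩
    · exact Or.inr (secAll_self hsec hc S hn)
  exact sec_tr_main h𝓦 _ Γ rfl (secAll_hypT_of_proper h𝓦 hprop hH)

end EngelHypDef

end Cfsg.Agent.Lib.Helper13
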