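import Cfsg.Agent.Lib.Helper13.KInfG

set_option autoImplicit false

/-! The `4`-Engel property on chief factors below a normal `p`-subgroup with a critical subgroup on
which the acting subgroup is cubic (helper13). -/

namespace Cfsg.Agent.Lib.Helper13

open Cfsg

open scoped commutatorElement

variable {G : Type*} [Group G]

/-- The target levels for the filtered argument. -/
def vlev (D H C' : Subgroup G) : ℕ → Subgroup G
  | 0 => D
  | 1 => D
  | 2 => D
  | 3 => ⁅D, H⁆ ⊔ C'
  | (_ + 4) => C'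

section Main

variable (T A H : Subgroup G) [hT : T.Normal] [hA : A.Normal]

theorem cser_comm_T (hATc : ⁅A, T⁆ ≤ A ⊓ Subgroup.centralizer (A : Set G)) (k : ℕ) :
    ⁅cser T A k, T⁆ ≤ cser T A (k + 1) := by
  cases k with
  | zero => exact hATc
  | succ m => exact le_rfl

theorem cser_kiter2 (h2 : ⁅⁅A ⊓ Subgroup.centralizer (A : Set G), H⁆, H⁆ = ⊥) (k : ℕ) :
    Cfsg.iterCommutator (cser T A (k + 1)) H 2 = ⊥ := by
  have h := kiter_mono (cser_succ_le_one T A k) (le_refl H) 2
  have h' : Cfsg.iterCommutator (cser T A 1) H 2 = ⊥ := h2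
  rw [h'] at h
  exact le_bot_iff.mp h

theorem cser_kiter3 (h3 : Cfsg.iterCommutator A H 3 ≤ A ⊓ Subgroup.centralizer (A : Set G))
    (h2 : ⁅⁅A ⊓ Subgroup.centralizer (A : Set G), H⁆, H⁆ = ⊥) (k : ℕ) :
    Cfsg.iterCommutator (cser T A k) H 3 ≤ cser T A (k + 1) := by
  cases k with
  | zero => exact h3
  | succ m =>
    show ⁅Cfsg.iterCommutator (cser T A (m + 1)) H 2, H⁆ ≤ _
    rw [cser_kiter2 T A H h2 m, Subgroup.commutator_bot_left]
    exact bot_le

theorem cser_kiter_ge3 (h3 : Cfsg.iterCommutator A H 3 ≤ A ⊓ Subgroup.centralizer (A : Set G))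
    (h2 : ⁅⁅A ⊓ Subgroup.centralizer (A : Set G), H⁆, H⁆ = ⊥) (k d : ℕ) :
    Cfsg.iterCommutator (cser T A k) H (3 + d) ≤ cser T A (k + 1) := by
  rw [kiter_add]
  exact (kiter_mono (cser_kiter3 T A H h3 h2 k) le_rfl d).trans (kiter_le_self _ H d)

theorem cser_succ_le_lcs (hAT : A ≤ T) (k : ℕ) : cser T A (k + 1) ≤ T.lowerCentralSeries k := by
  induction k with
  | zero => exact (inf_le_left : A ⊓ _ ≤ A).trans hAT
  | succ k ih => exact Subgroup.commutator_mono ih le_rfl

theorem cser_eventually_bot [Finite G] {p : ℕ} [Fact p.Prime] (hTp : IsPGroup p ↥T) (hAT : A ≤ T) :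
    ∃ n, cser T A (n + 1) = ⊥ := by
  have hnil : Group.IsNilpotent ↥T := hTp.isNilpotent
  obtain ⟨n, hn⟩ := (Subgroup.isNilpotent_iff_lowerCentralSeries T).mp hnil
  exact ⟨n, le_bot_iff.mp (hn ▸ cser_succ_le_lcs T A hAT n)⟩

theorem le_tstab_one (hATc : ⁅A, T⁆ ≤ A ⊓ Subgroup.centralizer (A : Set G)) : T ≤ tstab T A 1 := by
  rw [le_tstab_iff]
  exact ⟨le_rfl, fun k => cser_comm_T T A hATc k⟩

theorem tstab_le_of_bot (hCT : T ⊓ Subgroup.centralizer (A : Set G) ≤ A) (n : ℕ)
    (hn : cser T A (n + 1) = ⊥) : tstab T A (n + 1) ≤ cser T A 1 := by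
  have h1 := tstab_comm T A (n + 1) 0
  rw [zero_add, hn, le_bot_iff, cser_zero, Subgroup.commutator_comm,
    Subgroup.commutator_eq_bot_iff_le_centralizer] at h1
  have h2 : tstab T A (n + 1) ≤ A := (le_inf (tstab_le T A _) h1).trans hCT
  exact le_inf h2 h1

/-- The key step: `H` is `4`-Engel from one stability group to the next. -/
theorem tstab_step (hAT : A ≤ T)
    (h3 : Cfsg.iterCommutator A H 3 ≤ A ⊓ Subgroup.centralizer (A : Set G))
    (h2 : ⁅⁅A ⊓ Subgroup.centralizer (A : Set G), H⁆, H⁆ = ⊥) (j : ℕ) :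
    Cfsg.iterCommutator (tstab T A (j + 1)) H 4 ≤ tstab T A (j + 2) := by
  rw [le_tstab_iff]
  refine ⟨(kiter_mono (tstab_le T A _) le_rfl 4).trans (kiter_le_self T H 4), fun k => ?_⟩
  obtain ⟨D, hD⟩ : ∃ D : Subgroup G, D = cser T A (k + j + 1) := ⟨_, rfl⟩
  obtain ⟨C', hC'⟩ : ∃ C' : Subgroup G, C' = cser T A (k + j + 2) := ⟨_, rfl⟩
  have hDn : D.Normal := hD ▸ inferInstance
  have hC'n : C'.Normal := hC' ▸ inferInstance
  have hC'D : C' = ⁅D, T⁆ := by rw [hC', hD]; rfl
  have hC'leD : C' ≤ D := by rw [hC'D]; exact Subgroup.commutator_le_left D T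
  have hDH2 : ⁅⁅D, H⁆, H⁆ = ⊥ := by rw [hD]; exact cser_kiter2 T A H h2 (k + j)
  have hkT : cser T A k ≤ T := (cser_le_zero T A k).trans hAT
  have hV3 : ⁅⁅D, H⁆ ⊔ C', H⁆ ≤ C' := by
    refine (commutator_sup_normal_le C' _ H).trans (sup_le ?_ le_rfl)
    rw [hDH2]
    exact bot_le
  have hDHD : ⁅D, H⁆ ⊔ C' ≤ D := sup_le (Subgroup.commutator_le_left D H) hC'leD
  have key := filt_iter (X := tstab T A (j + 1)) (H := H) (L := T ⊔ H)
    (fun i => Cfsg.iterCommutator (cser T A k) H i) (vlev D H C')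
    ((tstab_le T A _).trans le_sup_left) le_sup_right
    (fun i => ((kiter_le_self _ H i).trans hkT).trans le_sup_left) ?_ (fun i => le_rfl) ?_ ?_ 4 0
  · rw [Subgroup.commutator_comm]
    have h4 : k + (j + 2) = k + j + 2 := by omega
    rw [h4, ← hC']
    exact key
  · -- normalizers
    intro m
    match m with
    | 0 => show _ ≤ Subgroup.normalizer (D : Set G); rw [Subgroup.normalizer_eq_top]; exact le_top
    | 1 => show _ ≤ Subgroup.normalizer (D : Set G); rw [Subgroup.normalizer_eq_top]; exact le_top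
    | 2 => show _ ≤ Subgroup.normalizer (D : Set G); rw [Subgroup.normalizer_eq_top]; exact le_top
    | 3 =>
      show _ ≤ Subgroup.normalizer ((⁅D, H⁆ ⊔ C' : Subgroup G) : Set G)
      apply sup_le
      · rw [Subgroup.le_normalizer_iff_commutator_le_left]
        refine (Subgroup.commutator_mono hDHD le_rfl).trans ?_
        rw [← hC'D]
        exact le_sup_right
      · rw [Subgroup.le_normalizer_iff_commutator_le_left]
        exact hV3.trans le_sup_right
    | (m + 4) =>
      show _ ≤ Subgroup.normalizer (C' : Set G); rw [Subgroup.normalizer_eq_top]; exact le_top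
  · -- the target levels
    intro m
    match m with
    | 0 => exact Subgroup.commutator_le_left D H
    | 1 => exact Subgroup.commutator_le_left D H
    | 2 => exact le_sup_left
    | 3 => exact hV3
    | (m + 4) => exact Subgroup.commutator_le_left C' H
  · -- the pairing
    have hlow : ∀ i, ⁅tstab T A (j + 1), Cfsg.iterCommutator (cser T A k) H i⁆ ≤ D := by
      intro i
      refine (Subgroup.commutator_mono le_rfl (kiter_le_self _ H i)).trans ?_
      rw [Subgroup.commutator_comm, hD]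
      exact tstab_comm T A (j + 1) k
    have hhigh : ∀ d, ⁅tstab T A (j + 1), Cfsg.iterCommutator (cser T A k) H (3 + d)⁆ ≤ C' := by
      intro d
      refine (Subgroup.commutator_mono le_rfl (cser_kiter_ge3 T A H h3 h2 k d)).trans ?_
      rw [Subgroup.commutator_comm, hC']
      have h5 : k + j + 2 = k + 1 + (j + 1) := by omega
      rw [h5]
      exact tstab_comm T A (j + 1) (k + 1)
    intro i
    match i with
    | 0 => exact hlow 0
    | 1 => exact hlow 1
    | 2 => exact hlow 2
    | 3 => exact (hhigh 0).trans le_sup_right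
    | (i + 4) =>
      have h6 : i + 4 = 3 + (i + 1) := by omega
      show ⁅_, Cfsg.iterCommutator (cser T A k) H (i + 4)⁆ ≤ C'
      rw [h6]
      exact hhigh (i + 1)

end Main

end Cfsg.Agent.Lib.Helper13

namespace Cfsg.Agent.Lib.Helper13

open Cfsg

open scoped commutatorElement

/-- Let `T` be a normal `p`-subgroup of the finite group `G`, and `A ≤ T` a normal subgroup of `G`
with `[A, T] ≤ Z(A)` and `C_T(A) ≤ A`.  If `[A, H, H, H] ≤ Z(A)` and `[Z(A), H, H] = 1`, then `H` is
`4`-Engel on every chief factor of `G` below `T`. -/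
theorem engel4_below {G : Type*} [Group G] [Finite G] {p : ℕ} [Fact p.Prime]
    (T A H : Subgroup G) [hT : T.Normal] [hA : A.Normal]
    (hTp : IsPGroup p ↥T) (hAT : A ≤ T)
    (hATc : ⁅A, T⁆ ≤ A ⊓ Subgroup.centralizer (A : Set G))
    (hCT : T ⊓ Subgroup.centralizer (A : Set G) ≤ A)
    (h3 : Cfsg.iterCommutator A H 3 ≤ A ⊓ Subgroup.centralizer (A : Set G))
    (h2 : ⁅⁅A ⊓ Subgroup.centralizer (A : Set G), H⁆, H⁆ = ⊥) :
    ∀ U V : Subgroup G, Cfsg.IsChiefFactor U V → U ≤ T → Cfsg.iterCommutator U H 4 ≤ V := by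
  obtain ⟨n, hn⟩ := cser_eventually_bot T A hTp hAT
  have hA : ∀ d k, k + d = n + 1 → 1 ≤ k → EngGood H 4 (cser T A k) := by
    intro d
    induction d with
    | zero =>
      intro k hk _
      rw [add_zero] at hk
      rw [hk, hn]
      exact engGood_bot H 4
    | succ d ih =>
      intro k hk hk1
      have h1 : EngGood H 4 (cser T A (k + 1)) := ih (k + 1) (by omega) (by omega)
      exact engGood_step (cser_kiter_ge3 T A H h3 h2 k 1) h1
  have hB : EngGood H 4 (tstab T A (n + 1)) :=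
    engGood_mono (tstab_le_of_bot T A hCT n hn) (hA n 1 (by omega) le_rfl)
  have hC : ∀ d j, j + d = n → EngGood H 4 (tstab T A (j + 1)) := by
    intro d
    induction d with
    | zero =>
      intro j hj
      rw [add_zero] at hj
      rw [hj]
      exact hB
    | succ d ih =>
      intro j hj
      have h1 : EngGood H 4 (tstab T A (j + 1 + 1)) := ih (j + 1) (by omega)
      exact engGood_step (tstab_step T A H hAT h3 h2 j) h1
  have hD : EngGood H 4 T := engGood_mono (le_tstab_one T A hATc) (hC n 0 (by omega))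
  intro U V hUV hUT
  have := hD U V hUV
  rwa [inf_eq_left.mpr hUT] at this

end Cfsg.Agent.Lib.Helper13
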