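import Cfsg.Agent.Lib.Helper13.KInfE
import Cfsg.Agent.Lib.Helper13.KInfH
import Cfsg.Agent.Lib.Helper1.Critical
import Cfsg.Agent.Lib.Helper13.EngG

set_option autoImplicit false

/-! Glauberman's K-infinity theorem, Engel form: if a K-infinity subgroup of a Sylow `p`-subgroup is
not normal, some element of the Sylow subgroup outside `O_p` is `4`-Engel on all chief factors below
`O_p` and quadratic on `Z(O_p)` (helper13). -/

namespace Cfsg.Agent.Lib.Helper13

open Cfsg

open scoped commutatorElement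

universe u

variable {G : Type u} [Group G] [Finite G] {p : ℕ} [Fact p.Prime]

/-- A critical subgroup of a normal `p`-subgroup `T`, as a subgroup of `G`. -/
theorem exists_critical_in (T : Subgroup G) [hT : T.Normal] (hTp : IsPGroup p ↥T) :
    ∃ A : Subgroup G, A.Normal ∧ A ≤ T ∧
      ⁅A, T⁆ ≤ A ⊓ Subgroup.centralizer (A : Set G) ∧
      T ⊓ Subgroup.centralizer (A : Set G) ≤ A := by
  obtain ⟨H, hHchar, -, hHT, hHC⟩ := Cfsg.Agent.Lib.Helper1.exists_critical hTp
  refine ⟨H.map T.subtype, inferInstance, Subgroup.map_subtype_le _, ?_, ?_⟩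
  · have h1 := Subgroup.map_mono (f := T.subtype) hHT
    rw [Subgroup.map_commutator, kmap_zIn (Subgroup.subtype_injective T),
      ← MonoidHom.range_eq_map, Subgroup.range_subtype] at h1
    exact h1
  · intro x hx
    rw [Subgroup.mem_inf, Subgroup.mem_centralizer_iff] at hx
    have h2 : (⟨x, hx.1⟩ : ↥T) ∈ Subgroup.centralizer (H : Set ↥T) := by
      rw [Subgroup.mem_centralizer_iff]
      intro h hh
      apply Subtype.ext
      exact hx.2 (h : G) ⟨h, hh, rfl⟩
    exact ⟨⟨x, hx.1⟩, hHC h2, rfl⟩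

/-- The Engel form of the K-infinity theorem. -/
theorem exists_engel4_of_kinf_not_normal (S : Sylow p G)
    (hK : ¬ (Cfsg.inducedFunctor (G := G) Cfsg.kInfLower (S : Subgroup G)).Normal ∨
      ¬ (Cfsg.inducedFunctor (G := G) Cfsg.kInfUpper (S : Subgroup G)).Normal) :
    ∃ g : G, g ∈ (S : Subgroup G) ∧ g ∉ Cfsg.pCore p G ∧
      (∀ U V : Subgroup G, Cfsg.IsChiefFactor U V → U ≤ Cfsg.pCore p G →
        Cfsg.iterCommutator U (Subgroup.zpowers g) 4 ≤ V) ∧
      ⁅⁅Cfsg.pCore p G ⊓ Subgroup.centralizer ((Cfsg.pCore p G : Subgroup G) : Set G),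
        Subgroup.zpowers g⁆, Subgroup.zpowers g⁆ = ⊥ := by
  by_contra hno
  push Not at hno
  have hTn : (Cfsg.pCore p G).Normal := pCore_normal' p
  have hTp : IsPGroup p ↥(Cfsg.pCore p G) := pCore_isPGroup
  have hTS : Cfsg.pCore p G ≤ (S : Subgroup G) := pCore_le_sylow S
  obtain ⟨A, hAn, hAT, hATc, hCT⟩ := exists_critical_in (Cfsg.pCore p G) hTp
  have hA2 : A ∈ Cfsg.classTwoSubgroups G :=
    ((Subgroup.commutator_mono le_rfl hAT).trans hATc).trans inf_le_right
  have hZTA : Cfsg.pCore p G ⊓ Subgroup.centralizer ((Cfsg.pCore p G : Subgroup G) : Set G) ≤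
      A ⊓ Subgroup.centralizer (A : Set G) := by
    have h1 : Cfsg.pCore p G ⊓ Subgroup.centralizer ((Cfsg.pCore p G : Subgroup G) : Set G) ≤
        Cfsg.pCore p G ⊓ Subgroup.centralizer (A : Set G) :=
      inf_le_inf_left _ (Subgroup.centralizer_le hAT)
    exact le_inf (h1.trans hCT) (h1.trans inf_le_right)
  have hconf := kinf_confined hTS hAT hA2 hATc (by
    intro g hg h3 h2
    by_contra hgT
    refine hno g hg hgT ?_ ?_
    · exact engel4_below (Cfsg.pCore p G) A (Subgroup.zpowers g) hTp hAT hATc hCT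
        (h3 ▸ bot_le) h2
    · exact le_bot_iff.mp ((Subgroup.commutator_mono (Subgroup.commutator_mono hZTA le_rfl)
        le_rfl).trans h2.le))
  obtain ⟨h1, h2⟩ := kinf_normal_of_eq S hconf
  rcases hK with hK | hK
  · exact hK h1
  · exact hK h2

theorem kiter_le_of_four {U V H : Subgroup G} [hV : V.Normal]
    (h : Cfsg.iterCommutator U H 4 ≤ V) {n : ℕ} (hn : 4 ≤ n) : Cfsg.iterCommutator U H n ≤ V := by
  obtain ⟨d, rfl⟩ := Nat.exists_eq_add_of_le hn
  rw [kiter_add]
  exact (kiter_mono h le_rfl d).trans (kiter_le_self V H d)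

/-- For `p ≥ 5` the lower K-infinity functor satisfies the Engel hypothesis in every finite group. -/
theorem engelHyp_kInfLower (hp : 5 ≤ p) (Q : Type u) [Group Q] [Finite Q] :
    EngelHyp p Cfsg.kInfLower Q := by
  intro _ T hT
  obtain ⟨g, hgT, hgO, hE, -⟩ := exists_engel4_of_kinf_not_normal T (Or.inl hT)
  refine ⟨g, hgT, hgO, fun U V hUV hU => ?_⟩
  have := hUV.2.2.1
  exact kiter_le_of_four (hE U V hUV hU) (by omega)

theorem engelHyp_kInfUpper (hp : 5 ≤ p) (Q : Type u) [Group Q] [Finite Q] :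
    EngelHyp p Cfsg.kInfUpper Q := by
  intro _ T hT
  obtain ⟨g, hgT, hgO, hE, -⟩ := exists_engel4_of_kinf_not_normal T (Or.inr hT)
  refine ⟨g, hgT, hgO, fun U V hUV hU => ?_⟩
  have := hUV.2.2.1
  exact kiter_le_of_four (hE U V hUV hU) (by omega)

end Cfsg.Agent.Lib.Helper13
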