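import Mathlib
import Cfsg.Agent.Lib.Helper10.BHPB
import Cfsg.Agent.Lib.Helper13.BT.Defs

/-!
# Project BT (S0997), piece PB3 : the principal block for `1 < e`, `e + 1 < p`, from S4709
(the proof of `pb_values` in `Helper10/BHPB.lean`, keeping more of the conclusion of S4709)
-/

set_option autoImplicit false
set_option linter.unusedVariables false
set_option linter.unusedSectionVars false
set_option linter.style.haveILetI false
set_option maxHeartbeats 1000000

namespace Cfsg.Agent.Lib.Helper13.BT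

open Classical
open scoped ComplexConjugate
open Cfsg.Agent.Lib.Helper25 Cfsg.Agent.Lib.Helper29
open Cfsg.Agent.Lib.helper7.BR
open Cfsg.Agent.Lib.helper7 Cfsg.Agent.Lib.helper2 Cfsg.Agent.Lib.helper15.BH

universe u

variable {G : Type u} [Group G] [Fintype G] {p : ℕ} [Fact p.Prime]

/-- PB3 : the principal block for `1 < e`, `e + 1 < p` (copy the proof of `pb_values` in `Helper10/BHPB.lean`
(from S4709) and keep more of it: `hrelε` for all `p`-regular `g`, `hYagree`, `hYval` (which gives `ppart`, with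
`af_isPPart_self`), `hdisj`, `hYfcard` and `hsr`) -/
theorem pb_values3 (P : Sylow p G) (hP : Nat.card ↥(P : Subgroup G) = p) (e : ℕ)
    (he : (cen P).relIndex (nrm P) = e) (h1 : 1 < e) (h2 : e + 1 < p) :
    ∃ (X Y : Finset (Cfsg.IrrCharacter G)) (a : Cfsg.IrrCharacter G → ℤ) (ε : ℤ), PB3 p e P X Y a ε := by
  have hpp := (Fact.out : p.Prime)
  obtain ⟨M, hM⟩ := exists_isPModular p hpp
  have hAF := bhpb_afsetup P hP
  have hab : IsMulCommutative ↥(P : Subgroup G) := by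
    haveI : IsCyclic ↥(P : Subgroup G) := isCyclic_of_prime_card hP
    exact IsCyclic.isMulCommutative
  obtain ⟨s, X, Y, hs, hB, hdisj, hX, hY, htriv, a, d, δ, ζ, hδ, hXa, hζY, hζsurj, hζconj, hζval,
      hsq, hYagree, hrel⟩ :=
    Cfsg.Agent.S4709.result p M hM P hab (by rw [hP]; exact hpp.one_lt.ne') e h1
      (by rw [hP]; exact h2) he (BD.bdcasemid_hcyc p P hP) (BD.bdcasemid_hfrob p P hP)
  rw [hP] at hY hsq hrel
  set r := (p - 1) / e with hr
  have hXfin : X.Finite := Set.toFinite X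
  have hYfin : Y.Finite := Set.toFinite Y
  -- `s = e`
  have hcardB : Nat.card (Cfsg.principalBlock M G) = s + r := by
    rw [hB, Nat.card_coe_set_eq, Set.ncard_union_eq hdisj hXfin hYfin, ← Nat.card_coe_set_eq,
      ← Nat.card_coe_set_eq, hX, hY]
  have hk : e + r ≤ Nat.card (Cfsg.principalBlock M G) := by
    rw [BD.card_principal_eq p M hM P hP, he]
    have := BD.principal_blockRank_ge p M hM P hP
    rw [he] at this
    omega
  have hse : s = e := by omega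
  subst hse
  -- arithmetic of `r`
  have hdvd : s ∣ p - 1 := by
    rw [← he]
    exact Cfsg.Agent.Lib.helper8.h8_relIndex_centralizer_normalizer_dvd_prime p hpp (P : Subgroup G) hP
  have hsr : s * r = p - 1 := Nat.mul_div_cancel' hdvd
  have hr2 : 2 ≤ r := by
    by_contra hcon
    push Not at hcon
    interval_cases r <;> omega
  have hdivZ : ((p : ℤ) - 1) / (s : ℤ) = (r : ℤ) := by
    rw [hr, Int.natCast_div, Nat.cast_sub hpp.one_le, Nat.cast_one]
  rw [hdivZ] at hsq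
  -- the sum of squares
  set T := hXfin.toFinset with hT
  have hTcard : T.card = s := by
    rw [← hX, Nat.card_coe_set_eq, Set.ncard_eq_toFinset_card X hXfin]
  have hTmem : ∀ χ, χ ∈ T ↔ χ ∈ X := fun χ => Set.Finite.mem_toFinset hXfin
  rw [finsum_mem_eq_finite_toFinset_sum _ hXfin] at hsq
  have hane : ∀ χ ∈ T, a χ ≠ 0 := fun χ hχ => (hXa χ ((hTmem χ).1 hχ)).1
  have hge := BD.bdcasemid_sq_ge T a hane
  rw [hTcard] at hge
  obtain ⟨hS, hcase⟩ := BD.bdcasemid_arith d δ (r : ℤ) (∑ χ ∈ T, a χ ^ 2) (s : ℤ) hδ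
    (by exact_mod_cast hr2) hge hsq
  have hapm : ∀ χ ∈ X, a χ = 1 ∨ a χ = -1 := by
    intro χ hχ
    exact BD.bdcasemid_sq_one T a hane (by rw [hS, hTcard]) χ ((hTmem χ).2 hχ)
  -- the sign
  set ε : ℤ := if d = 0 then δ else -δ with hε
  have hεpm : ε = 1 ∨ ε = -1 := by
    rw [hε]
    split_ifs
    · exact hδ
    · rcases hδ with h | h
      · right; rw [h]
      · left; rw [h]; norm_num
  -- the relation
  have hrelε : ∀ θ ∈ Y, ∀ g : G, ¬ p ∣ orderOf g →
      (ε : ℂ) * (θ : G → ℂ) g = ∑ᶠ χ ∈ X, (a χ : ℂ) * (χ : G → ℂ) g := by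
    intro θ hθ g hg
    have h3 := hrel θ hθ g hg
    rcases hcase with hd0 | ⟨hdδ, hR2⟩
    · rw [hε, if_pos hd0]
      rw [hd0] at h3
      push_cast at h3
      linear_combination (-1 : ℂ) * h3
    · have hd0 : d ≠ 0 := by
        rw [hdδ]
        rcases hδ with h | h <;> rw [h] <;> norm_num
      rw [hε, if_neg hd0]
      have hr2' : r = 2 := by exact_mod_cast hR2
      rw [hr2', hdδ] at h3
      push_cast at h3 ⊢
      linear_combination (-1 : ℂ) * h3
  -- the value `r d - δ = -ε`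
  have hrd : (r : ℂ) * (d : ℂ) - (δ : ℂ) = -(ε : ℂ) := by
    rcases hcase with hd0 | ⟨hdδ, hR2⟩
    · rw [hε, if_pos hd0, hd0]
      push_cast
      ring
    · have hd0 : d ≠ 0 := by
        rw [hdδ]
        rcases hδ with h | h <;> rw [h] <;> norm_num
      rw [hε, if_neg hd0]
      have hr2' : r = 2 := by exact_mod_cast hR2
      rw [hr2', hdδ]
      push_cast
      ring
  -- the value `(p - 1) d - δ e = - ε e`
  have hpd : ((p : ℂ) - 1) * (d : ℂ) - (δ : ℂ) * (s : ℂ) = -(ε : ℂ) * (s : ℂ) := by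
    have hsrC : (s : ℂ) * (r : ℂ) = (p : ℂ) - 1 := by
      rw [← Nat.cast_mul, hsr, Nat.cast_sub hpp.one_le, Nat.cast_one]
    rw [← hsrC]
    linear_combination (s : ℂ) * hrd
  -- finiteness of the dual
  haveI : Finite (↥(P : Subgroup G) →* ℂˣ) := Nat.finite_of_card_ne_zero (by
    rw [afd_card_dual hAF.comm]
    exact Nat.card_pos.ne')
  haveI : Fintype (↥(P : Subgroup G) →* ℂˣ) := Fintype.ofFinite _
  set Yf := hYfin.toFinset with hYf
  have hYfcard : Yf.card = r := by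
    rw [← hY, Nat.card_coe_set_eq, Set.ncard_eq_toFinset_card Y hYfin]
  have hYfmem : ∀ χ, χ ∈ Yf ↔ χ ∈ Y := fun χ => Set.Finite.mem_toFinset hYfin
  -- the fibres of `ζ` are the orbits
  have hfib := bhpb_fibre P hAF s he Yf ζ (fun ψ hψ => (hYfmem _).2 (hζY ψ hψ))
    (fun η hη => hζsurj η ((hYfmem _).1 hη)) (fun ψ ψ' hψ hrel => hζconj ψ ψ' hψ hrel)
    (by rw [hYfcard, hP, mul_comm, hsr])
  -- values of the members of `Y`
  have hYval : ∀ ψ : ↥(P : Subgroup G) →* ℂˣ, ψ ≠ 1 → ∀ (z : G) (y : ↥(P : Subgroup G)),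
      Cfsg.IsPPart p z (y : G) → (y : G) ≠ 1 → (ζ ψ : G → ℂ) z = (d : ℂ) + (δ : ℂ) *
        ∑ ψ' ∈ Finset.univ.filter (fun ψ' : ↥(P : Subgroup G) →* ℂˣ => afRel (P : Subgroup G) ψ ψ'),
          ((ψ' y : ℂˣ) : ℂ) := by
    intro ψ hψ z y hz hy
    rw [hζval ψ hψ z y hz hy]
    congr 2
    exact af_finsum_eq _ _ (by intro ψ'; simp [afRel]) _
  have hdisjF : Disjoint T Yf := by
    rw [Finset.disjoint_left]
    intro χ hχ hχ'
    exact (Set.disjoint_left.mp hdisj ((hTmem χ).1 hχ)) ((hYfmem χ).1 hχ')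
  refine ⟨T, Yf, a, ε, ⟨hTcard, ?_, hdisjF, ?_, ?_, ?_, hεpm, ?_, ?_, ?_, ?_, ?_⟩⟩
  · rw [hYfcard, mul_comm]; exact hsr
  · obtain ⟨χ₁, hχ₁, hχ₁v⟩ := htriv
    have : χ₁ = trivIrr G := Subtype.ext hχ₁v
    rw [← this]
    exact (hTmem _).2 hχ₁
  · intro χ hχ
    exact hapm χ ((hTmem χ).1 hχ)
  · intro χ hχ g hg
    obtain ⟨k, y, hy, hyP, hy1⟩ := bhpb_sing P g hg
    rw [← isCharacter_isClassFunction (isCharacter_of_irr χ) g k]
    exact (hXa χ ((hTmem χ).1 hχ)).2 _ y hy hyP hy1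
  · -- sums over `P`
    intro η hη
    obtain ⟨ψ₀, hψ₀, hψη⟩ := hζsurj η ((hYfmem _).1 hη)
    rw [← Finset.add_sum_erase Finset.univ _ (Finset.mem_univ (1 : ↥(P : Subgroup G)))]
    have h3 : ∀ x ∈ (Finset.univ : Finset ↥(P : Subgroup G)).erase 1, (η : G → ℂ) (x : G) =
        (d : ℂ) + (δ : ℂ) * ∑ ψ' ∈ Finset.univ.filter
          (fun ψ' : ↥(P : Subgroup G) →* ℂˣ => afRel (P : Subgroup G) ψ₀ ψ'), ((ψ' x : ℂˣ) : ℂ) := by
      intro x hx
      have hx1 : (x : G) ≠ 1 := fun h => (Finset.mem_erase.1 hx).1 (Subtype.ext h)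
      rw [← hψη]
      exact hYval ψ₀ hψ₀ (x : G) x (af_isPPart_self P x.2) hx1
    rw [Finset.sum_congr rfl h3, Finset.sum_add_distrib, ← Finset.mul_sum, Finset.sum_comm,
      Finset.sum_const, Finset.card_erase_of_mem (Finset.mem_univ _), Finset.card_univ,
      ← Nat.card_eq_fintype_card, hP]
    have h4 : ∀ ψ' ∈ Finset.univ.filter
        (fun ψ' : ↥(P : Subgroup G) →* ℂˣ => afRel (P : Subgroup G) ψ₀ ψ'),
        ∑ x ∈ (Finset.univ : Finset ↥(P : Subgroup G)).erase 1, ((ψ' x : ℂˣ) : ℂ) = -1 := by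
      intro ψ' hψ'
      exact bhpb_sum_elems P ψ' (afRel_ne_one _ _ _ (Finset.mem_filter.mp hψ').2 hψ₀)
    rw [Finset.sum_congr rfl h4, Finset.sum_const, af_orbit_card hAF s he ψ₀ hψ₀, Subgroup.coe_one,
      nsmul_eq_mul, nsmul_eq_mul, Nat.cast_sub hpp.one_le, Nat.cast_one]
    linear_combination hpd
  · -- sums over `Y` at `p`-singular elements
    intro g hg
    obtain ⟨k, y, hy, hyP, hy1⟩ := bhpb_sing P g hg
    have h3 : ∀ η ∈ Yf, (η : G → ℂ) g = (d : ℂ) + (δ : ℂ) *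
        ∑ ψ' ∈ (Finset.univ.filter (fun ψ : ↥(P : Subgroup G) →* ℂˣ => ψ ≠ 1)).filter
          (fun ψ => ζ ψ = η), ((ψ' (⟨y, hyP⟩ : ↥(P : Subgroup G)) : ℂˣ) : ℂ) := by
      intro η hη
      obtain ⟨ψ₀, hψ₀, hψη⟩ := hζsurj η ((hYfmem _).1 hη)
      rw [← isCharacter_isClassFunction (isCharacter_of_irr η) g k, ← hψη, ← hfib ψ₀ hψ₀]
      exact hYval ψ₀ hψ₀ _ ⟨y, hyP⟩ hy hy1
    rw [Finset.sum_congr rfl h3, Finset.sum_add_distrib, ← Finset.mul_sum,
      Finset.sum_fiberwise_of_maps_to (fun ψ hψ => (hYfmem _).2 (hζY ψ (Finset.mem_filter.mp hψ).2)),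
      bhpb_sum_nontriv P hAF ⟨y, hyP⟩ (fun h => hy1 (congrArg Subtype.val h)),
      Finset.sum_const, hYfcard, nsmul_eq_mul]
    linear_combination hrd
  · -- the relation at the `p`-regular elements
    intro η hη g hg
    have h3 := hrelε η ((hYfmem _).1 hη) g hg
    rw [finsum_mem_eq_finite_toFinset_sum _ hXfin] at h3
    exact h3
  · intro η hη η' hη' g hg
    exact hYagree η ((hYfmem _).1 hη) η' ((hYfmem _).1 hη') g hg
  · -- the value depends only on the `p`-part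
    intro η hη z y hz hyP hy1
    obtain ⟨ψ₀, hψ₀, hψη⟩ := hζsurj η ((hYfmem _).1 hη)
    rw [← hψη, hYval ψ₀ hψ₀ z ⟨y, hyP⟩ hz hy1, hYval ψ₀ hψ₀ y ⟨y, hyP⟩ (af_isPPart_self P hyP) hy1]

end Cfsg.Agent.Lib.Helper13.BT
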