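import Mathlib
import Cfsg.Agent.Lib.helper7.BD.CharDefs
import Cfsg.Agent.Lib.Helper22.Burnside
import Cfsg.Agent.Lib.Helper25.ExtraspecialUnique
import Cfsg.Agent.Lib.Helper25.CharLinear
import Cfsg.Agent.Lib.Helper25.CharBasic
import Cfsg.Agent.S0939

/-! Project BD, piece CASE1 : the case `e = 1` (normal `p`-complement) of S4441. -/

set_option autoImplicit false
set_option linter.unusedVariables false
set_option linter.unusedSectionVars false
set_option linter.style.haveILetI false

namespace Cfsg.Agent.Lib.helper7.BD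

universe u

section cases
variable {G : Type u} [Group G] [Fintype G]

/-- the degree of a character with value `1` at the identity -/
theorem bdcase1_degree (χ : G → ℂ) (h : χ 1 = 1) : Cfsg.charDegree χ = 1 := by
  unfold Cfsg.charDegree
  rw [h]
  simp

/-- the structure of the principal block when `N_G(P) = C_G(P)`, `|P| = p` -/
theorem bdcase1_struct (p : ℕ) [Fact p.Prime] (M : Ideal Cfsg.AlgInt) (hM : Cfsg.IsPModular p M)
    (P : Sylow p G) (hP : Nat.card P = p)
    (he : (Subgroup.centralizer ((P : Subgroup G) : Set G)).relIndex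
      (Subgroup.normalizer ((P : Subgroup G) : Set G)) = 1) :
    Cfsg.Agent.Lib.Helper25.trivIrr G ∈ Cfsg.principalBlock M G ∧
    ∀ χ ∈ Cfsg.principalBlock M G, (χ : G → ℂ) 1 = 1 ∧
      ∀ g : G, ¬ p ∣ orderOf g → (χ : G → ℂ) g = 1 := by
  classical
  have hp := (Fact.out : p.Prime)
  have hNC : Subgroup.normalizer ((P : Subgroup G) : Set G) ≤
      Subgroup.centralizer ((P : Subgroup G) : Set G) := Subgroup.relIndex_eq_one.1 he
  obtain ⟨K, hKn, hKc, hKmem⟩ := Cfsg.Agent.Lib.Helper22.burnside_type p P hNC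
  haveI := hKn
  have hKidx : K.index = p := by
    rw [hKc.symm.index_eq_card]
    exact hP
  have hcop : (Nat.card K).Coprime p := by
    rw [Nat.coprime_comm, hp.coprime_iff_not_dvd]
    intro hdvd
    obtain ⟨g, hg⟩ := exists_prime_orderOf_dvd_card' (G := K) p hdvd
    have h1 := (hKmem (g : G)).1 g.2
    rw [Subgroup.orderOf_coe, hg] at h1
    exact hp.one_lt.ne' ((Nat.coprime_self p).1 h1)
  have hKle : K ≤ Cfsg.pPrimeCore p G := le_sSup ⟨hKn, hcop⟩
  have hidx : ∃ k : ℕ, (Cfsg.pPrimeCore p G).index = p ^ k := by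
    have h1 : (Cfsg.pPrimeCore p G).index ∣ K.index := Subgroup.index_dvd_of_le hKle
    rw [hKidx] at h1
    rcases (Nat.dvd_prime hp).1 h1 with h | h
    · exact ⟨0, by rw [h, pow_zero]⟩
    · exact ⟨1, by rw [h, pow_one]⟩
  have hB := Cfsg.Agent.S0939.result p M hM hidx
  have hcomm : commutator G ≤ K := by
    have hcard : Nat.card (G ⧸ K) = p := by rw [← Subgroup.index_eq_card, hKidx]
    haveI : IsCyclic (G ⧸ K) := isCyclic_of_prime_card hcard
    letI : CommGroup (G ⧸ K) := IsCyclic.commGroup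
    have := Abelianization.commutator_subset_ker (QuotientGroup.mk' K)
    rwa [QuotientGroup.ker_mk'] at this
  constructor
  · rw [hB]
    intro n _
    rfl
  · intro χ hχ
    rw [hB] at hχ
    have hχK : ∀ n ∈ K, (χ : G → ℂ) n = (χ : G → ℂ) 1 := fun n hn => hχ n (hKle hn)
    have h1 : (χ : G → ℂ) 1 = 1 :=
      Cfsg.Agent.Lib.Helper25.xs_linear_of_comm_le_ker χ (fun w hw => hχK w (hcomm hw))
    refine ⟨h1, ?_⟩
    intro g hg
    have hgK : g ∈ K := (hKmem g).2 ((Nat.coprime_comm.1 (hp.coprime_iff_not_dvd.2 hg)))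
    rw [hχK g hgK, h1]

/-- CASE1 : `e = 1` (normal `p`-complement) -/
theorem concl_of_e_eq_one (p : ℕ) [Fact p.Prime] (M : Ideal Cfsg.AlgInt) (hM : Cfsg.IsPModular p M)
    (hodd : p ≠ 2) (P : Sylow p G) (hP : Nat.card P = p)
    (he : (Subgroup.centralizer ((P : Subgroup G) : Set G)).relIndex
      (Subgroup.normalizer ((P : Subgroup G) : Set G)) = 1)
    (hk : Nat.card (Cfsg.principalBlock M G) = Cfsg.blockRank p (Cfsg.principalBlock M G) + (p - 1)) :
    Concl4441 p M P 1 := by
  classical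
  have hp := (Fact.out : p.Prime)
  obtain ⟨htriv, hstr⟩ := bdcase1_struct p M hM P hP he
  set t := Cfsg.Agent.Lib.Helper25.trivIrr G with ht
  have ht1 : ∀ g : G, (t : G → ℂ) g = 1 := fun g => rfl
  -- the block rank is one
  have hrank : Cfsg.blockRank p (Cfsg.principalBlock M G) = 1 := by
    unfold Cfsg.blockRank
    have himg : ((fun χ : Cfsg.IrrCharacter G => Cfsg.pRegularPart p (χ : G → ℂ)) ''
        Cfsg.principalBlock M G) = {Cfsg.pRegularPart p (t : G → ℂ)} := by
      ext v
      simp only [Set.mem_image, Set.mem_singleton_iff]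
      constructor
      · rintro ⟨χ, hχ, rfl⟩
        funext g
        unfold Cfsg.pRegularPart
        by_cases hg : Cfsg.IsPRegular p g
        · rw [if_pos hg, if_pos hg, (hstr χ hχ).2 g hg, ht1]
        · rw [if_neg hg, if_neg hg]
      · rintro rfl
        exact ⟨t, htriv, rfl⟩
    rw [himg]
    apply finrank_span_singleton
    intro h0
    have h1 := congrFun h0 1
    unfold Cfsg.pRegularPart at h1
    have hreg : Cfsg.IsPRegular p (1 : G) := by
      unfold Cfsg.IsPRegular
      rw [orderOf_one]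
      exact hp.one_lt.ne' ∘ Nat.dvd_one.1
    rw [if_pos hreg, ht1] at h1
    exact one_ne_zero h1
  have hcardB : Nat.card (Cfsg.principalBlock M G) = p := by
    rw [hk, hrank]
    have := hp.two_le
    omega
  refine ⟨{t}, Cfsg.principalBlock M G \ {t}, ?_, Set.disjoint_sdiff_right, ?_, ?_,
    fun _ => 1, 1, ?_, Or.inl rfl, ?_, ?_, ?_⟩
  · rw [Set.union_diff_cancel (Set.singleton_subset_iff.2 htriv)]
  · rw [Nat.card_coe_set_eq, Set.ncard_singleton]
  · rw [Nat.card_coe_set_eq, Set.ncard_diff_singleton_of_mem htriv, ← Nat.card_coe_set_eq,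
      hcardB, Nat.div_one]
  · intro χ hχ
    rw [Set.mem_singleton_iff] at hχ
    subst hχ
    refine ⟨Or.inl rfl, ?_, ?_⟩
    · rw [bdcase1_degree _ (ht1 1)]
      exact Int.ModEq.refl _
    · intro x _ _ y _ _
      rw [ht1]
      simp
  · intro θ hθ
    rw [bdcase1_degree _ (hstr θ hθ.1).1]
    simp
  · intro θ hθ θ' hθ' g hg
    rw [(hstr θ hθ.1).2 g hg, (hstr θ' hθ'.1).2 g hg]
  · intro θ hθ g hg
    rw [finsum_mem_singleton, (hstr θ hθ.1).2 g hg, ht1]

end cases

end Cfsg.Agent.Lib.helper7.BD
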