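import Cfsg.Prelude.Def_Transfer
import Mathlib.GroupTheory.Sylow
import Mathlib.GroupTheory.PGroup

set_option autoImplicit false

namespace Cfsg.Agent.Lib.Helper13

open scoped Pointwise

variable {G : Type*} [Group G]

theorem pResidual_normal' (p : ℕ) : (Cfsg.pResidual p G).Normal := by
  have h : Cfsg.pResidual p G = Subgroup.normalClosure {g : G | Nat.Coprime (orderOf g) p} := by
    unfold Cfsg.pResidual Subgroup.normalClosure
    congr 1
    apply Set.Subset.antisymm Group.subset_conjugatesOfSet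
    intro x hx
    rw [Group.mem_conjugatesOfSet_iff] at hx
    obtain ⟨a, ha, hax⟩ := hx
    obtain ⟨c, hc⟩ := isConj_iff.mp hax
    show Nat.Coprime (orderOf x) p
    rw [← hc]
    have : orderOf (c * a * c⁻¹) = orderOf a := by
      have := orderOf_injective (MulAut.conj c).toMonoidHom (MulAut.conj c).injective a
      simpa using this
    rw [this]; exact ha
  rw [h]
  exact Subgroup.normalClosure_normal

theorem mem_pResidual_of_coprime {p : ℕ} {g : G} (h : Nat.Coprime (orderOf g) p) :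
    g ∈ Cfsg.pResidual p G :=
  Subgroup.subset_closure h

theorem exists_pow_mem_pResidual [Finite G] (p : ℕ) [Fact p.Prime] (g : G) :
    ∃ k : ℕ, g ^ (p ^ k) ∈ Cfsg.pResidual p G := by
  have hp : p.Prime := Fact.out
  have hpos : orderOf g ≠ 0 := (orderOf_pos g).ne'
  obtain ⟨k, m, hm, hkm⟩ := Nat.exists_eq_pow_mul_and_not_dvd hpos p hp.ne_one
  refine ⟨k, mem_pResidual_of_coprime ?_⟩
  have h1 : orderOf (g ^ (p ^ k)) = m := by
    rw [orderOf_pow' g (pow_ne_zero k hp.ne_zero), hkm]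
    rw [Nat.gcd_eq_right (dvd_mul_right _ _)]
    exact Nat.mul_div_cancel_left m (pow_pos hp.pos k)
  rw [h1]
  exact ((Nat.Prime.coprime_iff_not_dvd hp).mpr hm).symm

theorem isPGroup_quotient_pResidual [Finite G] (p : ℕ) [Fact p.Prime] :
    haveI := pResidual_normal' (G := G) p
    IsPGroup p (G ⧸ Cfsg.pResidual p G) := by
  have := pResidual_normal' (G := G) p
  intro x
  obtain ⟨g, rfl⟩ := QuotientGroup.mk_surjective x
  obtain ⟨k, hk⟩ := exists_pow_mem_pResidual p g
  refine ⟨k, ?_⟩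
  rw [← QuotientGroup.mk_pow]
  exact (QuotientGroup.eq_one_iff _).mpr hk

theorem sylow_sup_pResidual_eq_top [Finite G] {p : ℕ} [Fact p.Prime] (Q : Subgroup G)
    (hQ : ¬ p ∣ Q.index) : Q ⊔ Cfsg.pResidual p G = ⊤ := by
  have := pResidual_normal' (G := G) p
  have hp : p.Prime := Fact.out
  rw [← Subgroup.index_eq_one]
  have h1 : (Q ⊔ Cfsg.pResidual p G).index ∣ Q.index := Subgroup.index_dvd_of_le le_sup_left
  have h2 : (Q ⊔ Cfsg.pResidual p G).index ∣ (Cfsg.pResidual p G).index :=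
    Subgroup.index_dvd_of_le le_sup_right
  have h3 : ∃ n, (Cfsg.pResidual p G).index = p ^ n := by
    rw [Subgroup.index_eq_card]
    exact (IsPGroup.iff_card.mp (isPGroup_quotient_pResidual p))
  obtain ⟨n, hn⟩ := h3
  rw [hn] at h2
  obtain ⟨j, -, hj⟩ := (Nat.dvd_prime_pow hp).mp h2
  rcases Nat.eq_zero_or_pos j with rfl | hjpos
  · simpa using hj
  · exfalso
    apply hQ
    refine dvd_trans ?_ h1
    rw [hj]
    exact dvd_pow_self p hjpos.ne'

theorem exists_mul_of_sylow_pResidual [Finite G] {p : ℕ} [Fact p.Prime] (Q : Subgroup G)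
    (hQ : ¬ p ∣ Q.index) (n : G) : ∃ q ∈ Q, ∃ m ∈ Cfsg.pResidual p G, n = q * m := by
  have := pResidual_normal' (G := G) p
  have h : n ∈ ((Q ⊔ Cfsg.pResidual p G : Subgroup G) : Set G) := by
    rw [sylow_sup_pResidual_eq_top Q hQ]; trivial
  rw [Subgroup.mul_normal] at h
  obtain ⟨q, hq, m, hm, rfl⟩ := Set.mem_mul.mp h
  exact ⟨q, hq, m, hm, rfl⟩

end Cfsg.Agent.Lib.Helper13
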