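import Mathlib
import Cfsg.Prelude.Def_Blocks
import Cfsg.Agent.Lib.Helper10.SLB.Defs

/-!
# Project SLB, row G05 (helper13): `omega_congr`, core on the statements of G01-G04.
-/

set_option autoImplicit false

namespace Cfsg.Agent.Lib.Helper10.SLB

/-- `hfree` of G03 from `Adm`, for a `p`-subgroup. -/
theorem slbg05_free {G : Type*} [Group G] (p : ℕ) [Fact p.Prime] (S : Subgroup G)
    (hS : IsPGroup p S)
    (K : Set G) (hK : Adm p K) : ∀ y ∈ K, ∀ v ∈ S, v * y = y * v → v = 1 := by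
  intro y hy v hv hvy
  obtain ⟨k, hk⟩ := (IsPGroup.iff_orderOf.mp hS) ⟨v, hv⟩
  rw [Subgroup.orderOf_mk] at hk
  exact hK.2 y hy v ⟨k, hk⟩ hvy

/-- Step (i): `|S|` divides `ω(K, K')` for admissible `K`, `K'` (any `p`-subgroup `S`). -/
theorem slbg05_dvd_omega {G : Type*} [Group G] [Fintype G] (p : ℕ) [Fact p.Prime] (S : Subgroup G)
    (hS : IsPGroup p S)
    (hG01 : ∀ K K' : Set G, ∑ g : G, cnt S K g * cnt S K' g = Nat.card S * omega S K K')
    (hG02 : ∀ K : Set G, (∀ x y : G, y ∈ K → x * y * x⁻¹ ∈ K) → ∀ s s' g : G, s ∈ S → s' ∈ S →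
      cnt S K (s * g * s') = cnt S K g)
    (hG03 : ∀ K : Set G, (∀ x y : G, y ∈ K → x * y * x⁻¹ ∈ K) →
      (∀ y ∈ K, ∀ v ∈ S, v * y = y * v → v = 1) → ∀ g : G, Nat.card (sg S g) ∣ cnt S K g)
    (hG04 : ∀ (φ : G → ℤ) (d : ℤ), (∀ s ∈ S, ∀ s' ∈ S, ∀ g : G, φ (s * g * s') = φ g) →
      (∀ g : G, d * (Nat.card (sg S g) : ℤ) ∣ φ g) → d * (Nat.card S : ℤ) ^ 2 ∣ ∑ g : G, φ g)
    (K K' : Set G) (hK : Adm p K) (hK' : Adm p K') : Nat.card S ∣ omega S K K' := by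
  have hpos : 0 < Nat.card S := Nat.card_pos
  have h4 := hG04 (fun g => ((cnt S K g * cnt S K' g : ℕ) : ℤ)) 1
    (by
      intro s hs s' hs' g
      rw [hG02 K hK.1 s s' g hs hs', hG02 K' hK'.1 s s' g hs hs'])
    (by
      intro g
      rw [one_mul]
      exact Int.natCast_dvd_natCast.mpr
        (Dvd.dvd.mul_right (hG03 K hK.1 (slbg05_free p S hS K hK) g) _))
  rw [one_mul, ← Nat.cast_sum, hG01 K K', ← Nat.cast_pow, Int.natCast_dvd_natCast, pow_two] at h4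
  exact Nat.dvd_of_mul_dvd_mul_left hpos h4

/-- **G05**, core: the statements of G01-G04 (for the Sylow subgroup `S`) as hypotheses. -/
theorem slbg05_core {G : Type*} [Group G] [Fintype G] (p : ℕ) [Fact p.Prime] (S : Sylow p G)
    (hG01 : ∀ K K' : Set G, ∑ g : G, cnt (S : Subgroup G) K g * cnt (S : Subgroup G) K' g =
      Nat.card (S : Subgroup G) * omega (S : Subgroup G) K K')
    (hG02 : ∀ K : Set G, (∀ x y : G, y ∈ K → x * y * x⁻¹ ∈ K) → ∀ s s' g : G,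
      s ∈ (S : Subgroup G) → s' ∈ (S : Subgroup G) →
      cnt (S : Subgroup G) K (s * g * s') = cnt (S : Subgroup G) K g)
    (hG03 : ∀ K : Set G, (∀ x y : G, y ∈ K → x * y * x⁻¹ ∈ K) →
      (∀ y ∈ K, ∀ v ∈ (S : Subgroup G), v * y = y * v → v = 1) →
      ∀ g : G, Nat.card (sg (S : Subgroup G) g) ∣ cnt (S : Subgroup G) K g)
    (hG04 : ∀ (φ : G → ℤ) (d : ℤ),
      (∀ s ∈ (S : Subgroup G), ∀ s' ∈ (S : Subgroup G), ∀ g : G, φ (s * g * s') = φ g) →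
      (∀ g : G, d * (Nat.card (sg (S : Subgroup G) g) : ℤ) ∣ φ g) →
      d * (Nat.card (S : Subgroup G) : ℤ) ^ 2 ∣ ∑ g : G, φ g)
    (K₁ K₂ K₁' K₂' : Set G) (hK₁ : Adm p K₁) (hK₂ : Adm p K₂) (hK₁' : Adm p K₁') (hK₂' : Adm p K₂')
    (h₁ : ∀ g : G, cnt (S : Subgroup G) K₁ g ≡ cnt (S : Subgroup G) K₁' g [MOD p])
    (h₂ : ∀ g : G, cnt (S : Subgroup G) K₂ g ≡ cnt (S : Subgroup G) K₂' g [MOD p]) :
    p ^ (Nat.card G).factorization p ∣ omega (S : Subgroup G) K₁ K₂ ∧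
      ((omega (S : Subgroup G) K₁ K₂ / p ^ (Nat.card G).factorization p : ℕ) : ZMod p) =
        ((omega (S : Subgroup G) K₁' K₂' / p ^ (Nat.card G).factorization p : ℕ) : ZMod p) := by
  have hp : p.Prime := Fact.out
  have hSp : IsPGroup p (S : Subgroup G) := S.isPGroup'
  have hcard : Nat.card (S : Subgroup G) = p ^ (Nat.card G).factorization p :=
    Sylow.card_eq_multiplicity S
  have hpos : 0 < Nat.card (S : Subgroup G) := Nat.card_pos
  obtain ⟨m, hm⟩ := slbg05_dvd_omega p (S : Subgroup G) hSp hG01 hG02 hG03 hG04 K₁ K₂ hK₁ hK₂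
  obtain ⟨m', hm'⟩ := slbg05_dvd_omega p (S : Subgroup G) hSp hG01 hG02 hG03 hG04 K₁' K₂' hK₁' hK₂'
  have hd1 := fun g => hG03 K₁ hK₁.1 (slbg05_free p _ hSp K₁ hK₁) g
  have hd2 := fun g => hG03 K₂ hK₂.1 (slbg05_free p _ hSp K₂ hK₂) g
  have hd1' := fun g => hG03 K₁' hK₁'.1 (slbg05_free p _ hSp K₁' hK₁') g
  have hd2' := fun g => hG03 K₂' hK₂'.1 (slbg05_free p _ hSp K₂' hK₂') g
  have h4 := hG04 (fun g => ((cnt (S : Subgroup G) K₁ g * cnt (S : Subgroup G) K₂ g : ℕ) : ℤ) -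
      ((cnt (S : Subgroup G) K₁' g * cnt (S : Subgroup G) K₂' g : ℕ) : ℤ)) (p : ℤ)
    (by
      intro s hs s' hs' g
      rw [hG02 K₁ hK₁.1 s s' g hs hs', hG02 K₂ hK₂.1 s s' g hs hs',
        hG02 K₁' hK₁'.1 s s' g hs hs', hG02 K₂' hK₂'.1 s s' g hs hs'])
    (by
      intro g
      have hsgp : IsPGroup p (sg (S : Subgroup G) g) := hSp.to_le inf_le_left
      rcases hsgp.card_eq_or_dvd with h1 | hdvd
      · rw [h1, Nat.cast_one, mul_one]
        have := (Nat.modEq_iff_dvd.mp ((h₁ g).mul (h₂ g)).symm)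
        simpa using this
      · set c := Nat.card (sg (S : Subgroup G) g) with hc
        have e1 : ((c * c : ℕ) : ℤ) ∣
            ((cnt (S : Subgroup G) K₁ g * cnt (S : Subgroup G) K₂ g : ℕ) : ℤ) -
            ((cnt (S : Subgroup G) K₁' g * cnt (S : Subgroup G) K₂' g : ℕ) : ℤ) :=
          dvd_sub (Int.natCast_dvd_natCast.mpr (mul_dvd_mul (hd1 g) (hd2 g)))
            (Int.natCast_dvd_natCast.mpr (mul_dvd_mul (hd1' g) (hd2' g)))
        have e2 : (p : ℤ) * (c : ℤ) ∣ ((c * c : ℕ) : ℤ) := by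
          rw [← Nat.cast_mul, Int.natCast_dvd_natCast]
          exact mul_dvd_mul_right hdvd c
        exact e2.trans e1)
  rw [Finset.sum_sub_distrib, ← Nat.cast_sum, ← Nat.cast_sum, hG01 K₁ K₂, hG01 K₁' K₂', hm, hm'] at h4
  set N := Nat.card (S : Subgroup G) with hN
  have hN0 : (N : ℤ) ≠ 0 := by exact_mod_cast hpos.ne'
  have h5 : (p : ℤ) ∣ (m : ℤ) - (m' : ℤ) := by
    have e : ((N * (N * m) : ℕ) : ℤ) - ((N * (N * m') : ℕ) : ℤ) =
        ((m : ℤ) - (m' : ℤ)) * (N : ℤ) ^ 2 := by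
      push_cast; ring
    rw [e] at h4
    exact (mul_dvd_mul_iff_right (pow_ne_zero 2 hN0)).mp h4
  have hq : omega (S : Subgroup G) K₁ K₂ / p ^ (Nat.card G).factorization p = m := by
    rw [hm, ← hcard]
    exact Nat.mul_div_cancel_left m hpos
  have hq' : omega (S : Subgroup G) K₁' K₂' / p ^ (Nat.card G).factorization p = m' := by
    rw [hm', ← hcard]
    exact Nat.mul_div_cancel_left m' hpos
  refine ⟨?_, ?_⟩
  · rw [← hcard, hm]
    exact dvd_mul_right _ _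
  · rw [hq, hq']
    have h6 : ((m' : ℤ) : ZMod p) = ((m : ℤ) : ZMod p) :=
      (ZMod.intCast_eq_intCast_iff_dvd_sub _ _ _).mpr h5
    simpa using h6.symm

end Cfsg.Agent.Lib.Helper10.SLB
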