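import Mathlib
import Cfsg.Prelude.Def_Blocks
import Cfsg.Agent.Lib.Helper10.SLB.Defs
import Cfsg.Agent.Lib.Helper20.SLBG01
import Cfsg.Agent.Lib.Helper21.SLBG02
import Cfsg.Agent.Lib.Helper22.SLBG03
import Cfsg.Agent.Lib.Helper22.SLBG04
import Cfsg.Agent.Lib.Helper13.SLBG05core

/-!
# Project SLB, row G05 (helper13): `omega_congr`, verbatim.

One-liner over `slbg05_core` (Helper13/SLBG05core) with G01 `cnt_sum` (Helper20), G02 `cnt_mul` (Helper21),
G03 `card_sg_dvd_cnt` and G04 `orb_dvd` (Helper22).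
-/

set_option autoImplicit false

namespace Cfsg.Agent.Lib.Helper10.SLB

/-- **G05**. -/
theorem omega_congr {G : Type*} [Group G] [Fintype G] (p : ℕ) [Fact p.Prime] (S : Sylow p G)
    (K₁ K₂ K₁' K₂' : Set G) (hK₁ : Adm p K₁) (hK₂ : Adm p K₂) (hK₁' : Adm p K₁') (hK₂' : Adm p K₂')
    (h₁ : ∀ g : G, cnt (S : Subgroup G) K₁ g ≡ cnt (S : Subgroup G) K₁' g [MOD p])
    (h₂ : ∀ g : G, cnt (S : Subgroup G) K₂ g ≡ cnt (S : Subgroup G) K₂' g [MOD p]) :
    p ^ (Nat.card G).factorization p ∣ omega (S : Subgroup G) K₁ K₂ ∧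
      ((omega (S : Subgroup G) K₁ K₂ / p ^ (Nat.card G).factorization p : ℕ) : ZMod p) =
        ((omega (S : Subgroup G) K₁' K₂' / p ^ (Nat.card G).factorization p : ℕ) : ZMod p) :=
  slbg05_core p S (fun K K' => cnt_sum (S : Subgroup G) K K')
    (fun K hK s s' g hs hs' => cnt_mul (S : Subgroup G) K hK s s' g hs hs')
    (fun K hK hfree g => card_sg_dvd_cnt (S : Subgroup G) K hK hfree g)
    (fun φ d hinv hd => orb_dvd (S : Subgroup G) φ d hinv hd)
    K₁ K₂ K₁' K₂' hK₁ hK₂ hK₁' hK₂' h₁ h₂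

end Cfsg.Agent.Lib.Helper10.SLB
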