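import Mathlib
import Cfsg.Prelude.Def_Blocks
import Cfsg.Agent.Lib.Helper10.SLB.Defs

/-!
# Project SLB, row G06 (helper13): `good_adm`, verbatim.
-/

set_option autoImplicit false

namespace Cfsg.Agent.Lib.Helper10.SLB

/-- If a Sylow `p`-subgroup of a finite group `H` is trivial then `p ∤ |H|`. -/
theorem slbg06_not_dvd_card {H : Type*} [Group H] [Finite H] (p : ℕ) [Fact p.Prime]
    (Q : Sylow p H) (hQ : (Q : Subgroup H) = ⊥) : ¬ p ∣ Nat.card H := by
  intro hdvd
  have h1 : Nat.card Q = p ^ (Nat.card H).factorization p := Sylow.card_eq_multiplicity Q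
  have h2 : Nat.card (Q : Subgroup H) = 1 := by
    rw [hQ]; exact Subgroup.card_bot
  have hpos : 0 < (Nat.card H).factorization p :=
    (Nat.Prime.factorization_pos_of_dvd (Fact.out : p.Prime) Nat.card_pos.ne' hdvd)
  have h3 : p ∣ Nat.card (Q : Subgroup H) := by
    rw [h1]; exact dvd_pow_self p hpos.ne'
  rw [h2] at h3
  exact (Fact.out : p.Prime).one_lt.ne' (Nat.dvd_one.mp h3)

/-- **G06**. -/
theorem good_adm {G : Type*} [Group G] [Finite G] (p : ℕ) [Fact p.Prime] (C : ConjClasses G)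
    (hC : Good p C) : Adm p C.carrier := by
  obtain ⟨x, hx, -, Q, hQ⟩ := hC
  have hQbot : (Q : Subgroup (Subgroup.centralizer ({x} : Set G))) = ⊥ := by
    rw [← Subgroup.map_bot (Subgroup.centralizer ({x} : Set G)).subtype] at hQ
    exact Subgroup.map_injective (Subgroup.subtype_injective _) hQ
  have hnd : ¬ p ∣ Nat.card (Subgroup.centralizer ({x} : Set G)) :=
    slbg06_not_dvd_card p Q hQbot
  refine ⟨?_, ?_⟩
  · intro a y hy
    rw [ConjClasses.mem_carrier_iff_mk_eq] at hy ⊢
    rw [← hy]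
    exact ConjClasses.mk_eq_mk_iff_isConj.mpr (isConj_iff.mpr ⟨a, rfl⟩).symm
  · intro y hy v ⟨k, hk⟩ hvy
    rw [ConjClasses.mem_carrier_iff_mk_eq] at hx hy
    have hconj : IsConj x y := ConjClasses.mk_eq_mk_iff_isConj.mp (hx.trans hy.symm)
    obtain ⟨c, hc⟩ := isConj_iff.mp hconj
    -- `c * x * c⁻¹ = y`
    have hmem : c⁻¹ * v * c ∈ Subgroup.centralizer ({x} : Set G) := by
      rw [Subgroup.mem_centralizer_singleton_iff]
      have hx' : x = c⁻¹ * y * c := by rw [← hc]; group
      rw [hx']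
      calc c⁻¹ * v * c * (c⁻¹ * y * c) = c⁻¹ * (v * y) * c := by group
        _ = c⁻¹ * (y * v) * c := by rw [hvy]
        _ = c⁻¹ * y * c * (c⁻¹ * v * c) := by group
    have hord : orderOf (c⁻¹ * v * c) = orderOf v := by
      have := (MulAut.conj c⁻¹).orderOf_eq v
      simpa [MulAut.conj_apply] using this
    have hdvd : orderOf (⟨c⁻¹ * v * c, hmem⟩ : Subgroup.centralizer ({x} : Set G)) ∣
        Nat.card (Subgroup.centralizer ({x} : Set G)) := orderOf_dvd_natCard _
    rw [Subgroup.orderOf_mk, hord, hk] at hdvd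
    rcases Nat.eq_zero_or_pos k with hk0 | hkpos
    · rw [hk0, pow_zero] at hk
      exact orderOf_eq_one_iff.mp hk
    · exact absurd ((dvd_pow_self p hkpos.ne').trans hdvd) hnd

end Cfsg.Agent.Lib.Helper10.SLB
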