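import Cfsg.Agent.Lib.Helper10.SZC.Defs
import Cfsg.Agent.Lib.Helper10.SZCC1
import Cfsg.Agent.Lib.Helper25.CharOrth

/-!
# Project SZC (S4775, designer helper10), row C2 (`coef_inner`), verbatim.
-/

set_option autoImplicit false
open scoped ComplexConjugate

namespace Cfsg.Agent.Lib.Helper10.SZC

section
variable {G : Type*} [Group G] [Fintype G]

/-- a generalized character is a class function -/
theorem h13_szcC2_class (θ : G → ℂ) (hθ : Cfsg.IsGeneralizedCharacter G θ) (g h : G) :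
    θ (h * g * h⁻¹) = θ g := by
  obtain ⟨χ, ψ, ⟨n, ρ, rfl⟩, ⟨k, σ, rfl⟩, rfl⟩ := hθ
  simp only [Pi.sub_apply, Representation.char_conj]

/-- C2 -/
theorem coef_inner [Fintype (Cfsg.IrrCharacter G)] (θ θ' : G → ℂ)
    (hθ : Cfsg.IsGeneralizedCharacter G θ) (hθ' : Cfsg.IsGeneralizedCharacter G θ') :
    Cfsg.classInner θ θ' = ((∑ χ : Cfsg.IrrCharacter G, coef θ χ * coef θ' χ : ℤ) : ℂ) := by
  have hexp := Cfsg.Agent.Lib.Helper25.classFunction_expansion θ (h13_szcC2_class θ hθ)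
  have h1 := congrArg (fun F => Cfsg.classInner F θ') hexp
  rw [h1, Cfsg.Agent.Lib.Helper25.classInner_sum_left]
  push_cast
  refine Finset.sum_congr rfl fun χ _ => ?_
  rw [Cfsg.Agent.Lib.Helper25.classInner_smul_left, (coef_spec θ hθ χ).1, (coef_spec θ' hθ' χ).2]

end

end Cfsg.Agent.Lib.Helper10.SZC
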