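import Cfsg.Agent.Lib.Helper10.SZC.Defs
import Cfsg.Agent.Lib.Helper13.SZCA1
import Cfsg.Agent.Lib.helper14.DegGraph

/-!
# Project SZC (S4775, designer helper10), rows G2 (`graph_primes`) and G3 (`graph_adj`), verbatim.
-/

set_option autoImplicit false
open scoped ComplexConjugate

namespace Cfsg.Agent.Lib.Helper10.SZC

/-- abstract form of G2: primes dividing one of the six degrees -/
theorem h13_szcG2_abs (Q R M : ℕ) (hprod : (Q + R + 1) * (Q - R + 1) = Q ^ 2 + 1)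
    (hQ2 : ∀ p : ℕ, p.Prime → p ∣ Q ^ 2 → p = 2) (hM2 : ∀ p : ℕ, p.Prime → p ∣ M → p = 2)
    (h2Q : 2 ∣ Q ^ 2) (p : ℕ) (hp : p.Prime) :
    (∃ d ∈ ({1, Q ^ 2, Q ^ 2 + 1, (Q - 1) * M, (Q - 1) * (Q - R + 1),
        (Q - 1) * (Q + R + 1)} : Set ℕ), p ∣ d) ↔
      (p = 2 ∨ p ∣ (Q - 1) * (Q ^ 2 + 1)) := by
  constructor
  · rintro ⟨d, hd, hpd⟩
    simp only [Set.mem_insert_iff, Set.mem_singleton_iff] at hd
    rcases hd with rfl | rfl | rfl | rfl | rfl | rfl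
    · exact absurd (Nat.dvd_one.1 hpd) hp.one_lt.ne'
    · exact Or.inl (hQ2 p hp hpd)
    · exact Or.inr (Dvd.dvd.mul_left hpd _)
    · rcases (Nat.Prime.dvd_mul hp).1 hpd with h | h
      · exact Or.inr (Dvd.dvd.mul_right h _)
      · exact Or.inl (hM2 p hp h)
    · right
      rw [← hprod]
      rcases (Nat.Prime.dvd_mul hp).1 hpd with h | h
      · exact Dvd.dvd.mul_right h _
      · exact Dvd.dvd.mul_left (Dvd.dvd.mul_left h _) _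
    · right
      rw [← hprod]
      rcases (Nat.Prime.dvd_mul hp).1 hpd with h | h
      · exact Dvd.dvd.mul_right h _
      · exact Dvd.dvd.mul_left (Dvd.dvd.mul_right h _) _
  · rintro (rfl | h)
    · exact ⟨Q ^ 2, by simp, h2Q⟩
    · rcases (Nat.Prime.dvd_mul hp).1 h with h | h
      · exact ⟨(Q - 1) * M, by simp, Dvd.dvd.mul_right h _⟩
      · exact ⟨Q ^ 2 + 1, by simp, h⟩

/-- abstract form of G3: pairs of distinct primes dividing a common degree -/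
theorem h13_szcG3_abs (Q R M : ℕ) (hprod : (Q + R + 1) * (Q - R + 1) = Q ^ 2 + 1)
    (hQ2 : ∀ p : ℕ, p.Prime → p ∣ Q ^ 2 → p = 2) (hM2 : ∀ p : ℕ, p.Prime → p ∣ M → p = 2)
    (h2M : 2 ∣ M) (p s : ℕ) (hp : p.Prime) (hs : s.Prime) (hne : p ≠ s) :
    (∃ d ∈ ({1, Q ^ 2, Q ^ 2 + 1, (Q - 1) * M, (Q - 1) * (Q - R + 1),
        (Q - 1) * (Q + R + 1)} : Set ℕ), p * s ∣ d) ↔
      ((p ∣ (Q - 1) * (Q ^ 2 + 1) ∧ s ∣ (Q - 1) * (Q ^ 2 + 1)) ∨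
        (p = 2 ∧ s ∣ Q - 1) ∨ (s = 2 ∧ p ∣ Q - 1)) := by
  have hcop : Nat.Coprime p s := (Nat.coprime_primes hp hs).2 hne
  have hmul : ∀ d, p * s ∣ d ↔ p ∣ d ∧ s ∣ d := fun d =>
    ⟨fun h => ⟨dvd_trans (dvd_mul_right p s) h, dvd_trans (dvd_mul_left s p) h⟩,
      fun h => Nat.Coprime.mul_dvd_of_dvd_of_dvd hcop h.1 h.2⟩
  have hm1 : Q - R + 1 ∣ Q ^ 2 + 1 := ⟨Q + R + 1, by rw [← hprod]; ring⟩
  have hp1 : Q + R + 1 ∣ Q ^ 2 + 1 := ⟨Q - R + 1, by rw [← hprod]⟩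
  constructor
  · rintro ⟨d, hd, hpd⟩
    rw [hmul] at hpd
    obtain ⟨hpd, hsd⟩ := hpd
    simp only [Set.mem_insert_iff, Set.mem_singleton_iff] at hd
    rcases hd with rfl | rfl | rfl | rfl | rfl | rfl
    · exact absurd (Nat.dvd_one.1 hpd) hp.one_lt.ne'
    · exact absurd ((hQ2 p hp hpd).trans (hQ2 s hs hsd).symm) hne
    · exact Or.inl ⟨Dvd.dvd.mul_left hpd _, Dvd.dvd.mul_left hsd _⟩
    · rcases (Nat.Prime.dvd_mul hp).1 hpd with h | h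
      · rcases (Nat.Prime.dvd_mul hs).1 hsd with h' | h'
        · exact Or.inl ⟨Dvd.dvd.mul_right h _, Dvd.dvd.mul_right h' _⟩
        · exact Or.inr (Or.inr ⟨hM2 s hs h', h⟩)
      · rcases (Nat.Prime.dvd_mul hs).1 hsd with h' | h'
        · exact Or.inr (Or.inl ⟨hM2 p hp h, h'⟩)
        · exact absurd ((hM2 p hp h).trans (hM2 s hs h').symm) hne
    · left
      have hd : (Q - 1) * (Q - R + 1) ∣ (Q - 1) * (Q ^ 2 + 1) := Nat.mul_dvd_mul_left _ hm1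
      exact ⟨dvd_trans hpd hd, dvd_trans hsd hd⟩
    · left
      have hd : (Q - 1) * (Q + R + 1) ∣ (Q - 1) * (Q ^ 2 + 1) := Nat.mul_dvd_mul_left _ hp1
      exact ⟨dvd_trans hpd hd, dvd_trans hsd hd⟩
  · rintro (⟨h1, h2⟩ | ⟨rfl, h2⟩ | ⟨rfl, h2⟩)
    · rcases (Nat.Prime.dvd_mul hp).1 h1 with h | h
      · rcases (Nat.Prime.dvd_mul hs).1 h2 with h' | h'
        · exact ⟨(Q - 1) * M, by simp, (hmul _).2 ⟨Dvd.dvd.mul_right h _, Dvd.dvd.mul_right h' _⟩⟩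
        · rw [← hprod] at h'
          rcases (Nat.Prime.dvd_mul hs).1 h' with h'' | h''
          · exact ⟨(Q - 1) * (Q + R + 1), by simp,
              (hmul _).2 ⟨Dvd.dvd.mul_right h _, Dvd.dvd.mul_left h'' _⟩⟩
          · exact ⟨(Q - 1) * (Q - R + 1), by simp,
              (hmul _).2 ⟨Dvd.dvd.mul_right h _, Dvd.dvd.mul_left h'' _⟩⟩
      · rcases (Nat.Prime.dvd_mul hs).1 h2 with h' | h'
        · rw [← hprod] at h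
          rcases (Nat.Prime.dvd_mul hp).1 h with h'' | h''
          · exact ⟨(Q - 1) * (Q + R + 1), by simp,
              (hmul _).2 ⟨Dvd.dvd.mul_left h'' _, Dvd.dvd.mul_right h' _⟩⟩
          · exact ⟨(Q - 1) * (Q - R + 1), by simp,
              (hmul _).2 ⟨Dvd.dvd.mul_left h'' _, Dvd.dvd.mul_right h' _⟩⟩
        · exact ⟨Q ^ 2 + 1, by simp, (hmul _).2 ⟨h, h'⟩⟩
    · exact ⟨(Q - 1) * M, by simp, (hmul _).2 ⟨Dvd.dvd.mul_left h2M _, Dvd.dvd.mul_right h2 _⟩⟩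
    · exact ⟨(Q - 1) * M, by simp, (hmul _).2 ⟨Dvd.dvd.mul_right h2 _, Dvd.dvd.mul_left h2M _⟩⟩

/-- the arithmetic of `Q = 2^(2m+1)`, `R = 2^(m+1)`, `M = 2^m` -/
theorem h13_szcG2_facts (m : ℕ) (hm : 1 ≤ m) :
    (2 ^ (2 * m + 1) + 2 ^ (m + 1) + 1) * (2 ^ (2 * m + 1) - 2 ^ (m + 1) + 1) =
      (2 ^ (2 * m + 1)) ^ 2 + 1 ∧
    (∀ p : ℕ, p.Prime → p ∣ (2 ^ (2 * m + 1)) ^ 2 → p = 2) ∧
    (∀ p : ℕ, p.Prime → p ∣ 2 ^ m → p = 2) ∧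
    2 ∣ (2 ^ (2 * m + 1)) ^ 2 ∧ 2 ∣ 2 ^ m := by
  have hq : 8 ≤ 2 ^ (2 * m + 1) := by
    calc 8 = 2 ^ 3 := by norm_num
      _ ≤ 2 ^ (2 * m + 1) := Nat.pow_le_pow_right (by norm_num) (by omega)
  have hr : (2 ^ (m + 1)) ^ 2 = 2 * 2 ^ (2 * m + 1) := by
    rw [← pow_mul, ← pow_succ']
    congr 1
    ring
  obtain ⟨-, -, -, -, h5, -⟩ := arith hq hr
  simp only [aN, if_true, Bool.false_eq_true, if_false] at h5
  refine ⟨h5, ?_, ?_, ?_, ?_⟩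
  · intro p hp h
    have h1 := hp.dvd_of_dvd_pow h
    have h2 := hp.dvd_of_dvd_pow h1
    exact (Nat.prime_dvd_prime_iff_eq hp Nat.prime_two).1 h2
  · intro p hp h
    have h2 := hp.dvd_of_dvd_pow h
    exact (Nat.prime_dvd_prime_iff_eq hp Nat.prime_two).1 h2
  · exact dvd_pow (dvd_pow_self 2 (by omega)) (by norm_num)
  · exact dvd_pow_self 2 (by omega)

/-- G2 -/
theorem graph_primes {S : Type*} [Group S] (m : ℕ) (hm : 1 ≤ m)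
    (hcd : Cfsg.charDegrees S =
      {1, (2 ^ (2 * m + 1)) ^ 2, (2 ^ (2 * m + 1)) ^ 2 + 1,
        (2 ^ (2 * m + 1) - 1) * 2 ^ m,
        (2 ^ (2 * m + 1) - 1) * (2 ^ (2 * m + 1) - 2 ^ (m + 1) + 1),
        (2 ^ (2 * m + 1) - 1) * (2 ^ (2 * m + 1) + 2 ^ (m + 1) + 1)}) :
    Cfsg.degreePrimes S = {p : ℕ | p.Prime ∧
      (p = 2 ∨ p ∣ (2 ^ (2 * m + 1) - 1) * ((2 ^ (2 * m + 1)) ^ 2 + 1))} := by
  obtain ⟨h1, h2, h3, h4, -⟩ := h13_szcG2_facts m hm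
  ext p
  rw [Cfsg.Agent.Lib.helper14.mem_degreePrimes_iff, hcd, Set.mem_setOf_eq]
  constructor
  · rintro ⟨hp, h⟩
    exact ⟨hp, (h13_szcG2_abs _ _ _ h1 h2 h3 h4 p hp).1 h⟩
  · rintro ⟨hp, h⟩
    exact ⟨hp, (h13_szcG2_abs _ _ _ h1 h2 h3 h4 p hp).2 h⟩

/-- G3 -/
theorem graph_adj {S : Type*} [Group S] (m : ℕ) (hm : 1 ≤ m)
    (hcd : Cfsg.charDegrees S =
      {1, (2 ^ (2 * m + 1)) ^ 2, (2 ^ (2 * m + 1)) ^ 2 + 1,
        (2 ^ (2 * m + 1) - 1) * 2 ^ m,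
        (2 ^ (2 * m + 1) - 1) * (2 ^ (2 * m + 1) - 2 ^ (m + 1) + 1),
        (2 ^ (2 * m + 1) - 1) * (2 ^ (2 * m + 1) + 2 ^ (m + 1) + 1)}) (p s : ℕ) :
    (Cfsg.degreeGraph S).Adj p s ↔ (p ≠ s ∧ p.Prime ∧ s.Prime ∧
      ((p ∣ (2 ^ (2 * m + 1) - 1) * ((2 ^ (2 * m + 1)) ^ 2 + 1) ∧
        s ∣ (2 ^ (2 * m + 1) - 1) * ((2 ^ (2 * m + 1)) ^ 2 + 1)) ∨
       (p = 2 ∧ s ∣ 2 ^ (2 * m + 1) - 1) ∨ (s = 2 ∧ p ∣ 2 ^ (2 * m + 1) - 1))) := by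
  obtain ⟨h1, h2, h3, -, h5⟩ := h13_szcG2_facts m hm
  rw [Cfsg.Agent.Lib.helper14.degreeGraph_adj_iff, hcd]
  constructor
  · rintro ⟨hne, hp, hs, h⟩
    exact ⟨hne, hp, hs, (h13_szcG3_abs _ _ _ h1 h2 h3 h5 p s hp hs hne).1 h⟩
  · rintro ⟨hne, hp, hs, h⟩
    exact ⟨hne, hp, hs, (h13_szcG3_abs _ _ _ h1 h2 h3 h5 p s hp hs hne).2 h⟩

end Cfsg.Agent.Lib.Helper10.SZC
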