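import Cfsg.Agent.Lib.Helper10.SZC.Defs
import Cfsg.Agent.Lib.Helper13.SZCG2
import Cfsg.Agent.Lib.helper3.SuzukiLieIso
import Cfsg.Agent.Lib.helper14.DegGraph

/-!
# Project SZC (S4775, designer helper10), rows G1 (`sz_charDegrees`) and G4 (`s4775`):
cores on the statements of the cited rows (S10 `charDegrees_eq`, G1).
-/

set_option autoImplicit false
open scoped ComplexConjugate

namespace Cfsg.Agent.Lib.Helper10.SZC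

open Cfsg Cfsg.Agent.Lib.helper3

/-- G1 core: rewrite the six degrees of S10 at `q = 2^(2m+1)`, `r = 2^(m+1)`. -/
theorem h13_szcG1_core {G : Type*} [Group G] (m : ℕ)
    (hS10 : Cfsg.charDegrees G = {1, (2 ^ (2 * m + 1)) ^ 2, (2 ^ (2 * m + 1)) ^ 2 + 1,
      (2 ^ (2 * m + 1) - 1) * (2 ^ (m + 1) / 2),
      (2 ^ (2 * m + 1) - 1) * aN (2 ^ (2 * m + 1)) (2 ^ (m + 1)) true,
      (2 ^ (2 * m + 1) - 1) * aN (2 ^ (2 * m + 1)) (2 ^ (m + 1)) false}) :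
    Cfsg.charDegrees G =
      {1, (2 ^ (2 * m + 1)) ^ 2, (2 ^ (2 * m + 1)) ^ 2 + 1,
        (2 ^ (2 * m + 1) - 1) * 2 ^ m,
        (2 ^ (2 * m + 1) - 1) * (2 ^ (2 * m + 1) - 2 ^ (m + 1) + 1),
        (2 ^ (2 * m + 1) - 1) * (2 ^ (2 * m + 1) + 2 ^ (m + 1) + 1)} := by
  have h2 : 2 ^ (m + 1) / 2 = 2 ^ m := by
    rw [pow_succ, Nat.mul_div_cancel _ (by norm_num)]
  rw [hS10, h2]
  simp only [aN, if_true, Bool.false_eq_true, if_false]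

/-- G4 core: the final statement from the six degrees of `Sz F m`. -/
theorem h13_szcG4_core (F : Type*) [Field F] [Fintype F] (m : ℕ) (hm : 1 ≤ m) (q : ℕ)
    (hq : Fintype.card F = q) (hqm : q = 2 ^ (2 * m + 1)) {S : Type*} [Group S] [Finite S]
    (hS : Nonempty (S ≃* ↥(Cfsg.Lie.Sz F (2 ^ (m + 1)))))
    (hG1 : Cfsg.charDegrees (Sz F m) =
      {1, (2 ^ (2 * m + 1)) ^ 2, (2 ^ (2 * m + 1)) ^ 2 + 1,
        (2 ^ (2 * m + 1) - 1) * 2 ^ m,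
        (2 ^ (2 * m + 1) - 1) * (2 ^ (2 * m + 1) - 2 ^ (m + 1) + 1),
        (2 ^ (2 * m + 1) - 1) * (2 ^ (2 * m + 1) + 2 ^ (m + 1) + 1)}) :
    Cfsg.degreePrimes S = {r : ℕ | r.Prime ∧ (r = 2 ∨ r ∣ (q - 1) * (q ^ 2 + 1))} ∧
    ∀ r s : ℕ, (Cfsg.degreeGraph S).Adj r s ↔ (r ≠ s ∧ r.Prime ∧ s.Prime ∧
      ((r ∣ (q - 1) * (q ^ 2 + 1) ∧ s ∣ (q - 1) * (q ^ 2 + 1)) ∨ (r = 2 ∧ s ∣ q - 1) ∨
        (s = 2 ∧ r ∣ q - 1))) := by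
  obtain ⟨e⟩ := hS
  subst hqm
  have hF : Fintype.card F = 2 ^ (2 * m + 1) := hq
  have hcd : Cfsg.charDegrees S =
      {1, (2 ^ (2 * m + 1)) ^ 2, (2 ^ (2 * m + 1)) ^ 2 + 1,
        (2 ^ (2 * m + 1) - 1) * 2 ^ m,
        (2 ^ (2 * m + 1) - 1) * (2 ^ (2 * m + 1) - 2 ^ (m + 1) + 1),
        (2 ^ (2 * m + 1) - 1) * (2 ^ (2 * m + 1) + 2 ^ (m + 1) + 1)} := by
    rw [Cfsg.Agent.Lib.helper14.charDegrees_congr (e.trans (szLieEquiv hF hm).symm), hG1]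
  exact ⟨graph_primes m hm hcd, fun r s => graph_adj m hm hcd r s⟩

end Cfsg.Agent.Lib.Helper10.SZC
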