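import Mathlib
import Cfsg.Agent.Lib.Helper10.TEM.Defs

/-!
# Project TEM = S2191 (designer helper10), row N1 `sub_full` (helper13), VERBATIM.
-/

set_option autoImplicit false

namespace Cfsg.Agent.Lib.Helper10.TEM

open Cfsg.Lie Cfsg.Lie.ChevalleyDatum Matrix
open Cfsg.Agent.Lib.helper8

universe u

variable {K : Type u} [Field K] {q : ℕ} {f : K ≃+* K} {M H : Subgroup (GG K)}

-- ROW N1  [S]  `x = α + β a`, `β = (x - f x) / (a - f a)`, `α = x - β a`, both fixed by `f`.
theorem sub_full (hff : ∀ t, f (f t) = t) (A : AddSubgroup K)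
    (hA : ∀ c t : K, f c = c → t ∈ A → c * t ∈ A) (h1 : (1 : K) ∈ A) (a : K) (ha : a ∈ A)
    (hfa : f a ≠ a) (x : K) : x ∈ A := by
  have hd : a - f a ≠ 0 := fun h => hfa (sub_eq_zero.mp h).symm
  have hd' : f a - a ≠ 0 := fun h => hfa (sub_eq_zero.mp h)
  set β : K := (x - f x) / (a - f a) with hβ
  have hfβ : f β = β := by
    rw [hβ, map_div₀, map_sub, map_sub, hff, hff]
    rw [div_eq_div_iff hd' hd]
    ring
  have hfα : f (x - β * a) = x - β * a := by
    rw [map_sub, map_mul, hfβ]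
    have : β * (a - f a) = x - f x := by
      rw [hβ]; field_simp
    linear_combination this
  have hx : x = (x - β * a) * 1 + β * a := by ring
  rw [hx]
  exact A.add_mem (hA _ _ hfα h1) (hA _ _ hfβ ha)

end Cfsg.Agent.Lib.Helper10.TEM
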