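import Cfsg.Agent.Lib.Helper13.EngC
import Cfsg.Agent.Lib.Helper1.Cores

set_option autoImplicit false

/-! An Engel element outside `O_p` forces `[O_p, G] ≤ M'` for the unique maximal subgroup `M` over a
Sylow `p`-subgroup (helper13). -/

namespace Cfsg.Agent.Lib.Helper13

section EngelStep

open Cfsg

open scoped commutatorElement

variable {G : Type*} [Group G]

theorem mem_commutator_subtype_iff (M : Subgroup G) (y : ↥M) :
    y ∈ _root_.commutator ↥M ↔ (y : G) ∈ ⁅M, M⁆ := by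
  rw [← Subgroup.map_subtype_commutator]
  constructor
  · intro h
    exact ⟨y, h, rfl⟩
  · rintro ⟨z, hz, hzy⟩
    have : z = y := Subtype.ext hzy
    rwa [← this]

theorem iterCommutator_mono_right (N : Subgroup G) {Z Z' : Subgroup G} (h : Z ≤ Z') (k : ℕ) :
    Cfsg.iterCommutator N Z k ≤ Cfsg.iterCommutator N Z' k := by
  induction k with
  | zero => exact le_rfl
  | succ k ih => exact Subgroup.commutator_mono ih h

theorem iterCommutator_conj_le (X R : Subgroup G) [X.Normal] [R.Normal] (e g : G) (k : ℕ)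
    (h : Cfsg.iterCommutator X (Subgroup.zpowers e) k ≤ R) :
    Cfsg.iterCommutator X (Subgroup.zpowers (g * e * g⁻¹)) k ≤ R := by
  have h1 : Subgroup.zpowers (g * e * g⁻¹) =
      (Subgroup.zpowers e).map (MulAut.conj g).toMonoidHom := by
    rw [MonoidHom.map_zpowers]
    rfl
  have h2 : Cfsg.iterCommutator X (Subgroup.zpowers (g * e * g⁻¹)) k =
      (Cfsg.iterCommutator X (Subgroup.zpowers e) k).map (MulAut.conj g).toMonoidHom := by
    rw [iterCommutator_map, h1, cj_normal_eq X g]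
  rw [h2]
  refine (Subgroup.map_mono h).trans ?_
  rw [cj_normal_eq R g]

end EngelStep

section EngelMain

open Cfsg

open scoped commutatorElement

variable {G : Type*} [Group G] [Finite G] {p : ℕ} [hp : Fact p.Prime]

theorem engel_step (S : Sylow p G) (M : Subgroup G)
    (hSM : (S : Subgroup G) ≤ M) (hmax : ∀ K : Subgroup G, (S : Subgroup G) ≤ K → K ≠ ⊤ → K ≤ M)
    (u : G) (huS : u ∈ (S : Subgroup G)) (huP : u ∉ Cfsg.pCore p G)
    (X R : Subgroup G) (hXR : Cfsg.IsChiefFactor X R) (hXp : IsPGroup p ↥X) (hXM : X ≤ M)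
    (hu : Cfsg.iterCommutator X (Subgroup.zpowers u) (p - 1) ≤ R)
    (hR : ∀ x ∈ R, ∀ g : G, g * x * g⁻¹ * x⁻¹ ∈ ⁅M, M⁆) :
    ∀ x ∈ X, ∀ g : G, g * x * g⁻¹ * x⁻¹ ∈ ⁅M, M⁆ := by
  classical
  have hXn : X.Normal := hXR.2.1
  have hRn : R.Normal := hXR.2.2.1
  obtain ⟨-, hexpX, hnorm⟩ := chief_props X R hXR hXp
  have hconjX : ∀ (g : G) (x : ↥X), g⁻¹ * (x : G) * g ∈ X := by
    intro g x
    have := hXn.conj_mem x x.2 g⁻¹
    rwa [inv_inv] at this
  obtain ⟨lam, hlam⟩ : ∃ lam : ↥X →* Abelianization ↥M,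
      lam = (Abelianization.of).comp (Subgroup.inclusion hXM) := ⟨_, rfl⟩
  have hlam1 : ∀ x : ↥X, lam x = 1 ↔ (x : G) ∈ ⁅M, M⁆ := by
    intro x
    rw [hlam]
    show Abelianization.of (Subgroup.inclusion hXM x) = 1 ↔ _
    rw [← MonoidHom.mem_ker, Abelianization.ker_of, mem_commutator_subtype_iff]
    rfl
  obtain ⟨ρ, hρ⟩ : ∃ ρ : G →* Monoid.End (↥X →* Abelianization ↥M),
      ρ = engRho X (Abelianization ↥M) := ⟨_, rfl⟩
  have hρapp : ∀ (g : G) (φ : ↥X →* Abelianization ↥M) (x : ↥X),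
      ρ g φ x = φ ⟨g⁻¹ * (x : G) * g, hconjX g x⟩ := by
    intro g φ x
    rw [hρ]
    exact engRho_apply X _ g φ x
  have hMfix : ∀ m ∈ M, ρ m lam = lam := by
    intro m hm
    ext x
    rw [hρapp, hlam]
    show Abelianization.of (Subgroup.inclusion hXM ⟨m⁻¹ * (x : G) * m, hconjX m x⟩) =
      Abelianization.of (Subgroup.inclusion hXM x)
    have e : Subgroup.inclusion hXM ⟨m⁻¹ * (x : G) * m, hconjX m x⟩ =
        (⟨m, hm⟩ : ↥M)⁻¹ * Subgroup.inclusion hXM x * ⟨m, hm⟩ := by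
      apply Subtype.ext
      rfl
    rw [e, map_mul, map_mul, map_inv, mul_comm, ← mul_assoc, mul_inv_cancel, one_mul]
  obtain ⟨H₀, hH₀⟩ : ∃ H₀ : Subgroup (↥X →* Abelianization ↥M),
      ∀ φ, φ ∈ H₀ ↔ ∀ x : ↥X, (x : G) ∈ R → φ x = 1 := by
    refine ⟨{ carrier := {φ | ∀ x : ↥X, (x : G) ∈ R → φ x = 1}
              one_mem' := fun _ _ => rfl
              mul_mem' := ?_
              inv_mem' := ?_ }, fun φ => Iff.rfl⟩
    · intro a b ha hb x hx
      rw [MonoidHom.mul_apply, ha x hx, hb x hx, one_mul]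
    · intro a ha x hx
      rw [MonoidHom.inv_apply, ha x hx, inv_one]
  have hρH₀ : ∀ (g : G), ∀ φ ∈ H₀, ρ g φ ∈ H₀ := by
    intro g φ hφ
    rw [hH₀] at hφ ⊢
    intro x hx
    rw [hρapp]
    apply hφ
    have := hRn.conj_mem x hx g⁻¹
    rwa [inv_inv] at this
  have hc : ∀ g : G, ρ g lam / lam ∈ H₀ := by
    intro g
    rw [hH₀]
    intro x hx
    rw [MonoidHom.div_apply, hρapp, ← map_div, hlam1]
    have := hR x hx g⁻¹
    rw [inv_inv] at this
    have e : ((⟨g⁻¹ * (x : G) * g, hconjX g x⟩ / x : ↥X) : G) = g⁻¹ * x * g * (x : G)⁻¹ := by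
      rw [Subgroup.coe_div, div_eq_mul_inv]
    rw [e]
    exact this
  have hexp : ∀ φ ∈ H₀, φ ^ p = 1 := by
    intro φ hφ
    rw [hH₀] at hφ
    ext x
    rw [MonoidHom.pow_apply, ← map_pow, MonoidHom.one_apply]
    apply hφ
    rw [Subgroup.coe_pow]
    exact hexpX x x.2
  have hcop : Nat.Coprime M.index p := by
    rw [Nat.coprime_comm, Nat.Prime.coprime_iff_not_dvd hp.out]
    intro hd
    exact S.not_dvd_index (hd.trans (Subgroup.index_dvd_of_le hSM))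
  obtain ⟨𝓔, h𝓔⟩ : ∃ 𝓔 : Set G,
      ∀ e, e ∈ 𝓔 ↔ Cfsg.iterCommutator X (Subgroup.zpowers e) (p - 1) ≤ R :=
    ⟨{e | Cfsg.iterCommutator X (Subgroup.zpowers e) (p - 1) ≤ R}, fun e => Iff.rfl⟩
  have hfix : ∀ w ∈ H₀, (∀ m ∈ M, ρ m w = w) → ∀ g : G, ρ g w = w := by
    intro w hw hwM
    apply eng_fixed_of_chain S M hSM hmax ρ 𝓔 _ _ _ w hwM
    · intro e he g
      have hφ := hρH₀ g w hw
      obtain ⟨φ, hφdef⟩ : ∃ φ, φ = ρ g w := ⟨_, rfl⟩
      rw [← hφdef, hH₀] at hφ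
      have h1 : ∀ i : ℕ, ρ (e ^ i * g) w = ρ (e ^ i) φ := by
        intro i
        rw [map_mul, hφdef]
        rfl
      simp only [h1]
      ext x
      rw [MonoidHom.finsetProd_apply, MonoidHom.one_apply]
      simp only [hρapp]
      obtain ⟨hmem, hprod⟩ := map_engOrdProd φ (fun i => (e ^ i)⁻¹ * (x : G) * e ^ i)
        (fun i => hconjX (e ^ i) x) p
      rw [← hprod]
      apply hφ
      exact hnorm e ((h𝓔 e).mp he) x x.2
    · intro e he g
      rw [h𝓔] at he ⊢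
      exact iterCommutator_conj_le X R e g _ he
    · intro e he k
      rw [h𝓔] at he ⊢
      refine (iterCommutator_mono_right X ?_ _).trans he
      rw [Subgroup.zpowers_le]
      exact Subgroup.pow_mem _ (Subgroup.mem_zpowers e) k
    · intro hnormal
      apply huP
      have hle : Subgroup.closure (𝓔 ∩ ((S : Subgroup G) : Set G)) ≤ (S : Subgroup G) := by
        rw [Subgroup.closure_le]
        exact Set.inter_subset_right
      apply Cfsg.Agent.Lib.Helper1.le_pCore hnormal (S.isPGroup'.to_le hle)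
      apply Subgroup.subset_closure
      exact ⟨(h𝓔 u).mpr hu, huS⟩
  have hall := eng_cocycle_trivial M ρ lam hMfix H₀ hc p hexp hcop hfix
  intro x hx g
  have h1 := hall g⁻¹
  have h2 := congrArg (fun φ : ↥X →* Abelianization ↥M => φ ⟨x, hx⟩) h1
  beta_reduce at h2
  rw [hρapp] at h2
  have h3 : lam (⟨g⁻¹⁻¹ * x * g⁻¹, hconjX g⁻¹ ⟨x, hx⟩⟩ / ⟨x, hx⟩) = 1 := by
    rw [map_div, h2, div_self']
  rw [hlam1] at h3
  have e : ((⟨g⁻¹⁻¹ * x * g⁻¹, hconjX g⁻¹ ⟨x, hx⟩⟩ / ⟨x, hx⟩ : ↥X) : G) = g * x * g⁻¹ * x⁻¹ := by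
    rw [Subgroup.coe_div, div_eq_mul_inv]
    show g⁻¹⁻¹ * x * g⁻¹ * x⁻¹ = _
    rw [inv_inv]
  rw [e] at h3
  exact h3

/-- If some element of the Sylow subgroup outside `O_p(G)` is an Engel element on every chief factor
below `O_p(G)`, then `[O_p(G), G] ≤ M'` for the unique maximal subgroup `M` over the Sylow subgroup. -/
theorem commutator_le_of_engel (S : Sylow p G) (M : Subgroup G)
    (hSM : (S : Subgroup G) ≤ M) (hmax : ∀ K : Subgroup G, (S : Subgroup G) ≤ K → K ≠ ⊤ → K ≤ M)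
    (u : G) (huS : u ∈ (S : Subgroup G)) (huP : u ∉ Cfsg.pCore p G)
    (hEng : ∀ U V : Subgroup G, Cfsg.IsChiefFactor U V → U ≤ Cfsg.pCore p G →
      Cfsg.iterCommutator U (Subgroup.zpowers u) (p - 1) ≤ V) :
    ⁅Cfsg.pCore p G, (⊤ : Subgroup G)⁆ ≤ ⁅M, M⁆ := by
  obtain ⟨P, hPdef⟩ : ∃ P : Subgroup G, P = Cfsg.pCore p G := ⟨_, rfl⟩
  rw [← hPdef] at hEng ⊢
  have hPn : P.Normal := hPdef ▸ pCore_normal' p
  have hPp : IsPGroup p ↥P := hPdef ▸ pCore_isPGroup
  have hPM : P ≤ M := (normal_pgroup_le_sylow P hPp S).trans hSM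
  let T := {R : Subgroup G // R.Normal ∧ R ≤ P ∧ ∀ x ∈ R, ∀ g : G, g * x * g⁻¹ * x⁻¹ ∈ ⁅M, M⁆}
  have hTne : Nonempty T := ⟨⟨⊥, inferInstance, bot_le, fun x hx g => by
    rw [Subgroup.mem_bot] at hx
    rw [hx]
    simp⟩⟩
  obtain ⟨⟨R, hRn, hRP, hR⟩, hRmax⟩ := Finite.exists_max (fun N : T => Nat.card (N.1 : Subgroup G))
  by_cases hRP' : R = P
  · rw [Subgroup.commutator_le]
    intro x hx g _
    have h1 := hR x (hRP' ▸ hx) g
    have e : ⁅x, g⁆ = (g * x * g⁻¹ * x⁻¹)⁻¹ := by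
      rw [commutatorElement_def]; group
    rw [e]
    exact Subgroup.inv_mem _ h1
  · exfalso
    let T' := {X : Subgroup G // X.Normal ∧ R < X ∧ X ≤ P}
    have hT'ne : Nonempty T' := ⟨⟨P, hPn, lt_of_le_of_ne hRP hRP', le_rfl⟩⟩
    obtain ⟨⟨X, hXn, hRX, hXP⟩, hXmin⟩ :=
      Finite.exists_min (fun N : T' => Nat.card (N.1 : Subgroup G))
    have hchief : Cfsg.IsChiefFactor X R := by
      refine ⟨hRX, hXn, hRn, ?_⟩
      intro N hN hRN hNX
      by_cases hNR : N = R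
      · exact Or.inl hNR
      · right
        have h1 := hXmin ⟨N, hN, lt_of_le_of_ne hRN (Ne.symm hNR), hNX.trans hXP⟩
        exact Subgroup.eq_of_le_of_card_ge hNX h1
    have hstep := engel_step S M hSM hmax u huS (hPdef ▸ huP) X R hchief (hPp.to_le hXP)
      (hXP.trans hPM) (hEng X R hchief hXP) hR
    have h2 := hRmax ⟨X, hXn, hXP, hstep⟩
    have h3 := Subgroup.eq_of_le_of_card_ge hRX.le h2
    exact hRX.ne h3

end EngelMain

end Cfsg.Agent.Lib.Helper13
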