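import Cfsg.Agent.Lib.Helper13.WcElemB
import Cfsg.Agent.Lib.Helper13.EngD

set_option autoImplicit false

/-! The normal case of the weak closure theorem for elements: an Engel element on the chief factors
inside an abelian normal `p`-subgroup `Z` forces every element of `Z` fixed by the unique maximal
subgroup over a Sylow `p`-subgroup to be central (helper13). -/

namespace Cfsg.Agent.Lib.Helper13

section ConjRho

variable {G : Type*} [Group G] (Z : Subgroup G) [hZn : Z.Normal]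

/-- The conjugation action of `G` on a normal subgroup, as endomorphisms. -/
def conjRho : G →* Monoid.End ↥Z where
  toFun g := (MulAut.conjNormal g : ↥Z ≃* ↥Z).toMonoidHom
  map_one' := by
    apply Monoid.End.ext
    intro z
    show (MulAut.conjNormal (1 : G) : ↥Z ≃* ↥Z) z = z
    rw [map_one]
    rfl
  map_mul' := by
    intro g h
    apply Monoid.End.ext
    intro z
    show (MulAut.conjNormal (g * h) : ↥Z ≃* ↥Z) z =
      (MulAut.conjNormal g : ↥Z ≃* ↥Z) ((MulAut.conjNormal h : ↥Z ≃* ↥Z) z)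
    rw [map_mul]
    rfl

theorem conjRho_apply (g : G) (z : ↥Z) : ((conjRho Z g z : ↥Z) : G) = g * (z : G) * g⁻¹ := by
  show (((MulAut.conjNormal g : ↥Z ≃* ↥Z) z : ↥Z) : G) = _
  rw [MulAut.conjNormal_apply]

end ConjRho

section NormalCase

open Cfsg

open scoped IsMulCommutative

variable {G : Type*} [Group G] [Finite G] {p : ℕ} [hp : Fact p.Prime]

theorem wc_normal_induction (S : Sylow p G) (M : Subgroup G)
    (hSM : (S : Subgroup G) ≤ M) (hmax : ∀ K : Subgroup G, (S : Subgroup G) ≤ K → K ≠ ⊤ → K ≤ M)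
    (Z : Subgroup G) [hZn : Z.Normal] [hZc : IsMulCommutative ↥Z] (hZp : IsPGroup p ↥Z)
    (u : G) (huS : u ∈ (S : Subgroup G)) (huP : u ∉ Cfsg.pCore p G)
    (hEng : ∀ U V : Subgroup G, Cfsg.IsChiefFactor U V → U ≤ Z →
      Cfsg.iterCommutator U (Subgroup.zpowers u) (p - 1) ≤ V) :
    ∀ n : ℕ, ∀ N : Subgroup G, N.Normal → N ≤ Z → Nat.card ↥N ≤ n → ∀ w ∈ N,
      (∀ m ∈ M, m * w * m⁻¹ = w) → ∀ g : G, g * w * g⁻¹ = w := by
  classical
  intro n
  induction n with
  | zero =>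
    intro N _ _ hcard
    exfalso
    have := Nat.card_pos (α := ↥N)
    omega
  | succ n ih =>
    intro N hNn hNZ hcard w hw hwM
    by_cases hNbot : N = ⊥
    · intro g
      rw [hNbot, Subgroup.mem_bot] at hw
      rw [hw, mul_one, mul_inv_cancel]
    let T' := {R : Subgroup G // R.Normal ∧ R < N}
    have hT'ne : Nonempty T' := ⟨⟨⊥, inferInstance, bot_lt_iff_ne_bot.mpr hNbot⟩⟩
    obtain ⟨⟨N', hN'n, hN'N⟩, hN'max⟩ :=
      Finite.exists_max (fun R : T' => Nat.card (R.1 : Subgroup G))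
    have hchief : Cfsg.IsChiefFactor N N' := by
      refine ⟨hN'N, hNn, hN'n, ?_⟩
      intro R hR hN'R hRN
      by_cases hRN' : R = N
      · exact Or.inr hRN'
      · left
        have h1 := hN'max ⟨R, hR, lt_of_le_of_ne hRN hRN'⟩
        exact (Subgroup.eq_of_le_of_card_ge hN'R h1).symm
    have hcardN' : Nat.card ↥N' ≤ n := by
      have : Nat.card ↥N' < Nat.card ↥N := by
        by_contra hcon
        exact hN'N.ne (Subgroup.eq_of_le_of_card_ge hN'N.le (not_lt.mp hcon))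
      omega
    have hNp : IsPGroup p ↥N := hZp.to_le hNZ
    obtain ⟨-, -, hnorm⟩ := chief_props N N' hchief hNp
    have hIH := ih N' hN'n (hN'N.le.trans hNZ) hcardN'
    obtain ⟨ρ, hρ⟩ : ∃ ρ : G →* Monoid.End ↥Z, ρ = conjRho Z := ⟨_, rfl⟩
    have hρapp : ∀ (g : G) (z : ↥Z), ((ρ g z : ↥Z) : G) = g * (z : G) * g⁻¹ := by
      intro g z
      rw [hρ]
      exact conjRho_apply Z g z
    obtain ⟨H₁, hH₁⟩ : ∃ H₁ : Subgroup ↥Z, H₁ = N'.subgroupOf Z := ⟨_, rfl⟩
    have hH₁mem : ∀ z : ↥Z, z ∈ H₁ ↔ (z : G) ∈ N' := by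
      intro z
      rw [hH₁, Subgroup.mem_subgroupOf]
    have hst : ∀ g : G, ∀ h ∈ H₁, ρ g h ∈ H₁ := by
      intro g h hh
      rw [hH₁mem] at hh ⊢
      rw [hρapp]
      exact hN'n.conj_mem _ hh g
    obtain ⟨w', hw'⟩ : ∃ w' : ↥Z, w' = ⟨w, hNZ hw⟩ := ⟨_, rfl⟩
    have hw'val : (w' : G) = w := by rw [hw']
    have hfixiff : ∀ (g : G) (z : ↥Z), ρ g z = z ↔ g * (z : G) * g⁻¹ = (z : G) := by
      intro g z
      rw [← hρapp, Subtype.ext_iff]
    have hMfix : ∀ m ∈ M, ρ m w' = w' := by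
      intro m hm
      rw [hfixiff, hw'val]
      exact hwM m hm
    obtain ⟨𝓔, h𝓔⟩ : ∃ 𝓔 : Set G,
        ∀ e, e ∈ 𝓔 ↔ Cfsg.iterCommutator N (Subgroup.zpowers e) (p - 1) ≤ N' :=
      ⟨{e | Cfsg.iterCommutator N (Subgroup.zpowers e) (p - 1) ≤ N'}, fun e => Iff.rfl⟩
    have hstep1 : ∀ g : G, ρ g w' / w' ∈ H₁ := by
      apply eng_fixed_of_chain_mod S M hSM hmax ρ H₁ hst 𝓔 _ _ _ w'
      · intro m hm
        rw [hMfix m hm, div_self']
        exact Subgroup.one_mem _
      · intro e he g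
        obtain ⟨y, hy⟩ : ∃ y : ↥Z, y = ρ g w' := ⟨_, rfl⟩
        have hyN : (y : G) ∈ N := by
          rw [hy, hρapp, hw'val]
          exact hNn.conj_mem _ hw g
        have he' : Cfsg.iterCommutator N (Subgroup.zpowers e⁻¹) (p - 1) ≤ N' := by
          rw [Subgroup.zpowers_inv]
          exact (h𝓔 e).mp he
        have h1 := hnorm e⁻¹ he' (y : G) hyN
        have hyZ : ∀ i : ℕ, ((e⁻¹) ^ i)⁻¹ * (y : G) * (e⁻¹) ^ i ∈ Z := by
          intro i
          have := hZn.conj_mem _ y.2 ((e⁻¹) ^ i)⁻¹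
          rwa [inv_inv] at this
        obtain ⟨hmem, hprod⟩ := map_engOrdProd (MonoidHom.id ↥Z)
          (fun i => ((e⁻¹) ^ i)⁻¹ * (y : G) * (e⁻¹) ^ i) hyZ p
        have h2 : ∏ i ∈ Finset.range p, ρ (e ^ i * g) w' =
            ∏ i ∈ Finset.range p, (MonoidHom.id ↥Z) ⟨((e⁻¹) ^ i)⁻¹ * (y : G) * (e⁻¹) ^ i, hyZ i⟩ := by
          apply Finset.prod_congr rfl
          intro i _
          apply Subtype.ext
          rw [hρapp, MonoidHom.id_apply]
          show e ^ i * g * (w' : G) * (e ^ i * g)⁻¹ = ((e⁻¹) ^ i)⁻¹ * (y : G) * (e⁻¹) ^ i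
          rw [hy, hρapp, inv_pow, inv_inv, mul_inv_rev]
          group
        rw [h2, ← hprod, hH₁mem, MonoidHom.id_apply]
        exact h1
      · intro e he g
        rw [h𝓔] at he ⊢
        exact iterCommutator_conj_le N N' e g _ he
      · intro e he k
        rw [h𝓔] at he ⊢
        refine (iterCommutator_mono_right N ?_ _).trans he
        rw [Subgroup.zpowers_le]
        exact Subgroup.pow_mem _ (Subgroup.mem_zpowers e) k
      · intro hnormal
        apply huP
        have hle : Subgroup.closure (𝓔 ∩ ((S : Subgroup G) : Set G)) ≤ (S : Subgroup G) := by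
          rw [Subgroup.closure_le]
          exact Set.inter_subset_right
        apply Cfsg.Agent.Lib.Helper1.le_pCore hnormal (S.isPGroup'.to_le hle)
        apply Subgroup.subset_closure
        exact ⟨(h𝓔 u).mpr (hEng N N' hchief hNZ), huS⟩
    obtain ⟨k, hk⟩ := IsPGroup.iff_card.mp hZp
    have hexp : ∀ h ∈ H₁, h ^ (Nat.card ↥Z) = 1 := fun h _ => pow_card_eq_one'
    have hcop : Nat.Coprime M.index (Nat.card ↥Z) := by
      rw [hk]
      apply Nat.Coprime.pow_right
      rw [Nat.coprime_comm, Nat.Prime.coprime_iff_not_dvd hp.out]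
      intro hd
      exact S.not_dvd_index (hd.trans (Subgroup.index_dvd_of_le hSM))
    have hfix : ∀ v ∈ H₁, (∀ m ∈ M, ρ m v = v) → ∀ g : G, ρ g v = v := by
      intro v hv hvM g
      rw [hfixiff]
      apply hIH (v : G) ((hH₁mem v).mp hv)
      intro m hm
      rw [← hfixiff]
      exact hvM m hm
    have hall := eng_cocycle_trivial M ρ w' hMfix H₁ hstep1 (Nat.card ↥Z) hexp hcop hfix
    intro g
    have := (hfixiff g w').mp (hall g)
    rwa [hw'val] at this

/-- The normal case: an element of `Z(O_p(G))` centralized by every proper subgroup containing a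
Sylow `p`-subgroup is central, as soon as some element of the Sylow subgroup outside `O_p(G)` is an
Engel element on the chief factors inside `Z(O_p(G))`. -/
theorem wc_normal_case (S : Sylow p G) (x : G) (hxP : x ∈ Cfsg.pCore p G)
    (hxC : x ∈ Subgroup.centralizer ((Cfsg.pCore p G : Subgroup G) : Set G))
    (hmax : ∀ K : Subgroup G, (S : Subgroup G) ≤ K → K ≠ ⊤ → ∀ k ∈ K, k * x * k⁻¹ = x)
    (u : G) (huS : u ∈ (S : Subgroup G)) (huP : u ∉ Cfsg.pCore p G)
    (hEng : ∀ U V : Subgroup G, Cfsg.IsChiefFactor U V →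
      U ≤ Cfsg.pCore p G ⊓ Subgroup.centralizer ((Cfsg.pCore p G : Subgroup G) : Set G) →
      Cfsg.iterCommutator U (Subgroup.zpowers u) (p - 1) ≤ V) :
    ∀ g : G, g * x * g⁻¹ = x := by
  obtain ⟨P, hPdef⟩ : ∃ P : Subgroup G, P = Cfsg.pCore p G := ⟨_, rfl⟩
  rw [← hPdef] at hxP hxC hEng huP
  have hPn : P.Normal := hPdef ▸ pCore_normal' p
  have hPp : IsPGroup p ↥P := hPdef ▸ pCore_isPGroup
  obtain ⟨Z, hZdef⟩ : ∃ Z : Subgroup G, Z = P ⊓ Subgroup.centralizer ((P : Subgroup G) : Set G) :=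
    ⟨_, rfl⟩
  rw [← hZdef] at hEng
  have hZn : Z.Normal := by
    rw [hZdef]
    infer_instance
  have hZc : IsMulCommutative ↥Z := by
    refine ⟨⟨fun a b => ?_⟩⟩
    apply Subtype.ext
    have hZle : Z ≤ P ⊓ Subgroup.centralizer ((P : Subgroup G) : Set G) := hZdef.le
    have ha : (a : G) ∈ Subgroup.centralizer ((P : Subgroup G) : Set G) := (hZle a.2).2
    have hb : (b : G) ∈ P := (hZle b.2).1
    exact (Subgroup.mem_centralizer_iff.mp ha (b : G) hb).symm
  have hZp : IsPGroup p ↥Z := hPp.to_le (hZdef ▸ inf_le_left)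
  have hxZ : x ∈ Z := hZdef ▸ ⟨hxP, hxC⟩
  obtain ⟨M, hMdef⟩ : ∃ M : Subgroup G, M = Subgroup.centralizer ({x} : Set G) := ⟨_, rfl⟩
  have hMmem : ∀ m : G, m ∈ M ↔ m * x * m⁻¹ = x := by
    intro m
    rw [hMdef, Subgroup.mem_centralizer_iff]
    constructor
    · intro h
      rw [← h x rfl, mul_inv_cancel_right]
    · intro h y hy
      rw [Set.mem_singleton_iff.mp hy]
      conv_lhs => rw [← h]
      group
  have hSne : (S : Subgroup G) ≠ ⊤ := by
    intro hS
    apply huP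
    have hSn : (S : Subgroup G).Normal := hS ▸ inferInstance
    rw [hPdef]
    exact Cfsg.Agent.Lib.Helper1.le_pCore hSn S.isPGroup' huS
  have hSM : (S : Subgroup G) ≤ M := fun s hs => (hMmem s).mpr (hmax _ le_rfl hSne s hs)
  by_cases hMtop : M = ⊤
  · intro g
    rw [← hMmem, hMtop]
    exact Subgroup.mem_top g
  have hmax' : ∀ K : Subgroup G, (S : Subgroup G) ≤ K → K ≠ ⊤ → K ≤ M :=
    fun K hSK hK k hk => (hMmem k).mpr (hmax K hSK hK k hk)
  exact wc_normal_induction S M hSM hmax' Z hZp u huS (hPdef ▸ huP) hEng (Nat.card ↥Z) Z hZn le_rfl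
    le_rfl x hxZ (fun m hm => (hMmem m).mp hm)

end NormalCase

end Cfsg.Agent.Lib.Helper13
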