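import Mathlib.GroupTheory.Sylow
import Mathlib.GroupTheory.PGroup
import Cfsg.Prelude.Def_Solvable

set_option autoImplicit false

namespace Cfsg.Agent.Lib.Helper13

open scoped Pointwise

theorem normal_pgroup_le_sylow {G : Type*} [Group G] [Finite G] {p : ℕ} [Fact p.Prime]
    (N : Subgroup G) [N.Normal] (hN : IsPGroup p N) (S : Sylow p G) : N ≤ S := by
  obtain ⟨Q, hQ⟩ := hN.exists_le_sylow
  obtain ⟨g, rfl⟩ := MulAction.exists_smul_eq G Q S
  intro x hx
  rw [Sylow.coe_subgroup_smul, Subgroup.mem_pointwise_smul_iff_inv_smul_mem]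
  apply hQ
  have : MulAut.conj g⁻¹ • N = N := Subgroup.Normal.conj_smul_eq_self g⁻¹ N
  rw [← this]
  rw [← map_inv]
  exact Subgroup.smul_mem_pointwise_smul x _ N hx

theorem pCore_le_sylow {G : Type*} [Group G] [Finite G] {p : ℕ} [Fact p.Prime] (S : Sylow p G) :
    Cfsg.pCore p G ≤ S := by
  apply sSup_le
  rintro N ⟨hn, hp⟩
  haveI := hn
  exact normal_pgroup_le_sylow N hp S

theorem pCore_isPGroup {G : Type*} [Group G] [Finite G] {p : ℕ} [Fact p.Prime] :
    IsPGroup p (Cfsg.pCore p G) := by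
  obtain ⟨S⟩ : Nonempty (Sylow p G) := inferInstance
  exact S.isPGroup'.to_le (pCore_le_sylow S)

theorem pCore_normal' {G : Type*} [Group G] (p : ℕ) : (Cfsg.pCore p G).Normal :=
  Subgroup.sSup_normal _ (fun _ h => h.1)

theorem pPrimeCore_normal' {G : Type*} [Group G] (p : ℕ) : (Cfsg.pPrimeCore p G).Normal :=
  Subgroup.sSup_normal _ (fun _ h => h.1)

end Cfsg.Agent.Lib.Helper13
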