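import Cfsg.Agent.Lib.Helper13.KInfD
import Cfsg.Agent.Lib.Helper13.SectionFunctor
import Cfsg.Agent.Lib.Helper13.Basic

set_option autoImplicit false

/-! If a K-infinity subgroup of a Sylow `p`-subgroup is not normal, some element of the Sylow
subgroup outside `O_p` acts quadratically on `Z(O_p)` (helper13). -/

namespace Cfsg.Agent.Lib.Helper13

open Cfsg

universe u

variable {G : Type u} [Group G] [Finite G] {p : ℕ} [Fact p.Prime]

/-- An isomorphism-invariant functor takes normal `p`-subgroups to normal subgroups. -/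
theorem inducedFunctor_normal_of_normal (W : ∀ (Q : Type u) [Group Q], Subgroup Q)
    (hW : Cfsg.IsCharPFunctor.{u} p W) (T : Subgroup G) [hT : T.Normal] (hTp : IsPGroup p ↥T) :
    (Cfsg.inducedFunctor (G := G) W T).Normal := by
  have hcf := inducedFunctor_isConjugacyFunctor (G := G) W hW T hTp
  constructor
  intro n hn g
  have h1 : T.map (MulAut.conj g).toMonoidHom = T := by
    apply le_antisymm
    · rintro _ ⟨x, hx, rfl⟩
      exact hT.conj_mem x hx g
    · intro x hx
      refine ⟨g⁻¹ * x * g, ?_, ?_⟩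
      · have := hT.conj_mem x hx g⁻¹
        rwa [inv_inv] at this
      · show g * (g⁻¹ * x * g) * g⁻¹ = x
        group
  have h2 := hcf.2.2 g
  rw [h1] at h2
  rw [h2]
  exact ⟨n, hn, rfl⟩

theorem zIn_abelian (T : Subgroup G) :
    (T ⊓ Subgroup.centralizer (T : Set G)) ⊓
      Subgroup.centralizer ((T ⊓ Subgroup.centralizer (T : Set G) : Subgroup G) : Set G) =
      T ⊓ Subgroup.centralizer (T : Set G) := by
  apply inf_eq_left.mpr
  exact inf_le_right.trans (Subgroup.centralizer_le inf_le_left)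

/-- If the K-infinity subgroups of `S` and `O_p(G)` agree, those of `S` are normal. -/
theorem kinf_normal_of_eq (S : Sylow p G)
    (h : (⨆ n, kEvenIn (S : Subgroup G) n) = (⨆ n, kEvenIn (Cfsg.pCore p G) n) ∧
      (⨅ n, kOddIn (S : Subgroup G) n) = (⨅ n, kOddIn (Cfsg.pCore p G) n)) :
    (Cfsg.inducedFunctor (G := G) Cfsg.kInfLower (S : Subgroup G)).Normal ∧
      (Cfsg.inducedFunctor (G := G) Cfsg.kInfUpper (S : Subgroup G)).Normal := by
  have hTn : (Cfsg.pCore p G).Normal := pCore_normal' p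
  have hTp : IsPGroup p ↥(Cfsg.pCore p G) := pCore_isPGroup
  constructor
  · rw [inducedFunctor_kInfLower, h.1, ← inducedFunctor_kInfLower]
    exact inducedFunctor_normal_of_normal _ (isCharPFunctor_kInfLower p) _ hTp
  · rw [inducedFunctor_kInfUpper, h.2, ← inducedFunctor_kInfUpper]
    exact inducedFunctor_normal_of_normal _ (isCharPFunctor_kInfUpper p) _ hTp

/-- If a K-infinity subgroup of the Sylow `p`-subgroup `S` is not normal in `G`, some element of
`S` outside `O_p(G)` acts quadratically on `Z(O_p(G))`. -/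
theorem exists_quadratic_of_kinf_not_normal (S : Sylow p G)
    (hK : ¬ (Cfsg.inducedFunctor (G := G) Cfsg.kInfLower (S : Subgroup G)).Normal ∨
      ¬ (Cfsg.inducedFunctor (G := G) Cfsg.kInfUpper (S : Subgroup G)).Normal) :
    ∃ g : G, g ∈ (S : Subgroup G) ∧ g ∉ Cfsg.pCore p G ∧
      ⁅⁅Cfsg.pCore p G ⊓ Subgroup.centralizer ((Cfsg.pCore p G : Subgroup G) : Set G),
        Subgroup.zpowers g⁆, Subgroup.zpowers g⁆ = ⊥ := by
  by_contra hno
  push Not at hno
  have hTn : (Cfsg.pCore p G).Normal := pCore_normal' p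
  have hTS : Cfsg.pCore p G ≤ (S : Subgroup G) := pCore_le_sylow S
  obtain ⟨A₀, hA₀⟩ : ∃ A₀ : Subgroup G,
      A₀ = Cfsg.pCore p G ⊓ Subgroup.centralizer ((Cfsg.pCore p G : Subgroup G) : Set G) := ⟨_, rfl⟩
  rw [← hA₀] at hno
  have hAn : A₀.Normal := by
    rw [hA₀]
    infer_instance
  have hAT : A₀ ≤ Cfsg.pCore p G := hA₀ ▸ inf_le_left
  have hAab : A₀ ⊓ Subgroup.centralizer (A₀ : Set G) = A₀ := by
    rw [hA₀]
    exact zIn_abelian _
  have hAAT : ⁅A₀, Cfsg.pCore p G⁆ = ⊥ := by
    rw [Subgroup.commutator_eq_bot_iff_le_centralizer, hA₀]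
    exact inf_le_right
  have hA2 : A₀ ∈ Cfsg.classTwoSubgroups G := by
    show ⁅A₀, A₀⁆ ≤ _
    have : ⁅A₀, A₀⁆ = ⊥ := le_bot_iff.mp ((Subgroup.commutator_mono le_rfl hAT).trans hAAT.le)
    rw [this]
    exact bot_le
  have hconf := kinf_confined hTS hAT hA2 (by rw [hAAT]; exact bot_le) (by
    intro g hg _ h2
    rw [hAab] at h2
    by_contra hgT
    exact hno g hg hgT h2)
  obtain ⟨h1, h2⟩ := kinf_normal_of_eq S hconf
  rcases hK with hK | hK
  · exact hK h1
  · exact hK h2

end Cfsg.Agent.Lib.Helper13
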