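import Cfsg.Agent.Lib.Helper13.WcElemE
import Cfsg.Agent.Lib.Helper13.KInfE

set_option autoImplicit false

/-! The local hypothesis of the weak closure theorems from quadratic action on `Z(O_p)`
(helper13). -/

namespace Cfsg.Agent.Lib.Helper13

open Cfsg

open scoped commutatorElement

universe u

section Hloc

variable {G : Type u} [Group G] [Finite G] {p : ℕ} [Fact p.Prime]

theorem inducedFunctor_map_subtype (W : ∀ (Q : Type u) [Group Q], Subgroup Q)
    (hW : Cfsg.IsCharPFunctor.{u} p W) (H : Subgroup G) (A : Subgroup ↥H) (hA : IsPGroup p ↥A) :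
    (Cfsg.inducedFunctor (G := ↥H) W A).map H.subtype =
      Cfsg.inducedFunctor (G := G) W (A.map H.subtype) := by
  unfold Cfsg.inducedFunctor
  have h1 := hW.2 ↥A ↥(A.map H.subtype) hA (A.equivMapOfInjective H.subtype H.subtype_injective)
  rw [← h1, Subgroup.map_map, Subgroup.map_map]
  congr 1

theorem le_normalizer_map_subtype_of_normal (H : Subgroup G) (A : Subgroup ↥H) [hA : A.Normal] :
    H ≤ Subgroup.normalizer ((A.map H.subtype : Subgroup G) : Set G) := by
  intro h hh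
  have h1 : (⟨h, hh⟩ : ↥H) ∈ Subgroup.normalizer (A : Set ↥H) := by
    rw [Subgroup.normalizer_eq_top_iff.mpr hA]
    exact Subgroup.mem_top _
  exact (mem_normalizer_subtype A ⟨h, hh⟩).mp h1

/-- If in every group a non-normal `W(S)` yields an element of `S` outside `O_p` acting
quadratically on `Z(O_p)`, then, for odd `p`, the functor induced by `W` satisfies the local
hypothesis of the weak closure theorem for elements. -/
theorem hloc_of_quadratic (hp : p ≠ 2) (W : ∀ (Q : Type u) [Group Q], Subgroup Q)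
    (hW : Cfsg.IsCharPFunctor.{u} p W)
    (hq : ∀ (Γ : Type u) [Group Γ] [Finite Γ] (S : Sylow p Γ),
      ¬ (Cfsg.inducedFunctor (G := Γ) W (S : Subgroup Γ)).Normal →
      ∃ g : Γ, g ∈ (S : Subgroup Γ) ∧ g ∉ Cfsg.pCore p Γ ∧
        ⁅⁅Cfsg.pCore p Γ ⊓ Subgroup.centralizer ((Cfsg.pCore p Γ : Subgroup Γ) : Set Γ),
          Subgroup.zpowers g⁆, Subgroup.zpowers g⁆ = ⊥)
    (H T : Subgroup G) (hTH : T ≤ H) (hTp : IsPGroup p ↥T) (hidx : ¬ p ∣ T.relIndex H)
    (hnot : ¬ H ≤ Subgroup.normalizer ((Cfsg.inducedFunctor (G := G) W T : Subgroup G) : Set G)) :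
    ∃ g : G, g ∈ T ∧ g ∉ Cfsg.pCoreOf p H ∧ ∀ U V : Subgroup ↥H, Cfsg.IsChiefFactor U V →
      U.map H.subtype ≤ Cfsg.pCoreOf p H ⊓
        Subgroup.centralizer ((Cfsg.pCoreOf p H : Subgroup G) : Set G) →
      Cfsg.iterCommutator (U.map H.subtype) (Subgroup.zpowers g) (p - 1) ≤ V.map H.subtype := by
  have hinj : Function.Injective H.subtype := H.subtype_injective
  have hT'p : IsPGroup p ↥(T.subgroupOf H) :=
    hTp.comap_of_injective H.subtype H.subtype_injective
  obtain ⟨S', hS'⟩ : ∃ S' : Sylow p ↥H, (S' : Subgroup ↥H) = T.subgroupOf H :=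
    ⟨hT'p.toSylow hidx, hT'p.toSylow_coe hidx⟩
  have hS'map : (S' : Subgroup ↥H).map H.subtype = T := by
    rw [hS', map_subgroupOf_subtype hTH]
  have hnn : ¬ (Cfsg.inducedFunctor (G := ↥H) W (S' : Subgroup ↥H)).Normal := by
    intro hn
    apply hnot
    have := le_normalizer_map_subtype_of_normal H (Cfsg.inducedFunctor (G := ↥H) W (S' : Subgroup ↥H))
    rw [inducedFunctor_map_subtype W hW H _ S'.isPGroup', hS'map] at this
    exact this
  obtain ⟨g', hg'S, hg'P, hquad⟩ := hq ↥H S' hnn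
  have hcore : Cfsg.pCoreOf p H = (Cfsg.pCore p ↥H).map H.subtype := rfl
  have hzmap : (Cfsg.pCore p ↥H ⊓ Subgroup.centralizer ((Cfsg.pCore p ↥H : Subgroup ↥H) : Set ↥H)).map
      H.subtype = Cfsg.pCoreOf p H ⊓
        Subgroup.centralizer ((Cfsg.pCoreOf p H : Subgroup G) : Set G) := by
    rw [kmap_zIn hinj, hcore]
  have hzp : (Subgroup.zpowers g').map H.subtype = Subgroup.zpowers (g' : G) := by
    rw [MonoidHom.map_zpowers]
    rfl
  refine ⟨(g' : G), ?_, ?_, ?_⟩
  · rw [hS'] at hg'S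
    exact Subgroup.mem_subgroupOf.mp hg'S
  · rw [hcore]
    rintro ⟨z, hz, hzg⟩
    have : z = g' := Subtype.ext hzg
    exact hg'P (this ▸ hz)
  · intro U V _ hUZ
    have h1 : ⁅⁅Cfsg.pCoreOf p H ⊓ Subgroup.centralizer ((Cfsg.pCoreOf p H : Subgroup G) : Set G),
        Subgroup.zpowers (g' : G)⁆, Subgroup.zpowers (g' : G)⁆ = ⊥ := by
      rw [← hzmap, ← hzp, ← Subgroup.map_commutator, ← Subgroup.map_commutator, hquad,
        Subgroup.map_bot]
    have h2 : Cfsg.iterCommutator (U.map H.subtype) (Subgroup.zpowers (g' : G)) 2 = ⊥ := by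
      rw [eq_bot_iff, ← h1]
      exact Subgroup.commutator_mono (Subgroup.commutator_mono hUZ le_rfl) le_rfl
    have hp2 : p - 1 = 2 + (p - 3) := by
      have := (Fact.out : p.Prime).two_le
      omega
    rw [hp2, kiter_add, h2, kiter_bot]
    exact bot_le

/-- The quadratic form of the local hypothesis, transported from the subgroup `H` as a group. -/
theorem hloc_quadratic (W : ∀ (Q : Type u) [Group Q], Subgroup Q)
    (hW : Cfsg.IsCharPFunctor.{u} p W)
    (hq : ∀ (Γ : Type u) [Group Γ] [Finite Γ] (S : Sylow p Γ),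
      ¬ (Cfsg.inducedFunctor (G := Γ) W (S : Subgroup Γ)).Normal →
      ∃ g : Γ, g ∈ (S : Subgroup Γ) ∧ g ∉ Cfsg.pCore p Γ ∧
        ⁅⁅Cfsg.pCore p Γ ⊓ Subgroup.centralizer ((Cfsg.pCore p Γ : Subgroup Γ) : Set Γ),
          Subgroup.zpowers g⁆, Subgroup.zpowers g⁆ = ⊥)
    (H T : Subgroup G) (hTH : T ≤ H) (hTp : IsPGroup p ↥T) (hidx : ¬ p ∣ T.relIndex H)
    (hnot : ¬ H ≤ Subgroup.normalizer ((Cfsg.inducedFunctor (G := G) W T : Subgroup G) : Set G)) :
    ∃ g : G, g ∈ T ∧ g ∉ Cfsg.pCoreOf p H ∧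
      ⁅⁅Cfsg.pCoreOf p H ⊓ Subgroup.centralizer ((Cfsg.pCoreOf p H : Subgroup G) : Set G),
        Subgroup.zpowers g⁆, Subgroup.zpowers g⁆ = ⊥ := by
  have hinj : Function.Injective H.subtype := H.subtype_injective
  have hT'p : IsPGroup p ↥(T.subgroupOf H) :=
    hTp.comap_of_injective H.subtype H.subtype_injective
  obtain ⟨S', hS'⟩ : ∃ S' : Sylow p ↥H, (S' : Subgroup ↥H) = T.subgroupOf H :=
    ⟨hT'p.toSylow hidx, hT'p.toSylow_coe hidx⟩
  have hS'map : (S' : Subgroup ↥H).map H.subtype = T := by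
    rw [hS', map_subgroupOf_subtype hTH]
  have hnn : ¬ (Cfsg.inducedFunctor (G := ↥H) W (S' : Subgroup ↥H)).Normal := by
    intro hn
    apply hnot
    have := le_normalizer_map_subtype_of_normal H (Cfsg.inducedFunctor (G := ↥H) W (S' : Subgroup ↥H))
    rw [inducedFunctor_map_subtype W hW H _ S'.isPGroup', hS'map] at this
    exact this
  obtain ⟨g', hg'S, hg'P, hquad⟩ := hq ↥H S' hnn
  have hcore : Cfsg.pCoreOf p H = (Cfsg.pCore p ↥H).map H.subtype := rfl
  have hzmap : (Cfsg.pCore p ↥H ⊓ Subgroup.centralizer ((Cfsg.pCore p ↥H : Subgroup ↥H) : Set ↥H)).map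
      H.subtype = Cfsg.pCoreOf p H ⊓
        Subgroup.centralizer ((Cfsg.pCoreOf p H : Subgroup G) : Set G) := by
    rw [kmap_zIn hinj, hcore]
  have hzp : (Subgroup.zpowers g').map H.subtype = Subgroup.zpowers (g' : G) := by
    rw [MonoidHom.map_zpowers]
    rfl
  refine ⟨(g' : G), ?_, ?_, ?_⟩
  · rw [hS'] at hg'S
    exact Subgroup.mem_subgroupOf.mp hg'S
  · rw [hcore]
    rintro ⟨z, hz, hzg⟩
    have : z = g' := Subtype.ext hzg
    exact hg'P (this ▸ hz)
  · rw [← hzmap, ← hzp, ← Subgroup.map_commutator, ← Subgroup.map_commutator, hquad,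
      Subgroup.map_bot]

end Hloc

end Cfsg.Agent.Lib.Helper13
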