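import Cfsg.Agent.Lib.Helper27.WSP.Defs

set_option autoImplicit false
set_option linter.unusedSectionVars false
set_option linter.unusedVariables false

namespace Cfsg.Agent.Lib.Helper27.WSP

open Matrix

section A

variable {V : Type*} [AddCommGroup V] [Fintype V] {W : Type*} [AddCommGroup W] [Module ℂ W]
  [FiniteDimensional ℂ W] {c : V → V → ℂ} {π : V → Module.End ℂ W}

theorem h13_weyl_linearIndependent (h : IsWeyl c π) : LinearIndependent ℂ π := by
  classical
  rw [Fintype.linearIndependent_iff]
  intro t ht w
  have h1 : (∑ v, t v • π v) * π (-w) = 0 := by rw [ht, zero_mul]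
  rw [Finset.sum_mul] at h1
  have h2 : ∀ v, (t v • π v) * π (-w) = (t v * c v (-w)) • π (v + -w) := by
    intro v
    rw [smul_mul_assoc, h.mul, smul_smul]
  simp only [h2] at h1
  have h3 := congrArg (LinearMap.trace ℂ W) h1
  rw [map_sum, map_zero] at h3
  simp only [map_smul, smul_eq_mul] at h3
  rw [Finset.sum_eq_single w] at h3
  · rw [add_neg_cancel, h.zero, LinearMap.trace_one] at h3
    have hp : ((Module.finrank ℂ W : ℕ) : ℂ) ≠ 0 := by
      have := h.pos
      exact_mod_cast this.ne'
    have hc := h.c_ne w (-w)
    rcases mul_eq_zero.mp h3 with h4 | h4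
    · rcases mul_eq_zero.mp h4 with h5 | h5
      · exact h5
      · exact absurd h5 hc
    · exact absurd h4 hp
  · intro v _ hv
    have : v + -w ≠ 0 := by
      intro h0
      apply hv
      rw [← sub_eq_add_neg, sub_eq_zero] at h0
      exact h0
    rw [h.trace_zero _ this, mul_zero]
  · intro hw
    exact absurd (Finset.mem_univ w) hw

theorem h13_weyl_span (h : IsWeyl c π) : Submodule.span ℂ (Set.range π) = ⊤ := by
  classical
  apply (h13_weyl_linearIndependent h).span_eq_top_of_card_eq_finrank'
  rw [h.card, Module.finrank_linearMap, sq]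

end A

end Cfsg.Agent.Lib.Helper27.WSP
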