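import Cfsg.Agent.Lib.Helper27.WSP.Defs
import Cfsg.Agent.Lib.Helper13.WSPA1h

/-! Project WSP, piece A2 : Skolem-Noether for Weyl systems. -/

set_option autoImplicit false
set_option linter.unusedSectionVars false
set_option linter.unusedVariables false

namespace Cfsg.Agent.Lib.Helper27.WSP

open Matrix

section A

variable {V : Type*} [AddCommGroup V] [Fintype V] {W : Type*} [AddCommGroup W] [Module ℂ W]
  [FiniteDimensional ℂ W] {c : V → V → ℂ} {π : V → Module.End ℂ W}

/-- the basis of `End W` given by a Weyl system -/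
noncomputable def h13_weylBasis (h : IsWeyl c π) : Module.Basis V ℂ (Module.End ℂ W) :=
  Module.Basis.mk (h13_weyl_linearIndependent h) (by rw [h13_weyl_span h])

theorem h13_weylBasis_apply (h : IsWeyl c π) (v : V) : h13_weylBasis h v = π v := by
  unfold h13_weylBasis
  rw [Module.Basis.mk_apply]

/-- the linear map of `End W` moving `π v` to `π (g v)` -/
noncomputable def h13_twist (h : IsWeyl c π) (g : V → V) : Module.End ℂ W →ₗ[ℂ] Module.End ℂ W :=
  (h13_weylBasis h).constr ℂ (fun v => π (g v))

theorem h13_twist_apply (h : IsWeyl c π) (g : V → V) (v : V) :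
    h13_twist h g (π v) = π (g v) := by
  unfold h13_twist
  rw [← h13_weylBasis_apply h v, Module.Basis.constr_basis]

theorem h13_twist_mul_basis (h : IsWeyl c π) (g : V ≃+ V) (hg : ∀ v w, c (g v) (g w) = c v w)
    (v w : V) : h13_twist h g (π v * π w) = π (g v) * π (g w) := by
  rw [h.mul, map_smul, h13_twist_apply, h.mul, hg, map_add]

theorem h13_twist_mul_left (h : IsWeyl c π) (g : V ≃+ V) (hg : ∀ v w, c (g v) (g w) = c v w)
    (v : V) (Y : Module.End ℂ W) : h13_twist h g (π v * Y) = π (g v) * h13_twist h g Y := by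
  have key : (h13_twist h g).comp (LinearMap.mulLeft ℂ (π v)) =
      (LinearMap.mulLeft ℂ (π (g v))).comp (h13_twist h g) := by
    apply (h13_weylBasis h).ext
    intro w
    rw [h13_weylBasis_apply]
    simp only [LinearMap.comp_apply, LinearMap.mulLeft_apply]
    rw [h13_twist_mul_basis h g hg, h13_twist_apply]
  have := LinearMap.congr_fun key Y
  simpa only [LinearMap.comp_apply, LinearMap.mulLeft_apply] using this

theorem h13_twist_mul (h : IsWeyl c π) (g : V ≃+ V) (hg : ∀ v w, c (g v) (g w) = c v w)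
    (X Y : Module.End ℂ W) :
    h13_twist h g (X * Y) = h13_twist h g X * h13_twist h g Y := by
  have key : (h13_twist h g).comp (LinearMap.mulRight ℂ Y) =
      (LinearMap.mulRight ℂ (h13_twist h g Y)).comp (h13_twist h g) := by
    apply (h13_weylBasis h).ext
    intro v
    rw [h13_weylBasis_apply]
    simp only [LinearMap.comp_apply, LinearMap.mulRight_apply]
    rw [h13_twist_mul_left h g hg, h13_twist_apply]
  have := LinearMap.congr_fun key X
  simpa only [LinearMap.comp_apply, LinearMap.mulRight_apply] using this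

theorem h13_twist_one (h : IsWeyl c π) (g : V ≃+ V) : h13_twist h g 1 = 1 := by
  rw [← h.zero, h13_twist_apply, map_zero]

theorem h13_twist_comp (h : IsWeyl c π) (g g' : V → V) (hgg : ∀ v, g (g' v) = v) :
    (h13_twist h g).comp (h13_twist h g') = LinearMap.id := by
  apply (h13_weylBasis h).ext
  intro v
  rw [h13_weylBasis_apply, LinearMap.comp_apply, h13_twist_apply, h13_twist_apply, hgg,
    LinearMap.id_apply]

/-- the algebra automorphism of `End W` moving `π v` to `π (g v)` -/
noncomputable def h13_twistAlg (h : IsWeyl c π) (g : V ≃+ V)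
    (hg : ∀ v w, c (g v) (g w) = c v w) : Module.End ℂ W ≃ₐ[ℂ] Module.End ℂ W :=
  AlgEquiv.ofLinearEquiv
    (LinearEquiv.ofLinear (h13_twist h g) (h13_twist h g.symm)
      (h13_twist_comp h g g.symm (fun v => g.apply_symm_apply v))
      (h13_twist_comp h g.symm g (fun v => g.symm_apply_apply v)))
    (h13_twist_one h g) (h13_twist_mul h g hg)

theorem h13_twistAlg_apply (h : IsWeyl c π) (g : V ≃+ V)
    (hg : ∀ v w, c (g v) (g w) = c v w) (v : V) : h13_twistAlg h g hg (π v) = π (g v) :=
  h13_twist_apply h g v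

/-- A2 : Skolem-Noether for Weyl systems -/
theorem exists_intertwiner (h : IsWeyl c π) (g : V ≃+ V) (hg : ∀ v w, c (g v) (g w) = c v w) :
    ∃ M : (Module.End ℂ W)ˣ, ∀ v,
      (M : Module.End ℂ W) * π v = π (g v) * (M : Module.End ℂ W) := by
  obtain ⟨T, hT⟩ := (h13_twistAlg h g hg).eq_linearEquivConjAlgEquiv
  refine ⟨LinearMap.GeneralLinearGroup.ofLinearEquiv T, ?_⟩
  intro v
  have h1 : h13_twistAlg h g hg (π v) = T.conjAlgEquiv ℂ (π v) := by rw [hT]
  rw [h13_twistAlg_apply, LinearEquiv.conjAlgEquiv_apply] at h1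
  rw [h1]
  apply LinearMap.ext
  intro x
  simp [LinearMap.GeneralLinearGroup.ofLinearEquiv]

end A

end Cfsg.Agent.Lib.Helper27.WSP
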