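import Cfsg.Agent.Lib.Helper27.WSP.Defs
import Cfsg.Agent.Lib.Helper13.WSPA1h

/-! Project WSP, piece A3 : the commutant of a Weyl system consists of the scalars. -/

set_option autoImplicit false
set_option linter.unusedSectionVars false
set_option linter.unusedVariables false

namespace Cfsg.Agent.Lib.Helper27.WSP

open Matrix

section A

variable {V : Type*} [AddCommGroup V] [Fintype V] {W : Type*} [AddCommGroup W] [Module ℂ W]
  [FiniteDimensional ℂ W] {c : V → V → ℂ} {π : V → Module.End ℂ W}

/-- A3 : only the scalars commute with a Weyl system -/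
theorem weyl_commutant (h : IsWeyl c π) (N : Module.End ℂ W) (hN : ∀ v, N * π v = π v * N) :
    ∃ z : ℂ, N = z • (1 : Module.End ℂ W) := by
  have hall : ∀ X : Module.End ℂ W, X * N = N * X := by
    intro X
    have hX : X ∈ Submodule.span ℂ (Set.range π) := by
      rw [h13_weyl_span h]
      exact Submodule.mem_top
    induction hX using Submodule.span_induction with
    | mem x hx =>
      obtain ⟨v, rfl⟩ := hx
      exact (hN v).symm
    | zero => rw [zero_mul, mul_zero]
    | add x y _ _ hx hy => rw [add_mul, mul_add, hx, hy]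
    | smul a x _ hx => rw [smul_mul_assoc, mul_smul_comm, hx]
  have hcen : N ∈ Subalgebra.center ℂ (Module.End ℂ W) := Subalgebra.mem_center_iff.2 hall
  rw [Algebra.IsCentral.center_eq_bot, Algebra.mem_bot] at hcen
  obtain ⟨z, hz⟩ := hcen
  exact ⟨z, by rw [← hz, Algebra.algebraMap_eq_smul_one]⟩

end A

end Cfsg.Agent.Lib.Helper27.WSP
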