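import Mathlib
import Cfsg.Agent.Lib.Helper24.APF.Defs

/-! Project APF, piece CERT3 : a group generated by elements of its own commutator subgroup
is not solvable. -/

set_option autoImplicit false

namespace Cfsg.Agent.Lib.Helper24.APF

open Equiv

/-- a subgroup `K` with `K ≤ ⁅K, K⁆`, `K ≠ ⊥`, is not solvable -/
theorem h13_not_solvable_of_le_commutator {G : Type*} [Group G] (K : Subgroup G)
    (hK : K ≤ ⁅K, K⁆) (hne : ∃ s ∈ K, s ≠ 1) : ¬ Group.IsSolvable ↥K := by
  intro hsol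
  obtain ⟨s, hs, hs1⟩ := hne
  have : Nontrivial ↥K := ⟨⟨⟨s, hs⟩, 1, fun h => hs1 (congrArg Subtype.val h)⟩⟩
  have hlt : commutator ↥K < ⊤ := Group.IsSolvable.commutator_lt_top_of_nontrivial ↥K
  apply hlt.ne
  rw [eq_top_iff]
  intro x _
  have hx : (x : G) ∈ ⁅K, K⁆ := hK x.2
  have hmap : (commutator ↥K).map K.subtype = ⁅K, K⁆ := by
    rw [commutator_def, Subgroup.map_commutator, ← MonoidHom.range_eq_map, Subgroup.range_subtype]
  rw [← hmap] at hx
  obtain ⟨y, hy, hyx⟩ := hx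
  have : y = x := Subtype.ext hyx
  rw [← this]
  exact hy

theorem not_solvable_of_perfect_gens {G : Type*} [Group G] (S : Set G)
    (hS : ∀ s ∈ S, s ∈ ⁅Subgroup.closure S, Subgroup.closure S⁆) (hne : ∃ s ∈ S, s ≠ 1) :
    ¬ Group.IsSolvable ↥(Subgroup.closure S) := by
  apply h13_not_solvable_of_le_commutator
  · rw [Subgroup.closure_le]
    exact hS
  · obtain ⟨s, hs, hs1⟩ := hne
    exact ⟨s, Subgroup.subset_closure hs, hs1⟩

end Cfsg.Agent.Lib.Helper24.APF
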