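import Mathlib
import Cfsg.Agent.Lib.Helper24.APF.Defs
import Cfsg.Agent.Lib.Helper13.APFCERT3

/-! Project APF, piece CERT1 : two 3-cycles sharing exactly one point generate a
non-solvable group. -/

set_option autoImplicit false

namespace Cfsg.Agent.Lib.Helper24.APF

open Equiv
open scoped commutatorElement

theorem h13_viaEmbedding_swap {ι α : Type*} [DecidableEq ι] [DecidableEq α] (f : ι ↪ α)
    (i j : ι) : (swap i j).viaEmbedding f = swap (f i) (f j) := by
  ext x
  by_cases hx : x ∈ Set.range f
  · obtain ⟨y, rfl⟩ := hx
    rw [Equiv.Perm.viaEmbedding_apply, Equiv.swap_apply_def, Equiv.swap_apply_def]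
    simp only [f.injective.eq_iff]
    split_ifs <;> rfl
  · rw [Equiv.Perm.viaEmbedding_apply_of_notMem _ _ _ hx, Equiv.swap_apply_of_ne_of_ne]
    · rintro rfl
      exact hx ⟨i, rfl⟩
    · rintro rfl
      exact hx ⟨j, rfl⟩

/-- the two word identities in `Perm (Fin 5)` -/
theorem h13_fin5_words :
    let s : Perm (Fin 5) := swap 0 1 * swap 1 2
    let t : Perm (Fin 5) := swap 0 3 * swap 3 4
    s = ⁅t * s * t⁻¹, t * s * t⁆ ∧ t = ⁅s * t * s⁻¹, s * t * s⁆ := by
  decide +kernel

theorem h13_words {α : Type*} [DecidableEq α] (a b c d e : α)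
    (hnd : [a, b, c, d, e].Nodup) :
    let s : Perm α := swap a b * swap b c
    let t : Perm α := swap a d * swap d e
    s = ⁅t * s * t⁻¹, t * s * t⁆ ∧ t = ⁅s * t * s⁻¹, s * t * s⁆ := by
  intro s t
  have hinj : Function.Injective ![a, b, c, d, e] := by
    rw [← List.nodup_ofFn]
    simpa using hnd
  let f : Fin 5 ↪ α := ⟨![a, b, c, d, e], hinj⟩
  let φ : Perm (Fin 5) →* Perm α := Equiv.Perm.viaEmbeddingHom f
  have hφ : ∀ i j : Fin 5, φ (swap i j) = swap (f i) (f j) := fun i j =>
    h13_viaEmbedding_swap f i j
  have hs : φ (swap 0 1 * swap 1 2) = s := by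
    rw [map_mul, hφ, hφ]
    rfl
  have ht : φ (swap 0 3 * swap 3 4) = t := by
    rw [map_mul, hφ, hφ]
    rfl
  obtain ⟨h1, h2⟩ := h13_fin5_words
  constructor
  · have := congrArg φ h1
    rw [map_commutatorElement] at this
    simp only [map_mul, map_inv] at this
    rw [← map_mul, ← map_mul, hs, ht] at this
    exact this
  · have := congrArg φ h2
    rw [map_commutatorElement] at this
    simp only [map_mul, map_inv] at this
    rw [← map_mul, ← map_mul, hs, ht] at this
    exact this

theorem not_solvable_of_threeCycles {α : Type*} [Fintype α] [DecidableEq α]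
    (K : Subgroup (Perm α)) (a b c d e : α) (hnd : [a, b, c, d, e].Nodup)
    (h1 : swap a b * swap b c ∈ K) (h2 : swap a d * swap d e ∈ K) :
    ¬ Group.IsSolvable K := by
  intro hsol
  obtain ⟨hw1, hw2⟩ := h13_words a b c d e hnd
  set s : Perm α := swap a b * swap b c with hs
  set t : Perm α := swap a d * swap d e with ht
  have hle : Subgroup.closure ({s, t} : Set (Perm α)) ≤ K := by
    rw [Subgroup.closure_le]
    intro x hx
    rcases hx with rfl | rfl
    · exact h1
    · exact h2
  have hsm : s ∈ Subgroup.closure ({s, t} : Set (Perm α)) :=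
    Subgroup.subset_closure (Set.mem_insert _ _)
  have htm : t ∈ Subgroup.closure ({s, t} : Set (Perm α)) :=
    Subgroup.subset_closure (Set.mem_insert_of_mem _ rfl)
  have hns : ¬ Group.IsSolvable ↥(Subgroup.closure ({s, t} : Set (Perm α))) := by
    apply not_solvable_of_perfect_gens
    · intro x hx
      rcases hx with rfl | rfl
      · have key := Subgroup.commutator_mem_commutator
          (mul_mem (mul_mem htm hsm) (inv_mem htm)) (mul_mem (mul_mem htm hsm) htm)
        rw [← hw1] at key
        exact key
      · have key := Subgroup.commutator_mem_commutator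
          (mul_mem (mul_mem hsm htm) (inv_mem hsm)) (mul_mem (mul_mem hsm htm) hsm)
        rw [← hw2] at key
        exact key
    · refine ⟨s, Set.mem_insert _ _, ?_⟩
      intro h1s
      have hab : a ≠ b := by
        intro h
        simp [h] at hnd
      have hbc : b ≠ c := by
        intro h
        simp [h] at hnd
      have hac : a ≠ c := by
        intro h
        simp [h] at hnd
      have := congrArg (fun g : Perm α => g c) h1s
      simp only [hs, Equiv.Perm.coe_mul, Function.comp_apply, Equiv.swap_apply_right,
        Equiv.Perm.coe_one, id_eq] at this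
      exact hac this
  apply hns
  exact Group.isSolvable_of_isSolvable_injective (Subgroup.inclusion_injective hle)

end Cfsg.Agent.Lib.Helper24.APF
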