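import Mathlib
import Cfsg.Prelude.Def_GeometricClasses
import Cfsg.Agent.Lib.Helper27.ASC.Defs
import Cfsg.Agent.Lib.helper23.ASCO.Defs
import Cfsg.Agent.Lib.Lead.Reindex
import Cfsg.Agent.Lib.Helper25.O9.Defs
import Cfsg.Agent.Lib.Helper28.OGenQ
import Cfsg.Agent.Lib.Helper11.ASCOPRA
import Cfsg.Agent.Lib.Helper21.ASPRED

set_option autoImplicit false
set_option linter.unusedVariables false
set_option linter.unusedSectionVars false

/-!
# Project O9 (S5835), piece CENT : a matrix commuting with `Ω` is a scalar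

Two Siegel elements `g₁ = T(z, s)`, `g₂ = T(z, s')` (`s, s'` singular, orthogonal to `z`, `f s' s = 1`) commute with `k`;
evaluating `k g = g k` at `s'` resp. `s` gives `k z ∈ span {s, z} ⊓ span {s', z} = span {z}`.  The eigenspace of `k` containing
`z` is `Ω`-invariant, so it is everything by `omega_not_le_stab`.
-/

namespace Cfsg.Agent.Lib.Helper25.O9

open Cfsg Cfsg.Geo Cfsg.Agent.Lib.Helper27.ASC Cfsg.Agent.Lib.helper23.ASCO
open scoped MatrixGroups Matrix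

variable {n : ℕ} {F : Type*} [Field F] [Fintype F]

/-- a matrix commuting with `Ω` has a singular eigenvector -/
theorem o9cent_eigen (hn : 7 ≤ n) (Q : QuadraticForm F (Fin n → F))
    (hQ : (QuadraticMap.polarBilin Q).Nondegenerate) (k : Matrix (Fin n) (Fin n) F)
    (hk : ∀ g ∈ omegaGL (⇑Q), k * (g : Matrix (Fin n) (Fin n) F) = (g : Matrix (Fin n) (Fin n) F) * k) :
    ∃ (z : Fin n → F) (b : F), z ≠ 0 ∧ k *ᵥ z = b • z := by
  classical
  have hq := Cfsg.Agent.Lib.Helper28.OGenQ.qf_of_quad Q hQ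
  have vf := Cfsg.Agent.Lib.Helper28.OGenQ.vfacts_quad hn Q hQ
  have sg := Cfsg.Agent.Lib.Helper28.OGenQ.sgGroupQ_quad hn Q hQ
  have hsym := hq.sym
  obtain ⟨z, hz, hz0⟩ := vf.sing
  obtain ⟨w, hw, hwz⟩ := Cfsg.Agent.Lib.Helper28.OQ.hyp_partner_q hq z hz0 hz
  have hzw : Cfsg.Agent.S0795.pf Q z w = 1 := by
    rw [Cfsg.Agent.Lib.Helper28.OGen.s_symm hsym]
    exact hwz
  obtain ⟨s, s', hs, hs', hsz, hsw, hs'z, hs'w, hs's⟩ :=
    vf.hyp_perp z w hz hw (by rw [hzw]; exact one_ne_zero)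
  have hzs : Cfsg.Agent.S0795.pf Q z s = 0 := by
    rw [Cfsg.Agent.Lib.Helper28.OGen.s_symm hsym]
    exact hsz
  have hzs' : Cfsg.Agent.S0795.pf Q z s' = 0 := by
    rw [Cfsg.Agent.Lib.Helper28.OGen.s_symm hsym]
    exact hs'z
  have hss' : Cfsg.Agent.S0795.pf Q s s' = 1 := by
    rw [Cfsg.Agent.Lib.Helper28.OGen.s_symm hsym]
    exact hs's
  have hs's' : Cfsg.Agent.S0795.pf Q s' s' = 0 := Cfsg.Agent.Lib.Helper28.OQ.f_sing hq hs'
  -- the two Siegel elements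
  obtain ⟨g₁, hg₁⟩ := sg.ex z s 1 hz hs hzs
  have hg₁Ω := sg.sg g₁ z s 1 hz hs hzs hg₁
  obtain ⟨g₂, hg₂⟩ := sg.ex z s' 1 hz hs' hzs'
  have hg₂Ω := sg.sg g₂ z s' 1 hz hs' hzs' hg₂
  have hT₁ : ∀ x, (g₁ : Matrix (Fin n) (Fin n) F) *ᵥ x =
      x + (Cfsg.Agent.S0795.pf Q z x • s - Cfsg.Agent.S0795.pf Q s x • z) := by
    intro x
    have := hg₁ x
    unfold Cfsg.Agent.Lib.Helper28.OMax.Tv at this
    rw [one_smul] at this
    exact this
  have hT₂ : ∀ x, (g₂ : Matrix (Fin n) (Fin n) F) *ᵥ x =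
      x + (Cfsg.Agent.S0795.pf Q z x • s' - Cfsg.Agent.S0795.pf Q s' x • z) := by
    intro x
    have := hg₂ x
    unfold Cfsg.Agent.Lib.Helper28.OMax.Tv at this
    rw [one_smul] at this
    exact this
  -- `k g = g k` evaluated at a vector
  have hc₁ : ∀ x, k *ᵥ ((g₁ : Matrix (Fin n) (Fin n) F) *ᵥ x) = (g₁ : Matrix (Fin n) (Fin n) F) *ᵥ (k *ᵥ x) := by
    intro x
    rw [Matrix.mulVec_mulVec, Matrix.mulVec_mulVec, hk g₁ hg₁Ω]
  have hc₂ : ∀ x, k *ᵥ ((g₂ : Matrix (Fin n) (Fin n) F) *ᵥ x) = (g₂ : Matrix (Fin n) (Fin n) F) *ᵥ (k *ᵥ x) := by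
    intro x
    rw [Matrix.mulVec_mulVec, Matrix.mulVec_mulVec, hk g₂ hg₂Ω]
  -- at `s'` for `g₁`
  have e₁ : k *ᵥ z = (- Cfsg.Agent.S0795.pf Q z (k *ᵥ s')) • s + Cfsg.Agent.S0795.pf Q s (k *ᵥ s') • z := by
    have h := hc₁ s'
    rw [hT₁ s', hT₁ (k *ᵥ s'), hzs', hss', zero_smul, one_smul, zero_sub, Matrix.mulVec_add, Matrix.mulVec_neg] at h
    have h' := add_left_cancel h
    rw [neg_smul]
    rw [← neg_eq_iff_eq_neg.mpr h'.symm]
    abel
  -- at `s` for `g₂`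
  have e₂ : k *ᵥ z = (- Cfsg.Agent.S0795.pf Q z (k *ᵥ s)) • s' + Cfsg.Agent.S0795.pf Q s' (k *ᵥ s) • z := by
    have h := hc₂ s
    rw [hT₂ s, hT₂ (k *ᵥ s), hzs, hs's, zero_smul, one_smul, zero_sub, Matrix.mulVec_add, Matrix.mulVec_neg] at h
    have h' := add_left_cancel h
    rw [neg_smul]
    rw [← neg_eq_iff_eq_neg.mpr h'.symm]
    abel
  -- apply `f s'`
  have h3 : Cfsg.Agent.S0795.pf Q s' (k *ᵥ z) = - Cfsg.Agent.S0795.pf Q z (k *ᵥ s') := by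
    rw [e₁, Cfsg.Agent.Lib.Helper28.HForm.f_add_right hsym, Cfsg.Agent.Lib.Helper28.OGen.s_smul_right hsym,
      Cfsg.Agent.Lib.Helper28.OGen.s_smul_right hsym, hs's, hs'z]
    ring
  have h4 : Cfsg.Agent.S0795.pf Q s' (k *ᵥ z) = 0 := by
    rw [e₂, Cfsg.Agent.Lib.Helper28.HForm.f_add_right hsym, Cfsg.Agent.Lib.Helper28.OGen.s_smul_right hsym,
      Cfsg.Agent.Lib.Helper28.OGen.s_smul_right hsym, hs's', hs'z]
    ring
  refine ⟨z, Cfsg.Agent.S0795.pf Q s (k *ᵥ s'), hz0, ?_⟩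
  rw [e₁, ← h3, h4, zero_smul, zero_add]

/-- CENT : a matrix commuting with `Ω` is a scalar. -/
theorem omega_cent_scalar (hn : 7 ≤ n) (h2 : (2 : F) ≠ 0) (Q : QuadraticForm F (Fin n → F))
    (hQ : (QuadraticMap.polarBilin Q).Nondegenerate) (k : Matrix (Fin n) (Fin n) F)
    (hk : ∀ g ∈ omegaGL (⇑Q), k * (g : Matrix (Fin n) (Fin n) F) = (g : Matrix (Fin n) (Fin n) F) * k) :
    ∃ c : F, k = c • (1 : Matrix (Fin n) (Fin n) F) := by
  classical
  obtain ⟨z, b, hz0, hkz⟩ := o9cent_eigen hn Q hQ k hk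
  let E : Submodule F (Fin n → F) := LinearMap.ker (Matrix.toLin' k - b • LinearMap.id)
  have hE : ∀ x, x ∈ E ↔ k *ᵥ x = b • x := by
    intro x
    rw [LinearMap.mem_ker, LinearMap.sub_apply, Matrix.toLin'_apply, LinearMap.smul_apply, LinearMap.id_apply,
      sub_eq_zero]
  have h0 : E ≠ ⊥ := by
    intro h
    have hz : z ∈ E := (hE z).mpr hkz
    rw [h, Submodule.mem_bot] at hz
    exact hz0 hz
  have hle : omegaGL (⇑Q) ≤ subspaceStabilizer E := by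
    apply Cfsg.Agent.Lib.Helper18.ASP.aspred_stab_of_maps
    intro g hg x hx
    rw [hE] at hx ⊢
    rw [Matrix.mulVec_mulVec, hk g hg, ← Matrix.mulVec_mulVec, hx, Matrix.mulVec_smul]
  have htop : E = ⊤ := by
    by_contra h1
    exact omega_not_le_stab hn h2 Q hQ E h0 h1 hle
  refine ⟨b, ?_⟩
  apply Matrix.toLin'.injective
  apply LinearMap.ext
  intro x
  have hx : x ∈ E := by rw [htop]; exact Submodule.mem_top
  rw [Matrix.toLin'_apply, (hE x).mp hx, Matrix.toLin'_apply, Matrix.smul_mulVec, Matrix.one_mulVec]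

end Cfsg.Agent.Lib.Helper25.O9
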