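import Mathlib
import Cfsg.Prelude.Def_GeometricClasses
import Cfsg.Agent.Lib.Helper27.ASC.Defs
import Cfsg.Agent.Lib.helper23.ASCO.Defs
import Cfsg.Agent.Lib.Lead.Reindex
import Cfsg.Agent.Lib.Helper25.O9.Defs
import Cfsg.Agent.Lib.Helper28.OGenQ

set_option autoImplicit false
set_option linter.unusedVariables false
set_option linter.unusedSectionVars false

/-!
# Project O9 (S5835), piece FLD, core : `Ω` normalises no extension field (with the statement of CENT as a hypothesis)
-/

namespace Cfsg.Agent.Lib.Helper25.O9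

open Cfsg Cfsg.Geo Cfsg.Agent.Lib.Helper27.ASC Cfsg.Agent.Lib.helper23.ASCO
open scoped MatrixGroups Matrix

variable {n : ℕ} {F : Type*} [Field F] [Fintype F]

/-- a non-zero vector killed by four linear functionals built from the polar form (`n ≥ 7 > 4`) -/
theorem o9fld_exists_vec (hn : 7 ≤ n) (Q : QuadraticForm F (Fin n → F)) (u v : Fin n → F)
    (k : Matrix (Fin n) (Fin n) F) :
    ∃ x : Fin n → F, x ≠ 0 ∧ Cfsg.Agent.S0795.pf Q u x = 0 ∧ Cfsg.Agent.S0795.pf Q v x = 0 ∧
      Cfsg.Agent.S0795.pf Q u (k *ᵥ x) = 0 ∧ Cfsg.Agent.S0795.pf Q v (k *ᵥ x) = 0 := by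
  classical
  let B := QuadraticMap.polarBilin Q
  let Φ : (Fin n → F) →ₗ[F] (Fin 4 → F) :=
    LinearMap.pi ![B u, B v, (B u).comp (Matrix.toLin' k), (B v).comp (Matrix.toLin' k)]
  have hlt : Module.finrank F (Fin 4 → F) < Module.finrank F (Fin n → F) := by
    rw [Module.finrank_fin_fun, Module.finrank_fin_fun]; omega
  have hker : LinearMap.ker Φ ≠ ⊥ := LinearMap.ker_ne_bot_of_finrank_lt hlt
  obtain ⟨x, hx, hx0⟩ := (Submodule.ne_bot_iff _).mp hker
  rw [LinearMap.mem_ker] at hx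
  refine ⟨x, hx0, ?_, ?_, ?_, ?_⟩
  · have := congrFun hx 0
    unfold Cfsg.Agent.S0795.pf
    simpa [Φ, B] using this
  · have := congrFun hx 1
    unfold Cfsg.Agent.S0795.pf
    simpa [Φ, B] using this
  · have := congrFun hx 2
    unfold Cfsg.Agent.S0795.pf
    simpa [Φ, B] using this
  · have := congrFun hx 3
    unfold Cfsg.Agent.S0795.pf
    simpa [Φ, B] using this

/-- FLD core : every Siegel element commutes with the field `K` it normalises -/
theorem o9fld_siegel_comm (hn : 7 ≤ n) (Q : QuadraticForm F (Fin n → F)) {d : ℕ}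
    (K : Subalgebra F (Matrix (Fin n) (Fin n) F)) (hK : IsFieldSubalgebra d K)
    (t : GL (Fin n) F) (ht : t ∈ subalgebraNormalizer K) (u v : Fin n → F) (c : F)
    (hsg : Cfsg.Agent.Lib.Helper28.OMax.IsSg (Cfsg.Agent.S0795.pf Q) t u v c)
    (k : Matrix (Fin n) (Fin n) F) (hk : k ∈ K) :
    k * (t : Matrix (Fin n) (Fin n) F) = (t : Matrix (Fin n) (Fin n) F) * k := by
  classical
  set T : Matrix (Fin n) (Fin n) F := (t : Matrix (Fin n) (Fin n) F) with hT
  set Ti : Matrix (Fin n) (Fin n) F := ((t⁻¹ : GL (Fin n) F) : Matrix (Fin n) (Fin n) F) with hTi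
  have hinv : Ti * T = 1 := by
    rw [hT, hTi, ← Units.val_mul, inv_mul_cancel, Units.val_one]
  have hmem : T * k * Ti ∈ K := (ht k).1 hk
  set δ : Matrix (Fin n) (Fin n) F := T * k * Ti - k with hδ
  have hδK : δ ∈ K := K.sub_mem hmem hk
  have hδt : δ * T = T * k - k * T := by
    rw [hδ, sub_mul, mul_assoc, hinv, mul_one]
  by_contra hne
  have hδ0 : δ ≠ 0 := by
    intro h0
    apply hne
    have : T * k - k * T = 0 := by rw [← hδt, h0, zero_mul]
    exact (sub_eq_zero.mp this).symm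
  obtain ⟨y, hyK, hy⟩ := hK.inv δ hδK hδ0
  have hyδ : y * δ = 1 := by rw [hK.comm y hyK δ hδK]; exact hy
  obtain ⟨x, hx0, h1, h2, h3, h4⟩ := o9fld_exists_vec hn Q u v k
  have hTx : T *ᵥ x = x := by
    rw [hT, hsg x]
    unfold Cfsg.Agent.Lib.Helper28.OMax.Tv
    rw [h1, h2]
    simp
  have hTkx : T *ᵥ (k *ᵥ x) = k *ᵥ x := by
    rw [hT, hsg (k *ᵥ x)]
    unfold Cfsg.Agent.Lib.Helper28.OMax.Tv
    rw [h3, h4]
    simp
  have hzero : (δ * T) *ᵥ x = 0 := by
    rw [hδt, Matrix.sub_mulVec, ← Matrix.mulVec_mulVec, ← Matrix.mulVec_mulVec, hTkx, hTx, sub_self]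
  have hx' : x = 0 := by
    have h5 : (y * (δ * T)) *ᵥ x = 0 := by
      rw [← Matrix.mulVec_mulVec, hzero, Matrix.mulVec_zero]
    rw [← mul_assoc, hyδ, one_mul, hTx] at h5
    exact h5
  exact hx0 hx'

/-- FLD, core : `Ω` normalises no extension field, given the statement of CENT -/
theorem o9fld_core (hn : 7 ≤ n) (Q : QuadraticForm F (Fin n → F))
    (hQ : (QuadraticMap.polarBilin Q).Nondegenerate) {d : ℕ} (hd : 2 ≤ d)
    (K : Subalgebra F (Matrix (Fin n) (Fin n) F)) (hK : IsFieldSubalgebra d K)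
    (hcent : ∀ k : Matrix (Fin n) (Fin n) F,
      (∀ g ∈ omegaGL (⇑Q), k * (g : Matrix (Fin n) (Fin n) F) = (g : Matrix (Fin n) (Fin n) F) * k) →
        ∃ c : F, k = c • (1 : Matrix (Fin n) (Fin n) F)) :
    ¬ omegaGL (⇑Q) ≤ subalgebraNormalizer K := by
  classical
  intro hle
  have sg := Cfsg.Agent.Lib.Helper28.OGenQ.sgGroupQ_quad hn Q hQ
  have hKbot : K ≤ ⊥ := by
    intro k hk
    -- the centraliser of `k` in `GL`
    let M : Subgroup (GL (Fin n) F) :=
      { carrier := {g | k * (g : Matrix (Fin n) (Fin n) F) = (g : Matrix (Fin n) (Fin n) F) * k}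
        mul_mem' := by
          intro a b ha hb
          show k * ((a * b : GL (Fin n) F) : Matrix (Fin n) (Fin n) F) =
            ((a * b : GL (Fin n) F) : Matrix (Fin n) (Fin n) F) * k
          rw [Units.val_mul, ← mul_assoc, (show k * (a : Matrix (Fin n) (Fin n) F) = _ from ha), mul_assoc,
            (show k * (b : Matrix (Fin n) (Fin n) F) = _ from hb), mul_assoc]
        one_mem' := by
          show k * ((1 : GL (Fin n) F) : Matrix (Fin n) (Fin n) F) =
            ((1 : GL (Fin n) F) : Matrix (Fin n) (Fin n) F) * k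
          rw [Units.val_one, mul_one, one_mul]
        inv_mem' := by
          intro a ha
          show k * ((a⁻¹ : GL (Fin n) F) : Matrix (Fin n) (Fin n) F) =
            ((a⁻¹ : GL (Fin n) F) : Matrix (Fin n) (Fin n) F) * k
          have ha' : k * (a : Matrix (Fin n) (Fin n) F) = (a : Matrix (Fin n) (Fin n) F) * k := ha
          have h1 : ((a⁻¹ : GL (Fin n) F) : Matrix (Fin n) (Fin n) F) * (a : Matrix (Fin n) (Fin n) F) = 1 := by
            rw [← Units.val_mul, inv_mul_cancel, Units.val_one]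
          have h2 : (a : Matrix (Fin n) (Fin n) F) * ((a⁻¹ : GL (Fin n) F) : Matrix (Fin n) (Fin n) F) = 1 := by
            rw [← Units.val_mul, mul_inv_cancel, Units.val_one]
          calc k * ((a⁻¹ : GL (Fin n) F) : Matrix (Fin n) (Fin n) F)
              = ((a⁻¹ : GL (Fin n) F) : Matrix (Fin n) (Fin n) F) * (a : Matrix (Fin n) (Fin n) F) * k *
                  ((a⁻¹ : GL (Fin n) F) : Matrix (Fin n) (Fin n) F) := by rw [h1, one_mul]
            _ = ((a⁻¹ : GL (Fin n) F) : Matrix (Fin n) (Fin n) F) * ((a : Matrix (Fin n) (Fin n) F) * k) *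
                  ((a⁻¹ : GL (Fin n) F) : Matrix (Fin n) (Fin n) F) := by
                    simp only [mul_assoc]
            _ = ((a⁻¹ : GL (Fin n) F) : Matrix (Fin n) (Fin n) F) * (k * (a : Matrix (Fin n) (Fin n) F)) *
                  ((a⁻¹ : GL (Fin n) F) : Matrix (Fin n) (Fin n) F) := by rw [ha']
            _ = ((a⁻¹ : GL (Fin n) F) : Matrix (Fin n) (Fin n) F) * k := by
                  rw [mul_assoc, mul_assoc, h2, mul_one] }
    have hΩM : omegaGL (⇑Q) ≤ M := by
      apply sg.gen M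
      intro t u v c hu hv huv hsg
      have htΩ := sg.sg t u v c hu hv huv hsg
      exact o9fld_siegel_comm hn Q K hK t (hle htΩ) u v c hsg k hk
    obtain ⟨c, rfl⟩ := hcent k (fun g hg => hΩM hg)
    rw [Algebra.mem_bot]
    exact ⟨c, by simp [Matrix.algebraMap_eq_diagonal, Matrix.smul_one_eq_diagonal]⟩
  have hKeq : K = ⊥ := le_bot_iff.mp hKbot
  have : Nonempty (Fin n) := ⟨⟨0, by omega⟩⟩
  have h1 : Module.finrank F K = 1 := by
    rw [hKeq]
    exact Subalgebra.finrank_bot
  rw [hK.finrank_eq] at h1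
  omega

end Cfsg.Agent.Lib.Helper25.O9
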