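import Mathlib
import Cfsg.Prelude.Def_GeometricClasses
import Cfsg.Agent.Lib.Helper27.ASC.Defs
import Cfsg.Agent.Lib.Helper19.ASG.Defs
import Cfsg.Agent.Lib.Helper9.ASGD2T.Defs
import Cfsg.Agent.Lib.Helper9.ASGD2TF.Defs

set_option autoImplicit false
set_option linter.unusedVariables false
set_option linter.unusedSectionVars false

/-!
# Block D2TF, piece FT-SYMM : `ptMat_const_symm`
-/

namespace Cfsg.Agent.Lib.Helper19.ASG

open Cfsg Cfsg.Geo Cfsg.Agent.Lib.Helper27.ASC
open scoped MatrixGroups Matrix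

variable {n : ℕ} {F : Type*} [Field F]

/-- the entry of a constant pure tensor at `(cons r (const p), cons s (const q))` -/
theorem asgd2tfsymm_entry {k t : ℕ} (A : Matrix (Fin k) (Fin k) F) (r s p q : Fin k) :
    ptMat (fun _ : Fin (t + 1) => A) (Fin.cons r (fun _ => p)) (Fin.cons s (fun _ => q)) =
      A r s * A p q ^ t := by
  rw [ptMat_apply, Fin.prod_univ_succ]
  simp only [Fin.cons_zero, Fin.cons_succ, Finset.prod_const, Finset.card_univ, Fintype.card_fin]

/-- FT-SYMM : the tensor power of an invertible `A` is `ε`-symmetric only if `A` is `δ`-symmetric with `δ ^ t = ε`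
(entries: `∏ A (b i) (a i) = ε ∏ A (a i) (b i)`; fix `p q` with `A p q ≠ 0`, vary one coordinate) -/
theorem ptMat_const_symm {k t : ℕ} (hk : 0 < k) (ht : 0 < t) (A : Matrix (Fin k) (Fin k) F) (hA : IsUnit A.det)
    (ε : F) (h : (ptMat (fun _ : Fin t => A))ᵀ = ε • ptMat (fun _ : Fin t => A)) :
    ∃ δ : F, Aᵀ = δ • A ∧ δ ^ t = ε := by
  obtain ⟨t', rfl⟩ : ∃ t', t = t' + 1 := ⟨t - 1, by omega⟩
  -- a non-zero entry
  have hA0 : A ≠ 0 := by
    intro h0
    haveI : Nonempty (Fin k) := ⟨⟨0, hk⟩⟩
    rw [h0, Matrix.det_zero] at hA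
    exact not_isUnit_zero hA
  obtain ⟨p, q, hpq⟩ : ∃ p q, A p q ≠ 0 := by
    by_contra hcon
    push Not at hcon
    apply hA0
    ext i j
    exact hcon i j
  -- the entrywise relation
  have hent : ∀ r s p' q' : Fin k, A s r * A q' p' ^ t' = ε * (A r s * A p' q' ^ t') := by
    intro r s p' q'
    have h1 := congrFun (congrFun h (Fin.cons r (fun _ => p'))) (Fin.cons s (fun _ => q'))
    rw [Matrix.transpose_apply, Matrix.smul_apply, asgd2tfsymm_entry, asgd2tfsymm_entry, smul_eq_mul] at h1
    exact h1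
  set a := A p q with ha
  set b := A q p with hb
  have hab : b * b ^ t' = ε * (a * a ^ t') := hent p q p q
  have hba : a * a ^ t' = ε * (b * b ^ t') := hent q p q p
  have hat : a ^ t' ≠ 0 := pow_ne_zero _ hpq
  have hb0 : b ≠ 0 := by
    intro h0
    rw [h0, zero_mul, mul_zero] at hba
    exact (mul_ne_zero hpq hat) hba
  have hbt : b ^ t' ≠ 0 := pow_ne_zero _ hb0
  refine ⟨b / a, ?_, ?_⟩
  · ext r s
    rw [Matrix.transpose_apply, Matrix.smul_apply, smul_eq_mul]
    have h1 : A s r * b ^ t' = ε * (A r s * a ^ t') := hent r s p q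
    have h2 : a * A s r * b ^ t' = b * A r s * b ^ t' := by
      calc a * A s r * b ^ t' = a * (A s r * b ^ t') := by ring
        _ = a * (ε * (A r s * a ^ t')) := by rw [h1]
        _ = A r s * (ε * (a * a ^ t')) := by ring
        _ = A r s * (b * b ^ t') := by rw [hab]
        _ = b * A r s * b ^ t' := by ring
    have h3 : a * A s r = b * A r s := mul_right_cancel₀ hbt h2
    field_simp
    linear_combination h3
  · rw [div_pow, pow_succ, pow_succ, div_eq_iff (mul_ne_zero hat hpq)]
    linear_combination hab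

end Cfsg.Agent.Lib.Helper19.ASG
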