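import Mathlib
import Cfsg.Prelude.Def_GeometricClasses
import Cfsg.Agent.Lib.Helper27.ASC.Defs
import Cfsg.Agent.Lib.helper23.ASCO.Defs
import Cfsg.Agent.Lib.Helper19.ASG.Defs
import Cfsg.Agent.Lib.Helper1.ASGCLIF3
import Cfsg.Agent.Lib.Helper25.ASO.Defs
import Cfsg.Agent.Lib.helper23.ASE.Defs
import Cfsg.Agent.Lib.helper7.EM12.Defs

set_option autoImplicit false
set_option linter.unusedVariables false
set_option linter.unusedSectionVars false

/-!
# Project EM12, piece ISOPLUS (helper13): the type of a subspace is an isometry invariant (verbatim vs `helper7/EM12/Skel`).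
-/

namespace Cfsg.Agent.Lib.helper7.EM12

open Cfsg Cfsg.Geo Cfsg.Agent.Lib.Helper27.ASC Cfsg.Agent.Lib.helper23.ASCO Cfsg.Agent.Lib.Helper19.ASG
  Cfsg.Agent.Lib.Helper25.ASO Cfsg.Agent.Lib.helper23.ASE
open scoped MatrixGroups Matrix Kronecker

variable {n : ℕ} {F : Type*} [Field F] [Fintype F]

/-- ISOPLUS : the type is an isometry invariant. -/
theorem plus_of_isometric (Q : (Fin n → F) → F) (W W' : Submodule F (Fin n → F)) (h : AreIsometricFor Q W W')
    (hp : IsPlusTypeOn Q W) : IsPlusTypeOn Q W' := by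
  obtain ⟨φ, hφ⟩ := h
  obtain ⟨U, hUW, hU, hdim⟩ := hp
  refine ⟨((U.comap W.subtype).map (φ : W →ₗ[F] W')).map W'.subtype, Submodule.map_subtype_le _ _, ?_, ?_⟩
  · rintro _ ⟨_, ⟨w, hw, rfl⟩, rfl⟩
    change Q ((φ w : W') : Fin n → F) = 0
    rw [hφ w]
    exact hU _ hw
  · have h1 : Module.finrank F (((U.comap W.subtype).map (φ : W →ₗ[F] W')).map W'.subtype) =
        Module.finrank F ((U.comap W.subtype).map (φ : W →ₗ[F] W')) :=
      (Submodule.equivMapOfInjective _ W'.injective_subtype _).finrank_eq.symm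
    have h2 : Module.finrank F ((U.comap W.subtype).map (φ : W →ₗ[F] W')) =
        Module.finrank F (U.comap W.subtype) :=
      (Submodule.equivMapOfInjective _ φ.injective _).finrank_eq.symm
    have h3 : Module.finrank F (U.comap W.subtype) = Module.finrank F U :=
      (Submodule.comapSubtypeEquivOfLe hUW).finrank_eq
    rw [h1, h2, h3, hdim, φ.finrank_eq]

end Cfsg.Agent.Lib.helper7.EM12
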