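import Mathlib
import Cfsg.Agent.Lib.Helper11.PM3.Defs

set_option autoImplicit false

namespace Cfsg.Agent.Lib.Helper11.PM3

open Equiv MulAction
open scoped Pointwise

variable {α : Type*} [Fintype α] [DecidableEq α]

theorem l4_smul_def (S : Subgroup (alternatingGroup α)) (g : ↥S) (x : α) :
    g • x = ((g : alternatingGroup α) : Perm α) x := rfl

theorem l4_core (S : Subgroup (alternatingGroup α)) (hS : IsPGroup 3 S) (x : α)
    (hx : ∃ g ∈ S, (g : Perm α) x ≠ x) :
    ∃ z : ↥S, (∀ y ∈ MulAction.orbit ↥S x, z • y ≠ y) ∧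
      (∀ y ∈ MulAction.orbit ↥S x, z • z • z • y = y) ∧
      (∀ h : ↥S, ∀ y ∈ MulAction.orbit ↥S x, z • h • y = h • z • y) := by
  classical
  have : Fact (Nat.Prime 3) := ⟨Nat.prime_three⟩
  let ρ : ↥S →* Perm ↥(MulAction.orbit ↥S x) := MulAction.toPermHom ↥S ↥(MulAction.orbit ↥S x)
  have hρ : ∀ (g : ↥S) (y : ↥(MulAction.orbit ↥S x)), ((ρ g) y : α) = g • (y : α) := fun g y => rfl
  have hP : IsPGroup 3 ↥ρ.range := hS.of_surjective ρ.rangeRestrict ρ.rangeRestrict_surjective
  have : Nontrivial ↥ρ.range := by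
    obtain ⟨g, hg, hgx⟩ := hx
    refine ⟨⟨⟨ρ ⟨g, hg⟩, ⟨_, rfl⟩⟩, 1, ?_⟩⟩
    intro h
    apply hgx
    have h1 : ρ ⟨g, hg⟩ = 1 := congrArg Subtype.val h
    have h2 := hρ ⟨g, hg⟩ ⟨x, MulAction.mem_orbit_self x⟩
    rw [h1] at h2
    exact h2.symm
  have : Nontrivial ↥(Subgroup.center ↥ρ.range) := hP.center_nontrivial
  have hC : IsPGroup 3 ↥(Subgroup.center ↥ρ.range) := hP.to_subgroup _
  obtain ⟨n, hn, hcard⟩ := hC.nontrivial_iff_card.mp inferInstance
  have hdvd : 3 ∣ Nat.card ↥(Subgroup.center ↥ρ.range) := by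
    rw [hcard]; exact dvd_pow_self 3 hn.ne'
  obtain ⟨c, hc⟩ := exists_prime_orderOf_dvd_card' 3 hdvd
  obtain ⟨z, hz⟩ := c.1.2
  -- commutation
  have hcomm : ∀ (h : ↥S) (y : ↥(MulAction.orbit ↥S x)), ρ z (ρ h y) = ρ h (ρ z y) := by
    intro h y
    have h1 := (Subgroup.mem_center_iff.mp c.2) ⟨ρ h, ⟨h, rfl⟩⟩
    have h2 : ρ h * ρ z = ρ z * ρ h := by
      have := congrArg Subtype.val h1
      simpa [hz] using this
    have h3 := congrArg (fun e : Perm ↥(MulAction.orbit ↥S x) => e y) h2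
    simpa [Perm.mul_apply] using h3.symm
  have hcube : ∀ (y : ↥(MulAction.orbit ↥S x)), ρ z (ρ z (ρ z y)) = y := by
    intro y
    have h1 : c ^ 3 = 1 := by rw [← hc]; exact pow_orderOf_eq_one c
    have h2 : (ρ z) ^ 3 = 1 := by
      have := congrArg (fun e : ↥(Subgroup.center ↥ρ.range) => ((e : ↥ρ.range) : Perm ↥(MulAction.orbit ↥S x))) h1
      simpa [hz] using this
    have h3 := congrArg (fun e : Perm ↥(MulAction.orbit ↥S x) => e y) h2
    simpa [pow_succ, Perm.mul_apply] using h3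
  have hne : ρ z ≠ 1 := by
    intro h1
    have : c = 1 := by
      apply Subtype.ext; apply Subtype.ext
      rw [← hz, h1]; rfl
    rw [this, orderOf_one] at hc
    omega
  have hfree : ∀ (y : ↥(MulAction.orbit ↥S x)), ρ z y ≠ y := by
    intro y hy
    apply hne
    ext y'
    obtain ⟨h, rfl⟩ := MulAction.exists_smul_eq ↥S y y'
    have := hcomm h y
    rw [hy] at this
    simp only [Perm.coe_one, id_eq]
    exact congrArg Subtype.val this
  refine ⟨z, ?_, ?_, ?_⟩
  · intro y hy h1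
    exact hfree ⟨y, hy⟩ (Subtype.ext h1)
  · intro y hy
    exact congrArg Subtype.val (hcube ⟨y, hy⟩)
  · intro h y hy
    exact congrArg Subtype.val (hcomm h ⟨y, hy⟩)

/-- the chosen central element of order 3 attached to an orbit (as a set) -/
noncomputable def l4_zOf (S : Subgroup (alternatingGroup α)) (hS : IsPGroup 3 S)
    (hfix : NoFixedPoint S) (O : Set α) : ↥S := by
  classical
  exact if h : ∃ x : α, MulAction.orbit ↥S x = O then
    Classical.choose (l4_core S hS h.choose (hfix h.choose)) else 1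

theorem l4_zOf_spec (S : Subgroup (alternatingGroup α)) (hS : IsPGroup 3 S)
    (hfix : NoFixedPoint S) (x : α) :
    (∀ y ∈ MulAction.orbit ↥S x, l4_zOf S hS hfix (MulAction.orbit ↥S x) • y ≠ y) ∧
      (∀ y ∈ MulAction.orbit ↥S x,
        l4_zOf S hS hfix (MulAction.orbit ↥S x) • l4_zOf S hS hfix (MulAction.orbit ↥S x) •
          l4_zOf S hS hfix (MulAction.orbit ↥S x) • y = y) ∧
      (∀ h : ↥S, ∀ y ∈ MulAction.orbit ↥S x,
        l4_zOf S hS hfix (MulAction.orbit ↥S x) • h • y =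
          h • l4_zOf S hS hfix (MulAction.orbit ↥S x) • y) := by
  classical
  have hex : ∃ x' : α, MulAction.orbit ↥S x' = MulAction.orbit ↥S x := ⟨x, rfl⟩
  have hz : l4_zOf S hS hfix (MulAction.orbit ↥S x) =
      Classical.choose (l4_core S hS hex.choose (hfix hex.choose)) := by
    unfold l4_zOf
    rw [dif_pos hex]
  have hspec := Classical.choose_spec (l4_core S hS hex.choose (hfix hex.choose))
  rw [← hz, hex.choose_spec] at hspec
  exact hspec

/-- the fixed-point-free map of order 3 commuting with `S` -/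
noncomputable def l4_t (S : Subgroup (alternatingGroup α)) (hS : IsPGroup 3 S)
    (hfix : NoFixedPoint S) (a : α) : α :=
  l4_zOf S hS hfix (MulAction.orbit ↥S a) • a

theorem l4_t_ne (S : Subgroup (alternatingGroup α)) (hS : IsPGroup 3 S)
    (hfix : NoFixedPoint S) (a : α) : l4_t S hS hfix a ≠ a :=
  (l4_zOf_spec S hS hfix a).1 a (MulAction.mem_orbit_self a)

theorem l4_t_smul (S : Subgroup (alternatingGroup α)) (hS : IsPGroup 3 S)
    (hfix : NoFixedPoint S) (h : ↥S) (a : α) :
    l4_t S hS hfix (h • a) = h • l4_t S hS hfix a := by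
  unfold l4_t
  rw [MulAction.orbit_smul]
  exact (l4_zOf_spec S hS hfix a).2.2 h a (MulAction.mem_orbit_self a)

theorem l4_t_t (S : Subgroup (alternatingGroup α)) (hS : IsPGroup 3 S)
    (hfix : NoFixedPoint S) (a : α) :
    l4_t S hS hfix (l4_t S hS hfix a) =
      l4_zOf S hS hfix (MulAction.orbit ↥S a) • l4_zOf S hS hfix (MulAction.orbit ↥S a) • a := by
  have h1 := l4_t_smul S hS hfix (l4_zOf S hS hfix (MulAction.orbit ↥S a)) a
  show l4_t S hS hfix (l4_zOf S hS hfix (MulAction.orbit ↥S a) • a) = _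
  rw [h1]
  rfl

theorem l4_t_cube (S : Subgroup (alternatingGroup α)) (hS : IsPGroup 3 S)
    (hfix : NoFixedPoint S) (a : α) :
    l4_t S hS hfix (l4_t S hS hfix (l4_t S hS hfix a)) = a := by
  have h1 := l4_t_smul S hS hfix (l4_zOf S hS hfix (MulAction.orbit ↥S a))
  have h2 := (l4_zOf_spec S hS hfix a).2.1 a (MulAction.mem_orbit_self a)
  have e1 := l4_t_t S hS hfix a
  rw [e1, h1, h1]
  exact h2

theorem exists_three_block_setoid (S : Subgroup (alternatingGroup α)) (hS : IsPGroup 3 S)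
    (hfix : NoFixedPoint S) :
    ∃ r : Setoid α, ClassCard r 3 ∧ S ≤ setoidStab r ∧
      ∀ x y : α, r x y → ∃ g ∈ S, (g : Perm α) x = y := by
  classical
  set t : α → α := l4_t S hS hfix with ht
  have t3 : ∀ a, t (t (t a)) = a := l4_t_cube S hS hfix
  have tne : ∀ a, t a ≠ a := l4_t_ne S hS hfix
  have tsm : ∀ (h : ↥S) (a : α), t (h • a) = h • t a := l4_t_smul S hS hfix
  let r : Setoid α :=
    { r := fun a b => b = a ∨ b = t a ∨ b = t (t a)
      iseqv := by
        refine ⟨fun a => Or.inl rfl, ?_, ?_⟩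
        · intro a b hab
          rcases hab with rfl | rfl | rfl
          · exact Or.inl rfl
          · exact Or.inr (Or.inr (t3 a).symm)
          · exact Or.inr (Or.inl (t3 a).symm)
        · intro a b c hab hbc
          rcases hab with rfl | rfl | rfl <;> rcases hbc with rfl | rfl | rfl <;> simp [t3] }
  have hr : ∀ a b, r a b ↔ (b = a ∨ b = t a ∨ b = t (t a)) := fun a b => Iff.rfl
  refine ⟨r, ?_, ?_, ?_⟩
  · intro a
    rw [Set.ncard_eq_three]
    refine ⟨a, t a, t (t a), (tne a).symm, ?_, (tne (t a)).symm, ?_⟩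
    · intro h
      have := t3 a
      rw [← h] at this
      exact tne a this
    · ext b
      simp only [Set.mem_ofPred_eq, Set.mem_insert_iff, Set.mem_singleton_iff]
      exact hr a b
  · apply le_setoidStab_of_forall
    intro g hg a b hab
    have key : ∀ c : α, t ((g : Perm α) c) = (g : Perm α) (t c) := fun c => tsm ⟨g, hg⟩ c
    rw [hr] at hab ⊢
    rcases hab with rfl | rfl | rfl
    · exact Or.inl rfl
    · exact Or.inr (Or.inl (key a).symm)
    · refine Or.inr (Or.inr ?_)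
      rw [key, key]
  · intro a b hab
    rw [hr] at hab
    rcases hab with rfl | rfl | rfl
    · exact ⟨1, S.one_mem, rfl⟩
    · exact ⟨(l4_zOf S hS hfix (MulAction.orbit ↥S a) : alternatingGroup α), SetLike.coe_mem _, rfl⟩
    · refine ⟨((l4_zOf S hS hfix (MulAction.orbit ↥S a) * l4_zOf S hS hfix (MulAction.orbit ↥S a) : ↥S) :
          alternatingGroup α), SetLike.coe_mem _, ?_⟩
      rw [ht, l4_t_t]
      rfl

end Cfsg.Agent.Lib.Helper11.PM3
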