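import Mathlib
import Cfsg.Agent.Lib.Helper11.PM3.Defs

/-!
Project PM3 (S2930), piece L6: the block swap.
-/

set_option autoImplicit false

namespace Cfsg.Agent.Lib.Helper11.PM3

open Equiv MulAction
open scoped Pointwise

variable {α : Type*} [Fintype α] [DecidableEq α]

/-- an involution preserving a setoid in one direction preserves it in both -/
theorem l6_mem_of_invol (r : Setoid α) (g : alternatingGroup α)
    (hinv : ∀ a : α, (g : Perm α) ((g : Perm α) a) = a)
    (h : ∀ a b : α, r a b → r ((g : Perm α) a) ((g : Perm α) b)) : g ∈ setoidStab r := by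
  intro a b
  refine ⟨h a b, fun hab => ?_⟩
  have := h _ _ hab
  rwa [hinv, hinv] at this

/-- PIECE L6.  The block swap: for three pairwise unrelated points there is an even permutation
preserving `r` which moves the class of `x` to the class of `y` and fixes the class of `z`. -/
theorem exists_block_swap (r : Setoid α) (hr : ClassCard r 3) (x y z : α)
    (hxy : ¬ r x y) (hxz : ¬ r x z) (hyz : ¬ r y z) :
    ∃ g ∈ setoidStab r, r ((g : Perm α) x) y ∧ r ((g : Perm α) z) z := by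
  obtain ⟨x1, x2, x3, hx12, hx13, hx23, hX⟩ := Set.ncard_eq_three.mp (hr x)
  obtain ⟨y1, y2, y3, hy12, hy13, hy23, hY⟩ := Set.ncard_eq_three.mp (hr y)
  obtain ⟨z1, z2, z3, hz12, hz13, hz23, hZ⟩ := Set.ncard_eq_three.mp (hr z)
  have mX : ∀ a, r x a ↔ (a = x1 ∨ a = x2 ∨ a = x3) := by
    intro a
    have : a ∈ {b : α | r x b} ↔ a ∈ ({x1, x2, x3} : Set α) := by rw [hX]
    simpa using this
  have mY : ∀ a, r y a ↔ (a = y1 ∨ a = y2 ∨ a = y3) := by
    intro a
    have : a ∈ {b : α | r y b} ↔ a ∈ ({y1, y2, y3} : Set α) := by rw [hY]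
    simpa using this
  have mZ : ∀ a, r z a ↔ (a = z1 ∨ a = z2 ∨ a = z3) := by
    intro a
    have : a ∈ {b : α | r z b} ↔ a ∈ ({z1, z2, z3} : Set α) := by rw [hZ]
    simpa using this
  have rx1 : r x x1 := (mX x1).mpr (Or.inl rfl)
  have rx2 : r x x2 := (mX x2).mpr (Or.inr (Or.inl rfl))
  have rx3 : r x x3 := (mX x3).mpr (Or.inr (Or.inr rfl))
  have ry1 : r y y1 := (mY y1).mpr (Or.inl rfl)
  have ry2 : r y y2 := (mY y2).mpr (Or.inr (Or.inl rfl))
  have ry3 : r y y3 := (mY y3).mpr (Or.inr (Or.inr rfl))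
  have rz1 : r z z1 := (mZ z1).mpr (Or.inl rfl)
  have rz2 : r z z2 := (mZ z2).mpr (Or.inr (Or.inl rfl))
  have rz3 : r z z3 := (mZ z3).mpr (Or.inr (Or.inr rfl))
  -- cross inequalities
  have nXY : ∀ a b, r x a → r y b → a ≠ b := by
    rintro a b ha hb rfl
    exact hxy (r.trans ha (r.symm hb))
  have nXZ : ∀ a b, r x a → r z b → a ≠ b := by
    rintro a b ha hb rfl
    exact hxz (r.trans ha (r.symm hb))
  have nYZ : ∀ a b, r y a → r z b → a ≠ b := by
    rintro a b ha hb rfl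
    exact hyz (r.trans ha (r.symm hb))
  set σ : Perm α := swap x1 y1 * swap x2 y2 * swap x3 y3 * swap z1 z2 with hσ
  have hsign : Perm.sign σ = 1 := by
    rw [hσ, map_mul, map_mul, map_mul, Perm.sign_swap (nXY _ _ rx1 ry1),
      Perm.sign_swap (nXY _ _ rx2 ry2), Perm.sign_swap (nXY _ _ rx3 ry3), Perm.sign_swap hz12]
    decide
  -- values of σ
  have ev : ∀ a, σ a = swap x1 y1 (swap x2 y2 (swap x3 y3 (swap z1 z2 a))) := fun a => rfl
  have sx1 : σ x1 = y1 := by
    rw [ev, swap_apply_of_ne_of_ne (nXZ _ _ rx1 rz1) (nXZ _ _ rx1 rz2),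
      swap_apply_of_ne_of_ne hx13 (nXY _ _ rx1 ry3), swap_apply_of_ne_of_ne hx12 (nXY _ _ rx1 ry2),
      swap_apply_left]
  have sx2 : σ x2 = y2 := by
    rw [ev, swap_apply_of_ne_of_ne (nXZ _ _ rx2 rz1) (nXZ _ _ rx2 rz2),
      swap_apply_of_ne_of_ne hx23 (nXY _ _ rx2 ry3), swap_apply_left,
      swap_apply_of_ne_of_ne (nXY _ _ rx1 ry2).symm hy12.symm]
  have sx3 : σ x3 = y3 := by
    rw [ev, swap_apply_of_ne_of_ne (nXZ _ _ rx3 rz1) (nXZ _ _ rx3 rz2), swap_apply_left,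
      swap_apply_of_ne_of_ne (nXY _ _ rx2 ry3).symm hy23.symm,
      swap_apply_of_ne_of_ne (nXY _ _ rx1 ry3).symm hy13.symm]
  have sy1 : σ y1 = x1 := by
    rw [ev, swap_apply_of_ne_of_ne (nYZ _ _ ry1 rz1) (nYZ _ _ ry1 rz2),
      swap_apply_of_ne_of_ne (nXY _ _ rx3 ry1).symm hy13,
      swap_apply_of_ne_of_ne (nXY _ _ rx2 ry1).symm hy12, swap_apply_right]
  have sy2 : σ y2 = x2 := by
    rw [ev, swap_apply_of_ne_of_ne (nYZ _ _ ry2 rz1) (nYZ _ _ ry2 rz2),
      swap_apply_of_ne_of_ne (nXY _ _ rx3 ry2).symm hy23, swap_apply_right,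
      swap_apply_of_ne_of_ne hx12.symm (nXY _ _ rx2 ry1)]
  have sy3 : σ y3 = x3 := by
    rw [ev, swap_apply_of_ne_of_ne (nYZ _ _ ry3 rz1) (nYZ _ _ ry3 rz2), swap_apply_right,
      swap_apply_of_ne_of_ne hx23.symm (nXY _ _ rx3 ry2),
      swap_apply_of_ne_of_ne hx13.symm (nXY _ _ rx3 ry1)]
  have sz1 : σ z1 = z2 := by
    rw [ev, swap_apply_left, swap_apply_of_ne_of_ne (nXZ _ _ rx3 rz2).symm (nYZ _ _ ry3 rz2).symm,
      swap_apply_of_ne_of_ne (nXZ _ _ rx2 rz2).symm (nYZ _ _ ry2 rz2).symm,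
      swap_apply_of_ne_of_ne (nXZ _ _ rx1 rz2).symm (nYZ _ _ ry1 rz2).symm]
  have sz2 : σ z2 = z1 := by
    rw [ev, swap_apply_right, swap_apply_of_ne_of_ne (nXZ _ _ rx3 rz1).symm (nYZ _ _ ry3 rz1).symm,
      swap_apply_of_ne_of_ne (nXZ _ _ rx2 rz1).symm (nYZ _ _ ry2 rz1).symm,
      swap_apply_of_ne_of_ne (nXZ _ _ rx1 rz1).symm (nYZ _ _ ry1 rz1).symm]
  have sfix : ∀ a, a ≠ x1 → a ≠ x2 → a ≠ x3 → a ≠ y1 → a ≠ y2 → a ≠ y3 → a ≠ z1 → a ≠ z2 →
      σ a = a := by
    intro a h1 h2 h3 h4 h5 h6 h7 h8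
    rw [ev, swap_apply_of_ne_of_ne h7 h8, swap_apply_of_ne_of_ne h3 h6,
      swap_apply_of_ne_of_ne h2 h5, swap_apply_of_ne_of_ne h1 h4]
  have sz3 : σ z3 = z3 :=
    sfix z3 (nXZ _ _ rx1 rz3).symm (nXZ _ _ rx2 rz3).symm (nXZ _ _ rx3 rz3).symm
      (nYZ _ _ ry1 rz3).symm (nYZ _ _ ry2 rz3).symm (nYZ _ _ ry3 rz3).symm hz13.symm hz23.symm
  -- class behaviour
  have cX : ∀ a, r x a → r y (σ a) := by
    intro a ha
    rcases (mX a).mp ha with rfl | rfl | rfl
    · rw [sx1]; exact ry1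
    · rw [sx2]; exact ry2
    · rw [sx3]; exact ry3
  have cY : ∀ a, r y a → r x (σ a) := by
    intro a ha
    rcases (mY a).mp ha with rfl | rfl | rfl
    · rw [sy1]; exact rx1
    · rw [sy2]; exact rx2
    · rw [sy3]; exact rx3
  have cZ : ∀ a, r z a → r z (σ a) := by
    intro a ha
    rcases (mZ a).mp ha with rfl | rfl | rfl
    · rw [sz1]; exact rz2
    · rw [sz2]; exact rz1
    · rw [sz3]; exact rz3
  have cO : ∀ a, ¬ r x a → ¬ r y a → ¬ r z a → σ a = a := by
    intro a hxa hya hza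
    refine sfix a ?_ ?_ ?_ ?_ ?_ ?_ ?_ ?_
    · rintro rfl; exact hxa rx1
    · rintro rfl; exact hxa rx2
    · rintro rfl; exact hxa rx3
    · rintro rfl; exact hya ry1
    · rintro rfl; exact hya ry2
    · rintro rfl; exact hya ry3
    · rintro rfl; exact hza rz1
    · rintro rfl; exact hza rz2
  have hinv : ∀ a, σ (σ a) = a := by
    intro a
    by_cases hxa : r x a
    · rcases (mX a).mp hxa with rfl | rfl | rfl
      · rw [sx1, sy1]
      · rw [sx2, sy2]
      · rw [sx3, sy3]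
    · by_cases hya : r y a
      · rcases (mY a).mp hya with rfl | rfl | rfl
        · rw [sy1, sx1]
        · rw [sy2, sx2]
        · rw [sy3, sx3]
      · by_cases hza : r z a
        · rcases (mZ a).mp hza with rfl | rfl | rfl
          · rw [sz1, sz2]
          · rw [sz2, sz1]
          · rw [sz3, sz3]
        · rw [cO a hxa hya hza, cO a hxa hya hza]
  have hpres : ∀ a b, r a b → r (σ a) (σ b) := by
    intro a b hab
    by_cases hxa : r x a
    · have hxb : r x b := r.trans hxa hab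
      exact r.trans (r.symm (cX a hxa)) (cX b hxb)
    · have hxb : ¬ r x b := fun h => hxa (r.trans h (r.symm hab))
      by_cases hya : r y a
      · have hyb : r y b := r.trans hya hab
        exact r.trans (r.symm (cY a hya)) (cY b hyb)
      · have hyb : ¬ r y b := fun h => hya (r.trans h (r.symm hab))
        by_cases hza : r z a
        · have hzb : r z b := r.trans hza hab
          exact r.trans (r.symm (cZ a hza)) (cZ b hzb)
        · have hzb : ¬ r z b := fun h => hza (r.trans h (r.symm hab))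
          rw [cO a hxa hya hza, cO b hxb hyb hzb]
          exact hab
  refine ⟨⟨σ, Perm.mem_alternatingGroup.mpr hsign⟩, ?_, ?_, ?_⟩
  · exact l6_mem_of_invol r _ hinv hpres
  · exact r.symm (cX x (r.refl x))
  · exact r.symm (cZ z (r.refl z))

end Cfsg.Agent.Lib.Helper11.PM3
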