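import Mathlib
import Cfsg.Agent.Lib.Helper11.PM3.Defs

/-!
Project PM3 (S2930), piece L7: the stabiliser of a nontrivial setoid is a proper subgroup.
-/

set_option autoImplicit false

namespace Cfsg.Agent.Lib.Helper11.PM3

open Equiv MulAction
open scoped Pointwise

variable {α : Type*} [Fintype α] [DecidableEq α]

/-- PIECE L7.  The stabiliser of a nontrivial setoid is a proper subgroup (`|α| ≥ 4`).
Witness: the 3-cycle `y ↦ z ↦ w ↦ y` with `w ∉ {x,y,z}`. -/
theorem setoidStab_ne_top (h4 : 4 ≤ Fintype.card α) (r : Setoid α) (x y z : α) (hxy : x ≠ y)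
    (h1 : r x y) (h2 : ¬ r x z) : setoidStab r ≠ ⊤ := by
  have hxz : x ≠ z := by
    rintro rfl
    exact h2 (r.refl x)
  have hyz : y ≠ z := by
    rintro rfl
    exact h2 h1
  obtain ⟨w, hw⟩ : ∃ w, w ∉ ({x, y, z} : Finset α) := by
    by_contra h
    push_neg at h
    have h3 : Fintype.card α ≤ ({x, y, z} : Finset α).card :=
      Finset.card_le_card (fun a _ => h a)
    have h5 : ({x, y, z} : Finset α).card ≤ 3 := Finset.card_le_three
    omega
  simp only [Finset.mem_insert, Finset.mem_singleton, not_or] at hw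
  obtain ⟨hwx, hwy, hwz⟩ := hw
  have h3c : Perm.IsThreeCycle (swap y w * swap y z) :=
    Perm.isThreeCycle_swap_mul_swap_same (Ne.symm hwy) hyz hwz
  intro htop
  have hmem : (⟨swap y w * swap y z, h3c.mem_alternatingGroup⟩ : alternatingGroup α) ∈ setoidStab r := by
    rw [htop]
    exact Subgroup.mem_top _
  have := (mem_setoidStab.mp hmem x y).mp h1
  have e1 : (swap y w * swap y z) x = x := by
    rw [Perm.mul_apply, swap_apply_of_ne_of_ne hxy hxz, swap_apply_of_ne_of_ne hxy (Ne.symm hwx)]
  have e2 : (swap y w * swap y z) y = z := by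
    rw [Perm.mul_apply, swap_apply_left, swap_apply_of_ne_of_ne (Ne.symm hyz) (Ne.symm hwz)]
  simp only [e1, e2] at this
  exact h2 this

end Cfsg.Agent.Lib.Helper11.PM3
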