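import Mathlib
import Cfsg.Agent.Lib.Helper11.S5956U.Defs

/-!
# Project S5956U (designer helper11), row FREE (`free_family`), with the two shared lemmas
`s5956ufree_top` / `s5956ufree_zero` used by the rows FREEKER and FREERDK.
-/

set_option autoImplicit false
set_option linter.unusedVariables false

namespace Cfsg.Agent.Lib.Helper11.S5956U

open Polynomial Module Cfsg.Agent.Lib.Helper13.S5955 Cfsg.Agent.Lib.helper14.JTa

variable {F : Type*} [Field F] {V : Type*} [AddCommGroup V] [Module F V]

/-- powers `≥ s` kill the `u i`. -/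
theorem s5956ufree_nil (M : Module.End F V) (s : ℕ) {t : ℕ} (u : Fin t → V)
    (hnil : ∀ i, (M ^ s) (u i) = 0) (k : ℕ) (hk : s ≤ k) (i : Fin t) : (M ^ k) (u i) = 0 := by
  have : k = (k - s) + s := by omega
  rw [this, pow_add, Module.End.mul_apply, hnil, map_zero]

/-- if the coefficients below level `a` vanish, `M^(s-1-a)` maps the combination to the combination of
the top images with the coefficients of level `a`. -/
theorem s5956ufree_top (M : Module.End F V) (s : ℕ) {t : ℕ} (u : Fin t → V)
    (hnil : ∀ i, (M ^ s) (u i) = 0) (g : Fin t × Fin s → F) (a : ℕ) (ha : a < s)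
    (hz : ∀ b : Fin s, (b : ℕ) < a → ∀ i, g (i, b) = 0) :
    (M ^ (s - 1 - a)) (∑ ia : Fin t × Fin s, g ia • (M ^ (ia.2 : ℕ)) (u ia.1)) =
      ∑ i : Fin t, g (i, ⟨a, ha⟩) • (M ^ (s - 1)) (u i) := by
  rw [map_sum, Fintype.sum_prod_type]
  apply Finset.sum_congr rfl
  intro i _
  rw [Finset.sum_eq_single (⟨a, ha⟩ : Fin s)]
  · rw [map_smul, ← Module.End.mul_apply, ← pow_add]
    have : s - 1 - a + a = s - 1 := by omega
    simp only [this]
  · intro b _ hb
    have hba : (b : ℕ) ≠ a := fun h => hb (Fin.ext h)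
    rcases lt_or_gt_of_ne hba with hlt | hgt
    · rw [hz b hlt i, zero_smul, map_zero]
    · have hge : s ≤ s - 1 - a + (b : ℕ) := by
        clear hb hz
        omega
      rw [map_smul, ← Module.End.mul_apply, ← pow_add,
        s5956ufree_nil M s u hnil _ hge i, smul_zero]
  · intro h
    exact absurd (Finset.mem_univ _) h

/-- if all powers `M^k`, `k ≥ j`, kill the combination, the coefficients of level `b` with `b + j < s`
vanish. -/
theorem s5956ufree_zero (M : Module.End F V) (s : ℕ) {t : ℕ} (u : Fin t → V)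
    (hnil : ∀ i, (M ^ s) (u i) = 0)
    (hli : LinearIndependent F (fun i => (M ^ (s - 1)) (u i)))
    (g : Fin t × Fin s → F) (j : ℕ)
    (hw : ∀ k, j ≤ k → (M ^ k) (∑ ia : Fin t × Fin s, g ia • (M ^ (ia.2 : ℕ)) (u ia.1)) = 0)
    (b : Fin s) (hb : (b : ℕ) + j < s) (i : Fin t) : g (i, b) = 0 := by
  have key : ∀ a : ℕ, ∀ b : Fin s, (b : ℕ) = a → (b : ℕ) + j < s → ∀ i, g (i, b) = 0 := by
    intro a
    induction a using Nat.strong_induction_on with
    | _ a ih =>
      intro b hb hbj i
      subst hb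
      have h1 := s5956ufree_top M s u hnil g b b.2
        (fun b' hb' i' => ih b' hb' b' rfl (by omega) i')
      rw [hw (s - 1 - b) (by omega)] at h1
      exact Fintype.linearIndependent_iff.mp hli (fun i => g (i, ⟨b, b.2⟩)) h1.symm i
  exact key b b rfl hb i

/-- FREE [M-L]: if `M^s` kills the `u i` and the top images `M^(s-1) (u i)` are independent, all `M^a (u i)`, `a < s`, are independent.
(Given `Σ c_{i,a} M^a u_i = 0`, show `c_{i,a} = 0` by induction on `a`: apply `M^(s-1-a)`.) -/
theorem free_family (M : Module.End F V) (s : ℕ) (hs : 1 ≤ s) {t : ℕ} (u : Fin t → V)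
    (hnil : ∀ i, (M ^ s) (u i) = 0)
    (hli : LinearIndependent F (fun i => (M ^ (s - 1)) (u i))) :
    LinearIndependent F (fun ia : Fin t × Fin s => (M ^ (ia.2 : ℕ)) (u ia.1)) := by
  rw [Fintype.linearIndependent_iff]
  intro g hg
  rintro ⟨i, b⟩
  exact s5956ufree_zero M s u hnil hli g 0 (fun k _ => by rw [hg, map_zero]) b (by omega) i

end Cfsg.Agent.Lib.Helper11.S5956U
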