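import Mathlib
import Cfsg.Agent.Lib.Helper13.S5956UFREE

/-!
# Project S5956U (designer helper11), row FREEKER (`free_ker`)
-/

set_option autoImplicit false
set_option linter.unusedVariables false

namespace Cfsg.Agent.Lib.Helper11.S5956U

open Polynomial Module Cfsg.Agent.Lib.Helper13.S5955 Cfsg.Agent.Lib.helper14.JTa

variable {F : Type*} [Field F] {V : Type*} [AddCommGroup V] [Module F V]

/-- FREEKER [M]: the fixed vectors of `cycU x s u` are the combinations of the top images.
(FREE: write `w = Σ c_{i,a} M^a u_i`; `M w = 0` and independence give `c_{i,a} = 0` for `a + 1 < s`.) -/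
theorem free_ker (x : Module.End F V) (s : ℕ) (hs : 1 ≤ s) {t : ℕ} (u : Fin t → V)
    (hnil : ∀ i, ((x - 1) ^ s) (u i) = 0)
    (hli : LinearIndependent F (fun i => ((x - 1) ^ (s - 1)) (u i)))
    (w : V) (hw : w ∈ cycU x s u) (hfix : (x - 1) w = 0) :
    ∃ c : Fin t → F, w = ∑ i, c i • ((x - 1) ^ (s - 1)) (u i) := by
  unfold cycU at hw
  obtain ⟨g, hg⟩ := (Submodule.mem_span_range_iff_exists_fun F).mp hw
  have hk : ∀ k, 1 ≤ k → ((x - 1) ^ k)
      (∑ ia : Fin t × Fin s, g ia • ((x - 1) ^ (ia.2 : ℕ)) (u ia.1)) = 0 := by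
    intro k hk
    rw [hg]
    have : k = (k - 1) + 1 := by omega
    rw [this, pow_succ, Module.End.mul_apply, hfix, map_zero]
  have hz : ∀ b : Fin s, (b : ℕ) < s - 1 → ∀ i, g (i, b) = 0 := fun b hb i =>
    s5956ufree_zero (x - 1) s u hnil hli g 1 hk b (by omega) i
  have h1 := s5956ufree_top (x - 1) s u hnil g (s - 1) (by omega) hz
  have h0 : s - 1 - (s - 1) = 0 := by omega
  rw [h0, pow_zero, Module.End.one_apply, hg] at h1
  exact ⟨fun i => g (i, ⟨s - 1, by omega⟩), h1⟩

end Cfsg.Agent.Lib.Helper11.S5956U
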