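import Mathlib
import Cfsg.Agent.Lib.Helper13.S5956UFREE

/-!
# Project S5956U (designer helper11), row FREERDK (`free_rdk`)
-/

set_option autoImplicit false
set_option linter.unusedVariables false

namespace Cfsg.Agent.Lib.Helper11.S5956U

open Polynomial Module Cfsg.Agent.Lib.Helper13.S5955 Cfsg.Agent.Lib.helper14.JTa

variable {F : Type*} [Field F] {V : Type*} [AddCommGroup V] [Module F V]

/-- the number of `a < s` with `s ≤ a + j`. -/
theorem s5956ufreerdk_card (s j : ℕ) :
    (Finset.univ.filter fun a : Fin s => s ≤ (a : ℕ) + j).card = min s j := by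
  rw [Finset.card_filter, Fin.sum_univ_eq_sum_range (fun a => if s ≤ a + j then 1 else 0) s,
    ← Finset.card_filter]
  have : (Finset.range s).filter (fun a => s ≤ a + j) = Finset.Ico (s - j) s := by
    ext a
    simp only [Finset.mem_filter, Finset.mem_range, Finset.mem_Ico]
    omega
  rw [this, Nat.card_Ico]
  omega

/-- the number of pairs `(i, a)` with `s ≤ a + j`. -/
theorem s5956ufreerdk_card2 (t s j : ℕ) :
    Fintype.card {ia : Fin t × Fin s // s ≤ (ia.2 : ℕ) + j} = t * min s j := by
  rw [Fintype.card_subtype]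
  have : (Finset.univ.filter fun ia : Fin t × Fin s => s ≤ (ia.2 : ℕ) + j) =
      (Finset.univ : Finset (Fin t)) ×ˢ (Finset.univ.filter fun a : Fin s => s ≤ (a : ℕ) + j) := by
    ext ia
    simp
  rw [this, Finset.card_product, s5956ufreerdk_card, Finset.card_univ, Fintype.card_fin]

/-- FREERDK [L]: kernel dimensions of `cycU x s u`: `t` Jordan blocks of size `s`. -/
theorem free_rdk (x : Module.End F V) (s : ℕ) (hs : 1 ≤ s) {t : ℕ} (u : Fin t → V)
    (hnil : ∀ i, ((x - 1) ^ s) (u i) = 0)
    (hli : LinearIndependent F (fun i => ((x - 1) ^ (s - 1)) (u i))) (j : ℕ) :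
    rdk x (cycU x s u) j = t * min s j := by
  have hfree := free_family (x - 1) s hs u hnil hli
  set f : Fin t × Fin s → V := fun ia => ((x - 1) ^ (ia.2 : ℕ)) (u ia.1) with hf
  have hsub : LinearIndependent F
      (fun ia : {ia : Fin t × Fin s // s ≤ (ia.2 : ℕ) + j} => f ia.1) :=
    hfree.comp Subtype.val Subtype.val_injective
  have hclaim : (LinearMap.ker ((x - 1) ^ j) ⊓ cycU x s u : Submodule F V) =
      Submodule.span F (Set.range
        (fun ia : {ia : Fin t × Fin s // s ≤ (ia.2 : ℕ) + j} => f ia.1)) := by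
    apply le_antisymm
    · rintro w ⟨hwk, hwc⟩
      have hwk' : ((x - 1) ^ j) w = 0 := hwk
      have hwc' : w ∈ Submodule.span F (Set.range f) := hwc
      obtain ⟨g, hg⟩ := (Submodule.mem_span_range_iff_exists_fun F).mp hwc'
      have hk : ∀ k, j ≤ k → ((x - 1) ^ k)
          (∑ ia : Fin t × Fin s, g ia • ((x - 1) ^ (ia.2 : ℕ)) (u ia.1)) = 0 := by
        intro k hk
        have h1 : (∑ ia : Fin t × Fin s, g ia • ((x - 1) ^ (ia.2 : ℕ)) (u ia.1)) = w := hg
        rw [h1]
        have : k = (k - j) + j := by omega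
        rw [this, pow_add, Module.End.mul_apply, hwk', map_zero]
      have hz : ∀ b : Fin s, (b : ℕ) + j < s → ∀ i, g (i, b) = 0 := fun b hb i =>
        s5956ufree_zero (x - 1) s u hnil hli g j hk b hb i
      rw [← hg]
      apply Submodule.sum_mem
      rintro ⟨i, b⟩ _
      by_cases h : s ≤ (b : ℕ) + j
      · exact Submodule.smul_mem _ _ (Submodule.subset_span ⟨⟨(i, b), h⟩, rfl⟩)
      · rw [hz b (by omega) i, zero_smul]
        exact Submodule.zero_mem _
    · rw [Submodule.span_le]
      rintro _ ⟨⟨⟨i, b⟩, h⟩, rfl⟩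
      refine ⟨?_, Submodule.subset_span ⟨(i, b), rfl⟩⟩
      have h' : s ≤ (b : ℕ) + j := h
      show ((x - 1) ^ j) (((x - 1) ^ (b : ℕ)) (u i)) = 0
      rw [← Module.End.mul_apply, ← pow_add]
      exact s5956ufree_nil (x - 1) s u hnil _ (by clear h; omega) i
  unfold rdk
  rw [hclaim, finrank_span_eq_card hsub, s5956ufreerdk_card2]

end Cfsg.Agent.Lib.Helper11.S5956U
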