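import Mathlib
import Cfsg.Prelude.Def_Classical
import Cfsg.Agent.Lib.Helper1.S8U.Defs
import Cfsg.Agent.Lib.Helper20.SO8B
import Cfsg.Agent.Lib.Helper27.SO8C1

set_option autoImplicit false

/-!
# Project S8U (S3590), row GOCH (helper13): `go_charpoly`, verbatim from `Helper1/S8U/Skel.lean.txt`.
The characteristic polynomial of an isometry of the minus-type form (characteristic 2) is self-reciprocal:
conjugate into the symplectic group by the rectangular matrix of `so8b_e` and use `charpoly_mul_comm_of_le`.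
-/

namespace Cfsg.Agent.Lib.Helper1.S8U

open Matrix Module Polynomial Cfsg.Agent.Lib.Helper16 Cfsg.Agent.Lib.Helper13.OTS Cfsg.Agent.Lib.Helper19.SO8
  Cfsg.Agent.Lib.helper14.OrthInv

/-- general `k`: the conjugate `P g P'` is symplectic and has the same characteristic polynomial -/
theorem s8ugoch_gen {F : Type*} [Field F] [CharP F 2] (k : ℕ) (a b : F) (ha : a ≠ 0)
    (g : GL ((Fin k ⊕ Fin k) ⊕ Fin 2) F)
    (hg : g ∈ Cfsg.isometryGroup F (Cfsg.quadFormMinus k F a b)) :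
    (g : Matrix ((Fin k ⊕ Fin k) ⊕ Fin 2) ((Fin k ⊕ Fin k) ⊕ Fin 2) F).charpoly.reverse =
      (g : Matrix ((Fin k ⊕ Fin k) ⊕ Fin 2) ((Fin k ⊕ Fin k) ⊕ Fin 2) F).charpoly := by
  classical
  let e := so8b_e (F := F) k a ha
  let P : Matrix (Fin (k + 1) ⊕ Fin (k + 1)) ((Fin k ⊕ Fin k) ⊕ Fin 2) F :=
    LinearMap.toMatrix' (e : ((Fin k ⊕ Fin k) ⊕ Fin 2 → F) →ₗ[F] (Fin (k + 1) ⊕ Fin (k + 1) → F))
  let P' : Matrix ((Fin k ⊕ Fin k) ⊕ Fin 2) (Fin (k + 1) ⊕ Fin (k + 1)) F :=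
    LinearMap.toMatrix'
      (e.symm : (Fin (k + 1) ⊕ Fin (k + 1) → F) →ₗ[F] ((Fin k ⊕ Fin k) ⊕ Fin 2 → F))
  have hP'P : P' * P = 1 := by
    show LinearMap.toMatrix' _ * LinearMap.toMatrix' _ = 1
    rw [← LinearMap.toMatrix'_comp, LinearEquiv.comp_coe, LinearEquiv.self_trans_symm,
      LinearEquiv.refl_toLinearMap, LinearMap.toMatrix'_id]
  have hPv : ∀ u, P *ᵥ u = e u := fun u => LinearMap.toMatrix'_mulVec _ u
  have hP'v : ∀ U, P' *ᵥ U = e.symm U := fun U => LinearMap.toMatrix'_mulVec _ U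
  have hmem : P * (g : Matrix ((Fin k ⊕ Fin k) ⊕ Fin 2) ((Fin k ⊕ Fin k) ⊕ Fin 2) F) * P' ∈
      Matrix.symplecticGroup (Fin (k + 1)) F := by
    rw [Cfsg.Agent.Lib.helper6.mem_symplecticGroup_iff_sympForm]
    intro U V
    rw [← Matrix.mulVec_mulVec, ← Matrix.mulVec_mulVec, ← Matrix.mulVec_mulVec,
      ← Matrix.mulVec_mulVec, hP'v, hP'v, hPv, hPv, so8b_form k a b ha,
      so8b_polar_pres k a b g hg, ← so8b_form k a b ha]
    show Cfsg.sympForm (k + 1) F (e (e.symm U)) (e (e.symm V)) = _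
    rw [LinearEquiv.apply_symm_apply, LinearEquiv.apply_symm_apply]
  have hrev := charpoly_reverse (k + 1)
    (⟨_, hmem⟩ : Matrix.symplecticGroup (Fin (k + 1)) F)
  have hcard : Fintype.card ((Fin k ⊕ Fin k) ⊕ Fin 2) ≤
      Fintype.card (Fin (k + 1) ⊕ Fin (k + 1)) := by
    simp only [Fintype.card_sum, Fintype.card_fin]
    omega
  have hcard' : Fintype.card (Fin (k + 1) ⊕ Fin (k + 1)) -
      Fintype.card ((Fin k ⊕ Fin k) ⊕ Fin 2) = 0 := by
    simp only [Fintype.card_sum, Fintype.card_fin]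
    omega
  have hch : (P * (g : Matrix ((Fin k ⊕ Fin k) ⊕ Fin 2) ((Fin k ⊕ Fin k) ⊕ Fin 2) F) *
      P').charpoly =
      (g : Matrix ((Fin k ⊕ Fin k) ⊕ Fin 2) ((Fin k ⊕ Fin k) ⊕ Fin 2) F).charpoly := by
    rw [Matrix.mul_assoc, Matrix.charpoly_mul_comm_of_le P _ hcard, hcard', pow_zero, one_mul,
      Matrix.mul_assoc, hP'P, Matrix.mul_one]
  rw [← hch]
  exact hrev

theorem go_charpoly {F : Type*} [Field F] [CharP F 2] (a b : F) (ha : a ≠ 0) (g : GL MI8 F)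
    (hg : g ∈ GO8 F a b) :
    (g : Matrix MI8 MI8 F).charpoly.reverse = (g : Matrix MI8 MI8 F).charpoly :=
  s8ugoch_gen 3 a b ha g hg

end Cfsg.Agent.Lib.Helper1.S8U
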