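import Mathlib
import Cfsg.Prelude.Def_Classical
import Cfsg.Agent.Lib.Helper1.S8U.Defs
import Cfsg.Agent.Lib.Helper22.SO8ARITH
import Cfsg.Agent.Lib.helper8.SO8STRUCT

set_option autoImplicit false

/-!
# Project S8U (S3590), row UP8 (helper13): `up8`, verbatim from `Helper1/S8U/Skel.lean.txt`.
-/

namespace Cfsg.Agent.Lib.Helper1.S8U

open Matrix Module Polynomial Cfsg.Agent.Lib.Helper16 Cfsg.Agent.Lib.Helper13.OTS Cfsg.Agent.Lib.Helper19.SO8
  Cfsg.Agent.Lib.helper14.OrthInv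

theorem up8 {F : Type*} [Field F] [Fintype F] [CharP F 2] (A : Matrix MI8 MI8 F)
    (hr : A.charpoly.reverse = A.charpoly) :
    ∃ N ∈ T8 (Fintype.card F), ∃ m t : ℕ, N = m * 2 ^ t ∧
      A.charpoly ∣ (X ^ m - 1 : F[X]) ^ (2 ^ t) := by
  classical
  have hmon : A.charpoly.Monic := Matrix.charpoly_monic A
  have hne : A.charpoly ≠ 0 := hmon.ne_zero
  have hdeg : A.charpoly.natDegree = 2 * 4 := by
    rw [Matrix.charpoly_natDegree_eq_dim]
    simp
  obtain ⟨k, w, hsum, hsupp, hdiv⟩ := sr_struct 4 A.charpoly hne hr hdeg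
  have hq : 2 ≤ Fintype.card F := Fintype.one_lt_card
  obtain ⟨N, hN, m, t, hNmt, h1, h2, h3⟩ := arith (Fintype.card F) hq k w hsum hsupp
  exact ⟨N, hN, m, t, hNmt, hdiv m t h1 h2 h3⟩

end Cfsg.Agent.Lib.Helper1.S8U
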