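import Mathlib
import Cfsg.Prelude.Def_Classical
import Cfsg.Agent.Lib.Helper1.S8U.Defs
import Cfsg.Agent.Lib.Helper13.S8UGOCH
import Cfsg.Agent.Lib.Helper13.S8UUP8
import Cfsg.Agent.Lib.Helper11.SO8C2
import Cfsg.Agent.Lib.Helper22.SO8A2

set_option autoImplicit false

/-!
# Project S8U (S3590), row HD1 (helper13): `hd_one`, verbatim from `Helper1/S8U/Skel.lean.txt`.
-/

namespace Cfsg.Agent.Lib.Helper1.S8U

open Matrix Module Polynomial Cfsg.Agent.Lib.Helper16 Cfsg.Agent.Lib.Helper13.OTS Cfsg.Agent.Lib.Helper19.SO8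
  Cfsg.Agent.Lib.helper14.OrthInv

/-- the matrix form: `g ∈ GO8` has `g ^ N = 1` with `N = m 2^t ∈ T8 q` and the characteristic polynomial dividing
`(X^m - 1)^(2^t)` -/
theorem s8uhd1_data {F : Type*} [Field F] [Fintype F] [CharP F 2] (a b : F) (hab : Aniso a b)
    (g : GL MI8 F) (hg : g ∈ GO8 F a b) :
    ∃ N ∈ T8 (Fintype.card F), ∃ m t : ℕ, N = m * 2 ^ t ∧
      (g : Matrix MI8 MI8 F).charpoly ∣ (X ^ m - 1 : F[X]) ^ (2 ^ t) ∧ g ^ N = 1 := by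
  have ha : a ≠ 0 := (aniso_facts a b hab).1
  have hr := go_charpoly a b ha g hg
  obtain ⟨N, hN, m, t, hNmt, hdvd⟩ := up8 (g : Matrix MI8 MI8 F) hr
  refine ⟨N, hN, m, t, hNmt, hdvd, ?_⟩
  have hpow := pow_eq_one_of_dvd (g : Matrix MI8 MI8 F) m t hdvd
  apply Units.ext
  rw [Units.val_pow_eq_pow_val, hNmt, hpow, Units.val_one]

theorem hd_one {F : Type*} [Field F] [Fintype F] [CharP F 2] (a b : F) (hab : Aniso a b) (g : GL MI8 F)
    (hg : g ∈ GO8 F a b) : ∃ N ∈ T8 (Fintype.card F), orderOf g ∣ N := by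
  obtain ⟨N, hN, m, t, _, _, hpow⟩ := s8uhd1_data a b hab g hg
  exact ⟨N, hN, orderOf_dvd_of_pow_eq_one hpow⟩

end Cfsg.Agent.Lib.Helper1.S8U
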