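import Mathlib
import Cfsg.Prelude.Def_Classical
import Cfsg.Agent.Lib.Helper1.S8U.Defs
import Cfsg.Agent.Lib.Helper13.S8UHD1
import Cfsg.Agent.Lib.Helper1.S8UMLOW
import Cfsg.Agent.Lib.Helper1.S8UHDIFF
import Cfsg.Agent.Lib.helper17.S8UMUP
import Cfsg.Agent.Lib.helper4.S8UTWON

set_option autoImplicit false

/-!
# Project S8U (S3590), row HD2, second copy (helper13): `s8uhd2_h13` = the statement of `hd_two`.
-/

namespace Cfsg.Agent.Lib.Helper1.S8U

open Matrix Module Polynomial Cfsg.Agent.Lib.Helper16 Cfsg.Agent.Lib.Helper13.OTS Cfsg.Agent.Lib.Helper19.SO8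
  Cfsg.Agent.Lib.helper14.OrthInv

/-- the members of `T8 q` are non-zero (`q ≥ 2`) -/
theorem s8uhd2_T8_ne_zero (q : ℕ) (hq : 2 ≤ q) : ∀ N ∈ T8 q, N ≠ 0 := by
  intro N hN
  have h1 : 1 ≤ q - 1 := by omega
  have h2 : 1 ≤ q ^ 2 - 1 := by
    have : 4 ≤ q ^ 2 := by nlinarith
    omega
  have h3 : 1 ≤ q ^ 3 - 1 := by
    have : 8 ≤ q ^ 3 := by
      calc 8 = 2 ^ 3 := by norm_num
        _ ≤ q ^ 3 := Nat.pow_le_pow_left hq 3
    omega
  have h4 : 1 ≤ q ^ 4 - 1 := by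
    have : 16 ≤ q ^ 4 := by
      calc 16 = 2 ^ 4 := by norm_num
        _ ≤ q ^ 4 := Nat.pow_le_pow_left hq 4
    omega
  unfold T8 at hN
  simp only [List.mem_cons, List.mem_nil_iff, or_false] at hN
  rcases hN with rfl | rfl | rfl | rfl | rfl | rfl | rfl | rfl | rfl | rfl | rfl | rfl <;>
    positivity

theorem s8uhd2_h13 {F : Type*} [Field F] [Fintype F] [CharP F 2] (a b : F) (hab : Aniso a b) (g : GL MI8 F)
    (hg : g ∈ Hd a b hab) (hgeo : geoM g (orderOf g) ≠ 0) :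
    ∃ N ∈ T8 (Fintype.card F), 2 * orderOf g ∣ N := by
  classical
  obtain ⟨hgo, hev⟩ := (hd_iff a b hab g).mp hg
  have hq : 2 ≤ Fintype.card F := Fintype.one_lt_card
  obtain ⟨N, hN, m, t, hNmt, hdvd, hpow⟩ := s8uhd1_data a b hab g hgo
  have hN0 : N ≠ 0 := s8uhd2_T8_ne_zero _ hq N hN
  have hord : orderOf g ∣ N := orderOf_dvd_of_pow_eq_one hpow
  have hn0 : orderOf g ≠ 0 := by
    intro h0
    rw [h0] at hord
    exact hN0 (Nat.eq_zero_of_zero_dvd hord)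
  obtain ⟨a', m0, hm0, hn⟩ := Nat.exists_eq_two_pow_mul_odd hn0
  have hA : (g : Matrix MI8 MI8 F) ^ (2 ^ a' * m0) = 1 := by
    rw [← hn, ← Units.val_pow_eq_pow_val, pow_orderOf_eq_one, Units.val_one]
  have hgeoA : ∑ i ∈ Finset.range (2 ^ a' * m0), (g : Matrix MI8 MI8 F) ^ i ≠ 0 := by
    rw [← hn]
    intro h0
    apply hgeo
    unfold geoM
    rw [← h0]
    apply Finset.sum_congr rfl
    intro i _
    rw [Units.val_pow_eq_pow_val]
  have hcard : Even (Fintype.card MI8) := by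
    simp only [Fintype.card_sum, Fintype.card_fin]
    decide
  have hlow := mult_lower (g : Matrix MI8 MI8 F) a' m0 hA hgeoA hev hcard
  have hm : m ≠ 0 := by
    intro h0
    rw [h0, zero_mul] at hNmt
    exact hN0 hNmt
  obtain ⟨m', T, _, hmT, hup⟩ := mult_upper (g : Matrix MI8 MI8 F).charpoly m t hm hdvd
  refine ⟨N, hN, ?_⟩
  rw [hn]
  apply twon_dvd a' m0 N m' T hm0 (by rw [hNmt, hmT])
  · rw [← hn]
    exact hord
  · exact le_trans hlow hup

end Cfsg.Agent.Lib.Helper1.S8U
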