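import Mathlib
import Cfsg.Prelude.Def_Classical
import Cfsg.Agent.Lib.Helper1.S8U.Defs
import Cfsg.Agent.Lib.Helper13.S8UHD2h13

set_option autoImplicit false

/-!
# Project S8U (S3590), row HD2 (helper13): `hd_two`, verbatim from `Helper1/S8U/Skel.lean.txt`.
-/

namespace Cfsg.Agent.Lib.Helper1.S8U

open Matrix Module Polynomial Cfsg.Agent.Lib.Helper16 Cfsg.Agent.Lib.Helper13.OTS Cfsg.Agent.Lib.Helper19.SO8
  Cfsg.Agent.Lib.helper14.OrthInv

theorem hd_two {F : Type*} [Field F] [Fintype F] [CharP F 2] (a b : F) (hab : Aniso a b) (g : GL MI8 F)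
    (hg : g ∈ Hd a b hab) (hgeo : geoM g (orderOf g) ≠ 0) :
    ∃ N ∈ T8 (Fintype.card F), 2 * orderOf g ∣ N :=
  s8uhd2_h13 a b hab g hg hgeo

end Cfsg.Agent.Lib.Helper1.S8U
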