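import Mathlib
import Cfsg.Prelude.Def_Characters
import Cfsg.Prelude.Def_Blocks
import Cfsg.Agent.Lib.Helper25.CharLinear
import Cfsg.Agent.Lib.Helper29.LeoOrbit
import Cfsg.Agent.Lib.helper7.BR.Defs
import Cfsg.Agent.Lib.Helper13.BT.Defs

/-!
# Project BT, piece ARITHF : `fermat_mersenne` (the final arithmetic)
-/

set_option autoImplicit false
set_option linter.unusedVariables false
set_option linter.unusedSectionVars false

namespace Cfsg.Agent.Lib.Helper13.BT

open Classical
open scoped ComplexConjugate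
open Cfsg.Agent.Lib.Helper25 Cfsg.Agent.Lib.Helper29
open Cfsg.Agent.Lib.helper7.BR

universe u

/-- ARITHF : the final arithmetic: `2 q^b g₀ = p² - 1`, `g₀ < p - 1` ⟹ `p = 2^m ± 1`.  (`q` odd: `q^b` divides
`p - 1` or `p + 1` and `q^b > (p+1)/2`: impossible.  `q = 2`: write `p - 1 = 2^α u`, `p + 1 = 2^β v`.) -/
theorem fermat_mersenne (p q b g₀ : ℕ) (hp : p.Prime) (hp5 : 5 ≤ p) (hq : q.Prime)
    (h : 2 * (q ^ b * g₀) = p ^ 2 - 1) (hg : g₀ < p - 1) : ∃ m : ℕ, p = 2 ^ m + 1 ∨ p = 2 ^ m - 1 := by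
  -- `p = 2 k + 1`
  obtain ⟨k, hk⟩ : ∃ k, p = 2 * k + 1 := by
    rcases hp.eq_two_or_odd with h2 | hodd
    · omega
    · exact ⟨p / 2, by omega⟩
  have hk2 : 2 ≤ k := by omega
  have hsq : p ^ 2 - 1 = 2 * (2 * (k * (k + 1))) := by
    rw [hk]
    have : (2 * k + 1) ^ 2 = 2 * (2 * (k * (k + 1))) + 1 := by ring
    rw [this, Nat.add_sub_cancel]
  rw [hsq] at h
  have h1 : q ^ b * g₀ = 2 * (k * (k + 1)) := Nat.eq_of_mul_eq_mul_left (by norm_num) h
  have hgk : g₀ < 2 * k := by omega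
  have hcopk : Nat.Coprime k (k + 1) := by simp
  by_cases hq2 : q = 2
  · subst hq2
    rcases Nat.even_or_odd k with hev | hodd
    · -- `k + 1` odd: `2 ^ b ∣ 2 k = p - 1`
      have hk1 : ¬ 2 ∣ k + 1 := by
        obtain ⟨j, hj⟩ := hev
        omega
      have hcop : Nat.Coprime (2 ^ b) (k + 1) :=
        Nat.Coprime.pow_left b ((Nat.Prime.coprime_iff_not_dvd Nat.prime_two).mpr hk1)
      have hdvd : 2 ^ b ∣ 2 * k := by
        have : 2 ^ b ∣ (2 * k) * (k + 1) := ⟨g₀, by rw [h1]; ring⟩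
        exact hcop.dvd_of_dvd_mul_right this
      obtain ⟨u, hu⟩ := hdvd
      have hg0 : g₀ = u * (k + 1) := by
        have : 2 ^ b * g₀ = 2 ^ b * (u * (k + 1)) := by
          rw [h1, ← mul_assoc 2, hu]; ring
        exact Nat.eq_of_mul_eq_mul_left (by positivity) this
      have hu1 : u = 1 := by
        rcases Nat.lt_or_ge u 2 with hlt | hge
        · interval_cases u
          · rw [mul_zero] at hu; omega
          · rfl
        · exfalso
          have : 2 * (k + 1) ≤ u * (k + 1) := Nat.mul_le_mul_right _ hge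
          omega
      rw [hu1, mul_one] at hu
      exact ⟨b, Or.inl (by omega)⟩
    · -- `k` odd: `2 ^ b ∣ 2 (k + 1) = p + 1`
      have hk1 : ¬ 2 ∣ k := by
        obtain ⟨j, hj⟩ := hodd
        omega
      have hcop : Nat.Coprime (2 ^ b) k :=
        Nat.Coprime.pow_left b ((Nat.Prime.coprime_iff_not_dvd Nat.prime_two).mpr hk1)
      have hdvd : 2 ^ b ∣ 2 * (k + 1) := by
        have : 2 ^ b ∣ (2 * (k + 1)) * k := ⟨g₀, by rw [h1]; ring⟩
        exact hcop.dvd_of_dvd_mul_right this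
      obtain ⟨v, hv⟩ := hdvd
      have hg0 : g₀ = v * k := by
        have : 2 ^ b * g₀ = 2 ^ b * (v * k) := by
          rw [h1, ← mul_assoc (2 ^ b), ← hv]; ring
        exact Nat.eq_of_mul_eq_mul_left (by positivity) this
      have hv1 : v = 1 := by
        rcases Nat.lt_or_ge v 2 with hlt | hge
        · interval_cases v
          · rw [mul_zero] at hv; omega
          · rfl
        · exfalso
          have : 2 * k ≤ v * k := Nat.mul_le_mul_right _ hge
          omega
      rw [hv1, mul_one] at hv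
      exact ⟨b, Or.inr (by omega)⟩
  · -- `q` odd: impossible
    exfalso
    have hq2' : ¬ 2 ∣ q := fun h2 => hq2 ((Nat.prime_dvd_prime_iff_eq Nat.prime_two hq).mp h2).symm
    have hcop2 : Nat.Coprime (q ^ b) 2 :=
      Nat.Coprime.pow_left b ((Nat.Prime.coprime_iff_not_dvd Nat.prime_two).mpr hq2').symm
    have hdvd : q ^ b ∣ k * (k + 1) := by
      have : q ^ b ∣ 2 * (k * (k + 1)) := ⟨g₀, h1.symm⟩
      exact hcop2.dvd_of_dvd_mul_left this
    have hle : q ^ b ≤ k + 1 := by
      by_cases hqk : q ∣ k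
      · have hnk1 : ¬ q ∣ k + 1 := by
          intro hqk1
          have := (Nat.dvd_add_right hqk).mp hqk1
          exact hq.one_lt.ne' (Nat.dvd_one.mp this)
        have hcop : Nat.Coprime (q ^ b) (k + 1) :=
          Nat.Coprime.pow_left b ((Nat.Prime.coprime_iff_not_dvd hq).mpr hnk1)
        have := Nat.le_of_dvd (by omega) (hcop.dvd_of_dvd_mul_right hdvd)
        omega
      · have hcop : Nat.Coprime (q ^ b) k :=
          Nat.Coprime.pow_left b ((Nat.Prime.coprime_iff_not_dvd hq).mpr hqk)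
        exact Nat.le_of_dvd (by omega) (hcop.dvd_of_dvd_mul_left hdvd)
    have h2 : q ^ b * g₀ ≤ (k + 1) * g₀ := Nat.mul_le_mul_right _ hle
    have h3 : (k + 1) * g₀ < (k + 1) * (2 * k) := Nat.mul_lt_mul_of_pos_left hgk (by omega)
    have h4 : (k + 1) * (2 * k) = 2 * (k * (k + 1)) := by ring
    omega

end Cfsg.Agent.Lib.Helper13.BT
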