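import Mathlib
import Cfsg.Prelude.Def_Characters
import Cfsg.Prelude.Def_Blocks
import Cfsg.Agent.Lib.Helper25.CharLinear
import Cfsg.Agent.Lib.Helper29.LeoOrbit
import Cfsg.Agent.Lib.helper7.BR.Defs
import Cfsg.Agent.Lib.Helper13.BT.Defs

/-!
# Project BT, piece ARITHQ : `arith_q` (pure arithmetic of the branch `ε = -1`)
-/

set_option autoImplicit false
set_option linter.unusedVariables false
set_option linter.unusedSectionVars false

namespace Cfsg.Agent.Lib.Helper13.BT

open Classical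
open scoped ComplexConjugate
open Cfsg.Agent.Lib.Helper25 Cfsg.Agent.Lib.Helper29
open Cfsg.Agent.Lib.helper7.BR

universe u

/-- ARITHQ : the arithmetic of the branch `ε = -1` (`z = p - e` the degree of the members of `Y`, `deg` the
degrees of the members of `X`, `t0` the principal character): `g₀ = z`, `q = 2`, `e` is a power of `2`
and all the non-principal degrees in `X` are even.  (`z ∣ g₀ < p - 1 < 2 z`; `e ∣ q^b z`, `gcd(e,z) = 1`, so
`q ∣ e ∣ p - 1`; a non-principal degree prime to `q` divides `g₀`, is `≡ ± 1 (mod p)` and `≥ 2`: impossible;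
so `q ∣ z + 1 = p - e + 1`, `q ∣ p + 1`, `q ∣ 2`.) -/
theorem arith_q (p q b g₀ e z : ℕ) (hp : p.Prime) (hq : q.Prime) (hpq : p ≠ q) (hg0 : 0 < g₀)
    (hg : g₀ < p - 1)
    (he2 : 2 ≤ e) (hep : 2 * e + 1 ≤ p) (hedvd : e ∣ p - 1) (hz : z + e = p) (hzg : z ∣ g₀)
    (heG : e ∣ p * q ^ b * g₀) {ι : Type*} [DecidableEq ι] (X : Finset ι) (t0 : ι) (ht0 : t0 ∈ X)
    (a : ι → ℤ) (ha : ∀ i ∈ X, a i = 1 ∨ a i = -1) (deg : ι → ℕ) (hdeg0 : deg t0 = 1) (ha0 : a t0 = 1)
    (hdeg2 : ∀ i ∈ X, i ≠ t0 → 2 ≤ deg i) (hcong : ∀ i ∈ X, (p : ℤ) ∣ (deg i : ℤ) - a i)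
    (hdvd : ∀ i ∈ X, deg i ∣ p * q ^ b * g₀)
    (hD : ∑ i ∈ X, a i * (deg i : ℤ) = -(z : ℤ)) :
    g₀ = z ∧ q = 2 ∧ (∃ c : ℕ, e = 2 ^ c) ∧ ∀ i ∈ X, i ≠ t0 → Even (deg i) := by
  have hp2 := hp.two_le
  have hzpos : 0 < z := by omega
  -- 1. g₀ = z
  have hgz : g₀ = z := by
    obtain ⟨k, hk⟩ := hzg
    have hk1 : k = 1 := by
      rcases Nat.lt_or_ge k 2 with h | h
      · interval_cases k
        · rw [mul_zero] at hk; omega
        · rfl
      · exfalso
        have : z * 2 ≤ z * k := Nat.mul_le_mul_left z h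
        omega
    rw [hk, hk1, mul_one]
  -- 2. e ∣ q ^ b
  have hcop_ez : Nat.Coprime e z := by
    have h1 : Nat.gcd e z ∣ p - 1 := (Nat.gcd_dvd_left e z).trans hedvd
    have h2 : Nat.gcd e z ∣ p := by
      rw [← hz]; exact Nat.dvd_add (Nat.gcd_dvd_right e z) (Nat.gcd_dvd_left e z)
    have h3 : Nat.gcd e z ∣ 1 := by
      have : p = (p - 1) + 1 := by omega
      rw [this] at h2
      exact (Nat.dvd_add_right h1).mp h2
    exact Nat.dvd_one.mp h3
  have hcop_ep : Nat.Coprime e p := by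
    refine Nat.Coprime.symm ((Nat.Prime.coprime_iff_not_dvd hp).mpr (fun h => ?_))
    have := Nat.le_of_dvd (by omega) h
    omega
  have heq : e ∣ q ^ b := by
    rw [hgz] at heG
    have h1 : e ∣ q ^ b * z := by
      have : e ∣ p * (q ^ b * z) := by rwa [mul_assoc] at heG
      exact hcop_ep.dvd_of_dvd_mul_left this
    exact hcop_ez.dvd_of_dvd_mul_right h1
  obtain ⟨c, hcb, hec⟩ := (Nat.dvd_prime_pow hq).mp heq
  have hc1 : c ≠ 0 := by
    rintro rfl
    rw [pow_zero] at hec; omega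
  have hqe : q ∣ e := by rw [hec]; exact dvd_pow_self q hc1
  have hqp1 : q ∣ p - 1 := hqe.trans hedvd
  -- 3. `q` divides the non-principal degrees
  have hqd : ∀ i ∈ X, i ≠ t0 → q ∣ deg i := by
    intro i hi hit
    by_contra hnq
    have hcop : Nat.Coprime (deg i) (q ^ b) :=
      Nat.Coprime.pow_right b ((Nat.Prime.coprime_iff_not_dvd hq).mpr hnq).symm
    have hd := hdvd i hi
    rw [hgz] at hd
    have hd1 : deg i ∣ p * z := by
      have : deg i ∣ q ^ b * (p * z) := by
        rw [← mul_assoc, mul_comm (q ^ b) p]; exact hd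
      exact hcop.dvd_of_dvd_mul_left this
    have h2 := hdeg2 i hi hit
    have h1 := hcong i hi
    have hnp : ¬ p ∣ deg i := by
      intro hpd
      have h2' : (p : ℤ) ∣ (deg i : ℤ) := by exact_mod_cast hpd
      have h3 : (p : ℤ) ∣ a i := by
        have := dvd_sub h2' h1
        simpa using this
      rcases ha i hi with h | h <;> rw [h] at h3
      · have := Int.le_of_dvd one_pos h3; omega
      · have h4 : (p : ℤ) ∣ 1 := by
          have := dvd_neg.mpr h3
          simpa using this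
        have := Int.le_of_dvd one_pos h4; omega
    have hcop2 : Nat.Coprime (deg i) p := ((Nat.Prime.coprime_iff_not_dvd hp).mpr hnp).symm
    have hdz : deg i ∣ z := hcop2.dvd_of_dvd_mul_left hd1
    have hdle : deg i ≤ z := Nat.le_of_dvd hzpos hdz
    rcases ha i hi with h | h <;> rw [h] at h1
    · have := Int.le_of_dvd (by omega) h1
      omega
    · have h1' : (p : ℤ) ∣ (deg i : ℤ) + 1 := by simpa using h1
      have := Int.le_of_dvd (by omega) h1'
      omega
  -- 4. `q ∣ z + 1`, so `q = 2`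
  have hsum : ∑ i ∈ X.erase t0, a i * (deg i : ℤ) = -((z : ℤ) + 1) := by
    have := Finset.add_sum_erase X (fun i => a i * (deg i : ℤ)) ht0
    rw [hD, ha0, hdeg0] at this
    push_cast at this
    linarith
  have hqz1 : (q : ℤ) ∣ (z : ℤ) + 1 := by
    have : (q : ℤ) ∣ ∑ i ∈ X.erase t0, a i * (deg i : ℤ) := by
      apply Finset.dvd_sum
      intro i hi
      rw [Finset.mem_erase] at hi
      exact Dvd.dvd.mul_left (by exact_mod_cast hqd i hi.2 hi.1) _
    rw [hsum] at this
    exact dvd_neg.mp this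
  have hqz1' : q ∣ z + 1 := by exact_mod_cast hqz1
  have hq2 : q ∣ 2 := by
    have h1 : q ∣ p + 1 := by
      have := Nat.dvd_add hqz1' hqe
      rwa [show z + 1 + e = p + 1 by omega] at this
    have h2 : p + 1 = (p - 1) + 2 := by omega
    rw [h2] at h1
    exact (Nat.dvd_add_right hqp1).mp h1
  have hq2' : q = 2 := (Nat.prime_dvd_prime_iff_eq hq Nat.prime_two).mp hq2
  refine ⟨hgz, hq2', ⟨c, by rw [hec, hq2']⟩, ?_⟩
  intro i hi hit
  have := hqd i hi hit
  rw [hq2'] at this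
  exact even_iff_two_dvd.mpr this

end Cfsg.Agent.Lib.Helper13.BT
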