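import Mathlib

/-!
# Project BT (S0997), piece CNTM : `count_minus` (pure arithmetic)
-/

set_option autoImplicit false
set_option linter.unusedVariables false
set_option linter.unusedSectionVars false

namespace Cfsg.Agent.Lib.Helper13.BT

open Classical

universe u

/-- a degree `≡ -1 (mod p)`, even, with `p` odd, is `p - 1` or `≥ 3 p - 1` -/
theorem btcntm_minus_dichotomy (p d : ℕ) (hp : Odd p) (hd : Even d) (hdvd : (p : ℤ) ∣ (d : ℤ) - (-1)) :
    d + 1 = p ∨ 3 * p ≤ d + 1 := by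
  have h1 : (p : ℤ) ∣ ((d + 1 : ℕ) : ℤ) := by
    have : ((d + 1 : ℕ) : ℤ) = (d : ℤ) - (-1) := by push_cast; ring
    rw [this]; exact hdvd
  have h2 : p ∣ d + 1 := by exact_mod_cast h1
  obtain ⟨k, hk⟩ := h2
  have hodd : Odd (d + 1) := hd.add_one
  rw [hk] at hodd
  have hkodd : Odd k := (Nat.odd_mul.mp hodd).2
  obtain ⟨m, hm⟩ := hkodd
  rcases Nat.eq_zero_or_pos m with h0 | h0
  · left
    rw [hk, hm, h0]; ring
  · right
    rw [hk, hm]
    have : 3 ≤ 2 * m + 1 := by omega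
    calc 3 * p = p * 3 := by ring
      _ ≤ p * (2 * m + 1) := Nat.mul_le_mul_left p this

/-- a degree `≡ 1 (mod p)`, `≥ 2`, is `≥ p + 1` -/
theorem btcntm_plus_ge (p d : ℕ) (hd2 : 2 ≤ d) (hdvd : (p : ℤ) ∣ (d : ℤ) - 1) : p + 1 ≤ d := by
  have h1 : (p : ℤ) ∣ ((d - 1 : ℕ) : ℤ) := by
    have : ((d - 1 : ℕ) : ℤ) = (d : ℤ) - 1 := by
      rw [Nat.cast_sub (by omega)]; simp
    rw [this]; exact hdvd
  have h2 : p ∣ d - 1 := by exact_mod_cast h1
  have := Nat.le_of_dvd (by omega) h2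
  omega

/-- CNTM : the minus degrees are `p - 1` (`u = #plus non-principal`, `r = #minus`, `u + r + 1 = f`; an even
degree `≡ -1 (mod p)` is `p - 1` or `≥ 3 p - 1`, an even degree `≡ 1 (mod p)`, `≥ 2`, is `≥ p + 1`; if some minus
degree is `≥ 3p - 1` then `2 f r + 4 f + 2 ≤ (f+1)²` gives `r ≤ f/2 - 2`, `u ≥ f/2 + 1` and
`1 + u (p + 1) > (f+1)²`). -/
theorem count_minus (p f : ℕ) (hpf : 2 * f + 1 = p) (hf2 : 2 ≤ f) (hfe : Even f) {ι : Type*}
    [DecidableEq ι] (X : Finset ι) (t0 : ι) (ht0 : t0 ∈ X) (hX : X.card = f) (a : ι → ℤ)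
    (ha : ∀ i ∈ X, a i = 1 ∨ a i = -1) (deg : ι → ℕ) (hdeg0 : deg t0 = 1) (ha0 : a t0 = 1)
    (hdeg2 : ∀ i ∈ X, i ≠ t0 → 2 ≤ deg i) (hcong : ∀ i ∈ X, (p : ℤ) ∣ (deg i : ℤ) - a i)
    (heven : ∀ i ∈ X, i ≠ t0 → Even (deg i))
    (hB1 : ∑ i ∈ X.filter (fun i => a i = 1), deg i ≤ (f + 1) ^ 2)
    (hB2 : ∑ i ∈ X.filter (fun i => a i = -1), deg i ≤ (f + 1) ^ 2) :
    ∀ i ∈ X, a i = -1 → deg i + 1 = p := by
  have hpodd : Odd p := ⟨f, by omega⟩
  set Xp := X.filter (fun i => a i = 1) with hXp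
  set Xm := X.filter (fun i => a i = -1) with hXm
  -- the two parts
  have hcardsum : Xp.card + Xm.card = f := by
    rw [← hX]
    have hdisj : Disjoint Xp Xm := by
      rw [Finset.disjoint_left]
      intro i hi hi'
      have h1 := (Finset.mem_filter.mp hi).2
      have h2 := (Finset.mem_filter.mp hi').2
      rw [h1] at h2
      norm_num at h2
    rw [← Finset.card_union_of_disjoint hdisj]
    congr 1
    ext i
    simp only [Finset.mem_union, hXp, hXm, Finset.mem_filter]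
    constructor
    · rintro (h | h) <;> exact h.1
    · intro hi
      rcases ha i hi with h | h
      · exact Or.inl ⟨hi, h⟩
      · exact Or.inr ⟨hi, h⟩
  have ht0p : t0 ∈ Xp := Finset.mem_filter.mpr ⟨ht0, ha0⟩
  -- facts on the degrees
  have hm_ne : ∀ i ∈ Xm, i ≠ t0 := by
    intro i hi h
    have h1 := (Finset.mem_filter.mp hi).2
    rw [h, ha0] at h1
    norm_num at h1
  have hF1 : ∀ i ∈ Xm, deg i + 1 = p ∨ 3 * p ≤ deg i + 1 := by
    intro i hi
    have hiX := (Finset.mem_filter.mp hi).1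
    have hai := (Finset.mem_filter.mp hi).2
    have h1 := hcong i hiX
    rw [hai] at h1
    exact btcntm_minus_dichotomy p (deg i) hpodd (heven i hiX (hm_ne i hi)) h1
  have hF2 : ∀ i ∈ Xp.erase t0, p + 1 ≤ deg i := by
    intro i hi
    have hne := (Finset.mem_erase.mp hi).1
    have hip := (Finset.mem_erase.mp hi).2
    have hiX := (Finset.mem_filter.mp hip).1
    have hai := (Finset.mem_filter.mp hip).2
    have h1 := hcong i hiX
    rw [hai] at h1
    exact btcntm_plus_ge p (deg i) (hdeg2 i hiX hne) (by exact_mod_cast h1)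
  -- the plus sum
  have hplus : 1 + (Xp.card - 1) * (p + 1) ≤ ∑ i ∈ Xp, deg i := by
    rw [← Finset.add_sum_erase Xp deg ht0p, hdeg0]
    have h1 : (Xp.erase t0).card • (p + 1) ≤ ∑ i ∈ Xp.erase t0, deg i :=
      Finset.card_nsmul_le_sum _ _ _ hF2
    rw [Finset.card_erase_of_mem ht0p, smul_eq_mul] at h1
    omega
  intro j hjX haj
  have hjm : j ∈ Xm := Finset.mem_filter.mpr ⟨hjX, haj⟩
  rcases hF1 j hjm with h | h
  · exact h
  · exfalso
    -- the minus sum
    have hminus : 3 * p - 1 + (Xm.card - 1) * (p - 1) ≤ ∑ i ∈ Xm, deg i := by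
      rw [← Finset.add_sum_erase Xm deg hjm]
      have h1 : (Xm.erase j).card • (p - 1) ≤ ∑ i ∈ Xm.erase j, deg i := by
        apply Finset.card_nsmul_le_sum
        intro i hi
        have him := (Finset.mem_erase.mp hi).2
        rcases hF1 i him with h' | h' <;> omega
      rw [Finset.card_erase_of_mem hjm, smul_eq_mul] at h1
      omega
    obtain ⟨k, hk⟩ := hfe
    have hk' : f = 2 * k := by omega
    have hr1 : 1 ≤ Xm.card := Finset.card_pos.mpr ⟨j, hjm⟩
    set r := Xm.card with hr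
    set u' := Xp.card with hu'
    -- `r + 2 ≤ k`
    have h3 : 3 * p - 1 + (r - 1) * (p - 1) ≤ (f + 1) ^ 2 := hminus.trans hB2
    have hp1 : p - 1 = 4 * k := by omega
    have h3p : 3 * p - 1 = 12 * k + 2 := by omega
    rw [hp1, h3p, hk'] at h3
    have hrk : r + 2 ≤ k := by
      by_contra hcon
      have hle : k ≤ r + 1 := by omega
      obtain ⟨s, hs⟩ : ∃ s, r = s + 1 := ⟨r - 1, by omega⟩
      rw [hs] at h3 hle
      simp only [Nat.add_sub_cancel] at h3
      have h4 : k * (4 * k) ≤ (s + 2) * (4 * k) := Nat.mul_le_mul_right _ (by omega)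
      nlinarith
    -- the plus part is too large
    have h5 : 1 + (u' - 1) * (p + 1) ≤ (f + 1) ^ 2 := hplus.trans hB1
    have hu : k + 2 ≤ u' := by omega
    have hp2 : p + 1 = 4 * k + 2 := by omega
    rw [hp2, hk'] at h5
    have h6 : (k + 1) * (4 * k + 2) ≤ (u' - 1) * (4 * k + 2) := Nat.mul_le_mul_right _ (by omega)
    nlinarith

end Cfsg.Agent.Lib.Helper13.BT
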