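import Mathlib
import Cfsg.Agent.Lib.helper7.BR.Defs

/-!
Project BR (helper7), piece AC3 (helper13): pure arithmetic.
-/

set_option autoImplicit false
set_option linter.unusedVariables false
set_option linter.unusedSectionVars false

namespace Cfsg.Agent.Lib.helper7.BR

open Classical
open Cfsg.Agent.Lib.Helper25

universe u

variable {G : Type u} [Group G] [Fintype G] {p : ℕ} [Fact p.Prime]

/-- AC3 : a divisor `z ≡ q mod p` of `q (1 + n p)` with `q n < p`, `q < p` is `q` or `q (1 + n p)`. -/
theorem ac_exc_plus (p q n z : ℕ) (hp : p.Prime) (hq : 1 ≤ q) (hqp : q < p) (hqn : q * n < p)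
    (hz : z ∣ q * (1 + n * p)) (h1 : z % p = q) : z = q ∨ z = q * (1 + n * p) := by
  obtain ⟨c, hc⟩ := hz
  have hzu : p * (z / p) + q = z := by
    rw [← h1]
    exact Nat.div_add_mod z p
  generalize z / p = u at hzu
  have hc0 : c ≠ 0 := by
    rintro rfl
    rw [Nat.mul_zero] at hc
    have : 0 < q * (1 + n * p) := Nat.mul_pos hq (by omega)
    omega
  obtain ⟨c', rfl⟩ := Nat.exists_eq_succ_of_ne_zero hc0
  have e0 : q * (1 + n * p) = (p * u + q) * (c' + 1) := by
    rw [hzu]
    exact hc
  have e1 : q * n * p = p * u * (c' + 1) + q * c' := by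
    have e0' : q + q * n * p = p * u * (c' + 1) + q * c' + q := by
      calc q + q * n * p = q * (1 + n * p) := by ring
        _ = (p * u + q) * (c' + 1) := e0
        _ = p * u * (c' + 1) + q * c' + q := by ring
    omega
  have hdvd : p ∣ q * c' := by
    have h2 : p ∣ q * n * p := Dvd.intro_left _ rfl
    rw [e1] at h2
    have h3 : p ∣ p * u * (c' + 1) := ⟨u * (c' + 1), by ring⟩
    exact (Nat.dvd_add_right h3).1 h2
  rcases (Nat.Prime.dvd_mul hp).1 hdvd with h4 | h4
  · exact absurd (Nat.le_of_dvd (by omega) h4) (by omega)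
  obtain ⟨b, rfl⟩ := h4
  have e2 : q * n = u * (p * b + 1) + q * b := by
    have : p * (q * n) = p * (u * (p * b + 1) + q * b) := by
      calc p * (q * n) = q * n * p := by ring
        _ = p * u * (p * b + 1) + q * (p * b) := e1
        _ = p * (u * (p * b + 1) + q * b) := by ring
    exact Nat.eq_of_mul_eq_mul_left hp.pos this
  rcases Nat.eq_zero_or_pos u with hu0 | hu0
  · left
    rw [← hzu, hu0]
    simp
  rcases Nat.eq_zero_or_pos b with hb0 | hb0
  · right
    rw [hc, hb0]
    simp
  · exfalso
    have h5 : p ≤ u * (p * b) := by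
      calc p = 1 * (p * 1) := by ring
        _ ≤ u * (p * b) := Nat.mul_le_mul hu0 (Nat.mul_le_mul_left p hb0)
    have h6 : u * (p * b + 1) = u * (p * b) + u := by ring
    omega

end Cfsg.Agent.Lib.helper7.BR
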