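import Mathlib
import Cfsg.Agent.Lib.helper7.BR.Defs

/-!
Project BR (helper7), piece AC4 (helper13): pure arithmetic.
-/

set_option autoImplicit false
set_option linter.unusedVariables false
set_option linter.unusedSectionVars false

namespace Cfsg.Agent.Lib.helper7.BR

open Classical
open Cfsg.Agent.Lib.Helper25

universe u

variable {G : Type u} [Group G] [Fintype G] {p : ℕ} [Fact p.Prime]

/-- AC4 : a divisor `z ≡ -q mod p` of `q (1 + n p)` (`q t = p - 1`, `t ≥ 2`, `q n < p`, `n ≥ 1`) is
`p - q`, or `t ∣ n + 1` and `z (p - 1) = q (1 + n p)`.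
(`z = u p - q`, cofactor `b p - 1`, `u b p = u + q b + q n`; `u, b ≥ 2` impossible.) -/
theorem ac_exc_minus (p q t n z : ℕ) (hp : p.Prime) (hqt : q * t = p - 1) (hq : 1 ≤ q) (ht : 2 ≤ t)
    (hn : 1 ≤ n) (hqn : q * n < p) (hz : z ∣ q * (1 + n * p)) (h1 : (z + q) % p = 0) :
    z + q = p ∨ (t ∣ n + 1 ∧ z * (p - 1) = q * (1 + n * p)) := by
  have hp2 : 2 ≤ p := hp.two_le
  have h2q : 2 * q + 1 ≤ p := by
    have : q * 2 ≤ q * t := Nat.mul_le_mul_left q ht
    omega
  obtain ⟨c, hc⟩ := hz
  obtain ⟨u, hu⟩ := Nat.dvd_of_mod_eq_zero h1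
  have hu0 : 1 ≤ u := by
    rcases Nat.eq_zero_or_pos u with h0 | h0
    · rw [h0, Nat.mul_zero] at hu
      omega
    · exact h0
  -- `p u c = q (c + 1) + q n p`
  have e1 : p * u * c = q * (c + 1) + q * n * p := by
    calc p * u * c = (z + q) * c := by rw [hu]
      _ = z * c + q * c := by ring
      _ = q * (1 + n * p) + q * c := by rw [hc]
      _ = q * (c + 1) + q * n * p := by ring
  have hdvd : p ∣ q * (c + 1) := by
    have h2 : p ∣ p * u * c := ⟨u * c, by ring⟩
    rw [e1] at h2
    have h3 : p ∣ q * n * p := Dvd.intro_left _ rfl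
    exact (Nat.dvd_add_left h3).1 h2
  rcases (Nat.Prime.dvd_mul hp).1 hdvd with h4 | h4
  · exact absurd (Nat.le_of_dvd (by omega) h4) (by omega)
  obtain ⟨b, hb⟩ := h4
  have hb0 : 1 ≤ b := by
    rcases Nat.eq_zero_or_pos b with h0 | h0
    · rw [h0, Nat.mul_zero] at hb
      omega
    · exact h0
  -- `u c = q b + q n`
  have e2 : u * c = q * b + q * n := by
    have : p * (u * c) = p * (q * b + q * n) := by
      calc p * (u * c) = p * u * c := by ring
        _ = q * (c + 1) + q * n * p := e1
        _ = q * (p * b) + q * n * p := by rw [hb]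
        _ = p * (q * b + q * n) := by ring
    exact Nat.eq_of_mul_eq_mul_left hp.pos this
  -- `u p b = q b + q n + u`
  have e3 : u * (p * b) = q * b + q * n + u := by
    rw [← hb, Nat.mul_add, Nat.mul_one, e2]
  rcases Nat.eq_or_lt_of_le hu0 with hu1 | hu2
  · left
    rw [hu, ← hu1, Nat.mul_one]
  rcases Nat.eq_or_lt_of_le hb0 with hb1 | hb2
  · right
    rw [← hb1, Nat.mul_one] at hb e3
    have hcp : c = p - 1 := by omega
    refine ⟨?_, ?_⟩
    · -- `q (n + 1) = u (p - 1) = u q t`
      refine ⟨u, ?_⟩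
      have e4 : q * (n + 1) = q * (t * u) := by
        have h5 : u * (p - 1) + u = u * p := by
          have : p - 1 + 1 = p := by omega
          calc u * (p - 1) + u = u * (p - 1 + 1) := by ring
            _ = u * p := by rw [this]
        have h6 : q * (t * u) = u * (p - 1) := by
          rw [← hqt]; ring
        have h7 : q * (n + 1) = q * 1 + q * n := by ring
        rw [Nat.mul_one] at e3 h7
        omega
      exact Nat.eq_of_mul_eq_mul_left hq e4
    · rw [← hcp, hc]
  · exfalso
    -- `u, b ≥ 2`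
    have h5 : u + b ≤ u * b := by
      obtain ⟨u', rfl⟩ : ∃ u', u = u' + 2 := ⟨u - 2, by omega⟩
      obtain ⟨b', rfl⟩ : ∃ b', b = b' + 2 := ⟨b - 2, by omega⟩
      nlinarith
    have h6 : (u + b) * p ≤ u * (p * b) := by
      calc (u + b) * p ≤ (u * b) * p := Nat.mul_le_mul_right p h5
        _ = u * (p * b) := by ring
    have h7 : (2 * q + 1) * b ≤ p * b := Nat.mul_le_mul_right b h2q
    have h8 : 2 * p ≤ u * p := Nat.mul_le_mul_right p hu2
    have h9 : u * (p - 1) + u = u * p := by
      have : p - 1 + 1 = p := by omega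
      calc u * (p - 1) + u = u * (p - 1 + 1) := by ring
        _ = u * p := by rw [this]
    have h10 : 2 * (p - 1) ≤ u * (p - 1) := Nat.mul_le_mul_right (p - 1) hu2
    have h11 : (u + b) * p = u * p + b * p := by ring
    have h12 : (2 * q + 1) * b = 2 * (q * b) + b := by ring
    have h13 : p * b = b * p := by ring
    omega

end Cfsg.Agent.Lib.helper7.BR
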