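import Mathlib
import Cfsg.Prelude.Def_Characters
import Cfsg.Agent.Lib.helper7.BD.D1Defs
import Cfsg.Agent.Lib.helper7.PM2.Defs
import Cfsg.Agent.Lib.helper7.PM2.FrontDefs
import Cfsg.Agent.Lib.helper15.BH.BT4
import Cfsg.Agent.Lib.Helper27.BD3LAM
import Cfsg.Agent.Lib.Helper1.BD3FACTSaux

/-!
# Project PM2 (S4705), piece FR1 : `front_data` (the adapter to the theory of blocks of defect one)
-/

set_option autoImplicit false
set_option linter.unusedVariables false
set_option linter.unusedSectionVars false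
set_option linter.style.haveILetI false

namespace Cfsg.Agent.Lib.helper7.PM2

open Cfsg.Agent.Lib.helper7.BD
open scoped ComplexConjugate
open Cfsg.Agent.Lib.helper7 Cfsg.Agent.Lib.helper2 Cfsg.Agent.Lib.Helper25 Cfsg.Agent.Lib.Helper29
  Cfsg.Agent.Lib.helper15.BH

universe u

section front

variable {G : Type u} [Group G] [Fintype G] {p : ℕ} [Fact p.Prime] {P : Sylow p G}
  [Fintype ↥(Subgroup.centralizer ((P : Subgroup G) : Set G))]
  [Fintype ↥(Subgroup.normalizer ((P : Subgroup G) : Set G))]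
  {ζ : G → ℂ} {ε : ℤ} {a : ℕ} {Λ : ↥(Subgroup.centralizer ((P : Subgroup G) : Set G)) →* ℂˣ}
  {θ ξ : Cfsg.IrrCharacter ↥(Subgroup.centralizer ((P : Subgroup G) : Set G))}

/-- FR1 : the block of `ζ` has defect one, `ζ` is not of type `X`, and the values of `ζ` on the `p`-singular
elements of `C_G(P)` are given by `root_value_Y` -/
theorem front_data (P : Sylow p G) [Fintype ↥(Subgroup.centralizer ((P : Subgroup G) : Set G))]
    [Fintype ↥(Subgroup.normalizer ((P : Subgroup G) : Set G))] (hP : Nat.card P = p) (hp : 5 < p)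
    (ζ : G → ℂ) (hζ : Cfsg.IsIrrCharacter G ζ) (hfaith : ∀ g : G, ζ g = ζ 1 → g = 1)
    (hdeg : ζ 1 = (p : ℂ) - 2) :
    ∃ (ε : ℤ) (a : ℕ) (Λ : ↥(Subgroup.centralizer ((P : Subgroup G) : Set G)) →* ℂˣ)
      (θ ξ : Cfsg.IrrCharacter ↥(Subgroup.centralizer ((P : Subgroup G) : Set G))),
      FrontData p P ζ ε a Λ θ ξ := by
  classical
  have hpp : p.Prime := Fact.out
  haveI : Fintype (Cfsg.IrrCharacter G) := Fintype.ofFinite _
  obtain ⟨M, hM⟩ := exists_isPModular p hpp
  set χ : Cfsg.IrrCharacter G := ⟨ζ, hζ⟩ with hχdef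
  have hχζ : (χ : G → ℂ) = ζ := rfl
  have hld : leoDeg χ = p - 2 := by
    have h1 := leoDeg_spec χ
    rw [hχζ, hdeg] at h1
    have h2 : ((p - 2 : ℕ) : ℂ) = (p : ℂ) - 2 := by
      rw [Nat.cast_sub (by omega)]
      norm_num
    rw [← h2] at h1
    exact (Nat.cast_injective h1).symm
  have hB : Cfsg.IsPBlock M (Cfsg.blockOf M (χ : G → ℂ)) := ⟨χ, rfl⟩
  have hχB : χ ∈ Cfsg.blockOf M (χ : G → ℂ) := h7_sameBlock_refl hM.2.1.isPrime (χ : G → ℂ)
  have hd := bt4_defect_pos hM P hP χ (by omega)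
  obtain ⟨b, θ, T, h⟩ := bt4_root_exists_of_sylow hM P hP _ hB hd
  obtain ⟨t, r, X, y, ε, hr, hBXY, hdisj, hcardX, hyinj, hcardB, hεpm, hεy, hmX, hmY, hdegX, hdegY,
    hreg⟩ := root_main h
  have hχB' := hχB
  rw [hBXY] at hχB
  rcases hχB with hχX | ⟨j, hj⟩
  · exfalso
    have hall : ∀ x ∈ (P : Subgroup G), (χ : G → ℂ) x = (χ : G → ℂ) 1 :=
      small_not_X h r hr χ hχB' (ε χ) (hmX χ hχX) (by omega)
    have htriv : ∀ x ∈ (P : Subgroup G), x = 1 := fun x hx => hfaith x (hall x hx)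
    have hbot : (P : Subgroup G) = ⊥ := by
      rw [Subgroup.eq_bot_iff_forall]
      exact htriv
    have hc1 : Nat.card (P : Subgroup G) = 1 := by
      rw [hbot]
      exact Subgroup.card_bot
    have hP' : Nat.card (P : Subgroup G) = p := hP
    omega
  · obtain ⟨Λ, hΛ1, hΛ2, hΛ3⟩ := root_exists_Lambda P hP
    obtain ⟨a, hap, ha0, hval⟩ := bd3facts_param h Λ hΛ1 hΛ2 hΛ3 (r j) (hr.mem j)
    have hmul : ∀ j',
      Cfsg.classInner (r j' : ↥(Subgroup.centralizer ((P : Subgroup G) : Set G)) → ℂ)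
          (fun c : ↥(Subgroup.centralizer ((P : Subgroup G) : Set G)) => (χ : G → ℂ) (c : G)) -
        Cfsg.classInner (θ : ↥(Subgroup.centralizer ((P : Subgroup G) : Set G)) → ℂ)
          (fun c : ↥(Subgroup.centralizer ((P : Subgroup G) : Set G)) => (χ : G → ℂ) (c : G)) =
        if j = j' then ((ε χ : ℤ) : ℂ) else 0 := by
      intro j'
      have := hmY j j'
      rw [hj] at this
      exact this
    refine ⟨ε χ, a, Λ, θ, r j, ?_⟩
    exact
      { hε := hεpm χ
        ha0 := ha0 (hr.ne j)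
        hap := hap
        hΛ1 := hΛ1
        hΛ2 := hΛ2
        hΛ3 := hΛ3
        hθP := h.hθP
        hξ := hval
        hval := fun c hc => root_value_Y h r hr χ hχB' (ε χ) j hmul c hc }

end front

end Cfsg.Agent.Lib.helper7.PM2
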