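import Mathlib
import Cfsg.Prelude.Def_Characters
import Cfsg.Prelude.Def_Blocks
import Cfsg.Agent.Lib.Helper25.CharLinear
import Cfsg.Agent.Lib.Helper29.LeoOrbit
import Cfsg.Agent.Lib.helper7.BR.Defs
import Cfsg.Agent.Lib.helper7.BTCENT1
import Cfsg.Agent.Lib.helper7.BTCENT2
import Cfsg.Agent.Lib.helper23.PSLZCHI
import Cfsg.Agent.Lib.Helper21.BTFAITH

/-!
# Project BT3 (S4501), piece CEN3 : `cen_three` (backup by helper13)
-/

set_option autoImplicit false
set_option linter.unusedVariables false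
set_option linter.unusedSectionVars false
set_option linter.style.haveILetI false

namespace Cfsg.Agent.Lib.Helper13.BT3

open Classical
open scoped ComplexConjugate
open Cfsg.Agent.Lib.Helper25 Cfsg.Agent.Lib.Helper29
open Cfsg.Agent.Lib.helper7.BR

universe u

variable {G : Type u} [Group G] [Fintype G]

/-- the product of an element of order `3` with a commuting `3`-regular element is `3`-singular -/
theorem bt3cen3_singular (x c : G) (hx : orderOf x = 3) (hcomm : Commute x c) (hreg : ¬ 3 ∣ orderOf c) :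
    3 ∣ orderOf (x * c) := by
  have hcop : Nat.Coprime (orderOf x) (orderOf c) := by
    rw [hx]
    exact (Nat.Prime.coprime_iff_not_dvd Nat.prime_three).mpr hreg
  rw [hcomm.orderOf_mul_eq_mul_orderOf_of_coprime hcop, hx]
  exact dvd_mul_right 3 _

/-- CEN3 : `C_G(P) = P` for a Sylow `3`-subgroup of order `3`.  (BT piece CENT2 `cen_eq_of_pregular` reduces to: a
`3`-regular `c ∈ C_G(P)` is `1`.  As in BT piece CENT1 (`helper7/BTCENT1.lean`): `φ(c) = 3⁻¹ ∑_{x ∈ P} χ(x c)` is a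
character of `C_G(P)` (`helper7.PM2.proj_central_pow`, `μ = 1`) of degree `3⁻¹ ∑_{x ∈ P} χ(x) = 1`, so `|φ(c)| = 1`;
for `x ≠ 1` the element `x c` is `3`-singular, so `φ(c) = χ(c)/3`, `|χ(c)| = 3 = χ(1)`: `c` is central
(`helper15.PSL.center_of_norm_eq` / `Helper16.BTBURN`), and the centre of `G` is trivial.) -/
theorem cen_three [IsSimpleGroup G] (hnc : ¬ ∀ x y : G, x * y = y * x) (P : Sylow 3 G)
    (hP : Nat.card ↥(P : Subgroup G) = 3) (χ : Cfsg.IrrCharacter G) (hχ : leoDeg χ = 3)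
    (hvan : ∀ y : G, 3 ∣ orderOf y → (χ : G → ℂ) y = 0) : cen P = (P : Subgroup G) := by
  haveI : Fact (Nat.Prime 3) := ⟨Nat.prime_three⟩
  have hχ1 : (χ : G → ℂ) 1 = 3 := by
    rw [leoDeg_spec, hχ]; norm_num
  have hχne : χ ≠ trivIrr G := by
    intro h
    rw [h, trivIrr_apply] at hχ1
    norm_num at hχ1
  have hfaith : ∀ g : G, (χ : G → ℂ) g = (χ : G → ℂ) 1 → g = 1 :=
    fun g hg => Cfsg.Agent.Lib.Helper13.BT.faithful_of_simple χ hχne g hg
  -- the centre of `G` is trivial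
  have hcenter : Subgroup.center G = ⊥ := by
    rcases IsSimpleGroup.eq_bot_or_eq_top_of_normal (Subgroup.center G) inferInstance with h | h
    · exact h
    · exfalso
      apply hnc
      intro x y
      have hx : x ∈ Subgroup.center G := by rw [h]; exact Subgroup.mem_top x
      exact (Subgroup.mem_center_iff.mp hx y).symm
  apply Cfsg.Agent.Lib.Helper13.BT.cen_eq_of_pregular (p := 3) P hP
  intro c hc hreg
  -- a generator of `P`
  have hex : ∃ x0 ∈ (P : Subgroup G), x0 ≠ 1 := by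
    by_contra hcon
    push Not at hcon
    have hbot : (P : Subgroup G) = ⊥ := by
      rw [Subgroup.eq_bot_iff_forall]
      exact hcon
    rw [hbot] at hP
    simp at hP
  obtain ⟨x0, hx0P, hx01⟩ := hex
  have hordmem : ∀ x ∈ (P : Subgroup G), x ≠ 1 → orderOf x = 3 := by
    intro x hx hx1
    have h1 : orderOf x ∣ 3 := by
      have := Subgroup.orderOf_dvd_natCard (P : Subgroup G) hx
      rwa [hP] at this
    rcases (Nat.dvd_prime Nat.prime_three).mp h1 with h | h
    · exact absurd (orderOf_eq_one_iff.mp h) hx1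
    · exact h
  have hord : orderOf x0 = 3 := hordmem x0 hx0P hx01
  have hPle : (P : Subgroup G) ≤ cen P := Cfsg.Agent.Lib.Helper13.BT.btcent2_le_cen (p := 3) P hP
  set C : Subgroup G := cen P with hC
  set y : ↥C := ⟨x0, hPle hx0P⟩ with hy
  have hycen : y ∈ Subgroup.center ↥C := by
    rw [Subgroup.mem_center_iff]
    intro g
    apply Subtype.ext
    simp only [Subgroup.coe_mul]
    exact (Subgroup.mem_centralizer_iff.mp g.2) x0 hx0P |>.symm
  have hyp : y ^ 3 = 1 := by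
    apply Subtype.ext
    simp only [Subgroup.coe_pow, Subgroup.coe_one]
    rw [← hord, pow_orderOf_eq_one]
  have hθC : Cfsg.IsCharacter ↥C (fun h : ↥C => (χ : G → ℂ) (h : G)) :=
    Cfsg.Agent.Lib.helper2.isCharacter_restrict (Cfsg.Agent.Lib.helper2.isCharacter_of_irr χ) C
  have hφ := Cfsg.Agent.Lib.helper7.PM2.proj_central_pow hθC y hycen 3 (by norm_num) hyp 1 (one_pow 3)
  set φ : ↥C → ℂ := fun g => ((3 : ℕ) : ℂ)⁻¹ * ∑ m ∈ Finset.range 3,
    (1 : ℂ)⁻¹ ^ m * (χ : G → ℂ) ((y ^ m * g : ↥C) : G) with hφdef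
  have hφval : ∀ g : ↥C, φ g = (3 : ℂ)⁻¹ * ((χ : G → ℂ) (g : G) + (χ : G → ℂ) (x0 * (g : G)) +
      (χ : G → ℂ) (x0 ^ 2 * (g : G))) := by
    intro g
    rw [hφdef]
    simp only [inv_one, one_pow, one_mul, Subgroup.coe_mul, Subgroup.coe_pow, Finset.sum_range_succ,
      Finset.sum_range_zero, zero_add, pow_zero, pow_one]
    norm_num
    rfl
  -- `x0 ^ 2` also has order `3`
  have hx02P : x0 ^ 2 ∈ (P : Subgroup G) := Subgroup.pow_mem _ hx0P 2
  have hx02ne : x0 ^ 2 ≠ 1 := by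
    intro h1
    have h2 : orderOf x0 ∣ 2 := orderOf_dvd_of_pow_eq_one h1
    rw [hord] at h2
    norm_num at h2
  have hord2 : orderOf (x0 ^ 2) = 3 := hordmem _ hx02P hx02ne
  have hφ1 : φ 1 = 1 := by
    rw [hφval]
    simp only [Subgroup.coe_one, mul_one]
    rw [hχ1, hvan x0 (by rw [hord]), hvan (x0 ^ 2) (by rw [hord2])]
    norm_num
  set c' : ↥C := ⟨c, hc⟩ with hc'
  have hnorm := Cfsg.Agent.Lib.Helper13.BT.btcent1_linear_norm hφ hφ1 c'
  have hcomm1 : Commute x0 c := (Subgroup.mem_centralizer_iff.mp hc) x0 hx0P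
  have hcomm2 : Commute (x0 ^ 2) c := (Subgroup.mem_centralizer_iff.mp hc) (x0 ^ 2) hx02P
  have hφc : φ c' = (3 : ℂ)⁻¹ * (χ : G → ℂ) c := by
    rw [hφval]
    have hc'' : ((c' : ↥C) : G) = c := rfl
    rw [hc'', hvan (x0 * c) (bt3cen3_singular x0 c hord hcomm1 hreg),
      hvan (x0 ^ 2 * c) (bt3cen3_singular (x0 ^ 2) c hord2 hcomm2 hreg)]
    ring
  rw [hφc] at hnorm
  have hz : (χ : G → ℂ) c * conj ((χ : G → ℂ) c) = (χ : G → ℂ) 1 * (χ : G → ℂ) 1 := by
    rw [hχ1]
    have : conj ((3 : ℂ)⁻¹ * (χ : G → ℂ) c) = (3 : ℂ)⁻¹ * conj ((χ : G → ℂ) c) := by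
      rw [map_mul, map_inv₀]
      congr 2
      exact Complex.conj_ofNat 3
    rw [this] at hnorm
    linear_combination 9 * hnorm
  have hcz : c ∈ Subgroup.center G := Cfsg.Agent.Lib.helper15.PSL.center_of_norm_eq χ hfaith c hz
  rw [hcenter, Subgroup.mem_bot] at hcz
  exact hcz

end Cfsg.Agent.Lib.Helper13.BT3
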