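import Mathlib
import Cfsg.Prelude.Def_Characters
import Cfsg.Prelude.Def_Blocks
import Cfsg.Agent.Lib.Helper25.CharLinear
import Cfsg.Agent.Lib.Helper25.CharOrth
import Cfsg.Agent.Lib.Helper29.LeoOrbit
import Cfsg.Agent.Lib.helper7.BR.Defs
import Cfsg.Agent.Lib.helper4.BTINV
import Cfsg.Agent.Lib.helper8.BTXDEG

/-!
# Project BT3 (S4501), piece COL, core: `bt3col_core` = `three_chars` with the statement of INT3 as a hypothesis
-/

set_option autoImplicit false
set_option linter.unusedVariables false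
set_option linter.unusedSectionVars false
set_option linter.style.haveILetI false

namespace Cfsg.Agent.Lib.Helper13.BT3

open Classical
open scoped ComplexConjugate
open Cfsg.Agent.Lib.Helper25 Cfsg.Agent.Lib.Helper29
open Cfsg.Agent.Lib.helper7.BR

universe u

variable {G : Type u} [Group G] [Fintype G]

/-- the non-trivial elements of a group of order `3` are a generator and its inverse -/
theorem bt3col_two (P : Sylow 3 G) (hP : Nat.card ↥(P : Subgroup G) = 3) (x₀ : G)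
    (hx₀ : x₀ ∈ (P : Subgroup G)) (hx₀1 : x₀ ≠ 1) (x : G) (hx : x ∈ (P : Subgroup G)) (hx1 : x ≠ 1) :
    x = x₀ ∨ x = x₀⁻¹ := by
  haveI : Fact (Nat.Prime 3) := ⟨Nat.prime_three⟩
  have hord : orderOf x₀ = 3 := Cfsg.Agent.Lib.Helper13.BT.btxdeg_orderOf P hP x₀ hx₀ hx₀1
  have hz : Subgroup.zpowers x₀ = (P : Subgroup G) := by
    apply Subgroup.eq_of_le_of_card_ge
    · rw [Subgroup.zpowers_le]; exact hx₀
    · rw [Nat.card_zpowers, hord, hP]
  rw [← hz] at hx
  obtain ⟨k, hk⟩ := Subgroup.mem_zpowers_iff.mp hx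
  have hk' : x₀ ^ (k % 3) = x := by
    have := zpow_mod_orderOf x₀ k
    rw [hord] at this
    rw [← hk]; exact_mod_cast this
  have h3 : x₀ ^ (3 : ℕ) = 1 := by rw [← hord]; exact pow_orderOf_eq_one x₀
  have hk3 : k % 3 = 0 ∨ k % 3 = 1 ∨ k % 3 = 2 := by omega
  rcases hk3 with h | h | h
  · exfalso
    rw [h, zpow_zero] at hk'
    exact hx1 hk'.symm
  · left
    rw [h, zpow_one] at hk'
    exact hk'.symm
  · right
    rw [h] at hk'
    rw [← hk']
    have : x₀ ^ (2 : ℤ) * x₀ = 1 := by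
      have h2 : x₀ ^ (2 : ℤ) = x₀ ^ (2 : ℕ) := by norm_cast
      rw [h2, ← pow_succ]
      exact h3
    exact eq_inv_of_mul_eq_one_left this

theorem bt3col_core (P : Sylow 3 G) (hP : Nat.card ↥(P : Subgroup G) = 3)
    (hcen : cen P = (P : Subgroup G)) (t : G) (hinv : ∀ x ∈ (P : Subgroup G), t * x * t⁻¹ = x⁻¹)
    (hint : ∀ (ξ : Cfsg.IrrCharacter G) (x : G), x ∈ (P : Subgroup G) →
      ∃ v : ℤ, (ξ : G → ℂ) x = (v : ℂ) ∧ (3 : ℤ) ∣ (leoDeg ξ : ℤ) - v) :
    ∃ χ ψ : Cfsg.IrrCharacter G, χ ≠ trivIrr G ∧ ψ ≠ trivIrr G ∧ χ ≠ ψ ∧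
      (∀ x ∈ (P : Subgroup G), x ≠ 1 → (χ : G → ℂ) x = 1 ∧ (ψ : G → ℂ) x = -1 ∧
        ∀ ξ : Cfsg.IrrCharacter G, ξ ≠ trivIrr G → ξ ≠ χ → ξ ≠ ψ → (ξ : G → ℂ) x = 0) ∧
      leoDeg ψ = leoDeg χ + 1 ∧ (3 : ℤ) ∣ (leoDeg χ : ℤ) - 1 ∧
      ∀ g : G, ¬ 3 ∣ orderOf g → 1 + (χ : G → ℂ) g - (ψ : G → ℂ) g = 0 := by
  haveI : Fact (Nat.Prime 3) := ⟨Nat.prime_three⟩
  letI : Fintype (Cfsg.IrrCharacter G) := Fintype.ofFinite _
  obtain ⟨x₀, hx₀, hx₀1⟩ := Cfsg.Agent.Lib.Helper13.BT.btxdeg_exists P hP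
  have hord : orderOf x₀ = 3 := Cfsg.Agent.Lib.Helper13.BT.btxdeg_orderOf P hP x₀ hx₀ hx₀1
  -- the values at `x₀`
  choose v hv hv3 using fun ξ : Cfsg.IrrCharacter G => hint ξ x₀ hx₀
  have hvT : v (trivIrr G) = 1 := by
    have h := hv (trivIrr G)
    rw [trivIrr_apply] at h
    exact_mod_cast h.symm
  -- the values at every non-trivial element of `P`
  have hall : ∀ (ξ : Cfsg.IrrCharacter G) (x : G), x ∈ (P : Subgroup G) → x ≠ 1 →
      (ξ : G → ℂ) x = (v ξ : ℂ) := by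
    intro ξ x hx hx1
    rcases bt3col_two P hP x₀ hx₀ hx₀1 x hx hx1 with h | h
    · rw [h]; exact hv ξ
    · rw [h, ← hinv x₀ hx₀, irr_conj_invariant]; exact hv ξ
  -- `|C_G(x₀)| = 3`
  have hC : Nat.card ↥(Subgroup.centralizer ({x₀} : Set G)) = 3 := by
    have : Subgroup.centralizer ({x₀} : Set G) = cen P := by
      apply le_antisymm
      · intro g hg
        rw [Subgroup.mem_centralizer_iff] at hg
        exact Cfsg.Agent.Lib.Helper13.BT.btinv_mem_cen P hP hx₀ hx₀1 (hg x₀ rfl).symm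
      · intro g hg
        rw [Subgroup.mem_centralizer_iff] at hg ⊢
        intro y hy
        rw [Set.mem_singleton_iff] at hy
        rw [hy]
        exact hg x₀ hx₀
    rw [this, hcen, hP]
  -- column orthogonality at `(x₀, x₀)`
  have hcol := irr_column_orthogonality (G := G) x₀ x₀
  rw [if_pos (IsConj.refl x₀), hC] at hcol
  have hcol3 : ∑ ξ : Cfsg.IrrCharacter G, (ξ : G → ℂ) x₀ * conj ((ξ : G → ℂ) x₀) = 3 := by
    rw [hcol]; norm_num
  have hsq : ∑ ξ : Cfsg.IrrCharacter G, v ξ ^ 2 = 3 := by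
    have h : ((∑ ξ : Cfsg.IrrCharacter G, v ξ ^ 2 : ℤ) : ℂ) = 3 := by
      push_cast
      rw [← hcol3]
      apply Finset.sum_congr rfl
      intro ξ _
      rw [hv ξ, map_intCast, sq]
    exact_mod_cast h
  have hv1 : ∀ ξ : Cfsg.IrrCharacter G, v ξ = 0 ∨ v ξ = 1 ∨ v ξ = -1 := by
    intro ξ
    have h1 : v ξ ^ 2 ≤ 3 := by
      rw [← hsq]
      exact Finset.single_le_sum (f := fun i => v i ^ 2) (fun i _ => sq_nonneg (v i))
        (Finset.mem_univ ξ)
    have h2 : -1 ≤ v ξ ∧ v ξ ≤ 1 := by constructor <;> nlinarith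
    omega
  -- the support
  set S : Finset (Cfsg.IrrCharacter G) := Finset.univ.filter (fun ξ => v ξ ≠ 0) with hS
  have hScard : S.card = 3 := by
    have h1 : ∑ ξ : Cfsg.IrrCharacter G, v ξ ^ 2 = ∑ ξ : Cfsg.IrrCharacter G, if v ξ ≠ 0 then (1 : ℤ) else 0 := by
      apply Finset.sum_congr rfl
      intro ξ _
      rcases hv1 ξ with h | h | h <;> rw [h] <;> norm_num
    rw [h1, Finset.sum_boole] at hsq
    exact_mod_cast hsq
  have hTS : trivIrr G ∈ S := by
    rw [hS, Finset.mem_filter]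
    exact ⟨Finset.mem_univ _, by rw [hvT]; norm_num⟩
  have hTcard : (S.erase (trivIrr G)).card = 2 := by
    rw [Finset.card_erase_of_mem hTS, hScard]
  obtain ⟨χ₁, χ₂, hne12, hT12⟩ := Finset.card_eq_two.mp hTcard
  have hmem1 : χ₁ ∈ S.erase (trivIrr G) := by rw [hT12]; simp
  have hmem2 : χ₂ ∈ S.erase (trivIrr G) := by rw [hT12]; simp
  obtain ⟨h1T, h1S⟩ := Finset.mem_erase.mp hmem1
  obtain ⟨h2T, h2S⟩ := Finset.mem_erase.mp hmem2
  have hv10 : v χ₁ ≠ 0 := (Finset.mem_filter.mp h1S).2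
  have hv20 : v χ₂ ≠ 0 := (Finset.mem_filter.mp h2S).2
  have hout : ∀ ξ : Cfsg.IrrCharacter G, ξ ≠ trivIrr G → ξ ≠ χ₁ → ξ ≠ χ₂ → v ξ = 0 := by
    intro ξ h0 h1 h2
    by_contra hne
    have hξS : ξ ∈ S := by rw [hS, Finset.mem_filter]; exact ⟨Finset.mem_univ _, hne⟩
    have : ξ ∈ S.erase (trivIrr G) := Finset.mem_erase.mpr ⟨h0, hξS⟩
    rw [hT12] at this
    simp only [Finset.mem_insert, Finset.mem_singleton] at this
    rcases this with h | h
    · exact h1 h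
    · exact h2 h
  -- sums against the column of `x₀`
  have hsum : ∀ F : Cfsg.IrrCharacter G → ℂ,
      ∑ ξ : Cfsg.IrrCharacter G, F ξ * (v ξ : ℂ) =
        F (trivIrr G) + F χ₁ * (v χ₁ : ℂ) + F χ₂ * (v χ₂ : ℂ) := by
    intro F
    have hsub : ({trivIrr G, χ₁, χ₂} : Finset (Cfsg.IrrCharacter G)) ⊆ Finset.univ :=
      Finset.subset_univ _
    rw [← Finset.sum_subset hsub]
    · rw [Finset.sum_insert, Finset.sum_pair hne12, hvT]
      · push_cast; ring
      · simp only [Finset.mem_insert, Finset.mem_singleton, not_or]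
        exact ⟨fun h => h1T h.symm, fun h => h2T h.symm⟩
    · intro ξ _ hξ
      simp only [Finset.mem_insert, Finset.mem_singleton, not_or] at hξ
      rw [hout ξ hξ.1 hξ.2.1 hξ.2.2]
      simp
  have hcolg : ∀ g : G, ¬ IsConj x₀ g →
      (trivIrr G : G → ℂ) g + (χ₁ : G → ℂ) g * (v χ₁ : ℂ) + (χ₂ : G → ℂ) g * (v χ₂ : ℂ) = 0 := by
    intro g hg
    have h := irr_column_orthogonality (G := G) g x₀
    rw [if_neg hg] at h
    rw [← hsum (fun ξ => (ξ : G → ℂ) g), ← h]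
    apply Finset.sum_congr rfl
    intro ξ _
    rw [hv ξ, map_intCast]
  -- at `g = 1`
  have hnc1 : ¬ IsConj x₀ (1 : G) := by
    intro h
    exact hx₀1 (isConj_one_left.mp h)
  have hone := hcolg 1 hnc1
  rw [trivIrr_apply, leoDeg_spec, leoDeg_spec] at hone
  have hone' : (1 : ℤ) + (leoDeg χ₁ : ℤ) * v χ₁ + (leoDeg χ₂ : ℤ) * v χ₂ = 0 := by
    exact_mod_cast hone
  have hd1 : 0 < (leoDeg χ₁ : ℤ) := by exact_mod_cast leoDeg_pos χ₁
  have hd2 : 0 < (leoDeg χ₂ : ℤ) := by exact_mod_cast leoDeg_pos χ₂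
  -- 3-regular elements are not conjugate to `x₀`
  have hreg : ∀ g : G, ¬ 3 ∣ orderOf g → ¬ IsConj x₀ g := by
    intro g hg hc
    obtain ⟨c, hc⟩ := isConj_iff.mp hc
    have h1 : orderOf g = orderOf x₀ := by
      rw [← hc]
      have := MulEquiv.orderOf_eq (MulAut.conj c) x₀
      rwa [MulAut.conj_apply] at this
    rw [h1, hord] at hg
    exact hg (dvd_refl 3)
  -- the signs
  rcases hv1 χ₁ with h1 | h1 | h1
  · exact absurd h1 hv10
  · rcases hv1 χ₂ with h2 | h2 | h2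
    · exact absurd h2 hv20
    · exfalso
      rw [h1, h2] at hone'
      omega
    · -- `χ = χ₁`, `ψ = χ₂`
      refine ⟨χ₁, χ₂, h1T, h2T, hne12, ?_, ?_, ?_, ?_⟩
      · intro x hx hx1
        refine ⟨?_, ?_, ?_⟩
        · rw [hall χ₁ x hx hx1, h1]; norm_num
        · rw [hall χ₂ x hx hx1, h2]; norm_num
        · intro ξ h0 h1' h2'
          rw [hall ξ x hx hx1, hout ξ h0 h1' h2']; norm_num
      · rw [h1, h2] at hone'
        have : (leoDeg χ₂ : ℤ) = (leoDeg χ₁ : ℤ) + 1 := by linarith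
        exact_mod_cast this
      · have := hv3 χ₁
        rwa [h1] at this
      · intro g hg
        have := hcolg g (hreg g hg)
        rw [trivIrr_apply, h1, h2] at this
        push_cast at this
        linear_combination this
  · rcases hv1 χ₂ with h2 | h2 | h2
    · exact absurd h2 hv20
    · -- `χ = χ₂`, `ψ = χ₁`
      refine ⟨χ₂, χ₁, h2T, h1T, hne12.symm, ?_, ?_, ?_, ?_⟩
      · intro x hx hx1
        refine ⟨?_, ?_, ?_⟩
        · rw [hall χ₂ x hx hx1, h2]; norm_num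
        · rw [hall χ₁ x hx hx1, h1]; norm_num
        · intro ξ h0 h1' h2'
          rw [hall ξ x hx hx1, hout ξ h0 h2' h1']; norm_num
      · rw [h1, h2] at hone'
        have : (leoDeg χ₁ : ℤ) = (leoDeg χ₂ : ℤ) + 1 := by linarith
        exact_mod_cast this
      · have := hv3 χ₂
        rwa [h2] at this
      · intro g hg
        have := hcolg g (hreg g hg)
        rw [trivIrr_apply, h1, h2] at this
        push_cast at this
        linear_combination this
    · exfalso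
      rw [h1, h2] at hone'
      have : (leoDeg χ₁ : ℤ) + (leoDeg χ₂ : ℤ) = 1 := by linarith
      omega

end Cfsg.Agent.Lib.Helper13.BT3
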