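import Mathlib
import Cfsg.Prelude.Def_Characters
import Cfsg.Prelude.Def_Blocks
import Cfsg.Agent.Lib.Helper25.CharLinear
import Cfsg.Agent.Lib.Helper29.LeoOrbit
import Cfsg.Agent.Lib.helper7.BR.Defs
import Cfsg.Agent.Lib.Helper13.BT3COLcore
import Cfsg.Agent.Lib.Helper29.BT3INT3

/-!
# Project BT3 (S4501), piece COL : `three_chars` (wrapper: `bt3col_core` with helper29's `int_values`)
-/

set_option autoImplicit false
set_option linter.unusedVariables false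
set_option linter.unusedSectionVars false

namespace Cfsg.Agent.Lib.Helper13.BT3

open Classical
open scoped ComplexConjugate
open Cfsg.Agent.Lib.Helper25 Cfsg.Agent.Lib.Helper29
open Cfsg.Agent.Lib.helper7.BR

universe u

variable {G : Type u} [Group G] [Fintype G]

/-- COL : column orthogonality at `x ∈ P ∖ 1` (`|C_G(x)| = 3`, integer values: INT3): exactly three irreducible
characters `1, χ, ψ` do not vanish at `x`, with values `1, 1, -1`; `ψ(1) = χ(1) + 1`, `χ(1) ≡ 1 (mod 3)`, and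
`1 + χ(g) - ψ(g) = 0` for the `3`-regular `g`.  (`∑_ξ |ξ(x)|² = |C_G(x)| = 3` (`irr_column_orthogonality`), so three
values `± 1`; `x⁻¹ = t x t⁻¹` has the same values; orthogonality of the columns of `x` and of `g` not conjugate to `x`
(`g = 1`, `g` `3`-regular): `1 + δ₁ χ(g) + δ₂ ψ(g) = 0`; at `g = 1` with `ξ(1) ≡ ξ(x) (mod 3)`, degrees `≥ 1`: the signs
are `+, -` and `ψ(1) = χ(1) + 1`.) -/
theorem three_chars (P : Sylow 3 G) (hP : Nat.card ↥(P : Subgroup G) = 3)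
    (hcen : cen P = (P : Subgroup G)) (t : G) (hinv : ∀ x ∈ (P : Subgroup G), t * x * t⁻¹ = x⁻¹) :
    ∃ χ ψ : Cfsg.IrrCharacter G, χ ≠ trivIrr G ∧ ψ ≠ trivIrr G ∧ χ ≠ ψ ∧
      (∀ x ∈ (P : Subgroup G), x ≠ 1 → (χ : G → ℂ) x = 1 ∧ (ψ : G → ℂ) x = -1 ∧
        ∀ ξ : Cfsg.IrrCharacter G, ξ ≠ trivIrr G → ξ ≠ χ → ξ ≠ ψ → (ξ : G → ℂ) x = 0) ∧
      leoDeg ψ = leoDeg χ + 1 ∧ (3 : ℤ) ∣ (leoDeg χ : ℤ) - 1 ∧
      ∀ g : G, ¬ 3 ∣ orderOf g → 1 + (χ : G → ℂ) g - (ψ : G → ℂ) g = 0 :=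
  bt3col_core P hP hcen t hinv (fun ξ x hx => int_values P hP t hinv ξ x hx)

end Cfsg.Agent.Lib.Helper13.BT3
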