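import Mathlib
import Cfsg.Prelude.Def_Characters
import Cfsg.Prelude.Def_Blocks
import Cfsg.Agent.Lib.Helper25.CharLinear
import Cfsg.Agent.Lib.Helper25.CharOrth
import Cfsg.Agent.Lib.Helper29.LeoOrbit
import Cfsg.Agent.Lib.helper7.BR.Defs
import Cfsg.Agent.Lib.helper4.BTCNT
import Cfsg.Agent.Lib.helper6.BTCLS
import Cfsg.Agent.Lib.helper8.BTXDEG
import Cfsg.Agent.Lib.Helper24.AF3Key
import Cfsg.Agent.S0840

/-!
# Project BT3 (S4501), piece FORM : `order_formula`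
-/

set_option autoImplicit false
set_option linter.unusedVariables false
set_option linter.unusedSectionVars false
set_option linter.style.haveILetI false

namespace Cfsg.Agent.Lib.Helper13.BT3

open Classical
open scoped ComplexConjugate
open Cfsg.Agent.Lib.Helper25 Cfsg.Agent.Lib.Helper29
open Cfsg.Agent.Lib.helper7.BR

universe u

variable {G : Type u} [Group G] [Fintype G]

/-- FORM : `|G| (m - u)² = 3 |C_G(t)|² m (m + 1)` with `m = χ(1)`, `u = χ(t) ∈ ℤ`.  (BT piece CNT `count_pairs` (valid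
for `p = 3`): `a(t,t,x) = 3`; S0840 and BT piece CLS: `3 |C_G(t)|² = |G| ∑_ξ ξ(t)² conj ξ(x)/ξ(1)`; only `1, χ, ψ`
contribute: `1 + u²/m - (1+u)²/(m+1) = (m-u)²/(m(m+1))`, with `ψ(t) = 1 + u` (`hrel` at `t`, which has order `2`) and
`u ∈ ℤ` (`Helper24.af3_invol_int`).) -/
theorem order_formula (P : Sylow 3 G) (hP : Nat.card ↥(P : Subgroup G) = 3)
    (hcen : cen P = (P : Subgroup G)) (t : G) (ht1 : t ≠ 1) (ht2 : t * t = 1)
    (hinv : ∀ x ∈ (P : Subgroup G), t * x * t⁻¹ = x⁻¹) (χ ψ : Cfsg.IrrCharacter G)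
    (hχ1 : χ ≠ trivIrr G) (hψ1 : ψ ≠ trivIrr G) (hχψ : χ ≠ ψ)
    (hval : ∀ x ∈ (P : Subgroup G), x ≠ 1 → (χ : G → ℂ) x = 1 ∧ (ψ : G → ℂ) x = -1 ∧
      ∀ ξ : Cfsg.IrrCharacter G, ξ ≠ trivIrr G → ξ ≠ χ → ξ ≠ ψ → (ξ : G → ℂ) x = 0)
    (hdeg : leoDeg ψ = leoDeg χ + 1)
    (hrel : ∀ g : G, ¬ 3 ∣ orderOf g → 1 + (χ : G → ℂ) g - (ψ : G → ℂ) g = 0) :
    ∃ u : ℤ, (χ : G → ℂ) t = (u : ℂ) ∧
      (Nat.card G : ℤ) * ((leoDeg χ : ℤ) - u) ^ 2 =
        3 * (Nat.card ↥(Subgroup.centralizer ({t} : Set G)) : ℤ) ^ 2 * (leoDeg χ : ℤ) *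
          ((leoDeg χ : ℤ) + 1) := by
  haveI : Fact (Nat.Prime 3) := ⟨Nat.prime_three⟩
  letI : Fintype (Cfsg.IrrCharacter G) := Fintype.ofFinite _
  obtain ⟨x₀, hx₀, hx₀1⟩ := Cfsg.Agent.Lib.Helper13.BT.btxdeg_exists P hP
  obtain ⟨hχx, hψx, hrest⟩ := hval x₀ hx₀ hx₀1
  -- `t` has order 2
  have hord : orderOf t = 2 := orderOf_eq_prime (by rw [pow_two]; exact ht2) ht1
  have hreg : ¬ 3 ∣ orderOf t := by rw [hord]; norm_num
  obtain ⟨u, hu⟩ := Cfsg.Agent.Lib.Helper24.af3_invol_int χ t hord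
  refine ⟨u, hu, ?_⟩
  have hψt : (ψ : G → ℂ) t = 1 + (u : ℂ) := by
    have := hrel t hreg
    rw [hu] at this
    linear_combination -this
  -- the count and S0840
  have hcnt := (Cfsg.Agent.Lib.Helper13.BT.count_pairs (p := 3) (by decide) P hP hcen t ht1 ht2 hinv
    x₀ hx₀ hx₀1).1
  have h840 := Cfsg.Agent.S0840.result t t x₀
  rw [hcnt] at h840
  have hcls := Cfsg.Agent.Lib.Helper13.BT.card_conj_class t
  set c := Nat.card ↥(Subgroup.centralizer ({t} : Set G)) with hc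
  set k := Nat.card {x : G // IsConj t x} with hk
  set m := leoDeg χ with hm
  -- the character sum
  have hsum : ∑ᶠ ξ : Cfsg.IrrCharacter G,
      (ξ : G → ℂ) t * (ξ : G → ℂ) t * conj ((ξ : G → ℂ) x₀) / (ξ : G → ℂ) 1 =
      1 + (u : ℂ) * (u : ℂ) / (m : ℂ) - (1 + (u : ℂ)) * (1 + (u : ℂ)) / ((m : ℂ) + 1) := by
    rw [finsum_eq_sum_of_fintype]
    have hsub : ({trivIrr G, χ, ψ} : Finset (Cfsg.IrrCharacter G)) ⊆ Finset.univ :=
      Finset.subset_univ _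
    rw [← Finset.sum_subset hsub]
    · rw [Finset.sum_insert, Finset.sum_pair hχψ]
      · rw [trivIrr_apply, trivIrr_apply, trivIrr_apply, hχx, hψx, hu, hψt, leoDeg_spec, leoDeg_spec,
          hdeg]
        simp only [map_one, map_neg]
        push_cast
        rw [← hm]
        ring
      · simp only [Finset.mem_insert, Finset.mem_singleton, not_or]
        exact ⟨fun h => hχ1 h.symm, fun h => hψ1 h.symm⟩
    · intro ξ _ hξ
      simp only [Finset.mem_insert, Finset.mem_singleton, not_or] at hξ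
      rw [hrest ξ hξ.1 hξ.2.1 hξ.2.2, map_zero, mul_zero, zero_div]
  rw [hsum] at h840
  -- algebra
  have hGpos : (0 : ℂ) ≠ (Nat.card G : ℂ) := by
    have : 0 < Nat.card G := Nat.card_pos
    exact_mod_cast this.ne
  have hcpos : (c : ℂ) ≠ 0 := by
    have : 0 < c := Nat.card_pos
    exact_mod_cast this.ne'
  have hmpos : (m : ℂ) ≠ 0 := by
    have : 0 < m := leoDeg_pos χ
    exact_mod_cast this.ne'
  have hm1pos : (m : ℂ) + 1 ≠ 0 := by
    have : ((m + 1 : ℕ) : ℂ) ≠ 0 := by exact_mod_cast (Nat.succ_ne_zero m)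
    simpa using this
  have hkc : (k : ℂ) * (c : ℂ) = (Nat.card G : ℂ) := by exact_mod_cast hcls
  have hk' : (k : ℂ) = (Nat.card G : ℂ) / (c : ℂ) := by
    rw [← hkc]; field_simp
  have hmain : ((Nat.card G : ℂ)) * ((m : ℂ) - (u : ℂ)) ^ 2 =
      3 * (c : ℂ) ^ 2 * (m : ℂ) * ((m : ℂ) + 1) := by
    rw [hk'] at h840
    have h3 : ((3 : ℕ) : ℂ) = 3 := by norm_num
    rw [h3] at h840
    have hG0 : (Nat.card G : ℂ) ≠ 0 := fun h => hGpos h.symm
    field_simp at h840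
    linear_combination -h840
  exact_mod_cast hmain

end Cfsg.Agent.Lib.Helper13.BT3
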