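import Mathlib
import Cfsg.Prelude.Def_Characters
import Cfsg.Prelude.Def_Blocks
import Cfsg.Agent.Lib.Helper25.CharLinear
import Cfsg.Agent.Lib.Helper29.LeoOrbit
import Cfsg.Agent.Lib.helper7.BR.Defs
import Cfsg.Agent.Lib.helper7.BlockInd2
import Cfsg.Agent.Lib.helper2.PModular2

/-!
# Project BT3 (S4501), piece VAN3 : `deg_three_vanish`
-/

set_option autoImplicit false
set_option linter.unusedVariables false
set_option linter.unusedSectionVars false

namespace Cfsg.Agent.Lib.Helper13.BT3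

open Classical
open scoped ComplexConjugate
open Cfsg.Agent.Lib.Helper25 Cfsg.Agent.Lib.Helper29
open Cfsg.Agent.Lib.helper7.BR

universe u

variable {G : Type u} [Group G] [Fintype G]

theorem bt3van3_charDegree (χ : Cfsg.IrrCharacter G) :
    Cfsg.charDegree (χ : G → ℂ) = leoDeg χ := by
  unfold Cfsg.charDegree
  rw [leoDeg_spec]
  simp

/-- VAN3 : a character of degree `3` vanishes on the `3`-singular elements when `9 ∤ |G|`
(`helper7.h7_defect_zero_vanish` with an ideal from `helper2.exists_isPModular`) -/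
theorem deg_three_vanish (χ : Cfsg.IrrCharacter G) (hχ : leoDeg χ = 3) (h9 : ¬ 9 ∣ Nat.card G)
    (y : G) (hy : 3 ∣ orderOf y) : (χ : G → ℂ) y = 0 := by
  haveI : Fact (Nat.Prime 3) := ⟨Nat.prime_three⟩
  letI : Fintype (Cfsg.IrrCharacter G) := Fintype.ofFinite _
  obtain ⟨M, hM⟩ := Cfsg.Agent.Lib.helper2.exists_isPModular 3 Nat.prime_three
  have h3G : 3 ∣ Nat.card G := dvd_trans hy (orderOf_dvd_natCard y)
  refine Cfsg.Agent.Lib.helper7.h7_defect_zero_vanish (p := 3) hM χ ?_ y hy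
  rw [bt3van3_charDegree, hχ]
  intro h
  apply h9
  obtain ⟨k, hk⟩ := h3G
  rw [hk] at h ⊢
  rw [Nat.mul_div_cancel_left _ (by norm_num : 0 < 3)] at h
  obtain ⟨l, hl⟩ := h
  exact ⟨l, by rw [hl]; ring⟩

end Cfsg.Agent.Lib.Helper13.BT3
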