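import Mathlib
import Cfsg.Prelude.Def_Characters
import Cfsg.Prelude.Def_Blocks
import Cfsg.Prelude.Def_Local
import Cfsg.Agent.Lib.Helper25.CharLinear
import Cfsg.Agent.Lib.Helper24.KleinOrder1

/-!
# Project BT3 (S4501), PART 1, piece P1-MINUS : the Diophantine system for `ε = -1`
-/

set_option autoImplicit false
set_option linter.unusedVariables false
set_option linter.unusedSectionVars false

namespace Cfsg.Agent.Lib.Helper13.BT3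

open Classical
open scoped ComplexConjugate
open Cfsg.Agent.Lib.Helper25 Cfsg.Agent.Lib.Helper24

universe u

/-- a power of `3` is `1`, `3` or a multiple of `9` -/
theorem bt3p1minus_pow3 (n k : ℕ) (h : n = 3 ^ k) : n = 1 ∨ n = 3 ∨ 9 ∣ n := by
  subst h
  rcases k with _ | _ | k
  · left; simp
  · right; left; simp
  · right; right
    exact ⟨3 ^ k, by rw [pow_succ, pow_succ]; ring⟩

/-- a power of `r ≥ 5` is `1` or a multiple of `r` which is `≥ 5` -/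
theorem bt3p1minus_powr (r : ℕ) (hr5 : 5 ≤ r) (n k : ℕ) (h : n = r ^ k) : n = 1 ∨ (r ∣ n ∧ 5 ≤ n) := by
  subst h
  rcases k with _ | k
  · left; simp
  · right
    refine ⟨⟨r ^ k, by rw [pow_succ]; ring⟩, ?_⟩
    calc 5 ≤ r := hr5
      _ = r ^ 1 := (pow_one r).symm
      _ ≤ r ^ (k + 1) := Nat.pow_le_pow_right (by omega) (by omega)

/-- the normal form of a pair `(x, y)` -/
theorem bt3p1minus_pair (r : ℕ) (hr5 : 5 ≤ r) (x y : ℕ) (hx : 2 ≤ x)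
    (p : (∃ α β : ℕ, x = 3 ^ α ∧ y = r ^ β) ∨ (∃ α β : ℕ, x = r ^ α ∧ y = 3 ^ β)) :
    ((x = 3 ∨ 9 ∣ x) ∧ (y = 1 ∨ (r ∣ y ∧ 5 ≤ y))) ∨ ((r ∣ x ∧ 5 ≤ x) ∧ (y = 1 ∨ y = 3 ∨ 9 ∣ y)) := by
  rcases p with ⟨α, β, hα, hβ⟩ | ⟨α, β, hα, hβ⟩
  · left
    refine ⟨?_, bt3p1minus_powr r hr5 y β hβ⟩
    rcases bt3p1minus_pow3 x α hα with h | h | h
    · omega
    · exact Or.inl h
    · exact Or.inr h
  · right
    refine ⟨?_, bt3p1minus_pow3 y β hβ⟩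
    rcases bt3p1minus_powr r hr5 x α hα with h | h
    · omega
    · exact h

/-- `r ≥ 5` does not divide a difference `c ∈ {1,2,3,4}` of two multiples of `r` -/
theorem bt3p1minus_no (r : ℕ) (hr5 : 5 ≤ r) (A B c : ℕ) (hc : 0 < c) (hc5 : c < 5) (hA : r ∣ A) (hB : r ∣ B)
    (h : A = B + c) : False := by
  have h1 : r ∣ c := (Nat.dvd_add_right hB).mp (h ▸ hA)
  have := Nat.le_of_dvd hc h1
  omega

/-- P1-MINUS : the Diophantine system for `ε = -1`: `x₂ = 2y₂ - 1`, `x₃ = 2y₃ + 1`, `x₄ = 2y₄ + 1`, `y₂ = y₃ + y₄ + 1`,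
each pair (`xᵢ`,`yᵢ`) = (`3^α`,`r^β`) or (`r^α`,`3^β`)  ⟹  `(x₂;x₃,x₄) = (5;3,3)`.
(`y₃ = y₄ = 1`: `y₂ = 3 = 3^β` (not `r^β`), `x₂ = 5`.  `y₃ = 1 < y₄` (sym.): `y₄ = r^β`: `y₂ = r^β + 2` is not a power of `r`
(`r ∤ 2`), so `y₂ = 3^γ`, `x₄ = 3^α = 2r^β + 1 = 2·3^γ - 3`, mod 3 / mod 9: impossible; `y₄ = 3^β`: `y₂ = 3^β + 2 = r^γ`,
`x₄ = r^α = 2·3^β + 1 = 2r^γ - 3`, so `r ∣ 3`.  `y₃, y₄ > 1`: (r,r): `y₂ ≡ 1 (r)` so `y₂ = 3^γ`, `x₂ = r^δ = 2r^b + 2r^c + 1`, `r ∣ 1`;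
(r,3): `x₃ = 3^α = 2r^b + 1` gives `r^b ≡ 1 (3)`, `y₂ = r^b + 3^c + 1 ≡ 2 (3)` so `y₂ = r^γ`, `r ∣ 3^c + 1`, and `x₄ = r^· = 2·3^c + 1`
gives `r ∣ 2·3^c + 1`, so `r ∣ 1`; (3,3): `y₂ ≡ 1 (3)`, `y₂ = r^γ`, `x₂ = 3^δ = 2·3^b + 2·3^c + 1`, `3 ∣ 1`.) -/
theorem p1_minus (r : ℕ) (hr : r.Prime) (hr5 : 5 ≤ r) (x₂ x₃ x₄ y₂ y₃ y₄ : ℕ)
    (h2 : 2 ≤ x₂) (h3 : 2 ≤ x₃) (h4 : 2 ≤ x₄)
    (e2 : x₂ + 1 = 2 * y₂) (e3 : x₃ = 2 * y₃ + 1) (e4 : x₄ = 2 * y₄ + 1) (hrel : y₂ = y₃ + y₄ + 1)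
    (p2 : (∃ α β : ℕ, x₂ = 3 ^ α ∧ y₂ = r ^ β) ∨ (∃ α β : ℕ, x₂ = r ^ α ∧ y₂ = 3 ^ β))
    (p3 : (∃ α β : ℕ, x₃ = 3 ^ α ∧ y₃ = r ^ β) ∨ (∃ α β : ℕ, x₃ = r ^ α ∧ y₃ = 3 ^ β))
    (p4 : (∃ α β : ℕ, x₄ = 3 ^ α ∧ y₄ = r ^ β) ∨ (∃ α β : ℕ, x₄ = r ^ α ∧ y₄ = 3 ^ β)) :
    x₂ = 5 ∧ x₃ = 3 ∧ x₄ = 3 := by
  have d0 : r ∣ 0 := dvd_zero r
  rcases bt3p1minus_pair r hr5 x₂ y₂ h2 p2 with ⟨X2, Y2⟩ | ⟨X2, Y2⟩ <;>
  rcases bt3p1minus_pair r hr5 x₃ y₃ h3 p3 with ⟨X3, Y3⟩ | ⟨X3, Y3⟩ <;>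
  rcases bt3p1minus_pair r hr5 x₄ y₄ h4 p4 with ⟨X4, Y4⟩ | ⟨X4, Y4⟩
  · -- (T3, T3, T3)
    exfalso
    rcases Y2 with Y2 | ⟨Y2, -⟩
    · omega
    rcases Y3 with Y3 | ⟨Y3, -⟩ <;> rcases Y4 with Y4 | ⟨Y4, -⟩
    · exact bt3p1minus_no r hr5 y₂ 0 3 (by norm_num) (by norm_num) Y2 d0 (by omega)
    · exact bt3p1minus_no r hr5 y₂ y₄ 2 (by norm_num) (by norm_num) Y2 Y4 (by omega)
    · exact bt3p1minus_no r hr5 y₂ y₃ 2 (by norm_num) (by norm_num) Y2 Y3 (by omega)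
    · exact bt3p1minus_no r hr5 y₂ (y₃ + y₄) 1 (by norm_num) (by norm_num) Y2 (dvd_add Y3 Y4) (by omega)
  · -- (T3, T3, Tr)
    exfalso
    rcases Y2 with Y2 | ⟨Y2, -⟩
    · omega
    obtain ⟨X4, -⟩ := X4
    rcases Y4 with Y4 | Y4
    · exact bt3p1minus_no r hr5 x₄ 0 3 (by norm_num) (by norm_num) X4 d0 (by omega)
    rcases Y3 with Y3 | ⟨Y3, -⟩
    · exact bt3p1minus_no r hr5 (2 * y₂) x₄ 3 (by norm_num) (by norm_num) (Y2.mul_left 2) X4 (by omega)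
    · exact bt3p1minus_no r hr5 (2 * y₂) (2 * y₃ + x₄) 1 (by norm_num) (by norm_num) (Y2.mul_left 2)
        (dvd_add (Y3.mul_left 2) X4) (by omega)
  · -- (T3, Tr, T3)
    exfalso
    rcases Y2 with Y2 | ⟨Y2, -⟩
    · omega
    obtain ⟨X3, -⟩ := X3
    rcases Y3 with Y3 | Y3
    · exact bt3p1minus_no r hr5 x₃ 0 3 (by norm_num) (by norm_num) X3 d0 (by omega)
    rcases Y4 with Y4 | ⟨Y4, -⟩
    · exact bt3p1minus_no r hr5 (2 * y₂) x₃ 3 (by norm_num) (by norm_num) (Y2.mul_left 2) X3 (by omega)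
    · exact bt3p1minus_no r hr5 (2 * y₂) (2 * y₄ + x₃) 1 (by norm_num) (by norm_num) (Y2.mul_left 2)
        (dvd_add (Y4.mul_left 2) X3) (by omega)
  · -- (T3, Tr, Tr)
    exfalso
    obtain ⟨X3, -⟩ := X3
    obtain ⟨X4, -⟩ := X4
    rcases Y3 with Y3 | Y3
    · exact bt3p1minus_no r hr5 x₃ 0 3 (by norm_num) (by norm_num) X3 d0 (by omega)
    rcases Y4 with Y4 | Y4
    · exact bt3p1minus_no r hr5 x₄ 0 3 (by norm_num) (by norm_num) X4 d0 (by omega)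
    omega
  · -- (Tr, T3, T3)
    obtain ⟨X2, -⟩ := X2
    rcases Y3 with Y3 | ⟨Y3, Y3'⟩ <;> rcases Y4 with Y4 | ⟨Y4, Y4'⟩
    · omega
    · exfalso; omega
    · exfalso; omega
    · exfalso
      exact bt3p1minus_no r hr5 x₂ (2 * y₃ + 2 * y₄) 1 (by norm_num) (by norm_num) X2
        (dvd_add (Y3.mul_left 2) (Y4.mul_left 2)) (by omega)
  · -- (Tr, T3, Tr)
    exfalso
    obtain ⟨X4, -⟩ := X4
    rcases Y4 with Y4 | Y4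
    · exact bt3p1minus_no r hr5 x₄ 0 3 (by norm_num) (by norm_num) X4 d0 (by omega)
    rcases Y3 with Y3 | ⟨Y3, -⟩
    · omega
    · omega
  · -- (Tr, Tr, T3)
    exfalso
    obtain ⟨X3, -⟩ := X3
    rcases Y3 with Y3 | Y3
    · exact bt3p1minus_no r hr5 x₃ 0 3 (by norm_num) (by norm_num) X3 d0 (by omega)
    rcases Y4 with Y4 | ⟨Y4, -⟩
    · omega
    · omega
  · -- (Tr, Tr, Tr)
    exfalso
    obtain ⟨X3, -⟩ := X3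
    obtain ⟨X4, -⟩ := X4
    rcases Y3 with Y3 | Y3
    · exact bt3p1minus_no r hr5 x₃ 0 3 (by norm_num) (by norm_num) X3 d0 (by omega)
    rcases Y4 with Y4 | Y4
    · exact bt3p1minus_no r hr5 x₄ 0 3 (by norm_num) (by norm_num) X4 d0 (by omega)
    omega

end Cfsg.Agent.Lib.Helper13.BT3
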