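import Mathlib
import Cfsg.Prelude.Def_Characters
import Cfsg.Prelude.Def_Blocks
import Cfsg.Prelude.Def_Local
import Cfsg.Agent.Lib.Helper25.CharLinear
import Cfsg.Agent.Lib.Helper24.KleinOrder1
import Cfsg.Agent.Lib.Helper13.BT3P1MINUS

/-!
# Project BT3 (S4501), PART 1, piece P1-PLUS : the Diophantine system for `ε = +1` has no solution
-/

set_option autoImplicit false
set_option linter.unusedVariables false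
set_option linter.unusedSectionVars false

namespace Cfsg.Agent.Lib.Helper13.BT3

open Classical
open scoped ComplexConjugate
open Cfsg.Agent.Lib.Helper25 Cfsg.Agent.Lib.Helper24

universe u

/-- P1-PLUS : the Diophantine system for `ε = +1` has no solution: `x₂ = 2y₂ - 1`, `x₃ = 2y₃ - 1`, `x₄ = 2y₄ + 1`,
`y₄ = y₂ + y₃ - 1`.  (`y₂, y₃ ≥ 2`, so they are proper powers.  (r,r): `y₄ ≡ -1 (r)`, `y₄ = 3^γ`, `x₄ = r^δ = 2r^b + 2r^c - 1`,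
`r ∣ 1`; (r,3): `x₂ = 3^α = 2r^b - 1` gives `r^b ≡ 2 (3)`, `y₄ = r^b + 3^c - 1 ≡ 1 (3)`, so `y₄ = r^γ`, `γ ≥ 1`, `r ∣ 3^c - 1`, and
`x₃ = r^· = 2·3^c - 1` gives `r ∣ 2·3^c - 1`, so `r ∣ 1`; (3,r) symmetric; (3,3): `y₄ ≡ -1 (3)`, `y₄ = r^γ`,
`x₄ = 3^δ = 2·3^b + 2·3^c - 1`, `3 ∣ 1`.) -/
theorem p1_plus (r : ℕ) (hr : r.Prime) (hr5 : 5 ≤ r) (x₂ x₃ x₄ y₂ y₃ y₄ : ℕ)
    (h2 : 2 ≤ x₂) (h3 : 2 ≤ x₃) (h4 : 2 ≤ x₄)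
    (e2 : x₂ + 1 = 2 * y₂) (e3 : x₃ + 1 = 2 * y₃) (e4 : x₄ = 2 * y₄ + 1) (hrel : y₄ + 1 = y₂ + y₃)
    (p2 : (∃ α β : ℕ, x₂ = 3 ^ α ∧ y₂ = r ^ β) ∨ (∃ α β : ℕ, x₂ = r ^ α ∧ y₂ = 3 ^ β))
    (p3 : (∃ α β : ℕ, x₃ = 3 ^ α ∧ y₃ = r ^ β) ∨ (∃ α β : ℕ, x₃ = r ^ α ∧ y₃ = 3 ^ β))
    (p4 : (∃ α β : ℕ, x₄ = 3 ^ α ∧ y₄ = r ^ β) ∨ (∃ α β : ℕ, x₄ = r ^ α ∧ y₄ = 3 ^ β)) :
    False := by
  rcases bt3p1minus_pair r hr5 x₂ y₂ h2 p2 with ⟨X2, Y2⟩ | ⟨X2, Y2⟩ <;>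
  rcases bt3p1minus_pair r hr5 x₃ y₃ h3 p3 with ⟨X3, Y3⟩ | ⟨X3, Y3⟩ <;>
  rcases bt3p1minus_pair r hr5 x₄ y₄ h4 p4 with ⟨X4, Y4⟩ | ⟨X4, Y4⟩
  · -- (T3, T3, T3)
    rcases Y2 with Y2 | ⟨Y2, -⟩
    · omega
    rcases Y3 with Y3 | ⟨Y3, -⟩
    · omega
    rcases Y4 with Y4 | ⟨Y4, -⟩
    · omega
    exact bt3p1minus_no r hr5 (y₂ + y₃) y₄ 1 (by norm_num) (by norm_num) (dvd_add Y2 Y3) Y4 (by omega)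
  · -- (T3, T3, Tr)
    rcases Y2 with Y2 | ⟨Y2, -⟩
    · omega
    rcases Y3 with Y3 | ⟨Y3, -⟩
    · omega
    obtain ⟨X4, -⟩ := X4
    exact bt3p1minus_no r hr5 (2 * y₂ + 2 * y₃) x₄ 1 (by norm_num) (by norm_num)
      (dvd_add (Y2.mul_left 2) (Y3.mul_left 2)) X4 (by omega)
  · -- (T3, Tr, T3)
    rcases Y2 with Y2 | ⟨Y2, -⟩
    · omega
    obtain ⟨X3, -⟩ := X3
    rcases Y4 with Y4 | ⟨Y4, -⟩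
    · omega
    exact bt3p1minus_no r hr5 (2 * y₂ + x₃) (2 * y₄) 1 (by norm_num) (by norm_num)
      (dvd_add (Y2.mul_left 2) X3) (Y4.mul_left 2) (by omega)
  · -- (T3, Tr, Tr)
    omega
  · -- (Tr, T3, T3)
    obtain ⟨X2, -⟩ := X2
    rcases Y3 with Y3 | ⟨Y3, -⟩
    · omega
    rcases Y4 with Y4 | ⟨Y4, -⟩
    · omega
    exact bt3p1minus_no r hr5 (2 * y₃ + x₂) (2 * y₄) 1 (by norm_num) (by norm_num)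
      (dvd_add (Y3.mul_left 2) X2) (Y4.mul_left 2) (by omega)
  · -- (Tr, T3, Tr)
    omega
  · -- (Tr, Tr, T3)
    omega
  · -- (Tr, Tr, Tr)
    omega

end Cfsg.Agent.Lib.Helper13.BT3
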