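import Mathlib
import Cfsg.Agent.Lib.helper17.T3.Defs
import Cfsg.Agent.Lib.Helper19.T3A.Defs
import Cfsg.Agent.Lib.Helper19.T3A.Comb
import Cfsg.Agent.Lib.helper23.CEUE1
import Cfsg.Agent.Lib.Helper1.T3AU0
import Cfsg.Agent.Lib.Helper10.T3AR1

/-!
# Project T3A (sub-designer helper19; S2110), row T2 (helper13): `hs_mem_Tor`, `hl_mem_Tor` VERBATIM, and the core of
`mem_Tor_iff` on the statement "`hl 2 c` commutes with `hs 0 t`" (= T1 `IsMon.comm_hs` at D6 `isMon_hl`).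
-/

set_option autoImplicit false

namespace Cfsg.Agent.Lib.helper17.T3

open Matrix Cfsg.Agent.Lib.helper15.St2 Cfsg.Agent.Lib.helper7.Ce Cfsg.Agent.Lib.helper7.CEU Cfsg.Agent.Lib.Helper19.T3A

variable {F K : Type*} [Field F] [Field K] [Algebra F K]

namespace SysT

variable {C : Cub F K} {Γ : Type*} [Group Γ] (Q : SysT C Γ)

theorem hs_mem_Tor {t : K} (ht : t ≠ 0) : Q.hs 0 t ∈ Q.Tor := by
  apply Subgroup.subset_closure
  exact ⟨t, 1, ht, one_ne_zero, by rw [Q.hl_one, mul_one]⟩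

theorem hl_mem_Tor {c : F} (hc : c ≠ 0) : Q.hl 2 c ∈ Q.Tor := by
  apply Subgroup.subset_closure
  exact ⟨1, c, one_ne_zero, hc, by rw [Q.hs_one, one_mul]⟩

/-- the core of `mem_Tor_iff`: `hcomm` is T1 `IsMon.comm_hs` applied to D6 `isMon_hl` -/
theorem t3at2h13_core [Finite K]
    (hcomm : ∀ (t : K) (c : F), t ≠ 0 → c ≠ 0 → Q.hl 2 c * Q.hs 0 t = Q.hs 0 t * Q.hl 2 c) (g : Γ) :
    g ∈ Q.Tor ↔ ∃ (t : K) (c : F), t ≠ 0 ∧ c ≠ 0 ∧ g = Q.hs 0 t * Q.hl 2 c := by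
  constructor
  · intro hg
    unfold Tor at hg
    induction hg using Subgroup.closure_induction with
    | mem x hx => exact hx
    | one => exact ⟨1, 1, one_ne_zero, one_ne_zero, by rw [Q.hs_one, Q.hl_one, mul_one]⟩
    | mul x y _ _ hx hy =>
      obtain ⟨t, c, ht, hc, rfl⟩ := hx
      obtain ⟨t', c', ht', hc', rfl⟩ := hy
      refine ⟨t * t', c * c', mul_ne_zero ht ht', mul_ne_zero hc hc', ?_⟩
      rw [Q.hs_mul 0 ht ht', Q.hl_mul 2 hc hc']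
      calc Q.hs 0 t * Q.hl 2 c * (Q.hs 0 t' * Q.hl 2 c')
          = Q.hs 0 t * (Q.hl 2 c * Q.hs 0 t') * Q.hl 2 c' := by group
        _ = Q.hs 0 t * (Q.hs 0 t' * Q.hl 2 c) * Q.hl 2 c' := by rw [hcomm t' c ht' hc]
        _ = Q.hs 0 t * Q.hs 0 t' * (Q.hl 2 c * Q.hl 2 c') := by group
    | inv x _ hx =>
      obtain ⟨t, c, ht, hc, rfl⟩ := hx
      refine ⟨t⁻¹, c⁻¹, inv_ne_zero ht, inv_ne_zero hc, ?_⟩
      have h1 : Q.hs 0 t * Q.hs 0 t⁻¹ = 1 := by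
        rw [← Q.hs_mul 0 ht (inv_ne_zero ht), mul_inv_cancel₀ ht, Q.hs_one]
      have h2 : Q.hl 2 c * Q.hl 2 c⁻¹ = 1 := by
        rw [← Q.hl_mul 2 hc (inv_ne_zero hc), mul_inv_cancel₀ hc, Q.hl_one]
      rw [_root_.mul_inv_rev, ← eq_inv_of_mul_eq_one_right h1, ← eq_inv_of_mul_eq_one_right h2]
      exact hcomm t⁻¹ c⁻¹ (inv_ne_zero ht) (inv_ne_zero hc)
  · rintro ⟨t, c, ht, hc, rfl⟩
    exact Subgroup.subset_closure ⟨t, c, ht, hc, rfl⟩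

end SysT

end Cfsg.Agent.Lib.helper17.T3
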