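import Mathlib
import Cfsg.Agent.Lib.helper17.T3.Defs
import Cfsg.Agent.Lib.Helper19.T3A.Defs
import Cfsg.Agent.Lib.Helper19.T3A.Comb
import Cfsg.Agent.Lib.helper23.CEUE1
import Cfsg.Agent.Lib.Helper13.T3AT2core
import Cfsg.Agent.Lib.Helper19.T3AT1
import Cfsg.Agent.Lib.Helper26.T3AD6core
import Cfsg.Agent.Lib.helper14.T3AD1
import Cfsg.Agent.Lib.helper14.T3AD4

/-!
# Project T3A (sub-designer helper19; S2110), row T2 `mem_Tor_iff` (helper13), VERBATIM: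
`Tor = {hs 0 t * hl 2 c}`.  (= `t3at2h13_core` on helper19's T1 `IsMon.comm_hs`, helper26's core of D6 at helper14's
D2 D3 D5; `hs_mem_Tor`, `hl_mem_Tor` are in `Helper13.T3AT2core`.)
-/

set_option autoImplicit false

namespace Cfsg.Agent.Lib.helper17.T3

open Matrix Cfsg.Agent.Lib.helper15.St2 Cfsg.Agent.Lib.helper7.Ce Cfsg.Agent.Lib.helper7.CEU Cfsg.Agent.Lib.Helper19.T3A

variable {F K : Type*} [Field F] [Field K] [Algebra F K]

namespace SysT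

variable {C : Cub F K} {Γ : Type*} [Group Γ] (Q : SysT C Γ)

/-- own copy of D6 `isMon_hl` (helper26's core at helper14's D2 D3 D5) -/
theorem t3at2h13_isMon_hl (k : ZMod 6) {c : F} (hc : c ≠ 0) : Q.IsMon (Q.hl k c) W.one :=
  Q.t3ad6h26_hl_core (fun h h' => IsMon.mul Q h h') (fun h => IsMon.inv Q h) (fun k _ hc => Q.isMon_wl k hc) k hc

-- ROW T2
theorem mem_Tor_iff [Finite K] (g : Γ) : g ∈ Q.Tor ↔ ∃ (t : K) (c : F), t ≠ 0 ∧ c ≠ 0 ∧ g = Q.hs 0 t * Q.hl 2 c :=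
  Q.t3at2h13_core (fun t c ht hc => IsMon.comm_hs Q (Q.t3at2h13_isMon_hl 2 hc) 0 ht) g

end SysT

end Cfsg.Agent.Lib.helper17.T3
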