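import Cfsg.Agent.Lib.Helper21.TOO.LDefs
import Cfsg.Agent.Lib.helper6.TSSIEG

/-!
# Project TOO, LOCAL block (sub-designer helper21), row LQ5 (`inQ_sieg`), CORRECTED statement `inQ_sieg'`:
the skeleton row lacks the hypothesis `J2ᵀ = J2` (without it `sieg J2 w z *ᵥ w = w + f(z,w) w ≠ w` in general).
-/

set_option autoImplicit false
set_option linter.unusedSectionVars false
set_option linter.unusedVariables false

namespace Cfsg.Agent.Lib.Helper28.TOO

open Matrix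
open scoped Kronecker
open Cfsg.Agent.Lib.helper7.TP Cfsg.Agent.Lib.Helper21.TS

variable {a b : ℕ} {F : Type*} [Field F]
  {J1 : Matrix (Fin a) (Fin a) F} {J2 : Matrix (Fin b) (Fin b) F}

theorem toolq5_kron_sub (A : Matrix (Fin a) (Fin a) F) (B C : Matrix (Fin b) (Fin b) F) :
    A ⊗ₖ (B - C) = A ⊗ₖ B - A ⊗ₖ C := by
  have h := Matrix.kronecker_add A (B - C) C
  rw [sub_add_cancel] at h
  exact eq_sub_of_add_eq h.symm

/-- the Siegel element moves `n ⊥ w` by a multiple of `w` -/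
theorem toolq5_sieg_perp (hJ2 : J2ᵀ = J2) {w z n : Fin b → F} (hn : bf J2 w n = 0) :
    sieg J2 w z *ᵥ n = n + bf J2 z n • w := by
  rw [sieg_mulVec, hn, mul_zero, zero_smul, zero_smul, sub_zero, sub_zero]

/-- LQ5 [S-M], corrected (`hJ2` added). `1 ⊗ ρ_{w,z} ∈ Q` with class `n ↦ f(z,n)`; and it is the pure element
`PureM 1 1 (-½ f(z,z)) w z`. -/
theorem inQ_sieg' (hJ2 : J2ᵀ = J2) {w z φ : Fin b → F} (hw : bf J2 w w = 0) (hz : bf J2 w z = 0)
    (hφ : φ ⬝ᵥ w = 1) :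
    InQ J2 ((1 : Matrix (Fin a) (Fin a) F) ⊗ₖ sieg J2 w z) w ∧
      (∀ n : Fin b → F, bf J2 w n = 0 →
        Zc ((1 : Matrix (Fin a) (Fin a) F) ⊗ₖ sieg J2 w z) φ n = bf J2 z n • (1 : Matrix (Fin a) (Fin a) F)) ∧
      (1 : Matrix (Fin a) (Fin a) F) ⊗ₖ sieg J2 w z
        = PureM J2 1 1 (-(bf J2 z z / 2) • (1 : Matrix (Fin a) (Fin a) F)) w z := by
  have hzw : bf J2 z w = 0 := by rw [bf_symm hJ2]; exact hz
  have hact : ∀ (n : Fin b → F), bf J2 w n = 0 → ∀ x : Fin a → F,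
      ((1 : Matrix (Fin a) (Fin a) F) ⊗ₖ sieg J2 w z) *ᵥ ten x n = ten x n + ten (bf J2 z n • x) w := by
    intro n hn x
    rw [kron_mulVec_ten, Matrix.one_mulVec, toolq5_sieg_perp hJ2 hn, ten_add_right, ten_smul_right,
      ten_smul_left]
  refine ⟨⟨?_, ?_⟩, ?_, ?_⟩
  · intro x
    rw [hact w hw x, hzw, zero_smul]
    have : ten (0 : Fin a → F) w = 0 := by
      funext p
      simp [ten]
    rw [this, add_zero]
  · intro n hn x
    exact ⟨bf J2 z n • x, hact n hn x⟩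
  · intro n hn
    rw [Matrix.ext_iff_mulVec]
    intro x
    rw [Zc_mulVec, hact n hn x, add_sub_cancel_left, ctr_ten, hφ, one_smul, Matrix.smul_mulVec,
      Matrix.one_mulVec]
  · rw [PureM, sieg, toolq5_kron_sub, toolq5_kron_sub, Matrix.kronecker_add, Matrix.one_kronecker_one,
      Matrix.kronecker_smul, Matrix.smul_kronecker, neg_smul]
    abel

end Cfsg.Agent.Lib.Helper28.TOO
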