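import Cfsg.Agent.Lib.Helper21.TOO.LDefs

/-!
# Project TOO, LOCAL block (sub-designer helper21), row LQ8 (`comm_pure`): the commutator of two pure elements.
-/

set_option autoImplicit false
set_option linter.unusedSectionVars false
set_option linter.unusedVariables false

namespace Cfsg.Agent.Lib.Helper28.TOO

open Matrix
open scoped Kronecker
open Cfsg.Agent.Lib.helper7.TP Cfsg.Agent.Lib.Helper21.TS

variable {ι : Type*} [Fintype ι] [DecidableEq ι] {a b : ℕ} {F : Type*} [Field F]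
  {J1 : Matrix (Fin a) (Fin a) F} {J2 : Matrix (Fin b) (Fin b) F}
  {M : Subgroup (Matrix.GeneralLinearGroup (Fin a × Fin b) F)}

theorem toolq8_kron_opm_mul (J : Matrix (Fin b) (Fin b) F) (A A' : Matrix (Fin a) (Fin a) F)
    (v w v' w' : Fin b → F) :
    (A ⊗ₖ opm J v w) * (A' ⊗ₖ opm J v' w') = bf J w v' • ((A * A') ⊗ₖ opm J v w') := by
  rw [← Matrix.mul_kronecker_mul, opm_mul_opm, Matrix.kronecker_smul]

/-- the nilpotent part of a pure element -/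
theorem toolq8_N_mul {w w₁ w₁' : Fin b → F} (hw : bf J2 w w = 0) (hww₁ : bf J2 w w₁ = 0)
    (hww₁' : bf J2 w w₁' = 0) (hJ2 : J2ᵀ = J2) (θ θs κ θ' θs' κ' : Matrix (Fin a) (Fin a) F) :
    (θ ⊗ₖ opm J2 w w₁ - θs ⊗ₖ opm J2 w₁ w + κ ⊗ₖ opm J2 w w) *
      (θ' ⊗ₖ opm J2 w w₁' - θs' ⊗ₖ opm J2 w₁' w + κ' ⊗ₖ opm J2 w w) =
      -(bf J2 w₁ w₁' • ((θ * θs') ⊗ₖ opm J2 w w)) := by
  have h1 : bf J2 w₁ w = 0 := by rw [bf_symm hJ2]; exact hww₁
  have h1' : bf J2 w₁' w = 0 := by rw [bf_symm hJ2]; exact hww₁'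
  simp only [Matrix.add_mul, Matrix.sub_mul, Matrix.mul_add, Matrix.mul_sub, toolq8_kron_opm_mul,
    hw, hww₁, hww₁', h1, h1', zero_smul, sub_zero, add_zero, zero_sub, zero_add, neg_zero, sub_self]

theorem toolq8_X_mul {w w₁ : Fin b → F} (hw : bf J2 w w = 0) (hww₁ : bf J2 w w₁ = 0)
    (hJ2 : J2ᵀ = J2) (Ξ θ θs κ : Matrix (Fin a) (Fin a) F) :
    (Ξ ⊗ₖ opm J2 w w) * (θ ⊗ₖ opm J2 w w₁ - θs ⊗ₖ opm J2 w₁ w + κ ⊗ₖ opm J2 w w) = 0 := by
  simp only [Matrix.mul_add, Matrix.mul_sub, toolq8_kron_opm_mul, hw, hww₁, zero_smul, sub_zero,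
    add_zero]

theorem toolq8_sub_kron (A B : Matrix (Fin a) (Fin a) F) (C : Matrix (Fin b) (Fin b) F) :
    (A - B) ⊗ₖ C = A ⊗ₖ C - B ⊗ₖ C := by
  have h := Matrix.add_kronecker (A - B) B C
  rw [sub_add_cancel] at h
  exact eq_sub_of_add_eq h.symm

theorem toolq8_comm_aux {n : Type*} [Fintype n] [DecidableEq n] (N N' X : Matrix n n F)
    (hX : X = N * N' - N' * N) (hXN : X * N = 0) (hXN' : X * N' = 0) :
    (1 + N) * (1 + N') = (1 + X) * ((1 + N') * (1 + N)) := by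
  have e1 : (1 + N) * (1 + N') = 1 + N + N' + N * N' := by
    rw [Matrix.add_mul, Matrix.mul_add, Matrix.mul_add, Matrix.one_mul, Matrix.mul_one,
      Matrix.one_mul]
    abel
  have e2 : (1 + N') * (1 + N) = 1 + N + N' + N' * N := by
    rw [Matrix.add_mul, Matrix.mul_add, Matrix.mul_add, Matrix.one_mul, Matrix.mul_one,
      Matrix.one_mul]
    abel
  have e3 : X * (1 + N + N' + N' * N) = X := by
    rw [Matrix.mul_add, Matrix.mul_add, Matrix.mul_add, Matrix.mul_one, hXN, hXN',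
      ← Matrix.mul_assoc, hXN', Matrix.zero_mul, add_zero, add_zero, add_zero]
  rw [e1, e2, Matrix.add_mul, Matrix.one_mul, e3, hX]
  abel

/-- LQ8 (L3) [M]. the commutator of two pure elements. -/
theorem comm_pure {w w₁ w₁' : Fin b → F} (hw : bf J2 w w = 0) (hww₁ : bf J2 w w₁ = 0)
    (hww₁' : bf J2 w w₁' = 0) (hJ2 : J2ᵀ = J2) (θ θs κ θ' θs' κ' : Matrix (Fin a) (Fin a) F)
    (g g' : Matrix.GeneralLinearGroup (Fin a × Fin b) F)
    (hg : (g : Matrix (Fin a × Fin b) (Fin a × Fin b) F) = PureM J2 θ θs κ w w₁)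
    (hg' : (g' : Matrix (Fin a × Fin b) (Fin a × Fin b) F) = PureM J2 θ' θs' κ' w w₁') :
    ((g * g' * g⁻¹ * g'⁻¹ : Matrix.GeneralLinearGroup (Fin a × Fin b) F) :
        Matrix (Fin a × Fin b) (Fin a × Fin b) F)
      = XBm J2 (bf J2 w₁ w₁' • (θ' * θs - θ * θs')) w := by
  set N : Matrix (Fin a × Fin b) (Fin a × Fin b) F :=
    θ ⊗ₖ opm J2 w w₁ - θs ⊗ₖ opm J2 w₁ w + κ ⊗ₖ opm J2 w w with hN
  set N' : Matrix (Fin a × Fin b) (Fin a × Fin b) F :=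
    θ' ⊗ₖ opm J2 w w₁' - θs' ⊗ₖ opm J2 w₁' w + κ' ⊗ₖ opm J2 w w with hN'
  set Ξ : Matrix (Fin a) (Fin a) F := bf J2 w₁ w₁' • (θ' * θs - θ * θs') with hΞ
  have hgN : (g : Matrix (Fin a × Fin b) (Fin a × Fin b) F) = 1 + N := by
    rw [hg, PureM, hN]; abel
  have hg'N : (g' : Matrix (Fin a × Fin b) (Fin a × Fin b) F) = 1 + N' := by
    rw [hg', PureM, hN']; abel
  have hNN' : N * N' = -(bf J2 w₁ w₁' • ((θ * θs') ⊗ₖ opm J2 w w)) :=
    toolq8_N_mul hw hww₁ hww₁' hJ2 θ θs κ θ' θs' κ'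
  have hN'N : N' * N = -(bf J2 w₁ w₁' • ((θ' * θs) ⊗ₖ opm J2 w w)) := by
    have := toolq8_N_mul hw hww₁' hww₁ hJ2 θ' θs' κ' θ θs κ
    rw [bf_symm hJ2 w₁' w₁] at this
    exact this
  have hXN : (Ξ ⊗ₖ opm J2 w w) * N = 0 := toolq8_X_mul hw hww₁ hJ2 Ξ θ θs κ
  have hXN' : (Ξ ⊗ₖ opm J2 w w) * N' = 0 := toolq8_X_mul hw hww₁' hJ2 Ξ θ' θs' κ'
  have hΞk : Ξ ⊗ₖ opm J2 w w = N * N' - N' * N := by
    rw [hNN', hN'N, hΞ, Matrix.smul_kronecker, toolq8_sub_kron, smul_sub]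
    abel
  -- `g g' = X g' g`
  have hcomm : (g : Matrix (Fin a × Fin b) (Fin a × Fin b) F) * (g' : Matrix (Fin a × Fin b) (Fin a × Fin b) F)
      = XBm J2 Ξ w * ((g' : Matrix (Fin a × Fin b) (Fin a × Fin b) F) *
          (g : Matrix (Fin a × Fin b) (Fin a × Fin b) F)) := by
    rw [hgN, hg'N, XBm]
    exact toolq8_comm_aux N N' (Ξ ⊗ₖ opm J2 w w) hΞk hXN hXN'
  have hgi : (g : Matrix (Fin a × Fin b) (Fin a × Fin b) F) *
      ((g⁻¹ : Matrix.GeneralLinearGroup (Fin a × Fin b) F) : Matrix (Fin a × Fin b) (Fin a × Fin b) F) = 1 := by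
    rw [← Units.val_mul, mul_inv_cancel, Units.val_one]
  have hg'i : (g' : Matrix (Fin a × Fin b) (Fin a × Fin b) F) *
      ((g'⁻¹ : Matrix.GeneralLinearGroup (Fin a × Fin b) F) : Matrix (Fin a × Fin b) (Fin a × Fin b) F) = 1 := by
    rw [← Units.val_mul, mul_inv_cancel, Units.val_one]
  rw [Units.val_mul, Units.val_mul, Units.val_mul, hcomm]
  simp only [Matrix.mul_assoc]
  rw [← Matrix.mul_assoc (g : Matrix (Fin a × Fin b) (Fin a × Fin b) F), hgi, Matrix.one_mul, hg'i,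
    Matrix.mul_one]

end Cfsg.Agent.Lib.Helper28.TOO
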