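import Mathlib
import Cfsg.Agent.Lib.Helper11.UNS.Defs

/-!
# UNS row W2 (`rev_of_simple`), verbatim vs `Helper11/UNS/Skel.lean.txt`.

The cited rows K1 K2 K3 K4 K6 K8 were not on main when this was written; their statements are proved here under the
own names `unsw2_blk_succ`, `unsw2_blk_mono`, `unsw2_blk_mirror`, `unsw2_bfJ_swap`, `unsw2_bfJ_pc`, `unsw2_adj_cases`.
-/

set_option autoImplicit false

namespace Cfsg.Agent.Lib.Helper11.UNS

open Cfsg.Agent.Lib.helper14.SpBN

variable {m : ℕ}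

/-- statement of K1 -/
theorem unsw2_blk_succ (J : Finset ℕ) (r : ℕ) :
    blk m J (r + 1) = blk m J r + if sidx m r ∈ J then 0 else 1 := by
  unfold blk
  rw [Finset.range_add_one, Finset.filter_insert]
  split_ifs with h1
  · rfl
  · rw [Finset.card_insert_of_notMem (by simp)]

/-- statement of K2 -/
theorem unsw2_blk_mono (J : Finset ℕ) {r s : ℕ} (h : r ≤ s) : blk m J r ≤ blk m J s := by
  unfold blk
  apply Finset.card_le_card
  apply Finset.filter_subset_filter
  exact Finset.range_mono h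

theorem unsw2_sidx_mirror (t : ℕ) : sidx m (2 * m - 2 - t) = sidx m t := by
  unfold sidx
  split_ifs <;> omega

/-- statement of K3 -/
theorem unsw2_blk_mirror (J : Finset ℕ) (r : ℕ) (hr : r ≤ 2 * m - 1) :
    blk m J r + blk m J (2 * m - 1 - r) = blk m J (2 * m - 1) := by
  induction r with
  | zero =>
    have : blk m J 0 = 0 := by unfold blk; simp
    rw [this, zero_add, Nat.sub_zero]
  | succ r ih =>
    have ih' := ih (by omega)
    have e1 : 2 * m - 1 - r = (2 * m - 1 - (r + 1)) + 1 := by omega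
    rw [e1, unsw2_blk_succ] at ih'
    rw [unsw2_blk_succ]
    have e2 : 2 * m - 1 - (r + 1) = 2 * m - 2 - r := by omega
    rw [e2] at ih' ⊢
    rw [unsw2_sidx_mirror r] at ih'
    omega

/-- statement of K4 -/
theorem unsw2_bfJ_swap (J : Finset ℕ) (x : Fin m ⊕ Fin m) :
    bfJ J x + bfJ J x.swap = blk m J (2 * m - 1) := by
  unfold bfJ
  have h1 := rk_add_swap x
  have h2 : rk x.swap = 2 * m - 1 - rk x := by omega
  rw [h2]
  exact unsw2_blk_mirror J (rk x) (by omega)

/-- statement of K6 -/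
theorem unsw2_bfJ_pc (J : Finset ℕ) (k : Fin m) :
    bfJ J (pc k) = bfJ J (pa k) + if k.val ∈ J then 0 else 1 := by
  unfold bfJ
  rw [rk_pc, rk_pa, unsw2_blk_succ]
  have : sidx m k.val = k.val := by
    unfold sidx
    rw [if_pos k.2]
  rw [this]

/-- statement of K8 -/
theorem unsw2_adj_cases (x y : Fin m ⊕ Fin m) (h : rk y = rk x + 1) :
    (∃ k : Fin m, x = pa k ∧ y = pc k) ∨ ∃ k : Fin m, x = (pc k).swap ∧ y = (pa k).swap := by
  by_cases hx : rk x < m
  · left
    exact ⟨⟨rk x, hx⟩, eq_pa_of_rk rfl, eq_pc_of_rk h⟩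
  · right
    have hy := rk_lt y
    have h1 := rk_add_swap x
    have h2 := rk_add_swap y
    have hk : rk y.swap < m := by omega
    have e1 : y.swap = pa ⟨rk y.swap, hk⟩ := eq_pa_of_rk rfl
    have e2 : x.swap = pc ⟨rk y.swap, hk⟩ :=
      eq_pc_of_rk (by show rk x.swap = rk y.swap + 1; omega)
    refine ⟨⟨rk y.swap, hk⟩, ?_, ?_⟩
    · rw [← e2, Sum.swap_swap]
    · rw [← e1, Sum.swap_swap]

/-- the step of W2 -/
theorem unsw2_step (J : Finset ℕ) (π : Equiv.Perm (Fin m ⊕ Fin m)) (h1 : SwC π)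
    (h3 : ∀ k : Fin m, k.val ∈ J → rk (π (pc k)) < rk (π (pa k)))
    (x y : Fin m ⊕ Fin m) (hb : bfJ J x = bfJ J y) (h : rk y = rk x + 1) :
    rk (π y) < rk (π x) := by
  rcases unsw2_adj_cases x y h with ⟨k, rfl, rfl⟩ | ⟨k, rfl, rfl⟩
  · have h6 := unsw2_bfJ_pc J k
    have hk : k.val ∈ J := by
      by_contra hk
      rw [if_neg hk] at h6
      omega
    exact h3 k hk
  · have h6 := unsw2_bfJ_pc J k
    have h4a := unsw2_bfJ_swap J (pc k)
    have h4b := unsw2_bfJ_swap J (pa k)
    have hk : k.val ∈ J := by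
      by_contra hk
      rw [if_neg hk] at h6
      omega
    rw [h1, h1, rk_swap_lt_iff]
    exact h3 k hk

/-- W2 [M]. -/
theorem rev_of_simple (J : Finset ℕ) (π : Equiv.Perm (Fin m ⊕ Fin m)) (h1 : SwC π) (h2 : BP J π)
    (h3 : ∀ k : Fin m, k.val ∈ J → rk (π (pc k)) < rk (π (pa k))) : IsRev J π := by
  refine ⟨h1, h2, ?_⟩
  have key : ∀ d : ℕ, ∀ x y : Fin m ⊕ Fin m, bfJ J x = bfJ J y → rk y = rk x + d + 1 →
      rk (π y) < rk (π x) := by
    intro d
    induction d with
    | zero =>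
      intro x y hb h
      exact unsw2_step J π h1 h3 x y hb h
    | succ d ih =>
      intro x y hb h
      have hy := rk_lt y
      obtain ⟨z, hz⟩ := exists_rk (m := m) (rk x + 1) (by omega)
      have hxz : bfJ J x ≤ bfJ J z := unsw2_blk_mono J (by omega)
      have hzy : bfJ J z ≤ bfJ J y := unsw2_blk_mono J (by omega)
      have e1 : bfJ J x = bfJ J z := by omega
      have e2 : bfJ J z = bfJ J y := by omega
      have s1 := unsw2_step J π h1 h3 x z e1 hz
      have s2 := ih z y e2 (by omega)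
      omega
  intro x y hb hlt
  exact key (rk y - rk x - 1) x y hb (by omega)

end Cfsg.Agent.Lib.Helper11.UNS
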