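import Mathlib
import Cfsg.Agent.Lib.Helper11.UNS.Defs
import Cfsg.Agent.Lib.Helper13.UNSW2

/-!
# UNS row E1 (`mem_UJ_iff`): the core, with `IsRev J (wJ m J)` (row W5) as a hypothesis.
-/

set_option autoImplicit false

namespace Cfsg.Agent.Lib.Helper11.UNS

open Matrix Cfsg.Agent.Lib.helper14.SpBN

universe u

variable {F : Type u} [Field F] {m : ℕ}

/-- statement of E0, own name -/
theorem unse1_mem_conj_iff (n g : ↥(Matrix.symplecticGroup (Fin m) F)) :
    g ∈ (Bsp m F).map (MulAut.conj n).toMonoidHom ↔ n⁻¹ * g * n ∈ Bsp m F := by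
  rw [Subgroup.mem_map]
  constructor
  · rintro ⟨b, hb, rfl⟩
    have : n⁻¹ * ((MulAut.conj n).toMonoidHom b) * n = b := by
      show n⁻¹ * (n * b * n⁻¹) * n = b
      group
    rw [this]; exact hb
  · intro h
    refine ⟨n⁻¹ * g * n, h, ?_⟩
    show n * (n⁻¹ * g * n) * n⁻¹ = g
    group

/-- `n⁻¹ g n` is upper triangular iff `g (w x) (w y) = 0` for `rk y < rk x` -/
theorem unse1_conj_mem_iff (n g : ↥(Matrix.symplecticGroup (Fin m) F))
    {w : Equiv.Perm (Fin m ⊕ Fin m)} (hw : SwC w) (hn : IsMono n.1 w) :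
    n⁻¹ * g * n ∈ Bsp m F ↔ ∀ x y, rk y < rk x → g.1 (w x) (w y) = 0 := by
  have hent : ∀ x y, (n⁻¹ * g * n).1 x y = (n⁻¹).1 x (w x) * g.1 (w x) (w y) * n.1 (w y) y := by
    intro x y
    rw [coe_mul', coe_mul']
    exact mono_conj_apply n hw hn g.1 x y
  have hp1 : ∀ y, n.1 (w y) y ≠ 0 := fun y => mono_pivot_ne_zero n hn y
  have hp2 : ∀ x, (n⁻¹).1 x (w x) ≠ 0 := by
    intro x h
    have := mono_pivot_mul_inv n hn x
    rw [h, zero_mul] at this
    exact zero_ne_one this
  rw [mem_Bsp_iff]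
  constructor
  · intro h x y hxy
    have := h hxy
    rw [hent] at this
    rcases mul_eq_zero.mp this with h1 | h1
    · rcases mul_eq_zero.mp h1 with h2 | h2
      · exact absurd h2 (hp2 x)
      · exact h2
    · exact absurd h1 (hp1 y)
  · intro h x y hxy
    rw [hent, h x y hxy, mul_zero, zero_mul]

/-- E1 core -/
theorem unse1_core (J : Finset ℕ) (hrev : IsRev J (wJ m J))
    (g : ↥(Matrix.symplecticGroup (Fin m) F)) :
    g ∈ (Bsp m F ⊓ (Bsp m F).map (MulAut.conj (nJ F m J)).toMonoidHom) ⊓ Uup m F ↔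
      StrictJ J (g.1 - 1) := by
  obtain ⟨hw1, hw2, hw3⟩ := hrev
  have hn := isMono_nJ F m J
  rw [Subgroup.mem_inf, Subgroup.mem_inf, unse1_mem_conj_iff, unse1_conj_mem_iff _ g hw1 hn,
    mem_Uup_iff, mem_Bsp_iff]
  constructor
  · rintro ⟨⟨hB, hc⟩, -, hd⟩ x y hxy
    rw [Matrix.sub_apply]
    by_cases hxy' : x = y
    · subst hxy'
      rw [hd, Matrix.one_apply_eq, sub_self]
    rw [Matrix.one_apply_ne hxy', sub_zero]
    rcases lt_or_gt_of_ne (fun h => hxy' (rk_injective h)) with hlt | hlt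
    · -- rk x < rk y: same block
      have hle : bfJ J x ≤ bfJ J y := unsw2_blk_mono J (le_of_lt hlt)
      have hb : bfJ J x = bfJ J y := le_antisymm hle hxy
      have hbx : bfJ J ((wJ m J).symm x) = bfJ J x := BP_symm J hw2 x
      have hby : bfJ J ((wJ m J).symm y) = bfJ J y := BP_symm J hw2 y
      have hlt' : rk ((wJ m J).symm y) < rk ((wJ m J).symm x) := by
        rcases lt_trichotomy (rk ((wJ m J).symm x)) (rk ((wJ m J).symm y)) with h | h | h
        · have := hw3 _ _ (by rw [hbx, hby, hb]) h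
          rw [Equiv.apply_symm_apply, Equiv.apply_symm_apply] at this
          omega
        · have := (wJ m J).symm.injective (rk_injective h)
          exact absurd this hxy'
        · exact h
      have := hc _ _ hlt'
      rw [Equiv.apply_symm_apply, Equiv.apply_symm_apply] at this
      exact this
    · exact hB hlt
  · intro hS
    have hB : g.1.BlockTriangular rk := by
      intro x y hxy
      have hne : x ≠ y := fun h => by rw [h] at hxy; exact lt_irrefl _ hxy
      have := hS x y (unsw2_blk_mono J (le_of_lt hxy))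
      rw [Matrix.sub_apply, Matrix.one_apply_ne hne, sub_zero] at this
      exact this
    have hd : ∀ x, g.1 x x = 1 := by
      intro x
      have := hS x x le_rfl
      rw [Matrix.sub_apply, Matrix.one_apply_eq] at this
      exact sub_eq_zero.mp this
    refine ⟨⟨hB, ?_⟩, hB, hd⟩
    intro x y hxy
    have hne : (wJ m J) x ≠ (wJ m J) y := by
      intro h
      have := (wJ m J).injective h
      rw [this] at hxy; exact lt_irrefl _ hxy
    have hle : bfJ J ((wJ m J) y) ≤ bfJ J ((wJ m J) x) := by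
      rw [hw2 y, hw2 x]
      exact unsw2_blk_mono J (le_of_lt hxy)
    have := hS _ _ hle
    rw [Matrix.sub_apply, Matrix.one_apply_ne hne, sub_zero] at this
    exact this

end Cfsg.Agent.Lib.Helper11.UNS
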