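import Mathlib
import Cfsg.Agent.Lib.Helper11.UNS.Defs
import Cfsg.Agent.Lib.Helper13.UNSW2
import Cfsg.Agent.Lib.Helper13.UNSE1core
import Cfsg.Agent.Lib.Helper9.UNSW1
import Cfsg.Agent.Lib.Helper20.UNSW5core

/-!
# UNS row E1 (`mem_UJ_iff`), verbatim vs `Helper11/UNS/Skel.lean.txt`.

`unse1_core` with `IsRev J (wJ m J)` from helper20's `unsw5_core` (row W5) on W1 (`BP_tauS`, helper9) and W2
(`rev_of_simple`).
-/

set_option autoImplicit false

namespace Cfsg.Agent.Lib.Helper11.UNS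

open Matrix Cfsg.Agent.Lib.helper14.SpBN

universe u

variable {F : Type u} [Field F] {m : ℕ}

/-- the statement of W5, own name -/
theorem unse1_exists_rev (J : Finset ℕ) : ∃ π : Equiv.Perm (Fin m ⊕ Fin m), IsRev J π :=
  unsw5_core J (fun k hk => BP_tauS J k hk) (fun π h1 h2 h3 => rev_of_simple J π h1 h2 h3)

/-- `wJ m J` is the block reversal -/
theorem unse1_wJ_isRev (J : Finset ℕ) : IsRev J (wJ m J) := wJ_isRev J (unse1_exists_rev J)

/-- E1 [M-L]. -/
theorem mem_UJ_iff (J : Finset ℕ) (g : ↥(Matrix.symplecticGroup (Fin m) F)) :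
    g ∈ (Bsp m F ⊓ (Bsp m F).map (MulAut.conj (nJ F m J)).toMonoidHom) ⊓ Uup m F ↔
      StrictJ J (g.1 - 1) :=
  unse1_core J (unse1_wJ_isRev J) g

end Cfsg.Agent.Lib.Helper11.UNS
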