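import Mathlib
import Cfsg.Agent.Lib.Helper19.ORE.Defs

/-!
# Project ORE (S2444, designer helper19), row A3 (`split_det`), verbatim.
-/

set_option autoImplicit false

namespace Cfsg.Agent.Lib.Helper19.ORE

open Polynomial Module

universe u v w v₁ v₂ v₃ v₄

section General
variable {F : Type u} [Field F]

/-- Weinstein–Aronszajn for linear maps: `det (1 + A B) = det (1 + B A)`. -/
theorem orea3_det_one_add_comp {V : Type v} {X : Type w} [AddCommGroup V] [Module F V]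
    [AddCommGroup X] [Module F X] [FiniteDimensional F V] [FiniteDimensional F X]
    (A : X →ₗ[F] V) (B : V →ₗ[F] X) :
    LinearMap.det (LinearMap.id + A ∘ₗ B) = LinearMap.det (LinearMap.id + B ∘ₗ A) := by
  classical
  let bV := Module.finBasis F V
  let bX := Module.finBasis F X
  rw [← LinearMap.det_toMatrix bV, ← LinearMap.det_toMatrix bX]
  rw [map_add, map_add, LinearMap.toMatrix_id, LinearMap.toMatrix_id,
    LinearMap.toMatrix_comp bV bX bV, LinearMap.toMatrix_comp bX bV bX]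
  exact Matrix.det_one_add_mul_comm _ _

/-- `det (1 + N) = 1` if `N = A B` with `B A = 0`. -/
theorem orea3_det_one_add_of_comp_eq_zero {V : Type v} {X : Type w} [AddCommGroup V]
    [Module F V] [AddCommGroup X] [Module F X] [FiniteDimensional F V] [FiniteDimensional F X]
    (A : X →ₗ[F] V) (B : V →ₗ[F] X) (h : B ∘ₗ A = 0) :
    LinearMap.det (LinearMap.id + A ∘ₗ B) = 1 := by
  rw [orea3_det_one_add_comp, h, add_zero]
  exact LinearMap.det_id

/-- determinant of a lower unitriangular block map -/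
theorem orea3_det_lower {X₁ : Type v₁} {X₂ : Type v₂} [AddCommGroup X₁] [Module F X₁]
    [AddCommGroup X₂] [Module F X₂] [FiniteDimensional F X₁] [FiniteDimensional F X₂]
    (T : X₁ →ₗ[F] X₂) :
    LinearMap.det ((LinearMap.id : X₁ × X₂ →ₗ[F] X₁ × X₂) +
      (LinearMap.inr F X₁ X₂ ∘ₗ T) ∘ₗ LinearMap.fst F X₁ X₂) = 1 := by
  apply orea3_det_one_add_of_comp_eq_zero
  ext x
  simp

/-- determinant of an upper unitriangular block map -/
theorem orea3_det_upper {X₁ : Type v₁} {X₂ : Type v₂} [AddCommGroup X₁] [Module F X₁]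
    [AddCommGroup X₂] [Module F X₂] [FiniteDimensional F X₁] [FiniteDimensional F X₂]
    (T : X₂ →ₗ[F] X₁) :
    LinearMap.det ((LinearMap.id : X₁ × X₂ →ₗ[F] X₁ × X₂) +
      (LinearMap.inl F X₁ X₂ ∘ₗ T) ∘ₗ LinearMap.snd F X₁ X₂) = 1 := by
  apply orea3_det_one_add_of_comp_eq_zero
  ext x
  simp

/-- determinant of a block form on `X₁ × X₂` (linear maps). -/
theorem orea3_det_block {X₁ : Type v₁} {X₂ : Type v₂} [AddCommGroup X₁] [Module F X₁]
    [AddCommGroup X₂] [Module F X₂] [FiniteDimensional F X₁] [FiniteDimensional F X₂]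
    (G : X₁ × X₂ →ₗ[F] X₁ × X₂) (g₁ : X₁ ≃ₗ[F] X₁) (g₂ : X₂ →ₗ[F] X₂)
    (b : X₂ →ₗ[F] X₁) (c : X₁ →ₗ[F] X₂)
    (hG : ∀ x₁ x₂, G (x₁, x₂) = (g₁ x₁ + b x₂, c x₁ + (g₂ x₂ + c (g₁.symm (b x₂))))) :
    LinearMap.det G = LinearMap.det (g₁ : X₁ →ₗ[F] X₁) * LinearMap.det g₂ := by
  have hfac : G = ((LinearMap.id : X₁ × X₂ →ₗ[F] X₁ × X₂) +
        (LinearMap.inr F X₁ X₂ ∘ₗ (c ∘ₗ (g₁.symm : X₁ →ₗ[F] X₁))) ∘ₗ LinearMap.fst F X₁ X₂) ∘ₗ
      (LinearMap.prodMap (g₁ : X₁ →ₗ[F] X₁) g₂) ∘ₗ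
      ((LinearMap.id : X₁ × X₂ →ₗ[F] X₁ × X₂) +
        (LinearMap.inl F X₁ X₂ ∘ₗ ((g₁.symm : X₁ →ₗ[F] X₁) ∘ₗ b)) ∘ₗ LinearMap.snd F X₁ X₂) := by
    apply LinearMap.ext
    rintro ⟨x₁, x₂⟩
    rw [hG]
    simp only [LinearMap.comp_apply, LinearMap.add_apply, LinearMap.id_apply, LinearMap.fst_apply,
      LinearMap.snd_apply, LinearMap.inl_apply, LinearMap.inr_apply, LinearMap.prodMap_apply,
      LinearEquiv.coe_coe, Prod.mk_add_mk, add_zero, zero_add, map_add,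
      LinearEquiv.apply_symm_apply, LinearEquiv.symm_apply_apply]
    ext
    · simp
    · simp only [map_add, LinearEquiv.symm_apply_apply]
      abel
  rw [hfac, LinearMap.det_comp, LinearMap.det_comp, orea3_det_lower, orea3_det_upper,
    LinearMap.det_prodMap, one_mul, mul_one]

/-- **A3**. determinant of a block form. -/
theorem split_det {V : Type v} {X₁ : Type v₁} {X₂ : Type v₂} [AddCommGroup V] [Module F V]
    [AddCommGroup X₁] [Module F X₁] [AddCommGroup X₂] [Module F X₂]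
    [FiniteDimensional F V] [FiniteDimensional F X₁] [FiniteDimensional F X₂]
    {g : V ≃ₗ[F] V} {g₁ : X₁ ≃ₗ[F] X₁} {g₂ : X₂ ≃ₗ[F] X₂} (h : Split g g₁ g₂) :
    LinearEquiv.det g = LinearEquiv.det g₁ * LinearEquiv.det g₂ := by
  obtain ⟨e, b, c, he⟩ := h
  apply Units.ext
  rw [Units.val_mul, LinearEquiv.coe_det, LinearEquiv.coe_det, LinearEquiv.coe_det]
  rw [← LinearMap.det_conj (g : V →ₗ[F] V) e]
  apply orea3_det_block _ g₁ (g₂ : X₂ →ₗ[F] X₂) b c
  intro x₁ x₂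
  simpa using he x₁ x₂

end General

end Cfsg.Agent.Lib.Helper19.ORE
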