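import Cfsg.Agent.Lib.helper7.SAP.Defs

/-!
# Project SAP, rows PERM3 (`zh_carRel`, `closure_zh`) and PERM3B (`card_closure_zh_old`, `mem_closure_zh_old`): cores

The statements of ALT2 (`c3_carRel`) and ALT3 (`altgen`) at the two types used are hypotheses.
-/

set_option autoImplicit false

namespace Cfsg.Agent.Lib.helper7.SAP

open Equiv

universe u

section perm
variable (p k : ℕ)

theorem sapperm3_ps_ne : (ps1 : Pt p k) ≠ ps2 := by
  intro h
  have : (0 : Fin 2) = 1 := Sum.inr_injective (Sum.inl_injective h)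
  exact absurd this (by decide)

theorem sapperm3_pt_ne (y : Ix p k) : (pt y : Pt p k) ≠ ps1 ∧ (pt y : Pt p k) ≠ ps2 := by
  cases y <;> constructor <;> intro h <;> simp [pt, po, pe, ps1, ps2] at h

theorem sapperm3_pt_injective : Function.Injective (pt : Ix p k → Pt p k) := by
  intro y y' h
  cases y <;> cases y' <;> simp [pt, po, pe] at h <;> rw [h]

theorem sapperm3_pt_surj (w : Pt p k) (h1 : w ≠ ps1) (h2 : w ≠ ps2) : ∃ y : Ix p k, pt y = w := by
  rcases w with (x | i) | j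
  · exact ⟨Sum.inl x, rfl⟩
  · exfalso
    fin_cases i
    · exact h1 rfl
    · exact h2 rfl
  · exact ⟨Sum.inr j, rfl⟩

/-- PERM3a core -/
theorem sapperm3_zh_carRel_core
    (hALT2 : CarRel (fun y : {y : Pt p k // y ≠ ps1 ∧ y ≠ ps2} => c3 (y : Pt p k) ps1 ps2)) :
    CarRel (zh : Ix p k → Perm (Pt p k)) := by
  refine ⟨fun i => ?_, fun i j hij => ?_⟩
  · exact hALT2.1 ⟨pt i, sapperm3_pt_ne p k i⟩
  · exact hALT2.2 ⟨pt i, sapperm3_pt_ne p k i⟩ ⟨pt j, sapperm3_pt_ne p k j⟩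
      (fun h => hij (sapperm3_pt_injective p k (Subtype.ext_iff.mp h)))

/-- PERM3b core -/
theorem sapperm3_closure_zh_core [NeZero p]
    (hALT3 : Subgroup.closure (Set.range fun y : {y : Pt p k // y ≠ ps1 ∧ y ≠ ps2} =>
      c3 (y : Pt p k) ps1 ps2) = alternatingGroup (Pt p k)) :
    Subgroup.closure (Set.range (zh : Ix p k → Perm (Pt p k))) = alternatingGroup (Pt p k) := by
  rw [← hALT3]
  congr 1
  ext σ
  constructor
  · rintro ⟨y, rfl⟩
    exact ⟨⟨pt y, sapperm3_pt_ne p k y⟩, rfl⟩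
  · rintro ⟨⟨w, hw1, hw2⟩, rfl⟩
    obtain ⟨y, rfl⟩ := sapperm3_pt_surj p k w hw1 hw2
    exact ⟨y, rfl⟩

/-- the embedding `σ ↦ sumCongr σ 1` of the old permutations -/
def sapperm3_emb : Perm (ZMod p ⊕ Fin 2) →* Perm (Pt p k) :=
  (Equiv.Perm.sumCongrHom (ZMod p ⊕ Fin 2) (Fin k)).comp (MonoidHom.inl _ _)

theorem sapperm3_emb_apply (σ : Perm (ZMod p ⊕ Fin 2)) :
    sapperm3_emb p k σ = (Equiv.sumCongr σ (Equiv.refl (Fin k)) : Perm (Pt p k)) := rfl

theorem sapperm3_emb_injective : Function.Injective (sapperm3_emb p k) := by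
  intro σ σ' h
  have h' := Equiv.Perm.sumCongrHom_injective h
  exact (Prod.ext_iff.mp h').1

theorem sapperm3_emb_c3 (x : ZMod p) :
    sapperm3_emb p k (c3 (Sum.inl x) (Sum.inr 0) (Sum.inr 1)) = zh (Sum.inl x : Ix p k) := by
  unfold c3
  rw [map_mul, sapperm3_emb_apply, sapperm3_emb_apply]
  have h1 := Equiv.Perm.sumCongr_swap_refl (α := ZMod p ⊕ Fin 2) (β := Fin k) (Sum.inl x) (Sum.inr 0)
  have h2 := Equiv.Perm.sumCongr_swap_refl (α := ZMod p ⊕ Fin 2) (β := Fin k) (Sum.inr 0) (Sum.inr 1)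
  unfold Equiv.Perm.sumCongr at h1 h2
  rw [h1, h2]
  rfl

/-- the old Carmichael family is the image of the family of `ZMod p ⊕ Fin 2` -/
theorem sapperm3_old_range :
    (sapperm3_emb p k) '' (Set.range fun y : {y : ZMod p ⊕ Fin 2 // y ≠ Sum.inr 0 ∧ y ≠ Sum.inr 1} =>
      c3 (y : ZMod p ⊕ Fin 2) (Sum.inr 0) (Sum.inr 1)) =
      Set.range fun x : ZMod p => zh (Sum.inl x : Ix p k) := by
  ext σ
  constructor
  · rintro ⟨_, ⟨⟨y, hy1, hy2⟩, rfl⟩, rfl⟩
    rcases y with x | i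
    · exact ⟨x, (sapperm3_emb_c3 p k x).symm⟩
    · exfalso
      fin_cases i
      · exact hy1 rfl
      · exact hy2 rfl
  · rintro ⟨x, rfl⟩
    refine ⟨_, ⟨⟨Sum.inl x, by simp, by simp⟩, rfl⟩, sapperm3_emb_c3 p k x⟩

/-- the old part is the image of the alternating group -/
theorem sapperm3_old_eq_map [NeZero p]
    (hALT3 : Subgroup.closure (Set.range fun y : {y : ZMod p ⊕ Fin 2 // y ≠ Sum.inr 0 ∧ y ≠ Sum.inr 1} =>
      c3 (y : ZMod p ⊕ Fin 2) (Sum.inr 0) (Sum.inr 1)) = alternatingGroup (ZMod p ⊕ Fin 2)) :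
    Subgroup.closure (Set.range fun x : ZMod p => zh (Sum.inl x : Ix p k)) =
      (alternatingGroup (ZMod p ⊕ Fin 2)).map (sapperm3_emb p k) := by
  rw [← hALT3, MonoidHom.map_closure, sapperm3_old_range]

/-- PERM3B (a) core -/
theorem sapperm3b_card_core [NeZero p]
    (hALT3 : Subgroup.closure (Set.range fun y : {y : ZMod p ⊕ Fin 2 // y ≠ Sum.inr 0 ∧ y ≠ Sum.inr 1} =>
      c3 (y : ZMod p ⊕ Fin 2) (Sum.inr 0) (Sum.inr 1)) = alternatingGroup (ZMod p ⊕ Fin 2)) :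
    2 * Nat.card (Subgroup.closure (Set.range fun x : ZMod p => zh (Sum.inl x : Ix p k))) =
      (p + 2).factorial := by
  rw [sapperm3_old_eq_map p k hALT3, Subgroup.card_map_of_injective (sapperm3_emb_injective p k)]
  have : Nontrivial (ZMod p ⊕ Fin 2) := ⟨⟨Sum.inr 0, Sum.inr 1, by simp⟩⟩
  rw [two_mul_nat_card_alternatingGroup, Nat.card_perm, Nat.card_eq_fintype_card, Fintype.card_sum,
    ZMod.card, Fintype.card_fin]

/-- PERM3B (b) core -/
theorem sapperm3b_mem_core [NeZero p]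
    (hALT3 : Subgroup.closure (Set.range fun y : {y : ZMod p ⊕ Fin 2 // y ≠ Sum.inr 0 ∧ y ≠ Sum.inr 1} =>
      c3 (y : ZMod p ⊕ Fin 2) (Sum.inr 0) (Sum.inr 1)) = alternatingGroup (ZMod p ⊕ Fin 2))
    (σ : Perm (ZMod p ⊕ Fin 2)) (hσ : Perm.sign σ = 1) :
    (Equiv.sumCongr σ (Equiv.refl (Fin k)) : Perm (Pt p k)) ∈
      Subgroup.closure (Set.range fun x : ZMod p => zh (Sum.inl x : Ix p k)) := by
  rw [sapperm3_old_eq_map p k hALT3, ← sapperm3_emb_apply]
  exact Subgroup.mem_map_of_mem _ (Equiv.Perm.mem_alternatingGroup.mpr hσ)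

end perm

end Cfsg.Agent.Lib.helper7.SAP
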