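import Cfsg.Agent.Lib.helper7.SAP.Defs

/-!
# Project SAP, row GL7 (`glue_tau_zx`): core

The statement of GL6 (`glue_tau_old`) is a hypothesis.
-/

set_option autoImplicit false

namespace Cfsg.Agent.Lib.helper7.SAP

open Equiv

universe u

section glue
variable {p k l : ℕ} {G : Type u} [Group G]

theorem sapgl7_conj_succ (τ w : G) (i : ℕ) :
    τ ^ (i + 1) * w * (τ ^ (i + 1))⁻¹ = τ * (τ ^ i * w * (τ ^ i)⁻¹) * τ⁻¹ := by
  rw [pow_succ']
  group

theorem sapgl7_conj_add (τ w : G) (i j : ℕ) :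
    τ ^ (i + j) * w * (τ ^ (i + j))⁻¹ = τ ^ i * (τ ^ j * w * (τ ^ j)⁻¹) * (τ ^ i)⁻¹ := by
  rw [pow_add]
  group

/-- GL7 core -/
theorem sapgl7_core [Fact p.Prime] (H : GlueHyp p k l G)
    (hGL6 : ∀ x : ZMod p, x ≠ (l : ZMod p) →
      H.τ * zo H.a H.z x * H.τ⁻¹ = zo H.a H.z (nuI p l x)) (y : Ix p k) :
    H.τ * zx H.a H.z H.τ l y * H.τ⁻¹ = zx H.a H.z H.τ l (tauI p k l y) := by
  have hkl := H.hkl
  have hlp := H.hlp
  have hp1 : Fact (1 < p) := ⟨by omega⟩
  have hpne : NeZero p := ⟨by omega⟩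
  -- values of small casts
  have hval : ∀ n : ℕ, n < p → ((n : ℕ) : ZMod p).val = n := fun n hn => ZMod.val_natCast_of_lt hn
  -- step 1: `τ^i z_1 τ^-i = z_{1+i}` for `1 + i ≤ l`
  have step : ∀ i : ℕ, 1 + i ≤ l →
      H.τ ^ i * zo H.a H.z ((1 : ℕ) : ZMod p) * (H.τ ^ i)⁻¹ = zo H.a H.z ((1 + i : ℕ) : ZMod p) := by
    intro i
    induction i with
    | zero => intro _; simp
    | succ i ih =>
      intro hi
      rw [sapgl7_conj_succ, ih (by omega)]
      have hv : (((1 + i : ℕ) : ℕ) : ZMod p).val = 1 + i := hval _ (by omega)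
      have hne : (((1 + i : ℕ) : ℕ) : ZMod p) ≠ (l : ZMod p) := by
        intro h
        have := congrArg ZMod.val h
        rw [hv, hval l (by omega)] at this
        omega
      rw [hGL6 _ hne]
      congr 1
      unfold nuI
      rw [hv, if_pos (by omega)]
      push_cast
      ring
  -- step 2: `τ^l z_1 τ^-l = τ z_l τ⁻¹`
  have hl1 : H.τ ^ (l - 1) * zo H.a H.z ((1 : ℕ) : ZMod p) * (H.τ ^ (l - 1))⁻¹ = zo H.a H.z (l : ZMod p) := by
    have := step (l - 1) (by omega)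
    rw [this]
    congr 2
    omega
  -- step 3: `τ^(k+1) z_l τ^-(k+1) = z_1`
  have hwrap : H.τ ^ (k + 1) * zo H.a H.z (l : ZMod p) * (H.τ ^ (k + 1))⁻¹ = zo H.a H.z (1 : ZMod p) := by
    rw [← hl1, ← sapgl7_conj_add]
    have : k + 1 + (l - 1) = l + k := by omega
    rw [this, H.hτm]
    simp
  rcases y with x | j
  · -- old point
    show H.τ * zo H.a H.z x * H.τ⁻¹ = zx H.a H.z H.τ l (tauI p k l (Sum.inl x))
    by_cases hxl : x = (l : ZMod p)
    · -- the point `l`
      have hxv : x.val = l := by rw [hxl]; exact hval l (by omega)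
      have ht : tauI p k l (Sum.inl x) = if h : 0 < k then Sum.inr ⟨0, h⟩ else Sum.inl 1 := by
        simp only [tauI]
        rw [if_neg (by omega), if_pos hxv]
      rw [ht]
      by_cases hk : 0 < k
      · rw [dif_pos hk]
        show H.τ * zo H.a H.z x * H.τ⁻¹ =
          H.τ ^ (0 + 1) * zo H.a H.z ((l : ℕ) : ZMod p) * (H.τ ^ (0 + 1))⁻¹
        rw [hxl]
        simp
      · rw [dif_neg hk]
        show H.τ * zo H.a H.z x * H.τ⁻¹ = zo H.a H.z 1
        have hk0 : k + 1 = 1 := by omega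
        rw [hxl, ← hwrap, hk0, pow_one]
    · -- the other old points: GL6
      rw [hGL6 x hxl]
      have hxv : x.val ≠ l := by
        intro h
        apply hxl
        rw [← h, ZMod.natCast_zmod_val]
      simp only [tauI, nuI]
      by_cases hA : 1 ≤ x.val ∧ x.val < l
      · rw [if_pos hA, if_pos hA]
        rfl
      · rw [if_neg hA, if_neg hA, if_neg hxv, if_neg hxv]
        rfl
  · -- new point
    have hj := j.isLt
    show H.τ * (H.τ ^ (j.val + 1) * zo H.a H.z ((l : ℕ) : ZMod p) * (H.τ ^ (j.val + 1))⁻¹) * H.τ⁻¹ =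
      zx H.a H.z H.τ l (tauI p k l (Sum.inr j))
    rw [← sapgl7_conj_succ]
    simp only [tauI]
    by_cases hD : j.val + 1 < k
    · rw [dif_pos hD]
      rfl
    · rw [dif_neg hD]
      show H.τ ^ (j.val + 1 + 1) * zo H.a H.z ((l : ℕ) : ZMod p) * (H.τ ^ (j.val + 1 + 1))⁻¹ = zo H.a H.z 1
      have : j.val + 1 + 1 = k + 1 := by omega
      rw [this, hwrap]

end glue

end Cfsg.Agent.Lib.helper7.SAP
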