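import Cfsg.Agent.Lib.helper7.SAP.Defs
import Cfsg.Agent.Lib.Helper13.SAPGL7core
import Cfsg.Agent.Lib.Helper12.SAPGL3core
import Cfsg.Agent.Lib.Helper20.SAPGL5core
import Cfsg.Agent.Lib.helper23.SAPGL1
import Cfsg.Agent.Lib.Helper25.SAPGL2
import Cfsg.Agent.Lib.helper2.SAPGL4
import Cfsg.Agent.Lib.helper8.SAPPERM5

/-!
# Project SAP, row GL7 (`glue_tau_zx`), verbatim (express wrapper)

From `sapgl7_core` and the cores of GL3 (helper12), GL5 / GL6 (helper20) fed with the landed GL1, GL2, GL4, PERM5; it does not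
wait for the verbatim GL3 / GL5 / GL6.  Own-name exact statements of GL3, GL5, GL6 are included.
-/

set_option autoImplicit false

namespace Cfsg.Agent.Lib.helper7.SAP

open Equiv

universe u

section glue
variable {p k l : ℕ} {G : Type u} [Group G]

/-- the statement of GL3 (`glue_nu_act`), own name -/
theorem sapgl7_h13_nu_act [Fact p.Prime] (H : GlueHyp p k l G) (x : ZMod p) :
    H.ν * zo H.a H.z x * H.ν⁻¹ = (zo H.a H.z (nuI p l x)) ^ (sgn l) :=
  have : NeZero p := ⟨(Fact.out : p.Prime).ne_zero⟩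
  sapgl3_core H (fun x => glue_psi_zo H x) (glue_injOn_old H)
    (fun x => nh_conj_zh p k l H.hlp (by have := H.hkl; omega) x) x

/-- the statement of GL5 (`glue_theta_act`), own name -/
theorem sapgl7_h13_theta_act [Fact p.Prime] (H : GlueHyp p k l G) (x : ZMod p) (hx : x ≠ (l : ZMod p)) :
    (H.ν⁻¹ * H.τ) * zo H.a H.z x * (H.ν⁻¹ * H.τ)⁻¹ = (zo H.a H.z x) ^ (sgn l) :=
  sapgl5_core H (fun x => sapgl7_h13_nu_act H x) (fun x => glue_beta'_act H x) x hx

/-- the statement of GL6 (`glue_tau_old`), own name -/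
theorem sapgl7_h13_tau_old [Fact p.Prime] (H : GlueHyp p k l G) (x : ZMod p) (hx : x ≠ (l : ZMod p)) :
    H.τ * zo H.a H.z x * H.τ⁻¹ = zo H.a H.z (nuI p l x) :=
  sapgl6_core H (fun x => sapgl7_h13_nu_act H x) (fun x hx => sapgl7_h13_theta_act H x hx) x hx

/-- GL7 [M] (GL6, `hτm`) -/
theorem glue_tau_zx [Fact p.Prime] (H : GlueHyp p k l G) (y : Ix p k) :
    H.τ * zx H.a H.z H.τ l y * H.τ⁻¹ = zx H.a H.z H.τ l (tauI p k l y) :=
  sapgl7_core H (fun x hx => sapgl7_h13_tau_old H x hx) y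

end glue

end Cfsg.Agent.Lib.helper7.SAP
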