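import Cfsg.Agent.Lib.helper7.SAP.Defs

/-!
# Project SAP, row GL8: combinatorics of `tauI` (`tauI_injective`, `tauI_cover`)

`pos : Ix p k → ℕ` puts the points on a line (`0`, the cycle `1 … l, e_0 … e_{k-1}` at `1 … l + k`, the other old points
behind); `tauI` becomes the cyclic shift `sapgl8_sig` of `[1, l + k]`.
-/

set_option autoImplicit false

namespace Cfsg.Agent.Lib.helper7.SAP

open Equiv

universe u

section glue
variable {p k l : ℕ}

/-- the cyclic shift of `[1, m]` on `ℕ` -/
def sapgl8_sig (m : ℕ) (n : ℕ) : ℕ := if 1 ≤ n ∧ n < m then n + 1 else if n = m then 1 else n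

/-- the position of a point -/
def sapgl8_pos (p k l : ℕ) : Ix p k → ℕ
  | Sum.inl x => if x.val ≤ l then x.val else x.val + k
  | Sum.inr j => l + 1 + j.val

theorem sapgl8_sig_injective (m : ℕ) (hm : 1 ≤ m) : Function.Injective (sapgl8_sig m) := by
  intro a b h
  unfold sapgl8_sig at h
  split_ifs at h <;> omega

theorem sapgl8_sig_iter (m : ℕ) (hm : 1 ≤ m) (t : ℕ) (ht : t ≤ m) (n : ℕ) (hn1 : 1 ≤ n) (hn : n ≤ m) :
    (sapgl8_sig m)^[t] n = if n + t ≤ m then n + t else n + t - m := by
  induction t with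
  | zero => simp [hn]
  | succ t ih =>
    rw [Function.iterate_succ_apply', ih (by omega)]
    unfold sapgl8_sig
    split_ifs <;> omega

theorem sapgl8_sig_iter_fixed (m : ℕ) (t : ℕ) (n : ℕ) (hn : n = 0 ∨ m < n) (hm : 1 ≤ m) :
    (sapgl8_sig m)^[t] n = n := by
  induction t with
  | zero => rfl
  | succ t ih =>
    rw [Function.iterate_succ_apply', ih]
    unfold sapgl8_sig
    split_ifs <;> omega

/-- the pure `ℕ` cover lemma -/
theorem sapgl8_cover_nat (hkl : k + 1 ≤ l) (a b : ℕ) :
    ∃ t : ℕ, ¬ (l + 1 ≤ (sapgl8_sig (l + k))^[t] a ∧ (sapgl8_sig (l + k))^[t] a ≤ l + k) ∧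
      ¬ (l + 1 ≤ (sapgl8_sig (l + k))^[t] b ∧ (sapgl8_sig (l + k))^[t] b ≤ l + k) := by
  have hm : 1 ≤ l + k := by omega
  -- the value of the iterate at a general point, for `t ≤ l + k`
  have key : ∀ (t : ℕ), t ≤ l + k → ∀ n : ℕ, (sapgl8_sig (l + k))^[t] n =
      if 1 ≤ n ∧ n ≤ l + k then (if n + t ≤ l + k then n + t else n + t - (l + k)) else n := by
    intro t ht n
    by_cases hn : 1 ≤ n ∧ n ≤ l + k
    · rw [if_pos hn]
      exact sapgl8_sig_iter (l + k) hm t ht n hn.1 hn.2
    · rw [if_neg hn]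
      exact sapgl8_sig_iter_fixed (l + k) t n (by omega) hm
  by_cases ha : l + 1 ≤ a ∧ a ≤ l + k
  · -- `a` is new: try `t1 = l + k + 1 - a`
    by_cases hb : l + 1 ≤ b + (l + k + 1 - a) ∧ b + (l + k + 1 - a) ≤ l + k ∧ 1 ≤ b
    · refine ⟨l + k + 1 - b, ?_⟩
      rw [key _ (by omega) a, key _ (by omega) b]
      split_ifs <;> omega
    · refine ⟨l + k + 1 - a, ?_⟩
      rw [key _ (by omega) a, key _ (by omega) b]
      split_ifs <;> omega
  · by_cases hb : l + 1 ≤ b ∧ b ≤ l + k
    · by_cases ha' : l + 1 ≤ a + (l + k + 1 - b) ∧ a + (l + k + 1 - b) ≤ l + k ∧ 1 ≤ a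
      · refine ⟨l + k + 1 - a, ?_⟩
        rw [key _ (by omega) a, key _ (by omega) b]
        split_ifs <;> omega
      · refine ⟨l + k + 1 - b, ?_⟩
        rw [key _ (by omega) a, key _ (by omega) b]
        split_ifs <;> omega
    · exact ⟨0, by simpa using ha, by simpa using hb⟩

theorem sapgl8_pos_injective [NeZero p] : Function.Injective (sapgl8_pos p k l) := by
  intro y y' h
  rcases y with x | j <;> rcases y' with x' | j'
  · simp only [sapgl8_pos] at h
    have : x.val = x'.val := by split_ifs at h <;> omega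
    rw [ZMod.val_injective p this]
  · simp only [sapgl8_pos] at h
    have := j'.isLt
    split_ifs at h <;> omega
  · simp only [sapgl8_pos] at h
    have := j.isLt
    split_ifs at h <;> omega
  · simp only [sapgl8_pos] at h
    have : j = j' := Fin.ext (by omega)
    rw [this]

theorem sapgl8_pos_tauI [NeZero p] (hkl : k + 1 ≤ l) (hlp : l + 1 ≤ p) (y : Ix p k) :
    sapgl8_pos p k l (tauI p k l y) = sapgl8_sig (l + k) (sapgl8_pos p k l y) := by
  have hp1 : Fact (1 < p) := ⟨by omega⟩
  have h1 : (1 : ZMod p).val = 1 := ZMod.val_one p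
  rcases y with x | j
  · have hxlt := ZMod.val_lt x
    simp only [tauI]
    by_cases hA : 1 ≤ x.val ∧ x.val < l
    · rw [if_pos hA]
      have hv : (x + 1).val = x.val + 1 := by
        rw [ZMod.val_add_of_lt (by rw [h1]; omega), h1]
      simp only [sapgl8_pos, hv, sapgl8_sig]
      split_ifs <;> omega
    · rw [if_neg hA]
      by_cases hB : x.val = l
      · rw [if_pos hB]
        by_cases hk : 0 < k
        · rw [dif_pos hk]
          simp only [sapgl8_pos, sapgl8_sig]
          split_ifs <;> omega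
        · rw [dif_neg hk]
          simp only [sapgl8_pos, sapgl8_sig, h1]
          split_ifs <;> omega
      · rw [if_neg hB]
        simp only [sapgl8_pos, sapgl8_sig]
        split_ifs <;> omega
  · have hj := j.isLt
    simp only [tauI]
    by_cases hD : j.val + 1 < k
    · rw [dif_pos hD]
      have e1 : sapgl8_pos p k l (Sum.inr ⟨j.val + 1, hD⟩) = l + 1 + (j.val + 1) := rfl
      have e2 : sapgl8_pos p k l (Sum.inr j) = l + 1 + j.val := rfl
      rw [e1, e2]
      unfold sapgl8_sig
      split_ifs <;> omega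
    · rw [dif_neg hD]
      have e1 : sapgl8_pos p k l (Sum.inl 1) = if (1 : ZMod p).val ≤ l then (1 : ZMod p).val else (1 : ZMod p).val + k := rfl
      have e2 : sapgl8_pos p k l (Sum.inr j) = l + 1 + j.val := rfl
      rw [e1, e2, h1]
      unfold sapgl8_sig
      split_ifs <;> omega

theorem sapgl8_pos_iter [NeZero p] (hkl : k + 1 ≤ l) (hlp : l + 1 ≤ p) (t : ℕ) (y : Ix p k) :
    sapgl8_pos p k l ((tauI p k l)^[t] y) = (sapgl8_sig (l + k))^[t] (sapgl8_pos p k l y) := by
  induction t with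
  | zero => rfl
  | succ t ih =>
    rw [Function.iterate_succ_apply', Function.iterate_succ_apply', sapgl8_pos_tauI hkl hlp, ih]

/-- GL8 [M]: combinatorics of `tauI`: it is injective and every pair can be rotated into the old
points. -/
theorem tauI_injective [NeZero p] (hkl : k + 1 ≤ l) (hlp : l + 1 ≤ p) :
    Function.Injective (tauI p k l) := by
  intro y y' h
  apply sapgl8_pos_injective (p := p) (k := k) (l := l)
  apply sapgl8_sig_injective (l + k) (by omega)
  rw [← sapgl8_pos_tauI hkl hlp, ← sapgl8_pos_tauI hkl hlp, h]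

theorem tauI_cover [NeZero p] (hkl : k + 1 ≤ l) (hlp : l + 1 ≤ p) (y y' : Ix p k) :
    ∃ t : ℕ, ∃ x x' : ZMod p, (tauI p k l)^[t] y = Sum.inl x ∧ (tauI p k l)^[t] y' = Sum.inl x' := by
  obtain ⟨t, h1, h2⟩ := sapgl8_cover_nat (k := k) (l := l) hkl (sapgl8_pos p k l y) (sapgl8_pos p k l y')
  rw [← sapgl8_pos_iter hkl hlp] at h1 h2
  have old : ∀ w : Ix p k, ¬ (l + 1 ≤ sapgl8_pos p k l w ∧ sapgl8_pos p k l w ≤ l + k) →
      ∃ x : ZMod p, w = Sum.inl x := by
    intro w hw
    rcases w with x | j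
    · exact ⟨x, rfl⟩
    · exfalso
      apply hw
      have := j.isLt
      simp only [sapgl8_pos]
      omega
  obtain ⟨x, hx⟩ := old _ h1
  obtain ⟨x', hx'⟩ := old _ h2
  exact ⟨t, x, x', hx, hx'⟩

end glue

end Cfsg.Agent.Lib.helper7.SAP
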