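import Cfsg.Agent.Lib.helper7.SAP.Defs
import Cfsg.Agent.Lib.Helper13.SAPPERM3core
import Cfsg.Agent.Lib.Helper22.SAPALT2
import Cfsg.Agent.Lib.Helper26.SAPALT3

/-!
# Project SAP, rows PERM3 (`zh_carRel`, `closure_zh`) and PERM3B (`card_closure_zh_old`, `mem_closure_zh_old`), verbatim

From the cores in `Helper13.SAPPERM3core`, ALT2 (`c3_carRel`, helper22) and ALT3 (`altgen`, helper26).
-/

set_option autoImplicit false

namespace Cfsg.Agent.Lib.helper7.SAP

open Equiv

universe u

section perm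
variable (p k l : ℕ)

/-- PERM3 [M]: the Carmichael family in `Perm (Pt p k)` (ALT2, ALT3). -/
theorem zh_carRel [NeZero p] : CarRel (zh : Ix p k → Perm (Pt p k)) :=
  sapperm3_zh_carRel_core p k (c3_carRel ps1 ps2 (sapperm3_ps_ne p k))

theorem closure_zh [NeZero p] :
    Subgroup.closure (Set.range (zh : Ix p k → Perm (Pt p k))) = alternatingGroup (Pt p k) :=
  sapperm3_closure_zh_core p k (altgen ps1 ps2 (sapperm3_ps_ne p k))

/-- the old part: image of `alternatingGroup (ZMod p ⊕ Fin 2)` under `σ ↦ sumCongr σ 1` -/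
theorem card_closure_zh_old [NeZero p] :
    2 * Nat.card (Subgroup.closure (Set.range fun x : ZMod p => zh (Sum.inl x : Ix p k))) =
      (p + 2).factorial :=
  sapperm3b_card_core p k (altgen (Sum.inr 0) (Sum.inr 1) (by simp))

theorem mem_closure_zh_old [NeZero p] (σ : Perm (ZMod p ⊕ Fin 2)) (hσ : Perm.sign σ = 1) :
    (Equiv.sumCongr σ (Equiv.refl (Fin k)) : Perm (Pt p k)) ∈
      Subgroup.closure (Set.range fun x : ZMod p => zh (Sum.inl x : Ix p k)) :=
  sapperm3b_mem_core p k (altgen (Sum.inr 0) (Sum.inr 1) (by simp)) σ hσ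

end perm

end Cfsg.Agent.Lib.helper7.SAP
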