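import Mathlib
import Cfsg.Prelude.Def_Classical
import Cfsg.Prelude.Def_KGroupFacts
import Cfsg.Agent.Lib.Lead.SPM2.Defs

/-!
# Project SPM2 (designer lead; S2099), row T6 `CovM.pi_surj`, VERBATIM (helper13): `π` is onto (port of helper18's SPB T6).
-/

set_option autoImplicit false

namespace Cfsg.Agent.Lib.Lead.SPM2

open Cfsg.Agent.Lib.helper15.St2 Cfsg.Agent.Lib.helper3.STC Cfsg.Agent.Lib.Lead.STD Cfsg.Agent.Lib.helper17.STM
  Cfsg.Agent.Lib.Lead.SPN Cfsg.Agent.Lib.Helper16
open Cfsg.Agent.Lib.Helper12.OMN (omatM oglM omatM_mul omatM_one omatM_injective oglM_coe oglM_injective)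

universe u v w

section T

namespace CovM

variable {m : ℕ} {F : Type u} [Field F] [Fintype F] {A B : F} [Fact (∀ r : F, r ^ 2 ≠ -B + A * r)] {G : Type v} [Group G] (C : CovM m F A B G)

/-- T6 [S-M]  `π` is onto. -/
theorem pi_surj (homn : OmnSys m F A B) : Function.Surjective C.π := by
  obtain ⟨S₀, hgen, hx, hxs⟩ := homn
  have hL : ∀ a b t, S₀.x a b t ∈ C.π.range := by
    intro a b t
    by_cases hab : a = b
    · subst hab
      rw [S₀.diag]
      exact C.π.range.one_mem
    by_cases hab' : a = ng b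
    · subst hab'
      have h := S₀.opp (ng b) t
      rw [Cfsg.Agent.Lib.helper3.STC.ng_ng] at h
      rw [h]
      exact C.π.range.one_mem
    · refine ⟨C.S.x a b t, ?_⟩
      apply omatM_injective
      rw [C.hπ a b hab hab' t, hx a b hab hab' t]
  have hS : ∀ a t, S₀.xs a t ∈ C.π.range := by
    intro a t
    refine ⟨C.S.xs a t, ?_⟩
    apply omatM_injective
    rw [C.hπs a t, hxs a t]
  have htop : (⊤ : Subgroup ↥(Cfsg.Omega F (Cfsg.quadFormMinus m F A B))) ≤ C.π.range := by
    rw [← hgen]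
    unfold SysM.XQ
    rw [Subgroup.closure_le]
    rintro g (⟨a, b, t, -, -, -, rfl⟩ | ⟨a, t, -, rfl⟩)
    · exact hL a b t
    · exact hS a t
  intro y
  exact htop (Subgroup.mem_top y)

end CovM

end T

end Cfsg.Agent.Lib.Lead.SPM2
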