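import Mathlib
import Cfsg.Agent.Lib.helper15.St2
import Cfsg.Agent.Lib.helper7.StA
import Cfsg.Agent.Lib.helper7.StC
import Cfsg.Agent.Lib.helper7.StE
import Cfsg.Agent.Lib.helper3.STC.Defs
import Cfsg.Agent.Lib.helper3.STC.Defs2
import Cfsg.Agent.Lib.helper3.STC.Defs3
import Cfsg.Agent.Lib.helper23.STCH1
import Cfsg.Agent.Lib.Helper26.STCN1
import Cfsg.Agent.Lib.Helper26.STCN4
import Cfsg.Agent.Lib.Helper12.STCN5
import Cfsg.Agent.Lib.Helper22.STCN6
import Cfsg.Agent.Lib.helper2.STCN3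

/-!
# STC row F4 (helper13): `lemA_short`, the short root element `x o j t` on the big cell.  Extras `stcf4_*`.
-/

set_option autoImplicit false

namespace Cfsg.Agent.Lib.helper3.STC

open Cfsg.Agent.Lib.helper15.St2 Cfsg.Agent.Lib.helper7.St

namespace SysC

variable {K : Type*} [Field K] {ι : Type*} {G : Type*} [Group G] (S : SysC K ι G)

section F
variable [DecidableEq ι] (o : ι ⊕ ι)

/-- own-name copy of F2 `h_cj_mem_Yg`: `h o b t` normalises `Yg o`. -/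
theorem stcf4_h_cj_mem_Yg (hH : S.HH) {b : ι ⊕ ι} (hb : b ≠ o) {t : K} (ht : t ≠ 0) :
    ∀ y ∈ S.Yg o, cj (S.h o b t) y ∈ S.Yg o :=
  SysC.IsMon.cj_mem_Yg S o (hH o b (Ne.symm hb) t ht) (Equiv.Perm.one_apply o)

/-- moving `x o j s` across `y' ∈ Yj o j` (N6 with its hypotheses N4, N5 filled in). -/
theorem stcf4_Yj_Pg {j : ι ⊕ ι} (hj : j ≠ o) (hj' : j ≠ ng o) :
    ∀ y' ∈ S.Yj o j, ∀ s : K, ∃ y₂ ∈ S.Yg o, ∃ p ∈ S.Pg o, S.x o j s * y' = y' * y₂ * p := by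
  have h1 : ng o ≠ j := Ne.symm hj'
  have h2 : ng o ≠ ng j := fun h => hj (stcn4_ng_inj h).symm
  exact S.Yj_Pg o hj hj' (S.Yg_decomp j h1 h2) (S.Yj_cj_mem_Yg o hj hj')

/-- F4 [M]  the short root element `x o j t` on the big cell. -/
theorem lemA_short [Finite K] (hH : S.HH) {j : ι ⊕ ι} (hj : j ≠ o) (hj' : j ≠ ng o) (t : K) {y p : G} (hy : y ∈ S.Yg o)
    (hp : p ∈ S.Phat o) : S.x o j t * (y * p) ∈ S.cell0 o ∨ S.x o j t * (y * p) ∈ S.cell o j := by
  have hoj : o ≠ j := Ne.symm hj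
  obtain ⟨u, y', hy', rfl⟩ := S.Yg_decomp o hj hj' y hy
  have hy'' : y' ∈ S.Yg o := S.Yj_le_Yg o j hy'
  by_cases hd : 1 + t * u = 0
  · -- degenerate case
    have ht : t ≠ 0 := by
      rintro rfl
      simp at hd
    have hu : u = -t⁻¹ := by
      field_simp
      linear_combination hd
    subst hu
    obtain ⟨y2, hy2, p1, hp1, e⟩ := S.stcf4_Yj_Pg o hj hj' y' hy' (-t)
    have hh : S.h o j t⁻¹ ∈ S.Phat o := S.h_mem_Phat o hj (inv_ne_zero ht)
    refine Or.inr ⟨cj (S.h o j t⁻¹) (y' * y2),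
      S.stcf4_h_cj_mem_Yg o hH hj (inv_ne_zero ht) _ (mul_mem hy'' hy2),
      S.h o j t⁻¹ * p1 * p, mul_mem (mul_mem hh (S.Pg_le_Phat o hp1)) hp, ?_⟩
    calc S.x o j t * (S.x j o (-t⁻¹) * y' * p)
        = (S.x o j t * S.x j o (-t⁻¹)) * y' * p := by group
      _ = (S.w o j 1 * S.h o j t⁻¹ * S.x o j (-t)) * y' * p := by
          rw [S.lu0 hoj, S.w_eq_w_one_mul_h hoj t ht]
      _ = S.w o j 1 * S.h o j t⁻¹ * (S.x o j (-t) * y') * p := by group
      _ = S.w o j 1 * S.h o j t⁻¹ * (y' * y2 * p1) * p := by rw [e]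
      _ = S.w o j 1 * cj (S.h o j t⁻¹) (y' * y2) * (S.h o j t⁻¹ * p1 * p) := by
          unfold cj; group
  · obtain ⟨y2, hy2, p1, hp1, e⟩ := S.stcf4_Yj_Pg o hj hj' y' hy' (t / (1 + t * u))
    have hh : S.h o j (1 + t * u) ∈ S.Phat o := S.h_mem_Phat o hj hd
    refine Or.inl ⟨S.x j o (u / (1 + t * u)) * cj (S.h o j (1 + t * u)) (y' * y2),
      mul_mem (S.x_mem_Yg o hj _) (S.stcf4_h_cj_mem_Yg o hH hj hd _ (mul_mem hy'' hy2)),
      S.h o j (1 + t * u) * p1 * p, mul_mem (mul_mem hh (S.Pg_le_Phat o hp1)) hp, ?_⟩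
    calc S.x o j t * (S.x j o u * y' * p)
        = (S.x o j t * S.x j o u) * y' * p := by group
      _ = (S.x j o (u / (1 + t * u)) * S.h o j (1 + t * u) * S.x o j (t / (1 + t * u))) *
            y' * p := by rw [S.lu hoj t u hd]
      _ = S.x j o (u / (1 + t * u)) * S.h o j (1 + t * u) *
            (S.x o j (t / (1 + t * u)) * y') * p := by group
      _ = S.x j o (u / (1 + t * u)) * S.h o j (1 + t * u) * (y' * y2 * p1) * p := by rw [e]
      _ = S.x j o (u / (1 + t * u)) * cj (S.h o j (1 + t * u)) (y' * y2) *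
            (S.h o j (1 + t * u) * p1 * p) := by
          unfold cj; group

end F

end SysC

end Cfsg.Agent.Lib.helper3.STC
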