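import Mathlib
import Cfsg.Agent.Lib.helper15.St2
import Cfsg.Agent.Lib.helper7.StA
import Cfsg.Agent.Lib.helper7.StC
import Cfsg.Agent.Lib.helper7.StE
import Cfsg.Agent.Lib.helper3.STC.Defs
import Cfsg.Agent.Lib.helper3.STC.Defs2
import Cfsg.Agent.Lib.helper3.STC.Defs3
import Cfsg.Agent.Lib.Helper26.STCN1
import Cfsg.Agent.Lib.Helper12.STCN2
import Cfsg.Agent.Lib.Helper13.STCF4

/-!
# STC row F10 core (helper13): `lemA_all` with the statement of F9 `lemA_long` as a hypothesis.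
Own-name copies `stcf10_lemA_Y`, `stcf10_lemA_Y'`, `stcf10_lemA_L` of the F3 statements.
-/

set_option autoImplicit false

namespace Cfsg.Agent.Lib.helper3.STC

open Cfsg.Agent.Lib.helper15.St2 Cfsg.Agent.Lib.helper7.St

namespace SysC

variable {K : Type*} [Field K] {ι : Type*} {G : Type*} [Group G] (S : SysC K ι G)

section F
variable [DecidableEq ι] (o : ι ⊕ ι)

/-- own-name copy of F3 `lemA_Y` -/
theorem stcf10_lemA_Y {a : ι ⊕ ι} (ha : a ≠ o) (t : K) {y p : G} (hy : y ∈ S.Yg o) (hp : p ∈ S.Phat o) :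
    S.x a o t * (y * p) ∈ S.cell0 o :=
  ⟨S.x a o t * y, mul_mem (S.x_mem_Yg o ha t) hy, p, hp, by group⟩

/-- own-name copy of F3 `lemA_Y'` -/
theorem stcf10_lemA_Y' {b : ι ⊕ ι} (hb : b ≠ ng o) (t : K) {y p : G} (hy : y ∈ S.Yg o) (hp : p ∈ S.Phat o) :
    S.x (ng o) b t * (y * p) ∈ S.cell0 o :=
  ⟨S.x (ng o) b t * y, mul_mem (S.x_mem_Yg' o hb t) hy, p, hp, by group⟩

/-- own-name copy of F3 `lemA_L` -/
theorem stcf10_lemA_L {a b : ι ⊕ ι} (hab : a ≠ b) (ha : a ≠ o) (ha' : a ≠ ng o) (hb : b ≠ o) (hb' : b ≠ ng o) (t : K)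
    {y p : G} (hy : y ∈ S.Yg o) (hp : p ∈ S.Phat o) : S.x a b t * (y * p) ∈ S.cell0 o := by
  refine ⟨cj (S.x a b t) y, S.x_cj_mem_Yg o hab ha ha' hb hb' t y hy, S.x a b t * p,
    mul_mem (S.Pg_le_Phat o (S.x_mem_Pg o hab hb ha' t)) hp, ?_⟩
  unfold cj; group

/-- F10 core: all root elements on the big cell, given the long root case (the statement of F9). -/
theorem stcf10_core [Finite K] (hH : S.HH)
    (hlong : ∀ (s : K) {y p : G}, y ∈ S.Yg o → p ∈ S.Phat o → S.InD o (S.x o (ng o) s * (y * p)))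
    {a b : ι ⊕ ι} (hab : a ≠ b) (t : K) {y p : G} (hy : y ∈ S.Yg o)
    (hp : p ∈ S.Phat o) : S.InD o (S.x a b t * (y * p)) := by
  by_cases hbo : b = o
  · subst hbo
    exact Or.inl (S.stcf10_lemA_Y b hab t hy hp)
  by_cases hano : a = ng o
  · subst hano
    exact Or.inl (S.stcf10_lemA_Y' o (Ne.symm hab) t hy hp)
  by_cases hao : a = o
  · subst hao
    by_cases hbno : b = ng a
    · subst hbno
      exact hlong t hy hp
    · rcases S.lemA_short a hH hbo hbno t hy hp with h | h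
      · exact Or.inl h
      · exact Or.inr ⟨b, hbo, h⟩
  by_cases hbno : b = ng o
  · subst hbno
    have e : S.x a (ng o) t = S.x o (ng a) (-(sg a * sg (ng o) * t)) := by
      rw [S.sym a (ng o) hab t, stcn4_ng_ng]
    have h1 : ng a ≠ o := fun h => hano (by rw [← h, stcn4_ng_ng])
    have h2 : ng a ≠ ng o := fun h => hao (stcn4_ng_inj h)
    rw [e]
    rcases S.lemA_short o hH h1 h2 _ hy hp with h | h
    · exact Or.inl h
    · exact Or.inr ⟨ng a, h1, h⟩
  · exact Or.inl (S.stcf10_lemA_L o hab hao hano hbo hbno t hy hp)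

end F

end SysC

end Cfsg.Agent.Lib.helper3.STC
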