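import Mathlib
import Cfsg.Agent.Lib.Helper9.A2S.Defs
import Cfsg.Agent.Lib.Helper1.A2SAB1
import Cfsg.Agent.Lib.Helper1.A2SAB4

set_option autoImplicit false

namespace Cfsg.Agent.Lib.Helper9.A2S

open Equiv

set_option maxRecDepth 100000 in
/-- an even permutation of `Fin 4` of order dividing `4` has order dividing `2` -/
theorem a2sN45_four : ∀ g : Perm (Fin 4), Perm.sign g = 1 → g ^ 4 = 1 → g ^ 2 = 1 := by
  decide +kernel

set_option maxRecDepth 100000 in
/-- an even permutation of `Fin 5` of order dividing `4` has order dividing `2` -/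
theorem a2sN45_five : ∀ g : Perm (Fin 5), Perm.sign g = 1 → g ^ 4 = 1 → g ^ 2 = 1 := by
  decide +kernel

theorem a2sN45_fact12 : (12).factorization 2 = 2 := by
  rw [Nat.factorization_def _ Nat.prime_two]
  have : (12:ℕ) = 2 ^ 2 * 3 := by norm_num
  rw [this, padicValNat.mul (by norm_num) (by norm_num), padicValNat.prime_pow,
    padicValNat.eq_zero_of_not_dvd (by norm_num)]

theorem a2sN45_fact60 : (60).factorization 2 = 2 := by
  rw [Nat.factorization_def _ Nat.prime_two]
  have : (60:ℕ) = 2 ^ 2 * 15 := by norm_num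
  rw [this, padicValNat.mul (by norm_num) (by norm_num), padicValNat.prime_pow,
    padicValNat.eq_zero_of_not_dvd (by norm_num)]

/-- the order of a Sylow `2`-subgroup of `Alt 4`, `Alt 5` -/
theorem a2sN45_card (n : ℕ) (hn : n = 4 ∨ n = 5) (P : Sylow 2 ↥(alternatingGroup (Fin n))) :
    Nat.card ↥(P : Subgroup ↥(alternatingGroup (Fin n))) = 4 := by
  rw [Sylow.card_eq_multiplicity]
  rcases hn with rfl | rfl
  · have h : Nat.card ↥(alternatingGroup (Fin 4)) = 12 := by
      rw [nat_card_alternatingGroup]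
      simp [Nat.factorial]
    rw [h, a2sN45_fact12]; norm_num
  · have h : Nat.card ↥(alternatingGroup (Fin 5)) = 60 := by
      rw [nat_card_alternatingGroup]
      simp [Nat.factorial]
    rw [h, a2sN45_fact60]; norm_num

/-- A2S-N45 -/
theorem sdecomp_small (n : ℕ) (hn : n = 4 ∨ n = 5) (P : Sylow 2 ↥(alternatingGroup (Fin n))) :
    SDecomp (P : Subgroup ↥(alternatingGroup (Fin n))) := by
  rw [sdecomp_iff_gdecomp]
  have hc := a2sN45_card n hn P
  apply gdecomp_of_card_four hc
  intro g
  have h4 : g ^ 4 = 1 := by rw [← hc]; exact pow_card_eq_one'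
  have hs : Perm.sign (g.1.1) = 1 := Perm.mem_alternatingGroup.1 g.1.2
  have h4' : (g.1.1) ^ 4 = 1 := by
    have := congrArg (fun x : ↥(P : Subgroup ↥(alternatingGroup (Fin n))) => (x.1.1)) h4
    simpa using this
  have h2 : (g.1.1) ^ 2 = 1 := by
    rcases hn with rfl | rfl
    · exact a2sN45_four _ hs h4'
    · exact a2sN45_five _ hs h4'
  apply Subtype.ext
  apply Subtype.ext
  rw [pow_two] at h2
  simpa using h2

end Cfsg.Agent.Lib.Helper9.A2S
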