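import Mathlib
import Cfsg.Agent.Lib.Helper24.APF.Defs
import Cfsg.Agent.Lib.Helper13.APFCERT1

/-! Project APF, piece CERT2 : two permutations whose supports meet in exactly one point
(and which are not involutive there) generate a non-solvable group. -/

set_option autoImplicit false

namespace Cfsg.Agent.Lib.Helper24.APF

open Equiv

section threecycle

variable {α : Type*} [DecidableEq α]

theorem h13_tc_a (a b c : α) (hab : a ≠ b) (hac : a ≠ c) :
    (swap a b * swap b c) a = b := by
  rw [Equiv.Perm.mul_apply, Equiv.swap_apply_of_ne_of_ne hab hac, Equiv.swap_apply_left]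

theorem h13_tc_b (a b c : α) (hac : a ≠ c) (hbc : b ≠ c) :
    (swap a b * swap b c) b = c := by
  rw [Equiv.Perm.mul_apply, Equiv.swap_apply_left, Equiv.swap_apply_of_ne_of_ne hac.symm hbc.symm]

theorem h13_tc_c (a b c : α) : (swap a b * swap b c) c = a := by
  rw [Equiv.Perm.mul_apply, Equiv.swap_apply_right, Equiv.swap_apply_right]

theorem h13_tc_z (a b c z : α) (hza : z ≠ a) (hzb : z ≠ b) (hzc : z ≠ c) :
    (swap a b * swap b c) z = z := by
  rw [Equiv.Perm.mul_apply, Equiv.swap_apply_of_ne_of_ne hzb hzc,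
    Equiv.swap_apply_of_ne_of_ne hza hzb]

/-- the commutator of two permutations whose supports meet exactly in `x` -/
theorem h13_comm_single_overlap (s t : Perm α) (x : α)
    (hov : ∀ z : α, s z ≠ z → t z ≠ z → z = x) (hsx : s x ≠ x) (htx : t x ≠ x) :
    s * t * s⁻¹ * t⁻¹ = swap x (s x) * swap (s x) (t x) := by
  have A : ∀ z, s z ≠ z → z ≠ x → t z = z := fun z h1 h2 => by
    by_contra h3
    exact h2 (hov z h1 h3)
  have B : ∀ z, t z ≠ z → z ≠ x → s z = z := fun z h1 h2 => by
    by_contra h3
    exact h2 (hov z h3 h1)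
  have hs' : ∀ z, s z ≠ z → s (s z) ≠ s z := fun z h h' => h (s.injective h')
  have ht' : ∀ z, t z ≠ z → t (t z) ≠ t z := fun z h h' => h (t.injective h')
  have hstx : s x ≠ t x := by
    intro h
    have h1 : t (s x) = s x := A (s x) (hs' x hsx) hsx
    rw [h] at h1
    exact ht' x htx h1
  have key : s * t = swap x (s x) * swap (s x) (t x) * t * s := by
    ext z
    simp only [Equiv.Perm.mul_apply]
    by_cases hzx : z = x
    · subst hzx
      rw [B (t z) (ht' z htx) htx, A (s z) (hs' z hsx) hsx]
      exact (h13_tc_b z (s z) (t z) htx.symm hstx).symm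
    · by_cases hsz : s z = z
      · rw [hsz]
        by_cases htz : t z = z
        · rw [htz, hsz]
          symm
          apply h13_tc_z
          · exact hzx
          · intro h
            rw [h] at hsz
            exact hsx (s.injective hsz)
          · intro h
            rw [h] at htz
            exact htx (t.injective htz)
        · by_cases htzx : t z = x
          · rw [htzx]
            exact (h13_tc_a x (s x) (t x) hsx.symm htx.symm).symm
          · rw [B (t z) (ht' z htz) htzx]
            symm
            apply h13_tc_z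
            · exact htzx
            · intro h
              have h1 : t (s x) = s x := A (s x) (hs' x hsx) hsx
              rw [← h] at h1
              exact ht' z htz h1
            · intro h
              exact hzx (t.injective h)
      · rw [A z hsz hzx]
        by_cases hszx : s z = x
        · rw [hszx]
          exact (h13_tc_c x (s x) (t x)).symm
        · rw [A (s z) (hs' z hsz) hszx]
          symm
          apply h13_tc_z
          · exact hszx
          · intro h
            exact hzx (s.injective h)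
          · intro h
            have h1 : s (t x) = t x := B (t x) (ht' x htx) htx
            rw [← h] at h1
            exact hs' z hsz h1
  rw [key]
  group

end threecycle

theorem not_solvable_of_single_overlap {α : Type*} [Fintype α] [DecidableEq α]
    (K : Subgroup (Perm α)) (s t : Perm α) (hs : s ∈ K) (ht : t ∈ K) (x : α)
    (hov : ∀ z : α, s z ≠ z → t z ≠ z → z = x)
    (hsx : s x ≠ x) (htx : t x ≠ x) (hs2 : s (s x) ≠ x) (ht2 : t (t x) ≠ x) :
    ¬ Group.IsSolvable K := by
  have hinv : ∀ (g : Perm α) (z : α), g⁻¹ z ≠ z ↔ g z ≠ z := by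
    intro g z
    rw [not_iff_not, Equiv.Perm.inv_eq_iff_eq]
    exact eq_comm
  have hov' : ∀ z : α, s⁻¹ z ≠ z → t⁻¹ z ≠ z → z = x := fun z h1 h2 =>
    hov z ((hinv s z).mp h1) ((hinv t z).mp h2)
  have hsx' : s⁻¹ x ≠ x := (hinv s x).mpr hsx
  have htx' : t⁻¹ x ≠ x := (hinv t x).mpr htx
  have e1 := h13_comm_single_overlap s t x hov hsx htx
  have e2 := h13_comm_single_overlap s⁻¹ t⁻¹ x hov' hsx' htx'
  rw [inv_inv, inv_inv] at e2
  have A : ∀ z, s z ≠ z → z ≠ x → t z = z := fun z h1 h2 => by
    by_contra h3
    exact h2 (hov z h1 h3)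
  -- disjointness helper: a point moved by `s` other than `x` differs from a point moved by `t`
  have hne : ∀ y z : α, s y ≠ y → y ≠ x → t z ≠ z → y ≠ z := by
    intro y z h1 h2 h3 h
    rw [← h] at h3
    exact h3 (A y h1 h2)
  have hs_sx : s (s x) ≠ s x := fun h => hsx (s.injective h)
  have ht_tx : t (t x) ≠ t x := fun h => htx (t.injective h)
  have hsi : s (s⁻¹ x) = x := Equiv.apply_symm_apply s x
  have hti : t (t⁻¹ x) = x := Equiv.apply_symm_apply t x
  have hs_ix : s (s⁻¹ x) ≠ s⁻¹ x := by
    rw [hsi]
    exact hsx'.symm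
  have ht_ix : t (t⁻¹ x) ≠ t⁻¹ x := by
    rw [hti]
    exact htx'.symm
  have hnd : [x, s x, t x, s⁻¹ x, t⁻¹ x].Nodup := by
    have n1 : s x ≠ s⁻¹ x := by
      intro h
      apply hs2
      rw [h, hsi]
    have n2 : t x ≠ t⁻¹ x := by
      intro h
      apply ht2
      rw [h, hti]
    have n3 := hne (s x) (t x) hs_sx hsx ht_tx
    have n4 := hne (s x) (t⁻¹ x) hs_sx hsx ht_ix
    have n5 := (hne (s⁻¹ x) (t x) hs_ix hsx' ht_tx).symm
    have n6 := hne (s⁻¹ x) (t⁻¹ x) hs_ix hsx' ht_ix
    simp only [List.nodup_cons, List.mem_cons, List.not_mem_nil, or_false, not_or,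
      List.nodup_nil, and_true, not_false_eq_true]
    exact ⟨⟨hsx.symm, htx.symm, hsx'.symm, htx'.symm⟩, ⟨n3, n1, n4⟩, ⟨n5, n2⟩, n6⟩
  apply not_solvable_of_threeCycles K x (s x) (t x) (s⁻¹ x) (t⁻¹ x) hnd
  · rw [← e1]
    exact mul_mem (mul_mem (mul_mem hs ht) (inv_mem hs)) (inv_mem ht)
  · rw [← e2]
    exact mul_mem (mul_mem (mul_mem (inv_mem hs) (inv_mem ht)) hs) ht

end Cfsg.Agent.Lib.Helper24.APF
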