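import Mathlib
import Cfsg.Prelude.Def_GeometricClasses
import Cfsg.Agent.Lib.Helper27.ASC.Defs
import Cfsg.Agent.Lib.helper23.ASCO.Defs
import Cfsg.Agent.Lib.Helper19.ASG.Defs
import Cfsg.Agent.Lib.Helper1.ASGCLIF3
import Cfsg.Agent.Lib.Helper25.ASO.Defs
import Cfsg.Agent.Lib.helper23.ASE.Defs
import Cfsg.Agent.Lib.Helper28.Ld.Trans

set_option autoImplicit false
set_option linter.unusedVariables false
set_option linter.unusedSectionVars false

/-!
# Project ASE, piece PLUSDEC (core, helper13): an orthogonal decomposition into an even number `t` of isometric blocks of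
dimension `k`, `k` even or `4 ∣ t`, gives plus type.  The SIMIL statement `exists_similitude` is a hypothesis here;
`Helper13.ASEPLUSDEC` is the verbatim wrapper.
-/

namespace Cfsg.Agent.Lib.helper23.ASE

open Cfsg Cfsg.Geo Cfsg.Agent.Lib.Helper27.ASC Cfsg.Agent.Lib.helper23.ASCO Cfsg.Agent.Lib.Helper19.ASG
  Cfsg.Agent.Lib.Helper25.ASO
open scoped MatrixGroups Matrix Kronecker

variable {n : ℕ} {F : Type*} [Field F] [Fintype F]

/-- independent subspaces: a vanishing sum of members has vanishing terms -/
theorem aseplusdec_indep_zero {t : ℕ} (D : Fin t → Submodule F (Fin n → F)) (hD : iSupIndep D)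
    (x : Fin t → (Fin n → F)) (hx : ∀ i, x i ∈ D i) (h0 : ∑ i, x i = 0) : ∀ i, x i = 0 := by
  classical
  intro i
  have h1 : x i = - ∑ j ∈ Finset.univ.erase i, x j := by
    rw [← Finset.add_sum_erase _ _ (Finset.mem_univ i)] at h0
    exact eq_neg_of_add_eq_zero_left h0
  have h2 : x i ∈ ⨆ j ≠ i, D j := by
    rw [h1]
    apply Submodule.neg_mem
    apply Submodule.sum_mem
    intro j hj
    have hji : j ≠ i := Finset.ne_of_mem_erase hj
    exact Submodule.mem_iSup_of_mem j (Submodule.mem_iSup_of_mem hji (hx j))
  exact (Submodule.disjoint_def.mp (hD i)) _ (hx i) h2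

/-- a quadratic form is additive on pairwise orthogonal vectors -/
theorem aseplusdec_map_sum {ι : Type*} (Q : QuadraticForm F (Fin n → F)) (s : Finset ι) (x : ι → (Fin n → F))
    (h : ∀ i ∈ s, ∀ j ∈ s, i ≠ j → QuadraticMap.polar (⇑Q) (x i) (x j) = 0) :
    Q (∑ i ∈ s, x i) = ∑ i ∈ s, Q (x i) := by
  classical
  induction s using Finset.induction_on with
  | empty => simp
  | insert a s ha ih =>
    rw [Finset.sum_insert ha, Finset.sum_insert ha, QuadraticMap.map_add Q, ih]
    · have hp : QuadraticMap.polar (⇑Q) (x a) (∑ i ∈ s, x i) = 0 := by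
        have := map_sum (QuadraticMap.polarBilin Q (x a)) x s
        change QuadraticMap.polar (⇑Q) (x a) (∑ i ∈ s, x i) = ∑ i ∈ s, QuadraticMap.polar (⇑Q) (x a) (x i) at this
        rw [this]
        apply Finset.sum_eq_zero
        intro j hj
        apply h a (Finset.mem_insert_self a s) j (Finset.mem_insert_of_mem hj)
        rintro rfl
        exact ha hj
      rw [hp, add_zero]
    · intro i hi j hj hij
      exact h i (Finset.mem_insert_of_mem hi) j (Finset.mem_insert_of_mem hj) hij

/-- the range of a jointly injective family of linear maps into the blocks on which the sum of the values of `Q` vanishes -/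
theorem aseplusdec_range (Q : QuadraticForm F (Fin n → F)) {t k : ℕ} (D : Fin t → Submodule F (Fin n → F))
    (hD : IsOrthogonalMDecomposition (⇑Q) k D) (i0 : Fin t)
    {X : Type*} [AddCommGroup X] [Module F X] [FiniteDimensional F X]
    (L : Fin t → (X →ₗ[F] D i0)) (hL0 : ∀ x, ∑ i, Q ((L i x : D i0) : Fin n → F) = 0)
    (hLinj : ∀ x, (∀ i, L i x = 0) → x = 0) :
    ∃ U : Submodule F (Fin n → F), IsTotallySingularQuad (⇑Q) U ∧ Module.finrank F U = Module.finrank F X := by
  classical
  have hiso := fun i => hD.isometric i0 i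
  choose σ hσ using hiso
  let Φ : X →ₗ[F] (Fin n → F) := ∑ i, (D i).subtype ∘ₗ (σ i).toLinearMap ∘ₗ L i
  have hΦ : ∀ x, Φ x = ∑ i, ((σ i (L i x) : D i) : Fin n → F) := by
    intro x
    simp only [Φ, LinearMap.sum_apply, LinearMap.comp_apply, Submodule.subtype_apply, LinearEquiv.coe_coe]
  refine ⟨LinearMap.range Φ, ?_, ?_⟩
  · rintro _ ⟨x, rfl⟩
    rw [hΦ, aseplusdec_map_sum Q]
    · rw [← hL0 x]
      apply Finset.sum_congr rfl
      intro i _
      exact hσ i (L i x)
    · intro i _ j _ hij
      exact hD.decomp.orthogonal i j hij _ (σ i (L i x)).2 _ (σ j (L j x)).2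
  · apply LinearMap.finrank_range_of_inj
    rw [← LinearMap.ker_eq_bot, LinearMap.ker_eq_bot']
    intro x hx
    rw [hΦ] at hx
    have h1 := aseplusdec_indep_zero D hD.decomp.decomp.indep (fun i => ((σ i (L i x) : D i) : Fin n → F))
      (fun i => (σ i (L i x)).2) hx
    apply hLinj
    intro i
    have h2 : σ i (L i x) = 0 := Subtype.ext (h1 i)
    exact (σ i).map_eq_zero_iff.mp h2

/-- PLUSDEC (core) : `exists_similitude` as a hypothesis. -/
theorem aseplusdec_core (Q : QuadraticForm F (Fin n → F))
    (hsim : ∀ W : Submodule F (Fin n → F), IsNondegenerateOn (QuadraticMap.polar (⇑Q)) W →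
      Even (Module.finrank F W) → ∀ c : F, c ≠ 0 →
      ∃ g : W ≃ₗ[F] W, ∀ w : W, Q ((g w : W) : Fin n → F) = c * Q (w : Fin n → F))
    {t k : ℕ} (D : Fin t → Submodule F (Fin n → F)) (hD : IsOrthogonalMDecomposition (⇑Q) k D)
    (ht : Even t) (hk : Even k ∨ 4 ∣ t) : IsPlusTypeOn (⇑Q) ⊤ := by
  classical
  have ht2 : 2 ≤ t := hD.decomp.decomp.two_le
  have hn : t * k = n := Cfsg.Agent.Lib.Helper28.Ld.card_eq D hD.decomp.decomp
  let i0 : Fin t := ⟨0, by omega⟩
  have hfr : Module.finrank F (D i0) = k := hD.decomp.decomp.finrank_eq i0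
  have htop : Module.finrank F (⊤ : Submodule F (Fin n → F)) = n := by
    rw [finrank_top, Module.finrank_fintype_fun_eq_card, Fintype.card_fin]
  rcases hk with hk | hk
  · -- pairs
    obtain ⟨m, hm⟩ := ht
    obtain ⟨g, hg⟩ := hsim (D i0) (hD.decomp.nondegenerate i0) (by rw [hfr]; exact hk) (-1)
      (neg_ne_zero.mpr one_ne_zero)
    have hcard : Fintype.card (Fin t) = Fintype.card (Fin m × Fin 2) := by
      rw [Fintype.card_fin, Fintype.card_prod, Fintype.card_fin, Fintype.card_fin]; omega
    let e : Fin t ≃ Fin m × Fin 2 := Fintype.equivOfCardEq hcard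
    let L' : Fin m × Fin 2 → ((Fin m → D i0) →ₗ[F] D i0) := fun p =>
      ![LinearMap.proj p.1, g.toLinearMap ∘ₗ LinearMap.proj p.1] p.2
    obtain ⟨U, hU, hUd⟩ := aseplusdec_range Q D hD i0 (X := Fin m → D i0) (fun i => L' (e i))
      (by
        intro x
        rw [Equiv.sum_comp e (fun p => Q ((L' p x : D i0) : Fin n → F)), Fintype.sum_prod_type]
        apply Finset.sum_eq_zero
        intro j _
        rw [Fin.sum_univ_two]
        simp only [L', Matrix.cons_val_zero, Matrix.cons_val_one, LinearMap.proj_apply, LinearMap.comp_apply,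
          LinearEquiv.coe_coe]
        rw [hg]
        ring)
      (by
        intro x hx
        funext j
        have := hx (e.symm (j, 0))
        simpa [L'] using this)
    refine ⟨U, le_top, hU, ?_⟩
    rw [htop, hUd, Module.finrank_pi_fintype]
    simp only [hfr, Finset.sum_const, Finset.card_univ, Fintype.card_fin, smul_eq_mul]
    rw [← hn, hm]; ring
  · -- quadruples
    obtain ⟨s, hs⟩ := hk
    have hab : ∃ a b : F, 1 + a ^ 2 + b ^ 2 = 0 := by
      by_cases h2 : (2 : F) = 0
      · refine ⟨1, 0, ?_⟩
        rw [one_pow, zero_pow (by norm_num), add_zero]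
        rw [← h2]; norm_num
      · have hodd : Fintype.card F % 2 = 1 := by
          apply FiniteField.odd_card_of_char_ne_two
          intro h
          apply h2
          have := ringChar.Nat.cast_ringChar (R := F)
          rw [h] at this
          exact_mod_cast this
        obtain ⟨a, b, hab⟩ := FiniteField.exists_root_sum_quadratic (R := F)
          (f := Polynomial.X ^ 2) (g := Polynomial.X ^ 2 + Polynomial.C 1)
          (Polynomial.degree_X_pow 2) (by
            rw [Polynomial.degree_add_C]
            · exact Polynomial.degree_X_pow 2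
            · rw [Polynomial.degree_X_pow]; norm_num) hodd
        refine ⟨a, b, ?_⟩
        simp only [Polynomial.eval_pow, Polynomial.eval_X, Polynomial.eval_add, Polynomial.eval_C] at hab
        rw [← hab]; ring
    obtain ⟨a, b, hab⟩ := hab
    have hcard : Fintype.card (Fin t) = Fintype.card (Fin s × Fin 4) := by
      rw [Fintype.card_fin, Fintype.card_prod, Fintype.card_fin, Fintype.card_fin]; omega
    let e : Fin t ≃ Fin s × Fin 4 := Fintype.equivOfCardEq hcard
    let L' : Fin s × Fin 4 → ((Fin s → D i0 × D i0) →ₗ[F] D i0) := fun p =>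
      ![LinearMap.fst F _ _ ∘ₗ LinearMap.proj p.1, LinearMap.snd F _ _ ∘ₗ LinearMap.proj p.1,
        a • (LinearMap.fst F _ _ ∘ₗ LinearMap.proj p.1) - b • (LinearMap.snd F _ _ ∘ₗ LinearMap.proj p.1),
        b • (LinearMap.fst F _ _ ∘ₗ LinearMap.proj p.1) + a • (LinearMap.snd F _ _ ∘ₗ LinearMap.proj p.1)] p.2
    obtain ⟨U, hU, hUd⟩ := aseplusdec_range Q D hD i0 (X := Fin s → D i0 × D i0) (fun i => L' (e i))
      (by
        intro x
        rw [Equiv.sum_comp e (fun p => Q ((L' p x : D i0) : Fin n → F)), Fintype.sum_prod_type]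
        apply Finset.sum_eq_zero
        intro j _
        rw [Fin.sum_univ_four]
        simp only [L', Matrix.cons_val_zero, Matrix.cons_val_one, Matrix.cons_val_two, Matrix.cons_val_three,
          Matrix.head_cons, Matrix.tail_cons,
          LinearMap.proj_apply, LinearMap.comp_apply, LinearMap.fst_apply, LinearMap.snd_apply,
          LinearMap.sub_apply, LinearMap.add_apply, LinearMap.smul_apply, Submodule.coe_sub, Submodule.coe_add,
          Submodule.coe_smul]
        rw [sub_eq_add_neg, ← neg_smul, QuadraticMap.map_add Q, QuadraticMap.map_add Q, QuadraticMap.map_smul,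
          QuadraticMap.map_smul, QuadraticMap.map_smul, QuadraticMap.map_smul, QuadraticMap.polar_smul_left,
          QuadraticMap.polar_smul_left, QuadraticMap.polar_smul_right, QuadraticMap.polar_smul_right]
        simp only [smul_eq_mul]
        linear_combination (Q ((x j).1 : Fin n → F) + Q ((x j).2 : Fin n → F)) * hab)
      (by
        intro x hx
        funext j
        have h1 := hx (e.symm (j, 0))
        have h2 := hx (e.symm (j, 1))
        simp only [L', Equiv.apply_symm_apply, Matrix.cons_val_zero, Matrix.cons_val_one, LinearMap.proj_apply,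
          LinearMap.comp_apply, LinearMap.fst_apply, LinearMap.snd_apply] at h1 h2
        exact Prod.ext h1 h2)
    refine ⟨U, le_top, hU, ?_⟩
    rw [htop, hUd, Module.finrank_pi_fintype]
    simp only [Module.finrank_prod, hfr, Finset.sum_const, Finset.card_univ, Fintype.card_fin, smul_eq_mul]
    rw [← hn, hs]; ring

end Cfsg.Agent.Lib.helper23.ASE
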