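import Mathlib
import Cfsg.Prelude.Def_GeometricClasses
import Cfsg.Agent.Lib.Helper27.ASC.Defs
import Cfsg.Agent.Lib.helper23.ASCO.Defs
import Cfsg.Agent.Lib.Helper19.ASG.Defs
import Cfsg.Agent.Lib.Helper1.ASGCLIF3
import Cfsg.Agent.Lib.Helper25.ASO.Defs
import Cfsg.Agent.Lib.helper23.ASE.Defs
import Cfsg.Agent.Lib.Helper11.ASESIMIL
import Cfsg.Agent.Lib.Helper13.ASEPLUSDECcore

set_option autoImplicit false
set_option linter.unusedVariables false
set_option linter.unusedSectionVars false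

/-!
# Project ASE, piece PLUSDEC (helper13): verbatim wrapper of `aseplusdec_core` with SIMIL (`Helper11.ASESIMIL`).
-/

namespace Cfsg.Agent.Lib.helper23.ASE

open Cfsg Cfsg.Geo Cfsg.Agent.Lib.Helper27.ASC Cfsg.Agent.Lib.helper23.ASCO Cfsg.Agent.Lib.Helper19.ASG
  Cfsg.Agent.Lib.Helper25.ASO
open scoped MatrixGroups Matrix Kronecker

variable {n : ℕ} {F : Type*} [Field F] [Fintype F]

/-- PLUSDEC : an orthogonal decomposition into an even number `t` of isometric blocks of dimension `k`, with `k` even or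
`4 ∣ t`, makes the space of plus type. -/
theorem plus_of_dec (Q : QuadraticForm F (Fin n → F)) (hQ : (QuadraticMap.polarBilin Q).Nondegenerate)
    {t k : ℕ} (D : Fin t → Submodule F (Fin n → F)) (hD : IsOrthogonalMDecomposition (⇑Q) k D)
    (ht : Even t) (hk : Even k ∨ 4 ∣ t) : IsPlusTypeOn (⇑Q) ⊤ :=
  aseplusdec_core Q (fun W hW hev c hc => exists_similitude Q W hW hev c hc) D hD ht hk

end Cfsg.Agent.Lib.helper23.ASE
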