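import Mathlib
import Cfsg.Prelude.Def_GeometricClasses
import Cfsg.Agent.Lib.Helper27.ASC.Defs
import Cfsg.Agent.Lib.helper23.ASCO.Defs
import Cfsg.Agent.Lib.Helper19.ASG.Defs
import Cfsg.Agent.Lib.Helper1.ASGCLIF3
import Cfsg.Agent.Lib.Helper25.ASO.Defs
import Cfsg.Agent.Lib.helper23.ASE.Defs
import Cfsg.Agent.Lib.Helper25.ASOADJ
import Cfsg.Agent.Lib.Helper20.ASOSTAR

set_option autoImplicit false
set_option linter.unusedVariables false
set_option linter.unusedSectionVars false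

/-!
# Project ASE, piece TAU (helper13): the adjoint permutes the idempotents of an idempotent system by an involution
which is the identity or fixed point free (verbatim vs `helper23/ASE/Skel`).
-/

namespace Cfsg.Agent.Lib.helper23.ASE

open Cfsg Cfsg.Geo Cfsg.Agent.Lib.Helper27.ASC Cfsg.Agent.Lib.helper23.ASCO Cfsg.Agent.Lib.Helper19.ASG
  Cfsg.Agent.Lib.Helper25.ASO
open scoped MatrixGroups Matrix Kronecker

variable {n : ℕ} {F : Type*} [Field F] [Fintype F]

/-- TAU : the adjoint permutes the idempotents of the system by an involution `τ` which is the identity or has no fixed point. -/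
theorem idem_adj_perm (Q : QuadraticForm F (Fin n → F)) (hQ : (QuadraticMap.polarBilin Q).Nondegenerate)
    {H N : Subgroup (GL (Fin n) F)} (hHO : H ≤ isometryGroup F (⇑Q)) (hN : NormalIn N H) {t : ℕ}
    (E : Fin t → Matrix (Fin n) (Fin n) F) (hE : IsIdemSystem H N E) :
    ∃ τ : Equiv.Perm (Fin t), (∀ i, oadj (⇑Q) (E i) = E (τ i)) ∧ (∀ i, τ (τ i) = i) ∧
      ((∀ i, τ i = i) ∨ (∀ i, τ i ≠ i)) := by
  classical
  have hstar : ∀ z ∈ asgZ N, oadj (⇑Q) z ∈ asgZ N :=
    fun z hz => star_mem_Z Q hQ (hN.1.trans hHO) z hz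
  have s0 : oadj (⇑Q) (0 : Matrix (Fin n) (Fin n) F) = 0 := by
    have := oadj_smul Q (0 : F) (0 : Matrix (Fin n) (Fin n) F)
    rwa [zero_smul, zero_smul] at this
  have hsid : ∀ i, oadj (⇑Q) (E i) * oadj (⇑Q) (E i) = oadj (⇑Q) (E i) := by
    intro i
    rw [← oadj_mul Q hQ, hE.idem]
  have hsne : ∀ i, oadj (⇑Q) (E i) ≠ 0 := by
    intro i h0
    apply hE.ne_zero i
    rw [← oadj_oadj Q hQ (E i), h0, s0]
  have hperm : ∀ i, ∃ j, oadj (⇑Q) (E i) = E j := by
    intro i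
    have hex : ∃ j, oadj (⇑Q) (E i) * E j ≠ 0 := by
      by_contra hcon
      push Not at hcon
      apply hsne i
      calc oadj (⇑Q) (E i) = oadj (⇑Q) (E i) * ∑ j, E j := by rw [hE.sum, Matrix.mul_one]
        _ = ∑ j, oadj (⇑Q) (E i) * E j := by rw [Finset.mul_sum]
        _ = 0 := Finset.sum_eq_zero fun j _ => hcon j
    obtain ⟨j, hj⟩ := hex
    refine ⟨j, ?_⟩
    have h1 : oadj (⇑Q) (E i) * E j = E j := by
      rcases hE.atom _ (hstar _ (hE.mem i)) (hsid i) j with h | h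
      · exact absurd h hj
      · exact h
    have h2 : oadj (⇑Q) (E j) * E i = oadj (⇑Q) (E j) := by
      have := congrArg (oadj (⇑Q)) h1
      rwa [oadj_mul Q hQ, oadj_oadj Q hQ] at this
    have h3 : oadj (⇑Q) (E j) * E i = E i := by
      rcases hE.atom _ (hstar _ (hE.mem j)) (hsid j) i with h | h
      · rw [h2] at h
        exact absurd h (hsne j)
      · exact h
    have h4 : oadj (⇑Q) (E j) = E i := h2.symm.trans h3
    rw [← h4, oadj_oadj Q hQ]
  choose τ hτ using hperm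
  have hττ : ∀ i, τ (τ i) = i := by
    intro i
    apply hE.inj
    rw [← hτ, ← hτ, oadj_oadj Q hQ]
  have hconj : ∀ h ∈ H, ∀ X : Matrix (Fin n) (Fin n) F,
      oadj (⇑Q) (asgConj h X) = asgConj h (oadj (⇑Q) X) := by
    intro h hh X
    unfold asgConj
    have e1 := oadj_of_iso Q hQ h (hHO hh)
    have e2 := oadj_of_iso Q hQ h⁻¹ (hHO (H.inv_mem hh))
    rw [inv_inv] at e2
    rw [oadj_mul Q hQ, oadj_mul Q hQ, e1, e2, Matrix.mul_assoc]
  refine ⟨⟨τ, τ, hττ, hττ⟩, fun i => hτ i, fun i => hττ i, ?_⟩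
  change (∀ i, τ i = i) ∨ (∀ i, τ i ≠ i)
  by_cases hfix : ∃ i0, τ i0 = i0
  · left
    obtain ⟨i0, hi0⟩ := hfix
    intro j
    obtain ⟨h, hh, hj⟩ := hE.trans i0 j
    apply hE.inj
    rw [← hτ, ← hj, hconj h hh, hτ, hi0]
  · right
    push Not at hfix
    exact hfix

end Cfsg.Agent.Lib.helper23.ASE
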