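import Mathlib
import Cfsg.Prelude.Def_GeometricClasses
import Cfsg.Agent.Lib.Helper27.ASC.Defs
import Cfsg.Agent.Lib.Helper19.ASG.Defs
import Cfsg.Agent.Lib.Helper18.ASP.Defs
import Cfsg.Agent.Lib.Helper26.ASGD1.Defs
import Cfsg.Agent.Lib.Helper19.ASGD1GRP
import Cfsg.Agent.Lib.Helper11.ASGD1INDEP

set_option autoImplicit false
set_option linter.unusedVariables false
set_option linter.unusedSectionVars false

/-!
# Project ASP, block D1, piece D1-SQ : `x ^ 2 = ±1` for `x ∈ N`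
-/

namespace Cfsg.Agent.Lib.Helper18.ASP

open Cfsg Cfsg.Geo Cfsg.Agent.Lib.Helper27.ASC Cfsg.Agent.Lib.Helper19.ASG
open scoped MatrixGroups Matrix
open scoped commutatorElement

variable {n : ℕ} {F : Type*} [Field F] [Fintype F]

/-- a scalar isometry of a symplectic form is `±1` -/
theorem aspd1sq_pm (hn : 0 < n) (f : (Fin n → F) → (Fin n → F) → F) (hf : IsSymplecticForm f) (c : Fˣ)
    (h : (d1scal c : GL (Fin n) F) ∈ isoGL f) : c = 1 ∨ c = -1 := by
  classical
  set v : Fin n → F := Pi.single ⟨0, hn⟩ 1 with hv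
  have hv0 : v ≠ 0 := by
    intro h0
    have := congrFun h0 ⟨0, hn⟩
    simp [hv] at this
  obtain ⟨x, hx⟩ := (hf.nondegenerate v hv0).1
  have h1 := (mem_isoGL_iff f (d1scal c)).1 h x v
  rw [d1scal_coe] at h1
  have e : ∀ w : Fin n → F, ((c : F) • (1 : Matrix (Fin n) (Fin n) F)) *ᵥ w = (c : F) • w := by
    intro w
    rw [Matrix.smul_mulVec, Matrix.one_mulVec]
  rw [e, e, hf.bilinear.smul_left, hf.bilinear.smul_right] at h1
  have h2 : ((c : F) - 1) * ((c : F) + 1) = 0 := by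
    have : ((c : F) * (c : F) - 1) * f x v = 0 := by linear_combination h1
    rcases mul_eq_zero.mp this with h3 | h3
    · linear_combination h3
    · exact absurd h3 hx
  rcases mul_eq_zero.mp h2 with h3 | h3
  · left
    apply Units.ext
    rw [Units.val_one]
    linear_combination h3
  · right
    apply Units.ext
    rw [Units.val_neg, Units.val_one]
    linear_combination h3

/-- D1-SQ : `⁅x ^ 2, y⁆ = ⁅x, y⁆ ^ 2 = 1` (commutators are central and `±1`), so `x ^ 2` centralises `N`, is a scalar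
(`asgd1indep_scalar`), lies in `isoGL f`: `x ^ 2 = ±1` -/
theorem spd1_sq (hn : 2 ≤ n) (f : (Fin n → F) → (Fin n → F) → F) (hf : IsSymplecticForm f)
    {N : Subgroup (GL (Fin n) F)} (hNI : N ≤ isoGL f) (hA : AbsIrr N) (hab : ⁅N, N⁆ ≤ scalars (Fin n) F) :
    ∀ x ∈ N, x ^ 2 = 1 ∨ x ^ 2 = d1scal (-1 : Fˣ) := by
  intro x hx
  have hn0 : 0 < n := by omega
  -- commutators square to `1`
  have hcomm : ∀ y ∈ N, ⁅x, y⁆ ^ 2 = 1 := by
    intro y hy
    have hc : ⁅x, y⁆ ∈ scalars (Fin n) F := hab (Subgroup.commutator_mem_commutator hx hy)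
    have hcN : ⁅x, y⁆ ∈ N := by
      rw [commutatorElement_def]
      exact N.mul_mem (N.mul_mem (N.mul_mem hx hy) (N.inv_mem hx)) (N.inv_mem hy)
    obtain ⟨c, hc'⟩ := (mem_scalars_iff_d1scal _).1 hc
    have hcI : (d1scal c : GL (Fin n) F) ∈ isoGL f := by rw [← hc']; exact hNI hcN
    rw [hc', ← d1scal_pow]
    rcases aspd1sq_pm hn0 f hf c hcI with h | h <;> rw [h] <;> simp [d1scal_one]
  -- `x ^ 2` centralises `N`
  have hcent : ∀ g ∈ N, g * x ^ 2 = x ^ 2 * g := by
    intro g hg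
    have hc : ⁅x, g⁆ ∈ scalars (Fin n) F := hab (Subgroup.commutator_mem_commutator hx hg)
    have h1 : ⁅x ^ 2, g⁆ = 1 := by
      rw [asgd1grp_comm_pow_left x g (asgd1grp_scal_comm hc x) 2, hcomm g hg]
    exact (commutatorElement_eq_one_iff_mul_comm.mp h1).symm
  have hsc : x ^ 2 ∈ scalars (Fin n) F := asgd1indep_scalar hn0 hA (x ^ 2) hcent
  obtain ⟨c, hc⟩ := (mem_scalars_iff_d1scal _).1 hsc
  have hcI : (d1scal c : GL (Fin n) F) ∈ isoGL f := by rw [← hc]; exact hNI (N.pow_mem hx 2)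
  rcases aspd1sq_pm hn0 f hf c hcI with h | h
  · left; rw [hc, h, d1scal_one]
  · right; rw [hc, h]

end Cfsg.Agent.Lib.Helper18.ASP
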