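import Mathlib
import Cfsg.Prelude.Def_GeometricClasses
import Cfsg.Agent.Lib.Helper27.ASC.Defs
import Cfsg.Agent.Lib.Helper19.ASG.Defs
import Cfsg.Agent.Lib.Helper18.ASP.Defs
import Cfsg.Agent.Lib.Helper26.ASGD1.Defs
import Cfsg.Agent.Lib.Helper19.ASGD1GRP
import Cfsg.Agent.Lib.Helper9.ASGD1CYC

set_option autoImplicit false
set_option linter.unusedVariables false
set_option linter.unusedSectionVars false

/-!
# Project ASP, block D1, piece D1-ST : `N` is a 2-group of symplectic type and exponent 4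
-/

namespace Cfsg.Agent.Lib.Helper18.ASP

open Cfsg Cfsg.Geo Cfsg.Agent.Lib.Helper27.ASC Cfsg.Agent.Lib.Helper19.ASG
open scoped MatrixGroups Matrix

variable {n : ℕ} {F : Type*} [Field F] [Fintype F]

/-- `x ^ 4 = 1` from `x ^ 2 = ±1` -/
theorem aspd1st_pow_four {N : Subgroup (GL (Fin n) F)}
    (hsq : ∀ x ∈ N, x ^ 2 = 1 ∨ x ^ 2 = d1scal (-1 : Fˣ)) (x : GL (Fin n) F) (hx : x ∈ N) : x ^ 4 = 1 := by
  have e : x ^ 4 = (x ^ 2) ^ 2 := by rw [← pow_mul]
  rw [e]
  rcases hsq x hx with h | h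
  · rw [h, one_pow]
  · rw [h, ← d1scal_pow]
    simp [d1scal_one]

/-- D1-ST : `N` is a 2-group of symplectic type and exponent 4: `x ^ 4 = 1`; characteristic abelian subgroups are cyclic by
ASG `d1_cyc` with `R = N`; the exponent divides 4 and is not 1 or 2 (a group of exponent 2 is abelian, `d1_nonab`) -/
theorem spd1_sympType (hn : 2 ≤ n) {H N : Subgroup (GL (Fin n) F)} (hD : AllNormalAbsIrr H) (hNH : NormalIn N H)
    (hA : AbsIrr N) (hsq : ∀ x ∈ N, x ^ 2 = 1 ∨ x ^ 2 = d1scal (-1 : Fˣ)) :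
    IsSymplecticTypeGroup 2 N := by
  have h4 : ∀ g : N, g ^ 4 = 1 := by
    intro g
    apply Subtype.ext
    rw [Subgroup.coe_pow, Subgroup.coe_one]
    exact aspd1st_pow_four hsq g g.2
  refine ⟨Nat.prime_two, ?_, ?_, ?_⟩
  · intro g
    exact ⟨2, by rw [show (2 : ℕ) ^ 2 = 4 by norm_num]; exact h4 g⟩
  · exact d1_cyc hn hD hNH hNH.2 le_sup_left
  · have hdvd : Monoid.exponent N ∣ 4 := Monoid.exponent_dvd_of_forall_pow_eq_one h4
    have hnot : ¬ Monoid.exponent N ∣ 2 := by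
      intro h2
      have hsq1 : ∀ g : N, g ^ 2 = 1 := fun g => (Monoid.exponent_dvd_iff_forall_pow_eq_one.mp h2) g
      obtain ⟨x, hx, y, hy, hxy⟩ := d1_nonab hn hA
      apply hxy
      have hx2 := congrArg Subtype.val (hsq1 ⟨x, hx⟩)
      have hy2 := congrArg Subtype.val (hsq1 ⟨y, hy⟩)
      have hxy2 := congrArg Subtype.val (hsq1 (⟨x, hx⟩ * ⟨y, hy⟩))
      simp only [Subgroup.coe_pow, Subgroup.coe_mul, Subgroup.coe_one] at hx2 hy2 hxy2
      have hxi : x⁻¹ = x := by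
        rw [inv_eq_iff_eq_inv, eq_inv_iff_mul_eq_one, ← pow_two]; exact hx2
      have hyi : y⁻¹ = y := by
        rw [inv_eq_iff_eq_inv, eq_inv_iff_mul_eq_one, ← pow_two]; exact hy2
      have h3 : (x * y)⁻¹ = x * y := by
        rw [inv_eq_iff_eq_inv, eq_inv_iff_mul_eq_one, ← pow_two]; exact hxy2
      rw [mul_inv_rev, hxi, hyi] at h3
      exact h3.symm
    have h22 : Nat.gcd 2 2 = 2 := by norm_num
    rw [h22]
    have hle : Monoid.exponent N ≤ 4 := Nat.le_of_dvd (by norm_num) hdvd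
    have hpos : Monoid.exponent N ≠ 0 := by
      intro h0
      rw [h0] at hdvd
      norm_num at hdvd
    interval_cases hE : Monoid.exponent N
    · exact absurd rfl hpos
    · exact absurd (by norm_num) hnot
    · exact absurd (dvd_refl 2) hnot
    · norm_num at hdvd
    · rfl

end Cfsg.Agent.Lib.Helper18.ASP
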