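import Mathlib
import Cfsg.Prelude.Def_GeometricClasses
import Cfsg.Agent.Lib.Helper27.ASC.Defs
import Cfsg.Agent.Lib.Helper19.ASG.Defs
import Cfsg.Agent.Lib.Helper18.ASP.Defs
import Cfsg.Agent.Lib.Helper18.ASPADJ
import Cfsg.Agent.Lib.Helper9.ASGD2T.Defs
import Cfsg.Agent.Lib.Helper9.ASGD2TF.Defs

set_option autoImplicit false
set_option linter.unusedVariables false
set_option linter.unusedSectionVars false

/-!
# Project ASP (S5662), block D2T, piece D2T-SPFORM : `sp_tpower_structure`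
-/

namespace Cfsg.Agent.Lib.Helper18.ASP

open Cfsg Cfsg.Geo Cfsg.Agent.Lib.Helper27.ASC Cfsg.Agent.Lib.Helper19.ASG
open scoped MatrixGroups Matrix

variable {n : ℕ} {F : Type*} [Field F] [Fintype F]

/-- the Gram matrix of the form of a matrix -/
theorem aspd2tspform_gram {k : ℕ} (A : Matrix (Fin k) (Fin k) F) (a b : Fin k) :
    gramMatrix (fun u v : Fin k → F => u ⬝ᵥ (A *ᵥ v)) a b = A a b := by
  unfold gramMatrix
  simp [Matrix.mulVec_single_one, single_one_dotProduct]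

/-- `(B u) ⬝ᵥ G (B v) = u ⬝ᵥ (Bᵀ G B) v` -/
theorem aspd2tspform_dot (B G : Matrix (Fin n) (Fin n) F) (u v : Fin n → F) :
    (B *ᵥ u) ⬝ᵥ (G *ᵥ (B *ᵥ v)) = u ⬝ᵥ ((Bᵀ * G * B) *ᵥ v) := by
  rw [← Matrix.mulVec_mulVec, ← Matrix.mulVec_mulVec, Matrix.dotProduct_mulVec u Bᵀ, Matrix.vecMul_transpose]

/-- D2T-SPFORM : the Gram identity in the coordinates `(e, B)` is the tensor power form structure with `f₁ = ` the form of `A`
(`aspadj_gram hf : f u v = u ⬝ᵥ (ascformGram f *ᵥ v)`; `gramMatrix f₁ a b = A a b`; expand `B *ᵥ (x ∘ e)`) -/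
theorem sp_tpower_structure (f : (Fin n → F) → (Fin n → F) → F) (hf : IsSymplecticForm f) {k t : ℕ}
    (e : Fin n ≃ (Fin t → Fin k)) (B : GL (Fin n) F) (A : Matrix (Fin k) (Fin k) F) (c : F) (hc : c ≠ 0)
    (hgram : (B : Matrix (Fin n) (Fin n) F)ᵀ * ascformGram f * (B : Matrix (Fin n) (Fin n) F) =
      c • Matrix.reindex e.symm e.symm (ptMat (fun _ : Fin t => A))) :
    IsTensorPowerFormStructure id f (fun u v : Fin k → F => u ⬝ᵥ (A *ᵥ v)) e B := by
  refine ⟨c, hc, ?_⟩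
  intro x y
  rw [aspadj_gram hf, aspd2tspform_dot, hgram]
  simp only [aspd2tspform_gram, id]
  rw [Matrix.smul_mulVec, dotProduct_smul, smul_eq_mul]
  congr 1
  simp only [dotProduct, Matrix.mulVec, Function.comp_apply, Matrix.reindex_apply, Matrix.submatrix_apply,
    Equiv.symm_symm, ptMat_apply, Finset.mul_sum]
  rw [← Equiv.sum_comp e]
  apply Finset.sum_congr rfl
  intro i _
  rw [← Equiv.sum_comp e]
  apply Finset.sum_congr rfl
  intro j _
  ring

end Cfsg.Agent.Lib.Helper18.ASP
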