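import Mathlib
import Cfsg.Prelude.Def_GeometricClasses
import Cfsg.Agent.Lib.Helper27.ASC.Defs
import Cfsg.Agent.Lib.Helper19.ASG.Defs
import Cfsg.Agent.Lib.Helper19.ASU.Defs
import Cfsg.Agent.Lib.Helper26.ASUC.Defs
import Cfsg.Agent.Lib.Helper19.ASUADJ
import Cfsg.Agent.Lib.Helper20.ASGCMEM

set_option autoImplicit false
set_option linter.unusedVariables false
set_option linter.unusedSectionVars false

/-!
# Project ASU, block C (sub-leader helper26), piece C-NORM : changing the Kronecker basis by a Kronecker product (helper13)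
-/

namespace Cfsg.Agent.Lib.Helper19.ASU

open Cfsg Cfsg.Geo Cfsg.Agent.Lib.Helper27.ASC Cfsg.Agent.Lib.Helper19.ASG
open scoped MatrixGroups Matrix Kronecker

variable {n : ℕ} {F : Type*} [Field F]

/-- `formOfGram σ G` in matrix form (any map `σ`) -/
theorem asucnorm_formOfGram_dot {κ : Type} [Fintype κ] (σ : F → F) (G : Matrix κ κ F) (x y : κ → F) :
    formOfGram σ G x y = x ⬝ᵥ (G *ᵥ (fun b => σ (y b))) := by
  unfold formOfGram dotProduct Matrix.mulVec dotProduct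
  refine Finset.sum_congr rfl fun a _ => ?_
  rw [Finset.mul_sum]
  refine Finset.sum_congr rfl fun b _ => ?_
  ring

/-- change of variables in `formOfGram σ G` for a ring homomorphism `σ` -/
theorem asucnorm_formOfGram_mulVec {κ : Type} [Fintype κ] [DecidableEq κ] (σ : F →+* F) (G S : Matrix κ κ F)
    (x y : κ → F) :
    formOfGram σ G (S *ᵥ x) (S *ᵥ y) = formOfGram σ (Sᵀ * G * S.map σ) x y := by
  rw [asucnorm_formOfGram_dot, asucnorm_formOfGram_dot]
  have h1 : (fun b => σ ((S *ᵥ y) b)) = S.map σ *ᵥ (fun b => σ (y b)) := by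
    funext b
    exact RingHom.map_mulVec σ S y b
  rw [h1, ← Matrix.mulVec_mulVec, ← Matrix.mulVec_mulVec, Matrix.dotProduct_mulVec x Sᵀ, Matrix.vecMul_transpose]

/-- the entrywise image of a Kronecker product under a ring homomorphism -/
theorem asucnorm_map_kronecker {k d : ℕ} (σ : F →+* F) (S₁ : Matrix (Fin k) (Fin k) F) (S₂ : Matrix (Fin d) (Fin d) F) :
    (S₁ ⊗ₖ S₂).map σ = S₁.map σ ⊗ₖ S₂.map σ := by
  ext ⟨i, j⟩ ⟨i', j'⟩
  simp [Matrix.kroneckerMap_apply, map_mul]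

/-- the Gram matrix `A ⊗ B` after the change of basis `S₁ ⊗ S₂` -/
theorem asucnorm_kron_gram {k d : ℕ} (σ : F →+* F) (A S₁ : Matrix (Fin k) (Fin k) F) (B S₂ : Matrix (Fin d) (Fin d) F) :
    (S₁ ⊗ₖ S₂)ᵀ * (A ⊗ₖ B) * (S₁ ⊗ₖ S₂).map σ = (S₁ᵀ * A * S₁.map σ) ⊗ₖ (S₂ᵀ * B * S₂.map σ) := by
  rw [asucnorm_map_kronecker, ← Matrix.kroneckerMap_transpose, ← Matrix.mul_kronecker_mul, ← Matrix.mul_kronecker_mul]

/-- conjugating by an element of the subgroup does not change the image -/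
theorem asucnorm_map_conj_mul {G : Type*} [Group G] (K : Subgroup G) (P t : G) (ht : t ∈ K) :
    K.map (MulAut.conj (P * t)).toMonoidHom = K.map (MulAut.conj P).toMonoidHom := by
  ext x
  simp only [Subgroup.mem_map, MulEquiv.coe_toMonoidHom, MulAut.conj_apply]
  constructor
  · rintro ⟨y, hy, rfl⟩
    refine ⟨t * y * t⁻¹, K.mul_mem (K.mul_mem ht hy) (K.inv_mem ht), ?_⟩
    group
  · rintro ⟨y, hy, rfl⟩
    refine ⟨t⁻¹ * y * t, K.mul_mem (K.mul_mem (K.inv_mem ht) hy) ht, ?_⟩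
    group

/-- C-NORM (medium) : `P' = P * glReindex e.symm (S₁ ⊗ S₂)`. -/
theorem uc_change_basis [Fintype F] (q : ℕ) (hF : Fintype.card F = q ^ 2) {k d : ℕ}
    (e : Fin n ≃ Fin k × Fin d) (P : GL (Fin n) F) (A : Matrix (Fin k) (Fin k) F) (B : Matrix (Fin d) (Fin d) F)
    (hK : UKrGram q e P A B) (S₁ : GL (Fin k) F) (S₂ : GL (Fin d) F) :
    ∃ P' : GL (Fin n) F, tensorProductSubgroup k d e P' = tensorProductSubgroup k d e P ∧
      UKrGram q e P'
        ((S₁ : Matrix (Fin k) (Fin k) F)ᵀ * A * (S₁ : Matrix (Fin k) (Fin k) F).map (fun a : F => a ^ q))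
        ((S₂ : Matrix (Fin d) (Fin d) F)ᵀ * B * (S₂ : Matrix (Fin d) (Fin d) F).map (fun a : F => a ^ q)) := by
  classical
  obtain ⟨s, hs⟩ := asgcmem_kron_unit S₁ S₂
  have hsK : s ∈ kroneckerSubgroup k d F := ⟨S₁, S₂, hs⟩
  set t : GL (Fin n) F := glReindex e.symm s with ht
  have htK : t ∈ (kroneckerSubgroup k d F).map (glReindex e.symm).toMonoidHom :=
    Subgroup.mem_map_of_mem _ hsK
  refine ⟨P * t, ?_, ?_⟩
  · unfold tensorProductSubgroup
    exact asucnorm_map_conj_mul _ P t htK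
  · have hσ : (fun a : F => a ^ q) = ⇑(ufrob hF) := funext fun a => (ufrob_apply hF a).symm
    intro x y
    have hmv : ∀ z : Fin k × Fin d → F, ((P * t : GL (Fin n) F) : Matrix (Fin n) (Fin n) F) *ᵥ (z ∘ e) =
        (P : Matrix (Fin n) (Fin n) F) *ᵥ ((((S₁ : Matrix (Fin k) (Fin k) F) ⊗ₖ (S₂ : Matrix (Fin d) (Fin d) F)) *ᵥ z) ∘ e) := by
      intro z
      rw [Units.val_mul, ← Matrix.mulVec_mulVec, ht, asgcmem_reindex_coe, hs]
      congr 1
      show (Matrix.reindex e.symm e.symm ((S₁ : Matrix (Fin k) (Fin k) F) ⊗ₖ (S₂ : Matrix (Fin d) (Fin d) F))) *ᵥ (z ∘ e) = _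
      rw [Matrix.reindex_apply, Matrix.submatrix_mulVec_equiv]
      simp only [Equiv.symm_symm]
      congr 2
      funext a
      simp
    rw [hmv x, hmv y, hK, hσ, asucnorm_formOfGram_mulVec, asucnorm_kron_gram]

end Cfsg.Agent.Lib.Helper19.ASU
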