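import Mathlib
import Cfsg.Prelude.Def_GeometricClasses
import Cfsg.Agent.Lib.Helper27.ASC.Defs
import Cfsg.Agent.Lib.Helper19.ASG.Defs
import Cfsg.Agent.Lib.Helper19.ASU.Defs
import Cfsg.Agent.Lib.Helper26.ASUC.Defs

set_option autoImplicit false
set_option linter.unusedVariables false
set_option linter.unusedSectionVars false

/-!
# Project ASU, block C (sub-leader helper26), piece C-SWAPF : swapping the factors of a Kronecker Gram matrix (helper13)
-/

namespace Cfsg.Agent.Lib.Helper19.ASU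

open Cfsg Cfsg.Geo Cfsg.Agent.Lib.Helper27.ASC Cfsg.Agent.Lib.Helper19.ASG
open scoped MatrixGroups Matrix Kronecker

variable {n : ℕ} {F : Type*} [Field F]

/-- The `σ`-sesquilinear form with Gram matrix `A ⊗ B` at `(x ∘ swap, y ∘ swap)` is the form with Gram matrix `B ⊗ A` at
`(x, y)` (any map `σ`). -/
theorem asucswapf_formOfGram (σ : F → F) {k d : ℕ} (A : Matrix (Fin k) (Fin k) F) (B : Matrix (Fin d) (Fin d) F)
    (x y : Fin d × Fin k → F) :
    formOfGram σ (A ⊗ₖ B) (x ∘ Equiv.prodComm (Fin k) (Fin d)) (y ∘ Equiv.prodComm (Fin k) (Fin d)) =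
      formOfGram σ (B ⊗ₖ A) x y := by
  unfold formOfGram
  rw [← Equiv.sum_comp (Equiv.prodComm (Fin k) (Fin d))]
  refine Finset.sum_congr rfl fun a _ => ?_
  rw [← Equiv.sum_comp (Equiv.prodComm (Fin k) (Fin d))]
  refine Finset.sum_congr rfl fun b _ => ?_
  simp only [Function.comp_apply, Equiv.prodComm_apply, Matrix.kroneckerMap_apply, Prod.fst_swap, Prod.snd_swap]
  ring

/-- C-SWAPF (easy) : swapping the factors (copy of ASP `spc_krGram_swap`, `Helper22.ASPCSWAPF`, with `σ = (· ^ q)`). -/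
theorem uc_krGram_swap (q : ℕ) {k d : ℕ}
    (e : Fin n ≃ Fin k × Fin d) (P : GL (Fin n) F) (A : Matrix (Fin k) (Fin k) F) (B : Matrix (Fin d) (Fin d) F)
    (hK : UKrGram q e P A B) : UKrGram q (e.trans (Equiv.prodComm (Fin k) (Fin d))) P B A := by
  intro x y
  have hx : x ∘ ⇑(e.trans (Equiv.prodComm (Fin k) (Fin d))) = (x ∘ Equiv.prodComm (Fin k) (Fin d)) ∘ e := rfl
  have hy : y ∘ ⇑(e.trans (Equiv.prodComm (Fin k) (Fin d))) = (y ∘ Equiv.prodComm (Fin k) (Fin d)) ∘ e := rfl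
  rw [hx, hy, hK, asucswapf_formOfGram]

end Cfsg.Agent.Lib.Helper19.ASU
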