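import Mathlib
import Cfsg.Prelude.Def_GeometricClasses
import Cfsg.Agent.Lib.Helper27.ASC.Defs
import Cfsg.Agent.Lib.Helper19.ASG.Defs
import Cfsg.Agent.Lib.Helper26.ASGD1.Defs
import Cfsg.Agent.Lib.Helper19.ASU.Defs
import Cfsg.Agent.Lib.Helper21.ASCUURED
import Cfsg.Agent.Lib.Helper21.ASPRED

set_option autoImplicit false
set_option linter.unusedVariables false
set_option linter.unusedSectionVars false

/-!
# Project ASU (S5663), block RED : a reducible subgroup of `GU_n(q)` lies in a member of class 1 or class 2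
(copy of helper21's `ASPRED` / `ASCUURED`).
-/

namespace Cfsg.Agent.Lib.Helper19.ASU

open Cfsg Cfsg.Geo Cfsg.Agent.Lib.Helper27.ASC Cfsg.Agent.Lib.Helper19.ASG
open Cfsg.Agent.Lib.Lead.ASCU
open scoped MatrixGroups Matrix

variable {n : ℕ} {F : Type*} [Field F] [Fintype F]

/-- U-RED -/
theorem u_red_case (q : ℕ) (hF : Fintype.card F = q ^ 2) (hn : 3 ≤ n) {H : Subgroup (GL (Fin n) F)}
    (hI : H ≤ GU n F q) (hH : ¬ Irr H) : InU n q H := by
  classical
  obtain ⟨σ, hσ, hf⟩ := Cfsg.Agent.Lib.Helper28.UHerm.herm_unitary hF n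
  obtain ⟨W, h0, h1, hWst⟩ := red_case H hH
  have hWm := ascuured_maps_of_stab H W hWst
  set f := hermForm n F q with hfdef
  have hGU : ∀ g ∈ H, ∀ u v, f ((g : Matrix (Fin n) (Fin n) F) *ᵥ u)
      ((g : Matrix (Fin n) (Fin n) F) *ᵥ v) = f u v := fun g hg => (mem_GU_iff q g).1 (hI hg)
  have hginv : ∀ g : GL (Fin n) F, ∀ w : Fin n → F, (g : Matrix (Fin n) (Fin n) F) *ᵥ
      (((g⁻¹ : GL (Fin n) F) : Matrix (Fin n) (Fin n) F) *ᵥ w) = w := by
    intro g w
    rw [Matrix.mulVec_mulVec, ← Units.val_mul, mul_inv_cancel, Units.val_one, Matrix.one_mulVec]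
  -- perp is invariant
  have hPm : ∀ g ∈ H, ∀ v ∈ ascuured_perp hf W,
      (g : Matrix (Fin n) (Fin n) F) *ᵥ v ∈ ascuured_perp hf W := by
    intro g hg v hv w hw
    have h2 := hWm g⁻¹ (H.inv_mem hg) w hw
    have h3 := hGU g hg v (((g⁻¹ : GL (Fin n) F) : Matrix (Fin n) (Fin n) F) *ᵥ w)
    rw [hginv] at h3
    rw [h3]
    exact hv _ h2
  by_cases hR : W ⊓ ascuured_perp hf W = ⊥
  · -- W is non-degenerate
    have hnd : IsNondegenerateOn f W := by
      intro w hw hw0
      have hnot : w ∉ ascuured_perp hf W := by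
        intro hwp
        have : w ∈ W ⊓ ascuured_perp hf W := ⟨hw, hwp⟩
        rw [hR] at this
        exact hw0 ((Submodule.mem_bot F).1 this)
      rw [ascuured_mem_perp] at hnot
      push Not at hnot
      obtain ⟨x, hx, hx0⟩ := hnot
      refine ⟨⟨x, hx, fun hc => hx0 (ascuured_swap hf hc)⟩, ⟨x, hx, hx0⟩⟩
    have hfr := ascuured_finrank hf W
    have hsi := Submodule.finrank_sup_add_finrank_inf_eq W (ascuured_perp hf W)
    rw [hR, finrank_bot, add_zero] at hsi
    have hle : Module.finrank F (W ⊔ ascuured_perp hf W : Submodule F (Fin n → F)) ≤ n := by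
      have := Submodule.finrank_le (W ⊔ ascuured_perp hf W)
      rwa [Module.finrank_fin_fun] at this
    have hWlt : Module.finrank F W < n := by
      have := Submodule.finrank_lt h1
      rwa [Module.finrank_fin_fun] at this
    have hWpos : 0 < Module.finrank F W := by
      rcases Nat.eq_zero_or_pos (Module.finrank F W) with hz | hp
      · exact absurd (Submodule.finrank_eq_zero.1 hz) h0
      · exact hp
    have hsup : W ⊔ ascuured_perp hf W = ⊤ := by
      apply Submodule.eq_top_of_finrank_eq
      rw [Module.finrank_fin_fun]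
      omega
    have hPdim : Module.finrank F (ascuured_perp hf W) = n - Module.finrank F W := by omega
    have hP0 : ascuured_perp hf W ≠ ⊥ := by
      intro hb
      rw [hb, finrank_bot] at hPdim
      omega
    have hPnd : IsNondegenerateOn f (ascuured_perp hf W) := by
      intro w' hw' hw'0
      have key : ∃ x ∈ ascuured_perp hf W, f x w' ≠ 0 := by
        by_contra hcon
        push Not at hcon
        have hall : ∀ v, f v w' = 0 := by
          intro v
          have hv : v ∈ W ⊔ ascuured_perp hf W := by rw [hsup]; exact Submodule.mem_top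
          obtain ⟨a, ha, b, hb, rfl⟩ := Submodule.mem_sup.1 hv
          rw [hf.add_left, hcon b hb, add_zero]
          exact ascuured_swap hf (hw' a ha)
        obtain ⟨⟨x, hx⟩, _⟩ := hf.nondegenerate w' hw'0
        exact hx (hall x)
      obtain ⟨x, hx, hx0⟩ := key
      refine ⟨⟨x, hx, hx0⟩, ⟨x, hx, fun hc => hx0 (ascuured_swap hf hc)⟩⟩
    by_cases hlt : 2 * Module.finrank F W < n
    · exact inU_of_nd hI W h0 hnd hlt hWst
    by_cases hgt : 2 * Module.finrank F (ascuured_perp hf W) < n
    · exact inU_of_nd hI (ascuured_perp hf W) hP0 hPnd hgt (ascuured_stab_of_maps H _ hPm)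
    -- both have dimension `n / 2`: the decomposition `![W, W^⊥]`
    set m := Module.finrank F W with hmdef
    have hPeq : Module.finrank F (ascuured_perp hf W) = m := by omega
    let D : Fin 2 → Submodule F (Fin n → F) := ![W, ascuured_perp hf W]
    have hD0 : D 0 = W := rfl
    have hD1 : D 1 = ascuured_perp hf W := rfl
    have hdec : IsMDecomposition m D := by
      refine ⟨le_refl 2, hWpos, ?_, ?_, ?_⟩
      · intro i
        fin_cases i
        · exact hmdef.symm
        · exact hPeq
      · rw [iSupIndep_pair (i := (0 : Fin 2)) (j := 1) (by decide) (by decide)]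
        rw [hD0, hD1, disjoint_iff]
        exact hR
      · apply le_antisymm le_top
        rw [← hsup]
        exact sup_le (le_iSup D 0) (le_iSup D 1)
    have hND : IsNondegenerateMDecomposition f m D := by
      refine ⟨hdec, ?_, ?_⟩
      · intro i
        fin_cases i
        · exact hnd
        · exact hPnd
      · intro i j hij
        fin_cases i <;> fin_cases j
        · exact absurd rfl hij
        · intro u hu v hv
          exact ascuured_swap hf (hv u hu)
        · intro u hu v hv
          exact hu v hv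
        · exact absurd rfl hij
    refine inU_of_nddec hI D hND ?_
    intro g hg
    refine ⟨1, fun i => ?_⟩
    fin_cases i
    · exact Cfsg.Agent.Lib.Helper18.ASP.aspred_map_eq H W hWm g hg
    · exact Cfsg.Agent.Lib.Helper18.ASP.aspred_map_eq H _ hPm g hg
  · refine inU_of_ts hI (W ⊓ ascuured_perp hf W) hR ?_ ?_
    · intro u hu v hv
      exact hu.2 v hv.1
    · apply ascuured_stab_of_maps
      intro g hg v hv
      exact ⟨hWm g hg v hv.1, hPm g hg v hv.2⟩

end Cfsg.Agent.Lib.Helper19.ASU
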