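import Mathlib
import Cfsg.Agent.Lib.Helper27.AltFus.Defs
import Cfsg.Agent.Lib.Helper27.AltFus.SX

set_option autoImplicit false

/-! Project AltFus, piece S3: for odd `p` with `p ^ 2 ≤ n`, every element of order dividing `p`
of `Sym(n)` is an `A_n`-conjugate of an element of a nontrivial strongly closed subgroup `T`
of a Sylow `p`-subgroup of `A_n`. -/

namespace Cfsg.Agent.Lib.Helper13.AltFus

open Cfsg.Agent.Lib.Helper27.AltFus Equiv

theorem h13af_pgroup_zpowers {G : Type*} [Group G] {p : ℕ} {σ : G} (h : σ ^ p = 1) :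
    IsPGroup p (Subgroup.zpowers σ) := by
  rintro ⟨g, hg⟩
  obtain ⟨i, rfl⟩ := Subgroup.mem_zpowers_iff.mp hg
  refine ⟨1, ?_⟩
  apply Subtype.ext
  show (σ ^ i) ^ p ^ 1 = 1
  rw [pow_one, ← zpow_natCast, ← zpow_mul, mul_comm, zpow_mul, zpow_natCast, h, one_zpow]

theorem h13af_pgroup_sup_zpowers {G : Type*} [Group G] {p : ℕ} [Fact p.Prime] {σ τ : G}
    (hc : Commute σ τ) (hσ : σ ^ p = 1) (hτ : τ ^ p = 1) :
    IsPGroup p (Subgroup.zpowers σ ⊔ Subgroup.zpowers τ : Subgroup G) := by
  refine IsPGroup.to_sup_of_normal_right' (h13af_pgroup_zpowers hσ) (h13af_pgroup_zpowers hτ) ?_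
  rw [Subgroup.zpowers_le, Subgroup.mem_normalizer_iff]
  intro h
  have key : ∀ h ∈ Subgroup.zpowers τ, σ * h * σ⁻¹ = h := by
    intro h hh
    obtain ⟨i, rfl⟩ := Subgroup.mem_zpowers_iff.mp hh
    have := (hc.zpow_right i).eq
    rw [this, mul_inv_cancel_right]
  constructor
  · intro hh
    have := key h hh
    rw [this]; exact hh
  · intro hh
    have := key _ hh
    have h2 : σ⁻¹ * (σ * (σ * h * σ⁻¹) * σ⁻¹) * σ = σ⁻¹ * (σ * h * σ⁻¹) * σ := by rw [this]
    have h3 : σ * h * σ⁻¹ = h := by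
      have e1 : σ⁻¹ * (σ * (σ * h * σ⁻¹) * σ⁻¹) * σ = σ * h * σ⁻¹ := by group
      have e2 : σ⁻¹ * (σ * h * σ⁻¹) * σ = h := by group
      rw [e1, e2] at h2
      exact h2
    rw [h3] at hh
    exact hh

theorem h13af_mem_alt_of_pow_odd {α : Type*} [Fintype α] [DecidableEq α] {p : ℕ} (hp : Odd p)
    {σ : Perm α} (h : σ ^ p = 1) : σ ∈ alternatingGroup α := by
  rw [Perm.mem_alternatingGroup]
  have h1 : Perm.sign σ ^ p = 1 := by rw [← map_pow, h, map_one]
  rcases Int.units_eq_one_or (Perm.sign σ) with h2 | h2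
  · exact h2
  · rw [h2, Odd.neg_one_pow hp] at h1
    exact absurd h1 (by decide)

/-- an element of order `p` in a nontrivial `p`-subgroup -/
theorem h13af_exists_order_p {G : Type*} [Group G] [Finite G] (p : ℕ) [Fact p.Prime]
    (T : Subgroup G) (hTp : IsPGroup p T) (hT : T ≠ ⊥) : ∃ t ∈ T, orderOf t = p := by
  have hcard : p ∣ Nat.card T := by
    rcases hTp.card_eq_or_dvd with h | h
    · exact absurd (Subgroup.card_eq_one.mp h) hT
    · exact h
  obtain ⟨t, ht⟩ := exists_prime_orderOf_dvd_card' p hcard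
  exact ⟨t, t.2, by rwa [Subgroup.orderOf_coe]⟩

theorem order_p_mem_odd {α : Type*} [Fintype α] [DecidableEq α] (p : ℕ) [Fact p.Prime]
    (hp : p ≠ 2) (hn : p ^ 2 ≤ Fintype.card α)
    (P T : Subgroup (Perm α)) (hP : IsSylIn p (alternatingGroup α) P) (hTP : T ≤ P) (hT : T ≠ ⊥)
    (hcl : ∀ x ∈ T, ∀ g ∈ alternatingGroup α, g * x * g⁻¹ ∈ P → g * x * g⁻¹ ∈ T)
    (y : Perm α) (hy : y ^ p = 1) : y ∈ conjSet (alternatingGroup α) T := by
  classical
  have hpp : p.Prime := Fact.out
  have hodd : Odd p := hpp.odd_of_ne_two hp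
  have h3 : 3 ≤ p := by
    have := hpp.two_le
    omega
  -- Step 1
  obtain ⟨t, htT, hto⟩ : ∃ t ∈ T, orderOf t = p :=
    h13af_exists_order_p p T (hP.pgroup.to_le hTP) hT
  have htp : t ^ p = 1 := by rw [← hto]; exact pow_orderOf_eq_one t
  have htX : t ∈ conjSet (alternatingGroup α) T := mem_conjSet_of_mem _ T htT
  -- Step 2: a p-cycle in X0
  obtain ⟨c0, hc0X, hc0, hc0s⟩ :
      ∃ c0 ∈ conjSet (alternatingGroup α) T, c0.IsCycle ∧ c0.support.card = p := by
    obtain ⟨n, hn'⟩ := Perm.cycleType_prime_order (σ := t) (by rw [hto]; exact hpp)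
    rw [hto] at hn'
    rcases Nat.eq_zero_or_pos n with rfl | hnpos
    · refine ⟨t, htX, ?_, ?_⟩
      · rw [← Perm.card_cycleType_eq_one, hn']; simp
      · rw [← Perm.sum_cycleType, hn']; simp
    · have ht1 : t ≠ 1 := by
        intro h
        rw [h, orderOf_one] at hto
        exact hpp.one_lt.ne hto
      obtain ⟨c, hc⟩ : t.cycleFactorsFinset.Nonempty := by
        rw [Finset.nonempty_iff_ne_empty, Ne, Perm.cycleFactorsFinset_eq_empty_iff]
        exact ht1
      have hcc : c.IsCycle := (Perm.mem_cycleFactorsFinset_iff.mp hc).1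
      have hdisj : Perm.Disjoint (t * c⁻¹) c := Perm.disjoint_mul_inv_of_mem_cycleFactorsFinset hc
      set r := t * c⁻¹ with hr
      have htrc : t = r * c := by rw [hr]; group
      have hcs : c.support.card = p := by
        have : c.support.card ∈ t.cycleType := by
          rw [Perm.cycleType_def]
          exact Multiset.mem_map_of_mem _ hc
        rw [hn', Multiset.mem_replicate] at this
        exact this.2
      have hrc : r ^ p = 1 ∧ c ^ p = 1 := by
        have h1 : (r * c) ^ p = 1 := htrc ▸ htp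
        rw [hdisj.commute.mul_pow] at h1
        exact (hdisj.pow_disjoint_pow p p).mul_eq_one_iff.mp h1
      have hdisj' : Perm.Disjoint r⁻¹ c := hdisj.inv_left
      have hct' : (r⁻¹ * c).cycleType = t.cycleType := by
        rw [hdisj'.cycleType_mul, Perm.cycleType_inv, ← hdisj.cycleType_mul, ← htrc]
      obtain ⟨g, hg⟩ := isConj_iff.mp (Perm.isConj_iff_cycleType_eq.mpr hct'.symm)
      have hnot : ¬ (Subgroup.centralizer {t} ≤ alternatingGroup α) := by
        rw [Perm.centralizer_le_alternating_iff]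
        rintro ⟨-, -, h3⟩
        have := h3 p
        rw [hn', Multiset.count_replicate_self] at this
        omega
      obtain ⟨h, hhc, hhA⟩ := SetLike.not_le_iff_exists.mp hnot
      have hht : h * t * h⁻¹ = t := by
        rw [Subgroup.mem_centralizer_iff] at hhc
        have := hhc t (Set.mem_singleton t)
        rw [← this, mul_inv_cancel_right]
      obtain ⟨g', hg'A, hg'⟩ : ∃ g' ∈ alternatingGroup α, g' * t * g'⁻¹ = r⁻¹ * c := by
        by_cases hgA : g ∈ alternatingGroup α
        · exact ⟨g, hgA, hg⟩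
        · refine ⟨g * h, ?_, ?_⟩
          · rw [Perm.mem_alternatingGroup] at hgA hhA ⊢
            rw [map_mul]
            rcases Int.units_eq_one_or (Perm.sign g) with h1 | h1
            · exact absurd h1 hgA
            · rcases Int.units_eq_one_or (Perm.sign h) with h2 | h2
              · exact absurd h2 hhA
              · rw [h1, h2]; decide
          · calc g * h * t * (g * h)⁻¹ = g * (h * t * h⁻¹) * g⁻¹ := by group
              _ = r⁻¹ * c := by rw [hht, hg]
      have ht'X : r⁻¹ * c ∈ conjSet (alternatingGroup α) T := by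
        rw [← hg']
        exact conjSet_conj _ T htX hg'A
      have hQA : Subgroup.zpowers r ⊔ Subgroup.zpowers c ≤ alternatingGroup α :=
        sup_le (Subgroup.zpowers_le.mpr (h13af_mem_alt_of_pow_odd hodd hrc.1))
          (Subgroup.zpowers_le.mpr (h13af_mem_alt_of_pow_odd hodd hrc.2))
      have hQ : IsPGroup p (Subgroup.zpowers r ⊔ Subgroup.zpowers c : Subgroup (Perm α)) :=
        h13af_pgroup_sup_zpowers hdisj.commute hrc.1 hrc.2
      have hrQ : r ∈ Subgroup.zpowers r ⊔ Subgroup.zpowers c :=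
        (le_sup_left : Subgroup.zpowers r ≤ _) (Subgroup.mem_zpowers r)
      have hcQ : c ∈ Subgroup.zpowers r ⊔ Subgroup.zpowers c :=
        (le_sup_right : Subgroup.zpowers c ≤ _) (Subgroup.mem_zpowers c)
      have hmul := conjSet_mul hP hcl _ hQA hQ htX ht'X
        (htrc ▸ Subgroup.mul_mem _ hrQ hcQ) (Subgroup.mul_mem _ (Subgroup.inv_mem _ hrQ) hcQ)
      have hcc2 : t * (r⁻¹ * c) = c ^ 2 := by
        rw [htrc, hdisj.commute.eq, mul_assoc, mul_inv_cancel_left, sq]
      rw [hcc2] at hmul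
      obtain ⟨k, hk⟩ := hodd
      have hpow := conjSet_pow _ T hmul (k + 1)
      have hcc3 : (c ^ 2) ^ (k + 1) = c := by
        rw [← pow_mul, show 2 * (k + 1) = p + 1 by omega, pow_succ, hrc.2, one_mul]
      rw [hcc3] at hpow
      exact ⟨c, hpow, hcc, hcs⟩
  -- Step 3: all p-cycles
  have hcyc : ∀ c : Perm α, c.IsCycle → c.support.card = p →
      c ∈ conjSet (alternatingGroup α) T := by
    intro c hc hcs
    have hcp : c ^ p = 1 := by rw [← hcs, ← hc.orderOf]; exact pow_orderOf_eq_one c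
    have hc0p : c0 ^ p = 1 := by rw [← hc0s, ← hc0.orderOf]; exact pow_orderOf_eq_one c0
    have hcA := h13af_mem_alt_of_pow_odd hodd hcp
    have hc0A := h13af_mem_alt_of_pow_odd hodd hc0p
    have hconj : IsConj (⟨c0, hc0A⟩ : alternatingGroup α) ⟨c, hcA⟩ := by
      apply alternatingGroup.isConj_of
      · exact hc0.isConj hc (by rw [hc0s, hcs])
      · show c0.support.card + 2 ≤ Fintype.card α
        rw [hc0s]
        nlinarith
    obtain ⟨g, hg⟩ := isConj_iff.mp hconj
    have hg2 : (g : Perm α) * c0 * (g : Perm α)⁻¹ = c := congrArg Subtype.val hg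
    rw [← hg2]
    exact conjSet_conj _ T hc0X g.2
  -- Step 4: induction on cycle decomposition
  revert hy
  refine Perm.cycle_induction_on
    (fun σ => σ ^ p = 1 → σ ∈ conjSet (alternatingGroup α) T) y ?_ ?_ ?_
  · intro _
    exact mem_conjSet_of_mem _ T T.one_mem
  · intro σ hσ hσp
    apply hcyc σ hσ
    have h1 : orderOf σ ∣ p := orderOf_dvd_of_pow_eq_one hσp
    rw [← hσ.orderOf]
    rcases (Nat.dvd_prime hpp).mp h1 with h | h
    · exact absurd (orderOf_eq_one_iff.mp h) hσ.ne_one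
    · exact h
  · intro σ τ hd _ ihσ ihτ hστ
    rw [hd.commute.mul_pow] at hστ
    obtain ⟨h1, h2⟩ := (hd.pow_disjoint_pow p p).mul_eq_one_iff.mp hστ
    exact conjSet_mul hP hcl (Subgroup.zpowers σ ⊔ Subgroup.zpowers τ)
      (sup_le (Subgroup.zpowers_le.mpr (h13af_mem_alt_of_pow_odd hodd h1))
        (Subgroup.zpowers_le.mpr (h13af_mem_alt_of_pow_odd hodd h2)))
      (h13af_pgroup_sup_zpowers hd.commute h1 h2) (ihσ h1) (ihτ h2)
      ((le_sup_left : Subgroup.zpowers σ ≤ _) (Subgroup.mem_zpowers σ))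
      ((le_sup_right : Subgroup.zpowers τ ≤ _) (Subgroup.mem_zpowers τ))

end Cfsg.Agent.Lib.Helper13.AltFus
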