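import Mathlib
import Cfsg.Agent.Lib.Helper27.AltFus.Defs
import Cfsg.Agent.Lib.Helper27.AltFus.SX
import Cfsg.Agent.Lib.Helper13.AltFusS3

set_option autoImplicit false

/-! Project AltFus, piece S4: for `n ≥ 6`, every even involution of `Sym(n)` is an
`A_n`-conjugate of an element of a nontrivial strongly closed subgroup `T` of a Sylow
`2`-subgroup of `A_n`. -/

namespace Cfsg.Agent.Lib.Helper13.AltFus

open Cfsg.Agent.Lib.Helper27.AltFus Equiv

theorem h13af_invol_apply {α : Type*} (t : Perm α) (ht2 : t ^ 2 = 1) (x : α) : t (t x) = x := by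
  have := congrArg (fun f : Perm α => f x) ht2
  simpa [sq] using this

/-- an even involution `≠ 1` moves two points lying in different orbits -/
theorem h13af_invol_points {α : Type*} [Fintype α] [DecidableEq α] (t : Perm α) (ht2 : t ^ 2 = 1)
    (htA : t ∈ alternatingGroup α) (ht1 : t ≠ 1) :
    ∃ a c, t a ≠ a ∧ t c ≠ c ∧ c ≠ a ∧ c ≠ t a := by
  have htt := h13af_invol_apply t ht2
  obtain ⟨a, ha⟩ : ∃ a, t a ≠ a := by
    by_contra h
    push_neg at h
    exact ht1 (Equiv.ext h)
  by_contra hcon
  push_neg at hcon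
  have : t = swap a (t a) := by
    ext x
    by_cases hxa : x = a
    · subst hxa; simp
    · by_cases hxb : x = t a
      · subst hxb; rw [htt]; simp
      · rw [swap_apply_of_ne_of_ne hxa hxb]
        by_contra hx
        exact hxb (hcon a x ha hx hxa)
  rw [Perm.mem_alternatingGroup, this, Perm.sign_swap (Ne.symm ha)] at htA
  exact absurd htA (by decide)

theorem h13af_invol_nodup {α : Type*} (t : Perm α) (ht2 : t ^ 2 = 1) (a c : α)
    (ha : t a ≠ a) (hc : t c ≠ c) (hca : c ≠ a) (hcb : c ≠ t a) :
    a ≠ t a ∧ a ≠ c ∧ a ≠ t c ∧ t a ≠ c ∧ t a ≠ t c ∧ c ≠ t c := by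
  have htt := h13af_invol_apply t ht2
  refine ⟨Ne.symm ha, Ne.symm hca, ?_, Ne.symm hcb, ?_, Ne.symm hc⟩
  · intro h
    apply hcb
    rw [h, htt]
  · intro h
    exact hca (t.injective h).symm

theorem h13af_invol_calc {α : Type*} [DecidableEq α] (t : Perm α) (ht2 : t ^ 2 = 1) (a c : α)
    (ha : t a ≠ a) (hc : t c ≠ c) (hca : c ≠ a) (hcb : c ≠ t a) :
    t * (swap (t a) c * t * swap (t a) c) = swap a (t c) * swap (t a) c := by
  have htt := h13af_invol_apply t ht2
  obtain ⟨h1, h2, h3, h4, h5, h6⟩ := h13af_invol_nodup t ht2 a c ha hc hca hcb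
  ext x
  simp only [Perm.mul_apply, swap_apply_def]
  grind

theorem h13af_cycleType_dtrans {α : Type*} [Fintype α] [DecidableEq α] {a b c d : α}
    (h : [a, b, c, d].Nodup) : (swap a b * swap c d).cycleType = {2} + {2} := by
  have hab : a ≠ b := by
    intro e
    subst e
    simp at h
  have hcd : c ≠ d := by
    intro e
    subst e
    simp at h
  rw [(Perm.disjoint_swap_swap h).cycleType_mul, Perm.isSwap_iff_cycleType.mp ⟨a, b, hab, rfl⟩,
    Perm.isSwap_iff_cycleType.mp ⟨c, d, hcd, rfl⟩]

theorem h13af_dtrans_sq {α : Type*} [DecidableEq α] {a b c d : α}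
    (h : [a, b, c, d].Nodup) : (swap a b * swap c d) ^ 2 = 1 := by
  rw [(Perm.disjoint_swap_swap h).commute.mul_pow, sq, sq, swap_mul_self, swap_mul_self, one_mul]

theorem h13af_commute_swap {α : Type*} [DecidableEq α] (y : Perm α) (hy2 : y ^ 2 = 1) (a : α) :
    Commute y (swap a (y a)) := by
  show y * swap a (y a) = swap a (y a) * y
  rw [mul_swap_eq_swap_mul, h13af_invol_apply y hy2, swap_comm]

theorem h13af_commute_invol {G : Type*} [Group G] {x y : G} (hx : x ^ 2 = 1) (hy : y ^ 2 = 1)
    (hxy : (x * y) ^ 2 = 1) : Commute x y := by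
  show x * y = y * x
  have h1 : x⁻¹ = x := by
    rw [inv_eq_iff_mul_eq_one, ← sq, hx]
  have h2 : y⁻¹ = y := by
    rw [inv_eq_iff_mul_eq_one, ← sq, hy]
  have h3 : (x * y)⁻¹ = x * y := by
    rw [inv_eq_iff_mul_eq_one, ← sq, hxy]
  rw [← h3, mul_inv_rev, h1, h2]

theorem order_p_mem_two {α : Type*} [Fintype α] [DecidableEq α]
    (hn : 6 ≤ Fintype.card α)
    (P T : Subgroup (Perm α)) (hP : IsSylIn 2 (alternatingGroup α) P) (hTP : T ≤ P) (hT : T ≠ ⊥)
    (hcl : ∀ x ∈ T, ∀ g ∈ alternatingGroup α, g * x * g⁻¹ ∈ P → g * x * g⁻¹ ∈ T)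
    (y : Perm α) (hyA : y ∈ alternatingGroup α) (hy : y ^ 2 = 1) :
    y ∈ conjSet (alternatingGroup α) T := by
  classical
  haveI : Fact (Nat.Prime 2) := ⟨Nat.prime_two⟩
  -- Step 1
  obtain ⟨t, htT, hto⟩ : ∃ t ∈ T, orderOf t = 2 :=
    h13af_exists_order_p 2 T (hP.pgroup.to_le hTP) hT
  have ht2 : t ^ 2 = 1 := by rw [← hto]; exact pow_orderOf_eq_one t
  have htA : t ∈ alternatingGroup α := hP.le (hTP htT)
  have ht1 : t ≠ 1 := by
    intro h
    rw [h, orderOf_one] at hto
    omega
  have htX : t ∈ conjSet (alternatingGroup α) T := mem_conjSet_of_mem _ T htT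
  -- Step 2: a double transposition in X0
  obtain ⟨u, huX, hu⟩ : ∃ u ∈ conjSet (alternatingGroup α) T, u.cycleType = {2} + {2} := by
    obtain ⟨a, c, ha, hc, hca, hcb⟩ := h13af_invol_points t ht2 htA ht1
    obtain ⟨h1, h2, h3, h4, h5, h6⟩ := h13af_invol_nodup t ht2 a c ha hc hca hcb
    have hcalc := h13af_invol_calc t ht2 a c ha hc hca hcb
    have hnd : [a, t c, t a, c].Nodup := by
      simp only [List.nodup_cons, List.mem_cons, List.not_mem_nil, or_false, not_or,
        List.nodup_nil, and_true, not_false_eq_true]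
      exact ⟨⟨h3, h1, h2⟩, ⟨Ne.symm h5, Ne.symm h6⟩, h4⟩
    -- the conjugator
    have hc₁t : swap a (t a) * t * (swap a (t a))⁻¹ = t := by
      rw [← (h13af_commute_swap t ht2 a).eq, mul_inv_cancel_right]
    have hgA : swap (t a) c * swap a (t a) ∈ alternatingGroup α := by
      rw [Perm.mem_alternatingGroup, map_mul, Perm.sign_swap h4, Perm.sign_swap h1]
      decide
    have ht'X : swap (t a) c * t * swap (t a) c ∈ conjSet (alternatingGroup α) T := by
      have := conjSet_conj _ T htX hgA
      have e : swap (t a) c * swap a (t a) * t * (swap (t a) c * swap a (t a))⁻¹ =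
          swap (t a) c * t * swap (t a) c := by
        calc swap (t a) c * swap a (t a) * t * (swap (t a) c * swap a (t a))⁻¹
            = swap (t a) c * (swap a (t a) * t * (swap a (t a))⁻¹) * (swap (t a) c)⁻¹ := by group
          _ = swap (t a) c * t * swap (t a) c := by rw [hc₁t, swap_inv]
      rwa [e] at this
    have ht'2 : (swap (t a) c * t * swap (t a) c) ^ 2 = 1 := by
      have : swap (t a) c * t * swap (t a) c = swap (t a) c * t * (swap (t a) c)⁻¹ := by
        rw [swap_inv]
      rw [this, conj_pow, ht2, mul_one, mul_inv_cancel]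
    have ht'A : swap (t a) c * t * swap (t a) c ∈ alternatingGroup α := by
      rw [Perm.mem_alternatingGroup] at htA ⊢
      rw [map_mul, map_mul, htA, mul_one, ← map_mul, swap_mul_self, map_one]
    have hcomm : Commute t (swap (t a) c * t * swap (t a) c) :=
      h13af_commute_invol ht2 ht'2 (by rw [hcalc]; exact h13af_dtrans_sq hnd)
    have hmul := conjSet_mul hP hcl
      (Subgroup.zpowers t ⊔ Subgroup.zpowers (swap (t a) c * t * swap (t a) c))
      (sup_le (Subgroup.zpowers_le.mpr htA) (Subgroup.zpowers_le.mpr ht'A))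
      (h13af_pgroup_sup_zpowers hcomm ht2 ht'2) htX ht'X
      ((le_sup_left : Subgroup.zpowers t ≤ _) (Subgroup.mem_zpowers t))
      ((le_sup_right : Subgroup.zpowers (swap (t a) c * t * swap (t a) c) ≤ _)
        (Subgroup.mem_zpowers _))
    rw [hcalc] at hmul
    exact ⟨_, hmul, h13af_cycleType_dtrans hnd⟩
  -- Step 3: all double transpositions
  have hsign : ∀ w : Perm α, w.cycleType = {2} + {2} → w ∈ alternatingGroup α := by
    intro w hw
    rw [Perm.mem_alternatingGroup, Perm.sign_of_cycleType, hw]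
    decide
  have hdt : ∀ w : Perm α, w.cycleType = {2} + {2} → w ∈ conjSet (alternatingGroup α) T := by
    intro w hw
    have hconj : IsConj (⟨u, hsign u hu⟩ : alternatingGroup α) ⟨w, hsign w hw⟩ := by
      apply alternatingGroup.isConj_of
      · exact Perm.isConj_iff_cycleType_eq.mpr (by rw [hu, hw])
      · show u.support.card + 2 ≤ Fintype.card α
        rw [← Perm.sum_cycleType, hu]
        exact hn
    obtain ⟨g, hg⟩ := isConj_iff.mp hconj
    have hg2 : (g : Perm α) * u * (g : Perm α)⁻¹ = w := congrArg Subtype.val hg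
    rw [← hg2]
    exact conjSet_conj _ T huX g.2
  -- Step 4: induction on the size of the support
  have main : ∀ n : ℕ, ∀ y : Perm α, y.support.card = n → y ∈ alternatingGroup α → y ^ 2 = 1 →
      y ∈ conjSet (alternatingGroup α) T := by
    intro n
    induction n using Nat.strong_induction_on with
    | _ n ih =>
      intro y hyn hyA hy2
      by_cases hy1 : y = 1
      · subst hy1
        exact mem_conjSet_of_mem _ T T.one_mem
      obtain ⟨a, c, ha, hc, hca, hcb⟩ := h13af_invol_points y hy2 hyA hy1
      obtain ⟨h1, h2, h3, h4, h5, h6⟩ := h13af_invol_nodup y hy2 a c ha hc hca hcb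
      have hyy := h13af_invol_apply y hy2
      have hnd : [a, y a, c, y c].Nodup := by
        simp only [List.nodup_cons, List.mem_cons, List.not_mem_nil, or_false, not_or,
          List.nodup_nil, and_true, not_false_eq_true]
        exact ⟨⟨h1, h2, h3⟩, ⟨h4, h5⟩, h6⟩
      have hwX : swap a (y a) * swap c (y c) ∈ conjSet (alternatingGroup α) T :=
        hdt _ (h13af_cycleType_dtrans hnd)
      have hw2 : (swap a (y a) * swap c (y c)) ^ 2 = 1 := h13af_dtrans_sq hnd
      have hwy : Commute y (swap a (y a) * swap c (y c)) :=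
        (h13af_commute_swap y hy2 a).mul_right (h13af_commute_swap y hy2 c)
      have hwA : swap a (y a) * swap c (y c) ∈ alternatingGroup α :=
        hsign _ (h13af_cycleType_dtrans hnd)
      have hy'2 : (swap a (y a) * swap c (y c) * y) ^ 2 = 1 := by
        rw [hwy.symm.mul_pow, hw2, hy2, one_mul]
      have hy'A : swap a (y a) * swap c (y c) * y ∈ alternatingGroup α :=
        Subgroup.mul_mem _ hwA hyA
      have hsub : (swap a (y a) * swap c (y c) * y).support ⊆ y.support := by
        intro x hx
        rw [Perm.mem_support] at hx ⊢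
        intro hyx
        apply hx
        simp only [Perm.mul_apply, swap_apply_def]
        grind
      have hssub : (swap a (y a) * swap c (y c) * y).support ⊂ y.support := by
        rw [Finset.ssubset_iff_of_subset hsub]
        refine ⟨a, Perm.mem_support.mpr ha, ?_⟩
        rw [Perm.mem_support, not_not]
        simp only [Perm.mul_apply, swap_apply_def]
        grind
      have hy'X := ih _ (by rw [← hyn]; exact Finset.card_lt_card hssub) _ rfl hy'A hy'2
      have hwy' : Commute (swap a (y a) * swap c (y c)) (swap a (y a) * swap c (y c) * y) :=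
        (Commute.refl _).mul_right hwy.symm
      have hmul := conjSet_mul hP hcl
        (Subgroup.zpowers (swap a (y a) * swap c (y c)) ⊔
          Subgroup.zpowers (swap a (y a) * swap c (y c) * y))
        (sup_le (Subgroup.zpowers_le.mpr hwA) (Subgroup.zpowers_le.mpr hy'A))
        (h13af_pgroup_sup_zpowers hwy' hw2 hy'2) hwX hy'X
        ((le_sup_left : Subgroup.zpowers (swap a (y a) * swap c (y c)) ≤ _)
          (Subgroup.mem_zpowers _))
        ((le_sup_right : Subgroup.zpowers (swap a (y a) * swap c (y c) * y) ≤ _)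
          (Subgroup.mem_zpowers _))
      have e : swap a (y a) * swap c (y c) * (swap a (y a) * swap c (y c) * y) = y := by
        rw [← mul_assoc, ← sq, hw2, one_mul]
      rwa [e] at hmul
  exact main _ y rfl hyA hy

end Cfsg.Agent.Lib.Helper13.AltFus
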