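import Mathlib

/-! Piece TW-A of helper22's S4150 (AltGen) project: a group of degree `p+2` (both `p`, `p+2` prime)
containing a `p`-cycle and a `(p+2)`-cycle is 3-transitive (Jordan). -/

namespace Cfsg.Agent.Lib.Helper13.AltGenTWA

open Equiv Equiv.Perm MulAction

theorem pretrans_of_full_cycle {β : Type*} [Fintype β] [DecidableEq β] (G : Subgroup (Perm β))
    {b : Perm β} (hb : b.IsCycle) (hbq : b.support.card = Fintype.card β) (hbG : b ∈ G) :
    IsPretransitive G β := by
  have hsupp : b.support = Finset.univ := Finset.eq_univ_of_card _ hbq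
  refine ⟨fun x y => ?_⟩
  have hx : b x ≠ x := by
    have : x ∈ b.support := by rw [hsupp]; exact Finset.mem_univ _
    exact Equiv.Perm.mem_support.mp this
  have hy : b y ≠ y := by
    have : y ∈ b.support := by rw [hsupp]; exact Finset.mem_univ _
    exact Equiv.Perm.mem_support.mp this
  obtain ⟨i, hi⟩ := hb.exists_zpow_eq hx hy
  exact ⟨⟨b ^ i, G.zpow_mem hbG i⟩, hi⟩

theorem twin_three_trans {β : Type*} [Fintype β] [DecidableEq β] {p : ℕ} (hp : p.Prime)
    (hpp : (p + 2).Prime) (hβ : Fintype.card β = p + 2) (G : Subgroup (Perm β))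
    {a b : Perm β} (ha : a.IsCycle) (hap : a.support.card = p) (haG : a ∈ G)
    (hb : b.IsCycle) (hbq : b.support.card = p + 2) (hbG : b ∈ G) :
    IsMultiplyPretransitive G β 3 := by
  classical
  haveI : IsPretransitive G β := pretrans_of_full_cycle G hb (hbq.trans hβ.symm) hbG
  have hG : IsPreprimitive G β := by
    apply IsPreprimitive.of_prime_card
    rw [Nat.card_eq_fintype_card, hβ]; exact hpp
  suffices IsMultiplyPreprimitive G β (1 + 2) from
    IsMultiplyPreprimitive.isMultiplyPretransitive ..
  apply hG.isMultiplyPreprimitive (s := ((a.support : Set β)ᶜ))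
  · apply Nat.add_left_cancel (n := p)
    have h1 := Set.ncard_add_ncard_compl ((a.support : Set β))
    rw [Set.ncard_coe_finset, hap, Nat.card_eq_fintype_card, hβ] at h1
    omega
  · rw [Nat.card_eq_fintype_card, hβ]
    have := hp.two_le
    omega
  have := isPretransitive_of_isCycle_mem ha haG
  apply IsPreprimitive.of_prime_card
  convert hp
  rw [Nat.card_eq_fintype_card, Fintype.card_subtype, ← hap]
  apply congr_arg
  ext x
  simp [SubMulAction.mem_ofFixingSubgroup_iff]

end Cfsg.Agent.Lib.Helper13.AltGenTWA
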