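import Mathlib
import Cfsg.Agent.S0680

/-! Piece TW-G of helper22's S4150 (AltGen) project: there is no sharply 3-transitive group of
degree 13 (order 13*12*11). Uses the general structure theorem from landed S0680. -/

namespace Cfsg.Agent.Lib.Helper13.AltGenTWG

open Equiv Equiv.Perm MulAction

theorem emb3_inj {β : Type*} {u a b : β} (hua : u ≠ a) (hub : u ≠ b) (hab : a ≠ b) :
    Function.Injective (![u, a, b] : Fin 3 → β) := by
  intro i j h
  fin_cases i <;> fin_cases j <;> simp_all

theorem twelve_not_prime_pow {p j : ℕ} (hp : p.Prime) (h : 12 = p ^ j) : False := by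
  have hj : j ≠ 0 := by
    rintro rfl
    simp at h
  have hdvd : p ∣ 12 := by
    rw [h]; exact dvd_pow_self p hj
  have hple : p ≤ 12 := Nat.le_of_dvd (by norm_num) hdvd
  have hjlt : j < 4 := by
    by_contra hcon
    push Not at hcon
    have h1 : 2 ^ 4 ≤ p ^ j :=
      le_trans (Nat.pow_le_pow_left hp.two_le 4) (Nat.pow_le_pow_right hp.pos hcon)
    rw [← h] at h1
    norm_num at h1
  interval_cases j
  · simp at h
  · have : p = 12 := by simpa using h.symm
    subst this
    norm_num at hp
  · have h4 : p < 4 := by nlinarith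
    interval_cases p <;> norm_num at h
  · have h4 : p < 3 := by
      by_contra hcon
      push Not at hcon
      have h5 : 3 ^ 3 ≤ p ^ 3 := Nat.pow_le_pow_left hcon 3
      rw [← h] at h5
      norm_num at h5
    interval_cases p <;> norm_num at h

theorem no_sharp3_13 {β : Type*} [Fintype β] [DecidableEq β] (hβ : Fintype.card β = 13)
    (G : Subgroup (Perm β)) (h3 : IsMultiplyPretransitive G β 3) (hcard : Nat.card G = 13 * 12 * 11) :
    False := by
  classical
  -- sharpness
  have hsharp : ∀ (x : Fin 3 ↪ β) (g : G), g • x = x → g = 1 := by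
    intro x g hg
    have hsurj : Function.Surjective (fun g : G => g • x) :=
      fun y => MulAction.exists_smul_eq G x y
    have hcard2 : Nat.card (Fin 3 ↪ β) = 13 * 12 * 11 := by
      rw [Nat.card_eq_fintype_card, Fintype.card_embedding_eq, Fintype.card_fin, hβ]
      rfl
    have hbij : Function.Bijective (fun g : G => g • x) :=
      hsurj.bijective_of_nat_card_le (by rw [hcard, hcard2])
    apply hbij.1
    exact hg.trans (one_smul G x).symm
  have hne : Nonempty β := by
    rw [← Fintype.card_pos_iff, hβ]; norm_num
  obtain ⟨u⟩ := hne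
  let H := MulAction.stabilizer G u
  let α := SubMulAction.ofStabilizer G u
  letI : Fintype H := Fintype.ofFinite _
  letI : Fintype α := Fintype.ofFinite _
  have hcardα : Fintype.card α = 12 := by
    have h1 := SubMulAction.nat_card_ofStabilizer_add_one_eq G u
    rw [Nat.card_eq_fintype_card, Nat.card_eq_fintype_card, hβ] at h1
    change Fintype.card α + 1 = 13 at h1
    omega
  have H2T : ∀ a b c d : α, a ≠ b → c ≠ d → ∃ g : H, g • a = c ∧ g • b = d := by
    intro a b c d hab hcd
    have hau : u ≠ (a : β) := fun h => a.2 h.symm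
    have hbu : u ≠ (b : β) := fun h => b.2 h.symm
    have hcu : u ≠ (c : β) := fun h => c.2 h.symm
    have hdu : u ≠ (d : β) := fun h => d.2 h.symm
    have hab' : (a : β) ≠ b := fun h => hab (Subtype.ext h)
    have hcd' : (c : β) ≠ d := fun h => hcd (Subtype.ext h)
    let x : Fin 3 ↪ β := ⟨![u, a, b], emb3_inj hau hbu hab'⟩
    let y : Fin 3 ↪ β := ⟨![u, c, d], emb3_inj hcu hdu hcd'⟩
    obtain ⟨g, hg⟩ := MulAction.exists_smul_eq G x y
    have h0 : g • u = u := by
      have := congrArg (fun f : Fin 3 ↪ β => f 0) hg
      simpa [x, y] using this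
    have h1 : g • (a : β) = c := by
      have := congrArg (fun f : Fin 3 ↪ β => f 1) hg
      simpa [x, y] using this
    have h2 : g • (b : β) = d := by
      have := congrArg (fun f : Fin 3 ↪ β => f 2) hg
      simpa [x, y] using this
    refine ⟨⟨g, h0⟩, Subtype.ext ?_, Subtype.ext ?_⟩
    · exact h1
    · exact h2
  have HS : ∀ (g : H) (a b : α), a ≠ b → g • a = a → g • b = b → g = 1 := by
    intro g a b hab hga hgb
    have hau : u ≠ (a : β) := fun h => a.2 h.symm
    have hbu : u ≠ (b : β) := fun h => b.2 h.symm
    have hab' : (a : β) ≠ b := fun h => hab (Subtype.ext h)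
    let x : Fin 3 ↪ β := ⟨![u, a, b], emb3_inj hau hbu hab'⟩
    have hgx : (g : G) • x = x := by
      ext i
      have h0 : (g : G) • u = u := g.2
      have h1 : (g : G) • (a : β) = a := congrArg Subtype.val hga
      have h2 : (g : G) • (b : β) = b := congrArg Subtype.val hgb
      fin_cases i
      · simpa [x] using h0
      · simpa [x] using h1
      · simpa [x] using h2
    have := hsharp x g hgx
    exact Subtype.ext this
  obtain ⟨K, p, j, hp, hj, hpj, -⟩ :=
    Cfsg.Agent.S0680.structure_thm (G := H) (α := α) H2T HS (by rw [hcardα]; norm_num)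
  rw [hcardα] at hpj
  exact twelve_not_prime_pow hp hpj

end Cfsg.Agent.Lib.Helper13.AltGenTWG
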