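import Mathlib
import Cfsg.Agent.Lib.helper7.BD.D1Defs
import Cfsg.Agent.Lib.helper7.BD.D1Defs2
import Cfsg.Agent.Lib.Helper24.CyclicInertial3
import Cfsg.Agent.Lib.Helper25.CharOrth
import Cfsg.Agent.Lib.Helper13.BD3CJ

/-!
# Project BD, stage B, wave 4, piece YCORE : the core argument, with the pieces VALY and SINGCONJ as
hypotheses (`bd4ycore_core`)
-/

set_option autoImplicit false
set_option linter.unusedVariables false
set_option linter.unusedSectionVars false
set_option linter.style.haveILetI false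

namespace Cfsg.Agent.Lib.helper7.BD

open Cfsg.Agent.Lib.helper7

universe u

/-- a `p`-regular element is fixed by the power maps `g ↦ g ^ m`, `m ≡ 1` modulo the `p'`-part of `|G|` -/
theorem bd4ycore_pow_regular {G : Type u} [Group G] [Finite G] {p : ℕ} [Fact p.Prime] (m : ℕ)
    (hm1 : m ≡ 1 [MOD Nat.card G / p ^ (Nat.card G).factorization p]) (g : G)
    (hg : ¬ p ∣ orderOf g) : g ^ m = g := by
  have hp := (Fact.out : p.Prime)
  have h1 : orderOf g ∣ Nat.card G := orderOf_dvd_natCard g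
  have h2 : p ^ (Nat.card G).factorization p * (Nat.card G / p ^ (Nat.card G).factorization p) =
      Nat.card G := Nat.ordProj_mul_ordCompl_eq_self (Nat.card G) p
  have h3 : Nat.Coprime (orderOf g) (p ^ (Nat.card G).factorization p) :=
    Nat.Coprime.pow_right _ ((Nat.Prime.coprime_iff_not_dvd hp).2 hg).symm
  have h4 : orderOf g ∣ Nat.card G / p ^ (Nat.card G).factorization p := by
    rw [← h2] at h1
    exact h3.dvd_of_dvd_mul_left h1
  have h5 : m ≡ 1 [MOD orderOf g] := hm1.of_dvd h4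
  have h6 := (pow_eq_pow_iff_modEq (x := g)).2 h5
  rw [pow_one] at h6
  exact h6

section root

variable {G : Type u} [Group G] [Fintype G] {p : ℕ} [Fact p.Prime] {P : Sylow p G} {T : Subgroup G}

variable [Fintype ↥(Subgroup.centralizer ((P : Subgroup G) : Set G))]
  [Fintype ↥(Subgroup.normalizer ((P : Subgroup G) : Set G))]

/-- the core of YCORE -/
theorem bd4ycore_core (hTN : T ≤ Subgroup.normalizer ((P : Subgroup G) : Set G))
    (ξ ξ' : Cfsg.IrrCharacter (Subgroup.centralizer ((P : Subgroup G) : Set G)))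
    (ψ ψ' : Cfsg.IrrCharacter G) (ε : ℂ)
    (hval : ∀ c : ↥(Subgroup.centralizer ((P : Subgroup G) : Set G)), p ∣ orderOf c →
      (Nat.card (Subgroup.centralizer ((P : Subgroup G) : Set G)) : ℂ) * (ψ : G → ℂ) (c : G) =
        ε * ∑ n : ↥(Subgroup.normalizer ((P : Subgroup G) : Set G)),
          (cjIrr (Subgroup.centralizer ((P : Subgroup G) : Set G)) (n : G) ξ :
            ↥(Subgroup.centralizer ((P : Subgroup G) : Set G)) → ℂ) c)
    (hval' : ∀ c : ↥(Subgroup.centralizer ((P : Subgroup G) : Set G)), p ∣ orderOf c →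
      (Nat.card (Subgroup.centralizer ((P : Subgroup G) : Set G)) : ℂ) * (ψ' : G → ℂ) (c : G) =
        ε * ∑ n : ↥(Subgroup.normalizer ((P : Subgroup G) : Set G)),
          (cjIrr (Subgroup.centralizer ((P : Subgroup G) : Set G)) (n : G) ξ' :
            ↥(Subgroup.centralizer ((P : Subgroup G) : Set G)) → ℂ) c)
    (hreg : ∀ g : G, ¬ p ∣ orderOf g → (ψ : G → ℂ) g = (ψ' : G → ℂ) g)
    (m : ℕ) (hm : m.Coprime (Nat.card G))
    (hm1 : m ≡ 1 [MOD Nat.card G / p ^ (Nat.card G).factorization p])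
    (s : G) (hs : s ∈ T)
    (hpow : ∀ d : ↥(Subgroup.centralizer ((P : Subgroup G) : Set G)),
      (ξ : ↥(Subgroup.centralizer ((P : Subgroup G) : Set G)) → ℂ) (d ^ m) =
        (cjIrr (Subgroup.centralizer ((P : Subgroup G) : Set G)) s ξ' :
          ↥(Subgroup.centralizer ((P : Subgroup G) : Set G)) → ℂ) d)
    (g : G)
    (hsing : p ∣ orderOf g →
      ∃ k : G, k * g * k⁻¹ ∈ Subgroup.centralizer ((P : Subgroup G) : Set G)) :
    (ψ : G → ℂ) (g ^ m) = (ψ' : G → ℂ) g := by
  classical
  by_cases hg : p ∣ orderOf g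
  · obtain ⟨k, hk⟩ := hsing hg
    have hNN := Cfsg.Agent.Lib.Helper24.ci_normalizer_le (P : Subgroup G)
    have hsN : s ∈ Subgroup.normalizer ((P : Subgroup G) : Set G) := hTN hs
    set c : ↥(Subgroup.centralizer ((P : Subgroup G) : Set G)) := ⟨k * g * k⁻¹, hk⟩ with hc
    -- `c` and `c ^ m` are `p`-singular
    have hoc : orderOf c = orderOf g := by
      rw [← Subgroup.orderOf_coe c]
      show orderOf (k * g * k⁻¹) = orderOf g
      have h1 := MulEquiv.orderOf_eq (MulAut.conj k) g
      rw [MulAut.conj_apply] at h1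
      exact h1
    have hcs : p ∣ orderOf c := by rw [hoc]; exact hg
    have hmc : Nat.Coprime (orderOf c) m := by
      have h1 : orderOf c ∣ Nat.card G := by
        rw [hoc]
        exact orderOf_dvd_natCard g
      exact (Nat.Coprime.coprime_dvd_right h1 hm).symm
    have hcms : p ∣ orderOf (c ^ m) := by
      rw [Nat.Coprime.orderOf_pow hmc]
      exact hcs
    -- the two character values
    have e1 : (ψ : G → ℂ) (g ^ m) = (ψ : G → ℂ) ((c ^ m : ↥(Subgroup.centralizer
        ((P : Subgroup G) : Set G))) : G) := by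
      have h1 : ((c ^ m : ↥(Subgroup.centralizer ((P : Subgroup G) : Set G))) : G) =
          k * g ^ m * k⁻¹ := by
        rw [Subgroup.coe_pow]
        show (k * g * k⁻¹) ^ m = k * g ^ m * k⁻¹
        exact conj_pow
      rw [h1, Cfsg.Agent.Lib.Helper25.irr_conj_invariant ψ (g ^ m) k]
    have e2 : (ψ' : G → ℂ) g = (ψ' : G → ℂ) (c : G) := by
      show (ψ' : G → ℂ) g = (ψ' : G → ℂ) (k * g * k⁻¹)
      rw [Cfsg.Agent.Lib.Helper25.irr_conj_invariant ψ' g k]
    have hC0 : (Nat.card (Subgroup.centralizer ((P : Subgroup G) : Set G)) : ℂ) ≠ 0 := by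
      exact_mod_cast Nat.card_pos.ne'
    rw [e1, e2]
    apply mul_left_cancel₀ hC0
    rw [hval (c ^ m) hcms, hval' c hcs]
    congr 1
    -- compare the two sums
    have hterm : ∀ n : ↥(Subgroup.normalizer ((P : Subgroup G) : Set G)),
        (cjIrr (Subgroup.centralizer ((P : Subgroup G) : Set G)) (n : G) ξ :
          ↥(Subgroup.centralizer ((P : Subgroup G) : Set G)) → ℂ) (c ^ m) =
        (cjIrr (Subgroup.centralizer ((P : Subgroup G) : Set G)) ((n : G) * s) ξ' :
          ↥(Subgroup.centralizer ((P : Subgroup G) : Set G)) → ℂ) c := by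
      intro n
      rw [cjIrr_mul _ (hNN n.2) (hNN hsN), cjIrr_apply _ (hNN n.2), cjIrr_apply _ (hNN n.2), map_pow,
        hpow]
    rw [Finset.sum_congr rfl fun n _ => hterm n]
    exact Fintype.sum_equiv (Equiv.mulRight (⟨s, hsN⟩ : ↥(Subgroup.normalizer ((P : Subgroup G) : Set G))))
      _ _ fun n => rfl
  · rw [bd4ycore_pow_regular m hm1 g hg]
    exact hreg g hg

end root

end Cfsg.Agent.Lib.helper7.BD
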