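import Mathlib
import Cfsg.Agent.Lib.helper7.BD.D1Defs
import Cfsg.Agent.Lib.helper7.BD.D1Defs2
import Cfsg.Agent.Lib.Helper25.BDTSUB
import Cfsg.Agent.Lib.helper14.BD4SINGCONJ
import Cfsg.Agent.Lib.Helper13.BD4YCORE0
import Cfsg.Agent.Lib.Helper13.BD4VALXY

/-!
# Project BD, stage B, wave 4, piece YCORE (`root_Y_core`, VERBATIM vs Skeleton4)
-/

set_option autoImplicit false
set_option linter.unusedVariables false
set_option linter.unusedSectionVars false
set_option linter.style.haveILetI false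

namespace Cfsg.Agent.Lib.helper7.BD

open Cfsg.Agent.Lib.helper7

universe u

section root

variable {G : Type u} [Group G] [Fintype G] {M : Ideal Cfsg.AlgInt} {p : ℕ} [Fact p.Prime]
  {P : Sylow p G} {B : Set (Cfsg.IrrCharacter G)}
  {b : Set (Cfsg.IrrCharacter (Subgroup.centralizer ((P : Subgroup G) : Set G)))}
  {θ : Cfsg.IrrCharacter (Subgroup.centralizer ((P : Subgroup G) : Set G))} {T : Subgroup G}

variable [Fintype ↥(Subgroup.centralizer ((P : Subgroup G) : Set G))]
  [Fintype ↥(Subgroup.normalizer ((P : Subgroup G) : Set G))]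

/-- YCORE : the power map `g ↦ g ^ m` carries the exceptional character of `r j` to that of `r j'` if it carries
`r j` to a `T`-conjugate of `r j'` -/
theorem root_Y_core (h : RootHyp p M P B b θ T) {t : ℕ}
    (r : Fin t → Cfsg.IrrCharacter (Subgroup.centralizer ((P : Subgroup G) : Set G)))
    (hr : IsReps P b θ T ((Subgroup.centralizer ((P : Subgroup G) : Set G)).relIndex T) t r)
    (ψ ψ' : Cfsg.IrrCharacter G) (hψ : ψ ∈ B) (hψ' : ψ' ∈ B) (ε : ℤ) (hε : ε = 1 ∨ ε = -1)
    (j j' : Fin t)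
    (hmul : ∀ i,
      Cfsg.classInner (r i : ↥(Subgroup.centralizer ((P : Subgroup G) : Set G)) → ℂ)
          (fun c : ↥(Subgroup.centralizer ((P : Subgroup G) : Set G)) => (ψ : G → ℂ) (c : G)) -
        Cfsg.classInner (θ : ↥(Subgroup.centralizer ((P : Subgroup G) : Set G)) → ℂ)
          (fun c : ↥(Subgroup.centralizer ((P : Subgroup G) : Set G)) => (ψ : G → ℂ) (c : G)) =
        if j = i then ((ε : ℤ) : ℂ) else 0)
    (hmul' : ∀ i,
      Cfsg.classInner (r i : ↥(Subgroup.centralizer ((P : Subgroup G) : Set G)) → ℂ)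
          (fun c : ↥(Subgroup.centralizer ((P : Subgroup G) : Set G)) => (ψ' : G → ℂ) (c : G)) -
        Cfsg.classInner (θ : ↥(Subgroup.centralizer ((P : Subgroup G) : Set G)) → ℂ)
          (fun c : ↥(Subgroup.centralizer ((P : Subgroup G) : Set G)) => (ψ' : G → ℂ) (c : G)) =
        if j' = i then ((ε : ℤ) : ℂ) else 0)
    (hreg : ∀ g : G, ¬ p ∣ orderOf g → (ψ : G → ℂ) g = (ψ' : G → ℂ) g)
    (m : ℕ) (hm : m.Coprime (Nat.card G))
    (hm1 : m ≡ 1 [MOD Nat.card G / p ^ (Nat.card G).factorization p])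
    (s : G) (hs : s ∈ T)
    (hpow : ∀ d : ↥(Subgroup.centralizer ((P : Subgroup G) : Set G)),
      (r j : ↥(Subgroup.centralizer ((P : Subgroup G) : Set G)) → ℂ) (d ^ m) =
        (cjIrr (Subgroup.centralizer ((P : Subgroup G) : Set G)) s (r j') :
          ↥(Subgroup.centralizer ((P : Subgroup G) : Set G)) → ℂ) d)
    (g : G) : (ψ : G → ℂ) (g ^ m) = (ψ' : G → ℂ) g :=
  bd4ycore_core (root_C_le_T h).2 (r j) (r j') ψ ψ' ((ε : ℤ) : ℂ)
    (fun c hc => root_value_Y h r hr ψ hψ ε j hmul c hc)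
    (fun c hc => root_value_Y h r hr ψ' hψ' ε j' hmul' c hc)
    hreg m hm hm1 s hs hpow g (fun hg => sing_conj_mem_centralizer P h.card_P g hg)

end root

end Cfsg.Agent.Lib.helper7.BD
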