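import Mathlib
import Cfsg.Agent.Lib.Helper25.BGL.PCDefs
import Cfsg.Agent.Lib.Helper10.BGL.Bridge
import Cfsg.Agent.Lib.Helper13.BGLPA04core
import Cfsg.Agent.Lib.Helper29.BGLPA02

/-!
# Project BGL (designer helper25 for blocks PC / PA / SE), row PA04 (`pa_exc_torus`), VERBATIM vs `Helper25/BGL/SkelPA.lean.txt`.
-/

set_option autoImplicit false

namespace Cfsg.Agent.Lib.Helper10.BGL

open Cfsg.Lie Cfsg.Lie.ChevalleyDatum Cfsg.Agent.Lib.helper8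

universe u

variable {K : Type u} [Field K]

/-- PA04 [M]  the exceptional case: a torus element in `H`. -/
theorem pa_exc_torus (D : ChevalleyDatum) (hD : Seven D) (q : ℕ) (hq : Odd q) (H : Subgroup (GL D.Idx K))
    (hL : Lq D K q ≤ H) (h : GL D.Idx K) (hh : h ∈ H) (b : GL D.Idx K) (c₁ c₂ : K) (hc₁ : c₁ ≠ 0) (hc₂ : c₂ ≠ 0)
    (h1 : ∀ s : K, b⁻¹ * xg D hD (D.nroots - 1) s * b = xg D hD (D.nroots - 1) (c₁ * s))
    (h2 : ∀ s : K, b⁻¹ * (h * xg D hD (D.nroots - 1) s * h⁻¹) * b = xg D hD 0 (c₂ * s))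
    (hsq : (c₁ * c₂) ^ 2 = -1) :
    b * hg D hD (D.nroots - 1) (-(c₁ * c₂)) * b⁻¹ ∈ H :=
  bglpa04_core D hD (pa_phi D hD) q hq H hL h hh b c₁ c₂ hc₁ hc₂ h1 h2 hsq

end Cfsg.Agent.Lib.Helper10.BGL
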