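import Mathlib
import Cfsg.Agent.Lib.Helper28.BP2.Defs

set_option autoImplicit false

namespace Cfsg.Agent.Lib.Helper28.BP2

open Cfsg.Agent.Lib.helper14

universe u v w

section AOdd

variable {F : Type u} [Field F] [Fintype F]

/-- AO7g with the statements of U4 (`card_PSL2`) and AO3 (`card_cent_invol`) for the field `K` as hypotheses. -/
theorem bp2ao7g_core (hodd : Odd (Fintype.card F)) (K : Type) [Field K] [Fintype K] (m c : ℕ)
    (hKm : Fintype.card K ^ m = Fintype.card F)
    (hc : c = Fintype.card F - 1 ∨ c = Fintype.card F + 1)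
    (hinv : ∀ t : PSL2 K, orderOf t = 2 →
      Nat.card (Subgroup.centralizer ({t} : Set (PSL2 K))) = c)
    (hU4 : Nat.card (PSL2 K) * Nat.gcd 2 (Fintype.card K - 1) =
      Fintype.card K * (Fintype.card K ^ 2 - 1))
    (hAO3 : Odd (Fintype.card K) → ∀ t : PSL2 K, orderOf t = 2 →
      (Fintype.card K % 4 = 1 →
        Nat.card (Subgroup.centralizer ({t} : Set (PSL2 K))) = Fintype.card K - 1) ∧
      (Fintype.card K % 4 = 3 →
        Nat.card (Subgroup.centralizer ({t} : Set (PSL2 K))) = Fintype.card K + 1)) : m = 1 := by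
  set q := Fintype.card F with hq
  set q0 := Fintype.card K with hq0
  have hq0odd : Odd q0 := by
    rcases Nat.even_or_odd q0 with h | h
    · exfalso
      have hm0 : m ≠ 0 := by
        rintro rfl
        rw [pow_zero] at hKm
        have : 1 < q := Fintype.one_lt_card
        omega
      have : Even (q0 ^ m) := (Nat.even_pow.mpr ⟨h, hm0⟩)
      rw [hKm] at this
      exact (Nat.not_even_iff_odd.mpr hodd) this
    · exact h
  have hq0ge : 3 ≤ q0 := by
    have h1 : 1 < q0 := Fintype.one_lt_card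
    rcases hq0odd with ⟨k, hk⟩
    omega
  -- `PSL₂(K)` has even order
  have hgcd : Nat.gcd 2 (q0 - 1) = 2 := by
    rcases hq0odd with ⟨k, hk⟩
    have : q0 - 1 = 2 * k := by omega
    rw [this]
    exact Nat.gcd_mul_right_right k 2 ▸ (by simp)
  have heven : 2 ∣ Nat.card (PSL2 K) := by
    rw [hgcd] at hU4
    rcases hq0odd with ⟨k, hk⟩
    have h8 : q0 ^ 2 - 1 = 4 * (k * (k + 1)) := by
      rw [hk]
      have : (2 * k + 1) ^ 2 = 4 * (k * (k + 1)) + 1 := by ring
      omega
    have h2 : 2 ∣ k * (k + 1) := (Nat.even_mul_succ_self k).two_dvd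
    obtain ⟨j, hj⟩ := h2
    rw [h8, hj] at hU4
    have h3 : Nat.card (PSL2 K) = 2 * (q0 * (2 * j)) := by
      have : Nat.card (PSL2 K) * 2 = (2 * (q0 * (2 * j))) * 2 := by rw [hU4]; ring
      exact Nat.eq_of_mul_eq_mul_right (by norm_num) this
    rw [h3]
    exact Dvd.intro _ rfl
  have : Finite (PSL2 K) := by
    apply Nat.finite_of_card_ne_zero
    intro h0
    rw [h0, zero_mul] at hU4
    have : 0 < q0 * (q0 ^ 2 - 1) := by
      apply Nat.mul_pos (by omega)
      have : 9 ≤ q0 ^ 2 := by nlinarith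
      omega
    omega
  obtain ⟨t, ht⟩ := exists_prime_orderOf_dvd_card' (G := PSL2 K) 2 heven
  have h1 := hinv t ht
  have h2 := hAO3 hq0odd t ht
  -- `c ∈ {q0 - 1, q0 + 1}`
  have hc0 : c = q0 - 1 ∨ c = q0 + 1 := by
    rcases hq0odd with ⟨k, hk⟩
    have h4 : q0 % 4 = 1 ∨ q0 % 4 = 3 := by omega
    rcases h4 with h4 | h4
    · left; rw [← h1]; exact h2.1 h4
    · right; rw [← h1]; exact h2.2 h4
  -- so `q ≤ q0 + 2`
  have hle : q ≤ q0 + 2 := by
    rcases hc with h | h <;> rcases hc0 with h' | h' <;> omega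
  by_contra hm1
  have hm0 : m ≠ 0 := by
    rintro rfl
    rw [pow_zero] at hKm
    have : 1 < q := Fintype.one_lt_card
    omega
  have hm2 : 2 ≤ m := by omega
  have hpow : q0 ^ 2 ≤ q0 ^ m := Nat.pow_le_pow_right (by omega) hm2
  rw [hKm] at hpow
  nlinarith

end AOdd

end Cfsg.Agent.Lib.Helper28.BP2
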