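import Mathlib
import Cfsg.Agent.Lib.Helper28.BP2.Defs
import Cfsg.Agent.Lib.Helper24.BP2U4
import Cfsg.Agent.Lib.Helper21.BP2AO3
import Cfsg.Agent.Lib.Helper13.BP2AO7gcore

set_option autoImplicit false

namespace Cfsg.Agent.Lib.Helper28.BP2

open Cfsg.Agent.Lib.helper14

universe u v w

section AOdd

variable {F : Type u} [Field F] [Fintype F]

/-- **AO7g**.  `PSL₂(K)` has an involution (U4, Cauchy) whose centraliser has order `|K| ∓ 1` (AO3):
`|K|^m ∓ 1 = |K| ∓ 1` forces `m = 1`. -/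
theorem subfield_exp_one (hodd : Odd (Fintype.card F)) (K : Type) [Field K] [Fintype K] (m c : ℕ)
    (hKm : Fintype.card K ^ m = Fintype.card F)
    (hc : c = Fintype.card F - 1 ∨ c = Fintype.card F + 1)
    (hinv : ∀ t : PSL2 K, orderOf t = 2 →
      Nat.card (Subgroup.centralizer ({t} : Set (PSL2 K))) = c) : m = 1 :=
  bp2ao7g_core hodd K m c hKm hc hinv card_PSL2 (fun h t ht => card_cent_invol h t ht)

end AOdd

end Cfsg.Agent.Lib.Helper28.BP2
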