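import Mathlib
import Cfsg.Agent.Lib.Helper28.BP2.Defs

set_option autoImplicit false

namespace Cfsg.Agent.Lib.Helper28.BP2

open Cfsg.Agent.Lib.helper14

universe u v w

section StepC

variable {F : Type u} [Field F]

/-- `diag(μ, μ⁻¹)` conjugates `uS α` to `uS (μ² α)`. -/
theorem bp2c2_dg_mul_uS (α : F) (μ : Fˣ) : dg μ * uS α = uS ((μ : F) ^ 2 * α) * dg μ := by
  apply Subtype.ext
  rw [Matrix.SpecialLinearGroup.coe_mul, Matrix.SpecialLinearGroup.coe_mul, dg_coe, uS_coe, uS_coe,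
    Matrix.mul_fin_two, Matrix.mul_fin_two]
  have h : (μ : F) * ((μ⁻¹ : Fˣ) : F) = 1 := by
    rw [← Units.val_mul, mul_inv_cancel, Units.val_one]
  apply m2_congr
  · ring
  · linear_combination (-(μ : F) * α) * h
  · ring
  · ring

theorem bp2c2_conj_uS (α : F) (μ : Fˣ) : dg μ * uS α * (dg μ)⁻¹ = uS ((μ : F) ^ 2 * α) := by
  rw [bp2c2_dg_mul_uS, mul_assoc, mul_inv_cancel, mul_one]

variable [Fintype F]

/-- **C2**.  conjugate by `dg μ`. -/
theorem uS_conj_sq (α : F) (μ : Fˣ) :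
    IsConj (pr F (uS α)) (pr F (uS ((μ : F) ^ 2 * α))) := by
  rw [isConj_iff]
  refine ⟨pr F (dg μ), ?_⟩
  rw [← map_inv, ← map_mul, ← map_mul, bp2c2_conj_uS]

end StepC

end Cfsg.Agent.Lib.Helper28.BP2
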