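import Mathlib
import Cfsg.Agent.Lib.Helper28.BP2.Defs

set_option autoImplicit false

/-!
# BP2 row C9 (`stepC_nine`), second copy by helper13: a core on the statements of C8, C9a, T3, U5, U7, U8, B3.
-/

namespace Cfsg.Agent.Lib.Helper28.BP2

open Cfsg.Agent.Lib.helper14

universe u v w

section StepC

variable {F : Type u} [Field F] [Fintype F]

/-- a field with nine elements has characteristic three. -/
theorem bp2c9_charP (hq : Fintype.card F = 9) : CharP F 3 := by
  have : Fact (ringChar F).Prime := ⟨CharP.char_is_prime F (ringChar F)⟩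
  obtain ⟨n, hn⟩ := FiniteField.card F (ringChar F)
  have hr : (ringChar F).Prime := Fact.out
  have h3 : ringChar F = 3 := by
    have hdvd : ringChar F ∣ 3 ^ 2 := by
      have : ringChar F ∣ Fintype.card F := by
        rw [hn.2]
        exact dvd_pow_self _ n.ne_zero
      rw [hq] at this
      exact this
    have := hr.dvd_of_dvd_pow hdvd
    exact (Nat.prime_dvd_prime_iff_eq hr Nat.prime_three).mp this
  rw [← h3]
  exact ringChar.charP F

/-- a subgroup of order nine of `PB F` (of order `36`) which contains... equals the normal subgroup `PU F` of order nine. -/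
theorem bp2c9_eq_PU {G : Type*} [Group G] [Finite G] (B U K : Subgroup G) (hUB : U ≤ B) (hKB : K ≤ B)
    (hN : B ≤ Subgroup.normalizer (U : Set G)) (hB : Nat.card B = 36) (hU : Nat.card U = 9)
    (hK : Nat.card K = 9) : K = U := by
  have : Fact (Nat.Prime 3) := ⟨Nat.prime_three⟩
  have hpU : IsPGroup 3 U := IsPGroup.of_card (n := 2) (by rw [hU]; norm_num)
  have hpK : IsPGroup 3 K := IsPGroup.of_card (n := 2) (by rw [hK]; norm_num)
  have hsup : IsPGroup 3 (K ⊔ U : Subgroup G) :=
    IsPGroup.to_sup_of_normal_right' hpK hpU (le_trans hKB hN)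
  obtain ⟨n, hn⟩ := hsup.exists_card_eq
  have hle : (K ⊔ U : Subgroup G) ≤ B := sup_le hKB hUB
  have hdvd : Nat.card (K ⊔ U : Subgroup G) ∣ 36 := hB ▸ Subgroup.card_dvd_of_le hle
  have hn2 : n ≤ 2 := by
    by_contra h
    have h3 : 3 ≤ n := by omega
    have h27 : 3 ^ 3 ∣ 3 ^ n := pow_dvd_pow 3 h3
    rw [hn] at hdvd
    have : 27 ∣ 36 := dvd_trans (by norm_num at h27 ⊢; exact h27) hdvd
    omega
  have hcard : Nat.card (K ⊔ U : Subgroup G) ≤ 9 := by
    rw [hn]
    calc 3 ^ n ≤ 3 ^ 2 := Nat.pow_le_pow_right (by norm_num) hn2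
      _ = 9 := by norm_num
  have h1 : K = K ⊔ U :=
    Subgroup.eq_of_le_of_card_ge le_sup_left (by rw [hK]; exact hcard)
  have h2 : U = K ⊔ U :=
    Subgroup.eq_of_le_of_card_ge le_sup_right (by rw [hU]; exact hcard)
  rw [h1, ← h2]

/-- C9 with the statements of C8 (at `p = 3`), C9a, T3, U5, U7, U8, B3 (at `p = 3`) as hypotheses. -/
theorem bp2c9_core (hq : Fintype.card F = 9) (H : Subgroup (PSL2 F)) (hBin : BinS H)
    (hodd : Odd (Nat.card H)) (h3 : 3 ∣ Nat.card H)
    (hC8 : ∀ H' : Subgroup (PSL2 F), Odd (Nat.card H') →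
      (IsCyclic H' ∧ (Nat.card H' ∣ (Fintype.card F + 1) / Nat.gcd 2 (Fintype.card F - 1) ∨
        Nat.card H' ∣ (Fintype.card F - 1) / Nat.gcd 2 (Fintype.card F - 1))) ∨
      ∃ g : PSL2 F, H'.map (MulAut.conj g).toMonoidHom ≤ PB F)
    (hC9a : ∀ H' : Subgroup (PSL2 F), Nat.card H' = 3 → ¬ BinS H')
    (hT3 : ∀ (H' : Subgroup (PSL2 F)) (g : PSL2 F),
      BinS (H'.map (MulAut.conj g).toMonoidHom) ↔ BinS H')
    (hU5 : Nat.card (PU F) = Fintype.card F)
    (hU7 : Subgroup.normalizer ((PU F : Subgroup (PSL2 F)) : Set (PSL2 F)) = PB F)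
    (hU8 : Nat.card (PB F) * Nat.gcd 2 (Fintype.card F - 1) = Fintype.card F * (Fintype.card F - 1))
    (hB3 : ∀ H' : Subgroup (PSL2 F), PU F ≤ H' → H' ≤ PB F → BinS H' → (3 = 2 ∧ H' = PU F)) :
    False := by
  have hfin : Finite (PSL2 F) := inferInstance
  rcases hC8 H hodd with ⟨_, h | h⟩ | ⟨g, hg⟩
  · rw [hq] at h
    have : 3 ∣ 5 := dvd_trans h3 (by simpa using h)
    omega
  · rw [hq] at h
    have : 3 ∣ 4 := dvd_trans h3 (by simpa using h)
    omega
  · set H' : Subgroup (PSL2 F) := H.map (MulAut.conj g).toMonoidHom with hH'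
    have hBin' : BinS H' := (hT3 H g).mpr hBin
    have hcard : Nat.card H' = Nat.card H := by
      rw [hH']
      exact Nat.card_congr ((MulAut.conj g).subgroupMap H).toEquiv.symm
    have hPB : Nat.card (PB F) = 36 := by
      rw [hq] at hU8
      have : Nat.gcd 2 (9 - 1) = 2 := by norm_num
      rw [this] at hU8
      omega
    have hdvd : Nat.card H' ∣ 36 := hPB ▸ Subgroup.card_dvd_of_le hg
    have hodd' : Odd (Nat.card H') := hcard ▸ hodd
    have h3' : 3 ∣ Nat.card H' := hcard ▸ h3
    have hcases : Nat.card H' = 3 ∨ Nat.card H' = 9 := by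
      have hle : Nat.card H' ≤ 36 := Nat.le_of_dvd (by norm_num) hdvd
      generalize Nat.card H' = n at hle hodd' h3' hdvd
      interval_cases n <;> first | omega | (exfalso; revert hodd'; decide)
    rcases hcases with h | h
    · exact hC9a H' h hBin'
    · have hPU : Nat.card (PU F) = 9 := by rw [hU5, hq]
      have hUB : PU F ≤ PB F := by
        rw [← hU7]
        exact Subgroup.le_normalizer
      have heq : H' = PU F :=
        bp2c9_eq_PU (PB F) (PU F) H' hUB hg (by rw [hU7]) hPB hPU h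
      have := (hB3 H' (by rw [heq]) hg hBin').1
      omega

end StepC

end Cfsg.Agent.Lib.Helper28.BP2
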