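import Mathlib
import Cfsg.Agent.Lib.Helper28.BP2.Defs

set_option autoImplicit false

/-!
# BP2 row D8 (`stepD`), second copy by helper13: a core on the statements of D3, D4, D5, D6, D7.
-/

namespace Cfsg.Agent.Lib.Helper28.BP2

open Cfsg.Agent.Lib.helper14

universe u v w

section StepD

variable {F : Type u} [Field F] [Fintype F]

/-- the order of a finite field of odd characteristic is odd. -/
theorem bp2d8_odd_card (p : ℕ) [Fact p.Prime] [CharP F p] (hp : p ≠ 2) : Odd (Fintype.card F) := by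
  obtain ⟨n, hn⟩ := FiniteField.card F p
  rw [hn.2]
  have hp' : p.Prime := Fact.out
  exact (hp'.odd_of_ne_two hp).pow

/-- D8 with the statements of D3–D7 as hypotheses. -/
theorem bp2d8_core (p : ℕ) [Fact p.Prime] [CharP F p] (h4 : 4 ≤ Fintype.card F)
    (h5 : Fintype.card F ≠ 5) (H : Subgroup (PSL2 F)) (hcyc : IsCyclic H)
    (hodd : Odd (Nat.card H)) (hp : ¬ p ∣ Nat.card H) (h1 : H ≠ ⊥) (hBin : BinS H)
    (hD3 : ∀ a u v : PSL2 F, Odd (orderOf a) → ¬ p ∣ orderOf a → a ^ 3 ≠ 1 →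
      a = (u * a * u⁻¹) * (v * a * v⁻¹) → ¬ BinS (Subgroup.zpowers a))
    (hD4 : CharP F 2 → ∀ a : PSL2 F, a ^ 2 ≠ 1 → ∃ u v : PSL2 F, a = (u * a * u⁻¹) * (v * a * v⁻¹))
    (hD5 : p ≠ 2 → 5 ≤ Fintype.card F → ∀ a : PSL2 F, 2 < orderOf a → ¬ p ∣ orderOf a →
      ∃ u v : PSL2 F, a = (u * a * u⁻¹) * (v * a * v⁻¹))
    (hD6 : p ≠ 2 → p ≠ 3 → 7 ≤ Fintype.card F → ∀ H' : Subgroup (PSL2 F), Nat.card H' = 3 → ¬ BinS H')
    (hD7 : CharP F 2 → 3 ∣ Fintype.card F - 1 → ∀ H' : Subgroup (PSL2 F), Nat.card H' = 3 → ¬ BinS H') :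
    p = 2 ∧ Nat.card H = 3 ∧ ¬ 3 ∣ Fintype.card F - 1 := by
  have hpP : p.Prime := Fact.out
  -- a generator
  obtain ⟨g, hg⟩ := hcyc.exists_generator
  set a : PSL2 F := (g : PSL2 F) with ha
  have hHa : H = Subgroup.zpowers a := by
    ext x
    constructor
    · intro hx
      obtain ⟨k, hk⟩ := Subgroup.mem_zpowers_iff.mp (hg ⟨x, hx⟩)
      rw [Subgroup.mem_zpowers_iff]
      refine ⟨k, ?_⟩
      have := congrArg Subtype.val hk
      simpa using this
    · intro hx
      obtain ⟨k, hk⟩ := Subgroup.mem_zpowers_iff.mp hx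
      rw [← hk]
      exact H.zpow_mem g.2 k
  have hord : orderOf a = Nat.card H := by
    rw [hHa, Nat.card_zpowers]
  have haodd : Odd (orderOf a) := hord ▸ hodd
  have hpa : ¬ p ∣ orderOf a := hord ▸ hp
  have ha1 : a ≠ 1 := by
    intro h
    apply h1
    rw [hHa, h, Subgroup.zpowers_one_eq_bot]
  have hord1 : orderOf a ≠ 1 := fun h => ha1 (orderOf_eq_one_iff.mp h)
  have hord3 : 3 ≤ orderOf a := by
    rcases haodd with ⟨k, hk⟩
    have : 0 < orderOf a := by
      rw [hord]
      exact Nat.pos_of_ne_zero (fun h0 => by rw [h0] at hodd; exact (by decide : ¬ Odd 0) hodd)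
    omega
  have hBin' : BinS (Subgroup.zpowers a) := hHa ▸ hBin
  -- the case `a ^ 3 ≠ 1` is impossible
  have h3 : a ^ 3 = 1 := by
    by_contra h3
    have hex : ∃ u v : PSL2 F, a = (u * a * u⁻¹) * (v * a * v⁻¹) := by
      by_cases hp2 : p = 2
      · subst hp2
        apply hD4 inferInstance a
        intro h2
        have hdvd : orderOf a ∣ 2 := orderOf_dvd_of_pow_eq_one h2
        have : orderOf a ≤ 2 := Nat.le_of_dvd (by norm_num) hdvd
        omega
      · have hq : Odd (Fintype.card F) := bp2d8_odd_card p hp2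
        have h5' : 5 ≤ Fintype.card F := by
          rcases hq with ⟨k, hk⟩
          omega
        exact hD5 hp2 h5' a (by omega) hpa
    obtain ⟨u, v, huv⟩ := hex
    exact hD3 a u v haodd hpa h3 huv hBin'
  have hcard3 : Nat.card H = 3 := by
    rw [← hord]
    have hdvd : orderOf a ∣ 3 := orderOf_dvd_of_pow_eq_one h3
    rcases (Nat.dvd_prime Nat.prime_three).mp hdvd with h | h
    · exact absurd h hord1
    · exact h
  have hp2 : p = 2 := by
    by_contra hp2
    have hp3 : p ≠ 3 := by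
      rintro rfl
      apply hp
      rw [hcard3]
    have hq : Odd (Fintype.card F) := bp2d8_odd_card p hp2
    obtain ⟨n, hn⟩ := FiniteField.card F p
    have h7 : 7 ≤ Fintype.card F := by
      by_contra h7
      have h6 : Fintype.card F ≠ 6 := by
        rcases hq with ⟨k, hk⟩
        omega
      have h4' : Fintype.card F ≠ 4 := by
        rcases hq with ⟨k, hk⟩
        omega
      omega
    exact hD6 hp2 hp3 h7 H hcard3 hBin
  refine ⟨hp2, hcard3, ?_⟩
  intro h3dvd
  subst hp2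
  exact hD7 inferInstance h3dvd H hcard3 hBin

end StepD

end Cfsg.Agent.Lib.Helper28.BP2
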