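import Mathlib
import Cfsg.Agent.Lib.Helper28.BP2.Defs

set_option autoImplicit false

/-!
# BP2 row M2 (`main_mp`), second copy by helper13: a core on the statements of
AE2 U11 AO8 C7 T3 G1 B3 C9 C8 U9 U5 D8.
-/

namespace Cfsg.Agent.Lib.Helper28.BP2

open Cfsg.Agent.Lib.helper14

universe u v w

section Main

variable {F : Type u} [Field F] [Fintype F]

/-- conjugation does not change the order of a subgroup. -/
theorem bp2m2_card_conj {G : Type*} [Group G] (H : Subgroup G) (g : G) :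
    Nat.card (H.map (MulAut.conj g).toMonoidHom) = Nat.card H :=
  Nat.card_congr ((MulAut.conj g).subgroupMap H).toEquiv.symm

/-- a conjugate of a proper subgroup is proper. -/
theorem bp2m2_conj_ne_top {G : Type*} [Group G] (H : Subgroup G) (g : G) (hH : H ≠ ⊤) :
    H.map (MulAut.conj g).toMonoidHom ≠ ⊤ := by
  intro h
  apply hH
  rw [eq_top_iff]
  intro x _
  have hx : (MulAut.conj g) x ∈ H.map (MulAut.conj g).toMonoidHom := by rw [h]; trivial
  obtain ⟨y, hy, hyx⟩ := hx
  have : y = x := (MulAut.conj g).injective hyx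
  rwa [this] at hy

/-- a conjugate of a cyclic subgroup is cyclic, and conversely. -/
theorem bp2m2_isCyclic_of_conj {G : Type*} [Group G] (H : Subgroup G) (g : G)
    (h : IsCyclic (H.map (MulAut.conj g).toMonoidHom)) : IsCyclic H := by
  have e : H ≃* H.map (MulAut.conj g).toMonoidHom := (MulAut.conj g).subgroupMap H
  exact isCyclic_of_surjective e.symm.toMonoidHom e.symm.surjective

/-- `3 ∣ 2 ^ a - 1` for even `a`. -/
theorem bp2m2_three_dvd (a : ℕ) (ha : Even a) : 3 ∣ 2 ^ a - 1 := by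
  obtain ⟨k, rfl⟩ := ha
  rw [← two_mul, pow_mul]
  norm_num
  have h : (4 : ℕ) ^ k % 3 = 1 := by
    induction k with
    | zero => rfl
    | succ n ih => rw [pow_succ, Nat.mul_mod, ih]
  have hpos : 1 ≤ 4 ^ k := Nat.one_le_pow _ _ (by norm_num)
  omega

/-- M2 with the statements of the cited rows as hypotheses. -/
theorem bp2m2_core (h4 : 4 ≤ Fintype.card F) (h5 : Fintype.card F ≠ 5) (H : Subgroup (PSL2 F))
    (hH : H ≠ ⊤) (hBin : BinS H)
    (hAE2 : CharP F 2 → ∀ H' : Subgroup (PSL2 F), BinS H' → H' ≠ ⊤ → 2 ∣ Nat.card H' →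
      ∃ P : Sylow 2 (PSL2 F), H' = (P : Subgroup (PSL2 F)))
    (hU11 : CharP F 2 → ∃ a : ℕ, Fintype.card F = 2 ^ a)
    (hAO8 : ∀ (p : ℕ) [Fact p.Prime] [CharP F p], p ≠ 2 → 7 ≤ Fintype.card F →
      ∀ H' : Subgroup (PSL2 F), BinS H' → H' ≠ ⊤ → 2 ∣ Nat.card H' → False)
    (hC7 : ∀ (p : ℕ) [Fact p.Prime] [CharP F p], p ≠ 2 → 7 ≤ Fintype.card F → Fintype.card F ≠ 9 →
      ∀ H' : Subgroup (PSL2 F), BinS H' → p ∣ Nat.card H' →
      ∃ g : PSL2 F, PU F ≤ H'.map (MulAut.conj g).toMonoidHom)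
    (hT3 : ∀ (H' : Subgroup (PSL2 F)) (g : PSL2 F),
      BinS (H'.map (MulAut.conj g).toMonoidHom) ↔ BinS H')
    (hG1 : ∀ H' : Subgroup (PSL2 F), PU F ≤ H' → H' ≠ ⊤ → H' ≤ PB F)
    (hB3 : ∀ (p : ℕ) [Fact p.Prime] [CharP F p] (H' : Subgroup (PSL2 F)), PU F ≤ H' → H' ≤ PB F →
      BinS H' → p = 2 ∧ H' = PU F)
    (hC9 : Fintype.card F = 9 → ∀ H' : Subgroup (PSL2 F), BinS H' → Odd (Nat.card H') →
      3 ∣ Nat.card H' → False)
    (hC8 : ∀ (p : ℕ) [Fact p.Prime] [CharP F p], 4 ≤ Fintype.card F → ∀ H' : Subgroup (PSL2 F),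
      Odd (Nat.card H') →
      (IsCyclic H' ∧ (Nat.card H' ∣ (Fintype.card F + 1) / Nat.gcd 2 (Fintype.card F - 1) ∨
        Nat.card H' ∣ (Fintype.card F - 1) / Nat.gcd 2 (Fintype.card F - 1))) ∨
      ∃ g : PSL2 F, H'.map (MulAut.conj g).toMonoidHom ≤ PB F)
    (hU9 : ∀ K : Subgroup (PSL2 F), K ≤ PB F → K ⊓ PU F = ⊥ → IsCyclic K)
    (hU5 : Nat.card (PU F) = Fintype.card F)
    (hD8 : ∀ (p : ℕ) [Fact p.Prime] [CharP F p], 4 ≤ Fintype.card F → Fintype.card F ≠ 5 →
      ∀ H' : Subgroup (PSL2 F), IsCyclic H' → Odd (Nat.card H') → ¬ p ∣ Nat.card H' → H' ≠ ⊥ →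
      BinS H' → p = 2 ∧ Nat.card H' = 3 ∧ ¬ 3 ∣ Fintype.card F - 1) :
    H = ⊥ ∨ ((∃ a : ℕ, Fintype.card F = 2 ^ a) ∧ ∃ P : Sylow 2 (PSL2 F), H = P) ∨
      ((∃ a : ℕ, Odd a ∧ Fintype.card F = 2 ^ a) ∧ Nat.card H = 3) := by
  -- the characteristic
  have hprime : (ringChar F).Prime := CharP.char_is_prime F (ringChar F)
  have : Fact (ringChar F).Prime := ⟨hprime⟩
  have : CharP F (ringChar F) := ringChar.charP F
  obtain ⟨n, hn⟩ := FiniteField.card F (ringChar F)
  generalize ringChar F = p at *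
  have hq : Fintype.card F = p ^ (n : ℕ) := hn.2
  have hfin : Finite (PSL2 F) := inferInstance
  -- for odd characteristic `q ≥ 7`
  have hq7 : p ≠ 2 → 7 ≤ Fintype.card F := by
    intro hp2
    have hodd : Odd (Fintype.card F) := by
      rw [hq]
      exact (hprime.odd_of_ne_two hp2).pow
    rcases hodd with ⟨k, hk⟩
    omega
  by_cases h2 : 2 ∣ Nat.card H
  · -- even order
    by_cases hp2 : p = 2
    · subst hp2
      right; left
      exact ⟨hU11 inferInstance, hAE2 inferInstance H hBin hH h2⟩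
    · exact (hAO8 p hp2 (hq7 hp2) H hBin hH h2).elim
  · -- odd order
    have hodd : Odd (Nat.card H) := by
      rcases Nat.even_or_odd (Nat.card H) with h | h
      · exact absurd h.two_dvd h2
      · exact h
    by_cases h1 : H = ⊥
    · exact Or.inl h1
    by_cases hpH : p ∣ Nat.card H
    · exfalso
      have hp2 : p ≠ 2 := by
        rintro rfl
        exact h2 hpH
      by_cases h9 : Fintype.card F = 9
      · have hp3 : p = 3 := by
          have hdvd : p ∣ 3 ^ 2 := by
            have : p ∣ Fintype.card F := by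
              rw [hq]
              exact dvd_pow_self _ n.ne_zero
            rw [h9] at this
            exact this
          exact (Nat.prime_dvd_prime_iff_eq hprime Nat.prime_three).mp (hprime.dvd_of_dvd_pow hdvd)
        rw [hp3] at hpH
        exact hC9 h9 H hBin hodd hpH
      · obtain ⟨g, hg⟩ := hC7 p hp2 (hq7 hp2) h9 H hBin hpH
        have hBin' := (hT3 H g).mpr hBin
        have hne := bp2m2_conj_ne_top H g hH
        have hle := hG1 _ hg hne
        exact hp2 (hB3 p _ hg hle hBin').1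
    · -- `p ∤ |H|`
      have hcyc : IsCyclic H := by
        rcases hC8 p h4 H hodd with ⟨hc, _⟩ | ⟨g, hg⟩
        · exact hc
        · apply bp2m2_isCyclic_of_conj H g
          apply hU9 _ hg
          -- the intersection with the `p`-group `PU F` is trivial
          rw [Subgroup.eq_bot_iff_card]
          have hd1 : Nat.card ↥(H.map (MulAut.conj g).toMonoidHom ⊓ PU F) ∣ Nat.card H := by
            rw [← bp2m2_card_conj H g]
            exact Subgroup.card_dvd_of_le inf_le_left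
          have hd2 : Nat.card ↥(H.map (MulAut.conj g).toMonoidHom ⊓ PU F) ∣ p ^ (n : ℕ) := by
            rw [← hq, ← hU5]
            exact Subgroup.card_dvd_of_le inf_le_right
          have hcop : Nat.Coprime (Nat.card H) (p ^ (n : ℕ)) :=
            Nat.Coprime.pow_right _ ((Nat.Prime.coprime_iff_not_dvd hprime).mpr hpH).symm
          exact Nat.eq_one_of_dvd_coprimes hcop hd1 hd2
      obtain ⟨hp2, hc3, h3⟩ := hD8 p h4 h5 H hcyc hodd hpH h1 hBin
      subst hp2
      right; right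
      obtain ⟨a, ha⟩ := hU11 inferInstance
      refine ⟨⟨a, ?_, ha⟩, hc3⟩
      rcases Nat.even_or_odd a with hev | hod
      · exfalso
        apply h3
        rw [ha]
        exact bp2m2_three_dvd a hev
      · exact hod

end Main

end Cfsg.Agent.Lib.Helper28.BP2
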