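import Mathlib
import Cfsg.Agent.Lib.Helper28.BP2.Defs

set_option autoImplicit false

namespace Cfsg.Agent.Lib.Helper28.BP2

open Cfsg.Agent.Lib.helper14

universe u v w

/-- the centraliser of `e t` is the image of the centraliser of `t`. -/
theorem bp2t13_card_centralizer {A : Type u} {B : Type v} [Group A] [Group B] (e : A ≃* B) (t : A) :
    Nat.card (Subgroup.centralizer ({e t} : Set B)) = Nat.card (Subgroup.centralizer ({t} : Set A)) := by
  have hmap : (Subgroup.centralizer ({t} : Set A)).map e.toMonoidHom =
      Subgroup.centralizer ({e t} : Set B) := by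
    ext y
    constructor
    · rintro ⟨x, hx, rfl⟩
      rw [Subgroup.mem_centralizer_singleton_iff]
      have h1 : x * t = t * x := Subgroup.mem_centralizer_singleton_iff.mp hx
      change e x * e t = e t * e x
      rw [← map_mul, ← map_mul, h1]
    · intro hy
      have h1 : y * e t = e t * y := Subgroup.mem_centralizer_singleton_iff.mp hy
      refine ⟨e.symm y, ?_, by simp⟩
      rw [SetLike.mem_coe, Subgroup.mem_centralizer_singleton_iff]
      apply e.injective
      rw [map_mul, map_mul, e.apply_symm_apply]
      exact h1
  rw [← hmap]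
  exact Nat.card_congr (e.subgroupMap (Subgroup.centralizer ({t} : Set A))).toEquiv.symm

/-- **T13**.  the class of involution centralisers is an isomorphism invariant. -/
theorem invCent_of_equiv {A : Type u} {B : Type v} [Group A] [Group B] (e : A ≃* B) (c : ℕ)
    (h : ∀ t : A, orderOf t = 2 → Nat.card (Subgroup.centralizer ({t} : Set A)) = c) :
    ∀ t : B, orderOf t = 2 → Nat.card (Subgroup.centralizer ({t} : Set B)) = c := by
  intro t ht
  have h1 : orderOf (e.symm t) = 2 := by
    rw [MulEquiv.orderOf_eq]; exact ht
  have h2 := bp2t13_card_centralizer e (e.symm t)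
  rw [e.apply_symm_apply] at h2
  rw [h2]
  exact h _ h1

end Cfsg.Agent.Lib.Helper28.BP2
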