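import Mathlib
import Cfsg.Agent.Lib.Helper28.BP2.Defs

set_option autoImplicit false

namespace Cfsg.Agent.Lib.Helper28.BP2

open Cfsg.Agent.Lib.helper14

universe u v w

section Util

variable {F : Type u} [Field F]

/-- **U1**. -/
theorem pr_surjective : Function.Surjective (pr F) :=
  QuotientGroup.mk'_surjective _

end Util

end Cfsg.Agent.Lib.Helper28.BP2
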