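import Mathlib
import Cfsg.Agent.Lib.Helper21.BSQ.Defs
import Cfsg.Agent.Lib.Helper26.BSQA5

/-!
# BSQ row B1 (`decomp`), verbatim vs `Helper21/BSQ/Skel.lean.txt`.

Cites A5 (`exists_sylow_in`, Helper26).  Rows A4 and K1 were not on main when this was written, so their statements are
proved here under the own names `bsqb1_sz` and `bsqb1_abelian`.
-/

set_option autoImplicit false

namespace Cfsg.Agent.Lib.Helper21.BSQ

universe u

variable {G : Type u} [Group G]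

/-- The statement of row A4 (Schur-Zassenhaus inside a subgroup), own name. -/
theorem bsqb1_sz [Finite G] (A S : Subgroup G) (hSA : S ≤ A)
    (hn : ∀ a ∈ A, ∀ s ∈ S, a * s * a⁻¹ ∈ S) {m : ℕ} (hcard : Nat.card ↥A = Nat.card ↥S * m)
    (hcop : (Nat.card ↥S).Coprime m) :
    ∃ H : Subgroup G, H ≤ A ∧ H ⊓ S = ⊥ ∧ Nat.card ↥H = m ∧
      ∀ a ∈ A, ∃ s ∈ S, ∃ h ∈ H, a = s * h := by
  have hnorm : (S.subgroupOf A).Normal := by
    constructor
    intro s hs a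
    rw [Subgroup.mem_subgroupOf] at hs ⊢
    simpa using hn a.1 a.2 s.1 hs
  have hcS : Nat.card ↥(S.subgroupOf A) = Nat.card ↥S :=
    Nat.card_congr (Subgroup.subgroupOfEquivOfLe hSA).toEquiv
  have hpos : 0 < Nat.card ↥S := Nat.card_pos
  have hidx : (S.subgroupOf A).index = m := by
    have h1 := (S.subgroupOf A).card_mul_index
    rw [hcS, hcard] at h1
    exact Nat.eq_of_mul_eq_mul_left hpos h1
  have hcop' : (Nat.card ↥(S.subgroupOf A)).Coprime (S.subgroupOf A).index := by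
    rw [hcS, hidx]; exact hcop
  obtain ⟨K, hK⟩ := Subgroup.exists_right_complement'_of_coprime hcop'
  refine ⟨K.map A.subtype, Subgroup.map_subtype_le K, ?_, ?_, ?_⟩
  · rw [eq_bot_iff]
    rintro x ⟨⟨k, hk, rfl⟩, hxS⟩
    have hkS : k ∈ S.subgroupOf A := by rw [Subgroup.mem_subgroupOf]; exact hxS
    have hdisj := hK.disjoint
    have : k ∈ (S.subgroupOf A) ⊓ K := ⟨hkS, hk⟩
    rw [hdisj.eq_bot, Subgroup.mem_bot] at this
    rw [Subgroup.mem_bot, this]; rfl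
  · have h1 : Nat.card ↥(K.map A.subtype) = Nat.card ↥K :=
      (Nat.card_congr (K.equivMapOfInjective A.subtype A.subtype_injective).toEquiv).symm
    rw [h1, ← hK.symm.index_eq_card, hidx]
  · intro a ha
    have hsurj := hK.2 ⟨a, ha⟩
    obtain ⟨⟨s, k⟩, hsk⟩ := hsurj
    refine ⟨s.1.1, ?_, k.1.1, ⟨k.1, k.2, rfl⟩, ?_⟩
    · have hs2 : s.1 ∈ S.subgroupOf A := s.2
      rw [Subgroup.mem_subgroupOf] at hs2
      exact hs2
    · have := congrArg Subtype.val hsk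
      simpa using this.symm

/-- The statement of row K1, own name. -/
theorem bsqb1_abelian (N H A : Subgroup G) (hHA : H ≤ A)
    (hA : ∀ x ∈ A, ∀ y ∈ A, x * y * x⁻¹ * y⁻¹ ∈ N) (hHN : H ⊓ N = ⊥) : IsMulCommutative ↥H := by
  refine ⟨⟨fun x y => ?_⟩⟩
  have h1 : x.1 * y.1 * x.1⁻¹ * y.1⁻¹ ∈ H ⊓ N :=
    ⟨H.mul_mem (H.mul_mem (H.mul_mem x.2 y.2) (H.inv_mem x.2)) (H.inv_mem y.2),
      hA _ (hHA x.2) _ (hHA y.2)⟩
  rw [hHN, Subgroup.mem_bot] at h1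
  apply Subtype.ext
  have : x.1 * y.1 = x.1 * y.1 * x.1⁻¹ * y.1⁻¹ * y.1 * x.1 := by group
  rw [h1, one_mul] at this
  simpa using this

/-- B1 [M] (cites A4 A5 K1). -/
theorem decomp [Finite G] (p : ℕ) [Fact p.Prime] (N : Subgroup G) [N.Normal]
    (hN : Nat.card ↥N = p) (A : Subgroup G) (hNA : N ≤ A)
    (hA : ∀ x ∈ A, ∀ y ∈ A, x * y * x⁻¹ * y⁻¹ ∈ N) :
    ∃ S H : Subgroup G, N ≤ S ∧ S ≤ A ∧ IsPGroup p ↥S ∧ H ≤ A ∧ IsMulCommutative ↥H ∧
      ¬ p ∣ Nat.card ↥H ∧ Nat.card ↥A = Nat.card ↥S * Nat.card ↥H ∧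
      ∀ a ∈ A, ∃ s ∈ S, ∃ h ∈ H, a = s * h := by
  have hp : p.Prime := Fact.out
  have hNp : IsPGroup p ↥N := IsPGroup.of_card (n := 1) (by rw [hN, pow_one])
  obtain ⟨S, hNS, hSA, hSp, m, hcard, hm⟩ := exists_sylow_in p A N hNA hNp
  have hn : ∀ a ∈ A, ∀ s ∈ S, a * s * a⁻¹ ∈ S := by
    intro a ha s hs
    have h1 : a * s * a⁻¹ * s⁻¹ ∈ S := hNS (hA a ha s (hSA hs))
    have h2 : a * s * a⁻¹ = a * s * a⁻¹ * s⁻¹ * s := by group
    rw [h2]; exact S.mul_mem h1 hs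
  obtain ⟨j, hj⟩ := (IsPGroup.iff_card).mp hSp
  have hcop : (Nat.card ↥S).Coprime m := by
    rw [hj]; exact Nat.Coprime.pow_left j ((Nat.Prime.coprime_iff_not_dvd hp).2 hm)
  obtain ⟨H, hHA, hHS, hHm, hfac⟩ := bsqb1_sz A S hSA hn hcard hcop
  have hHN : H ⊓ N = ⊥ := by
    rw [eq_bot_iff, ← hHS]
    exact inf_le_inf_left H hNS
  refine ⟨S, H, hNS, hSA, hSp, hHA, bsqb1_abelian N H A hHA hA hHN, ?_, ?_, hfac⟩
  · rw [hHm]; exact hm
  · rw [hHm]; exact hcard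

end Cfsg.Agent.Lib.Helper21.BSQ
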