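import Mathlib
import Cfsg.Agent.Lib.Helper21.BSQ.Defs

/-!
# BSQ row B2 (`cent_of_coprime`), verbatim vs `Helper21/BSQ/Skel.lean.txt`.
-/

set_option autoImplicit false

namespace Cfsg.Agent.Lib.Helper21.BSQ

universe u

variable {G : Type u} [Group G]

/-- auxiliary: if `c = h s h⁻¹ s⁻¹` commutes with `h` then `h ^ k * s * h⁻¹ ^ k = c ^ k * s`. -/
theorem bsqb2_pow_conj (h s : G) (hcomm : h * (h * s * h⁻¹ * s⁻¹) = (h * s * h⁻¹ * s⁻¹) * h) (k : ℕ) :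
    h ^ k * s * h⁻¹ ^ k = (h * s * h⁻¹ * s⁻¹) ^ k * s := by
  induction k with
  | zero => simp
  | succ k ih =>
    have hck : h * (h * s * h⁻¹ * s⁻¹) ^ k = (h * s * h⁻¹ * s⁻¹) ^ k * h :=
      (Commute.pow_right (show Commute h (h * s * h⁻¹ * s⁻¹) from hcomm) k).eq
    calc h ^ (k + 1) * s * h⁻¹ ^ (k + 1)
        = h * (h ^ k * s * h⁻¹ ^ k) * h⁻¹ := by
          rw [pow_succ' h k, pow_succ h⁻¹ k]; group
      _ = h * ((h * s * h⁻¹ * s⁻¹) ^ k * s) * h⁻¹ := by rw [ih]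
      _ = (h * (h * s * h⁻¹ * s⁻¹) ^ k) * s * h⁻¹ := by group
      _ = ((h * s * h⁻¹ * s⁻¹) ^ k * h) * s * h⁻¹ := by rw [hck]
      _ = (h * s * h⁻¹ * s⁻¹) ^ k * (h * s * h⁻¹ * s⁻¹) * s := by group
      _ = (h * s * h⁻¹ * s⁻¹) ^ (k + 1) * s := by rw [pow_succ]

set_option linter.unusedVariables false in
/-- B2 [S-M]. -/
theorem cent_of_coprime (p : ℕ) [Fact p.Prime] (N S : Subgroup G) (hNp : IsPGroup p ↥N) (h : G)
    (hfin : IsOfFinOrder h) (hh : ¬ p ∣ orderOf h) (hc : ∀ s ∈ S, h * s * h⁻¹ * s⁻¹ ∈ N)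
    (hhN : ∀ n ∈ N, h * n = n * h) : ∀ s ∈ S, h * s = s * h := by
  intro s hs
  have hcN := hc s hs
  have hcomm := hhN _ hcN
  have hk := bsqb2_pow_conj h s hcomm (orderOf h)
  rw [pow_orderOf_eq_one, inv_pow, pow_orderOf_eq_one, inv_one, one_mul, mul_one] at hk
  have hck : (h * s * h⁻¹ * s⁻¹) ^ orderOf h = 1 := by
    have := hk.symm
    exact mul_eq_right.mp this
  have hdvd : orderOf (h * s * h⁻¹ * s⁻¹) ∣ orderOf h := orderOf_dvd_of_pow_eq_one hck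
  obtain ⟨j, hj⟩ := hNp ⟨_, hcN⟩
  have hj' : (h * s * h⁻¹ * s⁻¹) ^ p ^ j = 1 := by
    have := congrArg Subtype.val hj
    simpa using this
  obtain ⟨i, -, hi⟩ := (Nat.dvd_prime_pow (Fact.out : p.Prime)).mp (orderOf_dvd_of_pow_eq_one hj')
  have hi0 : i = 0 := by
    by_contra hne
    apply hh
    have : p ∣ orderOf (h * s * h⁻¹ * s⁻¹) := by
      rw [hi]; exact dvd_pow_self p hne
    exact this.trans hdvd
  rw [hi0, pow_zero, orderOf_eq_one_iff] at hi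
  have : h * s * h⁻¹ * s⁻¹ * s * h = s * h := by rw [hi, one_mul]
  have h2 : h * s * h⁻¹ * s⁻¹ * s * h = h * s := by group
  rw [← h2, this]

end Cfsg.Agent.Lib.Helper21.BSQ
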