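import Mathlib
import Cfsg.Agent.Lib.helper2.BSWDefs

/-!
# Brauer–Suzuki–Wall, local group theory (piece T1 of helper2's plan for S3282), part A

Basic structure of `H = C(t) = K ∪ K s`.
-/

set_option autoImplicit false

namespace Cfsg.Agent.Lib.Helper13.BSW1

open Cfsg.Agent.Lib.helper2

variable {G : Type*} [Group G] {t s : G} {K : Subgroup G}

theorem mul_self_of_orderOf_two {a : G} (ha : orderOf a = 2) : a * a = 1 := by
  have := pow_orderOf_eq_one a
  rwa [ha, pow_two] at this

theorem inv_of_orderOf_two {a : G} (ha : orderOf a = 2) : a⁻¹ = a :=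
  inv_eq_of_mul_eq_one_left (mul_self_of_orderOf_two ha)

theorem ne_one_of_orderOf_two {a : G} (ha : orderOf a = 2) : a ≠ 1 := by
  rintro rfl
  simp at ha

theorem orderOf_two_of_mul_self {a : G} (h1 : a * a = 1) (h2 : a ≠ 1) : orderOf a = 2 := by
  haveI : Fact (Nat.Prime 2) := ⟨Nat.prime_two⟩
  exact orderOf_eq_prime (by rw [pow_two]; exact h1) h2

theorem bsw_s_mul (h : BswHyp t K s) {k : G} (hk : k ∈ K) : s * k = k⁻¹ * s := by
  have h1 := h.hinv k hk
  have hs := inv_of_orderOf_two h.hs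
  rw [hs] at h1
  have : s * k * s * s = k⁻¹ * s := by rw [h1]
  rwa [mul_assoc (s * k), mul_self_of_orderOf_two h.hs, mul_one] at this

theorem bsw_mul_s_sq (h : BswHyp t K s) {k : G} (hk : k ∈ K) : (k * s) * (k * s) = 1 := by
  rw [mul_assoc k s, ← mul_assoc s k s, bsw_s_mul h hk, mul_assoc k⁻¹ s s,
    mul_self_of_orderOf_two h.hs, mul_one, mul_inv_cancel]

theorem bsw_mul_s_ne_one (h : BswHyp t K s) {k : G} (hk : k ∈ K) : k * s ≠ 1 := by
  intro h1
  apply h.hsK
  have : s = k⁻¹ := eq_inv_of_mul_eq_one_right h1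
  rw [this]
  exact K.inv_mem hk

theorem bsw_mul_s_order (h : BswHyp t K s) {k : G} (hk : k ∈ K) : orderOf (k * s) = 2 :=
  orderOf_two_of_mul_self (bsw_mul_s_sq h hk) (bsw_mul_s_ne_one h hk)

theorem bsw_st (h : BswHyp t K s) : s * t = t * s :=
  Subgroup.mem_centralizer_singleton_iff.mp h.hsH

/-- `K ∪ K s` as a subgroup. -/
def bswH (h : BswHyp t K s) : Subgroup G where
  carrier := {x | x ∈ K ∨ x * s ∈ K}
  one_mem' := Or.inl K.one_mem
  mul_mem' := by
    intro x y hx hy
    have hss := mul_self_of_orderOf_two h.hs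
    rcases hx with hx | hx <;> rcases hy with hy | hy
    · exact Or.inl (K.mul_mem hx hy)
    · right
      rw [mul_assoc]
      exact K.mul_mem hx hy
    · right
      -- x * y * s = (x * s) * (s * y * s)
      have h1 : s * y * s ∈ K := by
        rw [bsw_s_mul h hy, mul_assoc, hss, mul_one]
        exact K.inv_mem hy
      have : x * y * s = (x * s) * (s * y * s) := by
        simp only [mul_assoc]
        rw [← mul_assoc s s, hss, one_mul]
      rw [this]
      exact K.mul_mem hx h1
    · left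
      -- x * y = (x * s) * (s * y), s * y = (y * s)⁻¹
      have h1 : s * y = (y * s)⁻¹ := by
        have h3 : y = (y * s) * s := by rw [mul_assoc, hss, mul_one]
        conv_lhs => rw [h3]
        rw [← mul_assoc, bsw_s_mul h hy, mul_assoc, hss, mul_one]
      have : x * y = (x * s) * (s * y) := by
        rw [mul_assoc x s, ← mul_assoc s s, hss, one_mul]
      rw [this, h1]
      exact K.mul_mem hx (K.inv_mem hy)
  inv_mem' := by
    intro x hx
    rcases hx with hx | hx
    · exact Or.inl (K.inv_mem hx)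
    · right
      have hss := mul_self_of_orderOf_two h.hs
      have h3 : x = (x * s) * s := by rw [mul_assoc, hss, mul_one]
      have h4 : x * x = 1 := by
        have := bsw_mul_s_sq h hx
        rwa [← h3] at this
      have h5 : x⁻¹ = x := inv_eq_of_mul_eq_one_left h4
      rw [h5]
      exact hx

theorem mem_bswH (h : BswHyp t K s) {x : G} : x ∈ bswH h ↔ x ∈ K ∨ x * s ∈ K := Iff.rfl

theorem bswH_eq (h : BswHyp t K s) : bswH h = Subgroup.centralizer ({t} : Set G) := by
  rw [← h.hH]
  apply le_antisymm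
  · intro x hx
    rcases hx with hx | hx
    · exact Subgroup.mem_sup_left hx
    · have hss := mul_self_of_orderOf_two h.hs
      have h3 : x = (x * s) * s := by rw [mul_assoc, hss, mul_one]
      rw [h3]
      exact Subgroup.mul_mem_sup hx (Subgroup.mem_zpowers s)
  · apply sup_le
    · intro x hx
      exact Or.inl hx
    · rw [Subgroup.zpowers_le]
      right
      rw [mul_self_of_orderOf_two h.hs]
      exact K.one_mem

theorem bsw_mem_H (h : BswHyp t K s) {x : G} (hx : x ∈ Subgroup.centralizer ({t} : Set G)) :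
    x ∈ K ∨ ∃ k ∈ K, x = k * s := by
  rw [← bswH_eq h] at hx
  rcases hx with hx | hx
  · exact Or.inl hx
  · right
    refine ⟨x * s, hx, ?_⟩
    rw [mul_assoc, mul_self_of_orderOf_two h.hs, mul_one]

theorem bsw_mul_s_mem_H (h : BswHyp t K s) {k : G} (hk : k ∈ K) :
    k * s ∈ Subgroup.centralizer ({t} : Set G) := by
  rw [← bswH_eq h]
  right
  rw [mul_assoc, mul_self_of_orderOf_two h.hs, mul_one]
  exact hk

theorem bsw_invol_K (h : BswHyp t K s) {k : G} (hk : k ∈ K) (h2 : orderOf k = 2) : k = t := by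
  have h1 : k ∈ K ⊓ Subgroup.centralizer ({s} : Set G) := by
    refine Subgroup.mem_inf.mpr ⟨hk, ?_⟩
    rw [Subgroup.mem_centralizer_singleton_iff]
    have := bsw_s_mul h hk
    rw [inv_of_orderOf_two h2] at this
    exact this.symm
  rw [h.hCK, Subgroup.mem_zpowers_iff] at h1
  obtain ⟨n, hn⟩ := h1
  rcases Int.even_or_odd n with ⟨m, hm⟩ | ⟨m, hm⟩
  · exfalso
    apply ne_one_of_orderOf_two h2
    rw [← hn, hm, ← two_mul, zpow_mul, zpow_ofNat, pow_two, mul_self_of_orderOf_two h.ht, one_zpow]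
  · rw [← hn, hm, zpow_add, zpow_mul, zpow_ofNat, pow_two, mul_self_of_orderOf_two h.ht, one_zpow,
      one_mul, zpow_one]

theorem bsw_odd_mem_K (h : BswHyp t K s) {x : G} (hx : x ∈ Subgroup.centralizer ({t} : Set G))
    (hodd : Odd (orderOf x)) : x ∈ K := by
  rcases bsw_mem_H h hx with hx | ⟨k, hk, rfl⟩
  · exact hx
  · exfalso
    rw [bsw_mul_s_order h hk] at hodd
    exact absurd hodd (by decide)

theorem bsw_cent_le (h : BswHyp t K s) {k : G} (hk : k ∈ K) (hk1 : k ≠ 1) :
    Subgroup.centralizer ({k} : Set G) ≤ Subgroup.centralizer ({t} : Set G) := by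
  intro g hg
  by_contra hgt
  have h1 := h.hTI g hgt
  apply hk1
  have : k ∈ K ⊓ K.map (MulAut.conj g).toMonoidHom := by
    refine Subgroup.mem_inf.mpr ⟨hk, ?_⟩
    rw [Subgroup.mem_map]
    refine ⟨k, hk, ?_⟩
    simp only [MulEquiv.coe_toMonoidHom, MulAut.conj_apply]
    rw [Subgroup.mem_centralizer_singleton_iff] at hg
    rw [hg, mul_assoc, mul_inv_cancel, mul_one]
  rw [h1] at this
  exact Subgroup.mem_bot.mp this

theorem bsw_K_comm (h : BswHyp t K s) {x y : G} (hx : x ∈ K) (hy : y ∈ K) : x * y = y * x := by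
  have h1 := h.hKab
  have := mul_comm' (⟨x, hx⟩ : K) ⟨y, hy⟩
  exact congrArg Subtype.val this

theorem bsw_cent_eq (h : BswHyp t K s) {k : G} (hk : k ∈ K) (hk1 : k ≠ 1) (hkt : k ≠ t) :
    Subgroup.centralizer ({k} : Set G) = K := by
  apply le_antisymm
  · intro g hg
    have hgH := bsw_cent_le h hk hk1 hg
    rcases bsw_mem_H h hgH with hgK | ⟨k', hk', rfl⟩
    · exact hgK
    · exfalso
      rw [Subgroup.mem_centralizer_singleton_iff] at hg
      -- k' s k = k k' s ; s k = k⁻¹ s; so k' k⁻¹ s = k k' s; k⁻¹ = k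
      rw [mul_assoc, bsw_s_mul h hk, ← mul_assoc, ← mul_assoc] at hg
      have h2 : k' * k⁻¹ = k * k' := mul_right_cancel hg
      rw [bsw_K_comm h hk' (K.inv_mem hk)] at h2
      have h3 : k⁻¹ = k := mul_right_cancel h2
      have h4 : k * k = 1 := by
        nth_rewrite 1 [← h3]
        exact inv_mul_cancel k
      exact hkt (bsw_invol_K h hk (orderOf_two_of_mul_self h4 hk1))
  · intro g hg
    rw [Subgroup.mem_centralizer_singleton_iff]
    exact bsw_K_comm h hg hk

theorem bsw_card_H [Finite G] (h : BswHyp t K s) :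
    Nat.card (Subgroup.centralizer ({t} : Set G)) = 2 * Nat.card K := by
  have h1 : K.relIndex (Subgroup.centralizer ({t} : Set G)) = 2 := by
    rw [Subgroup.relIndex_eq_two_iff]
    refine ⟨s, h.hsH, fun b hb => ?_⟩
    rcases bsw_mem_H h hb with hbK | ⟨k, hk, rfl⟩
    · refine Or.inr ⟨hbK, fun hbs => h.hsK ?_⟩
      have : s = b⁻¹ * (b * s) := by rw [inv_mul_cancel_left]
      rw [this]
      exact K.mul_mem (K.inv_mem hbK) hbs
    · refine Or.inl ⟨?_, fun hks => h.hsK ?_⟩
      · rw [mul_assoc, mul_self_of_orderOf_two h.hs, mul_one]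
        exact hk
      · have : s = k⁻¹ * (k * s) := by rw [inv_mul_cancel_left]
        rw [this]
        exact K.mul_mem (K.inv_mem hk) hks
  have h2 := Subgroup.card_mul_index (K.subgroupOf (Subgroup.centralizer ({t} : Set G)))
  rw [← Subgroup.relIndex, h1] at h2
  rw [← h2, Nat.card_congr (Subgroup.subgroupOfEquivOfLe h.hKH).toEquiv, mul_comm]

theorem bsw_even_K [Finite G] (h : BswHyp t K s) : Even (Nat.card K) := by
  have h1 : orderOf (⟨t, h.htK⟩ : K) = 2 := by
    rw [← h.ht]
    exact (Subgroup.orderOf_mk t h.htK)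
  have h2 := orderOf_dvd_natCard (⟨t, h.htK⟩ : K)
  rw [h1] at h2
  exact even_iff_two_dvd.mpr h2

end Cfsg.Agent.Lib.Helper13.BSW1
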