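import Mathlib
import Cfsg.Agent.Lib.helper2.BSWDefs
import Cfsg.Agent.Lib.Helper13.BSW1A

/-!
# Brauer–Suzuki–Wall, local group theory (piece T1 of helper2's plan for S3282), part B

Conjugates of `K`, elements of even order, counting involutions and the set `In`.
-/

set_option autoImplicit false

namespace Cfsg.Agent.Lib.Helper13.BSW1

open Cfsg.Agent.Lib.helper2

variable {G : Type*} [Group G] {t s : G} {K : Subgroup G}

theorem orderOf_conj_eq (g x : G) : orderOf (g * x * g⁻¹) = orderOf x := by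
  have := orderOf_injective (MulAut.conj g).toMonoidHom (MulAut.conj g).injective x
  simpa only [MulEquiv.coe_toMonoidHom, MulAut.conj_apply] using this

theorem orderOf_conj_eq' (g x : G) : orderOf (g⁻¹ * x * g) = orderOf x := by
  have := orderOf_conj_eq g⁻¹ x
  rwa [inv_inv] at this

/-- `H = C(t)` normalizes `K`. -/
theorem bsw_H_conj_mem (h : BswHyp t K s) {c k : G} (hc : c ∈ Subgroup.centralizer ({t} : Set G))
    (hk : k ∈ K) : c * k * c⁻¹ ∈ K := by
  rcases bsw_mem_H h hc with hcK | ⟨k', hk', rfl⟩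
  · exact K.mul_mem (K.mul_mem hcK hk) (K.inv_mem hcK)
  · have : k' * s * k * (k' * s)⁻¹ = k' * (s * k * s⁻¹) * k'⁻¹ := by
      rw [mul_inv_rev]; simp only [mul_assoc]
    rw [this, h.hinv k hk]
    exact K.mul_mem (K.mul_mem hk' (K.inv_mem hk)) (K.inv_mem hk')

theorem bsw_H_conj_mem' (h : BswHyp t K s) {c k : G} (hc : c ∈ Subgroup.centralizer ({t} : Set G))
    (hk : k ∈ K) : c⁻¹ * k * c ∈ K := by
  have := bsw_H_conj_mem h (Subgroup.inv_mem _ hc) hk
  rwa [inv_inv] at this

/-- if `K` meets `g K g⁻¹` nontrivially then `g ∈ H`. -/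
theorem bsw_mem_H_of_meet (h : BswHyp t K s) {g k : G} (hk : k ∈ K) (hk1 : k ≠ 1)
    (hgk : g * k * g⁻¹ ∈ K) : g ∈ Subgroup.centralizer ({t} : Set G) := by
  by_contra hgt
  have h1 := h.hTI g hgt
  have : g * k * g⁻¹ ∈ K ⊓ K.map (MulAut.conj g).toMonoidHom := by
    refine Subgroup.mem_inf.mpr ⟨hgk, ?_⟩
    rw [Subgroup.mem_map]
    exact ⟨k, hk, by simp only [MulEquiv.coe_toMonoidHom, MulAut.conj_apply]⟩
  rw [h1, Subgroup.mem_bot] at this
  apply hk1
  have h2 : g⁻¹ * (g * k * g⁻¹) * g = k := by group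
  rw [← h2, this]
  group

/-- an element commuting with an involution lies in a conjugate of `K` -/
theorem bsw_in_of_comm_invol (h : BswHyp t K s) {z x : G} (hz : orderOf z = 2)
    (hxz : x * z = z * x) : ¬ bswOut K x := by
  obtain ⟨c, hc⟩ := isConj_iff.mp (h.hconj t z h.ht hz)
  have h1 : c⁻¹ * x * c ∈ Subgroup.centralizer ({t} : Set G) := by
    rw [Subgroup.mem_centralizer_singleton_iff]
    have ht : t = c⁻¹ * z * c := by rw [← hc]; group
    rw [ht]
    have : c⁻¹ * x * c * (c⁻¹ * z * c) = c⁻¹ * (x * z) * c := by group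
    rw [this, hxz]
    group
  intro hout
  rcases bsw_mem_H h h1 with h2 | ⟨k, hk, h2⟩
  · apply hout c⁻¹
    rwa [inv_inv]
  · obtain ⟨d, hd⟩ := isConj_iff.mp (h.hconj (k * s) t (bsw_mul_s_order h hk) h.ht)
    apply hout (d * c⁻¹)
    have : d * c⁻¹ * x * (d * c⁻¹)⁻¹ = d * (c⁻¹ * x * c) * d⁻¹ := by group
    rw [this, h2, hd]
    exact h.htK

theorem bsw_out_odd [Finite G] (h : BswHyp t K s) {x : G} (hx : bswOut K x) :
    Odd (orderOf x) := by
  by_contra hodd
  rw [Nat.not_odd_iff_even] at hodd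
  obtain ⟨m, hm⟩ := hodd
  have hpos : 0 < orderOf x := orderOf_pos x
  have hm0 : m ≠ 0 := by omega
  have hz : orderOf (x ^ m) = 2 := by
    rw [orderOf_pow_of_dvd hm0 ⟨2, by omega⟩, hm]
    have : m + m = 2 * m := by ring
    rw [this, Nat.mul_div_cancel _ (Nat.pos_of_ne_zero hm0)]
  refine bsw_in_of_comm_invol h hz ?_ hx
  rw [← pow_succ', ← pow_succ]

theorem bswOut_ne_one {x : G} (hx : bswOut K x) : x ≠ 1 := by
  rintro rfl
  apply hx 1
  simp only [mul_one, inv_one]
  exact K.one_mem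

/-- the chosen conjugating element for an involution -/
noncomputable def bswC (h : BswHyp t K s) (a : {a : G // orderOf a = 2}) : G :=
  Classical.choose (isConj_iff.mp (h.hconj t a.1 h.ht a.2))

theorem bswC_spec (h : BswHyp t K s) (a : {a : G // orderOf a = 2}) :
    bswC h a * t * (bswC h a)⁻¹ = a.1 :=
  Classical.choose_spec (isConj_iff.mp (h.hconj t a.1 h.ht a.2))

theorem bsw_card_invol [Finite G] (h : BswHyp t K s) :
    Nat.card {a : G // orderOf a = 2} * (2 * Nat.card K) = Nat.card G := by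
  rw [← bsw_card_H h]
  have h1 : (MulAction.orbit (ConjAct G) t) = {a : G | orderOf a = 2} := by
    ext a
    rw [ConjAct.mem_orbit_conjAct, Set.mem_ofPred_eq]
    constructor
    · intro hc
      obtain ⟨c, hc⟩ := isConj_iff.mp hc
      rw [← h.ht, ← hc, orderOf_conj_eq]
    · intro ha
      exact h.hconj a t ha h.ht
  have h2 : Nat.card {a : G // orderOf a = 2} = (MulAction.stabilizer (ConjAct G) t).index := by
    rw [MulAction.index_stabilizer, h1]
    exact Nat.card_coe_set_eq _
  have h3 : Nat.card (Subgroup.centralizer ({t} : Set G)) =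
      Nat.card (MulAction.stabilizer (ConjAct G) t) := by
    apply Nat.card_congr
    refine Equiv.subtypeEquiv ConjAct.toConjAct.toEquiv (fun x => ?_)
    rw [Subgroup.mem_centralizer_singleton_iff, MulAction.mem_stabilizer_iff]
    change x * t = t * x ↔ x * t * x⁻¹ = t
    constructor
    · intro hx
      rw [hx, mul_assoc, mul_inv_cancel, mul_one]
    · intro hx
      conv_rhs => rw [← hx]
      group
  rw [h2, h3, mul_comm, Subgroup.card_mul_index]
  rfl

end Cfsg.Agent.Lib.Helper13.BSW1
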