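import Mathlib
import Cfsg.Agent.Lib.helper2.BSWDefs
import Cfsg.Agent.Lib.Helper13.BSW1B

/-!
# Brauer–Suzuki–Wall, local group theory (piece T1 of helper2's plan for S3282), part C

Counting the union of the conjugates of `K`; products of two involutions.
-/

set_option autoImplicit false

namespace Cfsg.Agent.Lib.Helper13.BSW1

open Cfsg.Agent.Lib.helper2

variable {G : Type*} [Group G] {t s : G} {K : Subgroup G}

/-- the parametrisation of the nonidentity elements of the conjugates of `K` -/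
noncomputable def bswF (h : BswHyp t K s)
    (p : {a : G // orderOf a = 2} × {k : G // k ∈ K ∧ k ≠ 1}) : G :=
  bswC h p.1 * p.2.1 * (bswC h p.1)⁻¹

theorem bswF_injective (h : BswHyp t K s) : Function.Injective (bswF h) := by
  rintro ⟨a, k, hk, hk1⟩ ⟨b, k', hk', hk1'⟩ hab
  simp only [bswF] at hab
  -- g := c_a⁻¹ c_b
  have h1 : (bswC h a)⁻¹ * bswC h b * k' * ((bswC h a)⁻¹ * bswC h b)⁻¹ = k := by
    have : (bswC h a)⁻¹ * bswC h b * k' * ((bswC h a)⁻¹ * bswC h b)⁻¹ =
        (bswC h a)⁻¹ * (bswC h b * k' * (bswC h b)⁻¹) * bswC h a := by group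
    rw [this, ← hab]
    group
  have h2 : (bswC h a)⁻¹ * bswC h b ∈ Subgroup.centralizer ({t} : Set G) :=
    bsw_mem_H_of_meet h hk' hk1' (h1 ▸ hk)
  have h3 : a = b := by
    apply Subtype.ext
    rw [← bswC_spec h a, ← bswC_spec h b]
    rw [Subgroup.mem_centralizer_singleton_iff] at h2
    have : bswC h b * t * (bswC h b)⁻¹ =
        bswC h a * ((bswC h a)⁻¹ * bswC h b * t) * (bswC h b)⁻¹ := by group
    rw [this, h2]
    group
  subst h3
  have h4 : k = k' := by
    have := congrArg (fun y => (bswC h a)⁻¹ * y * bswC h a) hab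
    beta_reduce at this
    have e1 : ∀ y : G, (bswC h a)⁻¹ * (bswC h a * y * (bswC h a)⁻¹) * bswC h a = y := by
      intro y; group
    rwa [e1, e1] at this
  subst h4
  rfl

theorem bswF_range (h : BswHyp t K s) :
    Set.range (bswF h) = {x : G | ¬ bswOut K x} \ {1} := by
  ext x
  simp only [Set.mem_range, Set.mem_sdiff, Set.mem_ofPred_eq, Set.mem_singleton_iff, bswOut,
    not_forall, not_not]
  constructor
  · rintro ⟨⟨a, k, hk, hk1⟩, rfl⟩
    simp only [bswF]
    refine ⟨⟨(bswC h a)⁻¹, ?_⟩, ?_⟩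
    · have : (bswC h a)⁻¹ * (bswC h a * k * (bswC h a)⁻¹) * (bswC h a)⁻¹⁻¹ = k := by group
      rw [this]
      exact hk
    · intro h1
      apply hk1
      have : k = (bswC h a)⁻¹ * (bswC h a * k * (bswC h a)⁻¹) * bswC h a := by group
      rw [this, h1]
      group
  · rintro ⟨⟨g, hg⟩, hx1⟩
    have ha : orderOf (g⁻¹ * t * g) = 2 := by rw [orderOf_conj_eq', h.ht]
    set c := bswC h ⟨g⁻¹ * t * g, ha⟩ with hc
    have hcs : c * t * c⁻¹ = g⁻¹ * t * g := bswC_spec h ⟨g⁻¹ * t * g, ha⟩
    have hgc : g * c ∈ Subgroup.centralizer ({t} : Set G) := by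
      rw [Subgroup.mem_centralizer_singleton_iff]
      have : g * c * t = g * (c * t * c⁻¹) * c := by group
      rw [this, hcs]
      group
    have hk : c⁻¹ * x * c ∈ K := by
      have := bsw_H_conj_mem' h hgc hg
      have e : (g * c)⁻¹ * (g * x * g⁻¹) * (g * c) = c⁻¹ * x * c := by group
      rwa [e] at this
    have hk1 : c⁻¹ * x * c ≠ 1 := by
      intro h1
      apply hx1
      have : x = c * (c⁻¹ * x * c) * c⁻¹ := by group
      rw [this, h1]
      group
    refine ⟨⟨⟨g⁻¹ * t * g, ha⟩, ⟨c⁻¹ * x * c, hk, hk1⟩⟩, ?_⟩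
    simp only [bswF]
    rw [← hc]
    group

theorem card_ne_one_subgroup [Finite G] (K : Subgroup G) :
    Nat.card {k : G // k ∈ K ∧ k ≠ 1} = Nat.card K - 1 := by
  have h1 : {k : G | k ∈ K ∧ k ≠ 1} = (K : Set G) \ {1} := by
    ext k
    simp
  have h2 : Nat.card {k : G // k ∈ K ∧ k ≠ 1} = Set.ncard {k : G | k ∈ K ∧ k ≠ 1} :=
    Nat.card_coe_set_eq _
  rw [h2, h1, Set.ncard_sdiff_singleton_of_mem (K.one_mem)]
  congr 1

theorem bsw_card_in [Finite G] (h : BswHyp t K s) :
    Nat.card {x : G // ¬ bswOut K x} =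
      1 + Nat.card {a : G // orderOf a = 2} * (Nat.card K - 1) := by
  have h1 : Nat.card {x : G // ¬ bswOut K x} = Set.ncard {x : G | ¬ bswOut K x} :=
    Nat.card_coe_set_eq _
  have h2 : (1 : G) ∈ {x : G | ¬ bswOut K x} := by
    simp only [Set.mem_ofPred_eq]
    intro h3
    exact bswOut_ne_one h3 rfl
  have h3 := Set.ncard_sdiff_singleton_add_one h2
  rw [h1, ← h3, ← bswF_range h, ← Set.image_univ, Set.ncard_image_of_injective _ (bswF_injective h),
    Set.ncard_univ, Nat.card_prod, card_ne_one_subgroup, add_comm]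

theorem inverts_of_mul {a b x : G} (ha : orderOf a = 2) (hb : orderOf b = 2) (hab : a * b = x) :
    a * x * a⁻¹ = x⁻¹ := by
  subst hab
  rw [mul_inv_rev, inv_of_orderOf_two ha, inv_of_orderOf_two hb, ← mul_assoc,
    mul_self_of_orderOf_two ha, one_mul]

theorem bsw_beta_pos_iff [Finite G] {x : G} (hx : Odd (orderOf x)) (hx1 : x ≠ 1) :
    bswBeta x ≠ 0 ↔ ∃ a : G, orderOf a = 2 ∧ a * x * a⁻¹ = x⁻¹ := by
  unfold bswBeta
  rw [Nat.card_ne_zero]
  constructor
  · rintro ⟨⟨⟨⟨a, b⟩, ha, hb, hab⟩⟩, -⟩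
    exact ⟨a, ha, inverts_of_mul ha hb hab⟩
  · rintro ⟨a, ha, hax⟩
    refine ⟨⟨⟨(a, a * x), ha, ?_, ?_⟩⟩, inferInstance⟩
    · apply orderOf_two_of_mul_self
      · have : a * x * (a * x) = (a * x * a⁻¹) * (a * a) * x := by group
        rw [this, hax, mul_self_of_orderOf_two ha, mul_one, inv_mul_cancel]
      · intro h1
        simp only at h1
        have h2 : x = a := by
          have : x = a⁻¹ * (a * x) := by group
          rw [this, h1, mul_one, inv_of_orderOf_two ha]
        rw [h2, ha] at hx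
        exact absurd hx (by decide)
    · simp only
      rw [← mul_assoc, mul_self_of_orderOf_two ha, one_mul]

theorem bsw_beta_K [Finite G] (h : BswHyp t K s) {x : G} (hx : x ∈ K) (hx1 : x ≠ 1) :
    bswBeta x = Nat.card K := by
  unfold bswBeta
  have key : ∀ k : G, k ∈ K → k * s * x = (k * x⁻¹) * s := by
    intro k _
    rw [mul_assoc, bsw_s_mul h hx, mul_assoc]
  let f : K → {p : G × G // orderOf p.1 = 2 ∧ orderOf p.2 = 2 ∧ p.1 * p.2 = x} := fun k =>
    ⟨(k.1 * s, k.1 * s * x), bsw_mul_s_order h k.2, by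
      simp only
      rw [key k.1 k.2]
      exact bsw_mul_s_order h (K.mul_mem k.2 (K.inv_mem hx)), by
      simp only
      rw [← mul_assoc, bsw_mul_s_sq h k.2, one_mul]⟩
  have hf : Function.Bijective f := by
    constructor
    · intro k k' hkk
      have h1 := congrArg (fun p => p.1.1) hkk
      simp only [f] at h1
      exact Subtype.ext (mul_right_cancel h1)
    · rintro ⟨⟨a, b⟩, ha, hb, hab⟩
      simp only at ha hb hab
      have hinv := inverts_of_mul ha hb hab
      have haH : a ∈ Subgroup.centralizer ({t} : Set G) :=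
        bsw_mem_H_of_meet h hx hx1 (hinv ▸ K.inv_mem hx)
      have hb' : b = a * x := by
        rw [← hab, ← mul_assoc, mul_self_of_orderOf_two ha, one_mul]
      rcases bsw_mem_H h haH with haK | ⟨k, hk, rfl⟩
      · exfalso
        have hat := bsw_invol_K h haK ha
        have hbK : b ∈ K := by
          rw [hb']
          exact K.mul_mem haK hx
        have hbt := bsw_invol_K h hbK hb
        apply hx1
        rw [← hab, hat, hbt, mul_self_of_orderOf_two h.ht]
      · refine ⟨⟨k, hk⟩, ?_⟩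
        apply Subtype.ext
        simp only [f]
        rw [hb']
  exact (Nat.card_congr (Equiv.ofBijective f hf)).symm

end Cfsg.Agent.Lib.Helper13.BSW1
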