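import Mathlib
import Cfsg.Agent.Lib.helper2.BSWDefs
import Cfsg.Agent.Lib.Helper13.BSW1C

/-!
# Brauer–Suzuki–Wall, local group theory (piece T1 of helper2's plan for S3282), part D

Normalizers of the nontrivial subgroups of the conjugates of `K`.
-/

set_option autoImplicit false

namespace Cfsg.Agent.Lib.Helper13.BSW1

open Cfsg.Agent.Lib.helper2

variable {G : Type*} [Group G] {t s : G} {K : Subgroup G}

theorem bsw_H_conj_eq (h : BswHyp t K s) {c k : G} (hc : c ∈ Subgroup.centralizer ({t} : Set G))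
    (hk : k ∈ K) : c * k * c⁻¹ = k ∨ c * k * c⁻¹ = k⁻¹ := by
  rcases bsw_mem_H h hc with hcK | ⟨k', hk', rfl⟩
  · left
    rw [bsw_K_comm h hcK hk, mul_assoc, mul_inv_cancel, mul_one]
  · right
    have : k' * s * k * (k' * s)⁻¹ = k' * (s * k * s⁻¹) * k'⁻¹ := by
      rw [mul_inv_rev]; simp only [mul_assoc]
    rw [this, h.hinv k hk, bsw_K_comm h hk' (K.inv_mem hk), mul_assoc, mul_inv_cancel, mul_one]

theorem bsw_normalizer_eq (h : BswHyp t K s) {X : Subgroup G} (hX : X ≤ K) (hX1 : X ≠ ⊥) :
    Subgroup.normalizer (X : Set G) = Subgroup.centralizer ({t} : Set G) := by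
  apply le_antisymm
  · intro n hn
    rcases X.bot_or_exists_ne_one with hb | ⟨y, hy, hy1⟩
    · exact absurd hb hX1
    · rw [Subgroup.mem_normalizer_iff] at hn
      exact bsw_mem_H_of_meet h (hX hy) hy1 (hX ((hn y).mp hy))
  · intro c hc
    rw [Subgroup.mem_normalizer_iff]
    intro y
    constructor
    · intro hy
      rcases bsw_H_conj_eq h hc (hX hy) with e | e
      · rw [e]; exact hy
      · rw [e]; exact X.inv_mem hy
    · intro hy
      have hc' := Subgroup.inv_mem _ hc
      have e0 : y = c⁻¹ * (c * y * c⁻¹) * c⁻¹⁻¹ := by group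
      rcases bsw_H_conj_eq h hc' (hX hy) with e | e
      · rw [e0, e]; exact hy
      · rw [e0, e]; exact X.inv_mem hy

theorem bsw_normalizer_K (h : BswHyp t K s) :
    Subgroup.normalizer (K : Set G) = Subgroup.centralizer ({t} : Set G) := by
  apply bsw_normalizer_eq h le_rfl
  intro hb
  have := h.htK
  rw [hb, Subgroup.mem_bot] at this
  exact ne_one_of_orderOf_two h.ht this

/-- conjugates of `K` have the normalizer property required of `D` -/
theorem bsw_conjK [Finite G] (h : BswHyp t K s) (g : G) :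
    IsMulCommutative ↥(K.map (MulAut.conj g).toMonoidHom) ∧
    Nat.card ↥(K.map (MulAut.conj g).toMonoidHom) = Nat.card K ∧
    ∀ X : Subgroup G, X ≤ K.map (MulAut.conj g).toMonoidHom → X ≠ ⊥ →
      Subgroup.normalizer (X : Set G) =
        Subgroup.normalizer ((K.map (MulAut.conj g).toMonoidHom : Subgroup G) : Set G) ∧
      ∃ u : G, orderOf u = 2 ∧ u ∉ K.map (MulAut.conj g).toMonoidHom ∧
        (∀ d ∈ K.map (MulAut.conj g).toMonoidHom, u * d * u⁻¹ = d⁻¹) ∧
        Subgroup.normalizer ((K.map (MulAut.conj g).toMonoidHom : Subgroup G) : Set G) =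
          K.map (MulAut.conj g).toMonoidHom ⊔ Subgroup.zpowers u := by
  have hKab := h.hKab
  refine ⟨inferInstance, Subgroup.card_map_of_injective (MulAut.conj g).injective, ?_⟩
  intro X hX hX1
  have hNK : Subgroup.normalizer ((K.map (MulAut.conj g).toMonoidHom : Subgroup G) : Set G) =
      (Subgroup.centralizer ({t} : Set G)).map (MulAut.conj g).toMonoidHom := by
    rw [← Subgroup.map_equiv_normalizer_eq, bsw_normalizer_K h]
  constructor
  · rw [hNK]
    have hX' : X = (X.comap (MulAut.conj g).toMonoidHom).map (MulAut.conj g).toMonoidHom :=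
      (Subgroup.map_comap_eq_self_of_surjective (MulAut.conj g).surjective X).symm
    have h1 : X.comap (MulAut.conj g).toMonoidHom ≤ K := by
      intro y hy
      rw [Subgroup.mem_comap] at hy
      have := hX hy
      rw [Subgroup.mem_map] at this
      obtain ⟨k, hk, hky⟩ := this
      rw [← (MulAut.conj g).injective hky]
      exact hk
    have h2 : X.comap (MulAut.conj g).toMonoidHom ≠ ⊥ := by
      intro hb
      apply hX1
      rw [hX', hb, Subgroup.map_bot]
    conv_lhs => rw [hX']
    rw [← Subgroup.map_equiv_normalizer_eq, bsw_normalizer_eq h h1 h2]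
  · refine ⟨g * s * g⁻¹, ?_, ?_, ?_, ?_⟩
    · rw [orderOf_conj_eq, h.hs]
    · intro hmem
      rw [Subgroup.mem_map] at hmem
      obtain ⟨k, hk, hks⟩ := hmem
      simp only [MulEquiv.coe_toMonoidHom, MulAut.conj_apply] at hks
      apply h.hsK
      have : s = g⁻¹ * (g * s * g⁻¹) * g := by group
      rw [this, ← hks]
      have : g⁻¹ * (g * k * g⁻¹) * g = k := by group
      rw [this]
      exact hk
    · intro d hd
      rw [Subgroup.mem_map] at hd
      obtain ⟨k, hk, rfl⟩ := hd
      simp only [MulEquiv.coe_toMonoidHom, MulAut.conj_apply]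
      have : g * s * g⁻¹ * (g * k * g⁻¹) * (g * s * g⁻¹)⁻¹ = g * (s * k * s⁻¹) * g⁻¹ := by group
      rw [this, h.hinv k hk]
      group
    · rw [hNK, ← h.hH, Subgroup.map_sup, MonoidHom.map_zpowers]
      rfl

end Cfsg.Agent.Lib.Helper13.BSW1
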