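import Mathlib
import Cfsg.Agent.Lib.helper2.BSWDefs
import Cfsg.Agent.Lib.Helper13.BSW1C

/-!
# Brauer–Suzuki–Wall, local group theory (piece T1 of helper2's plan for S3282), part E

General lemmas: fixed-point-free involutions invert; semiregular conjugation actions.
-/

set_option autoImplicit false

namespace Cfsg.Agent.Lib.Helper13.BSW1

open Cfsg.Agent.Lib.helper2

variable {G : Type*} [Group G]

/-- An involution normalizing a finite subgroup `Q` and centralizing no nonidentity element of it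
inverts `Q`. -/
theorem inverts_of_fixedPointFree [Finite G] (Q : Subgroup G) {a : G} (ha : a * a = 1)
    (hnorm : ∀ q ∈ Q, a * q * a⁻¹ ∈ Q) (hfpf : ∀ q ∈ Q, q * a = a * q → q = 1) :
    ∀ q ∈ Q, a * q * a⁻¹ = q⁻¹ := by
  have hainv : a⁻¹ = a := inv_eq_of_mul_eq_one_left ha
  let φ : Q → Q := fun q => ⟨q.1⁻¹ * (a * q.1 * a⁻¹), Q.mul_mem (Q.inv_mem q.2) (hnorm q.1 q.2)⟩
  have hinj : Function.Injective φ := by
    intro q r hqr
    have h1 : q.1⁻¹ * (a * q.1 * a⁻¹) = r.1⁻¹ * (a * r.1 * a⁻¹) := congrArg Subtype.val hqr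
    have h2 : (r.1 * q.1⁻¹) * a = a * (r.1 * q.1⁻¹) := by
      have e1 : r.1 * q.1⁻¹ = (a * r.1 * a⁻¹) * (a * q.1 * a⁻¹)⁻¹ := by
        have : r.1 * q.1⁻¹ = r.1 * (q.1⁻¹ * (a * q.1 * a⁻¹)) * (a * q.1 * a⁻¹)⁻¹ := by group
        rw [this, h1]
        group
      have e2 : (a * r.1 * a⁻¹) * (a * q.1 * a⁻¹)⁻¹ = a * (r.1 * q.1⁻¹) * a⁻¹ := by group
      rw [e2] at e1
      conv_lhs => rw [e1]
      group
    have h3 := hfpf _ (Q.mul_mem r.2 (Q.inv_mem q.2)) h2
    apply Subtype.ext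
    have : r.1 = q.1 := by
      have := mul_inv_eq_one.mp h3
      exact this
    exact this.symm
  have hsurj : Function.Surjective φ := Finite.injective_iff_surjective.mp hinj
  intro y hy
  obtain ⟨q, hq⟩ := hsurj ⟨y, hy⟩
  have h1 : y = q.1⁻¹ * (a * q.1 * a⁻¹) := (congrArg Subtype.val hq).symm
  rw [h1, hainv]
  rw [mul_inv_rev, mul_inv_rev, mul_inv_rev, inv_inv, hainv]
  simp only [mul_assoc]
  rw [ha, mul_one]

theorem comm_of_inverts (Q : Subgroup G) {a : G} (hinv : ∀ q ∈ Q, a * q * a⁻¹ = q⁻¹) :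
    ∀ y ∈ Q, ∀ z ∈ Q, y * z = z * y := by
  intro y hy z hz
  have h1 := hinv (y * z) (Q.mul_mem hy hz)
  have h2 : a * (y * z) * a⁻¹ = (a * y * a⁻¹) * (a * z * a⁻¹) := by group
  rw [h2, hinv y hy, hinv z hz, mul_inv_rev] at h1
  have h3 := congrArg (fun w => w⁻¹) h1
  simp only [mul_inv_rev, inv_inv] at h3
  exact h3.symm

/-- A subgroup `L` acting by conjugation semiregularly on the nonidentity elements of `Q`. -/
theorem card_dvd_of_semiregular_conj [Finite G] (L Q : Subgroup G)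
    (hnorm : ∀ l ∈ L, ∀ q ∈ Q, l * q * l⁻¹ ∈ Q)
    (hfree : ∀ l ∈ L, ∀ q ∈ Q, q ≠ 1 → l * q = q * l → l = 1) :
    Nat.card L ∣ Nat.card Q - 1 := by
  let _ : MulAction L {q : G // q ∈ Q ∧ q ≠ 1} :=
    { smul := fun l q => ⟨l.1 * q.1 * l.1⁻¹, hnorm l.1 l.2 q.1 q.2.1, by
        intro h1
        apply q.2.2
        have : q.1 = l.1⁻¹ * (l.1 * q.1 * l.1⁻¹) * l.1 := by group
        rw [this, h1]
        group⟩
      one_smul := by
        intro q
        apply Subtype.ext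
        change (1 : L).1 * q.1 * (1 : L).1⁻¹ = q.1
        simp
      mul_smul := by
        intro l l' q
        apply Subtype.ext
        change (l * l').1 * q.1 * (l * l').1⁻¹ = l.1 * (l'.1 * q.1 * l'.1⁻¹) * l.1⁻¹
        simp only [Subgroup.coe_mul, mul_inv_rev, mul_assoc] }
  have hstab : ∀ q : {q : G // q ∈ Q ∧ q ≠ 1}, MulAction.stabilizer L q = ⊥ := by
    intro q
    rw [Subgroup.eq_bot_iff_forall]
    intro l hl
    rw [MulAction.mem_stabilizer_iff] at hl
    have h1 : l.1 * q.1 * l.1⁻¹ = q.1 := congrArg Subtype.val hl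
    have h2 : l.1 * q.1 = q.1 * l.1 := by
      conv_rhs => rw [← h1]
      group
    exact Subtype.ext (hfree l.1 l.2 q.1 q.2.1 q.2.2 h2)
  have e := MulAction.selfEquivOrbitsQuotientProd hstab
  have h1 := Nat.card_congr e
  rw [Nat.card_prod, card_ne_one_subgroup] at h1
  exact ⟨_, h1.trans (mul_comm _ _)⟩

end Cfsg.Agent.Lib.Helper13.BSW1
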