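import Mathlib
import Cfsg.Agent.Lib.helper2.BSWDefs
import Cfsg.Agent.Lib.Helper13.BSW1D
import Cfsg.Agent.Lib.Helper13.BSW1E

/-!
# Brauer–Suzuki–Wall, local group theory (piece T1 of helper2's plan for S3282), part F

The centralizer of a strongly real element lying in no conjugate of `K`.
-/

set_option autoImplicit false

namespace Cfsg.Agent.Lib.Helper13.BSW1

open Cfsg.Agent.Lib.helper2

variable {G : Type*} [Group G] [Finite G] {t s : G} {K : Subgroup G}

omit [Finite G] in
theorem bsw_no_invol_comm (h : BswHyp t K s) {x z : G} (hx : bswOut K x) (hz : orderOf z = 2) :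
    x * z ≠ z * x := fun hxz => bsw_in_of_comm_invol h hz hxz hx

theorem bsw_cent_card_odd (h : BswHyp t K s) {x : G} (hx : bswOut K x) :
    Odd (Nat.card (Subgroup.centralizer ({x} : Set G))) := by
  by_contra hodd
  rw [Nat.not_odd_iff_even, even_iff_two_dvd] at hodd
  haveI : Fact (Nat.Prime 2) := ⟨Nat.prime_two⟩
  obtain ⟨z, hz⟩ := exists_prime_orderOf_dvd_card' 2 hodd
  have hz' : orderOf (z : G) = 2 := by rw [Subgroup.orderOf_coe]; exact hz
  have hzx := Subgroup.mem_centralizer_singleton_iff.mp z.2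
  exact bsw_no_invol_comm h hx hz' hzx.symm

theorem bsw_cent_elem_odd (h : BswHyp t K s) {x y : G} (hx : bswOut K x)
    (hy : y ∈ Subgroup.centralizer ({x} : Set G)) : Odd (orderOf y) := by
  have h1 : orderOf y ∣ Nat.card (Subgroup.centralizer ({x} : Set G)) := by
    have := orderOf_dvd_natCard (⟨y, hy⟩ : Subgroup.centralizer ({x} : Set G))
    rwa [Subgroup.orderOf_mk] at this
  exact Odd.of_dvd_nat (bsw_cent_card_odd h hx) h1

omit [Finite G] in
/-- an element of odd order commuting with `g t g⁻¹` lies in `g K g⁻¹` -/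
theorem bsw_odd_comm_conj (h : BswHyp t K s) {g c : G} (hc : c * (g * t * g⁻¹) = g * t * g⁻¹ * c)
    (hodd : Odd (orderOf c)) : g⁻¹ * c * g ∈ K := by
  apply bsw_odd_mem_K h
  · rw [Subgroup.mem_centralizer_singleton_iff]
    have e1 : g⁻¹ * c * g * t = g⁻¹ * (c * (g * t * g⁻¹)) * g := by group
    rw [e1, hc]
    group
  · rwa [orderOf_conj_eq']

omit [Finite G] in
/-- the centralizer of a nonidentity element of odd order of `g⁻¹ K g` lies in `g⁻¹ K g` -/
theorem bsw_comm_of_conj_mem (h : BswHyp t K s) {g y c : G} (hy : g * y * g⁻¹ ∈ K) (hy1 : y ≠ 1)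
    (hodd : Odd (orderOf y)) (hc : c * y = y * c) : g * c * g⁻¹ ∈ K := by
  have hk1 : g * y * g⁻¹ ≠ 1 := by
    intro h1
    apply hy1
    have : y = g⁻¹ * (g * y * g⁻¹) * g := by group
    rw [this, h1]
    group
  have hkt : g * y * g⁻¹ ≠ t := by
    intro h1
    have := orderOf_conj_eq g y
    rw [h1, h.ht] at this
    rw [← this] at hodd
    exact absurd hodd (by decide)
  have hcent := bsw_cent_eq h hy hk1 hkt
  rw [← hcent, Subgroup.mem_centralizer_singleton_iff]
  have e1 : g * c * g⁻¹ * (g * y * g⁻¹) = g * (c * y) * g⁻¹ := by group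
  rw [e1, hc]
  group

/-- `C(x) ∩ C(a) = 1` -/
theorem bsw_cent_inf_invol (h : BswHyp t K s) {x a y : G} (hx : bswOut K x)
    (ha : orderOf a = 2) (hy : y ∈ Subgroup.centralizer ({x} : Set G)) (hya : y * a = a * y) :
    y = 1 := by
  by_contra hy1
  have hodd := bsw_cent_elem_odd h hx hy
  obtain ⟨g, hg⟩ := isConj_iff.mp (h.hconj t a h.ht ha)
  have h1 : g⁻¹ * y * g ∈ K := bsw_odd_comm_conj h (by rw [hg]; exact hya) hodd
  have hxy := Subgroup.mem_centralizer_singleton_iff.mp hy
  have h2 : g⁻¹ * x * g⁻¹⁻¹ ∈ K := by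
    apply bsw_comm_of_conj_mem h (y := y) _ hy1 hodd hxy.symm
    rwa [inv_inv]
  exact hx g⁻¹ h2

omit [Finite G] in
theorem inverts_normalizes_cent {x a : G} (hax : a * x * a⁻¹ = x⁻¹) :
    ∀ q ∈ Subgroup.centralizer ({x} : Set G), a * q * a⁻¹ ∈ Subgroup.centralizer ({x} : Set G) := by
  intro q hq
  rw [Subgroup.mem_centralizer_singleton_iff] at hq ⊢
  have hx : x = a * x⁻¹ * a⁻¹ := by
    calc x = (x⁻¹)⁻¹ := (inv_inv x).symm
      _ = (a * x * a⁻¹)⁻¹ := by rw [hax]
      _ = a * x⁻¹ * a⁻¹ := by group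
  have e2 : q * x⁻¹ = x⁻¹ * q := by
    have : q * x⁻¹ = x⁻¹ * (x * q) * x⁻¹ := by group
    rw [this, ← hq]
    group
  calc a * q * a⁻¹ * x = a * q * a⁻¹ * (a * x⁻¹ * a⁻¹) := by rw [← hx]
    _ = a * (q * x⁻¹) * a⁻¹ := by group
    _ = a * (x⁻¹ * q) * a⁻¹ := by rw [e2]
    _ = (a * x⁻¹ * a⁻¹) * (a * q * a⁻¹) := by group
    _ = x * (a * q * a⁻¹) := by rw [← hx]

/-- `a` inverts `C(x)`, which is abelian -/
theorem bsw_core (h : BswHyp t K s) {x a : G} (hx : bswOut K x) (ha : orderOf a = 2)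
    (hax : a * x * a⁻¹ = x⁻¹) :
    (∀ y ∈ Subgroup.centralizer ({x} : Set G), a * y * a⁻¹ = y⁻¹) ∧
    (∀ y ∈ Subgroup.centralizer ({x} : Set G), ∀ z ∈ Subgroup.centralizer ({x} : Set G),
      y * z = z * y) := by
  have h1 := inverts_of_fixedPointFree (Subgroup.centralizer ({x} : Set G))
    (mul_self_of_orderOf_two ha) (inverts_normalizes_cent hax)
    (fun q hq hqa => bsw_cent_inf_invol h hx ha hq hqa)
  exact ⟨h1, comm_of_inverts _ h1⟩

/-- nonidentity elements of `C(x)` lie outside the conjugates of `K` and have the same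
centralizer -/
theorem bsw_cent_elem (h : BswHyp t K s) {x a y : G} (hx : bswOut K x) (ha : orderOf a = 2)
    (hax : a * x * a⁻¹ = x⁻¹) (hy : y ∈ Subgroup.centralizer ({x} : Set G)) (hy1 : y ≠ 1) :
    bswOut K y ∧ Subgroup.centralizer ({y} : Set G) = Subgroup.centralizer ({x} : Set G) := by
  have hodd := bsw_cent_elem_odd h hx hy
  have hyx := Subgroup.mem_centralizer_singleton_iff.mp hy
  have hout : bswOut K y := by
    intro g hg
    exact hx g (bsw_comm_of_conj_mem h hg hy1 hodd hyx.symm)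
  refine ⟨hout, ?_⟩
  obtain ⟨hinv, hab⟩ := bsw_core h hx ha hax
  obtain ⟨-, hab'⟩ := bsw_core h hout ha (hinv y hy)
  have hxy : x ∈ Subgroup.centralizer ({y} : Set G) :=
    Subgroup.mem_centralizer_singleton_iff.mpr hyx.symm
  apply le_antisymm
  · intro c hc
    rw [Subgroup.mem_centralizer_singleton_iff]
    exact hab' c hc x hxy
  · intro c hc
    rw [Subgroup.mem_centralizer_singleton_iff]
    exact hab c hc y hy

omit [Finite G] in
/-- two involutions inverting `x` differ by an element of `C(x)` -/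
theorem mul_mem_cent_of_inverts {x a b : G} (hax : a * x * a⁻¹ = x⁻¹) (hbx : b * x * b⁻¹ = x⁻¹) :
    b * a ∈ Subgroup.centralizer ({x} : Set G) := by
  rw [Subgroup.mem_centralizer_singleton_iff]
  have e1 : b * a * x = b * (a * x * a⁻¹) * b⁻¹ * (b * a) := by group
  rw [e1, hax]
  have e2 : b * x⁻¹ * b⁻¹ = (b * x * b⁻¹)⁻¹ := by group
  rw [e2, hbx, inv_inv]

theorem bsw_beta_out (h : BswHyp t K s) {x a : G} (hx : bswOut K x) (ha : orderOf a = 2)
    (hax : a * x * a⁻¹ = x⁻¹) :
    bswBeta x = Nat.card (Subgroup.centralizer ({x} : Set G)) := by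
  unfold bswBeta
  obtain ⟨hinv, hab⟩ := bsw_core h hx ha hax
  have haa := mul_self_of_orderOf_two ha
  have hainv := inv_of_orderOf_two ha
  have hx1 : x ∈ Subgroup.centralizer ({x} : Set G) := Subgroup.mem_centralizer_singleton_iff.mpr rfl
  -- `q a` is an involution for `q ∈ C(x)`
  have hqa : ∀ q ∈ Subgroup.centralizer ({x} : Set G), orderOf (q * a) = 2 := by
    intro q hq
    apply orderOf_two_of_mul_self
    · have e1 : q * a * (q * a) = q * (a * q * a⁻¹) * (a * a) := by group
      rw [e1, hinv q hq, haa, mul_one, mul_inv_cancel]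
    · intro h1
      have h2 : a = q⁻¹ := eq_inv_of_mul_eq_one_right h1
      have h3 : a ∈ Subgroup.centralizer ({x} : Set G) := by
        rw [h2]; exact Subgroup.inv_mem _ hq
      exact bsw_no_invol_comm h hx ha (Subgroup.mem_centralizer_singleton_iff.mp h3).symm
  have hax' : a * x = x⁻¹ * a := by
    have : a * x = (a * x * a⁻¹) * a := by group
    rw [this, hax]
  let f : Subgroup.centralizer ({x} : Set G) →
      {p : G × G // orderOf p.1 = 2 ∧ orderOf p.2 = 2 ∧ p.1 * p.2 = x} := fun q =>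
    ⟨(q.1 * a, q.1 * a * x), hqa q.1 q.2, by
      simp only
      rw [mul_assoc, hax', ← mul_assoc]
      exact hqa _ (Subgroup.mul_mem _ q.2 (Subgroup.inv_mem _ hx1)), by
      simp only
      rw [← mul_assoc]
      have := hqa q.1 q.2
      rw [mul_self_of_orderOf_two this, one_mul]⟩
  have hf : Function.Bijective f := by
    constructor
    · intro q r hqr
      have h1 := congrArg (fun p => p.1.1) hqr
      simp only [f] at h1
      exact Subtype.ext (mul_right_cancel h1)
    · rintro ⟨⟨b, c⟩, hb, hc, hbc⟩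
      simp only at hb hc hbc
      have hbx := inverts_of_mul hb hc hbc
      have hba := mul_mem_cent_of_inverts hax hbx
      have hc' : c = b * x := by
        rw [← hbc, ← mul_assoc, mul_self_of_orderOf_two hb, one_mul]
      refine ⟨⟨b * a, hba⟩, ?_⟩
      apply Subtype.ext
      simp only [f]
      rw [mul_assoc b a a, haa, mul_one, hc']
  exact (Nat.card_congr (Equiv.ofBijective f hf)).symm

end Cfsg.Agent.Lib.Helper13.BSW1
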