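import Mathlib
import Cfsg.Agent.Lib.helper2.BSWDefs
import Cfsg.Agent.Lib.Helper13.BSW1F

/-!
# Brauer–Suzuki–Wall, local group theory (piece T1 of helper2's plan for S3282), part G

The normalizer of `C(x)` and the final statement `bsw_Q`.
-/

set_option autoImplicit false

namespace Cfsg.Agent.Lib.Helper13.BSW1

open Cfsg.Agent.Lib.helper2

variable {G : Type*} [Group G] [Finite G] {t s : G} {K : Subgroup G}

omit [Finite G] in
theorem exists_sqrt_of_odd {q : G} (hodd : Odd (orderOf q)) :
    ∃ u ∈ Subgroup.zpowers q, u * u = q := by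
  obtain ⟨m, hm⟩ := hodd
  refine ⟨q ^ (m + 1), Subgroup.npow_mem_zpowers q (m + 1), ?_⟩
  rw [← pow_add]
  have : m + 1 + (m + 1) = orderOf q + 1 := by omega
  rw [this, pow_succ, pow_orderOf_eq_one, one_mul]

omit [Finite G] in
theorem invol_mem_normalizer_cent {x a : G} (ha : orderOf a = 2) (hax : a * x * a⁻¹ = x⁻¹) :
    a ∈ Subgroup.normalizer ((Subgroup.centralizer ({x} : Set G) : Subgroup G) : Set G) := by
  rw [Subgroup.mem_normalizer_iff]
  intro q
  constructor
  · exact inverts_normalizes_cent hax q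
  · intro hq
    have := inverts_normalizes_cent hax _ hq
    have e : a * (a * q * a⁻¹) * a⁻¹ = (a * a) * q * (a * a)⁻¹ := by group
    rwa [e, mul_self_of_orderOf_two ha, one_mul, inv_one, mul_one] at this

theorem bsw_conj_invol_inverts (h : BswHyp t K s) {x a n : G} (hx : bswOut K x)
    (ha : orderOf a = 2) (hax : a * x * a⁻¹ = x⁻¹)
    (hn : n ∈ Subgroup.normalizer ((Subgroup.centralizer ({x} : Set G) : Subgroup G) : Set G)) :
    (n * a * n⁻¹) * x * (n * a * n⁻¹)⁻¹ = x⁻¹ := by
  have hx1 : x ∈ Subgroup.centralizer ({x} : Set G) := Subgroup.mem_centralizer_singleton_iff.mpr rfl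
  have h1 : n⁻¹ * x * n ∈ Subgroup.centralizer ({x} : Set G) :=
    (Subgroup.mem_normalizer_iff''.mp hn x).mp hx1
  have h2 := (bsw_core h hx ha hax).1 _ h1
  have e : (n * a * n⁻¹) * x * (n * a * n⁻¹)⁻¹ = n * (a * (n⁻¹ * x * n) * a⁻¹) * n⁻¹ := by group
  rw [e, h2]
  group

/-- structure of the centralizer of a strongly real element outside the conjugates of `K` -/
theorem bsw_Q (h : BswHyp t K s) {x a : G} (hx : bswOut K x) (ha : orderOf a = 2)
    (hax : a * x * a⁻¹ = x⁻¹) :
    Odd (Nat.card (Subgroup.centralizer ({x} : Set G))) ∧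
    (∀ y ∈ Subgroup.centralizer ({x} : Set G), a * y * a⁻¹ = y⁻¹) ∧
    (∀ y ∈ Subgroup.centralizer ({x} : Set G), ∀ z ∈ Subgroup.centralizer ({x} : Set G),
      y * z = z * y) ∧
    (∀ y ∈ Subgroup.centralizer ({x} : Set G), y ≠ 1 →
      bswOut K y ∧ Subgroup.centralizer ({y} : Set G) = Subgroup.centralizer ({x} : Set G) ∧
      bswBeta y = Nat.card (Subgroup.centralizer ({x} : Set G))) ∧
    ∃ (L : Subgroup G) (g : G), a = g * t * g⁻¹ ∧ a ∈ L ∧
      L ≤ K.map (MulAut.conj g).toMonoidHom ∧
      Subgroup.centralizer ({x} : Set G) ⊓ L = ⊥ ∧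
      Subgroup.normalizer ((Subgroup.centralizer ({x} : Set G) : Subgroup G) : Set G) =
        Subgroup.centralizer ({x} : Set G) ⊔ L ∧
      Nat.card L ∣ Nat.card (Subgroup.centralizer ({x} : Set G)) - 1 := by
  obtain ⟨hinv, hab⟩ := bsw_core h hx ha hax
  have haa := mul_self_of_orderOf_two ha
  have hainv := inv_of_orderOf_two ha
  refine ⟨bsw_cent_card_odd h hx, hinv, hab, ?_, ?_⟩
  · intro y hy hy1
    obtain ⟨hout, hcent⟩ := bsw_cent_elem h hx ha hax hy hy1
    refine ⟨hout, hcent, ?_⟩
    rw [bsw_beta_out h hout ha (hinv y hy), hcent]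
  · obtain ⟨g, hg⟩ := isConj_iff.mp (h.hconj t a h.ht ha)
    have haN := invol_mem_normalizer_cent ha hax
    have haC : a ∈ Subgroup.centralizer ({a} : Set G) :=
      Subgroup.mem_centralizer_singleton_iff.mpr rfl
    refine ⟨Subgroup.normalizer ((Subgroup.centralizer ({x} : Set G) : Subgroup G) : Set G) ⊓
      Subgroup.centralizer ({a} : Set G), g, hg.symm, Subgroup.mem_inf.mpr ⟨haN, haC⟩,
      ?_, ?_, ?_, ?_⟩
    · -- `L ≤ g K g⁻¹`
      intro l hl
      obtain ⟨hlN, hlC⟩ := Subgroup.mem_inf.mp hl
      rw [Subgroup.mem_centralizer_singleton_iff] at hlC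
      have h1 : g⁻¹ * l * g ∈ Subgroup.centralizer ({t} : Set G) := by
        rw [Subgroup.mem_centralizer_singleton_iff]
        have e1 : g⁻¹ * l * g * t = g⁻¹ * (l * (g * t * g⁻¹)) * g := by group
        rw [e1, hg, hlC, ← hg]
        group
      have hmem : ∀ k ∈ K, g⁻¹ * l * g = k → l ∈ K.map (MulAut.conj g).toMonoidHom := by
        intro k hk hlk
        rw [Subgroup.mem_map]
        refine ⟨k, hk, ?_⟩
        simp only [MulEquiv.coe_toMonoidHom, MulAut.conj_apply]
        rw [← hlk]
        group
      rcases bsw_mem_H h h1 with h2 | ⟨k, hk, h2⟩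
      · exact hmem _ h2 rfl
      · exfalso
        have hl2 : orderOf l = 2 := by
          rw [← orderOf_conj_eq' g l, h2]
          exact bsw_mul_s_order h hk
        -- `l` is fixed point free on `C(x)`
        have hfpf : ∀ q ∈ Subgroup.centralizer ({x} : Set G), q * l = l * q → q = 1 := by
          intro q hq hql
          by_contra hq1
          exact bsw_no_invol_comm h (bsw_cent_elem h hx ha hax hq hq1).1 hl2 hql
        have hlnorm : ∀ q ∈ Subgroup.centralizer ({x} : Set G),
            l * q * l⁻¹ ∈ Subgroup.centralizer ({x} : Set G) :=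
          fun q hq => (Subgroup.mem_normalizer_iff.mp hlN q).mp hq
        have hlinv := inverts_of_fixedPointFree _ (mul_self_of_orderOf_two hl2) hlnorm hfpf
        have hx1 : x ∈ Subgroup.centralizer ({x} : Set G) :=
          Subgroup.mem_centralizer_singleton_iff.mpr rfl
        have hla := mul_mem_cent_of_inverts hax (hlinv x hx1)
        have hla1 : l * a = 1 := by
          apply bsw_cent_inf_invol h hx ha hla
          calc l * a * a = a * l * a := by rw [hlC]
            _ = a * (l * a) := mul_assoc _ _ _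
        have hla2 : l = a := by
          rw [← hainv]
          exact eq_inv_of_mul_eq_one_left hla1
        -- then `k * s = t ∈ K`
        have : k * s = t := by
          rw [← h2, hla2, ← hg]
          group
        apply h.hsK
        have e : s = k⁻¹ * (k * s) := by group
        rw [e, this]
        exact K.mul_mem (K.inv_mem hk) h.htK
    · -- `C(x) ⊓ L = ⊥`
      rw [Subgroup.eq_bot_iff_forall]
      intro y hy
      obtain ⟨hyQ, hyL⟩ := Subgroup.mem_inf.mp hy
      obtain ⟨-, hyC⟩ := Subgroup.mem_inf.mp hyL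
      exact bsw_cent_inf_invol h hx ha hyQ (Subgroup.mem_centralizer_singleton_iff.mp hyC)
    · -- `N(C(x)) = C(x) ⊔ L`
      apply le_antisymm
      · intro n hn
        have hb := bsw_conj_invol_inverts h hx ha hax hn
        have hq := mul_mem_cent_of_inverts hax hb
        -- q := n a n⁻¹ a ∈ C(x)
        have hodd := bsw_cent_elem_odd h hx hq
        obtain ⟨u, hu, huu⟩ := exists_sqrt_of_odd hodd
        have huQ : u ∈ Subgroup.centralizer ({x} : Set G) := by
          have : Subgroup.zpowers (n * a * n⁻¹ * a) ≤ Subgroup.centralizer ({x} : Set G) := by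
            rw [Subgroup.zpowers_le]; exact hq
          exact this hu
        -- u a u⁻¹ = u u a = n a n⁻¹
        have h1 : u * a * u⁻¹ = n * a * n⁻¹ := by
          have e1 : u * a * u⁻¹ = u * (a * u⁻¹ * a⁻¹) * a := by group
          rw [e1, hinv _ (Subgroup.inv_mem _ huQ), inv_inv, huu, mul_assoc, haa, mul_one]
        have h2 : u⁻¹ * n ∈ Subgroup.centralizer ({a} : Set G) := by
          rw [Subgroup.mem_centralizer_singleton_iff]
          have e1 : u⁻¹ * n * a = u⁻¹ * (n * a * n⁻¹) * n := by group
          rw [e1, ← h1]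
          group
        have h3 : u⁻¹ * n ∈
            Subgroup.normalizer ((Subgroup.centralizer ({x} : Set G) : Subgroup G) : Set G) :=
          Subgroup.mul_mem _ (Subgroup.inv_mem _ (Subgroup.le_normalizer huQ)) hn
        have e : n = u * (u⁻¹ * n) := by group
        rw [e]
        exact Subgroup.mul_mem_sup huQ (Subgroup.mem_inf.mpr ⟨h3, h2⟩)
      · exact sup_le Subgroup.le_normalizer inf_le_left
    · -- `|L|` divides `|C(x)| - 1`
      apply card_dvd_of_semiregular_conj
      · intro l hl q hq
        exact (Subgroup.mem_normalizer_iff.mp (Subgroup.mem_inf.mp hl).1 q).mp hq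
      · intro l hl q hq hq1 hlq
        -- l ∈ C(q) = C(x), and l ∈ C(a)
        have hcent := (bsw_cent_elem h hx ha hax hq hq1).2
        have hlQ : l ∈ Subgroup.centralizer ({x} : Set G) := by
          rw [← hcent, Subgroup.mem_centralizer_singleton_iff]
          exact hlq
        exact bsw_cent_inf_invol h hx ha hlQ
          (Subgroup.mem_centralizer_singleton_iff.mp (Subgroup.mem_inf.mp hl).2)

end Cfsg.Agent.Lib.Helper13.BSW1
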