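import Cfsg.Agent.Lib.Helper13.BSW1A
import Cfsg.Agent.Lib.Helper13.BSW1B
import Cfsg.Agent.Lib.Helper13.BSW1C
import Cfsg.Agent.Lib.Helper13.BSW1D
import Cfsg.Agent.Lib.Helper13.BSW1E
import Cfsg.Agent.Lib.Helper13.BSW1F
import Cfsg.Agent.Lib.Helper13.BSW1G

/-!
# Brauer–Suzuki–Wall, piece T1 (local group theory) of helper2's plan for S3282

Umbrella file. All statements of `T1` in `Cfsg/Agent/Lib/helper2/BSW_PLAN.md` are proved, with the
names of the plan, in the namespace `Cfsg.Agent.Lib.Helper13.BSW1`: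

`bsw_mul_s_sq`, `bsw_mem_H`, `bsw_invol_K`, `bsw_cent_le`, `bsw_cent_eq`, `bsw_card_H`,
`bsw_even_K` (BSW1A); `bsw_out_odd`, `bsw_card_invol` (BSW1B); `bsw_card_in`, `bsw_beta_K`,
`bsw_beta_pos_iff` (BSW1C); `bsw_conjK` (BSW1D); `bsw_Q` (BSW1G).

Further facts that may be useful for the endgames: `bsw_mul_s_order`, `bsw_odd_mem_K`,
`bsw_H_conj_mem`, `bsw_H_conj_eq`, `bsw_mem_H_of_meet`, `bsw_in_of_comm_invol`,
`bsw_normalizer_eq`, `bsw_normalizer_K`, `bswF_injective`, `bswF_range`, `bsw_cent_card_odd`,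
`bsw_core`, `bsw_cent_elem`, `bsw_beta_out`, `bsw_cent_inf_invol`, `inverts_of_fixedPointFree`,
`comm_of_inverts`, `card_dvd_of_semiregular_conj`, `exists_sqrt_of_odd`.
-/
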