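import Mathlib
import Cfsg.Agent.Lib.helper3.BSZ.Defs

set_option autoImplicit false

namespace Cfsg.Agent.Lib.helper3.BSZ

open Cfsg Cfsg.Agent.Lib.helper3

/-- A12 [S]: elements of the centre commute (`Subgroup.mem_center_iff`). -/
theorem isSylCen_comm {G : Type*} [Group G] {H : Subgroup G} (h : IsSylCen H) :
    ∀ x ∈ H, ∀ y ∈ H, x * y = y * x := by
  obtain ⟨P, rfl⟩ := h
  rintro _ ⟨x, hx, rfl⟩ _ ⟨y, _, rfl⟩
  have h1 : y * x = x * y := Subgroup.mem_center_iff.mp hx y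
  have h2 := congrArg (Subgroup.subtype (P : Subgroup G)) h1
  simp only [map_mul] at h2
  exact h2.symm

end Cfsg.Agent.Lib.helper3.BSZ
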