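import Mathlib
import Cfsg.Agent.Lib.helper3.BSZ.Defs

set_option autoImplicit false

namespace Cfsg.Agent.Lib.helper3.BSZ

open Cfsg Cfsg.Agent.Lib.helper3

/-- the Frobenius-type surjectivity argument in any group: if `c` normalises a finite subgroup `R` and `c * c` commutes with
no non-trivial element of `R`, then every `c * (v * c * v⁻¹)`, `v ∈ R`, is an `R`-conjugate of `c * c`. -/
theorem bszd04_gen {G : Type*} [Group G] (R : Subgroup G) [Finite R] {c : G}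
    (hcn : ∀ r ∈ R, c * r * c⁻¹ ∈ R) (hc2 : ∀ r ∈ R, r ≠ 1 → (c * c) * r ≠ r * (c * c)) :
    ∀ v ∈ R, ∃ w ∈ R, c * (v * c * v⁻¹) = w * (c * c) * w⁻¹ := by
  have hcc : ∀ r ∈ R, (c * c) * r * (c * c)⁻¹ ∈ R := by
    intro r hr
    have h := hcn _ (hcn r hr)
    have e : c * (c * r * c⁻¹) * c⁻¹ = (c * c) * r * (c * c)⁻¹ := by group
    rwa [e] at h
  let ψ : R → R := fun w => ⟨(w : G) * ((c * c) * (w : G)⁻¹ * (c * c)⁻¹),
    R.mul_mem w.2 (hcc _ (R.inv_mem w.2))⟩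
  have hinj : Function.Injective ψ := by
    intro w w' h
    have h1 : (w : G) * ((c * c) * (w : G)⁻¹ * (c * c)⁻¹) = (w' : G) * ((c * c) * (w' : G)⁻¹ * (c * c)⁻¹) :=
      congrArg Subtype.val h
    have h2 : (c * c) * ((w' : G)⁻¹ * (w : G)) = ((w' : G)⁻¹ * (w : G)) * (c * c) := by
      have h3 : (w : G) * (c * c) * (w : G)⁻¹ = (w' : G) * (c * c) * (w' : G)⁻¹ := by
        have := congrArg (fun z => z * (c * c)) h1
        simpa [mul_assoc] using this
      have h4 : (w' : G)⁻¹ * ((w : G) * (c * c) * (w : G)⁻¹) * (w : G) =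
          (w' : G)⁻¹ * ((w' : G) * (c * c) * (w' : G)⁻¹) * (w : G) := by rw [h3]
      have e1 : (w' : G)⁻¹ * ((w : G) * (c * c) * (w : G)⁻¹) * (w : G) = ((w' : G)⁻¹ * (w : G)) * (c * c) := by
        group
      have e2 : (w' : G)⁻¹ * ((w' : G) * (c * c) * (w' : G)⁻¹) * (w : G) = (c * c) * ((w' : G)⁻¹ * (w : G)) := by
        group
      rw [e1, e2] at h4
      exact h4.symm
    have h5 : (w' : G)⁻¹ * (w : G) = 1 := by
      by_contra hne
      exact hc2 _ (R.mul_mem (R.inv_mem w'.2) w.2) hne h2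
    have h6 : (w : G) = (w' : G) := by
      have := congrArg (fun z => (w' : G) * z) h5
      simpa using this
    exact Subtype.ext h6
  have hsurj : Function.Surjective ψ := Finite.injective_iff_surjective.mp hinj
  intro v hv
  have hmem : c * (v * c * v⁻¹) * (c * c)⁻¹ ∈ R := by
    have e : c * (v * c * v⁻¹) * (c * c)⁻¹ = (c * v * c⁻¹) * ((c * c) * v⁻¹ * (c * c)⁻¹) := by group
    rw [e]
    exact R.mul_mem (hcn v hv) (hcc _ (R.inv_mem hv))
  obtain ⟨w, hw⟩ := hsurj ⟨_, hmem⟩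
  refine ⟨w, w.2, ?_⟩
  have h1 : (w : G) * ((c * c) * (w : G)⁻¹ * (c * c)⁻¹) = c * (v * c * v⁻¹) * (c * c)⁻¹ :=
    congrArg Subtype.val hw
  have h2 := congrArg (fun z => z * (c * c)) h1
  simp only [mul_assoc, inv_mul_cancel, mul_one] at h2
  simp only [mul_assoc]
  exact h2.symm

variable {F : Type*} [Field F] [Fintype F] {m : ℕ}

/-- D04 [M]: `ψ : R → R`, `w ↦ w * (c*c) * w⁻¹ * (c*c)⁻¹` is well defined (`hcn` twice) and injective (`hc2` applied to `w'⁻¹ * w`), hence surjective (`Finite R`, `finite_Sz hF hm`; `Finite.injective_iff_surjective`);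
the element `c * (v * c * v⁻¹) * (c*c)⁻¹ = (c * v * c⁻¹) * ((c*c) * v⁻¹ * (c*c)⁻¹)` lies in `R`. -/
theorem bm_frob (hF : Fintype.card F = 2 ^ (2 * m + 1)) (hm : 1 ≤ m) (R : Subgroup (Sz F m)) {c : Sz F m}
    (hcn : ∀ r ∈ R, c * r * c⁻¹ ∈ R) (hc2 : ∀ r ∈ R, r ≠ 1 → (c * c) * r ≠ r * (c * c)) :
    ∀ v ∈ R, ∃ w ∈ R, c * (v * c * v⁻¹) = w * (c * c) * w⁻¹ := by
  have : Finite (Sz F m) := finite_Sz hF hm
  exact bszd04_gen R hcn hc2

end Cfsg.Agent.Lib.helper3.BSZ
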