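import Mathlib
import Cfsg.Agent.Lib.helper3.BSZ.Defs
import Cfsg.Agent.Lib.Helper5.BSZA01
import Cfsg.Agent.Lib.Helper16.BSZA06
import Cfsg.Agent.Lib.Helper21.BSZF01

set_option autoImplicit false

/-!
# Project BSZ, row F05 (`S_case`), second copy by helper13 under own names.

`bszf05_h13_core` takes the statement of F03 (`subStab_gD`) as a hypothesis; A12 is reproved as `bszf05_h13_comm`.
-/

namespace Cfsg.Agent.Lib.helper3.BSZ

open Cfsg Cfsg.Agent.Lib.helper3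

/-- own copy of A12: the centre of a Sylow subgroup is commutative. -/
theorem bszf05_h13_comm {G : Type*} [Group G] {H : Subgroup G} (h : IsSylCen H) :
    ∀ x ∈ H, ∀ y ∈ H, x * y = y * x := by
  obtain ⟨P, rfl⟩ := h
  rintro _ ⟨x, hx, rfl⟩ _ ⟨y, _, rfl⟩
  have h1 : y * x = x * y := Subgroup.mem_center_iff.mp hx y
  have h2 := congrArg (Subgroup.subtype (P : Subgroup G)) h1
  simp only [map_mul] at h2
  exact h2.symm

/-- if the image of the two-point stabiliser is everything then `S ≤ cj S g`. -/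
theorem bszf05_h13_top {G G' : Type*} [Group G] [Group G'] (S : Subgroup G) (g : G) (e : S ≃* G')
    (hL : ((S ⊓ cj S g).subgroupOf S).map e.toMonoidHom = ⊤) : S ≤ cj S g := by
  have hTtop : (S ⊓ cj S g).subgroupOf S = ⊤ := by
    rw [eq_top_iff]
    intro x _
    have h3 : e x ∈ ((S ⊓ cj S g).subgroupOf S).map e.toMonoidHom := by rw [hL]; trivial
    obtain ⟨y, hy, hyx⟩ := h3
    have : y = x := e.injective hyx
    rwa [this] at hy
  have h3 : S ≤ S ⊓ cj S g := Subgroup.subgroupOf_eq_top.mp hTtop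
  exact le_trans h3 inf_le_right

/-- two non-commuting elements of the two-point stabiliser: its image is neither trivial nor the centre of a Sylow subgroup. -/
theorem bszf05_h13_noncomm {G G' : Type*} [Group G] [Group G'] (S : Subgroup G) (g : G) (e : S ≃* G')
    (x y : G) (hx : x ∈ S ⊓ cj S g) (hy : y ∈ S ⊓ cj S g) (hxy : x * y ≠ y * x) :
    ((S ⊓ cj S g).subgroupOf S).map e.toMonoidHom ≠ ⊥ ∧
      ¬ IsSylCen (((S ⊓ cj S g).subgroupOf S).map e.toMonoidHom) := by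
  have hxS : x ∈ S := (Subgroup.mem_inf.mp hx).1
  have hyS : y ∈ S := (Subgroup.mem_inf.mp hy).1
  have hxT : (⟨x, hxS⟩ : S) ∈ (S ⊓ cj S g).subgroupOf S := Subgroup.mem_subgroupOf.mpr hx
  have hyT : (⟨y, hyS⟩ : S) ∈ (S ⊓ cj S g).subgroupOf S := Subgroup.mem_subgroupOf.mpr hy
  have hy1 : e ⟨x, hxS⟩ ∈ ((S ⊓ cj S g).subgroupOf S).map e.toMonoidHom := ⟨_, hxT, rfl⟩
  have hy2 : e ⟨y, hyS⟩ ∈ ((S ⊓ cj S g).subgroupOf S).map e.toMonoidHom := ⟨_, hyT, rfl⟩
  have hncL : e ⟨x, hxS⟩ * e ⟨y, hyS⟩ ≠ e ⟨y, hyS⟩ * e ⟨x, hxS⟩ := by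
    intro h
    rw [← map_mul, ← map_mul] at h
    have h3 := e.injective h
    exact hxy (congrArg Subtype.val h3)
  constructor
  · intro h
    rw [h] at hy1 hy2
    rw [Subgroup.mem_bot] at hy1 hy2
    apply hncL
    rw [hy1, hy2]
  · intro h
    exact hncL (bszf05_h13_comm h _ hy1 _ hy2)

variable {F : Type*} [Field F] [Fintype F] {m : ℕ}

/-- a proper subfield misses an element. -/
theorem bszf05_h13_exists_not_mem (K' : Subfield F) (h : Nat.card K' < Fintype.card F) :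
    ∃ β : F, β ∉ K' := by
  by_contra hcon
  push Not at hcon
  have htop : K' = ⊤ := eq_top_iff.mpr (fun x _ => hcon x)
  have hc : Nat.card K' = Fintype.card F := by
    rw [htop, ← Nat.card_eq_fintype_card]
    exact Nat.card_congr Subfield.topEquiv.toEquiv
  omega

/-- F05 with the statement of F03 as a hypothesis. -/
theorem bszf05_h13_core (hF : Fintype.card F = 2 ^ (2 * m + 1)) (hm : 1 ≤ m)
    (IH : ∀ (K : Type) [Field K] [Fintype K] (k : ℕ), Fintype.card K = 2 ^ (2 * k + 1) → 1 ≤ k → k < m →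
      ∀ H' : Subgroup (Sz K k), H' ≠ ⊤ → BinH H' → (H' = ⊥ ∨ IsSylCen H'))
    (K' : Subfield F) (k : ℕ) (hk : 1 ≤ k) (hkm : k < m) (hK' : Nat.card K' = 2 ^ (2 * k + 1))
    (hF03 : ∀ {l : Fˣ}, (l : F) ∈ K' → gD hF l ∈ subStab m K') :
    ¬ BinH (subStab m K') := by
  intro hB
  have h2 := sz_two hF
  obtain ⟨K, iK1, iK2, hKc, _, ⟨e⟩⟩ := subStab_iso hF hm K' k hk hK'
  -- an element outside the subfield
  obtain ⟨β, hβ⟩ : ∃ β : F, β ∉ K' := by
    apply bszf05_h13_exists_not_mem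
    rw [hK', hF]
    exact Nat.pow_lt_pow_right (by norm_num) (by omega)
  have hB1 : BinH ((subStab m K' ⊓ cj (subStab m K') (gT hF 0 β)).subgroupOf (subStab m K')) :=
    binary_stab (subStab m K') hB (gT hF 0 β)
  have hB2 := (binary_iso e _).mp hB1
  -- translations with coordinates in the subfield lie in the two-point stabiliser
  have hmem : ∀ a b : F, a ∈ K' → b ∈ K' →
      gT hF a b ∈ subStab m K' ⊓ cj (subStab m K') (gT hF 0 β) := by
    intro a b ha hb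
    refine Subgroup.mem_inf.mpr ⟨subStab_gT hF K' ha hb, ?_⟩
    refine (mem_map_conj_iff _ _ _).mpr ?_
    have e1 : (gT hF 0 β)⁻¹ * gT hF a b * gT hF 0 β = gT hF a b := by
      rw [mul_assoc, gT_central, ← mul_assoc, inv_mul_cancel, one_mul]
    rw [e1]
    exact subStab_gT hF K' ha hb
  obtain ⟨μ, hμK, hμ0, hμ1⟩ := subK_exists_ne K' hK' hk
  -- two non-commuting translations
  have hnc : gT hF 1 0 * gT hF μ 0 ≠ gT hF μ 0 * gT hF 1 0 := by
    intro h
    rw [gT_mul, gT_mul] at h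
    have h3 := (gT_injective hF h).2
    rw [szθ_one] at h3
    have h4 : szθ m μ = μ := by linear_combination -h3
    rcases szθ_fixed hF h4 with h5 | h5
    · exact hμ0 h5
    · exact hμ1 h5
  have h1K : (1 : F) ∈ K' := K'.one_mem
  have h0K : (0 : F) ∈ K' := K'.zero_mem
  obtain ⟨hLbot, hLsyl⟩ := bszf05_h13_noncomm (subStab m K') (gT hF 0 β) e _ _
    (hmem 1 0 h1K h0K) (hmem μ 0 hμK h0K) hnc
  -- `L = ⊤`
  have hL : ((subStab m K' ⊓ cj (subStab m K') (gT hF 0 β)).subgroupOf (subStab m K')).map e.toMonoidHom = ⊤ := by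
    by_contra hne
    rcases IH K k hKc hk hkm _ hne hB2 with h | h
    · exact hLbot h
    · exact hLsyl h
  have hle : subStab m K' ≤ cj (subStab m K') (gT hF 0 β) := bszf05_h13_top _ _ e hL
  -- the contradiction
  obtain ⟨l, hl⟩ : ∃ l : Fˣ, (l : F) = μ := ⟨Units.mk0 μ hμ0, rfl⟩
  have hl1 : l ≠ 1 := by
    intro h
    apply hμ1
    rw [← hl, h, Units.val_one]
  have hlK : (l : F) ∈ K' := by
    rw [hl]; exact hμK
  have hg1 : gD hF l ∈ subStab m K' := hF03 hlK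
  have hg2 : (gT hF 0 β)⁻¹ * gD hF l * gT hF 0 β ∈ subStab m K' :=
    (mem_map_conj_iff _ _ _).mp (hle hg1)
  have hνK : (l : F) ^ 2 * szθ m (l : F) ^ 2 ∈ K' :=
    K'.mul_mem (pow_mem hlK 2) (pow_mem (subK_szθ K' hlK) 2)
  have hν1 : (l : F) ^ 2 * szθ m (l : F) ^ 2 ≠ 1 := sz_nu_ne_one hF hl1
  have hcalc : (gT hF 0 β)⁻¹ * gD hF l * gT hF 0 β * (gD hF l)⁻¹ =
      gT hF 0 (β + (l : F) ^ 2 * szθ m (l : F) ^ 2 * β) := by
    have e1 : (gT hF 0 β)⁻¹ = gT hF 0 β := by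
      rw [gT_inv, zero_mul, add_zero]
    have e2 : gD hF l * gT hF 0 β * (gD hF l)⁻¹ = gT hF 0 ((l : F) ^ 2 * szθ m (l : F) ^ 2 * β) := by
      rw [gD_conj_gT, mul_zero]
    calc (gT hF 0 β)⁻¹ * gD hF l * gT hF 0 β * (gD hF l)⁻¹
        = (gT hF 0 β)⁻¹ * (gD hF l * gT hF 0 β * (gD hF l)⁻¹) := by group
      _ = gT hF 0 β * gT hF 0 ((l : F) ^ 2 * szθ m (l : F) ^ 2 * β) := by rw [e1, e2]
      _ = gT hF 0 (β + (l : F) ^ 2 * szθ m (l : F) ^ 2 * β) := by
        rw [gT_mul]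
        simp only [add_zero, mul_zero]
  have hg3 : gT hF 0 (β + (l : F) ^ 2 * szθ m (l : F) ^ 2 * β) ∈ subStab m K' := by
    rw [← hcalc]
    exact (subStab m K').mul_mem hg2 ((subStab m K').inv_mem hg1)
  have h3 : β + (l : F) ^ 2 * szθ m (l : F) ^ 2 * β ∈ K' := subStab_gT_zero hF K' hg3
  generalize (l : F) ^ 2 * szθ m (l : F) ^ 2 = ν at hνK hν1 h3
  have hne : (1 + ν) ≠ 0 := by
    intro h
    apply hν1
    linear_combination h - h2
  have h4 : (1 + ν) ∈ K' := K'.add_mem h1K hνK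
  have h5 : β = (1 + ν)⁻¹ * (β + ν * β) := by
    field_simp
  apply hβ
  rw [h5]
  exact K'.mul_mem (K'.inv_mem h4) h3

end Cfsg.Agent.Lib.helper3.BSZ
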