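import Mathlib
import Cfsg.Agent.Lib.helper3.BSZ.Defs
import Cfsg.Agent.Lib.Helper22.BSZF03
import Cfsg.Agent.Lib.Helper13.BSZF05h13

set_option autoImplicit false

namespace Cfsg.Agent.Lib.helper3.BSZ

open Cfsg Cfsg.Agent.Lib.helper3

variable {F : Type*} [Field F] [Fintype F] {m : ℕ}

/-- F05 [M-L] (cites A02, A06, A12, F01, F02, F03): `S := subStab m K'`, `β ∉ K'` (`Nat.card K' < card F`), `g := gT 0 β`.  A06 + A02: `L := ((S ⊓ cj S g).subgroupOf S).map e` is binary in `Sz K k`.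
`gT a b ∈ S ⊓ cj S g` for `a b ∈ K'` (F01; `g` commutes with `gT a b`: `gT_central`); `gT 1 0` and `gT a 0` (`a ∈ K'`, `a ≠ 0, 1`: `subK_exists_ne`) do not commute (`gT_comm`, `szθ_fixed`), so `L` is not commutative: `L ≠ ⊥` and `¬ IsSylCen L` (A12).
IH: `L = ⊤`, i.e. `S ≤ cj S g`.  Then for `κ ∈ K'`, `κ ≠ 0, 1`, `l : Fˣ` with `l^2 * szθ l ^2`... simply `l := κ` as a unit: `gD l ∈ S` (F03), so `g⁻¹ * gD l * g ∈ S`, and `g⁻¹ * gD l * g * (gD l)⁻¹ = gT 0 (β + ν β)`, `ν = l^2 szθ(l)^2 ∈ K'`, `ν ≠ 1`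
(`gD_conj_gT_zero`, `sz_nu_ne_one`), lies in `S`: F02 gives `(1 + ν) β ∈ K'`, so `β ∈ K'`.  Contradiction. -/
theorem S_case (hF : Fintype.card F = 2 ^ (2 * m + 1)) (hm : 1 ≤ m)
    (IH : ∀ (K : Type) [Field K] [Fintype K] (k : ℕ), Fintype.card K = 2 ^ (2 * k + 1) → 1 ≤ k → k < m →
      ∀ H' : Subgroup (Sz K k), H' ≠ ⊤ → BinH H' → (H' = ⊥ ∨ IsSylCen H'))
    (K' : Subfield F) (k : ℕ) (hk : 1 ≤ k) (hkm : k < m) (hK' : Nat.card K' = 2 ^ (2 * k + 1)) :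
    ¬ BinH (subStab m K') :=
  bszf05_h13_core hF hm IH K' k hk hkm hK' (fun h => subStab_gD hF K' h)

end Cfsg.Agent.Lib.helper3.BSZ
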