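import Cfsg.Agent.Lib.helper8.BTT.Defs
import Cfsg.Agent.Lib.Helper25.BTTGEN5

/-!
# BTT GEN7: conjugation by a graded isomorphism carries `Fil ℓ c` to `Fil ℓ' c` and `FilP ℓ` to
`FilP ℓ'`.  (helper13; extras `bttgen7_*`.)
-/

set_option autoImplicit false

namespace Cfsg.Agent.Lib.helper8.BTT

open Cfsg.Lie Cfsg.Lie.ChevalleyDatum

universe u

section gen
variable {ι : Type*} [Fintype ι] [DecidableEq ι] {F : Type*} [Field F]

/-- a non-zero entry of a triple product comes from a non-zero triple of entries -/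
theorem bttgen7_mul3_entry (A B C : Matrix ι ι F) (i j : ι) (h : (A * B * C) i j ≠ 0) :
    ∃ k l, A i k ≠ 0 ∧ B k l ≠ 0 ∧ C l j ≠ 0 := by
  classical
  rw [Matrix.mul_apply] at h
  obtain ⟨l, -, hl⟩ := Finset.exists_ne_zero_of_sum_ne_zero h
  have h1 : (A * B) i l ≠ 0 := left_ne_zero_of_mul hl
  have h2 : C l j ≠ 0 := right_ne_zero_of_mul hl
  rw [Matrix.mul_apply] at h1
  obtain ⟨k, -, hk⟩ := Finset.exists_ne_zero_of_sum_ne_zero h1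
  exact ⟨k, l, left_ne_zero_of_mul hk, right_ne_zero_of_mul hk, h2⟩

/-- `n g n⁻¹ - 1 = n (g - 1) n⁻¹` -/
theorem bttgen7_conj_sub_one (n g : GL ι F) :
    ((n * g * n⁻¹ : GL ι F) : Matrix ι ι F) - 1 =
      (n : Matrix ι ι F) * ((g : Matrix ι ι F) - 1) * ((n⁻¹ : GL ι F) : Matrix ι ι F) := by
  have hn : (n : Matrix ι ι F) * ((n⁻¹ : GL ι F) : Matrix ι ι F) = 1 := by
    rw [← Units.val_mul, mul_inv_cancel]; rfl
  rw [Units.val_mul, Units.val_mul, Matrix.mul_sub, Matrix.sub_mul, Matrix.mul_one, hn]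

/-- GEN7 [S-M]: conjugation by `Lev` (GEN5). -/
theorem lev_conj_fil (ℓ ℓ' : ι → ℝ) (c : ℝ) (n g : GL ι F)
    (hn : Lev ℓ ℓ' (n : Matrix ι ι F)) (hg : Fil ℓ c (g : Matrix ι ι F)) :
    Fil ℓ' c ((n * g * n⁻¹ : GL ι F) : Matrix ι ι F) := by
  intro i j hij
  rw [bttgen7_conj_sub_one] at hij
  obtain ⟨k, l, h1, h2, h3⟩ := bttgen7_mul3_entry _ _ _ i j hij
  have e1 : ℓ' i = ℓ k := hn i k h1
  have e2 : ℓ l = ℓ' j := lev_inv ℓ ℓ' n hn l j h3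
  have e3 : ℓ l + c ≤ ℓ k := hg k l h2
  rw [e1, ← e2]; exact e3

theorem lev_conj_filP (ℓ ℓ' : ι → ℝ) (n g : GL ι F)
    (hn : Lev ℓ ℓ' (n : Matrix ι ι F)) (hg : FilP ℓ (g : Matrix ι ι F)) :
    FilP ℓ' ((n * g * n⁻¹ : GL ι F) : Matrix ι ι F) := by
  intro i j hij
  rw [bttgen7_conj_sub_one] at hij
  obtain ⟨k, l, h1, h2, h3⟩ := bttgen7_mul3_entry _ _ _ i j hij
  have e1 : ℓ' i = ℓ k := hn i k h1
  have e2 : ℓ l = ℓ' j := lev_inv ℓ ℓ' n hn l j h3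
  have e3 : ℓ l < ℓ k := hg k l h2
  rw [e1, ← e2]; exact e3

end gen

end Cfsg.Agent.Lib.helper8.BTT
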