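import Cfsg.Agent.Lib.helper8.BTT.Defs
import Cfsg.Agent.Lib.Helper22.BTTGEN3
import Cfsg.Agent.Lib.Helper13.BTTGEN7

/-!
# BTT GEN6: conjugation by `Par ℓ` preserves `Fil ℓ c` and `FilP ℓ`.
(helper13; extras `bttgen6_*`.  The inverse of an element of `Par ℓ` over a finite field is in
`Par ℓ`: own-name spare `bttgen6_par_inv` of GEN4 `par_inv`, so that this file does not wait for it.)
-/

set_option autoImplicit false

namespace Cfsg.Agent.Lib.helper8.BTT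

open Cfsg.Lie Cfsg.Lie.ChevalleyDatum

universe u

section gen
variable {ι : Type*} [Fintype ι] [DecidableEq ι] {F : Type*} [Field F]

/-- powers of an element of `Par ℓ` -/
theorem bttgen6_par_pow (ℓ : ι → ℝ) (M : Matrix ι ι F) (h : Par ℓ M) (k : ℕ) : Par ℓ (M ^ k) := by
  induction k with
  | zero => rw [pow_zero]; exact par_one ℓ
  | succ k ih => rw [pow_succ]; exact par_mul ℓ _ _ ih h

/-- spare of GEN4 `par_inv` (finite field: the inverse is a power) -/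
theorem bttgen6_par_inv [Finite F] (ℓ : ι → ℝ) (g : GL ι F)
    (h : Par ℓ (g : Matrix ι ι F)) : Par ℓ ((g⁻¹ : GL ι F) : Matrix ι ι F) := by
  classical
  haveI : Finite (GL ι F) := inferInstance
  have hpos : 0 < orderOf g := (isOfFinOrder_of_finite g).orderOf_pos
  have e : g⁻¹ = g ^ (orderOf g - 1) := by
    apply inv_eq_of_mul_eq_one_right
    rw [← pow_succ', Nat.sub_add_cancel hpos, pow_orderOf_eq_one]
  rw [e, Units.val_pow_eq_pow_val]
  exact bttgen6_par_pow ℓ _ h _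

/-- core of GEN6 with the inverse hypothesis explicit (no finiteness) -/
theorem bttgen6_conj_fil (ℓ : ι → ℝ) (c : ℝ) (b g : GL ι F)
    (hb : Par ℓ (b : Matrix ι ι F)) (hb' : Par ℓ ((b⁻¹ : GL ι F) : Matrix ι ι F))
    (hg : Fil ℓ c (g : Matrix ι ι F)) :
    Fil ℓ c ((b * g * b⁻¹ : GL ι F) : Matrix ι ι F) := by
  intro i j hij
  rw [bttgen7_conj_sub_one] at hij
  obtain ⟨k, l, h1, h2, h3⟩ := bttgen7_mul3_entry _ _ _ i j hij
  have e1 : ℓ k ≤ ℓ i := hb i k h1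
  have e2 : ℓ j ≤ ℓ l := hb' l j h3
  have e3 : ℓ l + c ≤ ℓ k := hg k l h2
  linarith

theorem bttgen6_conj_filP (ℓ : ι → ℝ) (b g : GL ι F)
    (hb : Par ℓ (b : Matrix ι ι F)) (hb' : Par ℓ ((b⁻¹ : GL ι F) : Matrix ι ι F))
    (hg : FilP ℓ (g : Matrix ι ι F)) :
    FilP ℓ ((b * g * b⁻¹ : GL ι F) : Matrix ι ι F) := by
  intro i j hij
  rw [bttgen7_conj_sub_one] at hij
  obtain ⟨k, l, h1, h2, h3⟩ := bttgen7_mul3_entry _ _ _ i j hij
  have e1 : ℓ k ≤ ℓ i := hb i k h1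
  have e2 : ℓ j ≤ ℓ l := hb' l j h3
  have e3 : ℓ l < ℓ k := hg k l h2
  linarith

/-- GEN6 [S-M]: conjugation by `Par` (GEN1-4). -/
theorem par_conj_fil [Finite F] (ℓ : ι → ℝ) (c : ℝ) (b g : GL ι F)
    (hb : Par ℓ (b : Matrix ι ι F)) (hg : Fil ℓ c (g : Matrix ι ι F)) :
    Fil ℓ c ((b * g * b⁻¹ : GL ι F) : Matrix ι ι F) :=
  bttgen6_conj_fil ℓ c b g hb (bttgen6_par_inv ℓ b hb) hg

theorem par_conj_filP [Finite F] (ℓ : ι → ℝ) (b g : GL ι F)
    (hb : Par ℓ (b : Matrix ι ι F)) (hg : FilP ℓ (g : Matrix ι ι F)) :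
    FilP ℓ ((b * g * b⁻¹ : GL ι F) : Matrix ι ι F) :=
  bttgen6_conj_filP ℓ b g hb (bttgen6_par_inv ℓ b hb) hg

end gen

end Cfsg.Agent.Lib.helper8.BTT
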