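import Mathlib
import Cfsg.Agent.Lib.helper7.Br.Defs

/-!
Project Brandt (S4607), piece MD1: `A = ⊕ u i j • C` for the centralizer `C` of a full system of
matrix units, hence `finrank A = n ^ 2 * finrank C`.
-/

set_option autoImplicit false

namespace Cfsg.Agent.Lib.Helper13.Br

open Cfsg.Agent.Lib.helper7 Cfsg.Agent.Lib.helper7.Br
open scoped ComplexConjugate

section algstmts

variable {F A : Type*} [Field F] [Ring A] [Algebra F A]

/-- the coefficient `c_ij(a) = Σ_k u k i · a · u j k` -/
noncomputable def md1coef {n : ℕ} (u : Fin n → Fin n → A) (i j : Fin n) (a : A) : A :=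
  ∑ k, u k i * a * u j k

theorem md1coef_mem {n : ℕ} (u : Fin n → Fin n → A) (hu : IsMatUnits u) (i j : Fin n) (a : A) :
    md1coef u i j a ∈ cenU F u := by
  classical
  rw [mem_cenU]
  intro p q
  unfold md1coef
  rw [Finset.mul_sum, Finset.sum_mul]
  have h1 : ∀ k, u p q * (u k i * a * u j k) = if q = k then u p i * a * u j k else 0 := by
    intro k
    rw [← mul_assoc, ← mul_assoc, hu.1]
    split_ifs <;> simp
  have h2 : ∀ k, u k i * a * u j k * u p q = if k = p then u k i * a * u j q else 0 := by
    intro k
    rw [mul_assoc, hu.1]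
    split_ifs <;> simp
  simp only [h1, h2]
  rw [Finset.sum_ite_eq, Finset.sum_ite_eq']
  simp

theorem md1_sum_coef {n : ℕ} (u : Fin n → Fin n → A) (hu : IsMatUnits u) (a : A) :
    ∑ i, ∑ j, md1coef u i j a * u i j = a := by
  classical
  have h : ∀ i j, md1coef u i j a * u i j = u i i * a * u j j := by
    intro i j
    unfold md1coef
    rw [Finset.sum_mul]
    have h2 : ∀ k, u k i * a * u j k * u i j = if k = i then u k i * a * u j j else 0 := by
      intro k
      rw [mul_assoc, hu.1]
      split_ifs <;> simp
    simp only [h2]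
    rw [Finset.sum_ite_eq']
    simp
  simp only [h]
  simp only [← Finset.mul_sum, ← Finset.sum_mul]
  rw [hu.2, one_mul, mul_one]

theorem md1_coef_sum {n : ℕ} (u : Fin n → Fin n → A) (hu : IsMatUnits u)
    (c : Fin n → Fin n → A) (hc : ∀ p q, c p q ∈ cenU F u) (i j : Fin n) :
    md1coef u i j (∑ p, ∑ q, c p q * u p q) = c i j := by
  classical
  unfold md1coef
  have h : ∀ k, u k i * (∑ p, ∑ q, c p q * u p q) * u j k = c i j * u k k := by
    intro k
    rw [Finset.mul_sum, Finset.sum_mul]
    have h3 : ∀ p, u k i * (∑ q, c p q * u p q) * u j k =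
        if i = p then c p j * u k k else 0 := by
      intro p
      rw [Finset.mul_sum, Finset.sum_mul]
      have h4 : ∀ q, u k i * (c p q * u p q) * u j k =
          if i = p then (if q = j then c p q * u k k else 0) else 0 := by
        intro q
        have hcomm := (mem_cenU (F := F) u (c p q)).mp (hc p q) k i
        rw [← mul_assoc, hcomm, mul_assoc, mul_assoc, hu.1 p q j k]
        by_cases hqj : q = j
        · rw [if_pos hqj, hu.1 k i p k]
          by_cases hip : i = p
          · simp [hip, hqj]
          · simp [hip]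
        · rw [if_neg hqj, mul_zero, mul_zero]
          simp [hqj]
      simp only [h4]
      by_cases hip : i = p
      · simp only [hip, if_true]
        rw [Finset.sum_ite_eq']
        simp
      · simp [hip]
    simp only [h3]
    rw [Finset.sum_ite_eq]
    simp
  simp only [h]
  rw [← Finset.mul_sum, hu.2, mul_one]

/-- the linear equivalence `(Fin n × Fin n → C) ≃ A` -/
noncomputable def md1equiv {n : ℕ} (u : Fin n → Fin n → A) (hu : IsMatUnits u) :
    (Fin n × Fin n → ↥(cenU F u)) ≃ₗ[F] A where
  toFun c := ∑ p, ∑ q, (c (p, q) : A) * u p q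
  map_add' c d := by
    simp only [Pi.add_apply, Subalgebra.coe_add, add_mul, Finset.sum_add_distrib]
  map_smul' r c := by
    simp only [Pi.smul_apply, Subalgebra.coe_smul, smul_mul_assoc, ← Finset.smul_sum,
      RingHom.id_apply]
  invFun a := fun ij => ⟨md1coef u ij.1 ij.2 a, md1coef_mem u hu ij.1 ij.2 a⟩
  left_inv c := by
    funext ij
    apply Subtype.ext
    exact md1_coef_sum (F := F) u hu (fun p q => (c (p, q) : A)) (fun p q => (c (p, q)).2) ij.1 ij.2
  right_inv a := by
    exact md1_sum_coef u hu a

/-- MD1 : `A = ⊕ u i j • C` for the centralizer `C` of the matrix units. -/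
theorem matUnits_finrank [FiniteDimensional F A] {n : ℕ} (u : Fin n → Fin n → A)
    (hu : IsMatUnits u) :
    Module.finrank F A = n ^ 2 * Module.finrank F ↥(cenU F u) := by
  rw [← (md1equiv (F := F) u hu).finrank_eq, Module.finrank_pi_fintype]
  simp only [Finset.sum_const, Finset.card_univ, Fintype.card_prod, Fintype.card_fin,
    smul_eq_mul]
  ring

end algstmts

end Cfsg.Agent.Lib.Helper13.Br
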