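import Mathlib
import Cfsg.Agent.Lib.helper7.Br.Defs

/-!
Project Brandt (S4607), piece MU: matrix units lift modulo a nilpotent two-sided ideal.
-/

set_option autoImplicit false

namespace Cfsg.Agent.Lib.Helper13.Br

open Cfsg.Agent.Lib.helper7 Cfsg.Agent.Lib.helper7.Br
open scoped ComplexConjugate

/-- abstract form: matrix units lift along a surjective ring hom with nil kernel -/
theorem lift_matUnits {A Q : Type*} [Ring A] [Ring Q] (π : A →+* Q)
    (hπ : Function.Surjective π) (hker : ∀ x ∈ RingHom.ker π, IsNilpotent x) {n : ℕ}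
    (ε : Fin n → Fin n → Q) (hε : IsMatUnits ε) :
    ∃ u : Fin n → Fin n → A, IsMatUnits u ∧ ∀ i j, π (u i j) = ε i j := by
  classical
  rcases n with _ | n
  · have h1 : (1 : Q) = 0 := by
      rw [← hε.2]
      simp
    have h2 : (1 : A) ∈ RingHom.ker π := by rw [RingHom.mem_ker, map_one, h1]
    obtain ⟨m, hm⟩ := hker 1 h2
    rw [one_pow] at hm
    refine ⟨fun i _ => i.elim0, ⟨fun i => i.elim0, ?_⟩, fun i => i.elim0⟩
    simp [hm]
  · have hεm := hε.1
    have hcoi : CompleteOrthogonalIdempotents (fun i => ε i i) := by
      refine ⟨⟨fun i => ?_, fun i j hij => ?_⟩, hε.2⟩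
      · show ε i i * ε i i = ε i i
        rw [hεm]
        simp
      · show ε i i * ε j j = 0
        rw [hεm]
        simp [hij]
    obtain ⟨e, he, hπe⟩ := hcoi.lift_of_isNilpotent_ker π hker
      (fun i => RingHom.mem_range.mpr (hπ _))
    have hπe' : ∀ i, π (e i) = ε i i := fun i => congr_fun hπe i
    have hee : ∀ i j, e i * e j = if i = j then e i else 0 := he.toOrthogonalIdempotents.mul_eq
    have hee0 : ∀ i, e i * e i = e i := fun i => by rw [hee]; simp
    choose a ha using fun i => hπ (ε i 0)
    choose b hb using fun i => hπ (ε 0 i)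
    -- first approximations
    have hνnil : ∀ i, IsNilpotent (e 0 - (e 0 * b i * e i) * (e i * a i * e 0)) := by
      intro i
      apply hker
      rw [RingHom.mem_ker]
      simp [hπe', ha, hb, hεm]
    choose t ht using fun i => (hνnil i).isUnit_one_sub.exists_left_inv
    have hπt : ∀ i, π (t i) = 1 := by
      intro i
      have h := congrArg π (ht i)
      simpa [hπe', ha, hb, hεm] using h
    -- the corrected elements
    set v : Fin (n + 1) → A := fun i => e i * a i * e 0 with hv
    set w : Fin (n + 1) → A := fun i => e 0 * t i * (e 0 * b i * e i) with hw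
    have hv1 : ∀ i, e i * v i = v i := by
      intro i
      simp only [hv, ← mul_assoc, hee0]
    have hv2 : ∀ i, v i * e 0 = v i := by
      intro i
      simp only [hv, mul_assoc, hee0]
    have hw1 : ∀ i, e 0 * w i = w i := by
      intro i
      simp only [hw, ← mul_assoc, hee0]
    have hw2 : ∀ i, w i * e i = w i := by
      intro i
      simp only [hw, mul_assoc, hee0]
    have hwv : ∀ i, w i * v i = e 0 := by
      intro i
      have h1 : (e 0 * b i * e i) * (e i * a i * e 0) =
          (1 - (e 0 - (e 0 * b i * e i) * (e i * a i * e 0))) * e 0 := by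
        rw [sub_mul, sub_mul, one_mul, mul_assoc (e 0 * b i * e i) (e i * a i * e 0) (e 0)]
        have : e i * a i * e 0 * e 0 = e i * a i * e 0 := by rw [mul_assoc, hee0]
        rw [this, hee0]
        abel
      calc w i * v i = e 0 * t i * ((e 0 * b i * e i) * (e i * a i * e 0)) := by
            simp only [hw, hv, mul_assoc]
        _ = e 0 * (t i * (1 - (e 0 - (e 0 * b i * e i) * (e i * a i * e 0)))) * e 0 := by
            rw [mul_assoc (e 0) _ (e 0), mul_assoc (t i) _ (e 0), ← mul_assoc (e 0) (t i) _]
            exact congrArg (fun z => e 0 * t i * z) h1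
        _ = e 0 := by rw [ht, mul_one, hee0]
    have hπv : ∀ i, π (v i) = ε i 0 := by
      intro i
      simp [hv, hπe', ha, hεm]
    have hπw : ∀ i, π (w i) = ε 0 i := by
      intro i
      simp [hw, hπe', hb, hεm, hπt]
    have hvw : ∀ i, v i * w i = e i := by
      intro i
      have hg1 : e i * (v i * w i) = v i * w i := by rw [← mul_assoc, hv1]
      have hg2 : (v i * w i) * e i = v i * w i := by rw [mul_assoc, hw2]
      have hgg : (v i * w i) * (v i * w i) = v i * w i := by
        calc (v i * w i) * (v i * w i) = v i * (w i * v i) * w i := by simp only [mul_assoc]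
          _ = v i * w i := by rw [hwv, hv2]
      have hidem : IsIdempotentElem (e i - v i * w i) := by
        unfold IsIdempotentElem
        rw [mul_sub, sub_mul, sub_mul, hee0, hg1, hg2, hgg]
        abel
      have hnil : IsNilpotent (e i - v i * w i) := by
        apply hker
        rw [RingHom.mem_ker, map_sub, map_mul, hπv, hπw, hπe', hεm]
        simp
      have := hidem.eq_zero_of_isNilpotent hnil
      exact (sub_eq_zero.mp this).symm
    refine ⟨fun i j => v i * w j, ⟨?_, ?_⟩, ?_⟩
    · intro i j k l
      show v i * w j * (v k * w l) = if j = k then v i * w l else 0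
      by_cases hjk : j = k
      · subst hjk
        rw [if_pos rfl]
        calc v i * w j * (v j * w l) = v i * (w j * v j) * w l := by simp only [mul_assoc]
          _ = v i * w l := by rw [hwv, hv2]
      · rw [if_neg hjk]
        calc v i * w j * (v k * w l) = v i * (w j * e j) * (e k * v k) * w l := by
              rw [hw2, hv1]
              simp only [mul_assoc]
          _ = v i * w j * (e j * e k) * v k * w l := by simp only [mul_assoc]
          _ = 0 := by rw [hee, if_neg hjk]; simp
    · show ∑ i, v i * w i = 1
      simp only [hvw]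
      exact he.complete
    · intro i j
      show π (v i * w j) = ε i j
      rw [map_mul, hπv, hπw, hεm]
      simp

section algstmts

variable {F A : Type*} [Field F] [Ring A] [Algebra F A]

/-- MU : matrix units lift modulo a nilpotent two-sided ideal. -/
theorem exists_matUnits (J : Ideal A) [J.IsTwoSided] (hJ : NilSet (J : Set A)) (n : ℕ)
    (φ : (A ⧸ J) ≃ₐ[F] Matrix (Fin n) (Fin n) F) :
    ∃ u : Fin n → Fin n → A, IsMatUnits u ∧
      ∀ i j, φ (Ideal.Quotient.mk J (u i j)) = Matrix.single i j 1 := by
  classical
  have hnil : ∀ x ∈ RingHom.ker (Ideal.Quotient.mk J), IsNilpotent x := by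
    intro x hx
    rw [Ideal.mk_ker] at hx
    obtain ⟨m, hm⟩ := hJ
    refine ⟨m, ?_⟩
    have := hm (List.replicate m x) (List.length_replicate) (fun y hy => by
      rw [List.eq_of_mem_replicate hy]
      exact hx)
    rwa [List.prod_replicate] at this
  have hε : IsMatUnits (fun i j : Fin n => φ.symm (Matrix.single i j (1 : F))) := by
    refine ⟨fun i j k l => ?_, ?_⟩
    · show φ.symm _ * φ.symm _ = _
      rw [← map_mul]
      by_cases hjk : j = k
      · subst hjk
        rw [if_pos rfl, Matrix.single_mul_single_same, mul_one]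
      · rw [if_neg hjk, Matrix.single_mul_single_of_ne _ _ _ _ hjk, map_zero]
    · show ∑ i, φ.symm (Matrix.single i i (1 : F)) = 1
      rw [← map_sum, Matrix.sum_single_one, map_one]
  obtain ⟨u, hu, hπu⟩ := lift_matUnits (Ideal.Quotient.mk J) Ideal.Quotient.mk_surjective hnil _ hε
  refine ⟨u, hu, fun i j => ?_⟩
  rw [hπu]
  exact φ.apply_symm_apply _

end algstmts

end Cfsg.Agent.Lib.Helper13.Br
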