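import Mathlib
import Cfsg.Agent.Lib.Lead.Co2A
import Cfsg.Agent.Lib.helper7.Co1B

set_option autoImplicit false
set_option linter.style.haveILetI false

/-!
Project C1O (S2069), piece MAX: a subgroup of `Co0` containing `-1`, the stabiliser of a minimal
vector `v` and an element moving `v` off `±v` is everything.
-/

namespace Cfsg.Agent.Lib.Helper13.Co1O

open Cfsg MulAction
open Cfsg.Agent.Lib.Lead.CW Cfsg.Agent.Lib.Lead.C2 Cfsg.Agent.Lib.helper7.Co1 Cfsg.Agent.S1571
open Cfsg.Agent.Lib.Lead.R3S Cfsg.Agent.Lib.Lead.R4S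

theorem stab_max (v : ↥leechLattice) (hv : sqNorm v.1 = 32) (M : Subgroup ↥Co0)
    (hneg : negE ∈ M) (hst : stabilizer ↥Co0 v ≤ M) (b : ↥Co0) (hb : b ∈ M)
    (hb1 : b.1 v ≠ v) (hb2 : b.1 v ≠ -v) : M = ⊤ := by
  classical
  set O := orb M v with hO
  have hOM : O ⊆ Mn := by
    rw [← orbit_eq_Mn v hv]
    exact orb_sub M
  have hOf : O.Finite := Mn_finite.subset hOM
  have hvO : v ∈ O := ⟨1, M.one_mem, one_smul _ _⟩
  have hnvO : -v ∈ O := ⟨negE, hneg, rfl⟩
  have hbO : b.1 v ∈ O := ⟨b, hb, rfl⟩
  have hcard : O.ncard = (stabilizer ↥Co0 v).relIndex M := ncard_orb M v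
  have hmul : (stabilizer ↥Co0 v).relIndex M * M.index = 196560 := by
    rw [Subgroup.relIndex_mul_index hst, index_stab v hv]
  have hdvd : O.ncard ∣ 196560 := ⟨M.index, by rw [hcard, hmul]⟩
  -- elements mapping `v` to `±v` lie in `M`
  have kM : ∀ k : ↥Co0, (k.1 v = v ∨ k.1 v = -v) → k ∈ M := by
    intro k hk
    rcases hk with hk | hk
    · exact hst (mem_stabilizer_iff.2 hk)
    · have h1 : negE * k ∈ M := hst (mem_stabilizer_iff.2 (by
        show negE.1 (k.1 v) = v
        rw [hk, negE_apply, neg_neg]))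
      have h2 : k = negE * (negE * k) := by rw [← mul_assoc, negE_sq, one_mul]
      rw [h2]
      exact M.mul_mem hneg h1
  have full : ∀ d : ℤ, (d = -16 ∨ d = 16 ∨ d = -8 ∨ d = 8 ∨ d = 0) →
      (∃ y ∈ A v d, y ∈ O) → A v d ⊆ O := by
    rintro d hd ⟨y, hy, ⟨m, hm, rfl⟩⟩ y' hy'
    obtain ⟨k, hk, hk'⟩ := trans_A v hv d hd _ y' hy hy'
    exact ⟨k * m, M.mul_mem (kM k hk) hm, by rw [mul_smul]; exact hk'⟩
  obtain ⟨c1, c2, c3, c4, c5⟩ := ncard_A v hv
  have hself : dotInt v.1 v.1 = 32 := by rw [Cfsg.Agent.Lib.Lead.CP.dot_self, hv]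
  have hfib := ncard_fiberwise O hOf (fun w => dotInt v.1 w.1)
    ({32, -32, -16, 16, -8, 8, 0} : Finset ℤ) (by
      intro y hy
      have hy' : sqNorm y.1 = 32 := hOM hy
      simp only [Finset.mem_insert, Finset.mem_singleton]
      rcases dot_vals v y hv hy' with h | h | h | h | h | h | h
      · left; rw [h]; exact hself
      · right; left; rw [h, dot_neg_r, hself]
      · right; right; left; exact h
      · right; right; right; left; exact h
      · right; right; right; right; left; exact h
      · right; right; right; right; right; left; exact h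
      · right; right; right; right; right; right; exact h)
  have e32 : O ∩ {y | dotInt v.1 y.1 = 32} = {v} := by
    ext y
    simp only [Set.mem_inter_iff, Set.mem_ofPred_eq, Set.mem_singleton_iff]
    constructor
    · rintro ⟨h1, h2⟩
      exact eq_of_dot_32 v y hv (hOM h1) h2
    · rintro rfl
      exact ⟨hvO, hself⟩
  have en32 : O ∩ {y | dotInt v.1 y.1 = -32} = {-v} := by
    ext y
    simp only [Set.mem_inter_iff, Set.mem_ofPred_eq, Set.mem_singleton_iff]
    constructor
    · rintro ⟨h1, h2⟩
      exact eq_of_dot_neg32 v y hv (hOM h1) h2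
    · rintro rfl
      exact ⟨hnvO, by rw [dot_neg_r, hself]⟩
  have eA : ∀ d : ℤ, O ∩ {y | dotInt v.1 y.1 = d} = A v d ∩ O := by
    intro d
    ext y
    simp only [Set.mem_inter_iff, Set.mem_ofPred_eq]
    constructor
    · rintro ⟨h1, h2⟩
      exact ⟨⟨hOM h1, h2⟩, h1⟩
    · rintro ⟨h1, h2⟩
      exact ⟨h2, h1.2⟩
  -- at least three points
  have h3 : 3 ≤ O.ncard := by
    have hsub : ({b.1 v, v, -v} : Set ↥leechLattice) ⊆ O := by
      intro y hy
      rcases hy with rfl | rfl | rfl
      · exact hbO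
      · exact hvO
      · exact hnvO
    have hc : ({b.1 v, v, -v} : Set ↥leechLattice).ncard = 3 := by
      rw [Set.ncard_insert_of_notMem, Set.ncard_pair (ne_neg_self v hv)]
      intro h
      rcases h with h | h
      · exact hb1 h
      · exact hb2 h
    rw [← hc]
    exact Set.ncard_le_ncard hsub hOf
  have hfinal : O.ncard = 196560 := by
    rw [Finset.sum_insert (by decide), Finset.sum_insert (by decide), Finset.sum_insert (by decide),
      Finset.sum_insert (by decide), Finset.sum_insert (by decide), Finset.sum_insert (by decide),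
      Finset.sum_singleton, e32, en32, Set.ncard_singleton, Set.ncard_singleton,
      eA, eA, eA, eA, eA] at hfib
    rw [hfib] at hdvd h3 ⊢
    rcases inter_cases O (A v (-16)) 4600 c1 (full (-16) (by norm_num)) with a1 | a1 <;>
    rcases inter_cases O (A v 16) 4600 c2 (full 16 (by norm_num)) with a2 | a2 <;>
    rcases inter_cases O (A v (-8)) 47104 c3 (full (-8) (by norm_num)) with a3 | a3 <;>
    rcases inter_cases O (A v 8) 47104 c4 (full 8 (by norm_num)) with a4 | a4 <;>
    rcases inter_cases O (A v 0) 93150 c5 (full 0 (by norm_num)) with a5 | a5 <;>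
    rw [a1, a2, a3, a4, a5] at hdvd h3 ⊢ <;>
    first
      | rfl
      | (exfalso; revert h3; decide)
      | (exfalso; revert hdvd; decide)
  rw [hcard] at hfinal
  rw [hfinal] at hmul
  have hidx : M.index = 1 := by
    have : 196560 * M.index = 196560 * 1 := by rw [hmul]
    exact Nat.eq_of_mul_eq_mul_left (by norm_num) this
  exact Subgroup.index_eq_one.mp hidx

end Cfsg.Agent.Lib.Helper13.Co1O
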