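import Mathlib

/-!
# C3S (helper8, S5664): abstract Step C toolbox — `End_F(K) = ⊕_{σ ∈ Gal(K/F)} K σ`

`F ⊆ K` finite fields.  Everything is indexed by `σ : K ≃ₐ[F] K` (no Frobenius exponents).
-/

set_option autoImplicit false

namespace Cfsg.Agent.Lib.Helper13.C3SGal

open scoped BigOperators

variable {F K : Type*} [Field F] [Field K] [Algebra F K]

/-- `gterm a σ : x ↦ a * σ x`. -/
noncomputable def gterm (a : K) (σ : K ≃ₐ[F] K) : K →ₗ[F] K :=
  (LinearMap.mulLeft F a).comp σ.toLinearMap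

@[simp] theorem gterm_apply (a : K) (σ : K ≃ₐ[F] K) (x : K) : gterm a σ x = a * σ x := rfl

theorem gterm_eq_smul (a : K) (σ : K ≃ₐ[F] K) : gterm (F := F) a σ = a • σ.toLinearMap := by
  ext x; simp

theorem gterm_zero (σ : K ≃ₐ[F] K) : gterm (F := F) (0 : K) σ = 0 := by
  ext x; simp

theorem gterm_add (a b : K) (σ : K ≃ₐ[F] K) : gterm (F := F) (a + b) σ = gterm a σ + gterm b σ := by
  ext x; simp [add_mul]

theorem gterm_neg (a : K) (σ : K ≃ₐ[F] K) : gterm (F := F) (-a) σ = - gterm a σ := by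
  ext x; simp

theorem gterm_sub (a b : K) (σ : K ≃ₐ[F] K) : gterm (F := F) (a - b) σ = gterm a σ - gterm b σ := by
  ext x; simp [sub_mul]

theorem gterm_comp (a b : K) (σ τ : K ≃ₐ[F] K) :
    (gterm a σ).comp (gterm b τ) = gterm (a * σ b) (σ * τ) := by
  ext x; simp [mul_assoc]

theorem gterm_one_one : gterm (F := F) (1 : K) 1 = LinearMap.id := by
  ext x; simp

theorem linearIndependent_gal :
    LinearIndependent K (fun σ : K ≃ₐ[F] K => (σ.toLinearMap : K →ₗ[F] K)) := by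
  have h := linearIndependent_algHom_toLinearMap F K K
  have hinj : Function.Injective (fun σ : K ≃ₐ[F] K => (σ : K →ₐ[F] K)) := by
    intro σ τ hst
    ext x
    exact congrArg (fun f : K →ₐ[F] K => f x) hst
  exact h.comp _ hinj

section fin

variable [Finite K]

theorem gal_span_top :
    ⊤ ≤ Submodule.span K (Set.range fun σ : K ≃ₐ[F] K => (σ.toLinearMap : K →ₗ[F] K)) := by
  classical
  haveI : Fintype (K ≃ₐ[F] K) := Fintype.ofFinite _
  have hcard : Fintype.card (K ≃ₐ[F] K) = Module.finrank K (K →ₗ[F] K) := by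
    rw [Module.finrank_linearMap_self, ← IsGalois.card_aut_eq_finrank F K,
      Nat.card_eq_fintype_card]
  exact (linearIndependent_gal.span_eq_top_of_card_eq_finrank hcard).ge

/-- the `K`-basis `σ ↦ σ` of `End_F(K)`. -/
noncomputable def galBasis : Module.Basis (K ≃ₐ[F] K) K (K →ₗ[F] K) :=
  Module.Basis.mk linearIndependent_gal gal_span_top

theorem galBasis_apply (σ : K ≃ₐ[F] K) : galBasis (F := F) (K := K) σ = σ.toLinearMap := by
  simp [galBasis]

/-- the coefficient of `σ` in `β = ∑ a_σ σ`. -/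
noncomputable def coef (β : K →ₗ[F] K) (σ : K ≃ₐ[F] K) : K := galBasis.repr β σ

theorem coef_add (β γ : K →ₗ[F] K) (σ : K ≃ₐ[F] K) : coef (β + γ) σ = coef β σ + coef γ σ := by
  simp [coef]

theorem coef_zero (σ : K ≃ₐ[F] K) : coef (0 : K →ₗ[F] K) σ = 0 := by
  simp [coef]

theorem coef_neg (β : K →ₗ[F] K) (σ : K ≃ₐ[F] K) : coef (-β) σ = - coef β σ := by
  simp [coef]

theorem coef_sub (β γ : K →ₗ[F] K) (σ : K ≃ₐ[F] K) : coef (β - γ) σ = coef β σ - coef γ σ := by
  simp [coef]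

theorem coef_smul (a : K) (β : K →ₗ[F] K) (σ : K ≃ₐ[F] K) : coef (a • β) σ = a * coef β σ := by
  simp [coef]

theorem coef_gterm (a : K) (σ τ : K ≃ₐ[F] K) [Decidable (σ = τ)] :
    coef (gterm (F := F) a σ) τ = if σ = τ then a else 0 := by
  classical
  rw [gterm_eq_smul, coef_smul, coef, ← galBasis_apply, Module.Basis.repr_self,
    Finsupp.single_apply]
  split_ifs <;> simp

theorem coef_gterm_self (a : K) (σ : K ≃ₐ[F] K) : coef (gterm (F := F) a σ) σ = a := by
  classical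
  rw [coef_gterm, if_pos rfl]

theorem coef_gterm_ne (a : K) {σ τ : K ≃ₐ[F] K} (h : σ ≠ τ) : coef (gterm (F := F) a σ) τ = 0 := by
  classical
  rw [coef_gterm, if_neg h]

theorem coef_sum {ι : Type*} (s : Finset ι) (f : ι → (K →ₗ[F] K)) (σ : K ≃ₐ[F] K) :
    coef (∑ i ∈ s, f i) σ = ∑ i ∈ s, coef (f i) σ := by
  simp [coef]

/-- expansion. -/
theorem eq_sum_gterm [Fintype (K ≃ₐ[F] K)] (β : K →ₗ[F] K) :
    β = ∑ σ : K ≃ₐ[F] K, gterm (coef β σ) σ := by
  conv_lhs => rw [← galBasis.sum_repr β]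
  refine Finset.sum_congr rfl fun σ _ => ?_
  rw [gterm_eq_smul, galBasis_apply, coef]

theorem ext_coef {β γ : K →ₗ[F] K} (h : ∀ σ, coef β σ = coef γ σ) : β = γ := by
  apply galBasis.repr.injective
  ext σ
  exact h σ

theorem coef_eq_of_eq_sum [Fintype (K ≃ₐ[F] K)] (a : (K ≃ₐ[F] K) → K) (τ : K ≃ₐ[F] K) :
    coef (∑ σ : K ≃ₐ[F] K, gterm (F := F) (a σ) σ) τ = a τ := by
  classical
  rw [coef_sum, Finset.sum_eq_single τ]
  · exact coef_gterm_self _ _
  · intro σ _ hσ
    exact coef_gterm_ne _ hσ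
  · intro h
    exact absurd (Finset.mem_univ τ) h

theorem comp_eq_sum [Fintype (K ≃ₐ[F] K)] (β γ : K →ₗ[F] K) :
    β.comp γ = ∑ σ : K ≃ₐ[F] K, ∑ τ : K ≃ₐ[F] K,
      gterm (coef β σ * σ (coef γ τ)) (σ * τ) := by
  conv_lhs => rw [eq_sum_gterm β, eq_sum_gterm γ]
  ext x
  simp only [LinearMap.comp_apply, LinearMap.sum_apply, gterm_apply, map_sum, map_mul,
    AlgEquiv.mul_apply, mul_assoc]
  exact Finset.sum_comm

theorem coef_comp [Fintype (K ≃ₐ[F] K)] (β γ : K →ₗ[F] K) (ρ : K ≃ₐ[F] K) :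
    coef (β.comp γ) ρ = ∑ σ : K ≃ₐ[F] K, coef β σ * σ (coef γ (σ⁻¹ * ρ)) := by
  classical
  rw [comp_eq_sum, coef_sum]
  refine Finset.sum_congr rfl fun σ _ => ?_
  rw [coef_sum, Finset.sum_eq_single (σ⁻¹ * ρ)]
  · rw [coef_gterm, if_pos (by group)]
  · intro τ _ hτ
    rw [coef_gterm, if_neg]
    intro h'
    apply hτ
    rw [← h']
    group
  · intro h
    exact absurd (Finset.mem_univ _) h

/-! ## The trace adjoint -/

/-- the adjoint of `β` for the trace form `(x, y) ↦ Tr (x y)`. -/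
noncomputable def tadj (β : K →ₗ[F] K) : K →ₗ[F] K :=
  (Algebra.traceForm F K).leftAdjointOfNondegenerate (traceForm_nondegenerate F K) β

theorem tadj_spec (β : K →ₗ[F] K) (x y : K) :
    Algebra.trace F K (tadj β x * y) = Algebra.trace F K (x * β y) := by
  have h := LinearMap.BilinForm.isAdjointPairLeftAdjointOfNondegenerate (Algebra.traceForm F K)
    (traceForm_nondegenerate F K) β x y
  rw [Algebra.traceForm_apply, Algebra.traceForm_apply] at h
  exact h

theorem tadj_spec' (β : K →ₗ[F] K) (x y : K) :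
    Algebra.trace F K (β x * y) = Algebra.trace F K (x * tadj β y) := by
  rw [mul_comm (β x) y, ← tadj_spec, mul_comm]

theorem tadj_unique {β γ : K →ₗ[F] K}
    (h : ∀ x y, Algebra.trace F K (γ x * y) = Algebra.trace F K (x * β y)) : tadj β = γ := by
  have h1 : LinearMap.IsAdjointPair (Algebra.traceForm F K) (Algebra.traceForm F K) γ β := by
    intro x y
    simpa [Algebra.traceForm_apply] using h x y
  exact ((LinearMap.BilinForm.isAdjointPair_iff_eq_of_nondegenerate (Algebra.traceForm F K)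
    (traceForm_nondegenerate F K) γ β).mp h1).symm

theorem tadj_gterm (a : K) (σ : K ≃ₐ[F] K) :
    tadj (gterm (F := F) a σ) = gterm (σ⁻¹ a) σ⁻¹ := by
  apply tadj_unique
  intro x y
  have h := Algebra.trace_eq_of_algEquiv σ (σ⁻¹ a * σ⁻¹ x * y)
  rw [gterm_apply, gterm_apply, ← h]
  congr 1
  simp only [map_mul]
  have e1 : σ (σ⁻¹ a) = a := by
    rw [← AlgEquiv.mul_apply, mul_inv_cancel, AlgEquiv.one_apply]
  have e2 : σ (σ⁻¹ x) = x := by
    rw [← AlgEquiv.mul_apply, mul_inv_cancel, AlgEquiv.one_apply]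
  rw [e1, e2]
  ring

theorem tadj_add (β γ : K →ₗ[F] K) : tadj (β + γ) = tadj β + tadj γ := by
  apply tadj_unique
  intro x y
  simp only [LinearMap.add_apply, add_mul, mul_add, map_add, tadj_spec]

theorem tadj_zero : tadj (0 : K →ₗ[F] K) = 0 := by
  apply tadj_unique
  intro x y
  simp

theorem tadj_neg (β : K →ₗ[F] K) : tadj (-β) = - tadj β := by
  apply tadj_unique
  intro x y
  simp only [LinearMap.neg_apply, neg_mul, mul_neg, map_neg, tadj_spec]

theorem tadj_sub (β γ : K →ₗ[F] K) : tadj (β - γ) = tadj β - tadj γ := by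
  rw [sub_eq_add_neg, tadj_add, tadj_neg, sub_eq_add_neg]

theorem tadj_sum {ι : Type*} (s : Finset ι) (f : ι → (K →ₗ[F] K)) :
    tadj (∑ i ∈ s, f i) = ∑ i ∈ s, tadj (f i) := by
  classical
  induction s using Finset.induction_on with
  | empty => simp [tadj_zero]
  | insert i s hi ih => rw [Finset.sum_insert hi, Finset.sum_insert hi, tadj_add, ih]

theorem tadj_comp (β γ : K →ₗ[F] K) : tadj (β.comp γ) = (tadj γ).comp (tadj β) := by
  apply tadj_unique
  intro x y
  rw [LinearMap.comp_apply, tadj_spec, tadj_spec, LinearMap.comp_apply]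

theorem tadj_tadj (β : K →ₗ[F] K) : tadj (tadj β) = β := by
  apply tadj_unique
  intro x y
  rw [tadj_spec']

theorem tadj_mulLeft (c : K) : tadj (LinearMap.mulLeft F c) = LinearMap.mulLeft F c := by
  apply tadj_unique
  intro x y
  simp only [LinearMap.mulLeft_apply]
  congr 1
  ring

theorem gterm_one_eq_mulLeft (c : K) : gterm (F := F) c 1 = LinearMap.mulLeft F c := by
  ext x; simp

theorem coef_tadj (β : K →ₗ[F] K) (σ : K ≃ₐ[F] K) : coef (tadj β) σ = σ (coef β σ⁻¹) := by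
  classical
  haveI : Fintype (K ≃ₐ[F] K) := Fintype.ofFinite _
  conv_lhs => rw [eq_sum_gterm β]
  rw [tadj_sum, coef_sum, Finset.sum_eq_single σ⁻¹]
  · rw [tadj_gterm, inv_inv, coef_gterm_self]
  · intro τ _ hτ
    rw [tadj_gterm, coef_gterm_ne]
    intro h
    apply hτ
    rw [← h, inv_inv]
  · intro h
    exact absurd (Finset.mem_univ _) h

/-! ## Sandwiches `k β k'` -/

/-- `sand k β k' : x ↦ k * β (k' * x)`. -/
noncomputable def sand (k : K) (β : K →ₗ[F] K) (k' : K) : K →ₗ[F] K :=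
  (LinearMap.mulLeft F k).comp (β.comp (LinearMap.mulLeft F k'))

@[simp] theorem sand_apply (k : K) (β : K →ₗ[F] K) (k' x : K) :
    sand k β k' x = k * β (k' * x) := rfl

theorem sand_gterm (k a k' : K) (σ : K ≃ₐ[F] K) :
    sand k (gterm (F := F) a σ) k' = gterm (k * σ k' * a) σ := by
  ext x
  simp only [sand_apply, gterm_apply, map_mul]
  ring

theorem sand_add_mid (k k' : K) (β γ : K →ₗ[F] K) :
    sand k (β + γ) k' = sand k β k' + sand k γ k' := by
  ext x; simp [mul_add]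

theorem sand_sum {ι : Type*} (s : Finset ι) (f : ι → (K →ₗ[F] K)) (k k' : K) :
    sand k (∑ i ∈ s, f i) k' = ∑ i ∈ s, sand k (f i) k' := by
  ext x
  simp [LinearMap.sum_apply, Finset.mul_sum]

theorem coef_sand (k k' : K) (β : K →ₗ[F] K) (σ : K ≃ₐ[F] K) :
    coef (sand k β k') σ = k * σ k' * coef β σ := by
  classical
  haveI : Fintype (K ≃ₐ[F] K) := Fintype.ofFinite _
  conv_lhs => rw [eq_sum_gterm β]
  rw [sand_sum]
  simp_rw [sand_gterm]
  exact coef_eq_of_eq_sum (fun σ => k * σ k' * coef β σ) σ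

theorem sand_polar (k k' : K) (β : K →ₗ[F] K) :
    sand (k + k') β (k + k') = sand k β k + (sand k β k' + sand k' β k) + sand k' β k' := by
  ext x
  simp only [sand_apply, LinearMap.add_apply, add_mul, map_add]
  ring

theorem tadj_sand (k k' : K) (β : K →ₗ[F] K) : tadj (sand k β k') = sand k' (tadj β) k := by
  unfold sand
  rw [tadj_comp, tadj_comp, tadj_mulLeft, tadj_mulLeft, LinearMap.comp_assoc]

/-! ## Non-vanishing -/

theorem exists_apply_ne_zero [Fintype (K ≃ₐ[F] K)] (b : (K ≃ₐ[F] K) → K) (hb : b ≠ 0) :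
    ∃ c : K, ∑ σ : K ≃ₐ[F] K, b σ * σ c ≠ 0 := by
  by_contra hcon
  push_neg at hcon
  apply hb
  have hli := Fintype.linearIndependent_iff.mp (linearIndependent_gal (F := F) (K := K)) b
  funext σ
  apply hli
  ext c
  simpa [LinearMap.sum_apply] using hcon c

theorem exists_both_ne_zero (f g : K →ₗ[F] K) (hf : f ≠ 0) (hg : g ≠ 0) :
    ∃ c, f c ≠ 0 ∧ g c ≠ 0 := by
  obtain ⟨x, hx⟩ : ∃ x, f x ≠ 0 := by
    by_contra h
    push_neg at h
    exact hf (LinearMap.ext h)
  obtain ⟨y, hy⟩ : ∃ y, g y ≠ 0 := by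
    by_contra h
    push_neg at h
    exact hg (LinearMap.ext h)
  by_cases hgx : g x = 0
  · by_cases hfy : f y = 0
    · refine ⟨x + y, ?_, ?_⟩
      · rw [map_add, hfy, add_zero]; exact hx
      · rw [map_add, hgx, zero_add]; exact hy
    · exact ⟨y, hfy, hy⟩
  · exact ⟨x, hx, hgx⟩

theorem ne_zero_of_coef_ne_zero {β : K →ₗ[F] K} {σ : K ≃ₐ[F] K} (h : coef β σ ≠ 0) : β ≠ 0 := by
  rintro rfl
  exact h (coef_zero σ)

/-- Dedekind: the vectors `(σ k')_σ` span `K^G`. -/
theorem ev_span_top [Fintype (K ≃ₐ[F] K)] :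
    Submodule.span K (Set.range fun k' : K => (fun σ : K ≃ₐ[F] K => σ k')) = ⊤ := by
  classical
  by_contra hne
  have hlt : Submodule.span K (Set.range fun k' : K => (fun σ : K ≃ₐ[F] K => σ k')) < ⊤ :=
    lt_top_iff_ne_top.mpr hne
  obtain ⟨f, hf0, hf⟩ := Submodule.exists_dual_map_eq_bot_of_lt_top hlt inferInstance
  apply hf0
  have hvan : ∀ k' : K, f (fun σ : K ≃ₐ[F] K => σ k') = 0 := by
    intro k'
    have : f (fun σ : K ≃ₐ[F] K => σ k') ∈
        (Submodule.span K (Set.range fun k' : K => (fun σ : K ≃ₐ[F] K => σ k'))).map f :=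
      Submodule.mem_map_of_mem (Submodule.subset_span ⟨k', rfl⟩)
    rw [hf] at this
    exact (Submodule.mem_bot K).mp this
  have hli := Fintype.linearIndependent_iff.mp (linearIndependent_gal (F := F) (K := K))
    (fun σ => f (fun j => if σ = j then 1 else 0))
  have hzero : ∀ σ : K ≃ₐ[F] K, f (fun j => if σ = j then 1 else 0) = 0 := by
    apply hli
    ext c
    have h1 := hvan c
    rw [LinearMap.pi_apply_eq_sum_univ] at h1
    simp only [LinearMap.sum_apply, LinearMap.smul_apply, AlgEquiv.toLinearMap_apply,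
      LinearMap.zero_apply, smul_eq_mul]
    refine Eq.trans ?_ h1
    refine Finset.sum_congr rfl fun σ _ => ?_
    rw [smul_eq_mul, mul_comm]
  refine LinearMap.ext fun x => ?_
  rw [LinearMap.pi_apply_eq_sum_univ, LinearMap.zero_apply]
  exact Finset.sum_eq_zero fun σ _ => by rw [hzero σ, smul_zero]

/-! ## The support lemma -/

/-- `twist lam β = ∑ σ, ((lam σ + σ (lam σ⁻¹)) * coef β σ) σ`. -/
noncomputable def twist [Fintype (K ≃ₐ[F] K)] (lam : (K ≃ₐ[F] K) → K) (β : K →ₗ[F] K) :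
    K →ₗ[F] K :=
  ∑ σ : K ≃ₐ[F] K, gterm ((lam σ + σ (lam σ⁻¹)) * coef β σ) σ

theorem coef_twist [Fintype (K ≃ₐ[F] K)] (lam : (K ≃ₐ[F] K) → K) (β : K →ₗ[F] K)
    (σ : K ≃ₐ[F] K) : coef (twist lam β) σ = (lam σ + σ (lam σ⁻¹)) * coef β σ :=
  coef_eq_of_eq_sum (fun σ => (lam σ + σ (lam σ⁻¹)) * coef β σ) σ

theorem twist_add [Fintype (K ≃ₐ[F] K)] (lam lam' : (K ≃ₐ[F] K) → K) (β : K →ₗ[F] K) :
    twist (lam + lam') β = twist lam β + twist lam' β := by
  apply ext_coef
  intro σ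
  rw [coef_add, coef_twist, coef_twist, coef_twist]
  simp only [Pi.add_apply, map_add]
  ring

theorem twist_zero [Fintype (K ≃ₐ[F] K)] (β : K →ₗ[F] K) :
    twist (0 : (K ≃ₐ[F] K) → K) β = 0 := by
  apply ext_coef
  intro σ
  rw [coef_twist, coef_zero]
  simp

theorem twist_smul_ev [Fintype (K ≃ₐ[F] K)] (c k' : K) (β : K →ₗ[F] K) :
    twist (c • (fun σ : K ≃ₐ[F] K => σ k')) β = sand c β k' + sand k' β c := by
  apply ext_coef
  intro σ
  rw [coef_add, coef_twist, coef_sand, coef_sand]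
  simp only [Pi.smul_apply, smul_eq_mul, map_mul]
  have e : σ (σ⁻¹ k') = k' := by
    rw [← AlgEquiv.mul_apply, mul_inv_cancel, AlgEquiv.one_apply]
  rw [e]
  ring

/-- **Support lemma**: an additive group of maps stable under `β ↦ k β k` is stable under all
the twists. -/
theorem support_lemma [Fintype (K ≃ₐ[F] K)] (L : AddSubgroup (K →ₗ[F] K))
    (hT : ∀ β ∈ L, ∀ k : K, sand k β k ∈ L) {β : K →ₗ[F] K} (hβ : β ∈ L)
    (lam : (K ≃ₐ[F] K) → K) : twist lam β ∈ L := by
  have hmem : lam ∈ Submodule.span K (Set.range fun k' : K => (fun σ : K ≃ₐ[F] K => σ k')) := by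
    rw [ev_span_top]
    exact Submodule.mem_top
  have key : ∀ c : K, twist (c • lam) β ∈ L := by
    induction hmem using Submodule.span_induction with
    | mem x hx =>
      obtain ⟨k', rfl⟩ := hx
      intro c
      rw [twist_smul_ev]
      have h1 := hT β hβ (c + k')
      rw [sand_polar] at h1
      have h2 := hT β hβ c
      have h3 := hT β hβ k'
      have h4 := L.sub_mem (L.sub_mem h1 h2) h3
      have e : sand c β c + (sand c β k' + sand k' β c) + sand k' β k' - sand c β c -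
          sand k' β k' = sand c β k' + sand k' β c := by abel
      rw [e] at h4
      exact h4
    | zero =>
      intro c
      rw [smul_zero, twist_zero]
      exact L.zero_mem
    | add x y _ _ hx hy =>
      intro c
      rw [smul_add, twist_add]
      exact L.add_mem (hx c) (hy c)
    | smul a x _ hx =>
      intro c
      rw [smul_smul]
      exact hx (c * a)
  have := key 1
  rwa [one_smul] at this

/-! ## The core of Step C -/

theorem coef_inv_of_selfadj {β : K →ₗ[F] K} (h : tadj β = β) (σ : K ≃ₐ[F] K) :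
    coef β σ⁻¹ = σ⁻¹ (coef β σ) := by
  have h1 := coef_tadj β σ⁻¹
  rw [h, inv_inv] at h1
  exact h1

/-- every admissible coefficient at `ρ` is realised by an element of `L` supported on
`{ρ, ρ⁻¹}`. -/
def Realised (L : AddSubgroup (K →ₗ[F] K)) (ρ : K ≃ₐ[F] K) : Prop :=
  ∀ b : K, (ρ = ρ⁻¹ → ρ b = b) →
    ∃ β ∈ L, coef β ρ = b ∧ ∀ σ : K ≃ₐ[F] K, σ ≠ ρ → σ ≠ ρ⁻¹ → coef β σ = 0

theorem realised_one (L : AddSubgroup (K →ₗ[F] K)) (hK : ∀ c : K, LinearMap.mulLeft F c ∈ L) :
    Realised L (1 : K ≃ₐ[F] K) := by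
  intro b _
  refine ⟨LinearMap.mulLeft F b, hK b, ?_, ?_⟩
  · rw [← gterm_one_eq_mulLeft, coef_gterm_self]
  · intro σ hσ _
    rw [← gterm_one_eq_mulLeft, coef_gterm_ne _ (Ne.symm hσ)]

theorem apply_inv_apply (σ : K ≃ₐ[F] K) (x : K) : σ (σ⁻¹ x) = x := by
  rw [← AlgEquiv.mul_apply, mul_inv_cancel, AlgEquiv.one_apply]

theorem inv_apply_apply (σ : K ≃ₐ[F] K) (x : K) : σ⁻¹ (σ x) = x := by
  rw [← AlgEquiv.mul_apply, inv_mul_cancel, AlgEquiv.one_apply]

/-- Claim A. -/
theorem realised_of_coef_ne_zero (L : AddSubgroup (K →ₗ[F] K))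
    (hS : ∀ β ∈ L, tadj β = β) (hK : ∀ c : K, LinearMap.mulLeft F c ∈ L)
    (hT : ∀ β ∈ L, ∀ k : K, sand k β k ∈ L) {β : K →ₗ[F] K} (hβ : β ∈ L)
    {ρ : K ≃ₐ[F] K} (hρ : coef β ρ ≠ 0) : Realised L ρ := by
  classical
  haveI : Fintype (K ≃ₐ[F] K) := Fintype.ofFinite _
  by_cases h1 : ρ = 1
  · rw [h1]; exact realised_one L hK
  set a := coef β ρ with ha
  have hsa := hS β hβ
  by_cases hinv : ρ = ρ⁻¹
  · -- involution
    intro b hb
    have hb' := hb hinv
    have hρρ : ∀ x : K, ρ (ρ x) = x := by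
      intro x
      have h2 : ρ * ρ = 1 := by
        nth_rewrite 2 [hinv]
        exact mul_inv_cancel ρ
      rw [← AlgEquiv.mul_apply, h2, AlgEquiv.one_apply]
    have haf : ρ a = a := by
      have e := coef_inv_of_selfadj hsa ρ
      rw [← hinv] at e
      exact e.symm
    -- Dedekind: some `c` with `c + ρ c ≠ 0`
    obtain ⟨c, hc⟩ := exists_apply_ne_zero (F := F) (K := K)
      (fun σ => (if σ = 1 then (1 : K) else 0) + (if σ = ρ then (1 : K) else 0)) (by
        intro h0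
        have := congrFun h0 1
        simp only [if_true, Pi.zero_apply] at this
        rw [if_neg (Ne.symm h1), add_zero] at this
        exact one_ne_zero this)
    have hc' : c + ρ c ≠ 0 := by
      simpa [add_mul, Finset.sum_add_distrib, ite_mul] using hc
    set e0 := c + ρ c with he0
    have he0f : ρ e0 = e0 := by
      rw [he0, map_add, hρρ, add_comm]
    set t := b / (a * e0) with ht
    have htf : ρ t = t := by
      rw [ht, map_div₀, map_mul, hb', haf, he0f]
    refine ⟨twist (Pi.single ρ (c * t)) β, support_lemma L hT hβ _, ?_, ?_⟩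
    · rw [coef_twist]
      have e1 : (Pi.single ρ (c * t) : (K ≃ₐ[F] K) → K) ρ⁻¹ = c * t := by
        rw [← hinv, Pi.single_eq_same]
      rw [e1, Pi.single_eq_same, map_mul, htf, ← ha]
      have : c * t + ρ c * t = e0 * t := by rw [he0]; ring
      rw [this, ht]
      field_simp
    · intro σ hσ hσ'
      rw [coef_twist]
      have e1 : (Pi.single ρ (c * t) : (K ≃ₐ[F] K) → K) σ = 0 := Pi.single_eq_of_ne hσ _
      have e2 : (Pi.single ρ (c * t) : (K ≃ₐ[F] K) → K) σ⁻¹ = 0 := by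
        apply Pi.single_eq_of_ne
        intro h
        apply hσ'
        rw [← h, inv_inv]
      rw [e1, e2, map_zero, add_zero, zero_mul]
  · intro b _
    refine ⟨twist (Pi.single ρ (b / a)) β, support_lemma L hT hβ _, ?_, ?_⟩
    · rw [coef_twist]
      have e1 : (Pi.single ρ (b / a) : (K ≃ₐ[F] K) → K) ρ⁻¹ = 0 := by
        apply Pi.single_eq_of_ne
        intro h
        exact hinv h.symm
      rw [e1, Pi.single_eq_same, map_zero, add_zero, ← ha]
      field_simp
    · intro σ hσ hσ'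
      rw [coef_twist]
      have e1 : (Pi.single ρ (b / a) : (K ≃ₐ[F] K) → K) σ = 0 := Pi.single_eq_of_ne hσ _
      have e2 : (Pi.single ρ (b / a) : (K ≃ₐ[F] K) → K) σ⁻¹ = 0 := by
        apply Pi.single_eq_of_ne
        intro h
        apply hσ'
        rw [← h, inv_inv]
      rw [e1, e2, map_zero, add_zero, zero_mul]

theorem coef_mulLeft_comp (c : K) (β : K →ₗ[F] K) (σ : K ≃ₐ[F] K) :
    coef ((LinearMap.mulLeft F c).comp β) σ = c * coef β σ := by
  have : (LinearMap.mulLeft F c).comp β = c • β := by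
    ext x; simp
  rw [this, coef_smul]

/-- `coef (γ ∘ c ∘ γ^*) ρ = ∑ σ, a_σ ρ(a_{ρ⁻¹σ}) σ(c)`. -/
theorem coef_conj_mul [Fintype (K ≃ₐ[F] K)] (γ : K →ₗ[F] K) (c : K) (ρ : K ≃ₐ[F] K) :
    coef (γ.comp ((LinearMap.mulLeft F c).comp (tadj γ))) ρ =
      ∑ σ : K ≃ₐ[F] K, (coef γ σ * ρ (coef γ (ρ⁻¹ * σ))) * σ c := by
  rw [coef_comp]
  refine Finset.sum_congr rfl fun σ _ => ?_
  rw [coef_mulLeft_comp, coef_tadj, map_mul, ← AlgEquiv.mul_apply, mul_inv_rev, inv_inv]
  have : σ * (σ⁻¹ * ρ) = ρ := by group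
  rw [this]
  ring

/-- `coef (γ ∘ k ∘ α) ρ = ∑ σ, a_σ σ(a'_{σ⁻¹ρ}) σ(k)`. -/
theorem coef_mul_mid [Fintype (K ≃ₐ[F] K)] (γ α : K →ₗ[F] K) (k : K) (ρ : K ≃ₐ[F] K) :
    coef (γ.comp ((LinearMap.mulLeft F k).comp α)) ρ =
      ∑ σ : K ≃ₐ[F] K, (coef γ σ * σ (coef α (σ⁻¹ * ρ))) * σ k := by
  rw [coef_comp]
  refine Finset.sum_congr rfl fun σ _ => ?_
  rw [coef_mulLeft_comp, map_mul]
  ring

/-- the conjugation property of `γ`. -/
def Conj (L : AddSubgroup (K →ₗ[F] K)) (γ : K →ₗ[F] K) : Prop :=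
  ∀ β ∈ L, γ.comp (β.comp (tadj γ)) ∈ L

/-- Claim B. -/
theorem realised_of_supp (L : AddSubgroup (K →ₗ[F] K))
    (hS : ∀ β ∈ L, tadj β = β) (hK : ∀ c : K, LinearMap.mulLeft F c ∈ L)
    (hT : ∀ β ∈ L, ∀ k : K, sand k β k ∈ L) {γ : K →ₗ[F] K} (hγ : Conj L γ)
    {σ τ : K ≃ₐ[F] K} (hσ : coef γ σ ≠ 0) (hτ : coef γ τ ≠ 0) : Realised L (σ * τ⁻¹) := by
  classical
  haveI : Fintype (K ≃ₐ[F] K) := Fintype.ofFinite _
  set ρ := σ * τ⁻¹ with hρ
  obtain ⟨c, hc⟩ := exists_apply_ne_zero (F := F) (K := K)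
    (fun s => coef γ s * ρ (coef γ (ρ⁻¹ * s))) (by
      intro h0
      have h1 := congrFun h0 σ
      simp only [Pi.zero_apply] at h1
      have e : ρ⁻¹ * σ = τ := by rw [hρ]; group
      rw [e] at h1
      rcases mul_eq_zero.mp h1 with h2 | h2
      · exact hσ h2
      · exact hτ ((map_eq_zero_iff ρ ρ.injective).mp h2))
  rw [← coef_conj_mul] at hc
  exact realised_of_coef_ne_zero L hS hK hT (hγ _ (hK c)) hc

theorem conj_mulLeft (L : AddSubgroup (K →ₗ[F] K)) (hT : ∀ β ∈ L, ∀ k : K, sand k β k ∈ L)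
    (k : K) : Conj L (LinearMap.mulLeft F k) := by
  intro β hβ
  rw [tadj_mulLeft]
  exact hT β hβ k

theorem conj_comp (L : AddSubgroup (K →ₗ[F] K)) {γ γ' : K →ₗ[F] K} (h : Conj L γ)
    (h' : Conj L γ') : Conj L (γ.comp γ') := by
  intro β hβ
  rw [tadj_comp]
  have := h _ (h' β hβ)
  simpa [LinearMap.comp_assoc] using this

/-- Claim C. -/
theorem exists_pow_supp (L : AddSubgroup (K →ₗ[F] K))
    (hT : ∀ β ∈ L, ∀ k : K, sand k β k ∈ L) {α : K →ₗ[F] K} (hα : Conj L α)
    {s t : K ≃ₐ[F] K} (hs : coef α s ≠ 0) (ht : coef α t ≠ 0) (m : ℕ) :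
    ∃ γ : K →ₗ[F] K, Conj L γ ∧ coef γ (s ^ (m + 1)) ≠ 0 ∧ coef γ (t ^ (m + 1)) ≠ 0 := by
  classical
  haveI : Fintype (K ≃ₐ[F] K) := Fintype.ofFinite _
  induction m with
  | zero => exact ⟨α, hα, by simpa using hs, by simpa using ht⟩
  | succ m ih =>
    obtain ⟨γ, hγ, hγs, hγt⟩ := ih
    -- the two `F`-linear maps `k ↦ coef (γ k α) ρ`
    let f : (K ≃ₐ[F] K) → K →ₗ[F] K := fun ρ =>
      ∑ σ : K ≃ₐ[F] K, gterm (coef γ σ * σ (coef α (σ⁻¹ * ρ))) σ
    have hf : ∀ ρ k, f ρ k = coef (γ.comp ((LinearMap.mulLeft F k).comp α)) ρ := by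
      intro ρ k
      rw [coef_mul_mid]
      simp only [f, LinearMap.sum_apply, gterm_apply]
    have hfs : f (s ^ (m + 1 + 1)) ≠ 0 := by
      apply ne_zero_of_coef_ne_zero (σ := s ^ (m + 1))
      rw [coef_eq_of_eq_sum]
      have e : (s ^ (m + 1))⁻¹ * s ^ (m + 1 + 1) = s := by
        rw [pow_succ (s) (m + 1)]; group
      rw [e]
      exact mul_ne_zero hγs ((map_ne_zero_iff _ (AlgEquiv.injective _)).mpr hs)
    have hft : f (t ^ (m + 1 + 1)) ≠ 0 := by
      apply ne_zero_of_coef_ne_zero (σ := t ^ (m + 1))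
      rw [coef_eq_of_eq_sum]
      have e : (t ^ (m + 1))⁻¹ * t ^ (m + 1 + 1) = t := by
        rw [pow_succ (t) (m + 1)]; group
      rw [e]
      exact mul_ne_zero hγt ((map_ne_zero_iff _ (AlgEquiv.injective _)).mpr ht)
    obtain ⟨k, hk1, hk2⟩ := exists_both_ne_zero _ _ hfs hft
    refine ⟨γ.comp ((LinearMap.mulLeft F k).comp α),
      conj_comp L hγ (conj_comp L (conj_mulLeft L hT k) hα), ?_, ?_⟩
    · rw [← hf]; exact hk1
    · rw [← hf]; exact hk2

/-- Claim D. -/
theorem mem_of_selfadj_of_realised (L : AddSubgroup (K →ₗ[F] K))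
    (hS : ∀ β ∈ L, tadj β = β) (hR : ∀ ρ : K ≃ₐ[F] K, Realised L ρ)
    (β : K →ₗ[F] K) (hβ : tadj β = β) : β ∈ L := by
  classical
  haveI : Fintype (K ≃ₐ[F] K) := Fintype.ofFinite _
  have key : ∀ n : ℕ, ∀ β : K →ₗ[F] K, tadj β = β →
      (Finset.univ.filter fun σ : K ≃ₐ[F] K => coef β σ ≠ 0).card ≤ n → β ∈ L := by
    intro n
    induction n with
    | zero =>
      intro β _ hcard
      have h0 : β = 0 := by
        apply ext_coef
        intro σ
        rw [coef_zero]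
        by_contra hne
        have : σ ∈ Finset.univ.filter fun σ : K ≃ₐ[F] K => coef β σ ≠ 0 :=
          Finset.mem_filter.mpr ⟨Finset.mem_univ _, hne⟩
        have hpos := Finset.card_pos.mpr ⟨σ, this⟩
        omega
      rw [h0]
      exact L.zero_mem
    | succ n ih =>
      intro β hβ hcard
      by_cases hemp : (Finset.univ.filter fun σ : K ≃ₐ[F] K => coef β σ ≠ 0) = ∅
      · have h0 : β = 0 := by
          apply ext_coef
          intro σ
          rw [coef_zero]
          by_contra hne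
          have : σ ∈ Finset.univ.filter fun σ : K ≃ₐ[F] K => coef β σ ≠ 0 :=
            Finset.mem_filter.mpr ⟨Finset.mem_univ _, hne⟩
          rw [hemp] at this
          exact absurd this (Finset.notMem_empty _)
        rw [h0]
        exact L.zero_mem
      · obtain ⟨ρ, hρmem⟩ := Finset.nonempty_iff_ne_empty.mpr hemp
        have hρ : coef β ρ ≠ 0 := (Finset.mem_filter.mp hρmem).2
        have hadm : ρ = ρ⁻¹ → ρ (coef β ρ) = coef β ρ := by
          intro hinv
          have e := coef_inv_of_selfadj hβ ρ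
          rw [← hinv] at e
          exact e.symm
        obtain ⟨β0, hβ0L, hβ0ρ, hβ0z⟩ := hR ρ (coef β ρ) hadm
        have hβ0sa := hS β0 hβ0L
        have hsub : tadj (β - β0) = β - β0 := by rw [tadj_sub, hβ, hβ0sa]
        have hcoefρ : coef (β - β0) ρ = 0 := by rw [coef_sub, hβ0ρ, sub_self]
        have hcoefρi : coef (β - β0) ρ⁻¹ = 0 := by
          rw [coef_inv_of_selfadj hsub, hcoefρ, map_zero]
        have hss : (Finset.univ.filter fun σ : K ≃ₐ[F] K => coef (β - β0) σ ≠ 0) ⊆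
            (Finset.univ.filter fun σ : K ≃ₐ[F] K => coef β σ ≠ 0).erase ρ := by
          intro σ hσ
          have hσ' : coef (β - β0) σ ≠ 0 := (Finset.mem_filter.mp hσ).2
          have hne : σ ≠ ρ := by
            rintro rfl
            exact hσ' hcoefρ
          have hnei : σ ≠ ρ⁻¹ := by
            rintro rfl
            exact hσ' hcoefρi
          refine Finset.mem_erase.mpr ⟨hne, Finset.mem_filter.mpr ⟨Finset.mem_univ _, ?_⟩⟩
          intro h0
          apply hσ'
          rw [coef_sub, h0, hβ0z σ hne hnei, sub_zero]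
        have hcard' : (Finset.univ.filter fun σ : K ≃ₐ[F] K => coef (β - β0) σ ≠ 0).card ≤ n := by
          have h1 := Finset.card_le_card hss
          rw [Finset.card_erase_of_mem hρmem] at h1
          omega
        have := ih (β - β0) hsub hcard'
        have h2 := L.add_mem this hβ0L
        rwa [sub_add_cancel] at h2
  exact key _ β hβ le_rfl

/-- **Core of Step C** (helper8's C3S): `[K : F]` prime, `L` an additive group of
trace-self-adjoint `F`-endomorphisms of `K`, containing the multiplications by `K`, stable under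
`β ↦ k β k` and under `β ↦ α β α^*` for one `α` that is not of the form `a σ`.  Then `L` contains
every trace-self-adjoint endomorphism. -/
theorem c3sgal_main (hr : (Module.finrank F K).Prime) (L : AddSubgroup (K →ₗ[F] K))
    (hS : ∀ β ∈ L, tadj β = β) (hK : ∀ c : K, LinearMap.mulLeft F c ∈ L)
    (hT : ∀ β ∈ L, ∀ k : K, sand k β k ∈ L) (α : K →ₗ[F] K)
    (hα : ∀ β ∈ L, α.comp (β.comp (tadj α)) ∈ L)
    (hns : ¬ ∃ (a : K) (σ : K ≃ₐ[F] K), α = gterm a σ) :
    ∀ β : K →ₗ[F] K, tadj β = β → β ∈ L := by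
  classical
  haveI : Fintype (K ≃ₐ[F] K) := Fintype.ofFinite _
  -- two distinct elements of the support of `α`
  obtain ⟨s, t, hs, ht, hst⟩ : ∃ s t : K ≃ₐ[F] K, coef α s ≠ 0 ∧ coef α t ≠ 0 ∧ s ≠ t := by
    by_contra hcon
    push_neg at hcon
    apply hns
    by_cases h0 : ∀ σ : K ≃ₐ[F] K, coef α σ = 0
    · refine ⟨0, 1, ?_⟩
      rw [gterm_zero]
      apply ext_coef
      intro σ
      rw [h0, coef_zero]
    · push_neg at h0
      obtain ⟨s, hs⟩ := h0
      refine ⟨coef α s, s, ?_⟩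
      apply ext_coef
      intro σ
      by_cases hσ : s = σ
      · subst hσ
        rw [coef_gterm_self]
      · rw [coef_gterm_ne _ hσ]
        by_contra hne
        exact hσ (hcon s σ hs hne)
  have hcardG : Nat.card (K ≃ₐ[F] K) = Module.finrank F K := IsGalois.card_aut_eq_finrank F K
  haveI : Fact (Module.finrank F K).Prime := ⟨hr⟩
  set δ := s * t⁻¹ with hδ
  have hδ1 : δ ≠ 1 := by
    intro h
    apply hst
    rw [hδ, mul_inv_eq_one] at h
    exact h
  have hpow : ∀ g : K ≃ₐ[F] K, g ∈ Submonoid.powers δ := fun g =>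
    mem_powers_of_prime_card hcardG hδ1
  have hcomm : Commute s t := by
    obtain ⟨i, hi⟩ := hpow s
    obtain ⟨j, hj⟩ := hpow t
    rw [← hi, ← hj]
    exact (Commute.refl δ).pow_pow i j
  have hα' : Conj L α := hα
  have hR : ∀ ρ : K ≃ₐ[F] K, Realised L ρ := by
    intro ρ
    by_cases hρ1 : ρ = 1
    · rw [hρ1]; exact realised_one L hK
    obtain ⟨m, hm⟩ := hpow ρ
    have hm' : δ ^ m = ρ := hm
    have hm0 : m ≠ 0 := by
      rintro rfl
      exact hρ1 (by rw [← hm', pow_zero])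
    obtain ⟨m', rfl⟩ := Nat.exists_eq_succ_of_ne_zero hm0
    obtain ⟨γ, hγ, hγs, hγt⟩ := exists_pow_supp L hT hα' hs ht m'
    have h1 := realised_of_supp L hS hK hT hγ hγs hγt
    have e : s ^ (m' + 1) * (t ^ (m' + 1))⁻¹ = ρ := by
      rw [← hm', hδ, (hcomm.inv_right).mul_pow, inv_pow]
    rwa [e] at h1
  exact mem_of_selfadj_of_realised L hS hR

/-- the rank-one map `x ↦ Tr x` (as an endomorphism of `K`). -/
noncomputable def trLin : K →ₗ[F] K := (Algebra.linearMap F K).comp (Algebra.trace F K)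

@[simp] theorem trLin_apply (x : K) :
    trLin (F := F) x = algebraMap F K (Algebra.trace F K x) := rfl

theorem tadj_trLin : tadj (trLin (F := F) (K := K)) = trLin := by
  apply tadj_unique
  intro x y
  simp only [trLin_apply, Algebra.algebraMap_eq_smul_one, smul_mul_assoc, one_mul, mul_smul_comm,
    mul_one, map_smul, smul_eq_mul]
  ring

/-- in the situation of `c3sgal_main`, `L` contains `x ↦ Tr x`. -/
theorem c3sgal_trace_mem (hr : (Module.finrank F K).Prime) (L : AddSubgroup (K →ₗ[F] K))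
    (hS : ∀ β ∈ L, tadj β = β) (hK : ∀ c : K, LinearMap.mulLeft F c ∈ L)
    (hT : ∀ β ∈ L, ∀ k : K, sand k β k ∈ L) (α : K →ₗ[F] K)
    (hα : ∀ β ∈ L, α.comp (β.comp (tadj α)) ∈ L)
    (hns : ¬ ∃ (a : K) (σ : K ≃ₐ[F] K), α = gterm a σ) : trLin ∈ L :=
  c3sgal_main hr L hS hK hT α hα hns trLin tadj_trLin

/-- bridge to the conclusion of Step B: a map that does not normalise the multiplications by `K`
is not of the form `a σ`. -/
theorem not_gterm_of_not_norm {α : K →ₗ[F] K}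
    (h : ∃ a : K, ∀ b : K, ∃ c : K, α (a * c) ≠ b * α c) :
    ¬ ∃ (a : K) (σ : K ≃ₐ[F] K), α = gterm a σ := by
  rintro ⟨a0, σ, rfl⟩
  obtain ⟨a, ha⟩ := h
  obtain ⟨c, hc⟩ := ha (σ a)
  apply hc
  simp only [gterm_apply, map_mul]
  ring

/-- `tadj α = α'` from the adjointness relation in the form `Tr (α x * y) = Tr (x * α' y)`. -/
theorem tadj_eq_of_trace {α α' : K →ₗ[F] K}
    (h : ∀ x y : K, Algebra.trace F K (α x * y) = Algebra.trace F K (x * α' y)) :
    tadj α = α' := by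
  apply tadj_unique
  intro x y
  rw [mul_comm (α' x) y, ← h, mul_comm]

end fin

end Cfsg.Agent.Lib.Helper13.C3SGal
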