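import Mathlib
import Cfsg.Agent.Lib.helper7.CEC.Defs
import Cfsg.Agent.Lib.Helper24.STCI1
import Cfsg.Agent.Lib.Helper24.STCB1
import Cfsg.Agent.Lib.Helper22.STCF1
import Cfsg.Agent.Lib.helper23.STCX2

/-!
# Project CEC (designer helper7, S2092), rows L7 (`Dl_swap`) and L8 (`Dl_eq_Xl`), VERBATIM vs `helper7/CEC/Skel.lean.txt`.

EXPRESS: the cited rows G1 G2 L1 L3 L4 L5 L6 were not on main when this was written, so the file contains own-name copies
(`cecl7_*`) with the EXACT statements of `cj_eq_of_CL`, `CL_w`, `CL_h`, `Zl_map`, `Zl_eq`, `Zl_cj`, `Dl_map`, `Dl_cj`, `Dl_scale`, `Dl_flip`.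
-/

set_option autoImplicit false

namespace Cfsg.Agent.Lib.helper7.CEC

open Cfsg.Agent.Lib.helper15.St2 Cfsg.Agent.Lib.helper7.Ce Cfsg.Agent.Lib.helper3.STC

section G

variable {Γ G : Type*} [Group Γ] [Group G] {σ : Γ →* G}

/-- copy of G1 `cj_eq_of_CL` -/
theorem cecl7_cj_eq_of_CL {g y : G} (hgy : CL σ g y) {e X : Γ} (he : σ e = g) (hX : σ X = y) : cj e X = X := by
  unfold cj
  rw [hgy e X he hX, mul_inv_cancel_right]

end G

section S0

variable {K : Type*} [Field K] {ι : Type*} {Γ G : Type*} [Group Γ] [Group G] {S : SysC K ι G} {σ : Γ →* G}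

/-- copy of G2 `CL_w` -/
theorem cecl7_CL_w (h : IsCE σ) {c d : ι ⊕ ι} {y : G} (hcd : ∀ t, CL σ (S.x c d t) y) (hdc : ∀ t, CL σ (S.x d c t) y) (u : K) :
    CL σ (S.w c d u) y := by
  unfold SysC.w
  exact h.CL_mul_left (h.CL_mul_left (hcd u) (hdc _)) (hcd u)

/-- copy of G2 `CL_h` -/
theorem cecl7_CL_h (h : IsCE σ) {c d : ι ⊕ ι} {y : G} (hcd : ∀ t, CL σ (S.x c d t) y) (hdc : ∀ t, CL σ (S.x d c t) y) (u : K) :
    CL σ (S.h c d u) y := by
  unfold SysC.h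
  exact h.CL_mul_left (cecl7_CL_w h hcd hdc u) (cecl7_CL_w h hcd hdc (-1))

end S0

section L

variable {K : Type*} [Field K] {ι : Type*} {Γ G : Type*} [Group Γ] [Group G] {S : SysC K ι G} {σ : Γ →* G} {h : IsCE σ}

/-- unpacking `ab a ≠ ab b` -/
theorem cecl7_ne {a b : ι ⊕ ι} (hab : ab a ≠ ab b) : a ≠ b ∧ a ≠ ng b := by
  constructor
  · intro e; exact hab (by rw [e])
  · intro e; exact hab (by rw [e, ab_ng])

/-- copy of L1 `Zl_map` -/
theorem cecl7_Zl_map (h : IsCE σ) {a b : ι ⊕ ι} (hab : ab a ≠ ab b) (t u : K) :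
    σ (Zl S h a b t u) = S.x a b (t * u) * S.x (ng b) b (sg a * sg b * t * u ^ 2) := by
  obtain ⟨h1, h2⟩ := cecl7_ne hab
  unfold Zl
  rw [map_cm, map_lf, map_lf]
  unfold cm
  exact S.ls a b h1 h2 t u

/-- copy of L1 `Zl_eq` -/
theorem cecl7_Zl_eq (h : IsCE σ) {a b : ι ⊕ ι} {t u : K} {p q : Γ} (hp : σ p = S.x a (ng a) t) (hq : σ q = S.x (ng a) b u) :
    cm p q = Zl S h a b t u := by
  unfold Zl
  apply h.cm_congr
  · rw [hp, map_lf]
  · rw [hq, map_lf]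

/-- copy of L1 `Zl_cj` -/
theorem cecl7_Zl_cj (h : IsCE σ) {g : G} {π : Equiv.Perm (ι ⊕ ι)} {d : ι ⊕ ι → K} (hg : S.IsMon g π d) (hπ : ∀ k, π (ng k) = ng (π k))
    {e : Γ} (he : σ e = g) {a b : ι ⊕ ι} (hab : ab a ≠ ab b) (t u : K) :
    cj e (Zl S h a b t u) = Zl S h (π a) (π b) (d a * (d (ng a))⁻¹ * t) (d (ng a) * (d b)⁻¹ * u) := by
  obtain ⟨h1, h2⟩ := cecl7_ne hab
  have h3 : ng a ≠ b := fun e => h2 (ng_eq_iff.1 e)
  unfold Zl
  rw [cj_cm]
  apply h.cm_congr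
  · rw [map_cj, he, map_lf, map_lf, hg.2 a (ng a) (ne_ng a) t, hπ a]
  · rw [map_cj, he, map_lf, map_lf, hg.2 (ng a) b h3 u, hπ a]

/-- copy of L3 `Dl_map` -/
theorem cecl7_Dl_map (h : IsCE σ) (L : ShortLift S h) {a b : ι ⊕ ι} (hab : ab a ≠ ab b) (t u : K) :
    σ (Dl L a b t u) = S.x (ng b) b (sg a * sg b * t * u ^ 2) := by
  unfold Dl
  rw [map_mul, map_inv, L.map a b hab, cecl7_Zl_map h hab, inv_mul_cancel_left]

/-- copy of L4 `Dl_cj` -/
theorem cecl7_Dl_cj (L : ShortLift S h) {g : G} {π : Equiv.Perm (ι ⊕ ι)} {d : ι ⊕ ι → K} (hg : S.IsMon g π d) (hπ : ∀ k, π (ng k) = ng (π k))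
    {e : Γ} (he : σ e = g) {a b : ι ⊕ ι} (hab : ab a ≠ ab b) (t u : K) :
    cj e (Dl L a b t u) = Dl L (π a) (π b) (d a * (d (ng a))⁻¹ * t) (d (ng a) * (d b)⁻¹ * u) := by
  unfold Dl
  rw [cj_mul, cj_inv, L.eqv g π d hg hπ e he a b hab, cecl7_Zl_cj h hg hπ he hab]
  have hna : d (ng a) ≠ 0 := hg.1 (ng a)
  have e1 : d a * (d b)⁻¹ * (t * u) = d a * (d (ng a))⁻¹ * t * (d (ng a) * (d b)⁻¹ * u) := by
    field_simp
  rw [e1]

/-- `L.X a b 0 = 1` -/
theorem cecl7_X_zero (L : ShortLift S h) {a b : ι ⊕ ι} (hab : ab a ≠ ab b) : L.X a b 0 = 1 := by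
  have := L.add a b hab 0 0
  rw [add_zero] at this
  exact (mul_eq_left (a := L.X a b 0)).1 this.symm

/-- a commutator with a lift of `1` on the right is trivial -/
theorem cecl7_cm_right_one (h : IsCE σ) (p : Γ) {z : Γ} (hz : σ z = 1) : cm p z = 1 := by
  rw [cm_eq_one_iff]
  exact (h.comm_of_map_one hz p).symm

/-- a commutator with a lift of `1` on the left is trivial -/
theorem cecl7_cm_left_one (h : IsCE σ) (p : Γ) {z : Γ} (hz : σ z = 1) : cm z p = 1 := by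
  rw [cm_eq_one_iff]
  exact h.comm_of_map_one hz p

/-- part of L3 `Dl_zero`, without additivity -/
theorem cecl7_Dl_zero_right (L : ShortLift S h) {a b : ι ⊕ ι} (hab : ab a ≠ ab b) (t : K) : Dl L a b t 0 = 1 := by
  unfold Dl Zl
  rw [mul_zero, cecl7_X_zero L hab, inv_one, one_mul]
  apply cecl7_cm_right_one h
  rw [map_lf, S.x_zero]

theorem cecl7_Dl_zero_left (L : ShortLift S h) {a b : ι ⊕ ι} (hab : ab a ≠ ab b) (u : K) : Dl L a b 0 u = 1 := by
  unfold Dl Zl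
  rw [zero_mul, cecl7_X_zero L hab, inv_one, one_mul]
  apply cecl7_cm_left_one h
  rw [map_lf, S.x_zero]

/-- the long root elements on `a` have lifts commuting with the lifts of the long root elements on `b` -/
theorem cecl7_CL_long (hC : HC S σ) {a b : ι ⊕ ι} (hab : ab a ≠ ab b) (s : K) :
    (∀ t, CL σ (S.x a (ng a) t) (S.x (ng b) b s)) ∧ (∀ t, CL σ (S.x (ng a) a t) (S.x (ng b) b s)) := by
  obtain ⟨h1, h2⟩ := cecl7_ne hab
  have h3 : ng a ≠ ng b := fun e => h1 (ng_inj.1 e)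
  have h4 : ng a ≠ b := fun e => h2 (ng_eq_iff.1 e)
  constructor
  · intro t
    exact hC a (ng a) (ng b) b (ne_ng a) (ng_ne b) h3 h1 h3 (by rw [ng_ng]; exact h1) t s
  · intro t
    exact hC (ng a) a (ng b) b (ng_ne a) (ng_ne b) h2 h4 h2 (by rw [ng_ng]; exact h4) t s

/-- copy of L5 `Dl_scale` -/
theorem cecl7_Dl_scale [DecidableEq ι] (hC : HC S σ) (hH : S.HH) (L : ShortLift S h) {a b : ι ⊕ ι} (hab : ab a ≠ ab b) (t u : K) :
    Dl L a b t u = Dl L a b (t * u ^ 2) 1 := by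
  obtain ⟨h1, h2⟩ := cecl7_ne hab
  by_cases hu : u = 0
  · subst hu
    rw [cecl7_Dl_zero_right L hab, zero_pow two_ne_zero, mul_zero, cecl7_Dl_zero_left L hab]
  · have hg := SysC.HH.long S hH a u hu
    have hπ : ∀ k, (1 : Equiv.Perm (ι ⊕ ι)) (ng k) = ng ((1 : Equiv.Perm (ι ⊕ ι)) k) := fun k => rfl
    have he : σ (lf h (S.h a (ng a) u)) = S.h a (ng a) u := map_lf h _
    have hcj := cecl7_Dl_cj L hg hπ he hab t u
    have hCL := cecl7_CL_long hC hab (sg a * sg b * t * u ^ 2)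
    have hinv : cj (lf h (S.h a (ng a) u)) (Dl L a b t u) = Dl L a b t u :=
      cecl7_cj_eq_of_CL (cecl7_CL_h h hCL.1 hCL.2 u) he (cecl7_Dl_map h L hab t u)
    rw [hinv] at hcj
    rw [hcj, Equiv.Perm.one_apply, Equiv.Perm.one_apply]
    have da : dhl a u a = u := by unfold dhl; rw [if_pos rfl]
    have dna : dhl a u (ng a) = u⁻¹ := by unfold dhl; rw [if_neg (ng_ne a), if_pos rfl]
    have db : dhl a u b = 1 := by unfold dhl; rw [if_neg (Ne.symm h1), if_neg (fun e => h2 (by rw [e, ng_ng]))]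
    rw [da, dna, db]
    have e1 : u * (u⁻¹)⁻¹ * t = t * u ^ 2 := by rw [inv_inv]; ring
    have e2 : u⁻¹ * (1 : K)⁻¹ * u = 1 := by rw [inv_one, mul_one, inv_mul_cancel₀ hu]
    rw [e1, e2]

/-- copy of L6 `Dl_flip` -/
theorem cecl7_Dl_flip [DecidableEq ι] (hC : HC S σ) (hW : S.HW) (L : ShortLift S h) {a b : ι ⊕ ι} (hab : ab a ≠ ab b) (t : K) :
    Dl L a b t 1 = Dl L (ng a) b (-t) 1 := by
  obtain ⟨h1, h2⟩ := cecl7_ne hab
  have hg := SysC.HW.long S hW a 1 one_ne_zero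
  have hπ : ∀ k, (Equiv.swap a (ng a)) (ng k) = ng ((Equiv.swap a (ng a)) k) := by
    intro k
    have := SysC.wpm_ng (ne_ng a) k
    rwa [SysC.wpm_long] at this
  have he : σ (lf h (S.w a (ng a) 1)) = S.w a (ng a) 1 := map_lf h _
  have hcj := cecl7_Dl_cj L hg hπ he hab t 1
  have hCL := cecl7_CL_long hC hab (sg a * sg b * t * 1 ^ 2)
  have hinv : cj (lf h (S.w a (ng a) 1)) (Dl L a b t 1) = Dl L a b t 1 :=
    cecl7_cj_eq_of_CL (cecl7_CL_w h hCL.1 hCL.2 1) he (cecl7_Dl_map h L hab t 1)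
  rw [hinv] at hcj
  rw [hcj, Equiv.swap_apply_left,
    Equiv.swap_apply_of_ne_of_ne (Ne.symm h1) (fun e => h2 (by rw [e, ng_ng]))]
  have da : dwl a (1 : K) a = -1 := by unfold dwl; rw [if_pos rfl, inv_one]
  have dna : dwl a (1 : K) (ng a) = 1 := by unfold dwl; rw [if_neg (ng_ne a), if_pos rfl]
  have db : dwl a (1 : K) b = 1 := by unfold dwl; rw [if_neg (Ne.symm h1), if_neg (fun e => h2 (by rw [e, ng_ng]))]
  rw [da, dna, db]
  have e1 : (-1 : K) * (1 : K)⁻¹ * t = -t := by rw [inv_one]; ring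
  have e2 : (1 : K) * (1 : K)⁻¹ * 1 = 1 := by rw [inv_one]; ring
  rw [e1, e2]

/-- L7 [M] -/
theorem Dl_swap [DecidableEq ι] (hC : HC S σ) (hW : S.HW) (hH : S.HH) (L : ShortLift S h) {a a' b : ι ⊕ ι} (hab : ab a ≠ ab b) (ha'b : ab a' ≠ ab b)
    (haa' : ab a ≠ ab a') (t : K) : Dl L a b t 1 = Dl L a' b (sg a * sg a' * t) 1 := by
  obtain ⟨h1, h2⟩ := cecl7_ne hab
  obtain ⟨h1', h2'⟩ := cecl7_ne ha'b
  obtain ⟨h3, h4⟩ := cecl7_ne haa'
  have hna' : a' ≠ ng a := fun e => h4 (by rw [e, ng_ng])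
  have hg := SysC.HW.short S hW h3 h4 1 one_ne_zero
  have hπ : ∀ k, (sws a a') (ng k) = ng ((sws a a') k) := fun k => SysC.stcx2_sws_ng a a' k
  have he : σ (lf h (S.w a a' 1)) = S.w a a' 1 := map_lf h _
  have hcj := cecl7_Dl_cj L hg hπ he hab t 1
  -- invariance
  have hnb : ng b ≠ b := ng_ne b
  have hCL1 : ∀ s u, CL σ (S.x a a' u) (S.x (ng b) b s) := by
    intro s u
    exact hC a a' (ng b) b h3 hnb (fun e => h2' e) h1 (fun e => h2' e) (by rw [ng_ng]; exact h1) u s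
  have hCL2 : ∀ s u, CL σ (S.x a' a u) (S.x (ng b) b s) := by
    intro s u
    exact hC a' a (ng b) b (Ne.symm h3) hnb (fun e => h2 e) h1' (fun e => h2 e) (by rw [ng_ng]; exact h1') u s
  have hinv : cj (lf h (S.w a a' 1)) (Dl L a b t 1) = Dl L a b t 1 :=
    cecl7_cj_eq_of_CL (cecl7_CL_w h (hCL1 _) (hCL2 _) 1) he (cecl7_Dl_map h L hab t 1)
  rw [hinv] at hcj
  -- the permutation
  have hpa : sws a a' a = a' := by
    have := SysC.wpm_left h3
    rwa [SysC.wpm_short hna'] at this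
  have hpb : sws a a' b = b := by
    have := SysC.wpm_of_ne (a := a) (b := a') (k := b) (Ne.symm h1) (Ne.symm h1')
      (fun e => h2 (by rw [e, ng_ng])) (fun e => h2' (by rw [e, ng_ng]))
    rwa [SysC.wpm_short hna'] at this
  rw [hcj, hpa, hpb]
  -- the coefficients
  have da : dws a a' (1 : K) a = -1 := by unfold dws; rw [if_pos rfl, inv_one]
  have dna : dws a a' (1 : K) (ng a) = -(sg a * sg a') := by
    unfold dws
    rw [if_neg (ng_ne a), if_neg (fun e => hna' e.symm), if_neg (fun e => h3 (ng_inj.1 e)), if_pos rfl, mul_one]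
  have db : dws a a' (1 : K) b = 1 := by
    unfold dws
    rw [if_neg (Ne.symm h1), if_neg (Ne.symm h1'), if_neg (fun e => h2' (by rw [e, ng_ng])),
      if_neg (fun e => h2 (by rw [e, ng_ng]))]
  rw [da, dna, db]
  have hs : (sg a * sg a' : K) * (sg a * sg a') = 1 := by
    rw [mul_mul_mul_comm, sg_mul_self, sg_mul_self, one_mul]
  have hs0 : (sg a * sg a' : K) ≠ 0 := mul_ne_zero (sg_ne_zero a) (sg_ne_zero a')
  have hsi : (sg a * sg a' : K)⁻¹ = sg a * sg a' := by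
    rw [inv_eq_iff_eq_inv]; exact eq_inv_of_mul_eq_one_left hs
  rw [cecl7_Dl_scale hC hH L ha'b]
  congr 1
  rw [inv_neg, hsi, inv_one, mul_one, mul_one, neg_sq]
  have : (sg a * sg a' : K) ^ 2 = 1 := by rw [pow_two, hs]
  rw [this, mul_one]
  ring

/-- L8 [M] -/
theorem Dl_eq_Xl [DecidableEq ι] (hC : HC S σ) (hW : S.HW) (hH : S.HH) (L : ShortLift S h) (h2 : I2 ι) {a b : ι ⊕ ι} (hab : ab a ≠ ab b) (t u : K) :
    Dl L a b t u = Xl L h2 b (sg a * sg b * t * u ^ 2) := by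
  classical
  rw [cecl7_Dl_scale hC hH L hab]
  unfold Xl
  have h0 : ab (Classical.choose (h2 b)) ≠ ab b := Classical.choose_spec (h2 b)
  generalize Classical.choose (h2 b) = a₀ at h0 ⊢
  have hb : (sg b : K) * sg b = 1 := sg_mul_self b
  by_cases e1 : a = a₀
  · subst e1
    congr 1
    have ha : (sg a : K) * sg a = 1 := sg_mul_self a
    calc t * u ^ 2 = (sg a * sg a) * (sg b * sg b) * (t * u ^ 2) := by rw [ha, hb, one_mul, one_mul]
      _ = sg a * sg b * (sg a * sg b * t * u ^ 2) := by ring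
  · by_cases e2 : a = ng a₀
    · subst e2
      rw [cecl7_Dl_flip hC hW L hab, ng_ng]
      congr 1
      have ha : (sg a₀ : K) * sg a₀ = 1 := sg_mul_self a₀
      rw [sg_ng]
      calc -(t * u ^ 2) = -((sg a₀ * sg a₀) * (sg b * sg b) * (t * u ^ 2)) := by rw [ha, hb, one_mul, one_mul]
        _ = sg a₀ * sg b * (-sg a₀ * sg b * t * u ^ 2) := by ring
    · have haa : ab a ≠ ab a₀ := by
        intro e
        rcases ab_eq_iff.1 e with e | e
        · exact e1 e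
        · exact e2 e
      rw [Dl_swap hC hW hH L hab h0 haa]
      congr 1
      calc sg a * sg a₀ * (t * u ^ 2) = sg a * sg a₀ * ((sg b * sg b) * (t * u ^ 2)) := by rw [hb, one_mul]
        _ = sg a₀ * sg b * (sg a * sg b * t * u ^ 2) := by ring

end L

end Cfsg.Agent.Lib.helper7.CEC
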