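import Mathlib

/-!
# A generic lifting lemma for central extensions (helper13)

`lift_of_stem_trivial`: let `H` be a finite perfect group all of whose finite stem extensions are trivial (i.e. the Schur
multiplier of `H` is trivial: every surjective `σ : R →* H` with `R` finite and `σ.ker ≤ center R ⊓ commutator R` is injective).
Then every homomorphism `ρ : H →* G` lifts through every finite central extension `π : Γ →* G`.
(Pullback `E ≤ H × Γ`; its commutator subgroup is perfect, maps onto `H` with central kernel, hence isomorphically.)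
Mathlib only; universe polymorphic.  Used for rank one lifts (`SL₂(q)`, `SU₃(q)`, ...) in the multiplier projects.
-/

set_option autoImplicit false

namespace Cfsg.Agent.Lib.Helper13.CELift

open scoped commutatorElement

universe uH uG uΓ

theorem comm_mul_central_left {A : Type*} [Group A] {a b z : A} (hz : z ∈ Subgroup.center A) : ⁅a * z, b⁆ = ⁅a, b⁆ := by
  have c := Subgroup.mem_center_iff.mp hz
  rw [commutatorElement_def, commutatorElement_def]
  calc a * z * b * (a * z)⁻¹ * b⁻¹ = a * (z * b * z⁻¹) * a⁻¹ * b⁻¹ := by group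
    _ = a * b * a⁻¹ * b⁻¹ := by rw [show z * b * z⁻¹ = b from by rw [← c b, mul_inv_cancel_right]]

theorem comm_mul_central_right {A : Type*} [Group A] {a b z : A} (hz : z ∈ Subgroup.center A) : ⁅a, b * z⁆ = ⁅a, b⁆ := by
  have c := Subgroup.mem_center_iff.mp hz
  rw [commutatorElement_def, commutatorElement_def]
  calc a * (b * z) * a⁻¹ * (b * z)⁻¹ = a * b * (z * a⁻¹ * z⁻¹) * b⁻¹ := by group
    _ = a * b * a⁻¹ * b⁻¹ := by rw [show z * a⁻¹ * z⁻¹ = a⁻¹ from by rw [← c a⁻¹, mul_inv_cancel_right]]

/-- commutators only depend on the images under a homomorphism with central kernel -/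
theorem comm_eq_of_map_eq {A B : Type*} [Group A] [Group B] (f : A →* B) (hcen : f.ker ≤ Subgroup.center A)
    {u u' v v' : A} (hu : f u = f u') (hv : f v = f v') : ⁅u, v⁆ = ⁅u', v'⁆ := by
  have h1 : u⁻¹ * u' ∈ Subgroup.center A := hcen (by
    rw [MonoidHom.mem_ker, map_mul, map_inv, hu, inv_mul_cancel])
  have h2 : v⁻¹ * v' ∈ Subgroup.center A := hcen (by
    rw [MonoidHom.mem_ker, map_mul, map_inv, hv, inv_mul_cancel])
  have e1 : u' = u * (u⁻¹ * u') := by group
  have e2 : v' = v * (v⁻¹ * v') := by group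
  rw [e1, e2, comm_mul_central_left h1, comm_mul_central_right h2]

/-- generic: a homomorphism from a perfect group `H`, all of whose finite stem extensions are trivial, lifts through a
finite central extension -/
theorem lift_of_stem_trivial {H : Type uH} [Group H] [Finite H] {G : Type uG} [Group G] {Γ : Type uΓ} [Group Γ] [Finite Γ]
    {π : Γ →* G} (hsurj : Function.Surjective π) (hcen : π.ker ≤ Subgroup.center Γ) (hH : commutator H = ⊤)
    (hstem : ∀ (R : Type (max uH uΓ)) [Group R] [Finite R] (σ : R →* H), Function.Surjective σ →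
      σ.ker ≤ Subgroup.center R → σ.ker ≤ commutator R → ∀ z ∈ σ.ker, z = 1)
    (ρ : H →* G) : ∃ ρ' : H →* Γ, ∀ m, π (ρ' m) = ρ m := by
  classical
  -- the pullback
  let E : Subgroup (H × Γ) := MonoidHom.eqLocus (ρ.comp (MonoidHom.fst H Γ)) (π.comp (MonoidHom.snd H Γ))
  have hE : ∀ z : ↥E, ρ z.1.1 = π z.1.2 := fun z => z.2
  let p : ↥E →* H := (MonoidHom.fst H Γ).comp E.subtype
  have hp : ∀ z : ↥E, p z = z.1.1 := fun _ => rfl
  have hpsurj : Function.Surjective p := fun m => by
    obtain ⟨γ, hγ⟩ := hsurj (ρ m)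
    exact ⟨⟨(m, γ), hγ.symm⟩, rfl⟩
  have hpcen : p.ker ≤ Subgroup.center ↥E := by
    intro z hz
    have h1 : z.1.1 = 1 := hz
    have h2 : z.1.2 ∈ π.ker := by
      rw [MonoidHom.mem_ker, ← hE z, h1, map_one]
    have h3 := Subgroup.mem_center_iff.mp (hcen h2)
    rw [Subgroup.mem_center_iff]
    intro g
    apply Subtype.ext
    apply Prod.ext
    · show g.1.1 * z.1.1 = z.1.1 * g.1.1
      rw [h1, mul_one, one_mul]
    · show g.1.2 * z.1.2 = z.1.2 * g.1.2
      exact h3 g.1.2
  -- the commutator subgroup of the pullback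
  let R : Subgroup ↥E := commutator ↥E
  have hmap : R.map p = ⊤ := by
    have h2 := Subgroup.map_commutator (⊤ : Subgroup ↥E) ⊤ p
    have h3 : (⊤ : Subgroup ↥E).map p = ⊤ := by
      rw [← MonoidHom.range_eq_map, MonoidHom.range_eq_top]
      exact hpsurj
    rw [h3, ← commutator_def, ← commutator_def, hH] at h2
    exact h2
  have hRperf : R ≤ ⁅R, R⁆ := by
    show ⁅(⊤ : Subgroup ↥E), ⊤⁆ ≤ ⁅R, R⁆
    rw [Subgroup.commutator_le]
    intro g₁ _ g₂ _
    have e₁ : p g₁ ∈ R.map p := by rw [hmap]; trivial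
    have e₂ : p g₂ ∈ R.map p := by rw [hmap]; trivial
    obtain ⟨r₁, hr₁, hr₁'⟩ := e₁
    obtain ⟨r₂, hr₂, hr₂'⟩ := e₂
    rw [comm_eq_of_map_eq p hpcen hr₁'.symm hr₂'.symm]
    exact Subgroup.commutator_mem_commutator hr₁ hr₂
  have hRtop : commutator ↥R = ⊤ := by
    have h2 := Subgroup.map_commutator (⊤ : Subgroup ↥R) ⊤ R.subtype
    have h3 : (⊤ : Subgroup ↥R).map R.subtype = R := by
      rw [← MonoidHom.range_eq_map, Subgroup.range_subtype]
    rw [h3, ← commutator_def] at h2
    rw [eq_top_iff]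
    intro x _
    have hx : (x : ↥E) ∈ (commutator ↥R).map R.subtype := by
      rw [h2]
      exact hRperf x.2
    obtain ⟨y, hy, hyx⟩ := hx
    have : y = x := Subtype.ext hyx
    rw [← this]
    exact hy
  let p' : ↥R →* H := p.comp R.subtype
  have hp'surj : Function.Surjective p' := by
    intro m
    have hm : m ∈ R.map p := by rw [hmap]; trivial
    obtain ⟨x, hx, hxm⟩ := hm
    exact ⟨⟨x, hx⟩, hxm⟩
  have hp'cen : p'.ker ≤ Subgroup.center ↥R := by
    intro z hz
    have hz' : (z : ↥E) ∈ Subgroup.center ↥E := hpcen (by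
      rw [MonoidHom.mem_ker]
      exact hz)
    rw [Subgroup.mem_center_iff]
    intro g
    apply Subtype.ext
    exact Subgroup.mem_center_iff.1 hz' g
  have hker := hstem ↥R p' hp'surj hp'cen (by rw [hRtop]; exact le_top)
  have hinj : Function.Injective p' := (injective_iff_map_eq_one p').2 (fun z hz => hker z hz)
  let e : ↥R ≃* H := MulEquiv.ofBijective p' ⟨hinj, hp'surj⟩
  refine ⟨((MonoidHom.snd H Γ).comp (E.subtype.comp R.subtype)).comp e.symm.toMonoidHom, fun m => ?_⟩
  have h1 : p' (e.symm m) = m := e.apply_symm_apply m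
  have h2 := hE (e.symm m : ↥R).1
  show π ((e.symm m : ↥R).1.1.2) = ρ m
  rw [← h2]
  congr 1


end Cfsg.Agent.Lib.Helper13.CELift
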