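import Mathlib
import Cfsg.Agent.Lib.helper3.CEUO.Defs2
import Cfsg.Agent.Lib.Helper24.STCI1

/-!
# Project CEUO (sub-designer helper3; odd case of S2089), row B1 `HCs_odd` (helper13), VERBATIM:
lifts of commuting short root elements commute (Milnor through `S.hh`, no further index).
-/

set_option autoImplicit false

namespace Cfsg.Agent.Lib.helper3.CEUO

open Cfsg.Agent.Lib.helper15.St2 Cfsg.Agent.Lib.helper7.Ce Cfsg.Agent.Lib.helper3.STC Cfsg.Agent.Lib.Helper27.STU
  Cfsg.Agent.Lib.helper7.CEU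

open Cfsg.Agent.Lib.helper7.CEC (I2 I3 I4 U2 U3)

section B

variable {F : Type*} [Field F] [StarRing F] {od : Prop} {ι : Type*} {Γ G : Type*} [Group Γ] [Group G] {S : SysU F od ι G} {σ : Γ →* G}

/-- `xs a b t = cm (xl a (ofV (-t))) (xl (ng b) (ofV 1))` -/
theorem ceuob1_cm (S : SysU F od ι G) (hF : Hyp F) (hod : od) {a b : ι ⊕ ι} (hab : a ≠ b) (hab' : a ≠ ng b) (t : F) :
    S.xs a b t = cm (S.xl a (ofV hF hod (-t))) (S.xl (ng b) (ofV hF hod 1)) := by
  have hh := S.hh a (ng b) hab' (by rw [ng_ng]; exact hab) (ofV hF hod (-t)) (ofV hF hod 1)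
  rw [ng_ng, ofV_v, ofV_v, star_one, mul_one, neg_neg] at hh
  exact hh.symm

/-- B1 [S-M]  Milnor, with NO further index. -/
theorem HCs_odd (h : IsCE σ) (hF : Hyp F) (hod : od) : HCs S σ := by
  intro a b c d hab hab' hcd hcd' hbc had hbd hac t u
  rw [ceuob1_cm S hF hod hab hab' t]
  apply h.milnor
  · refine S.comm_ls a c d hcd hcd' (fun e => hac ?_) (fun e => had e.symm) _ u
    rw [e, ng_ng]
  · refine S.comm_ls (ng b) c d hcd hcd' (fun e => hbc ?_) (fun e => hbd ?_) _ u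
    · rw [e, ng_ng]
    · rw [e, ng_ng]

end B

end Cfsg.Agent.Lib.helper3.CEUO
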