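import Mathlib
import Cfsg.Agent.Lib.helper7.CEU.Defs
import Cfsg.Agent.Lib.Helper24.STCI1

/-!
# CEU (designer helper7), row T7a `t2_ssl`, `t7_ssl` (helper13), VERBATIM: (even case) lifts of long root elements commute,
through `S.ssl` and Milnor's trick.
-/

set_option autoImplicit false

namespace Cfsg.Agent.Lib.helper7.CEU

open Cfsg.Agent.Lib.helper15.St2 Cfsg.Agent.Lib.helper7.Ce Cfsg.Agent.Lib.helper3.STC Cfsg.Agent.Lib.Helper27.STU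

open Cfsg.Agent.Lib.helper7.CEC (I2 I3 I4 U2 U3)

section T

variable {F : Type*} [Field F] [StarRing F] {od : Prop} {ι : Type*} {Γ G : Type*} [Group Γ] [Group G] {S : SysU F od ι G} {σ : Γ →* G}

/-- `ab a ≠ ab b` unpacked -/
theorem ceut7a_ne {a b : ι ⊕ ι} (h : ab a ≠ ab b) : a ≠ b ∧ a ≠ ng b ∧ b ≠ a ∧ b ≠ ng a := by
  refine ⟨fun e => h (by rw [e]), fun e => h (by rw [e, ab_ng]), fun e => h (by rw [e]), fun e => h (by rw [e, ab_ng])⟩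

/-- `xl a (tr x) = cm (xs a b x) (xs b (ng a) 1)` -/
theorem ceut7a_cm (S : SysU F od ι G) {a b : ι ⊕ ι} (hab : ab a ≠ ab b) (x : F) :
    S.xl a (Lam.tr x) = cm (S.xs a b x) (S.xs b (ng a) 1) := by
  obtain ⟨ab1, ab2, -, -⟩ := ceut7a_ne hab
  have := S.ssl a b ab1 ab2 x 1
  rw [mul_one] at this
  exact this.symm

/-- T7 [S-M]  (even case) the same long root: `ξ = Lam.tr x` (`hex`), `b` from `h2 a`, `xl a (tr x) = cm (xs a b x) (xs b (ng a) 1)` (`S.ssl`, `mul_one`); both factors commute with `xl a η` (`S.comm_ls`). -/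
theorem t2_ssl (h : IsCE σ) (h2 : I2 ι) (hex : ∀ ζ : Lam F od, ∃ x : F, ζ = Lam.tr x) :
    ∀ (a : ι ⊕ ι) (ξ η : Lam F od), CL σ (S.xl a ξ) (S.xl a η) := by
  intro a ξ η
  obtain ⟨x, rfl⟩ := hex ξ
  obtain ⟨b, hba⟩ := h2 a
  obtain ⟨ba1, ba2, ab1, ab2⟩ := ceut7a_ne hba
  rw [ceut7a_cm S (Ne.symm hba) x]
  apply h.milnor
  · exact (S.comm_ls a a b ab1 ab2 (ne_ng a) ba1 η x).symm
  · exact (S.comm_ls a b (ng a) ba2 (by rw [ng_ng]; exact ba1) ba2 (ng_ne a) η 1).symm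

/-- T7 [S-M]  (even case) two long roots: `b` from `h3 a c`, `xl a (tr x) = cm (xs a b x) (xs b (ng a) 1)`, both factors commute with `xl c η` (`S.comm_ls`). -/
theorem t7_ssl (h : IsCE σ) (h3 : I3 ι) (hex : ∀ ζ : Lam F od, ∃ x : F, ζ = Lam.tr x) :
    ∀ a c : ι ⊕ ι, ab a ≠ ab c → ∀ ξ η : Lam F od, CL σ (S.xl a ξ) (S.xl c η) := by
  intro a c hac ξ η
  obtain ⟨x, rfl⟩ := hex ξ
  obtain ⟨b, hba, hbc⟩ := h3 a c
  obtain ⟨ba1, ba2, ab1, ab2⟩ := ceut7a_ne hba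
  obtain ⟨bc1, bc2, cb1, cb2⟩ := ceut7a_ne hbc
  obtain ⟨ac1, ac2, ca1, ca2⟩ := ceut7a_ne hac
  rw [ceut7a_cm S (Ne.symm hba) x]
  apply h.milnor
  · exact (S.comm_ls c a b ab1 ab2 ac2 bc1 η x).symm
  · exact (S.comm_ls c b (ng a) ba2 (by rw [ng_ng]; exact ba1) bc2 (fun e => ca2 e.symm) η 1).symm

end T

end Cfsg.Agent.Lib.helper7.CEU
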