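import Mathlib
import Cfsg.Agent.Lib.helper3.CEUO.Defs2
import Cfsg.Agent.Lib.Helper24.STCI1
import Cfsg.Agent.Lib.Helper13.CEUT7a

/-!
# Project CEUO (sub-designer helper3; odd case of S2089), row B4 `CL_tr` (helper13), VERBATIM: Milnor through `S.ssl`.
-/

set_option autoImplicit false

namespace Cfsg.Agent.Lib.helper3.CEUO

open Cfsg.Agent.Lib.helper15.St2 Cfsg.Agent.Lib.helper7.Ce Cfsg.Agent.Lib.helper3.STC Cfsg.Agent.Lib.Helper27.STU
  Cfsg.Agent.Lib.helper7.CEU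

open Cfsg.Agent.Lib.helper7.CEC (I2 I3 I4 U2 U3)

section B

variable {F : Type*} [Field F] [StarRing F] {od : Prop} {ι : Type*} {Γ G : Type*} [Group Γ] [Group G] {S : SysU F od ι G} {σ : Γ →* G}

/-- B4 [S-M]  Milnor: `xl c (tr x) = cm (xs c b x) (xs b (ng c) 1)` (`S.ssl c b`, `mul_one`), and `xs c b x` (`S.comm_ls c c b`), `xs b (ng c) 1` (`S.comm_ls c b (ng c)`) commute with `xl c η`. -/
theorem CL_tr (h : IsCE σ) {c b : ι ⊕ ι} (hcb : ab c ≠ ab b) (x : F) (η : Lam F od) : CL σ (S.xl c (Lam.tr x)) (S.xl c η) := by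
  obtain ⟨cb1, cb2, bc1, bc2⟩ := ceut7a_ne hcb
  rw [ceut7a_cm S hcb x]
  apply h.milnor
  · exact (S.comm_ls c c b cb1 cb2 (ne_ng c) bc1 η x).symm
  · exact (S.comm_ls c b (ng c) bc2 (by rw [ng_ng]; exact bc1) bc2 (ng_ne c) η 1).symm

end B

end Cfsg.Agent.Lib.helper3.CEUO
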