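import Mathlib
import Cfsg.Agent.Lib.helper7.CEU.Defs
import Cfsg.Agent.Lib.Helper24.STCI1
import Cfsg.Agent.Lib.helper4.CEUG2
import Cfsg.Agent.Lib.helper8.STULA1

/-!
# CEU (designer helper7), row T6b `t6_torus` (helper13), VERBATIM: orthogonal long / short pair, the torus trick with `hs c d s`.
-/

set_option autoImplicit false

namespace Cfsg.Agent.Lib.helper7.CEU

open Cfsg.Agent.Lib.helper15.St2 Cfsg.Agent.Lib.helper7.Ce Cfsg.Agent.Lib.helper3.STC Cfsg.Agent.Lib.Helper27.STU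

open Cfsg.Agent.Lib.helper7.CEC (I2 I3 I4 U2 U3)

section T

variable {F : Type*} [Field F] [StarRing F] {od : Prop} {ι : Type*} {Γ G : Type*} [Group Γ] [Group G] {S : SysU F od ι G} {σ : Γ →* G}

/-- `ab a ≠ ab b` unpacked -/
theorem ceut6b_ne {a b : ι ⊕ ι} (h : ab a ≠ ab b) : a ≠ b ∧ a ≠ ng b ∧ b ≠ a ∧ b ≠ ng a := by
  refine ⟨fun e => h (by rw [e]), fun e => h (by rw [e, ab_ng]), fun e => h (by rw [e]), fun e => h (by rw [e, ab_ng])⟩

/-- T6 [S-M]  `g := S.hs c d s` scales `xs c d` by `s * s` (`dhs c d s`: `s` at `c`, `s⁻¹` at `d`) and fixes `xl a ξ` (coefficient `1`, `d0 = 1`). -/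
theorem t6_torus [DecidableEq ι] (h : IsCE σ) (hH : S.HH) {s : F} (hs0 : s ≠ 0) (hs2 : s ^ 2 ≠ 1) :
    ∀ a c d : ι ⊕ ι, ab c ≠ ab d → ab a ≠ ab c → ab a ≠ ab d → ∀ (ξ : Lam F od) (u : F), CL σ (S.xl a ξ) (S.xs c d u) := by
  intro a c d hcd hac had ξ u
  obtain ⟨cd1, cd2, dc1, dc2⟩ := ceut6b_ne hcd
  obtain ⟨ac1, ac2, ca1, ca2⟩ := ceut6b_ne hac
  obtain ⟨ad1, ad2, da1, da2⟩ := ceut6b_ne had
  have hg := hH.1 c d cd1 cd2 s hs0
  apply CL.symm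
  refine CL_tor_s h hcd hg ?_ ?_ ?_ u
  · have e1 : Cfsg.Agent.Lib.Helper27.STU.dhs c d s c = s := by unfold Cfsg.Agent.Lib.Helper27.STU.dhs; rw [if_pos rfl]
    have e2 : Cfsg.Agent.Lib.Helper27.STU.dhs c d s d = s⁻¹ := by unfold Cfsg.Agent.Lib.Helper27.STU.dhs; rw [if_neg dc1, if_pos rfl]
    rw [e1, e2, inv_inv, ← pow_two]
    exact hs2
  · have e : Cfsg.Agent.Lib.Helper27.STU.dhs c d s a = 1 := by
      unfold Cfsg.Agent.Lib.Helper27.STU.dhs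
      rw [if_neg ac1, if_neg ad1, if_neg ac2, if_neg ad2]
    have := hg.2.2 a ξ
    rw [this, e, inv_one, mul_one, Lam.act_one]
    rfl
  · intro u'
    exact (S.comm_ls a c d cd1 cd2 ca2 da1 ξ u').symm

end T

end Cfsg.Agent.Lib.helper7.CEU
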