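import Mathlib
import Cfsg.Agent.Lib.helper3.CEUO.Defs2
import Cfsg.Agent.Lib.Helper27.STU.Defs3
import Cfsg.Agent.Lib.Helper27.STU.Frob
import Cfsg.Agent.Lib.Helper24.STUM3
import Cfsg.Agent.Lib.Helper16.STUH4
import Cfsg.Agent.Lib.Helper24.CECM3
import Cfsg.Agent.Lib.Helper28.UHerm
import Cfsg.Agent.Lib.Helper9.CEUOF3a
import Cfsg.Agent.Lib.Helper9.CEUOF1
import Cfsg.Agent.Lib.helper23.CEUN1
import Cfsg.Agent.Lib.helper4.CEUOM1
import Cfsg.Agent.Lib.Helper16.CEUOR2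
import Cfsg.Agent.Lib.helper15.CEUON1
import Cfsg.Agent.Lib.helper4.CEUOF3b
import Cfsg.Agent.Lib.Helper16.CEUOR4
import Cfsg.Agent.Lib.helper23.CEUOP3

/-!
# Project CEUO (sub-designer helper3; odd case of S2089), row N3 `exists_lift_odd` (helper13), VERBATIM:
the Steinberg system of unitary type (odd case) lifts along every central extension with finite source.
Assembly of F1a F1b F2 F3a F3b M1 N1 N2 R3 R4 and helper7's CEU N1.
-/

set_option autoImplicit false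

namespace Cfsg.Agent.Lib.helper3.CEUO

open Cfsg.Agent.Lib.helper15.St2 Cfsg.Agent.Lib.helper7.Ce Cfsg.Agent.Lib.helper3.STC Cfsg.Agent.Lib.Helper27.STU
  Cfsg.Agent.Lib.helper7.CEU

open Cfsg.Agent.Lib.helper7.CEC (I2 I3 I4 U2 U3)

section N

universe u w w₀

variable {F : Type u} [Field F] [Fintype F] {q : ℕ}

theorem exists_lift_odd (hF : Fintype.card F = q ^ 2) {m : ℕ} (hm : 2 ≤ m) {Γ : Type w} {G : Type w₀} [Group Γ] [Group G] [Finite Γ]
    {σ : Γ →* G} (h : IsCE σ) :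
    letI := frobStar hF
    ∀ S : SysU F True (Fin m) G, ∃ P : SysU F True (Fin m) Γ,
      (∀ a b : Fin m ⊕ Fin m, ab a ≠ ab b → ∀ t, σ (P.xs a b t) = S.xs a b t) ∧ ∀ a ξ, σ (P.xl a ξ) = S.xl a ξ := by
  letI := frobStar hF
  intro S
  have hFh : Hyp F := frobStar_hyp hF
  have h2 : I2 (Fin m) := Cfsg.Agent.Lib.helper7.CEC.I2_fin hm
  have hH := S.hH_all S.hW_all
  obtain ⟨r, hr0, hr3, hrq⟩ := exists_gen_frob hF
  have ht1 : Tor1 S := tor1_of hFh trivial S hH hr0 hr3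
  obtain ⟨s, hs0, hs2⟩ := Cfsg.Agent.Lib.helper7.CEU.exists_sq_ne_one_frob hF
  by_cases hq : 3 ≤ q
  · obtain ⟨r', hr'q, hr'0, hr'1⟩ := Cfsg.Agent.Lib.helper7.CEU.exists_fixed_ne_one hF hq
    have htb : TorB S := torB_fixed hFh trivial S hH hr'0 hr'q hr'1
    obtain ⟨hr1, hr2⟩ := hrq hq
    exact exists_lift_odd_abs hFh trivial h h2 S htb ht1 hs0 hs2
      (fun Z => r1_lift hFh trivial Z (hlift_frob hF hq h) hr0 hr1 hr2)
  · have hq2 : q = 2 := by
      have := Cfsg.Agent.Lib.Helper28.UHerm.two_le_q hF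
      omega
    subst hq2
    obtain ⟨r', hr'0, hr'1⟩ := exists_ne_frob_two hF
    have htb : TorB S := torB_sq hFh trivial S hH hr'0 (pow_two r') hr'1
    exact exists_lift_odd_abs hFh trivial h h2 S htb ht1 hs0 hs2
      (fun Z => r1_of_univ Z (r1univ_four hF))

end N

end Cfsg.Agent.Lib.helper3.CEUO
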