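import Mathlib
import Cfsg.Agent.Lib.helper3.CEUO.Defs2
import Cfsg.Agent.Lib.Helper27.STU.Defs3
import Cfsg.Agent.Lib.Helper27.STU.Frob

/-!
# Project CEUO (sub-designer helper3; odd case of S2089), part 2, row P5 `quat_four` (helper13), VERBATIM:
the quaternion group `Lam F True` over the field with four elements.
-/

set_option autoImplicit false

namespace Cfsg.Agent.Lib.helper3.CEUO

open Cfsg.Agent.Lib.helper15.St2 Cfsg.Agent.Lib.helper7.Ce Cfsg.Agent.Lib.helper3.STC Cfsg.Agent.Lib.Helper27.STU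
  Cfsg.Agent.Lib.helper7.CEU

section P

universe u w

variable {F : Type u} [Field F] [Fintype F]

/-- characteristic two -/
theorem ceuop5_two (hF : Fintype.card F = 2 ^ 2) : (2 : F) = 0 := by
  classical
  have : Fact (Nat.Prime 2) := ⟨Nat.prime_two⟩
  have hcp : CharP F 2 := charP_of_card_eq_prime_pow hF
  have := CharP.cast_eq_zero F 2
  exact_mod_cast this

/-- P5 [M]  the quaternion group. -/
theorem quat_four (hF : Fintype.card F = 2 ^ 2) :
    letI := frobStar hF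
    ∀ p q ζ₀ : Lam F True, p.v = 1 → q.v = p.c → q.c = p.c → p.c * p.c = p.c + 1 → ζ₀.v = 0 → ζ₀.c = 1 →
      Lam.mu ζ₀ = ζ₀ ∧ Lam.nu ζ₀ = ζ₀ ∧ (q * p).c ≠ 0 ∧ Lam.mu (q * p) = q ∧ Lam.nu (q * p) = p ∧ p * p = ζ₀ ∧ q * q = ζ₀ ∧
        ζ₀ * ζ₀ = 1 ∧ q * p = p⁻¹ * q := by
  letI := frobStar hF
  intro p q ζ₀ hpv hqv hqc hr hzv hzc
  have h2 := ceuop5_two hF
  have hst : ∀ x : F, star x = x ^ 2 := fun _ => rfl
  have hr3 : p.c * p.c * p.c = 1 := by linear_combination (p.c + 1) * hr + p.c * h2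
  have hr0 : p.c ≠ 0 := by
    intro h0
    rw [h0] at hr3
    simp at hr3
  have hrinv : (p.c)⁻¹ = p.c * p.c := by
    rw [inv_eq_iff_eq_inv]
    exact eq_inv_of_mul_eq_one_left (by rw [← hr3]; ring)
  have hqp_v : (q * p).v = p.c + 1 := by rw [Lam.mul_v, hqv, hpv]
  have hqp_c : (q * p).c = p.c := by
    rw [Lam.mul_c, hqc, hqv, hpv, hst, one_pow, mul_one]
    ring
  refine ⟨?_, ?_, ?_, ?_, ?_, ?_, ?_, ?_, ?_⟩
  · apply Lam.ext
    · rw [Lam.mu_v, hzv, neg_zero, zero_div]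
    · rw [Lam.mu_c, hzc, hst, one_pow, inv_one]
  · apply Lam.ext
    · rw [Lam.nu_v, hzv, zero_mul, zero_div]
    · rw [Lam.nu_c]
  · rw [hqp_c]
    exact hr0
  · apply Lam.ext
    · rw [Lam.mu_v, hqp_v, hqp_c, hqv, div_eq_mul_inv, hrinv]
      linear_combination (-1 : F) * hr3 - hr - (p.c + 1) * h2
    · rw [Lam.mu_c, hqp_c, hqc, hst]
      rw [inv_eq_iff_eq_inv]
      exact eq_inv_of_mul_eq_one_left (by rw [← hr3]; ring)
  · apply Lam.ext
    · rw [Lam.nu_v, hqp_v, hqp_c, hpv, hst, div_eq_mul_inv, hrinv]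
      linear_combination (p.c * p.c + p.c) * hr3 + hr + p.c * h2
    · rw [Lam.nu_c, hqp_c]
  · apply Lam.ext
    · rw [Lam.mul_v, hpv, hzv]
      linear_combination h2
    · rw [Lam.mul_c, hpv, hzc, hst, one_pow, mul_one]
      linear_combination (p.c - 1) * h2
  · apply Lam.ext
    · rw [Lam.mul_v, hqv, hzv]
      linear_combination p.c * h2
    · rw [Lam.mul_c, hqc, hqv, hzc, hst]
      linear_combination (p.c - 1) * h2 - hr3
  · apply Lam.ext
    · rw [Lam.mul_v, hzv, Lam.one_v, add_zero]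
    · rw [Lam.mul_c, hzc, hzv, Lam.one_c, zero_mul, sub_zero]
      linear_combination h2
  · apply Lam.ext
    · rw [hqp_v, Lam.mul_v, Lam.inv_v, hpv, hqv]
      linear_combination h2
    · rw [hqp_c, Lam.mul_c, Lam.inv_c, Lam.inv_v, hpv, hqc, hqv, hst]
      linear_combination (-(p.c * p.c)) * h2

end P

end Cfsg.Agent.Lib.helper3.CEUO
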