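import Mathlib
import Cfsg.Agent.Lib.helper7.CEU.Defs
import Cfsg.Agent.Lib.Helper24.STCI1

/-!
# CEU (designer helper7), row W12 `tor_three`, `tor_two` (helper13), VERBATIM: the torus elements for W11 `ls_tr`.
-/

set_option autoImplicit false

namespace Cfsg.Agent.Lib.helper7.CEU

open Cfsg.Agent.Lib.helper15.St2 Cfsg.Agent.Lib.helper7.Ce Cfsg.Agent.Lib.helper3.STC Cfsg.Agent.Lib.Helper27.STU

open Cfsg.Agent.Lib.helper7.CEC (I2 I3 I4 U2 U3)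

section W

variable {F : Type*} [Field F] [StarRing F] {od : Prop} {ι : Type*} {Γ G : Type*} [Group Γ] [Group G] {S : SysU F od ι G} {σ : Γ →* G} {h : IsCE σ}

/-- `ab a ≠ ab b` unpacked -/
theorem ceuw12_ne {a b : ι ⊕ ι} (h : ab a ≠ ab b) : a ≠ b ∧ a ≠ ng b ∧ b ≠ a ∧ b ≠ ng a := by
  refine ⟨fun e => h (by rw [e]), fun e => h (by rw [e, ab_ng]), fun e => h (by rw [e]), fun e => h (by rw [e, ab_ng])⟩

/-- W12 [S-M]  three indices: `c` from `h3 a b`, `g := S.hs b c s` (`hH.1`): `d a = 1`, `d (ng a) = 1`, `d b = s`. -/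
theorem tor_three [DecidableEq ι] (S : SysU F od ι G) (hH : S.HH) (h3 : I3 ι) {s : F} (hs0 : s ≠ 0) (hs1 : s ≠ 1) :
    ∀ a b : ι ⊕ ι, ab a ≠ ab b → ∃ (g : G) (d : ι ⊕ ι → F) (d0 : F), S.IsMon g 1 d d0 ∧ d a * star (d a) = 1 ∧ d (ng a) * (d b)⁻¹ ≠ 1 := by
  intro a b hab
  obtain ⟨c, hca, hcb⟩ := h3 a b
  obtain ⟨ab1, ab2, ba1, ba2⟩ := ceuw12_ne hab
  obtain ⟨ca1, ca2, ac1, ac2⟩ := ceuw12_ne hca
  obtain ⟨cb1, cb2, bc1, bc2⟩ := ceuw12_ne hcb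
  refine ⟨S.hs b c s, Cfsg.Agent.Lib.Helper27.STU.dhs b c s, 1, hH.1 b c bc1 bc2 s hs0, ?_, ?_⟩
  · have e : Cfsg.Agent.Lib.Helper27.STU.dhs b c s a = 1 := by
      unfold Cfsg.Agent.Lib.Helper27.STU.dhs
      rw [if_neg ab1, if_neg ac1, if_neg ab2, if_neg ac2]
    rw [e, star_one, mul_one]
  · have e1 : Cfsg.Agent.Lib.Helper27.STU.dhs b c s (ng a) = 1 := by
      unfold Cfsg.Agent.Lib.Helper27.STU.dhs
      rw [if_neg (fun e => ba2 e.symm), if_neg (fun e => ca2 e.symm), if_neg (fun e => ab1 (ng_inj.1 e)),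
        if_neg (fun e => ac1 (ng_inj.1 e))]
    have e2 : Cfsg.Agent.Lib.Helper27.STU.dhs b c s b = s := by
      unfold Cfsg.Agent.Lib.Helper27.STU.dhs
      rw [if_pos rfl]
    rw [e1, e2, one_mul]
    intro e
    exact hs1 (inv_eq_one.1 e)

/-- W12 [S-M]  two indices: `g := S.hl b ξ₁ ξ₂` (`hH.2`): `d a = 1`, `d (ng a) = 1`, `d b = ξ₁.c / ξ₂.c`. -/
theorem tor_two [DecidableEq ι] (S : SysU F od ι G) (hH : S.HH) {ξ₁ ξ₂ : Lam F od} (h1 : ξ₁.c ≠ 0) (h2 : ξ₂.c ≠ 0) (hr : ξ₁.c ≠ ξ₂.c) :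
    ∀ a b : ι ⊕ ι, ab a ≠ ab b → ∃ (g : G) (d : ι ⊕ ι → F) (d0 : F), S.IsMon g 1 d d0 ∧ d a * star (d a) = 1 ∧ d (ng a) * (d b)⁻¹ ≠ 1 := by
  intro a b hab
  obtain ⟨ab1, ab2, ba1, ba2⟩ := ceuw12_ne hab
  refine ⟨S.hl b ξ₁ ξ₂, Cfsg.Agent.Lib.Helper27.STU.dhl b (ξ₁.c / ξ₂.c), Cfsg.Agent.Lib.Helper27.STU.d0h (ξ₁.c / ξ₂.c), hH.2 b ξ₁ ξ₂ h1 h2, ?_, ?_⟩
  · have e : Cfsg.Agent.Lib.Helper27.STU.dhl b (ξ₁.c / ξ₂.c) a = 1 := by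
      unfold Cfsg.Agent.Lib.Helper27.STU.dhl
      rw [if_neg ab1, if_neg ab2]
    rw [e, star_one, mul_one]
  · have e1 : Cfsg.Agent.Lib.Helper27.STU.dhl b (ξ₁.c / ξ₂.c) (ng a) = 1 := by
      unfold Cfsg.Agent.Lib.Helper27.STU.dhl
      rw [if_neg (fun e => ba2 e.symm), if_neg (fun e => ab1 (ng_inj.1 e))]
    have e2 : Cfsg.Agent.Lib.Helper27.STU.dhl b (ξ₁.c / ξ₂.c) b = ξ₁.c / ξ₂.c := by
      unfold Cfsg.Agent.Lib.Helper27.STU.dhl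
      rw [if_pos rfl]
    rw [e1, e2, one_mul]
    intro e
    apply hr
    have := inv_eq_one.1 e
    exact (div_eq_one_iff_eq h2).1 this

end W

end Cfsg.Agent.Lib.helper7.CEU
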