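import Mathlib
import Cfsg.Agent.Lib.helper7.CEU.Defs
import Cfsg.Agent.Lib.Helper24.STCI1
import Cfsg.Agent.Lib.Helper24.STUB1
import Cfsg.Agent.Lib.helper8.STULA1

/-!
# CEU (designer helper7), row W8b `Zh_add` (helper13), VERBATIM: the torus lifts of the long root elements are additive.
-/

set_option autoImplicit false

namespace Cfsg.Agent.Lib.helper7.CEU

open Cfsg.Agent.Lib.helper15.St2 Cfsg.Agent.Lib.helper7.Ce Cfsg.Agent.Lib.helper3.STC Cfsg.Agent.Lib.Helper27.STU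

open Cfsg.Agent.Lib.helper7.CEC (I2 I3 I4 U2 U3)

section W

variable {F : Type*} [Field F] [StarRing F] {od : Prop} {ι : Type*} {Γ G : Type*} [Group Γ] [Group G] {S : SysU F od ι G} {σ : Γ →* G} {h : IsCE σ}

/-- the image of `Zh`-type commutators lies in the root subgroup `xl a` (no simplification of the parameter) -/
theorem ceuw8b_map [DecidableEq ι] (h : IsCE σ) (hH : S.HH) {ξ₁ ξ₂ : Lam F od} (h1 : ξ₁.c ≠ 0) (h2 : ξ₂.c ≠ 0) (a : ι ⊕ ι)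
    (ζ : Lam F od) :
    ∃ ζ' : Lam F od, σ (cm (lf h (S.hl a ξ₁ ξ₂)) (lf h (S.xl a ζ))) = S.xl a ζ' := by
  have hg := hH.2 a ξ₁ ξ₂ h1 h2
  have e := hg.2.2 a ζ
  rw [Equiv.Perm.one_apply] at e
  refine ⟨Lam.act (Cfsg.Agent.Lib.Helper27.STU.dhl a (ξ₁.c / ξ₂.c) a * (Cfsg.Agent.Lib.Helper27.STU.d0h (ξ₁.c / ξ₂.c))⁻¹) ζ * ζ⁻¹, ?_⟩
  rw [map_cm, map_lf, map_lf, ← S.addl, S.xl_inv, ← e]
  unfold cm cj
  group

/-- W8 [S-M]  as `Xt_add` (`cm_mul_right`, `hCe.1`, `IsCE.cm_congr`, `Lam.tr_add`). -/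
theorem Zh_add [DecidableEq ι] (h : IsCE σ) (hCe : HCe S σ) (hH : S.HH) {ξ₁ ξ₂ : Lam F od} (h1 : ξ₁.c ≠ 0) (h2 : ξ₂.c ≠ 0)
    (hN : (ξ₁.c / ξ₂.c) * star (ξ₁.c / ξ₂.c) ≠ 1) (a : ι ⊕ ι) (x y : F) :
    Zh S h ξ₁ ξ₂ a (x + y) = Zh S h ξ₁ ξ₂ a x * Zh S h ξ₁ ξ₂ a y := by
  set k : F := ((ξ₁.c / ξ₂.c) * star (ξ₁.c / ξ₂.c) - 1)⁻¹ with hk
  set p : Γ := lf h (S.xl a (Lam.tr (k * x))) with hp
  set q : Γ := lf h (S.xl a (Lam.tr (k * y))) with hq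
  have e1 : σ (lf h (S.xl a (Lam.tr (k * (x + y))))) = σ (p * q) := by
    rw [map_mul, map_lf, hp, hq, map_lf, map_lf, S.addl, ← Lam.tr_add, mul_add]
  have e2 : Zh S h ξ₁ ξ₂ a (x + y) = cm (lf h (S.hl a ξ₁ ξ₂)) (p * q) := by
    unfold Zh
    exact h.cm_congr rfl e1
  have e3 : cm (lf h (S.hl a ξ₁ ξ₂)) q = Zh S h ξ₁ ξ₂ a y := rfl
  have e4 : cm (lf h (S.hl a ξ₁ ξ₂)) p = Zh S h ξ₁ ξ₂ a x := rfl
  rw [e2, cm_mul_right, e3, e4]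
  obtain ⟨ζ', hζ'⟩ := ceuw8b_map h hH h1 h2 a (Lam.tr (k * y))
  have hcomm : p * Zh S h ξ₁ ξ₂ a y = Zh S h ξ₁ ξ₂ a y * p :=
    hCe.1 a (Lam.tr (k * x)) ζ' p (Zh S h ξ₁ ξ₂ a y) (map_lf h _) hζ'
  rw [hcomm, mul_inv_cancel_right]

end W

end Cfsg.Agent.Lib.helper7.CEU
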