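import Mathlib.GroupTheory.Nilpotent
import Mathlib.GroupTheory.Commutator.Basic
import Mathlib.GroupTheory.Subgroup.Centralizer

set_option autoImplicit false

namespace Cfsg.Agent.Lib.Helper13

open scoped commutatorElement

variable {P : Type*} [Group P]

theorem mem_sup_zpowers_of_comm {B : Subgroup P} {x : P} (hx : ∀ b ∈ B, x * b = b * x) {g : P}
    (hg : g ∈ B ⊔ Subgroup.zpowers x) : ∃ b ∈ B, ∃ k : ℤ, g = b * x ^ k := by
  rw [Subgroup.sup_eq_closure] at hg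
  induction hg using Subgroup.closure_induction with
  | mem y hy =>
    rcases hy with hy | hy
    · exact ⟨y, hy, 0, by simp⟩
    · obtain ⟨k, rfl⟩ := hy
      exact ⟨1, B.one_mem, k, by simp⟩
  | one => exact ⟨1, B.one_mem, 0, by simp⟩
  | mul y z _ _ hy hz =>
    obtain ⟨b, hb, k, rfl⟩ := hy
    obtain ⟨b', hb', k', rfl⟩ := hz
    refine ⟨b * b', B.mul_mem hb hb', k + k', ?_⟩
    have hc : x ^ k * b' = b' * x ^ k := (Commute.zpow_left (hx b' hb') k)
    rw [zpow_add]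
    calc b * x ^ k * (b' * x ^ k') = b * (x ^ k * b') * x ^ k' := by group
      _ = b * (b' * x ^ k) * x ^ k' := by rw [hc]
      _ = b * b' * (x ^ k * x ^ k') := by group
  | inv y _ hy =>
    obtain ⟨b, hb, k, rfl⟩ := hy
    refine ⟨b⁻¹, B.inv_mem hb, -k, ?_⟩
    have hc : x ^ (-k) * b⁻¹ = b⁻¹ * x ^ (-k) := (Commute.zpow_left (hx b⁻¹ (B.inv_mem hb)) (-k))
    rw [← hc]
    group

/-- The normalizer of `B` normalizes the centralizer of `B`. -/
theorem conj_mem_centralizer_of_mem_normalizer {B : Subgroup P} {n y : P}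
    (hn : n ∈ Subgroup.normalizer (B : Set P)) (hy : y ∈ Subgroup.centralizer (B : Set P)) :
    n * y * n⁻¹ ∈ Subgroup.centralizer (B : Set P) := by
  rw [Subgroup.mem_centralizer_iff] at hy ⊢
  intro b hb
  have hb' : n⁻¹ * b * n ∈ B := by
    have := (Subgroup.mem_normalizer_iff.mp (Subgroup.inv_mem _ hn) b).mp hb
    simpa using this
  have := hy _ hb'
  calc b * (n * y * n⁻¹) = n * ((n⁻¹ * b * n) * y) * n⁻¹ := by group
    _ = n * (y * (n⁻¹ * b * n)) * n⁻¹ := by rw [this]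
    _ = n * y * n⁻¹ * b := by group

/-- If `C_P(B) ≰ B` in a nilpotent group, some `x ∈ C_P(B) ∖ B` is central modulo `B` in `N_P(B)`. -/
theorem exists_centralizer_elt_central_mod [Group.IsNilpotent P] (B : Subgroup P)
    (h : ¬ Subgroup.centralizer (B : Set P) ≤ B) :
    ∃ x ∈ Subgroup.centralizer (B : Set P), x ∉ B ∧
      ∀ n ∈ Subgroup.normalizer (B : Set P), ⁅x, n⁆ ∈ B := by
  obtain ⟨c, hc⟩ := (Subgroup.nilpotent_iff_lowerCentralSeries (G := P)).mp inferInstance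
  have key : ∀ d k : ℕ, k + d = c →
      (∃ x ∈ Subgroup.centralizer (B : Set P), x ∈ (⊤ : Subgroup P).lowerCentralSeries k ∧ x ∉ B) →
      ∃ x ∈ Subgroup.centralizer (B : Set P), x ∉ B ∧
        ∀ n ∈ Subgroup.normalizer (B : Set P), ⁅x, n⁆ ∈ B := by
    intro d
    induction d with
    | zero =>
      rintro k hk ⟨x, _, hxk, hxB⟩
      exfalso
      rw [add_zero] at hk
      rw [hk, hc, Subgroup.mem_bot] at hxk
      exact hxB (hxk ▸ B.one_mem)
    | succ d ih =>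
      rintro k hk ⟨x, hxC, hxk, hxB⟩
      by_cases hall : ∀ n ∈ Subgroup.normalizer (B : Set P), ⁅x, n⁆ ∈ B
      · exact ⟨x, hxC, hxB, hall⟩
      · push Not at hall
        obtain ⟨n, hn, hxn⟩ := hall
        apply ih (k + 1) (by omega)
        refine ⟨⁅x, n⁆, ?_, ?_, hxn⟩
        · rw [commutatorElement_def]
          have h1 := conj_mem_centralizer_of_mem_normalizer hn (Subgroup.inv_mem _ hxC)
          have h2 : x * n * x⁻¹ * n⁻¹ = x * (n * x⁻¹ * n⁻¹) := by group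
          rw [h2]
          exact Subgroup.mul_mem _ hxC h1
        · rw [Subgroup.lowerCentralSeries_succ]
          exact Subgroup.subset_closure ⟨x, hxk, n, Subgroup.mem_top n, rfl⟩
  obtain ⟨x, hxC, hxB⟩ := SetLike.not_le_iff_exists.mp h
  exact key c 0 (by omega) ⟨x, hxC, by rw [Subgroup.lowerCentralSeries_zero]; exact Subgroup.mem_top x, hxB⟩

section Ext

variable {B : Subgroup P} {x : P}

theorem comm_of_mem_centralizer (hxC : x ∈ Subgroup.centralizer (B : Set P)) :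
    ∀ b ∈ B, x * b = b * x := fun b hb =>
  ((Subgroup.mem_centralizer_iff.mp hxC) b hb).symm

theorem ext_le_centralizer_center (hxC : x ∈ Subgroup.centralizer (B : Set P)) :
    B ⊔ Subgroup.zpowers x ≤
      Subgroup.centralizer ((B ⊓ Subgroup.centralizer (B : Set P) : Subgroup P) : Set P) := by
  apply sup_le
  · intro b hb
    rw [Subgroup.mem_centralizer_iff]
    intro z hz
    exact ((Subgroup.mem_centralizer_iff.mp (Subgroup.mem_inf.mp hz).2) b hb).symm
  · rw [Subgroup.zpowers_le, Subgroup.mem_centralizer_iff]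
    intro z hz
    exact (Subgroup.mem_centralizer_iff.mp hxC) z (Subgroup.mem_inf.mp hz).1

theorem center_le_ext_center (hxC : x ∈ Subgroup.centralizer (B : Set P)) :
    B ⊓ Subgroup.centralizer (B : Set P) ≤
      (B ⊔ Subgroup.zpowers x) ⊓ Subgroup.centralizer ((B ⊔ Subgroup.zpowers x : Subgroup P) : Set P) := by
  intro z hz
  refine Subgroup.mem_inf.mpr ⟨Subgroup.mem_sup_left (Subgroup.mem_inf.mp hz).1, ?_⟩
  rw [Subgroup.mem_centralizer_iff]
  intro g hg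
  have := ext_le_centralizer_center hxC hg
  exact ((Subgroup.mem_centralizer_iff.mp this) z hz).symm

theorem ext_le_centralizer_x (hxC : x ∈ Subgroup.centralizer (B : Set P)) :
    B ⊔ Subgroup.zpowers x ≤ Subgroup.centralizer ({x} : Set P) := by
  apply sup_le
  · intro b hb
    rw [Subgroup.mem_centralizer_iff]
    intro y hy
    rw [Set.mem_singleton_iff] at hy
    subst hy
    exact comm_of_mem_centralizer hxC b hb
  · rw [Subgroup.zpowers_le, Subgroup.mem_centralizer_iff]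
    intro y hy
    rw [Set.mem_singleton_iff] at hy
    subst hy
    rfl

theorem zpow_comm_ext (hxC : x ∈ Subgroup.centralizer (B : Set P)) (k : ℤ) :
    ∀ g ∈ B ⊔ Subgroup.zpowers x, x ^ k * g = g * x ^ k := by
  intro g hg
  have h1 := ext_le_centralizer_x hxC hg
  have h2 : x * g = g * x := (Subgroup.mem_centralizer_iff.mp h1) x rfl
  exact (Commute.zpow_left h2 k)

theorem commutator_mul_right_central {a g c : P} (h1 : c * a = a * c) (h2 : c * g = g * c) :
    ⁅a * c, g⁆ = ⁅a, g⁆ := by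
  rw [commutatorElement_def, commutatorElement_def]
  calc a * c * g * (a * c)⁻¹ * g⁻¹ = a * (c * g) * c⁻¹ * a⁻¹ * g⁻¹ := by group
    _ = a * (g * c) * c⁻¹ * a⁻¹ * g⁻¹ := by rw [h2]
    _ = a * g * a⁻¹ * g⁻¹ := by group

theorem commutator_mul_right_central' {a g c : P} (h1 : c * a = a * c) (h2 : c * g = g * c) :
    ⁅a, g * c⁆ = ⁅a, g⁆ := by
  rw [commutatorElement_def, commutatorElement_def]
  calc a * (g * c) * a⁻¹ * (g * c)⁻¹ = a * g * (c * a⁻¹) * c⁻¹ * g⁻¹ := by group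
    _ = a * g * (a⁻¹ * c) * c⁻¹ * g⁻¹ := by
      have : c * a⁻¹ = a⁻¹ * c := by
        calc c * a⁻¹ = a⁻¹ * (a * c) * a⁻¹ := by group
          _ = a⁻¹ * (c * a) * a⁻¹ := by rw [h1]
          _ = a⁻¹ * c := by group
      rw [this]
    _ = a * g * a⁻¹ * g⁻¹ := by group

/-- Commutators of elements of `B ⊔ ⟨x⟩` lie in `B ⊓ C(B)` when `B` has class at most two and `x`
centralizes `B`. -/
theorem ext_commutator_mem (hxC : x ∈ Subgroup.centralizer (B : Set P))
    (hB : ⁅B, B⁆ ≤ Subgroup.centralizer (B : Set P)) :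
    ∀ g₁ ∈ B ⊔ Subgroup.zpowers x, ∀ g₂ ∈ B ⊔ Subgroup.zpowers x,
      ⁅g₁, g₂⁆ ∈ B ⊓ Subgroup.centralizer (B : Set P) := by
  intro g₁ hg₁ g₂ hg₂
  obtain ⟨b₁, hb₁, k, rfl⟩ := mem_sup_zpowers_of_comm (comm_of_mem_centralizer hxC) hg₁
  obtain ⟨b₂, hb₂, j, rfl⟩ := mem_sup_zpowers_of_comm (comm_of_mem_centralizer hxC) hg₂
  have hb₁' : b₁ ∈ B ⊔ Subgroup.zpowers x := Subgroup.mem_sup_left hb₁
  have hb₂' : b₂ ∈ B ⊔ Subgroup.zpowers x := Subgroup.mem_sup_left hb₂
  rw [commutator_mul_right_central (zpow_comm_ext hxC k b₁ hb₁') (zpow_comm_ext hxC k _ hg₂),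
    commutator_mul_right_central' (zpow_comm_ext hxC j b₁ hb₁') (zpow_comm_ext hxC j b₂ hb₂')]
  refine Subgroup.mem_inf.mpr ⟨?_, hB (Subgroup.commutator_mem_commutator hb₁ hb₂)⟩
  rw [commutatorElement_def]
  exact B.mul_mem (B.mul_mem (B.mul_mem hb₁ hb₂) (B.inv_mem hb₁)) (B.inv_mem hb₂)

theorem ext_classTwo (hxC : x ∈ Subgroup.centralizer (B : Set P))
    (hB : ⁅B, B⁆ ≤ Subgroup.centralizer (B : Set P)) :
    ⁅B ⊔ Subgroup.zpowers x, B ⊔ Subgroup.zpowers x⁆ ≤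
      Subgroup.centralizer ((B ⊔ Subgroup.zpowers x : Subgroup P) : Set P) := by
  rw [Subgroup.commutator_le]
  intro g₁ hg₁ g₂ hg₂
  exact (Subgroup.mem_inf.mp (center_le_ext_center hxC (ext_commutator_mem hxC hB g₁ hg₁ g₂ hg₂))).2

/-- The set of `y ∈ C(B)` with `⁅y, n⁆ ∈ B` for all `n ∈ N(B)` is closed under integer powers. -/
theorem comm_zpow_mem (hxC : x ∈ Subgroup.centralizer (B : Set P))
    (hxn : ∀ n ∈ Subgroup.normalizer (B : Set P), ⁅x, n⁆ ∈ B) (k : ℤ) :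
    ∀ n ∈ Subgroup.normalizer (B : Set P), ⁅x ^ k, n⁆ ∈ B ⊓ Subgroup.centralizer (B : Set P) := by
  let X : Subgroup P :=
    { carrier := {y | y ∈ Subgroup.centralizer (B : Set P) ∧
        ∀ n ∈ Subgroup.normalizer (B : Set P), ⁅y, n⁆ ∈ B}
      one_mem' := ⟨Subgroup.one_mem _, fun n _ => by
        rw [commutatorElement_def]; simp⟩
      mul_mem' := by
        rintro y y' ⟨hy, hyn⟩ ⟨hy', hyn'⟩
        refine ⟨Subgroup.mul_mem _ hy hy', fun n hn => ?_⟩
        have e : ⁅y * y', n⁆ = y * ⁅y', n⁆ * y⁻¹ * ⁅y, n⁆ := by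
          simp only [commutatorElement_def]; group
        have hc : y * ⁅y', n⁆ = ⁅y', n⁆ * y :=
          ((Subgroup.mem_centralizer_iff.mp hy) _ (hyn' n hn)).symm
        rw [e, hc, mul_inv_cancel_right]
        exact B.mul_mem (hyn' n hn) (hyn n hn)
      inv_mem' := by
        rintro y ⟨hy, hyn⟩
        refine ⟨Subgroup.inv_mem _ hy, fun n hn => ?_⟩
        have e : ⁅y⁻¹, n⁆ = y⁻¹ * ⁅y, n⁆⁻¹ * y := by
          simp only [commutatorElement_def]; group
        have hc : y⁻¹ * ⁅y, n⁆⁻¹ = ⁅y, n⁆⁻¹ * y⁻¹ :=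
          ((Subgroup.mem_centralizer_iff.mp (Subgroup.inv_mem _ hy)) _ (B.inv_mem (hyn n hn))).symm
        rw [e, hc, inv_mul_cancel_right]
        exact B.inv_mem (hyn n hn) }
  have hxX : x ∈ X := ⟨hxC, hxn⟩
  have hk : x ^ k ∈ X := X.zpow_mem hxX k
  intro n hn
  refine Subgroup.mem_inf.mpr ⟨hk.2 n hn, ?_⟩
  rw [commutatorElement_def]
  have h1 := conj_mem_centralizer_of_mem_normalizer hn (Subgroup.inv_mem _ hk.1)
  have h2 : x ^ k * n * (x ^ k)⁻¹ * n⁻¹ = x ^ k * (n * (x ^ k)⁻¹ * n⁻¹) := by group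
  rw [h2]
  exact Subgroup.mul_mem _ hk.1 h1

theorem ext_comm_mem (hxC : x ∈ Subgroup.centralizer (B : Set P))
    (hxn : ∀ n ∈ Subgroup.normalizer (B : Set P), ⁅x, n⁆ ∈ B) {q : P}
    (hq : q ∈ Subgroup.normalizer (B : Set P))
    (hBq : ∀ b ∈ B, ⁅b, q⁆ ∈ B ⊓ Subgroup.centralizer (B : Set P)) :
    ∀ g ∈ B ⊔ Subgroup.zpowers x, ⁅g, q⁆ ∈ B ⊓ Subgroup.centralizer (B : Set P) := by
  intro g hg
  obtain ⟨b, hb, k, rfl⟩ := mem_sup_zpowers_of_comm (comm_of_mem_centralizer hxC) hg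
  have h1 := comm_zpow_mem hxC hxn k q hq
  have h2 := hBq b hb
  have e : ⁅b * x ^ k, q⁆ = b * ⁅x ^ k, q⁆ * b⁻¹ * ⁅b, q⁆ := by
    simp only [commutatorElement_def]; group
  have hc : b * ⁅x ^ k, q⁆ = ⁅x ^ k, q⁆ * b :=
    (Subgroup.mem_centralizer_iff.mp (Subgroup.mem_inf.mp h1).2) b hb
  rw [e, hc, mul_inv_cancel_right]
  exact Subgroup.mul_mem _ h1 h2

theorem normalizer_le_normalizer_ext (hxC : x ∈ Subgroup.centralizer (B : Set P))
    (hxn : ∀ n ∈ Subgroup.normalizer (B : Set P), ⁅x, n⁆ ∈ B) :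
    Subgroup.normalizer (B : Set P) ≤
      Subgroup.normalizer ((B ⊔ Subgroup.zpowers x : Subgroup P) : Set P) := by
  have key : ∀ q ∈ Subgroup.normalizer (B : Set P), ∀ g ∈ B ⊔ Subgroup.zpowers x,
      q * g * q⁻¹ ∈ B ⊔ Subgroup.zpowers x := by
    intro q hq g hg
    obtain ⟨b, hb, k, rfl⟩ := mem_sup_zpowers_of_comm (comm_of_mem_centralizer hxC) hg
    have h1 : q * b * q⁻¹ ∈ B := (Subgroup.mem_normalizer_iff.mp hq b).mp hb
    have h2 := (Subgroup.mem_inf.mp (comm_zpow_mem hxC hxn k q hq)).1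
    have e : q * (b * x ^ k) * q⁻¹ = (q * b * q⁻¹) * (⁅x ^ k, q⁆⁻¹ * x ^ k) := by
      simp only [commutatorElement_def]; group
    rw [e]
    exact Subgroup.mul_mem _ (Subgroup.mem_sup_left h1)
      (Subgroup.mul_mem _ (Subgroup.mem_sup_left (B.inv_mem h2))
        (Subgroup.mem_sup_right (Subgroup.zpow_mem_zpowers x k)))
  intro q hq
  rw [Subgroup.mem_normalizer_iff]
  intro g
  constructor
  · exact key q hq g
  · intro h
    have := key q⁻¹ (Subgroup.inv_mem _ hq) _ h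
    have e : q⁻¹ * (q * g * q⁻¹) * q⁻¹⁻¹ = g := by group
    rwa [e] at this

end Ext

end Cfsg.Agent.Lib.Helper13
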