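import Cfsg.Agent.Lib.Helper13.CentExt

set_option autoImplicit false

namespace Cfsg.Agent.Lib.Helper13

open scoped commutatorElement

variable {P : Type*} [Group P]

/-- In a nilpotent group, if `M` is normalized by `N_P(B)` and `M ≰ B`, some `x ∈ M ∖ B` is central
modulo `B` in `N_P(B)`. -/
theorem exists_elt_central_mod [Group.IsNilpotent P] (B M : Subgroup P)
    (hM : ∀ n ∈ Subgroup.normalizer (B : Set P), ∀ y ∈ M, n * y * n⁻¹ ∈ M)
    (h : ¬ M ≤ B) :
    ∃ x ∈ M, x ∉ B ∧ ∀ n ∈ Subgroup.normalizer (B : Set P), ⁅x, n⁆ ∈ B := by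
  obtain ⟨c, hc⟩ := (Subgroup.nilpotent_iff_lowerCentralSeries (G := P)).mp inferInstance
  have key : ∀ d k : ℕ, k + d = c →
      (∃ x ∈ M, x ∈ (⊤ : Subgroup P).lowerCentralSeries k ∧ x ∉ B) →
      ∃ x ∈ M, x ∉ B ∧ ∀ n ∈ Subgroup.normalizer (B : Set P), ⁅x, n⁆ ∈ B := by
    intro d
    induction d with
    | zero =>
      rintro k hk ⟨x, _, hxk, hxB⟩
      exfalso
      rw [add_zero] at hk
      rw [hk, hc, Subgroup.mem_bot] at hxk
      exact hxB (hxk ▸ B.one_mem)
    | succ d ih =>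
      rintro k hk ⟨x, hxC, hxk, hxB⟩
      by_cases hall : ∀ n ∈ Subgroup.normalizer (B : Set P), ⁅x, n⁆ ∈ B
      · exact ⟨x, hxC, hxB, hall⟩
      · push Not at hall
        obtain ⟨n, hn, hxn⟩ := hall
        apply ih (k + 1) (by omega)
        refine ⟨⁅x, n⁆, ?_, ?_, hxn⟩
        · rw [commutatorElement_def]
          have h1 := hM n hn _ (M.inv_mem hxC)
          have h2 : x * n * x⁻¹ * n⁻¹ = x * (n * x⁻¹ * n⁻¹) := by group
          rw [h2]
          exact M.mul_mem hxC h1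
        · rw [Subgroup.lowerCentralSeries_succ]
          exact Subgroup.subset_closure ⟨x, hxk, n, Subgroup.mem_top n, rfl⟩
  obtain ⟨x, hxC, hxB⟩ := SetLike.not_le_iff_exists.mp h
  exact key c 0 (by omega) ⟨x, hxC, by rw [Subgroup.lowerCentralSeries_zero]; exact Subgroup.mem_top x, hxB⟩

/-- `B ⊔ ⟨x⟩` is abelian when `B` is abelian and `x` centralizes `B`. -/
theorem ext_le_centralizer_self {B : Subgroup P} {x : P}
    (hxC : x ∈ Subgroup.centralizer (B : Set P)) (hB : B ≤ Subgroup.centralizer (B : Set P)) :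
    B ⊔ Subgroup.zpowers x ≤
      Subgroup.centralizer ((B ⊔ Subgroup.zpowers x : Subgroup P) : Set P) := by
  have h1 : B ⊔ Subgroup.zpowers x ≤ Subgroup.centralizer (B : Set P) :=
    sup_le hB ((Subgroup.zpowers_le).mpr hxC)
  apply sup_le
  · rw [Subgroup.le_centralizer_iff]
    exact h1
  · rw [Subgroup.zpowers_le, Subgroup.mem_centralizer_iff]
    intro g hg
    have := ext_le_centralizer_x hxC hg
    exact ((Subgroup.mem_centralizer_iff.mp this) x rfl).symm

end Cfsg.Agent.Lib.Helper13
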