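import Cfsg.Agent.Lib.Helper13.KInfH

set_option autoImplicit false

/-! A descending chief series of a normal subgroup `Q` of a finite group passing through a given
normal subgroup `Z ≤ Q` (helper13). -/

namespace Cfsg.Agent.Lib.Helper13

open Cfsg

variable {G : Type*} [Group G] [Finite G]

/-- A maximal normal subgroup of `G` strictly below `N` and containing `L`. -/
theorem exists_chief_below (L N : Subgroup G) (hL : L.Normal) (hN : N.Normal) (h : L < N) :
    ∃ M : Subgroup G, M.Normal ∧ L ≤ M ∧ Cfsg.IsChiefFactor N M := by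
  have hfin : {V : Subgroup G | V.Normal ∧ L ≤ V ∧ V < N}.Finite := Set.toFinite _
  have hne : {V : Subgroup G | V.Normal ∧ L ≤ V ∧ V < N}.Nonempty := ⟨L, hL, le_rfl, h⟩
  obtain ⟨V, ⟨hVn, hLV, hVlt⟩, hVmax⟩ :=
    Set.exists_max_image _ (fun V : Subgroup G => Nat.card ↥V) hfin hne
  refine ⟨V, hVn, hLV, hVlt, hN, hVn, ?_⟩
  intro K hKn hVK hKN
  by_cases hK : K = N
  · exact Or.inr hK
  · left
    have h1 : Nat.card ↥K ≤ Nat.card ↥V :=
      hVmax K ⟨hKn, hLV.trans hVK, lt_of_le_of_ne hKN hK⟩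
    exact (Subgroup.eq_of_le_of_card_ge hVK h1).symm

open Classical in
/-- The next term of the chief series through `Z`. -/
noncomputable def csNext (Z N : Subgroup G) : Subgroup G :=
  if h : Z.Normal ∧ N.Normal ∧ Z < N then Classical.choose (exists_chief_below Z N h.1 h.2.1 h.2.2)
  else if h' : N.Normal ∧ ⊥ < N then
    Classical.choose (exists_chief_below ⊥ N inferInstance h'.1 h'.2)
  else ⊥

theorem csNext_spec (Z N : Subgroup G) (hZ : Z.Normal) (hN : N.Normal) :
    (csNext Z N).Normal ∧ (N ≠ ⊥ → Cfsg.IsChiefFactor N (csNext Z N)) ∧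
      (Z < N → Z ≤ csNext Z N) ∧ (N = ⊥ → csNext Z N = ⊥) := by
  unfold csNext
  by_cases h : Z.Normal ∧ N.Normal ∧ Z < N
  · rw [dif_pos h]
    obtain ⟨h1, h2, h3⟩ := Classical.choose_spec (exists_chief_below Z N h.1 h.2.1 h.2.2)
    refine ⟨h1, fun _ => h3, fun _ => h2, ?_⟩
    intro hb
    exact absurd h.2.2 (by rw [hb]; exact not_lt_bot)
  · rw [dif_neg h]
    by_cases h' : N.Normal ∧ ⊥ < N
    · rw [dif_pos h']
      obtain ⟨h1, -, h3⟩ := Classical.choose_spec (exists_chief_below ⊥ N inferInstance h'.1 h'.2)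
      refine ⟨h1, fun _ => h3, ?_, ?_⟩
      · intro hlt
        exact absurd ⟨hZ, hN, hlt⟩ h
      · intro hb
        exact absurd h'.2 (by rw [hb]; exact lt_irrefl _)
    · rw [dif_neg h']
      refine ⟨inferInstance, ?_, ?_, fun _ => rfl⟩
      · intro hne
        exact absurd ⟨hN, bot_lt_iff_ne_bot.mpr hne⟩ h'
      · intro hlt
        exact absurd ⟨hZ, hN, hlt⟩ h

/-- The descending chief series of `Q` through `Z`. -/
noncomputable def cs (Z Q : Subgroup G) : ℕ → Subgroup G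
  | 0 => Q
  | (k + 1) => csNext Z (cs Z Q k)

section Props

variable (Z Q : Subgroup G) [hZ : Z.Normal] [hQ : Q.Normal]

theorem cs_zero : cs Z Q 0 = Q := rfl

theorem cs_succ (k : ℕ) : cs Z Q (k + 1) = csNext Z (cs Z Q k) := rfl

instance cs_normal : ∀ k, (cs Z Q k).Normal
  | 0 => hQ
  | (k + 1) => (csNext_spec Z (cs Z Q k) hZ (cs_normal k)).1

theorem cs_chief (k : ℕ) (hk : cs Z Q k ≠ ⊥) : Cfsg.IsChiefFactor (cs Z Q k) (cs Z Q (k + 1)) :=
  (csNext_spec Z (cs Z Q k) hZ (cs_normal Z Q k)).2.1 hk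

theorem cs_succ_le (k : ℕ) : cs Z Q (k + 1) ≤ cs Z Q k := by
  by_cases hk : cs Z Q k = ⊥
  · rw [cs_succ, (csNext_spec Z (cs Z Q k) hZ (cs_normal Z Q k)).2.2.2 hk]
    exact bot_le
  · exact (cs_chief Z Q k hk).1.le

theorem cs_add_le (k d : ℕ) : cs Z Q (k + d) ≤ cs Z Q k := by
  induction d with
  | zero => exact le_rfl
  | succ d ih => exact (cs_succ_le Z Q (k + d)).trans ih

theorem cs_le (k : ℕ) : cs Z Q k ≤ Q := by
  have := cs_add_le Z Q 0 k
  rwa [zero_add] at this

theorem cs_card (k : ℕ) : cs Z Q k = ⊥ ∨ Nat.card ↥(cs Z Q k) + k ≤ Nat.card ↥Q := by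
  induction k with
  | zero => right; exact le_rfl
  | succ k ih =>
    rcases ih with h | h
    · left
      rw [cs_succ, (csNext_spec Z (cs Z Q k) hZ (cs_normal Z Q k)).2.2.2 h]
    · by_cases hk : cs Z Q k = ⊥
      · left
        rw [cs_succ, (csNext_spec Z (cs Z Q k) hZ (cs_normal Z Q k)).2.2.2 hk]
      · right
        have hlt := (cs_chief Z Q k hk).1
        have hc : Nat.card ↥(cs Z Q (k + 1)) < Nat.card ↥(cs Z Q k) := by
          apply lt_of_le_of_ne (Subgroup.card_le_of_le hlt.le)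
          intro hc
          exact hlt.ne (Subgroup.eq_of_le_of_card_ge hlt.le hc.ge)
        omega

theorem cs_eventually_bot : ∃ n, cs Z Q n = ⊥ := by
  refine ⟨Nat.card ↥Q, ?_⟩
  rcases cs_card Z Q (Nat.card ↥Q) with h | h
  · exact h
  · exfalso
    have : 0 < Nat.card ↥(cs Z Q (Nat.card ↥Q)) := Nat.card_pos
    omega

theorem cs_inv (hZQ : Z ≤ Q) (k : ℕ) : Z ≤ cs Z Q k ∨ cs Z Q k ≤ Z := by
  induction k with
  | zero => exact Or.inl hZQ
  | succ k ih =>
    rcases ih with h | h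
    · by_cases hlt : Z < cs Z Q k
      · exact Or.inl ((csNext_spec Z (cs Z Q k) hZ (cs_normal Z Q k)).2.2.1 hlt)
      · right
        have : cs Z Q k ≤ Z := by
          by_contra hc
          exact hlt (lt_of_le_not_ge h hc)
        exact (cs_succ_le Z Q k).trans this
    · exact Or.inr ((cs_succ_le Z Q k).trans h)

theorem cs_dich (hZQ : Z ≤ Q) (k : ℕ) : Z ≤ cs Z Q (k + 1) ∨ cs Z Q k ≤ Z := by
  rcases cs_inv Z Q hZQ k with h | h
  · by_cases hlt : Z < cs Z Q k
    · exact Or.inl ((csNext_spec Z (cs Z Q k) hZ (cs_normal Z Q k)).2.2.1 hlt)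
    · right
      by_contra hc
      exact hlt (lt_of_le_not_ge h hc)
  · exact Or.inr h

end Props

end Cfsg.Agent.Lib.Helper13
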