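import Cfsg.Agent.Lib.Helper13.ChiefSerA

set_option autoImplicit false

/-! Stability groups of a descending normal series and the Engel degree on the chief factors of a
normal `p`-subgroup in terms of the degrees on a critical subgroup and on its centre (helper13). -/

namespace Cfsg.Agent.Lib.Helper13

open Cfsg

open scoped commutatorElement

variable {G : Type*} [Group G]

theorem kcomm_le_normalizer (X H₁ H₂ : Subgroup G) (h1 : X ≤ Subgroup.normalizer (H₁ : Set G))
    (h2 : X ≤ Subgroup.normalizer (H₂ : Set G)) :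
    X ≤ Subgroup.normalizer ((⁅H₁, H₂⁆ : Subgroup G) : Set G) := by
  rw [Subgroup.commutator_def, Subgroup.le_normalizer_closure_iff]
  rintro x hx g ⟨k, hk, a, ha, rfl⟩
  have e : x * ⁅k, a⁆ * x⁻¹ = ⁅x * k * x⁻¹, x * a * x⁻¹⁆ := by
    simp only [commutatorElement_def]; group
  rw [e, ← Subgroup.commutator_def]
  exact Subgroup.commutator_mem_commutator ((Subgroup.le_normalizer_iff.mp h1) x hx k hk)
    ((Subgroup.le_normalizer_iff.mp h2) x hx a ha)

theorem kiter_le_normalizer (N H X : Subgroup G) (hN : X ≤ Subgroup.normalizer (N : Set G))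
    (hH : X ≤ Subgroup.normalizer (H : Set G)) (k : ℕ) :
    X ≤ Subgroup.normalizer ((Cfsg.iterCommutator N H k : Subgroup G) : Set G) := by
  induction k with
  | zero => exact hN
  | succ k ih => exact kcomm_le_normalizer X _ _ ih hH

theorem kiter_succ_le (N H : Subgroup G) [hN : N.Normal] (k : ℕ) :
    Cfsg.iterCommutator N H (k + 1) ≤ Cfsg.iterCommutator N H k := by
  show ⁅Cfsg.iterCommutator N H k, H⁆ ≤ Cfsg.iterCommutator N H k
  rw [← Subgroup.le_normalizer_iff_commutator_le_left]
  apply kiter_le_normalizer N H H _ Subgroup.le_normalizer k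
  rw [Subgroup.normalizer_eq_top]
  exact le_top

theorem kiter_ge_le {N M H : Subgroup G} [hM : M.Normal] {a : ℕ}
    (h : Cfsg.iterCommutator N H a ≤ M) {t : ℕ} (ht : a ≤ t) : Cfsg.iterCommutator N H t ≤ M := by
  obtain ⟨d, rfl⟩ := Nat.exists_eq_add_of_le ht
  rw [kiter_add]
  exact (kiter_mono h le_rfl d).trans (kiter_le_self M H d)

section Stab

variable (P : Subgroup G) (s : ℕ → Subgroup G) (hs : ∀ k, (s k).Normal)

/-- The stability groups of the series `s` inside `P`. -/
def sstab (d : ℕ) : Subgroup G := P ⊓ ⨅ k, @cmod G _ (s k) (s (k + d)) (hs (k + d))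

theorem le_sstab_iff (d : ℕ) (X : Subgroup G) :
    X ≤ sstab P s hs d ↔ X ≤ P ∧ ∀ k, ⁅s k, X⁆ ≤ s (k + d) := by
  unfold sstab
  rw [le_inf_iff, le_iInf_iff]
  refine and_congr_right (fun _ => forall_congr' (fun k => ?_))
  have := hs (k + d)
  exact le_cmod_iff _ _ X

theorem sstab_normal [hP : P.Normal] (d : ℕ) : (sstab P s hs d).Normal := by
  unfold sstab
  have : (⨅ k, @cmod G _ (s k) (s (k + d)) (hs (k + d))).Normal :=
    Subgroup.normal_iInf_normal (fun k => @cmod_normal G _ (s k) (s (k + d)) (hs k) (hs (k + d)))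
  infer_instance

theorem sstab_le (d : ℕ) : sstab P s hs d ≤ P := inf_le_left

theorem sstab_comm (d k : ℕ) : ⁅s k, sstab P s hs d⁆ ≤ s (k + d) :=
  ((le_sstab_iff P s hs d _).mp le_rfl).2 k

end Stab

/-- The key step: the Engel degree from one stability group to the next. -/
theorem sstab_step (P H Z : Subgroup G) [hP : P.Normal] (s : ℕ → Subgroup G)
    (hs : ∀ k, (s k).Normal) (hanti : ∀ k, s (k + 1) ≤ s k) (hsP : s 0 ≤ P)
    (hPs : ∀ k, ⁅s k, P⁆ ≤ s (k + 1)) (hPQ : ⁅s 0, P⁆ ≤ Z)
    (hdich : ∀ k, Z ≤ s (k + 1) ∨ s k ≤ Z)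
    (i j D : ℕ) (hD1 : i + j ≤ D + 1) (hD2 : 2 * j ≤ D + 1)
    (hdeg : ∀ k, Cfsg.iterCommutator (s k) H i ≤ s (k + 1))
    (hdegZ : ∀ k, s k ≤ Z → Cfsg.iterCommutator (s k) H j ≤ s (k + 1)) (d : ℕ) :
    Cfsg.iterCommutator (sstab P s hs d) H D ≤ sstab P s hs (d + 1) := by
  have hTn : (sstab P s hs d).Normal := sstab_normal P s hs d
  have hanti' : ∀ k e, s (k + e) ≤ s k := by
    intro k e
    induction e with
    | zero => exact le_rfl
    | succ e ih => exact (hanti (k + e)).trans ih
  have hsk0 : ∀ k, s k ≤ s 0 := by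
    intro k
    have := hanti' 0 k
    rwa [zero_add] at this
  rw [le_sstab_iff]
  refine ⟨(kiter_le_self _ H D).trans (sstab_le P s hs d), fun k => ?_⟩
  have hXP : Cfsg.iterCommutator (sstab P s hs d) H D ≤ P :=
    (kiter_le_self _ H D).trans (sstab_le P s hs d)
  rcases hdich (k + d) with hA | hB
  · -- the target lies above `Z`
    have h1 : ⁅s k, Cfsg.iterCommutator (sstab P s hs d) H D⁆ ≤ ⁅s 0, P⁆ :=
      Subgroup.commutator_mono (hsk0 k) hXP
    have h2 : k + (d + 1) = k + d + 1 := by omega
    rw [h2]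
    exact h1.trans (hPQ.trans hA)
  · -- the target factor lies in `Z`
    obtain ⟨a, ha1, ha2⟩ : ∃ a : ℕ, a + j ≤ D + 1 ∧ Cfsg.iterCommutator (s k) H a ≤ s (k + 1) := by
      by_cases hkZ : s k ≤ Z
      · exact ⟨j, by omega, hdegZ k hkZ⟩
      · exact ⟨i, hD1, hdeg k⟩
    have hb : Cfsg.iterCommutator (s (k + d)) H j ≤ s (k + d + 1) := hdegZ (k + d) hB
    have hn0 : (s (k + 1)).Normal := hs (k + 1)
    have hn1 : (s (k + d)).Normal := hs (k + d)
    have hn2 : (s (k + d + 1)).Normal := hs (k + d + 1)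
    have hn3 : (s k).Normal := hs k
    have hU : ∀ m, Cfsg.iterCommutator (s k) H m ⊔ s (k + 1) ≤ s k := fun m =>
      sup_le (kiter_le_self _ H m) (hanti k)
    have hVle : ∀ t, Cfsg.iterCommutator (s (k + d)) H t ⊔ s (k + d + 1) ≤ s (k + d) := fun t =>
      sup_le (kiter_le_self _ H t) (hanti (k + d))
    have key := filt_iter (X := sstab P s hs d) (H := H) (L := P ⊔ H)
      (fun m => Cfsg.iterCommutator (s k) H m ⊔ s (k + 1))
      (fun m => Cfsg.iterCommutator (s (k + d)) H (m - (a - 1)) ⊔ s (k + d + 1))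
      ((sstab_le P s hs d).trans le_sup_left) le_sup_right
      (fun m => ((hU m).trans ((hsk0 k).trans hsP)).trans le_sup_left) ?_ ?_ ?_ ?_ D 0
    · have h2 : k + (d + 1) = k + d + 1 := by omega
      rw [h2, Subgroup.commutator_comm]
      refine (Subgroup.commutator_mono le_rfl ?_).trans (key.trans ?_)
      · show s k ≤ Cfsg.iterCommutator (s k) H 0 ⊔ s (k + 1)
        exact le_sup_left
      · show Cfsg.iterCommutator (s (k + d)) H (0 + D - (a - 1)) ⊔ s (k + d + 1) ≤ s (k + d + 1)
        refine sup_le ?_ le_rfl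
        exact kiter_ge_le hb (by omega)
    · -- normalizers of the target levels
      intro m
      apply sup_le
      · -- `P` acts trivially on `s (k+d) / s (k+d+1)`
        rw [Subgroup.le_normalizer_iff_commutator_le_left]
        refine (Subgroup.commutator_mono (hVle _) le_rfl).trans ((hPs (k + d)).trans le_sup_right)
      · rw [Subgroup.le_normalizer_iff_commutator_le_left]
        refine (commutator_sup_normal_le _ _ H).trans (sup_le ?_ le_sup_right)
        exact (kiter_succ_le (s (k + d)) H _).trans le_sup_left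
    · -- the source levels
      intro m
      exact commutator_sup_normal_le _ _ H
    · -- the target levels
      intro m
      refine (commutator_sup_normal_le _ _ H).trans (sup_le ?_ le_sup_right)
      by_cases hm : m + 1 ≤ a - 1
      · have e1 : m - (a - 1) = 0 := by omega
        have e2 : m + 1 - (a - 1) = 0 := by omega
        rw [e1, e2]
        exact (Subgroup.commutator_le_left (s (k + d)) H).trans le_sup_left
      · have e2 : m + 1 - (a - 1) = (m - (a - 1)) + 1 := by omega
        rw [e2]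
        exact le_sup_left
    · -- the pairing
      intro m
      by_cases hm : m ≤ a - 1
      · have e1 : m - (a - 1) = 0 := by omega
        rw [e1]
        refine le_trans ?_ le_sup_left
        show ⁅sstab P s hs d, _⁆ ≤ s (k + d)
        rw [Subgroup.commutator_comm]
        exact (Subgroup.commutator_mono (hU m) le_rfl).trans (sstab_comm P s hs d k)
      · have hma : a ≤ m := by omega
        have h1 : Cfsg.iterCommutator (s k) H m ⊔ s (k + 1) ≤ s (k + 1) :=
          sup_le (kiter_ge_le ha2 hma) le_rfl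
        refine le_trans ?_ le_sup_right
        rw [Subgroup.commutator_comm]
        have h2 := (Subgroup.commutator_mono h1 le_rfl).trans (sstab_comm P s hs d (k + 1))
        have h3 : k + 1 + d = k + d + 1 := by omega
        rwa [h3] at h2

/-- The Engel degree on the chief factors below `P`. -/
theorem engGood_of_series [Finite G] (P H Z : Subgroup G) [hP : P.Normal] (s : ℕ → Subgroup G)
    (hs : ∀ k, (s k).Normal) (hanti : ∀ k, s (k + 1) ≤ s k) (hsP : s 0 ≤ P)
    (n : ℕ) (hn : s n = ⊥)
    (hPs : ∀ k, ⁅s k, P⁆ ≤ s (k + 1)) (hC : P ⊓ Subgroup.centralizer (s 0 : Set G) ≤ s 0)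
    (hPQ : ⁅s 0, P⁆ ≤ Z) (hdich : ∀ k, Z ≤ s (k + 1) ∨ s k ≤ Z)
    (i j D : ℕ) (hD1 : i + j ≤ D + 1) (hD2 : 2 * j ≤ D + 1) (hj : 1 ≤ j)
    (hdeg : ∀ k, Cfsg.iterCommutator (s k) H i ≤ s (k + 1))
    (hdegZ : ∀ k, s k ≤ Z → Cfsg.iterCommutator (s k) H j ≤ s (k + 1)) :
    EngGood H D P := by
  have hiD : i ≤ D := by omega
  -- the series itself
  have hA : ∀ e k, k + e = n → EngGood H D (s k) := by
    intro e
    induction e with
    | zero =>
      intro k hk
      rw [add_zero] at hk
      rw [hk, hn]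
      exact engGood_bot H D
    | succ e ih =>
      intro k hk
      have h1 : EngGood H D (s (k + 1)) := ih (k + 1) (by omega)
      have := hs (k + 1)
      exact engGood_step (kiter_ge_le (hdeg k) hiD) h1
  have hQ : EngGood H D (s 0) := hA n 0 (by omega)
  -- the last stability group
  have hB : EngGood H D (sstab P s hs n) := by
    apply engGood_mono _ hQ
    have h1 := sstab_comm P s hs n 0
    rw [zero_add, hn, le_bot_iff, Subgroup.commutator_comm,
      Subgroup.commutator_eq_bot_iff_le_centralizer] at h1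
    exact (le_inf (sstab_le P s hs n) h1).trans hC
  have hCc : ∀ e d, d + e = n → EngGood H D (sstab P s hs d) := by
    intro e
    induction e with
    | zero =>
      intro d hd
      rw [add_zero] at hd
      rw [hd]
      exact hB
    | succ e ih =>
      intro d hd
      have h1 : EngGood H D (sstab P s hs (d + 1)) := ih (d + 1) (by omega)
      have := sstab_normal P s hs (d + 1)
      exact engGood_step (sstab_step P H Z s hs hanti hsP hPs hPQ hdich i j D hD1 hD2 hdeg hdegZ d) h1
  have h0 : EngGood H D (sstab P s hs 0) := hCc n 0 (by omega)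
  apply engGood_mono _ h0
  rw [le_sstab_iff]
  refine ⟨le_rfl, fun k => ?_⟩
  rw [add_zero]
  have := hs k
  exact Subgroup.commutator_le_left _ _

end Cfsg.Agent.Lib.Helper13
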