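import Cfsg.Agent.Lib.Helper13.ChiefSerB

set_option autoImplicit false

/-! The Engel degree on the chief factors of a normal `p`-subgroup `P` with a critical subgroup `Q`:
degree `i` on the chief factors inside `Q` and `j` on those inside `Z(Q)` give degree `i + j - 1` on
all chief factors inside `P` (helper13). -/

namespace Cfsg.Agent.Lib.Helper13

open Cfsg

open scoped commutatorElement

variable {G : Type*} [Group G]

theorem kiter_le_lcs {U P : Subgroup G} (hUP : U ≤ P) (r : ℕ) :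
    Cfsg.iterCommutator U P r ≤ P.lowerCentralSeries r := by
  induction r with
  | zero => exact hUP
  | succ r ih => exact Subgroup.commutator_mono ih le_rfl

/-- A normal `p`-subgroup centralizes every chief factor inside it. -/
theorem chief_comm_le [Finite G] {p : ℕ} [Fact p.Prime] (P : Subgroup G) [hP : P.Normal]
    (hPp : IsPGroup p ↥P) (U V : Subgroup G) (hUV : Cfsg.IsChiefFactor U V) (hUP : U ≤ P) :
    ⁅U, P⁆ ≤ V := by
  obtain ⟨hlt, hUn, hVn, hmin⟩ := hUV
  have hW : (⁅U, P⁆ ⊔ V).Normal := by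
    have : (⁅U, P⁆).Normal := inferInstance
    infer_instance
  rcases hmin _ hW le_sup_right (sup_le (Subgroup.commutator_le_left U P) hlt.le) with h | h
  · rw [← h]
    exact le_sup_left
  · exfalso
    have hall : ∀ r, U ≤ Cfsg.iterCommutator U P r ⊔ V := by
      intro r
      induction r with
      | zero => exact le_sup_left
      | succ r ih =>
        have h1 : ⁅U, P⁆ ≤ ⁅Cfsg.iterCommutator U P r ⊔ V, P⁆ := Subgroup.commutator_mono ih le_rfl
        have h2 := h1.trans (commutator_sup_normal_le V _ P)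
        calc U = ⁅U, P⁆ ⊔ V := h.symm
          _ ≤ (⁅Cfsg.iterCommutator U P r, P⁆ ⊔ V) ⊔ V := sup_le_sup_right h2 V
          _ = Cfsg.iterCommutator U P (r + 1) ⊔ V := by rw [sup_assoc, sup_idem]; rfl
    have hnil : Group.IsNilpotent ↥P := hPp.isNilpotent
    obtain ⟨n, hn⟩ := (Subgroup.isNilpotent_iff_lowerCentralSeries P).mp hnil
    have h3 := hall n
    have h4 : Cfsg.iterCommutator U P n = ⊥ := le_bot_iff.mp (hn ▸ kiter_le_lcs hUP n)
    rw [h4, bot_sup_eq] at h3
    exact hlt.not_ge h3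

/-- Glauberman's lemma on Engel degrees. -/
theorem engel_degree_of_critical [Finite G] {p : ℕ} [Fact p.Prime] (P Q H : Subgroup G)
    [hP : P.Normal] [hQ : Q.Normal] (hPp : IsPGroup p ↥P) (hQP : Q ≤ P)
    (hQ3 : ⁅P, Q⁆ ≤ Q ⊓ Subgroup.centralizer ((Q : Subgroup G) : Set G))
    (hQ4 : P ⊓ Subgroup.centralizer ((Q : Subgroup G) : Set G) ≤ Q)
    (i j : ℕ) (hi : 1 ≤ i) (hj : 1 ≤ j)
    (hQi : ∀ U V : Subgroup G, Cfsg.IsChiefFactor U V → U ≤ Q → Cfsg.iterCommutator U H i ≤ V)
    (hZj : ∀ U V : Subgroup G, Cfsg.IsChiefFactor U V →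
      U ≤ Q ⊓ Subgroup.centralizer ((Q : Subgroup G) : Set G) → Cfsg.iterCommutator U H j ≤ V) :
    ∀ U V : Subgroup G, Cfsg.IsChiefFactor U V → U ≤ P →
      Cfsg.iterCommutator U H (i + j - 1) ≤ V := by
  obtain ⟨Z, hZdef⟩ : ∃ Z : Subgroup G, Z = Q ⊓ Subgroup.centralizer ((Q : Subgroup G) : Set G) :=
    ⟨_, rfl⟩
  have hZn : Z.Normal := by
    rw [hZdef]
    infer_instance
  have hZQ : Z ≤ Q := hZdef ▸ inf_le_left
  rw [← hZdef] at hQ3 hZj
  obtain ⟨n, hn⟩ := cs_eventually_bot Z Q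
  have hdeg : ∀ k, Cfsg.iterCommutator (cs Z Q k) H i ≤ cs Z Q (k + 1) := by
    intro k
    by_cases hk : cs Z Q k = ⊥
    · rw [hk, kiter_bot]
      exact bot_le
    · exact hQi _ _ (cs_chief Z Q k hk) (cs_le Z Q k)
  have hdegZ : ∀ k, cs Z Q k ≤ Z → Cfsg.iterCommutator (cs Z Q k) H (min i j) ≤ cs Z Q (k + 1) := by
    intro k hkZ
    rcases le_total i j with hij | hij
    · rw [min_eq_left hij]
      exact hdeg k
    · rw [min_eq_right hij]
      by_cases hk : cs Z Q k = ⊥
      · rw [hk, kiter_bot]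
        exact bot_le
      · exact hZj _ _ (cs_chief Z Q k hk) hkZ
  have hPs : ∀ k, ⁅cs Z Q k, P⁆ ≤ cs Z Q (k + 1) := by
    intro k
    by_cases hk : cs Z Q k = ⊥
    · rw [hk, Subgroup.commutator_bot_left]
      exact bot_le
    · exact chief_comm_le P hPp _ _ (cs_chief Z Q k hk) ((cs_le Z Q k).trans hQP)
  have key := engGood_of_series P H Z (cs Z Q) (cs_normal Z Q) (cs_succ_le Z Q) hQP n hn hPs hQ4
    (by rw [cs_zero, Subgroup.commutator_comm]; exact hQ3) (cs_dich Z Q hZQ)
    i (min i j) (i + j - 1) (by have := min_le_right i j; omega)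
    (by have := min_le_right i j; have := min_le_left i j; omega) (le_min hi hj) hdeg hdegZ
  intro U V hUV hUP
  have := key U V hUV
  rwa [inf_eq_left.mpr hUP] at this

end Cfsg.Agent.Lib.Helper13
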