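import Cfsg.Agent.Lib.Helper13.NPCFunctor
import Cfsg.Agent.Lib.Helper5.PStableAct

set_option autoImplicit false

namespace Cfsg.Agent.Lib.Helper13

open scoped commutatorElement Pointwise

universe u

/-- An element of order dividing two coprime numbers is trivial. -/
theorem eq_one_of_pow_eq_one_of_coprime {G : Type*} [Group G] {x : G} {m n : ℕ}
    (hm : x ^ m = 1) (hn : x ^ n = 1) (hmn : Nat.Coprime m n) : x = 1 := by
  have h1 := orderOf_dvd_of_pow_eq_one hm
  have h2 := orderOf_dvd_of_pow_eq_one hn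
  have h3 : orderOf x ∣ 1 := by
    have := Nat.dvd_gcd h1 h2
    rwa [hmn] at this
  exact orderOf_eq_one_iff.mp (Nat.dvd_one.mp h3)

/-- An element of a subgroup of order prime to `p` that has `p`-power order is trivial. -/
theorem eq_one_of_mem_coprime_of_ppow {G : Type*} [Group G] {p : ℕ} {K : Subgroup G} {x : G}
    (hx : x ∈ K) (hK : (Nat.card ↥K).Coprime p) {j : ℕ} (hxp : x ^ (p ^ j) = 1) : x = 1 := by
  have h1 : x ^ Nat.card ↥K = 1 := by
    have h3 : ((⟨x, hx⟩ : ↥K) ^ Nat.card ↥K : ↥K) = 1 := pow_card_eq_one'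
    have h4 := congrArg Subtype.val h3
    rw [Subgroup.coe_pow, Subgroup.coe_one] at h4
    exact h4
  exact eq_one_of_pow_eq_one_of_coprime h1 hxp (Nat.Coprime.pow_right j hK)

section

variable {p : ℕ} [Fact p.Prime]

/-- If a Sylow `p`-subgroup `T` of `Q` is a maximal subgroup and `Q / A` has a normal `p`-complement for
a normal `p`-subgroup `A` (`p` odd), then the Sylow `2`-subgroups of `Q` are commutative. -/
theorem syl2comm_of_coatom_sylow {Q : Type u} [Group Q] [Finite Q] (hp : p ≠ 2)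
    (A : Subgroup Q) [A.Normal] (hA : IsPGroup p ↥A)
    (hnpc : Cfsg.HasNormalPComplement p (Q ⧸ A)) (T : Sylow p Q)
    (hT : IsCoatom (T : Subgroup Q)) : ∀ T₂ : Sylow 2 Q, IsMulCommutative T₂ := by
  have hpp : p.Prime := Fact.out
  obtain ⟨K, hKn, hKc, a, hKi⟩ := npc_iff.mp hnpc
  obtain ⟨Tb, hTb⟩ : ∃ Tb : Subgroup (Q ⧸ A), Tb = (T : Subgroup Q).map (QuotientGroup.mk' A) :=
    ⟨_, rfl⟩
  have hTbp : IsPGroup p ↥Tb := by
    rw [hTb]; exact T.isPGroup'.map _
  have hKT : K ⊓ Tb = ⊥ := by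
    rw [eq_bot_iff]
    intro x hx
    obtain ⟨j, hj⟩ := hTbp ⟨x, (Subgroup.mem_inf.mp hx).2⟩
    have hj' : x ^ (p ^ j) = 1 := by
      have := congrArg Subtype.val hj
      rwa [Subgroup.coe_pow, Subgroup.coe_one] at this
    rw [Subgroup.mem_bot]
    exact eq_one_of_mem_coprime_of_ppow (Subgroup.mem_inf.mp hx).1 hKc hj'
  -- Step 1: the dichotomy for `Tb`-invariant subgroups of `K`
  have dich : ∀ H : Subgroup (Q ⧸ A), H ≤ K → Tb ≤ Subgroup.normalizer (H : Set (Q ⧸ A)) →
      H = ⊥ ∨ H = K := by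
    intro H hHK hTH
    obtain ⟨J, hJ⟩ : ∃ J : Subgroup Q, J = (H ⊔ Tb).comap (QuotientGroup.mk' A) := ⟨_, rfl⟩
    have hTJ : (T : Subgroup Q) ≤ J := by
      intro t ht
      rw [hJ, Subgroup.mem_comap]
      apply (le_sup_right : Tb ≤ H ⊔ Tb)
      rw [hTb]
      exact ⟨t, ht, rfl⟩
    rcases eq_or_lt_of_le hTJ with heq | hlt
    · left
      rw [eq_bot_iff, ← hKT]
      apply le_inf hHK
      intro h hh
      obtain ⟨x, rfl⟩ := QuotientGroup.mk'_surjective A h
      have hxJ : x ∈ J := by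
        rw [hJ, Subgroup.mem_comap]
        exact (le_sup_left : H ≤ H ⊔ Tb) hh
      rw [← heq] at hxJ
      rw [hTb]
      exact ⟨x, hxJ, rfl⟩
    · right
      have hJtop := hT.2 J hlt
      apply le_antisymm hHK
      intro k hk
      obtain ⟨x, rfl⟩ := QuotientGroup.mk'_surjective A k
      have hx : QuotientGroup.mk' A x ∈ Tb ⊔ H := by
        have : x ∈ J := by rw [hJtop]; exact Subgroup.mem_top _
        rw [hJ, Subgroup.mem_comap] at this
        rwa [sup_comm] at this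
      have h1 : QuotientGroup.mk' A x ∈ (((Tb ⊔ H : Subgroup (Q ⧸ A)) : Set (Q ⧸ A))) := hx
      rw [Subgroup.coe_mul_of_left_le_normalizer_right Tb H hTH] at h1
      obtain ⟨t, ht, h, hh, hth0⟩ := h1
      have hth : t * h = QuotientGroup.mk' A x := hth0
      have htK : t ∈ K := by
        have : t = QuotientGroup.mk' A x * h⁻¹ := by rw [← hth]; group
        rw [this]
        exact K.mul_mem hk (K.inv_mem (hHK hh))
      have ht1 : t = 1 := by
        have : t ∈ K ⊓ Tb := Subgroup.mem_inf.mpr ⟨htK, ht⟩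
        rw [hKT] at this
        exact this
      rw [ht1, one_mul] at hth
      rw [← hth]
      exact hh
  -- Step 2: a `Tb`-invariant Sylow 2-subgroup of `K`
  letI : MulDistribMulAction ↥Tb ↥K :=
    MulDistribMulAction.compHom ↥K ((MulAut.conjNormal (H := K)).comp Tb.subtype)
  have hnd : ¬ p ∣ Nat.card (Sylow 2 ↥K) := by
    intro hdvd
    have h1 := (Sylow.card_dvd_index (default : Sylow 2 ↥K)).trans (Subgroup.index_dvd_card _)
    have h2 := hdvd.trans h1
    have h3 := Nat.dvd_gcd h2 (dvd_refl p)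
    rw [hKc] at h3
    exact hpp.one_lt.ne' (Nat.dvd_one.mp h3)
  obtain ⟨S₂, hS₂⟩ := hTbp.nonempty_fixed_point_of_prime_not_dvd_card (Sylow 2 ↥K) hnd
  obtain ⟨H, hH⟩ : ∃ H : Subgroup (Q ⧸ A), H = (S₂ : Subgroup ↥K).map K.subtype := ⟨_, rfl⟩
  have hHK : H ≤ K := by rw [hH]; exact Subgroup.map_subtype_le _
  have hTH : Tb ≤ Subgroup.normalizer (H : Set (Q ⧸ A)) := by
    intro t ht
    apply mem_normalizer_of_cj_le
    rintro _ ⟨x, hx, rfl⟩
    rw [hH] at hx ⊢
    obtain ⟨s, hs, rfl⟩ := hx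
    have h1 : (⟨t, ht⟩ : ↥Tb) • s ∈ (⟨t, ht⟩ : ↥Tb) • (S₂ : Subgroup ↥K) :=
      Subgroup.smul_mem_pointwise_smul _ _ _ hs
    rw [← Sylow.pointwise_smul_def, hS₂ ⟨t, ht⟩] at h1
    refine ⟨(⟨t, ht⟩ : ↥Tb) • s, h1, ?_⟩
    show ((MulAut.conjNormal (H := K) t s : ↥K) : Q ⧸ A) = _
    rw [MulAut.conjNormal_apply]
    simp [MulAut.conj_apply]
  -- Step 3: two-elements of `K` commute
  have hK2 : ∀ k₁ ∈ K, ∀ k₂ ∈ K, (∃ i, k₁ ^ (2 ^ i) = 1) → (∃ i, k₂ ^ (2 ^ i) = 1) →
      k₁ * k₂ = k₂ * k₁ := by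
    rcases dich H hHK hTH with hbot | htop
    · -- no nontrivial 2-elements
      have htriv : ∀ k ∈ K, (∃ i, k ^ (2 ^ i) = 1) → k = 1 := by
        rintro k hk ⟨i, hi⟩
        by_contra hne
        have h2 : 2 ∣ orderOf k := by
          have h3 := orderOf_dvd_of_pow_eq_one hi
          obtain ⟨j, _, hj⟩ := (Nat.dvd_prime_pow Nat.prime_two).mp h3
          rcases Nat.eq_zero_or_pos j with rfl | hpos
          · rw [pow_zero] at hj
            exact absurd (orderOf_eq_one_iff.mp hj) hne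
          · rw [hj]; exact dvd_pow_self 2 hpos.ne'
        have h4 : 2 ∣ Nat.card ↥K := h2.trans (Subgroup.orderOf_dvd_natCard K hk)
        have h5 := S₂.ne_bot_of_dvd_card h4
        apply h5
        have h6 : (S₂ : Subgroup ↥K).map K.subtype = ⊥ := by rw [← hH]; exact hbot
        exact (Subgroup.map_eq_bot_iff_of_injective _ K.subtype_injective).mp h6
      intro k₁ hk₁ k₂ hk₂ h1 h2
      rw [htriv k₁ hk₁ h1, htriv k₂ hk₂ h2]
    · -- `K` is a 2-group, and its derived subgroup is trivial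
      have hS₂top : (S₂ : Subgroup ↥K) = ⊤ := by
        rw [eq_top_iff]
        intro k _
        have : (k : Q ⧸ A) ∈ H := by rw [htop]; exact k.2
        rw [hH] at this
        obtain ⟨s, hs, hsk⟩ := this
        have : s = k := Subtype.ext hsk
        rwa [← this]
      have hK2g : IsPGroup 2 ↥K := by
        have := S₂.isPGroup'
        rw [hS₂top] at this
        exact IsPGroup.of_equiv this Subgroup.topEquiv
      have hcomm : ⁅K, K⁆ = ⊥ := by
        have hcn : (⁅K, K⁆ : Subgroup (Q ⧸ A)).Normal := inferInstance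
        have hle : ⁅K, K⁆ ≤ K := Subgroup.commutator_le_self K
        rcases dich ⁅K, K⁆ hle (by
          rw [Subgroup.normalizer_eq_top_iff.mpr hcn]; exact le_top) with h | h
        · exact h
        · by_cases hKb : K = ⊥
          · rw [hKb] at hle ⊢
            exact le_bot_iff.mp hle
          · exfalso
            haveI : Nontrivial ↥K := (Subgroup.nontrivial_iff_ne_bot K).mpr hKb
            haveI : Group.IsNilpotent ↥K := hK2g.isNilpotent
            have hlt := Group.IsSolvable.commutator_lt_top_of_nontrivial ↥K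
            have htopmap : (⊤ : Subgroup ↥K).map K.subtype = K := by
              rw [← MonoidHom.range_eq_map, Subgroup.range_subtype]
            have hmap : (commutator ↥K).map K.subtype = ⁅K, K⁆ := by
              rw [commutator_def, Subgroup.map_commutator, htopmap]
            have : commutator ↥K = ⊤ := by
              apply Subgroup.map_injective K.subtype_injective
              rw [hmap, h, htopmap]
            exact hlt.ne this
      intro k₁ hk₁ k₂ hk₂ _ _
      have h1 : ⁅k₁, k₂⁆ ∈ ⁅K, K⁆ := Subgroup.commutator_mem_commutator hk₁ hk₂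
      rw [hcomm, Subgroup.mem_bot, commutatorElement_def] at h1
      calc k₁ * k₂ = (k₁ * k₂ * k₁⁻¹ * k₂⁻¹) * (k₂ * k₁) := by group
        _ = k₂ * k₁ := by rw [h1, one_mul]
  -- conclusion
  intro T₂
  have hp2 : Nat.Coprime p 2 := by
    rw [Nat.coprime_comm, Nat.coprime_primes Nat.prime_two hpp]
    exact fun h => hp h.symm
  have himg : ∀ x ∈ (T₂ : Subgroup Q), QuotientGroup.mk' A x ∈ K ∧
      ∃ i, (QuotientGroup.mk' A x) ^ (2 ^ i) = 1 := by
    intro x hx
    obtain ⟨i, hi⟩ := T₂.isPGroup' ⟨x, hx⟩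
    have hi' : x ^ (2 ^ i) = 1 := by
      have := congrArg Subtype.val hi
      rwa [Subgroup.coe_pow, Subgroup.coe_one] at this
    have h2 : (QuotientGroup.mk' A x) ^ (2 ^ i) = 1 := by rw [← map_pow, hi', map_one]
    refine ⟨?_, i, h2⟩
    rw [← QuotientGroup.eq_one_iff]
    apply eq_one_of_pow_eq_one_of_coprime (m := p ^ a) (n := 2 ^ i)
    · rw [← QuotientGroup.mk_pow, QuotientGroup.eq_one_iff, ← hKi]
      exact Subgroup.pow_index_mem K _
    · rw [← QuotientGroup.mk_pow, h2]; rfl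
    · exact Nat.Coprime.pow _ _ hp2
  apply Cfsg.Agent.Lib.Helper5.isMulCommutative_of_forall
  intro x hx y hy
  obtain ⟨hxK, hx2⟩ := himg x hx
  obtain ⟨hyK, hy2⟩ := himg y hy
  have h1 := hK2 _ hxK _ hyK hx2 hy2
  have h2 : x * y * x⁻¹ * y⁻¹ ∈ A := by
    rw [← QuotientGroup.eq_one_iff]
    have : ((x * y * x⁻¹ * y⁻¹ : Q) : Q ⧸ A) =
        QuotientGroup.mk' A x * QuotientGroup.mk' A y * (QuotientGroup.mk' A x)⁻¹ *
          (QuotientGroup.mk' A y)⁻¹ := by simp
    rw [this, h1]; group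
  have h3 : x * y * x⁻¹ * y⁻¹ ∈ (T₂ : Subgroup Q) :=
    Subgroup.mul_mem _ (Subgroup.mul_mem _ (Subgroup.mul_mem _ hx hy) (Subgroup.inv_mem _ hx))
      (Subgroup.inv_mem _ hy)
  have h4 : x * y * x⁻¹ * y⁻¹ = 1 := by
    obtain ⟨i, hi⟩ := T₂.isPGroup' ⟨_, h3⟩
    obtain ⟨j, hj⟩ := hA ⟨_, h2⟩
    have hi' := congrArg Subtype.val hi
    have hj' := congrArg Subtype.val hj
    rw [Subgroup.coe_pow, Subgroup.coe_one] at hi' hj'
    exact eq_one_of_pow_eq_one_of_coprime hj' hi' (Nat.Coprime.pow _ _ hp2)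
  calc x * y = (x * y * x⁻¹ * y⁻¹) * (y * x) := by group
    _ = y * x := by rw [h4, one_mul]

end

end Cfsg.Agent.Lib.Helper13
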