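import Mathlib

set_option autoImplicit false

/-! Coprime automorphisms of `p`-groups: elementary fixed-point lemmas, and the power formula in
groups of class two (helper13). -/

namespace Cfsg.Agent.Lib.Helper13

open scoped commutatorElement

variable {P : Type*} [Group P]

/-- If `α x = x * k` with `α k = k`, then `α ^ n` sends `x` to `x * k ^ n`. -/
theorem aut_pow_apply_of_fix (α : MulAut P) (x k : P) (hx : α x = x * k) (hk : α k = k) (n : ℕ) :
    (α ^ n) x = x * k ^ n := by
  induction n with
  | zero => simp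
  | succ n ih =>
    rw [pow_succ', MulAut.mul_apply, ih, map_mul, map_pow, hx, hk, pow_succ', mul_assoc]

/-- A coprime automorphism of a `p`-group fixing `x⁻¹ * α x` fixes `x`. -/
theorem coprime_fix_of_fix_comm {p : ℕ} [Fact p.Prime] (hP : IsPGroup p P) (α : MulAut P)
    (hα : (orderOf α).Coprime p) (x : P) (h : α (x⁻¹ * α x) = x⁻¹ * α x) : α x = x := by
  obtain ⟨k, hk⟩ : ∃ k : P, k = x⁻¹ * α x := ⟨_, rfl⟩
  have hx : α x = x * k := by rw [hk]; group
  rw [← hk] at h
  have h1 := aut_pow_apply_of_fix α x k hx h (orderOf α)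
  rw [pow_orderOf_eq_one, MulAut.one_apply] at h1
  have h2 : k ^ orderOf α = 1 := by
    have := mul_left_cancel (a := x) (b := 1) (c := k ^ orderOf α) (by rw [mul_one]; exact h1)
    exact this.symm
  obtain ⟨m, hm⟩ := hP k
  have h3 : orderOf k ∣ orderOf α := orderOf_dvd_of_pow_eq_one h2
  have h4 : orderOf k ∣ p ^ m := orderOf_dvd_of_pow_eq_one hm
  have h5 : orderOf k = 1 :=
    Nat.eq_one_of_dvd_coprimes (Nat.Coprime.pow_right m hα) h3 h4
  rw [orderOf_eq_one_iff] at h5
  rw [hx, h5, mul_one]

/-- The power formula in class two: if `y * x = x * y * c` with `c` commuting with `x` and `y`,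
then `(x * y) ^ n = x ^ n * y ^ n * c ^ (n.choose 2)`. -/
theorem class_two_mul_pow (x y c : P) (hc : y * x = x * y * c) (hcx : Commute c x)
    (hcy : Commute c y) (n : ℕ) : (x * y) ^ n = x ^ n * y ^ n * c ^ (n.choose 2) := by
  have hyx : ∀ m : ℕ, y ^ m * x = x * y ^ m * c ^ m := by
    intro m
    induction m with
    | zero => simp
    | succ m ih =>
      calc y ^ (m + 1) * x = y * (y ^ m * x) := by rw [pow_succ', mul_assoc]
        _ = y * (x * y ^ m * c ^ m) := by rw [ih]
        _ = (y * x) * y ^ m * c ^ m := by group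
        _ = x * y * c * y ^ m * c ^ m := by rw [hc]
        _ = x * y * (c * y ^ m) * c ^ m := by group
        _ = x * y * (y ^ m * c) * c ^ m := by rw [(hcy.pow_right m).eq]
        _ = x * y ^ (m + 1) * c ^ (m + 1) := by rw [pow_succ' y m, pow_succ' c m]; group
  induction n with
  | zero => simp
  | succ n ih =>
    have hch : (n + 1).choose 2 = n.choose 2 + n := by
      rw [Nat.choose_succ_succ' n 1, Nat.choose_one_right, add_comm]
    have hcxy : ∀ a b : ℕ, c ^ a * (x * y ^ b) = (x * y ^ b) * c ^ a := by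
      intro a b
      exact ((hcx.mul_right (hcy.pow_right b)).pow_left a).eq
    calc (x * y) ^ (n + 1) = (x * y) ^ n * (x * y) := pow_succ _ _
      _ = x ^ n * y ^ n * c ^ (n.choose 2) * (x * y) := by rw [ih]
      _ = x ^ n * y ^ n * (c ^ (n.choose 2) * (x * y ^ 1)) := by rw [pow_one]; group
      _ = x ^ n * y ^ n * ((x * y ^ 1) * c ^ (n.choose 2)) := by rw [hcxy]
      _ = x ^ n * (y ^ n * x) * y * c ^ (n.choose 2) := by rw [pow_one]; group
      _ = x ^ n * (x * y ^ n * c ^ n) * y * c ^ (n.choose 2) := by rw [hyx]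
      _ = x ^ n * x * y ^ n * (c ^ n * y) * c ^ (n.choose 2) := by group
      _ = x ^ n * x * y ^ n * (y * c ^ n) * c ^ (n.choose 2) := by rw [(hcy.pow_left n).eq]
      _ = x ^ (n + 1) * y ^ (n + 1) * c ^ ((n + 1).choose 2) := by
        rw [hch, pow_succ x n, pow_succ y n, pow_add]
        have e : c ^ n * c ^ n.choose 2 = c ^ n.choose 2 * c ^ n :=
          ((Commute.refl c).pow_pow n (n.choose 2)).eq
        calc x ^ n * x * y ^ n * (y * c ^ n) * c ^ n.choose 2
            = x ^ n * x * (y ^ n * y) * (c ^ n * c ^ n.choose 2) := by group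
          _ = x ^ n * x * (y ^ n * y) * (c ^ n.choose 2 * c ^ n) := by rw [e]

end Cfsg.Agent.Lib.Helper13
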