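import Cfsg.Agent.Lib.Helper13.CritAutA
import Cfsg.Agent.Lib.Helper13.PResidual
import Cfsg.Agent.Lib.Helper1.Critical
import Cfsg.Agent.Lib.helper17.PAct
import Cfsg.Prelude.Def_KGroupFacts

set_option autoImplicit false

/-! Invariant subgroups for a group `G` of automorphisms of a `p`-group `P` containing the inner
automorphisms (helper13). -/

namespace Cfsg.Agent.Lib.Helper13

open scoped commutatorElement

variable {P : Type*} [Group P]

/-- `X` is invariant under the group `G` of automorphisms. -/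
def GInv (G : Subgroup (MulAut P)) (X : Subgroup P) : Prop := ∀ α ∈ G, ∀ x ∈ X, α x ∈ X

theorem GInv.map_eq {G : Subgroup (MulAut P)} {X : Subgroup P} (h : GInv G X) {α : MulAut P}
    (hα : α ∈ G) : X.map α.toMonoidHom = X := by
  apply le_antisymm
  · rintro _ ⟨x, hx, rfl⟩
    exact h α hα x hx
  · intro x hx
    refine ⟨α⁻¹ x, h α⁻¹ (G.inv_mem hα) x hx, ?_⟩
    show α (α⁻¹ x) = x
    rw [← MulAut.mul_apply, mul_inv_cancel, MulAut.one_apply]

theorem GInv.normal {G : Subgroup (MulAut P)} (hG : Cfsg.Inn P ≤ G) {X : Subgroup P}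
    (h : GInv G X) : X.Normal := by
  constructor
  intro x hx g
  have := h (MulAut.conj g) (hG ⟨g, rfl⟩) x hx
  rwa [MulAut.conj_apply] at this

theorem GInv.inf {G : Subgroup (MulAut P)} {X Y : Subgroup P} (hX : GInv G X) (hY : GInv G Y) :
    GInv G (X ⊓ Y) :=
  fun α hα x hx => ⟨hX α hα x hx.1, hY α hα x hx.2⟩

theorem GInv.centralizer {G : Subgroup (MulAut P)} {X : Subgroup P} (hX : GInv G X) :
    GInv G (Subgroup.centralizer (X : Set P)) := by
  intro α hα c hc
  rw [Subgroup.mem_centralizer_iff] at hc ⊢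
  intro x hx
  have h1 := hc (α⁻¹ x) (hX α⁻¹ (G.inv_mem hα) x hx)
  have h2 : α (α⁻¹ x) = x := by
    rw [← MulAut.mul_apply, mul_inv_cancel, MulAut.one_apply]
  have h3 := congrArg α h1
  rwa [map_mul, map_mul, h2] at h3

/-- A coprime automorphism of a `p`-group fixing the elements of order dividing `p` of an invariant
abelian subgroup fixes the subgroup. -/
theorem coprime_fix_abelian {p : ℕ} [Fact p.Prime] (hP : IsPGroup p P) (α : MulAut P)
    (hα : (orderOf α).Coprime p) (M : Subgroup P) (hMc : ∀ a ∈ M, ∀ b ∈ M, a * b = b * a)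
    (hMα : ∀ m ∈ M, α m ∈ M) (h1 : ∀ m ∈ M, m ^ p = 1 → α m = m) : ∀ m ∈ M, α m = m := by
  have key : ∀ n : ℕ, ∀ m ∈ M, m ^ (p ^ n) = 1 → α m = m := by
    intro n
    induction n with
    | zero =>
      intro m _ hm
      rw [pow_zero, pow_one] at hm
      rw [hm, map_one]
    | succ n ih =>
      intro m hm hmn
      have h2 : (m ^ p) ^ (p ^ n) = 1 := by rw [← pow_mul, ← pow_succ']; exact hmn
      have h3 : α (m ^ p) = m ^ p := ih _ (M.pow_mem hm p) h2
      apply coprime_fix_of_fix_comm hP α hα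
      apply h1 _ (M.mul_mem (M.inv_mem hm) (hMα m hm))
      have hc : Commute m⁻¹ (α m) := hMc _ (M.inv_mem hm) _ (hMα m hm)
      rw [hc.mul_pow, ← map_pow, h3, inv_pow, inv_mul_cancel]
  intro m hm
  obtain ⟨n, hn⟩ := hP m
  exact key n m hm hn

/-- The join of a commutative subgroup with a cyclic subgroup centralizing it is commutative. -/
theorem comm_sup_zpowers (A : Subgroup P) (hA : ∀ a ∈ A, ∀ b ∈ A, a * b = b * a) (z : P)
    (hz : ∀ a ∈ A, a * z = z * a) :
    ∀ a ∈ A ⊔ Subgroup.zpowers z, ∀ b ∈ A ⊔ Subgroup.zpowers z, a * b = b * a := by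
  have hS : A ⊔ Subgroup.zpowers z = Subgroup.closure ((A : Set P) ∪ {z}) := by
    rw [Subgroup.closure_union, Subgroup.closure_eq, Subgroup.zpowers_eq_closure]
  rw [hS]
  have h1 : ∀ s ∈ (A : Set P) ∪ {z}, ∀ t ∈ (A : Set P) ∪ {z}, s * t = t * s := by
    rintro s (hs | hs) t (ht | ht)
    · exact hA s hs t ht
    · rw [Set.mem_singleton_iff] at ht
      rw [ht]
      exact hz s hs
    · rw [Set.mem_singleton_iff] at hs
      rw [hs]
      exact (hz t ht).symm
    · rw [Set.mem_singleton_iff] at hs ht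
      rw [hs, ht]
  have h2 : ∀ b ∈ Subgroup.closure ((A : Set P) ∪ {z}), ∀ s ∈ (A : Set P) ∪ {z}, s * b = b * s := by
    intro b hb s hs
    have : Subgroup.closure ((A : Set P) ∪ {z}) ≤ Subgroup.centralizer ({s} : Set P) := by
      rw [Subgroup.closure_le]
      intro t ht
      apply Subgroup.mem_centralizer_iff.mpr
      intro u hu
      rw [Set.mem_singleton_iff] at hu
      rw [hu]
      exact h1 s hs t ht
    exact Subgroup.mem_centralizer_iff.mp (this hb) s rfl
  intro a ha b hb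
  have : Subgroup.closure ((A : Set P) ∪ {z}) ≤ Subgroup.centralizer ({b} : Set P) := by
    rw [Subgroup.closure_le]
    intro t ht
    apply Subgroup.mem_centralizer_iff.mpr
    intro u hu
    rw [Set.mem_singleton_iff] at hu
    rw [hu]
    exact (h2 b hb t ht).symm
  exact (Subgroup.mem_centralizer_iff.mp (this ha) b rfl).symm

/-- A maximal commutative subgroup of `D` contains every element of `D` centralizing it. -/
theorem mem_of_max_comm {D A : Subgroup P} (hAD : A ≤ D) (hAc : IsMulCommutative ↥A)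
    (hmax : ∀ B : Subgroup P, A ≤ B → B ≤ D → IsMulCommutative ↥B → B = A) (z : P) (hzD : z ∈ D)
    (hz : ∀ a ∈ A, a * z = z * a) : z ∈ A := by
  have hA : ∀ a ∈ A, ∀ b ∈ A, a * b = b * a := by
    intro a ha b hb
    have := mul_comm' (⟨a, ha⟩ : ↥A) ⟨b, hb⟩
    exact congrArg Subtype.val this
  have hB := comm_sup_zpowers A hA z hz
  have hBc : IsMulCommutative ↥(A ⊔ Subgroup.zpowers z) := by
    refine ⟨⟨?_⟩⟩
    rintro ⟨a, ha⟩ ⟨b, hb⟩
    exact Subtype.ext (hB a ha b hb)
  have h1 := hmax _ le_sup_left (sup_le hAD (Subgroup.zpowers_le.mpr hzD)) hBc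
  rw [← h1]
  exact (le_sup_right : Subgroup.zpowers z ≤ _) (Subgroup.mem_zpowers z)

end Cfsg.Agent.Lib.Helper13
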