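import Cfsg.Agent.Lib.Helper13.CritAutB

set_option autoImplicit false

/-! A critical subgroup of `[P, O^p(G)]` adapted to a group `G` of automorphisms of the `p`-group
`P` containing the inner automorphisms (helper13). -/

namespace Cfsg.Agent.Lib.Helper13

open scoped commutatorElement

variable {P : Type*} [Group P]

/-- In class two, `⁅a, b⁆ ^ n = ⁅a, b ^ n⁆` when `⁅a, b⁆` commutes with `b`. -/
theorem comm_pow_of_commute (a b : P) (h : Commute ⁅a, b⁆ b) (n : ℕ) :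
    ⁅a, b⁆ ^ n = ⁅a, b ^ n⁆ := by
  have h1 : a * b ^ n * a⁻¹ = (⁅a, b⁆ * b) ^ n := by
    have e : ⁅a, b⁆ * b = a * b * a⁻¹ := by rw [commutatorElement_def]; group
    rw [e]
    exact (conj_pow (a := a) (b := b) (i := n)).symm
  rw [h.mul_pow] at h1
  rw [commutatorElement_def (g₂ := b ^ n), h1]
  group

section Main

variable [Finite P] {p : ℕ} [hp : Fact p.Prime]

/-- The structure produced by the critical subgroup construction. -/
theorem exists_crit_core (hP : IsPGroup p P) (G : Subgroup (MulAut P)) (hG : Cfsg.Inn P ≤ G) :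
    ∃ M C : Subgroup P, GInv G M ∧ GInv G C ∧ M ≤ C ∧
      C ≤ Subgroup.closure {y : P | ∃ α ∈ Cfsg.pResidual p ↥G, ∃ x : P,
        y = x⁻¹ * (α : MulAut P) x} ∧
      C ≤ Subgroup.centralizer (M : Set P) ∧ (∀ x ∈ C, ∀ g : P, ⁅x, g⁆ ∈ M) ∧
      (∀ x ∈ C, x ^ p ∈ M) ∧
      (∀ α ∈ G, (orderOf α).Coprime p → (∀ c ∈ C, α c = c) → α = 1) := by
  classical
  obtain ⟨P₁, hP₁⟩ : ∃ P₁ : Subgroup P, P₁ = Subgroup.closure {y : P |
      ∃ α ∈ Cfsg.pResidual p ↥G, ∃ x : P, y = x⁻¹ * (α : MulAut P) x} := ⟨_, rfl⟩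
  rw [← hP₁]
  have hRn : (Cfsg.pResidual p ↥G).Normal := pResidual_normal' p
  -- `P₁` is invariant
  have hP₁inv : GInv G P₁ := by
    intro β hβ y hy
    rw [hP₁] at hy ⊢
    induction hy using Subgroup.closure_induction with
    | mem y hy =>
      obtain ⟨α, hαR, x, rfl⟩ := hy
      apply Subgroup.subset_closure
      refine ⟨(⟨β, hβ⟩ : ↥G) * α * (⟨β, hβ⟩ : ↥G)⁻¹, hRn.conj_mem α hαR _, β x, ?_⟩
      have e : (((⟨β, hβ⟩ : ↥G) * α * (⟨β, hβ⟩ : ↥G)⁻¹ : ↥G) : MulAut P) = β * (α : MulAut P) * β⁻¹ := rfl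
      rw [e, MulAut.mul_apply, MulAut.mul_apply, map_mul, map_inv]
      have h2 : β⁻¹ (β x) = x := by
        rw [← MulAut.mul_apply, inv_mul_cancel, MulAut.one_apply]
      rw [h2]
    | one => rw [map_one]; exact Subgroup.one_mem _
    | mul a b _ _ iha ihb => rw [map_mul]; exact Subgroup.mul_mem _ iha ihb
    | inv a _ iha => rw [map_inv]; exact Subgroup.inv_mem _ iha
  -- coprime automorphisms in `G` are faithful on `P₁`
  have hfaith₁ : ∀ α ∈ G, (orderOf α).Coprime p → (∀ y ∈ P₁, α y = y) → α = 1 := by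
    intro α hα hcop hfix
    have hαR : (⟨α, hα⟩ : ↥G) ∈ Cfsg.pResidual p ↥G := by
      apply mem_pResidual_of_coprime
      rw [Subgroup.orderOf_mk]
      exact hcop
    ext x
    rw [MulAut.one_apply]
    apply coprime_fix_of_fix_comm hP α hcop
    apply hfix
    rw [hP₁]
    exact Subgroup.subset_closure ⟨⟨α, hα⟩, hαR, x, rfl⟩
  -- a maximal invariant abelian subgroup of `P₁`
  have hfin : {M : Subgroup P | M ≤ P₁ ∧ (∀ a ∈ M, ∀ b ∈ M, a * b = b * a) ∧ GInv G M}.Finite :=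
    Set.toFinite _
  have hne : {M : Subgroup P | M ≤ P₁ ∧ (∀ a ∈ M, ∀ b ∈ M, a * b = b * a) ∧ GInv G M}.Nonempty := by
    refine ⟨⊥, bot_le, ?_, ?_⟩
    · intro a ha b hb
      rw [Subgroup.mem_bot] at ha hb
      rw [ha, hb]
    · intro α _ x hx
      rw [Subgroup.mem_bot] at hx ⊢
      rw [hx, map_one]
  obtain ⟨M, ⟨hMle, hMc, hMinv⟩, hMmax⟩ :=
    Set.exists_max_image _ (fun M : Subgroup P => Nat.card ↥M) hfin hne
  have hMn : M.Normal := hMinv.normal hG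
  have hMcent : M ≤ Subgroup.centralizer (M : Set P) := by
    intro a ha
    apply Subgroup.mem_centralizer_iff.mpr
    intro b hb
    exact hMc b hb a ha
  obtain ⟨C, hC⟩ : ∃ C : Subgroup P, C = (P₁ ⊓ Subgroup.centralizer (M : Set P)) ⊓
      (Cfsg.Agent.Lib.Helper1.omegaCenter p (P ⧸ M)).comap (QuotientGroup.mk' M) := ⟨_, rfl⟩
  have hmemC : ∀ x : P, x ∈ C ↔ (x ∈ P₁ ∧ x ∈ Subgroup.centralizer (M : Set P)) ∧
      (∀ g : P, ⁅x, g⁆ ∈ M) ∧ x ^ p ∈ M := by
    intro x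
    rw [hC, Subgroup.mem_inf, Subgroup.mem_inf, Cfsg.Agent.Lib.Helper1.mem_comap_omegaCenter]
  have hMC : M ≤ C := by
    intro m hm
    rw [hmemC]
    refine ⟨⟨hMle hm, hMcent hm⟩, ?_, M.pow_mem hm p⟩
    intro g
    rw [commutatorElement_def]
    have : m * g * m⁻¹ * g⁻¹ = m * (g * m⁻¹ * g⁻¹) := by group
    rw [this]
    exact M.mul_mem hm (hMn.conj_mem _ (M.inv_mem hm) g)
  have hCinv : GInv G C := by
    intro α hα x hx
    rw [hmemC] at hx ⊢
    obtain ⟨⟨h1, h2⟩, h3, h4⟩ := hx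
    refine ⟨⟨hP₁inv α hα x h1, hMinv.centralizer α hα x h2⟩, ?_, ?_⟩
    · intro g
      have h5 := hMinv α hα _ (h3 (α⁻¹ g))
      rw [map_commutatorElement] at h5
      have h6 : α (α⁻¹ g) = g := by
        rw [← MulAut.mul_apply, mul_inv_cancel, MulAut.one_apply]
      rwa [h6] at h5
    · rw [← map_pow]
      exact hMinv α hα _ h4
  have hCP₁ : C ≤ P₁ := fun x hx => ((hmemC x).mp hx).1.1
  have hCM : C ≤ Subgroup.centralizer (M : Set P) := fun x hx => ((hmemC x).mp hx).1.2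
  have hMcC : M ≤ Subgroup.centralizer (C : Set P) := by
    intro m hm
    apply Subgroup.mem_centralizer_iff.mpr
    intro c hc
    exact (Subgroup.mem_centralizer_iff.mp (hCM hc) m hm).symm
  -- the centre of `C` is `M`
  have hZ : C ⊓ Subgroup.centralizer (C : Set P) = M := by
    have hle : M ≤ C ⊓ Subgroup.centralizer (C : Set P) := le_inf hMC hMcC
    have hcard := hMmax (C ⊓ Subgroup.centralizer (C : Set P))
      ⟨inf_le_left.trans hCP₁, ?_, hCinv.inf hCinv.centralizer⟩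
    · exact (Subgroup.eq_of_le_of_card_ge hle hcard).symm
    · intro a ha b hb
      exact (Subgroup.mem_centralizer_iff.mp hb.2 a ha.1)
  -- the centralizer of `C` in `P₁` is `M`
  have hK : P₁ ⊓ Subgroup.centralizer (C : Set P) ≤ M := by
    by_contra hcon
    obtain ⟨K, hKdef⟩ : ∃ K : Subgroup P, K = P₁ ⊓ Subgroup.centralizer (C : Set P) := ⟨_, rfl⟩
    rw [← hKdef] at hcon
    have hKinv : GInv G K := hKdef ▸ hP₁inv.inf hCinv.centralizer
    have hKn : K.Normal := hKinv.normal hG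
    obtain ⟨Nb, hNb⟩ : ∃ Nb : Subgroup (P ⧸ M), Nb = K.map (QuotientGroup.mk' M) := ⟨_, rfl⟩
    have hNbn : Nb.Normal := hNb ▸ Subgroup.Normal.map hKn _ (QuotientGroup.mk'_surjective M)
    have hNb1 : Nb ≠ ⊥ := by
      intro h
      rw [hNb, Subgroup.map_eq_bot_iff, QuotientGroup.ker_mk'] at h
      exact hcon h
    have hQp : IsPGroup p (P ⧸ M) := hP.to_quotient M
    have hnil : Group.IsNilpotent (P ⧸ M) := hQp.isNilpotent
    have hne := Cfsg.Agent.Lib.helper17.nilpotent_normal_inf_center_ne_bot Nb hNb1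
    obtain ⟨Y, hY⟩ : ∃ Y : Subgroup (P ⧸ M), Y = Nb ⊓ Subgroup.center (P ⧸ M) := ⟨_, rfl⟩
    rw [← hY] at hne
    have hYp : IsPGroup p ↥Y := hQp.to_subgroup Y
    have hYnt : Nontrivial ↥Y := (Subgroup.nontrivial_iff_ne_bot Y).mpr hne
    have hcard : p ∣ Nat.card ↥Y := by
      obtain ⟨k, hk⟩ := IsPGroup.iff_card.mp hYp
      rw [hk]
      have hk0 : k ≠ 0 := by
        intro h0
        rw [h0, pow_zero] at hk
        have := (Nat.card_eq_one_iff_unique.mp hk).1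
        exact not_subsingleton _ this
      exact dvd_pow_self p hk0
    obtain ⟨z, hz⟩ := exists_prime_orderOf_dvd_card' p hcard
    have hzY : (z : P ⧸ M) ∈ Nb ⊓ Subgroup.center (P ⧸ M) := hY ▸ z.2
    have hzp : (z : P ⧸ M) ^ p = 1 := by
      have := pow_orderOf_eq_one z
      rw [hz] at this
      have h2 := congrArg (fun w : ↥Y => (w : P ⧸ M)) this
      simpa using h2
    have hz1 : (z : P ⧸ M) ≠ 1 := by
      intro h
      have : z = 1 := Subtype.ext h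
      rw [this, orderOf_one] at hz
      exact hp.out.one_lt.ne hz
    have hzNb : (z : P ⧸ M) ∈ K.map (QuotientGroup.mk' M) := hNb ▸ hzY.1
    obtain ⟨x, hxK, hxz⟩ := hzNb
    have hxC : x ∈ C := by
      rw [hC]
      refine ⟨⟨(hKdef ▸ hxK : x ∈ P₁ ⊓ _).1, ?_⟩, ?_⟩
      · apply Subgroup.mem_centralizer_iff.mpr
        intro m hm
        exact Subgroup.mem_centralizer_iff.mp (hKdef ▸ hxK : x ∈ P₁ ⊓ _).2 m (hMC hm)
      · show QuotientGroup.mk' M x ∈ Cfsg.Agent.Lib.Helper1.omegaCenter p (P ⧸ M)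
        rw [hxz, Cfsg.Agent.Lib.Helper1.mem_omegaCenter]
        exact ⟨hzY.2, hzp⟩
    have hxM : x ∈ M := by
      rw [← hZ]
      exact ⟨hxC, (hKdef ▸ hxK : x ∈ P₁ ⊓ _).2⟩
    apply hz1
    rw [← hxz]
    exact (QuotientGroup.eq_one_iff x).mpr hxM
  refine ⟨M, C, hMinv, hCinv, hMC, hCP₁, hCM, fun x hx => ((hmemC x).mp hx).2.1,
    fun x hx => ((hmemC x).mp hx).2.2, ?_⟩
  -- coprime automorphisms in `G` are faithful on `C`
  intro α hα hcop hfix
  apply hfaith₁ α hα hcop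
  intro y hy
  apply coprime_fix_of_fix_comm hP α hcop
  have hkC : y⁻¹ * α y ∈ P₁ ⊓ Subgroup.centralizer (C : Set P) := by
    refine ⟨P₁.mul_mem (P₁.inv_mem hy) (hP₁inv α hα y hy), ?_⟩
    apply Subgroup.mem_centralizer_iff.mpr
    intro c hc
    have h1 : ⁅c, y⁆ ∈ M := ((hmemC c).mp hc).2.1 y
    have h2 : α ⁅c, y⁆ = ⁅c, y⁆ := hfix _ (hMC h1)
    rw [map_commutatorElement, hfix c hc, commutatorElement_def, commutatorElement_def] at h2
    -- `c * α y * c⁻¹ * (α y)⁻¹ = c * y * c⁻¹ * y⁻¹`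
    have h3 : α y * c⁻¹ * (α y)⁻¹ = y * c⁻¹ * y⁻¹ := by
      have := congrArg (fun t => c⁻¹ * t) h2
      simpa [mul_assoc] using this
    have h4 : (y⁻¹ * α y) * c⁻¹ = c⁻¹ * (y⁻¹ * α y) := by
      calc (y⁻¹ * α y) * c⁻¹ = y⁻¹ * (α y * c⁻¹ * (α y)⁻¹) * α y := by group
        _ = y⁻¹ * (y * c⁻¹ * y⁻¹) * α y := by rw [h3]
        _ = c⁻¹ * (y⁻¹ * α y) := by group
    have h5 : c⁻¹ * (y⁻¹ * α y) * c = y⁻¹ * α y := by
      rw [← h4]
      group
    calc c * (y⁻¹ * α y) = c * (c⁻¹ * (y⁻¹ * α y) * c) := by rw [h5]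
      _ = y⁻¹ * α y * c := by group
  exact hfix _ (hMC (hK hkC))

end Main

end Cfsg.Agent.Lib.Helper13
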