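import Cfsg.Agent.Lib.Helper13.CritAutC

set_option autoImplicit false

/-! The subgroup `D` of elements of small order of the adapted critical subgroup, and its
properties (helper13). -/

namespace Cfsg.Agent.Lib.Helper13

open scoped commutatorElement

variable {P : Type*} [Group P]

/-- The elements of `C` killed by the `e`-th power, when that power map is multiplicative on `C`. -/
def powKer (C : Subgroup P) (e : ℕ) (h : ∀ x ∈ C, ∀ y ∈ C, (x * y) ^ e = x ^ e * y ^ e) :
    Subgroup P where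
  carrier := {x | x ∈ C ∧ x ^ e = 1}
  one_mem' := ⟨C.one_mem, one_pow e⟩
  mul_mem' := by
    rintro a b ⟨ha, hae⟩ ⟨hb, hbe⟩
    exact ⟨C.mul_mem ha hb, by rw [h a ha b hb, hae, hbe, one_mul]⟩
  inv_mem' := by
    rintro a ⟨ha, hae⟩
    exact ⟨C.inv_mem ha, by rw [inv_pow, hae, inv_one]⟩

theorem mem_powKer (C : Subgroup P) (e : ℕ) (h : ∀ x ∈ C, ∀ y ∈ C, (x * y) ^ e = x ^ e * y ^ e)
    (x : P) : x ∈ powKer C e h ↔ x ∈ C ∧ x ^ e = 1 := Iff.rfl

section Main

variable [Finite P] {p : ℕ} [hp : Fact p.Prime]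

theorem exists_crit_aut (hP : IsPGroup p P) (G : Subgroup (MulAut P)) (hG : Cfsg.Inn P ≤ G) :
    ∃ D : Subgroup P,
      (∀ α ∈ G, D.map α.toMonoidHom = D) ∧
      D ≤ Subgroup.closure {y : P | ∃ α ∈ Cfsg.pResidual p ↥G, ∃ x : P,
        y = x⁻¹ * (α : MulAut P) x} ∧
      (∀ d ∈ D, d ^ p = 1 ∨ (p = 2 ∧ d ^ 4 = 1)) ∧
      ⁅D, (⊤ : Subgroup P)⁆ ≤ D ⊓ Subgroup.centralizer (D : Set P) ∧
      (∀ α ∈ G, (orderOf α).Coprime p → (∀ d ∈ D, α d = d) → α = 1) ∧
      ∀ A : Subgroup P, A ≤ D → IsMulCommutative ↥A →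
        (∀ B : Subgroup P, A ≤ B → B ≤ D → IsMulCommutative ↥B → B = A) →
        A.Normal ∧ ∀ α ∈ G, (∀ a ∈ A, α a = a) → ∃ k : ℕ, orderOf α = p ^ k := by
  classical
  obtain ⟨M, C, hMinv, hCinv, hMC, hCP₁, hCM, hCcomm, hCpow, hfaithC⟩ := exists_crit_core hP G hG
  have hMn : M.Normal := hMinv.normal hG
  have hMcC : M ≤ Subgroup.centralizer (C : Set P) := by
    intro m hm
    apply Subgroup.mem_centralizer_iff.mpr
    intro c hc
    exact (Subgroup.mem_centralizer_iff.mp (hCM hc) m hm).symm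
  have hMc : ∀ a ∈ M, ∀ b ∈ M, a * b = b * a := by
    intro a ha b hb
    exact (Subgroup.mem_centralizer_iff.mp (hCM (hMC hb)) a ha)
  -- the exponent
  obtain ⟨e, he⟩ : ∃ e : ℕ, e = if p = 2 then 4 else p := ⟨_, rfl⟩
  have hech : p ∣ e.choose 2 := by
    by_cases h2 : p = 2
    · rw [he, if_pos h2, h2]
      decide
    · rw [he, if_neg h2]
      apply hp.out.dvd_choose_self (by norm_num)
      have := hp.out.two_le
      omega
  have hepow : ∀ x ∈ C, x ^ e ∈ M := by
    intro x hx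
    by_cases h2 : p = 2
    · rw [he, if_pos h2]
      have h3 : x ^ 4 = (x ^ p) ^ 2 := by rw [h2, ← pow_mul]
      rw [h3]
      exact M.pow_mem (hCpow x hx) 2
    · rw [he, if_neg h2]
      exact hCpow x hx
  have hpe : ∀ m : P, m ^ p = 1 → m ^ e = 1 := by
    intro m hm
    by_cases h2 : p = 2
    · rw [he, if_pos h2]
      have h3 : m ^ 4 = (m ^ p) ^ 2 := by rw [h2, ← pow_mul]
      rw [h3, hm, one_pow]
    · rw [he, if_neg h2]
      exact hm
  -- the power map is multiplicative on `C`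
  have hmul : ∀ x ∈ C, ∀ y ∈ C, (x * y) ^ e = x ^ e * y ^ e := by
    intro x hx y hy
    obtain ⟨c, hc⟩ : ∃ c : P, c = ⁅y⁻¹, x⁻¹⁆ := ⟨_, rfl⟩
    have hcM : c ∈ M := hc ▸ hCcomm _ (C.inv_mem hy) _
    have hcx : Commute c x := (Subgroup.mem_centralizer_iff.mp (hMcC hcM) x hx).symm
    have hcy : Commute c y := (Subgroup.mem_centralizer_iff.mp (hMcC hcM) y hy).symm
    have hyx : y * x = x * y * c := by
      rw [hc, commutatorElement_def]
      group
    have hcp : c ^ p = 1 := by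
      have h1 : Commute ⁅y⁻¹, x⁻¹⁆ x⁻¹ := by
        rw [← hc]
        exact hcx.inv_right
      have h2 := comm_pow_of_commute y⁻¹ x⁻¹ h1 p
      rw [← hc] at h2
      rw [h2, commutatorElement_eq_one_iff_commute]
      have h3 : (x⁻¹) ^ p ∈ M := by
        rw [inv_pow]
        exact M.inv_mem (hCpow x hx)
      exact (Subgroup.mem_centralizer_iff.mp (hMcC h3) y⁻¹ (C.inv_mem hy))
    rw [class_two_mul_pow x y c hyx hcx hcy e]
    obtain ⟨t, ht⟩ := hech
    rw [ht, pow_mul, hcp, one_pow, mul_one]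
  obtain ⟨D, hD⟩ : ∃ D : Subgroup P, D = powKer C e hmul := ⟨_, rfl⟩
  have hmemD : ∀ x : P, x ∈ D ↔ x ∈ C ∧ x ^ e = 1 := by
    intro x
    rw [hD]
    exact mem_powKer C e hmul x
  have hDC : D ≤ C := fun x hx => ((hmemD x).mp hx).1
  have hDinv : GInv G D := by
    intro α hα x hx
    rw [hmemD] at hx ⊢
    exact ⟨hCinv α hα x hx.1, by rw [← map_pow, hx.2, map_one]⟩
  have hDn : D.Normal := hDinv.normal hG
  -- (4)
  have h4 : ⁅D, (⊤ : Subgroup P)⁆ ≤ D ⊓ Subgroup.centralizer (D : Set P) := by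
    rw [Subgroup.commutator_le]
    intro d hd g _
    refine ⟨?_, ?_⟩
    · rw [commutatorElement_def]
      have : d * g * d⁻¹ * g⁻¹ = d * (g * d⁻¹ * g⁻¹) := by group
      rw [this]
      exact D.mul_mem hd (hDn.conj_mem _ (D.inv_mem hd) g)
    · have h1 : ⁅d, g⁆ ∈ M := hCcomm d (hDC hd) g
      apply Subgroup.mem_centralizer_iff.mpr
      intro x hx
      exact Subgroup.mem_centralizer_iff.mp (hMcC h1) x (hDC hx)
  -- (5)
  have h5 : ∀ α ∈ G, (orderOf α).Coprime p → (∀ d ∈ D, α d = d) → α = 1 := by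
    intro α hα hcop hfix
    apply hfaithC α hα hcop
    have hM : ∀ m ∈ M, α m = m := by
      apply coprime_fix_abelian hP α hcop M hMc (hMinv α hα)
      intro m hm hmp
      exact hfix m ((hmemD m).mpr ⟨hMC hm, hpe m hmp⟩)
    intro x hx
    apply coprime_fix_of_fix_comm hP α hcop
    apply hfix
    rw [hmemD]
    have hαx : α x ∈ C := hCinv α hα x hx
    refine ⟨C.mul_mem (C.inv_mem hx) hαx, ?_⟩
    rw [hmul _ (C.inv_mem hx) _ hαx, ← map_pow, hM _ (hepow x hx), inv_pow, inv_mul_cancel]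
  refine ⟨D, fun α hα => hDinv.map_eq hα, hDC.trans hCP₁, ?_, h4, h5, ?_⟩
  · -- (3)
    intro d hd
    have h1 := ((hmemD d).mp hd).2
    by_cases h2 : p = 2
    · right
      rw [he, if_pos h2] at h1
      exact ⟨h2, h1⟩
    · left
      rw [he, if_neg h2] at h1
      exact h1
  · -- (6)
    intro A hAD hAc hAmax
    have hAcomm : ∀ a ∈ A, ∀ b ∈ A, a * b = b * a := by
      intro a ha b hb
      have := mul_comm' (⟨a, ha⟩ : ↥A) ⟨b, hb⟩
      exact congrArg Subtype.val this
    have hZA : D ⊓ Subgroup.centralizer (D : Set P) ≤ A := by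
      intro z hz
      apply mem_of_max_comm hAD hAc hAmax z hz.1
      intro a ha
      exact Subgroup.mem_centralizer_iff.mp hz.2 a (hAD ha)
    have hcomA : ∀ d ∈ D, ∀ g : P, ⁅d, g⁆ ∈ A := fun d hd g =>
      hZA (h4 (Subgroup.commutator_mem_commutator hd (Subgroup.mem_top g)))
    constructor
    · constructor
      intro a ha g
      have h1 : g * a * g⁻¹ = (⁅a, g⁆)⁻¹ * a := by
        rw [commutatorElement_def]
        group
      rw [h1]
      exact A.mul_mem (A.inv_mem (hcomA a (hAD ha) g)) ha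
    · intro α hα hfixA
      have hfinA : Finite (MulAut P) := inferInstance
      have hn0 : orderOf α ≠ 0 := (orderOf_pos α).ne'
      obtain ⟨k, m, hm, hkm⟩ := Nat.exists_eq_pow_mul_and_not_dvd hn0 p hp.out.ne_one
      refine ⟨k, ?_⟩
      obtain ⟨β, hβ⟩ : ∃ β : MulAut P, β = α ^ (p ^ k) := ⟨_, rfl⟩
      have hβG : β ∈ G := hβ ▸ G.pow_mem hα _
      have hβord : orderOf β = m := by
        rw [hβ, orderOf_pow' α (pow_ne_zero k hp.out.ne_zero), hkm, Nat.gcd_mul_right_left,
          Nat.mul_div_cancel_left m (pow_pos hp.out.pos k)]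
      have hβcop : (orderOf β).Coprime p := by
        rw [hβord]
        exact ((Nat.Prime.coprime_iff_not_dvd hp.out).mpr hm).symm
      have hβA : ∀ a ∈ A, β a = a := by
        intro a ha
        rw [hβ]
        have : ∀ n : ℕ, (α ^ n) a = a := by
          intro n
          induction n with
          | zero => rfl
          | succ n ih => rw [pow_succ, MulAut.mul_apply, hfixA a ha, ih]
        exact this _
      have hβ1 : β = 1 := by
        apply h5 β hβG hβcop
        intro d hd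
        apply coprime_fix_of_fix_comm hP β hβcop
        apply hβA
        have hβd : β d ∈ D := hDinv β hβG d hd
        apply mem_of_max_comm hAD hAc hAmax _ (D.mul_mem (D.inv_mem hd) hβd)
        intro a ha
        have h1 : β ⁅d, a⁆ = ⁅d, a⁆ := hβA _ (hcomA d hd a)
        rw [map_commutatorElement, hβA a ha, commutatorElement_def, commutatorElement_def] at h1
        -- `β d * a * (β d)⁻¹ * a⁻¹ = d * a * d⁻¹ * a⁻¹`
        have h2 : β d * a * (β d)⁻¹ = d * a * d⁻¹ := by
          have := congrArg (fun t => t * a) h1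
          simpa [mul_assoc] using this
        calc a * (d⁻¹ * β d) = d⁻¹ * (d * a * d⁻¹) * β d := by group
          _ = d⁻¹ * (β d * a * (β d)⁻¹) * β d := by rw [h2]
          _ = d⁻¹ * β d * a := by group
      rw [hβ1, orderOf_one] at hβord
      rw [hkm, ← hβord, mul_one]

end Main

end Cfsg.Agent.Lib.Helper13
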