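/-
DBN row FIX, core (helper13): a coset fixed by the unipotent radical is trivial;
`dbnfix_core` = `mem_BO_of_fixed` with the statement of WEAK (`weakBN_D`) as a hypothesis.
-/
import Mathlib
import Cfsg.Agent.Lib.helper14.OBNd
import Cfsg.Agent.Lib.helper14.DBN.Defs
import Cfsg.Agent.Lib.Helper25.DBNQBASIC
import Cfsg.Agent.Lib.helper6.DBNTNORM
import Cfsg.Agent.Lib.Helper24.DBNNUOQ
import Cfsg.Agent.Lib.helper23.DBNCOMB
import Cfsg.Agent.Lib.Helper13.DBNROOT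

set_option autoImplicit false

namespace Cfsg.Agent.Lib.helper14.DBN

open Matrix DoubleCoset
open Cfsg.Agent.Lib.helper3 Cfsg.Agent.Lib.helper14
open Cfsg.Agent.Lib.helper14.UBN Cfsg.Agent.Lib.helper14.OBN

universe u
variable {F : Type u} [Field F] {n : ℕ}

/-- `pc kP = pa kL` -/
theorem dbnfix_pc_kP (hn4 : 4 ≤ n) :
    (pc (kP hn4) : Fin n) = pa (kL (le_trans (by norm_num) hn4)) := by
  apply rk_injective
  have h1 : (kP hn4).val + 1 < n / 2 := by
    rw [kP_val]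
    omega
  rw [pc_of_lt _ h1, rk_pa, kP_val, kL_val]
  omega

/-- `pc kL = rv (pa kL)` -/
theorem dbnfix_pc_kL (hn2 : 2 ≤ n) : (pc (kL hn2) : Fin n) = rv (pa (kL hn2)) := by
  apply pc_of_not_lt
  rw [kL_val]
  omega

theorem dbnfix_tauS_kL_pa_kP (hn4 : 4 ≤ n) (hn : n % 2 = 0) :
    tauS (kL (le_trans (by norm_num) hn4)) (pa (kP hn4) : Fin n) = pa (kP hn4) := by
  have hn2 : 2 ≤ n := le_trans (by norm_num) hn4
  rw [tauS_apply]
  have hrL : rk (rv (pa (kL hn2) : Fin n)) = n - 1 - (n / 2 - 1) := by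
    have := rk_add_rv (pa (kL hn2) : Fin n)
    rw [rk_pa, kL_val] at this
    omega
  apply tauF_of_ne
  · intro e
    have := congrArg rk e
    rw [rk_pa, rk_pa, kP_val, kL_val] at this
    omega
  · intro e
    have := congrArg rk e
    rw [dbnfix_pc_kL hn2, hrL, rk_pa, kP_val] at this
    omega
  · intro e
    have := congrArg rk e
    rw [hrL, rk_pa, kP_val] at this
    omega
  · intro e
    have := congrArg rk e
    rw [dbnfix_pc_kL hn2, rv_rv, rk_pa, rk_pa, kP_val, kL_val] at this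
    omega

theorem dbnfix_tauS_kL_pc_kP (hn4 : 4 ≤ n) :
    tauS (kL (le_trans (by norm_num) hn4)) (pc (kP hn4) : Fin n) = rv (pc (kP hn4)) := by
  have hn2 : 2 ≤ n := le_trans (by norm_num) hn4
  rw [dbnfix_pc_kP hn4, tauS_pa, dbnfix_pc_kL hn2]

theorem dbnfix_core (hn4 : 4 ≤ n) (hn : n % 2 = 0)
    (hW : WeakBN (BO n F) (NE n F) (SD F hn4)) (g : GS n F) (hg : g ∈ BO n F ⊔ NE n F)
    (h : ∀ u ∈ UO n F, g⁻¹ * u * g ∈ BO n F) : g ∈ BO n F := by
  have hn2 : 2 ≤ n := le_trans (by norm_num) hn4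
  obtain ⟨m, hm, hgm⟩ := weak_bruhat hW g hg
  obtain ⟨b1, hb1, b2, hb2, rfl⟩ := mem_doubleCoset.1 hgm
  have hb1' : b1 ∈ BU n (Sid F) := hb1.1
  have hb2' : b2 ∈ BU n (Sid F) := hb2.1
  obtain ⟨π, hπ, hmm, hsign⟩ := hm
  -- conjugates of root elements
  have key : ∀ u ∈ UO n F, m⁻¹ * u * m ∈ BU n (Sid F) := by
    intro u hu
    have hu' : b1 * u * b1⁻¹ ∈ UO n F :=
      ⟨UU_conj_mem b1 u hb1' hu.1,
        (OQ n F).mul_mem ((OQ n F).mul_mem hb1.2 hu.2) ((OQ n F).inv_mem hb1.2)⟩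
    have h1 := (h _ hu').1
    have e : m⁻¹ * u * m =
        b2 * ((b1 * m * b2)⁻¹ * (b1 * u * b1⁻¹) * (b1 * m * b2)) * b2⁻¹ := by group
    rw [e]
    exact (BU n (Sid F)).mul_mem ((BU n (Sid F)).mul_mem hb2' h1) ((BU n (Sid F)).inv_mem hb2')
  have hall : ∀ k : Fin (n / 2), k.val + 1 < n / 2 →
      rk (π.symm (pa k)) < rk (π.symm (pc k)) := by
    intro k hk
    rcases rk_neg_or_pos k π with hpos | hneg
    · exact hpos
    · exfalso
      obtain ⟨u, hu0, hu1, hu2, hu3⟩ := nodeHypO (F := F) hn k hk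
      have huU : u ∈ UO n F := ⟨⟨up_of_isUk k u hu1, hu3⟩, hu0⟩
      exact conj_uNode_not_mem k u m hu2 hπ hmm hneg (key u huU)
  have hD : rk (π.symm (pa (kP hn4))) < rk (π.symm (rv (pc (kP hn4)))) := by
    by_contra hcon
    have hne : rk (π.symm (rv (pc (kP hn4)))) ≠ rk (π.symm (pa (kP hn4))) := by
      intro e
      have e1 := π.symm.injective (rk_injective e)
      have e2 := congrArg rk e1
      rw [dbnfix_pc_kP hn4, rk_pa, kP_val] at e2
      have := rk_add_rv (pa (kL hn2) : Fin n)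
      rw [rk_pa, kL_val] at this
      omega
    have hneg : rk (π.symm (rv (pc (kP hn4)))) < rk (π.symm (pa (kP hn4))) := by omega
    have hk : (kP hn4).val + 1 < n / 2 := by
      rw [kP_val]
      omega
    obtain ⟨u, hu0, hu1, hu2, hu3⟩ := nodeHypO (F := F) hn (kP hn4) hk
    have huU : u ∈ UO n F := ⟨⟨up_of_isUk _ u hu1, hu3⟩, hu0⟩
    have huU' : tL F hn2 * u * tL F hn2 ∈ UO n F := tL_conj_UO hn2 hn u huU
    have hmm' : IsMono (mt (tL F hn2 * m)) (tauS (kL hn2) * π) := by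
      rw [mt_mul]
      exact isMono_mul (isMono_sRef (kL hn2)) hmm
    have hπ' : RvC (tauS (kL hn2) * π) := RvC_mul (RvC_tauS _) hπ
    have hneg' : rk ((tauS (kL hn2) * π).symm (pc (kP hn4))) <
        rk ((tauS (kL hn2) * π).symm (pa (kP hn4))) := by
      have e1 : ∀ x, (tauS (kL hn2) * π).symm x = π.symm (tauS (kL hn2) x) := by
        intro x
        rw [Equiv.symm_apply_eq, Equiv.Perm.mul_apply, Equiv.apply_symm_apply, tauS_tauS]
      rw [e1, e1, dbnfix_tauS_kL_pc_kP hn4, dbnfix_tauS_kL_pa_kP hn4 hn]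
      exact hneg
    apply conj_uNode_not_mem (kP hn4) u (tL F hn2 * m) hu2 hπ' hmm' hneg'
    have e : (tL F hn2 * m)⁻¹ * u * (tL F hn2 * m) = m⁻¹ * (tL F hn2 * u * tL F hn2) * m := by
      rw [_root_.mul_inv_rev, tL_inv]
      group
    rw [e]
    exact key _ huU'
  have h1 : π.symm = 1 :=
    perm_eq_one_of_simpleD hn4 hn π.symm (RvC_inv hπ) (by
      show Equiv.Perm.sign π⁻¹ = 1
      rw [Equiv.Perm.sign_inv, hsign]) hall hD
  have h2 : π = 1 := by
    have := congrArg Equiv.symm h1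
    rwa [Equiv.symm_symm] at this
  rw [h2] at hmm
  have hmB : m ∈ BO n F :=
    ⟨up_of_isMono_one m hmm, NU_le_OQ hn (NE_le_NU ⟨1, RvC_one, hmm, Equiv.Perm.sign_one⟩)⟩
  exact (BO n F).mul_mem ((BO n F).mul_mem hb1 hmB) hb2

end Cfsg.Agent.Lib.helper14.DBN
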