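/-
DBN row ROOT (helper13): root elements in `OQ` and `s B s ≠ B`; verbatim `nodeHypO`, `conj_ne_SD`.
-/
import Mathlib
import Cfsg.Agent.Lib.helper14.OBNd
import Cfsg.Agent.Lib.helper14.DBN.Defs
import Cfsg.Agent.Lib.Helper25.DBNQBASIC
import Cfsg.Agent.Lib.helper6.DBNTNORM

set_option autoImplicit false

namespace Cfsg.Agent.Lib.helper14.DBN

open Matrix DoubleCoset
open Cfsg.Agent.Lib.helper3 Cfsg.Agent.Lib.helper14
open Cfsg.Agent.Lib.helper14.UBN Cfsg.Agent.Lib.helper14.OBN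

universe u
variable {F : Type u} [Field F] {n : ℕ}

/-- an Eichler transformation with `β = Qh z` preserves `Qh` -/
theorem dbnroot_eich_mem_OQ (hn : n % 2 = 0) (p : Fin n) (z : Fin n → F) (β : F) (hp : rv p ≠ p)
    (hz : z (rv p) = 0) (hβ : β + (Sid F).σ β = hJ (Sid F) z z) (hQ : β = Qh n z) :
    eichG p z β hp hz hβ ∈ OQ n F := by
  intro v
  rw [eichG_mulVec, sub_eq_add_neg, ← neg_smul, Qh_add hn, Qh_add hn, Qh_smul, Qh_smul, Qh_bV]
  simp only [hJ_smul_right, Sid_apply, hJ_bV_right, hz, ← hQ, Pi.add_apply, Pi.smul_apply,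
    smul_eq_mul]
  ring

theorem nodeHypO (hn : n % 2 = 0) (k : Fin (n / 2)) (hk : k.val + 1 < n / 2) :
    ∃ u : GS n F, u ∈ OQ n F ∧ IsUk k (mt u) ∧ mt u (pa k) (pc k) ≠ 0 ∧ ∀ x, mt u x x = 1 := by
  have hac := pa_ne_pc k
  have h : pc k ≠ rv (pa k) := by
    intro e
    have h1 := pc_of_lt k hk
    have h2 := rk_add_rv (pa k)
    rw [← e, rk_pa, h1] at h2
    omega
  have hrc : rv (pc k) ≠ pa k := fun e => h (by rw [← e, rv_rv])
  obtain ⟨z, hz⟩ : ∃ z : Fin n → F, z = (-(1 : F)) • bV (rv (pc k)) := ⟨_, rfl⟩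
  have hzx : ∀ x, x ≠ rv (pc k) → z x = 0 := by
    intro x hx
    rw [hz, Pi.smul_apply, bV_apply, if_neg hx, smul_zero]
  have hzc : z (rv (pc k)) = -1 := by
    rw [hz, Pi.smul_apply, bV_apply, if_pos rfl, smul_eq_mul, mul_one]
  have hzp : z (rv (pa k)) = 0 := hzx _ (fun e => hac (rv_inj e))
  have hβ : (0 : F) + (Sid F).σ 0 = hJ (Sid F) z z := by
    rw [hz, hJ_smul_left, hJ_smul_right, hJ_bV_bV, rv_rv, if_neg (rv_pc_ne k), mul_zero,
      mul_zero, map_zero, add_zero]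
  have hQ : (0 : F) = Qh n z := by
    rw [hz, Qh_smul, Qh_bV, mul_zero]
  refine ⟨eichG (pa k) z 0 (rv_pa_ne k) hzp hβ,
    dbnroot_eich_mem_OQ hn _ _ _ _ _ _ hQ, ?_, ?_, fun x => eichG_diag _ _ _ _ _ _ x⟩
  · -- support
    intro x y hne
    by_cases hxy : x = y
    · exact Or.inl hxy
    right
    rw [eichG_apply, if_neg hxy, zero_add, zero_mul, add_zero] at hne
    by_cases hx : x = pa k
    · -- row `a`: `y = c`
      have hy : y = pc k := by
        by_contra hy
        apply hne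
        have hy1 : rv y ≠ rv (pc k) := fun e => hy (rv_inj e)
        rw [hzx _ hy1, map_zero, mul_zero, sub_zero]
        by_cases e : x = rv (pc k)
        · rw [hx] at e
          exact absurd e.symm hrc
        · rw [hzx _ e, zero_mul]
      rw [hx, hy]
      exact ⟨rk_pa_lt_pc k, Or.inl ⟨rks_pa k, rks_pc k⟩⟩
    · -- column `rv a`, row `rv c`
      rw [if_neg hx, zero_mul, sub_zero] at hne
      have hy : y = rv (pa k) := by
        by_contra hy
        apply hne
        rw [if_neg hy, mul_zero]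
      have hx' : x = rv (pc k) := by
        by_contra e
        apply hne
        rw [hzx _ e, zero_mul]
      rw [hx', hy]
      refine ⟨(rk_rv_lt_iff _ _).2 (rk_pa_lt_pc k), Or.inr ?_⟩
      rw [rv_rv, rv_rv]
      exact ⟨rks_pc k, rks_pa k⟩
  · -- the entry `(a, c)`
    rw [eichG_apply, if_neg hac, if_neg h, if_pos rfl, hzc, Sid_apply]
    simp

/-- the simple reflections of the `A` nodes do not normalise `BO` -/
theorem dbnroot_sRef_conj_not_mem (hn : n % 2 = 0) (k : Fin (n / 2)) (hk : k.val + 1 < n / 2) :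
    ∃ u ∈ BO n F, sRef (S := Sid F) k * u * sRef k ∉ BU n (Sid F) := by
  obtain ⟨u, hu0, hu1, hu2, _⟩ := nodeHypO (F := F) hn k hk
  refine ⟨u, ⟨up_of_isUk k u hu1, hu0⟩, ?_⟩
  intro h1
  have h2 : rk (pa k) < rk (pc k) := rk_pa_lt_pc k
  have h3 := h1 h2
  rw [mt_mul, mt_mul, sRef_conj_apply_ca] at h3
  exact hu2 h3

theorem conj_ne_SD (hn4 : 4 ≤ n) (hn : n % 2 = 0) : ∀ s ∈ SD F hn4,
    (fun b : GS n F => s * b * s) '' (BO n F : Set (GS n F)) ≠ (BO n F : Set (GS n F)) := by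
  have hn2 : 2 ≤ n := le_trans (by norm_num) hn4
  rintro s (⟨k, hk, rfl⟩ | hs) h
  · obtain ⟨u, hu, hnot⟩ := dbnroot_sRef_conj_not_mem (F := F) hn k hk
    have h1 : sRef (S := Sid F) k * u * sRef k ∈ (BO n F : Set (GS n F)) := by
      rw [← h]
      exact ⟨u, hu, rfl⟩
    exact hnot h1.1
  · rw [Set.mem_singleton_iff] at hs
    subst hs
    have hk : (kP hn4).val + 1 < n / 2 := by
      rw [kP_val]
      omega
    obtain ⟨u, hu, hnot⟩ := dbnroot_sRef_conj_not_mem (F := F) hn (kP hn4) hk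
    have hu' : tL F hn2 * u * tL F hn2 ∈ BO n F := tL_conj_BO hn2 hn u hu
    have h1 : sD F hn4 * (tL F hn2 * u * tL F hn2) * sD F hn4 ∈ (BO n F : Set (GS n F)) := by
      rw [← h]
      exact ⟨_, hu', rfl⟩
    have h2 := tL_conj_BO hn2 hn _ h1
    have e : tL F hn2 * (sD F hn4 * (tL F hn2 * u * tL F hn2) * sD F hn4) * tL F hn2 =
        sRef (S := Sid F) (kP hn4) * u * sRef (kP hn4) := by
      have ht := tL_mul_self (F := F) hn2
      show tL F hn2 * ((tL F hn2 * sRef (S := Sid F) (kP hn4) * tL F hn2) *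
        (tL F hn2 * u * tL F hn2) * (tL F hn2 * sRef (S := Sid F) (kP hn4) * tL F hn2)) *
        tL F hn2 = _
      have ht' : ∀ b : GS n F, tL F hn2 * (tL F hn2 * b) = b := by
        intro b
        rw [← mul_assoc, ht, one_mul]
      simp only [mul_assoc, ht', ht, mul_one]
    rw [e] at h2
    exact hnot h2.1

end Cfsg.Agent.Lib.helper14.DBN
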