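import Mathlib
import Cfsg.Prelude.Def_Classical
import Cfsg.Prelude.Def_Characters
import Cfsg.Agent.Lib.helper2.BergerG1

/-!
Small cases of the Steinberg character statements for `PΩ±`: when `Ω(Q)` is commutative,
`PΩ(Q)` is trivial and the trivial character does the job.
-/

set_option autoImplicit false

namespace Cfsg.Agent.Lib.Helper13.SDM

/-- generic: if `Ω(Q)` is commutative then the Steinberg-type conclusion holds trivially -/
theorem sdm_of_comm {ι : Type} [Fintype ι] [DecidableEq ι] {F : Type*} [Field F]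
    (Q : (ι → F) → F) (p : ℕ) [Fact p.Prime]
    (hc : ∀ x y : Cfsg.Omega F Q, x * y = y * x) :
    ∃ χ : Cfsg.POmega F Q → ℂ, Cfsg.IsIrrCharacter (Cfsg.POmega F Q) χ ∧
      ∀ P : Sylow p (Cfsg.POmega F Q), χ 1 = Nat.card P ∧
        ∀ x : Cfsg.POmega F Q, x ∈ P → x ≠ 1 → χ x = 0 := by
  have hcen : Subgroup.center (Cfsg.Omega F Q) = ⊤ := by
    rw [eq_top_iff]
    intro x _
    rw [Subgroup.mem_center_iff]
    intro y
    exact hc y x
  haveI hsub : Subsingleton (Cfsg.POmega F Q) := by
    refine ⟨fun x y => ?_⟩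
    induction x using QuotientGroup.induction_on with
    | H x =>
      induction y using QuotientGroup.induction_on with
      | H y =>
        rw [QuotientGroup.eq, hcen]
        exact Subgroup.mem_top _
  refine ⟨fun _ => 1, Cfsg.Agent.Lib.helper2.bg_trivial_irr _, ?_⟩
  intro P
  refine ⟨?_, ?_⟩
  · haveI : Subsingleton (P : Subgroup (Cfsg.POmega F Q)) := ⟨fun x y => Subtype.ext (Subsingleton.elim _ _)⟩
    rw [Nat.card_unique]
    simp
  · intro x _ hx
    exact absurd (Subsingleton.elim x 1) hx

end Cfsg.Agent.Lib.Helper13.SDM
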