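import Mathlib
import Cfsg.Prelude.Def_Classical
import Cfsg.Agent.Lib.Helper13.SDMsmallA

/-!
`Ω⁺_2`: the commutator subgroup of the isometry group of the hyperbolic plane `x y` is commutative
(it consists of diagonal matrices).
-/

set_option autoImplicit false

namespace Cfsg.Agent.Lib.Helper13.SDM

open Matrix

variable {F : Type*} [Field F]

abbrev I2 : Type := Fin 1 ⊕ Fin 1

/-- diagonal shape -/
def IsDg (M : Matrix I2 I2 F) : Prop := M (Sum.inr 0) (Sum.inl 0) = 0 ∧ M (Sum.inl 0) (Sum.inr 0) = 0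

/-- antidiagonal shape -/
def IsAg (M : Matrix I2 I2 F) : Prop := M (Sum.inl 0) (Sum.inl 0) = 0 ∧ M (Sum.inr 0) (Sum.inr 0) = 0

theorem mul_apply2 (M N : Matrix I2 I2 F) (i j : I2) :
    (M * N) i j = M i (Sum.inl 0) * N (Sum.inl 0) j + M i (Sum.inr 0) * N (Sum.inr 0) j := by
  rw [Matrix.mul_apply, Fintype.sum_sum_type]
  simp

theorem isDg_mul {M N : Matrix I2 I2 F} (hM : IsDg M) (hN : IsDg N) : IsDg (M * N) := by
  obtain ⟨h1, h2⟩ := hM
  obtain ⟨h3, h4⟩ := hN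
  constructor
  · rw [mul_apply2, h1, h3]; ring
  · rw [mul_apply2, h2, h4]; ring

theorem isAg_mul_DA {M N : Matrix I2 I2 F} (hM : IsDg M) (hN : IsAg N) : IsAg (M * N) := by
  obtain ⟨h1, h2⟩ := hM
  obtain ⟨h3, h4⟩ := hN
  constructor
  · rw [mul_apply2, h2, h3]; ring
  · rw [mul_apply2, h1, h4]; ring

theorem isAg_mul_AD {M N : Matrix I2 I2 F} (hM : IsAg M) (hN : IsDg N) : IsAg (M * N) := by
  obtain ⟨h1, h2⟩ := hM
  obtain ⟨h3, h4⟩ := hN
  constructor
  · rw [mul_apply2, h1, h3]; ring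
  · rw [mul_apply2, h2, h4]; ring

theorem isDg_mul_AA {M N : Matrix I2 I2 F} (hM : IsAg M) (hN : IsAg N) : IsDg (M * N) := by
  obtain ⟨h1, h2⟩ := hM
  obtain ⟨h3, h4⟩ := hN
  constructor
  · rw [mul_apply2, h2, h3]; ring
  · rw [mul_apply2, h1, h4]; ring

theorem not_isAg_one : ¬ IsAg (1 : Matrix I2 I2 F) := by
  rintro ⟨h, _⟩
  simp at h

theorem qp1_apply (v : I2 → F) : Cfsg.quadFormPlus 1 F v = v (Sum.inl 0) * v (Sum.inr 0) := by
  unfold Cfsg.quadFormPlus
  simp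

theorem mulVec_apply2 (M : Matrix I2 I2 F) (v : I2 → F) (i : I2) :
    (M *ᵥ v) i = M i (Sum.inl 0) * v (Sum.inl 0) + M i (Sum.inr 0) * v (Sum.inr 0) := by
  rw [Matrix.mulVec, dotProduct, Fintype.sum_sum_type]
  simp

/-- every isometry of the hyperbolic plane is diagonal or antidiagonal -/
theorem iso_shape (g : GL I2 F) (hg : g ∈ Cfsg.isometryGroup F (Cfsg.quadFormPlus 1 F)) :
    IsDg (g : Matrix I2 I2 F) ∨ IsAg (g : Matrix I2 I2 F) := by
  have h : ∀ v : I2 → F, Cfsg.quadFormPlus 1 F ((g : Matrix I2 I2 F) *ᵥ v) =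
      Cfsg.quadFormPlus 1 F v := fun v => hg v v
  set A := (g : Matrix I2 I2 F) (Sum.inl 0) (Sum.inl 0) with hA
  set B := (g : Matrix I2 I2 F) (Sum.inl 0) (Sum.inr 0) with hB
  set C := (g : Matrix I2 I2 F) (Sum.inr 0) (Sum.inl 0) with hC
  set D := (g : Matrix I2 I2 F) (Sum.inr 0) (Sum.inr 0) with hD
  have e1 : A * C = 0 := by
    have := h (fun i => Sum.elim (fun _ => (1 : F)) (fun _ => 0) i)
    rw [qp1_apply, qp1_apply, mulVec_apply2, mulVec_apply2] at this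
    simpa using this
  have e2 : B * D = 0 := by
    have := h (fun i => Sum.elim (fun _ => (0 : F)) (fun _ => 1) i)
    rw [qp1_apply, qp1_apply, mulVec_apply2, mulVec_apply2] at this
    simpa using this
  have e3 : (A + B) * (C + D) = 1 := by
    have := h (fun i => Sum.elim (fun _ => (1 : F)) (fun _ => 1) i)
    rw [qp1_apply, qp1_apply, mulVec_apply2, mulVec_apply2] at this
    simpa using this
  have e4 : A * D + B * C = 1 := by
    have : (A + B) * (C + D) = A * C + B * D + (A * D + B * C) := by ring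
    rw [this, e1, e2, zero_add, zero_add] at e3
    exact e3
  rcases mul_eq_zero.1 e1 with hA0 | hC0
  · right
    have hBC : B * C = 1 := by rw [hA0, zero_mul, zero_add] at e4; exact e4
    have hB0 : B ≠ 0 := by
      intro hb; rw [hb, zero_mul] at hBC; exact zero_ne_one hBC
    rcases mul_eq_zero.1 e2 with hb | hD0
    · exact absurd hb hB0
    · exact ⟨hA0, hD0⟩
  · left
    have hAD : A * D = 1 := by rw [hC0, mul_zero, add_zero] at e4; exact e4
    have hD0 : D ≠ 0 := by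
      intro hd; rw [hd, mul_zero] at hAD; exact zero_ne_one hAD
    rcases mul_eq_zero.1 e2 with hb | hd
    · exact ⟨hC0, hb⟩
    · exact absurd hd hD0

theorem gl_mul_inv_val (g : GL I2 F) : (g : Matrix I2 I2 F) * ((g⁻¹ : GL I2 F) : Matrix I2 I2 F) = 1 := by
  rw [← Units.val_mul, mul_inv_cancel, Units.val_one]

theorem inv_shape_D (g : GL I2 F) (hg : g ∈ Cfsg.isometryGroup F (Cfsg.quadFormPlus 1 F))
    (h : IsDg (g : Matrix I2 I2 F)) : IsDg ((g⁻¹ : GL I2 F) : Matrix I2 I2 F) := by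
  rcases iso_shape g⁻¹ (Subgroup.inv_mem _ hg) with h' | h'
  · exact h'
  · exfalso
    have := isAg_mul_DA h h'
    rw [gl_mul_inv_val] at this
    exact not_isAg_one this

theorem inv_shape_A (g : GL I2 F) (hg : g ∈ Cfsg.isometryGroup F (Cfsg.quadFormPlus 1 F))
    (h : IsAg (g : Matrix I2 I2 F)) : IsAg ((g⁻¹ : GL I2 F) : Matrix I2 I2 F) := by
  rcases iso_shape g⁻¹ (Subgroup.inv_mem _ hg) with h' | h'
  · exfalso
    have := isAg_mul_AD h h'
    rw [gl_mul_inv_val] at this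
    exact not_isAg_one this
  · exact h'

/-- the subgroup of diagonal isometries -/
def diagSub (F : Type*) [Field F] : Subgroup ↥(Cfsg.isometryGroup F (Cfsg.quadFormPlus 1 F)) where
  carrier := {g | IsDg ((g : GL I2 F) : Matrix I2 I2 F)}
  mul_mem' := by
    intro a b ha hb
    show IsDg (((a * b : ↥(Cfsg.isometryGroup F (Cfsg.quadFormPlus 1 F))) : GL I2 F) : Matrix I2 I2 F)
    rw [Subgroup.coe_mul, Units.val_mul]
    exact isDg_mul ha hb
  one_mem' := by
    show IsDg (((1 : ↥(Cfsg.isometryGroup F (Cfsg.quadFormPlus 1 F))) : GL I2 F) : Matrix I2 I2 F)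
    rw [Subgroup.coe_one, Units.val_one]
    constructor <;> simp
  inv_mem' := by
    intro a ha
    show IsDg (((a⁻¹ : ↥(Cfsg.isometryGroup F (Cfsg.quadFormPlus 1 F))) : GL I2 F) : Matrix I2 I2 F)
    rw [Subgroup.coe_inv]
    exact inv_shape_D a.1 a.2 ha

theorem comm_le_diag : commutator ↥(Cfsg.isometryGroup F (Cfsg.quadFormPlus 1 F)) ≤ diagSub F := by
  rw [commutator_def, Subgroup.commutator_le]
  intro g _ h _
  show IsDg (((g * h * g⁻¹ * h⁻¹ : ↥(Cfsg.isometryGroup F (Cfsg.quadFormPlus 1 F))) : GL I2 F) : Matrix I2 I2 F)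
  rw [Subgroup.coe_mul, Subgroup.coe_mul, Subgroup.coe_mul, Subgroup.coe_inv,
    Subgroup.coe_inv, Units.val_mul, Units.val_mul, Units.val_mul]
  rcases iso_shape g.1 g.2 with hg | hg <;> rcases iso_shape h.1 h.2 with hh | hh
  · exact isDg_mul (isDg_mul (isDg_mul hg hh) (inv_shape_D g.1 g.2 hg)) (inv_shape_D h.1 h.2 hh)
  · exact isDg_mul_AA (isAg_mul_AD (isAg_mul_DA hg hh) (inv_shape_D g.1 g.2 hg)) (inv_shape_A h.1 h.2 hh)
  · exact isDg_mul (isDg_mul_AA (isAg_mul_AD hg hh) (inv_shape_A g.1 g.2 hg)) (inv_shape_D h.1 h.2 hh)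
  · exact isDg_mul_AA (isAg_mul_DA (isDg_mul_AA hg hh) (inv_shape_A g.1 g.2 hg)) (inv_shape_A h.1 h.2 hh)

theorem diag_comm {M N : Matrix I2 I2 F} (hM : IsDg M) (hN : IsDg N) : M * N = N * M := by
  obtain ⟨h1, h2⟩ := hM
  obtain ⟨h3, h4⟩ := hN
  ext i j
  rw [mul_apply2, mul_apply2]
  rcases i with i | i <;> rcases j with j | j
  all_goals
    have hi : i = 0 := Subsingleton.elim _ _
    have hj : j = 0 := Subsingleton.elim _ _
    subst hi hj
    first
      | (rw [h1, h3]; ring)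
      | (rw [h2, h4]; ring)

/-- `Ω⁺_2(F)` is commutative -/
theorem omega_plus_one_comm (x y : Cfsg.Omega F (Cfsg.quadFormPlus 1 F)) : x * y = y * x := by
  have hx : IsDg (((x : ↥(Cfsg.isometryGroup F (Cfsg.quadFormPlus 1 F))) : GL I2 F) : Matrix I2 I2 F) :=
    comm_le_diag x.2
  have hy : IsDg (((y : ↥(Cfsg.isometryGroup F (Cfsg.quadFormPlus 1 F))) : GL I2 F) : Matrix I2 I2 F) :=
    comm_le_diag y.2
  apply Subtype.ext
  apply Subtype.ext
  apply Units.ext
  show ((((x * y : Cfsg.Omega F (Cfsg.quadFormPlus 1 F)) :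
    ↥(Cfsg.isometryGroup F (Cfsg.quadFormPlus 1 F))) : GL I2 F) : Matrix I2 I2 F) = _
  rw [Subgroup.coe_mul, Subgroup.coe_mul, Subgroup.coe_mul, Subgroup.coe_mul, Units.val_mul, Units.val_mul]
  exact diag_comm hx hy

/-- S2548 for `m = 1` -/
theorem sdm_plus_one (p : ℕ) [Fact p.Prime] :
    ∃ χ : Cfsg.POmega F (Cfsg.quadFormPlus 1 F) → ℂ,
      Cfsg.IsIrrCharacter (Cfsg.POmega F (Cfsg.quadFormPlus 1 F)) χ ∧
      ∀ P : Sylow p (Cfsg.POmega F (Cfsg.quadFormPlus 1 F)), χ 1 = Nat.card P ∧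
        ∀ x : Cfsg.POmega F (Cfsg.quadFormPlus 1 F), x ∈ P → x ≠ 1 → χ x = 0 :=
  sdm_of_comm _ p omega_plus_one_comm

end Cfsg.Agent.Lib.Helper13.SDM
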