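/-
DBN row SMALL1 (helper13): m = 1, PΩ⁺_2(F) is trivial; verbatim `small1`.
-/
import Mathlib
import Cfsg.Agent.Lib.Helper13.SDMsmallB

set_option autoImplicit false

namespace Cfsg.Agent.Lib.helper14.DBN

universe u
variable {F : Type u} [Field F]

theorem small1 [Fintype F] (p : ℕ) [Fact p.Prime] [CharP F p] :
    ∃ χ : Cfsg.POmega F (Cfsg.quadFormPlus 1 F) → ℂ,
      Cfsg.IsIrrCharacter (Cfsg.POmega F (Cfsg.quadFormPlus 1 F)) χ ∧
      ∀ P : Sylow p (Cfsg.POmega F (Cfsg.quadFormPlus 1 F)), χ 1 = Nat.card P ∧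
        ∀ x : Cfsg.POmega F (Cfsg.quadFormPlus 1 F), x ∈ P → x ≠ 1 → χ x = 0 :=
  Cfsg.Agent.Lib.Helper13.SDM.sdm_plus_one p

end Cfsg.Agent.Lib.helper14.DBN
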