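import Mathlib
import Cfsg.Prelude.Def_Characters

/-!
Abstract group theory for the exceptional case `PΩ⁺_4(2)` of S2548: a group `S` of order `6` with
trivial centre has commutator subgroup of order `3`.
-/

set_option autoImplicit false

namespace Cfsg.Agent.Lib.Helper13.SDM

open scoped commutatorElement

theorem card_commutator_of_six {S : Type*} [Group S] [Finite S] (hS : Nat.card S = 6)
    (hZ : Subgroup.center S = ⊥) : Nat.card (commutator S) = 3 := by
  classical
  haveI : Fact (Nat.Prime 3) := ⟨Nat.prime_three⟩
  obtain T : Sylow 3 S := default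
  have hT : Nat.card (T : Subgroup S) = 3 := by
    rw [Sylow.card_eq_multiplicity, hS]
    have : (6 : ℕ).factorization 3 = 1 := by
      have h6 : (6 : ℕ) = 2 * 3 := by norm_num
      rw [h6, Nat.factorization_mul (by norm_num) (by norm_num)]
      simp [Nat.Prime.factorization_self Nat.prime_three,
        Nat.factorization_eq_zero_of_not_dvd (by norm_num : ¬ 3 ∣ 2)]
    rw [this, pow_one]
  have hidx : (T : Subgroup S).index = 2 := by
    have := (T : Subgroup S).card_mul_index
    rw [hT, hS] at this
    omega
  haveI hn : (T : Subgroup S).Normal := Subgroup.normal_of_index_eq_two hidx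
  have hq : Nat.card (S ⧸ (T : Subgroup S)) = 2 := by
    rw [← Subgroup.index_eq_card, hidx]
  haveI : Fact (Nat.Prime 2) := ⟨Nat.prime_two⟩
  haveI hcyc : IsCyclic (S ⧸ (T : Subgroup S)) := isCyclic_of_prime_card hq
  have hcomm : IsMulCommutative (S ⧸ (T : Subgroup S)) := inferInstance
  have hle : commutator S ≤ (T : Subgroup S) :=
    Subgroup.Normal.quotient_commutative_iff_commutator_le.mp hcomm
  have hdvd : Nat.card (commutator S) ∣ 3 := by
    rw [← hT]
    exact Subgroup.card_dvd_of_le hle
  rcases (Nat.dvd_prime Nat.prime_three).1 hdvd with h | h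
  · exfalso
    have hbot : commutator S = ⊥ := Subgroup.card_eq_one.mp h
    have hc : ∀ a b : S, a * b = b * a := by
      intro a b
      have : ⁅a, b⁆ ∈ commutator S := by
        rw [commutator_eq_closure]
        exact Subgroup.subset_closure (commutator_mem_commutatorSet a b)
      rw [hbot, Subgroup.mem_bot, commutatorElement_eq_one_iff_mul_comm] at this
      exact this
    have htop : Subgroup.center S = ⊤ := by
      rw [eq_top_iff]
      intro x _
      rw [Subgroup.mem_center_iff]
      intro y
      exact hc y x
    rw [hZ] at htop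
    have h1 : Nat.card (⊥ : Subgroup S) = Nat.card (⊤ : Subgroup S) := by rw [htop]
    rw [Subgroup.card_bot, Subgroup.card_top, hS] at h1
    omega
  · exact h

end Cfsg.Agent.Lib.Helper13.SDM
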