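import Mathlib
import Cfsg.Agent.Lib.Helper13.SDM22a

/-!
Abstract group theory for the exceptional case `PΩ⁺_4(2)` of S2548, part 2: the subgroup `K`.
`GO ⊇ rho(S × S)` of index `2`, `τ` swapping the factors, `|S| = 6`, `Z(S) = 1`:
the commutator subgroup of `GO` lies in `K = rho {(a,b) | a ≡ b mod S'}`.
-/

set_option autoImplicit false

namespace Cfsg.Agent.Lib.Helper13.SDM

open scoped commutatorElement

variable {GO S : Type*} [Group GO] [Group S] [Finite GO] [Finite S]

theorem range_card (rho : S × S →* GO) (hinj : Function.Injective rho) :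
    Nat.card rho.range = Nat.card S * Nat.card S := by
  rw [← Nat.card_prod]
  exact (Nat.card_congr (MonoidHom.ofInjective hinj).toEquiv).symm

theorem range_index (rho : S × S →* GO) (hinj : Function.Injective rho)
    (hGO : Nat.card GO = 2 * (Nat.card S * Nat.card S)) : rho.range.index = 2 := by
  have h := rho.range.card_mul_index
  rw [range_card rho hinj, hGO] at h
  have hpos : 0 < Nat.card S * Nat.card S := Nat.mul_pos Nat.card_pos Nat.card_pos
  have : Nat.card S * Nat.card S * rho.range.index = Nat.card S * Nat.card S * 2 := by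
    rw [h]; ring
  exact Nat.eq_of_mul_eq_mul_left hpos this

theorem conj_tau (rho : S × S →* GO) (τ : GO)
    (hτ : ∀ a b : S, τ * rho (a, b) = rho (b, a) * τ) (a b : S) :
    τ * rho (a, b) * τ⁻¹ = rho (b, a) := by
  rw [hτ, mul_assoc, mul_inv_cancel, mul_one]

theorem tau_not_mem (rho : S × S →* GO) (hinj : Function.Injective rho) (τ : GO)
    (hτ : ∀ a b : S, τ * rho (a, b) = rho (b, a) * τ) (hS : Nat.card S = 6) :
    τ ∉ rho.range := by
  rintro ⟨⟨A, B⟩, hAB⟩
  have key : ∀ a : S, a = 1 := by
    intro a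
    have h1 := hτ a 1
    rw [← hAB, ← map_mul, ← map_mul] at h1
    have h2 := hinj h1
    have h3 : A * a = A := by
      have := congrArg Prod.fst h2
      simpa using this
    exact mul_eq_left.1 h3
  have : Nat.card S = 1 := by
    haveI : Subsingleton S := ⟨fun x y => by rw [key x, key y]⟩
    exact Nat.card_unique
  omega

/-- the homomorphism `(a, b) ↦ [a] [b]⁻¹` to the abelianization -/
noncomputable def phi0 (S : Type*) [Group S] : S × S →* Abelianization S :=
  (Abelianization.of.comp (MonoidHom.fst S S)) * (Abelianization.of.comp (MonoidHom.snd S S))⁻¹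

theorem phi0_apply (a b : S) : phi0 S (a, b) = Abelianization.of a * (Abelianization.of b)⁻¹ := rfl

theorem phi0_swap (a b : S) : phi0 S (b, a) = (phi0 S (a, b))⁻¹ := by
  rw [phi0_apply, phi0_apply, mul_inv_rev, inv_inv]

theorem phi0_surjective : Function.Surjective (phi0 S) := by
  intro x
  obtain ⟨a, rfl⟩ := QuotientGroup.mk_surjective x
  refine ⟨(a, 1), ?_⟩
  rw [phi0_apply, map_one, inv_one, mul_one]
  rfl

theorem card_abelianization (hS : Nat.card S = 6) (hZ : Subgroup.center S = ⊥) :
    Nat.card (Abelianization S) = 2 := by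
  have h1 := (commutator S).card_mul_index
  rw [card_commutator_of_six hS hZ, hS] at h1
  have : (commutator S).index = 2 := by omega
  unfold Abelianization
  rw [← Subgroup.index_eq_card, this]

theorem card_ker_phi0 (hS : Nat.card S = 6) (hZ : Subgroup.center S = ⊥) :
    Nat.card (phi0 S).ker = 18 := by
  have h1 := (phi0 S).ker.card_mul_index
  rw [Subgroup.index_ker, MonoidHom.range_eq_top.mpr phi0_surjective, Subgroup.card_top,
    card_abelianization hS hZ, Nat.card_prod, hS] at h1
  omega

/-- the subgroup `K` -/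
noncomputable def Ksub (rho : S × S →* GO) : Subgroup GO := (phi0 S).ker.map rho

theorem Ksub_le_range (rho : S × S →* GO) : Ksub rho ≤ rho.range := by
  rintro _ ⟨p, _, rfl⟩
  exact ⟨p, rfl⟩

theorem mem_Ksub (rho : S × S →* GO) (hinj : Function.Injective rho) (a b : S) :
    rho (a, b) ∈ Ksub rho ↔ phi0 S (a, b) = 1 := by
  constructor
  · rintro ⟨p, hp, hpe⟩
    rw [← hinj hpe]
    exact MonoidHom.mem_ker.mp hp
  · intro h
    exact ⟨(a, b), MonoidHom.mem_ker.mpr h, rfl⟩

theorem card_Ksub (rho : S × S →* GO) (hinj : Function.Injective rho) (hS : Nat.card S = 6)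
    (hZ : Subgroup.center S = ⊥) : Nat.card (Ksub rho) = 18 := by
  unfold Ksub
  rw [Subgroup.card_map_of_injective hinj, card_ker_phi0 hS hZ]

theorem Ksub_normal (rho : S × S →* GO) (hinj : Function.Injective rho) (τ : GO)
    (hτ : ∀ a b : S, τ * rho (a, b) = rho (b, a) * τ)
    (hGO : Nat.card GO = 2 * (Nat.card S * Nat.card S)) (hS : Nat.card S = 6) :
    (Ksub rho).Normal := by
  constructor
  rintro _ ⟨⟨a, b⟩, hp, rfl⟩ g
  have hidx := range_index rho hinj hGO
  have hτn := tau_not_mem rho hinj τ hτ hS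
  have hab : phi0 S (a, b) = 1 := MonoidHom.mem_ker.mp hp
  by_cases hg : g ∈ rho.range
  · obtain ⟨⟨c, d⟩, rfl⟩ := hg
    rw [← map_inv, ← map_mul, ← map_mul]
    refine ⟨_, ?_, rfl⟩
    rw [SetLike.mem_coe, MonoidHom.mem_ker, map_mul, map_mul, map_inv, hab, mul_one, mul_inv_cancel]
  · have h1 : g * τ⁻¹ ∈ rho.range := by
      rw [Subgroup.mul_mem_iff_of_index_two hidx]
      constructor
      · intro h; exact absurd h hg
      · intro h; exact absurd ((Subgroup.inv_mem_iff _).mp h) hτn
    obtain ⟨⟨c, d⟩, hcd⟩ := h1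
    have hg' : g = rho (c, d) * τ := by rw [hcd]; group
    rw [hg']
    have e : rho (c, d) * τ * rho (a, b) * (rho (c, d) * τ)⁻¹ =
        rho (c, d) * (τ * rho (a, b) * τ⁻¹) * (rho (c, d))⁻¹ := by group
    rw [e, conj_tau rho τ hτ, ← map_inv, ← map_mul, ← map_mul]
    refine ⟨_, ?_, rfl⟩
    rw [SetLike.mem_coe, MonoidHom.mem_ker, map_mul, map_mul, map_inv, phi0_swap a b, hab, inv_one, mul_one,
      mul_inv_cancel]

theorem commutator_le_Ksub (rho : S × S →* GO) (hinj : Function.Injective rho) (τ : GO)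
    (hτ : ∀ a b : S, τ * rho (a, b) = rho (b, a) * τ)
    (hGO : Nat.card GO = 2 * (Nat.card S * Nat.card S)) (hS : Nat.card S = 6)
    (hZ : Subgroup.center S = ⊥) : commutator GO ≤ Ksub rho := by
  haveI := Ksub_normal rho hinj τ hτ hGO hS
  haveI : Fact (Nat.Prime 2) := ⟨Nat.prime_two⟩
  apply Subgroup.Normal.quotient_commutative_iff_commutator_le.mp
  apply IsPGroup.isMulCommutative_of_card_eq_prime_sq (p := 2)
  rw [← Subgroup.index_eq_card]
  have h1 := (Ksub rho).card_mul_index
  rw [card_Ksub rho hinj hS hZ, hGO, hS] at h1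
  omega

end Cfsg.Agent.Lib.Helper13.SDM
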