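import Mathlib
import Cfsg.Agent.Lib.Helper13.SDM22b
import Cfsg.Agent.Lib.helper2.BergerG1
import Cfsg.Agent.Lib.Helper25.CharRestrict

/-!
Abstract group theory for the exceptional case `PΩ⁺_4(2)` of S2548, part 3: the character.
-/

set_option autoImplicit false

namespace Cfsg.Agent.Lib.Helper13.SDM

open scoped commutatorElement

variable {GO S : Type*} [Group GO] [Group S] [Finite GO] [Finite S]

theorem g22_abstract (rho : S × S →* GO) (hinj : Function.Injective rho) (τ : GO)
    (hτ : ∀ a b : S, τ * rho (a, b) = rho (b, a) * τ)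
    (hGO : Nat.card GO = 2 * (Nat.card S * Nat.card S)) (hS : Nat.card S = 6)
    (hZ : Subgroup.center S = ⊥)
    (χS : S → ℂ) (hχ : Cfsg.IsIrrCharacter S χS) (hχ1 : χS 1 = 2)
    (hχ0 : ∀ y : S, y ≠ 1 → (∃ k : ℕ, y ^ (2 ^ k) = 1) → χS y = 0) :
    ∃ χ : (↥(commutator GO) ⧸ Subgroup.center ↥(commutator GO)) → ℂ,
      Cfsg.IsIrrCharacter (↥(commutator GO) ⧸ Subgroup.center ↥(commutator GO)) χ ∧
      ∀ P : Sylow 2 (↥(commutator GO) ⧸ Subgroup.center ↥(commutator GO)),
        χ 1 = Nat.card P ∧
          ∀ x : ↥(commutator GO) ⧸ Subgroup.center ↥(commutator GO), x ∈ P → x ≠ 1 → χ x = 0 := by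
  classical
  have hΩK : commutator GO ≤ Ksub rho := commutator_le_Ksub rho hinj τ hτ hGO hS hZ
  have hΩR : commutator GO ≤ rho.range := hΩK.trans (Ksub_le_range rho)
  let e : S × S ≃* rho.range := MonoidHom.ofInjective hinj
  let pr : ↥(commutator GO) →* S × S := e.symm.toMonoidHom.comp (Subgroup.inclusion hΩR)
  have hpr : ∀ ω : ↥(commutator GO), rho (pr ω) = (ω : GO) := by
    intro ω
    have h1 : e (pr ω) = Subgroup.inclusion hΩR ω := e.apply_symm_apply _
    have h2 := congrArg Subtype.val h1
    exact h2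
  let f : ↥(commutator GO) →* S := (MonoidHom.fst S S).comp pr
  have hf : ∀ ω, f ω = (pr ω).1 := fun _ => rfl
  -- the elements ω_a
  have hωa : ∀ a : S, ∃ ω : ↥(commutator GO), (ω : GO) = rho (a, a⁻¹) := by
    intro a
    have hmem : ⁅rho (a, 1), τ⁆ ∈ commutator GO := by
      rw [commutator_def]
      exact Subgroup.commutator_mem_commutator (Subgroup.mem_top _) (Subgroup.mem_top _)
    refine ⟨⟨_, hmem⟩, ?_⟩
    show ⁅rho (a, 1), τ⁆ = rho (a, a⁻¹)
    rw [commutatorElement_def]
    have h1 : rho (a, 1) * τ * (rho (a, 1))⁻¹ * τ⁻¹ =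
        rho (a, 1) * (τ * rho (a⁻¹, 1) * τ⁻¹) := by
      rw [← map_inv]
      have : ((a, 1) : S × S)⁻¹ = (a⁻¹, 1) := by
        ext <;> simp
      rw [this]
      group
    rw [h1, conj_tau rho τ hτ, ← map_mul]
    congr 1
    ext <;> simp
  have hfsurj : Function.Surjective f := by
    intro a
    obtain ⟨ω, hω⟩ := hωa a
    refine ⟨ω, ?_⟩
    have h1 : rho (pr ω) = rho (a, a⁻¹) := by rw [hpr, hω]
    have h2 := hinj h1
    rw [hf, h2]
  have hker : Subgroup.center ↥(commutator GO) ≤ f.ker := by
    intro z hz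
    rw [MonoidHom.mem_ker]
    have hc : f z ∈ Subgroup.center S := by
      rw [Subgroup.mem_center_iff]
      intro s
      obtain ⟨ω, rfl⟩ := hfsurj s
      rw [← map_mul, ← map_mul, Subgroup.mem_center_iff.mp hz ω]
    rw [hZ, Subgroup.mem_bot] at hc
    exact hc
  let fb : (↥(commutator GO) ⧸ Subgroup.center ↥(commutator GO)) →* S :=
    QuotientGroup.lift (Subgroup.center ↥(commutator GO)) f hker
  have hfb : ∀ ω : ↥(commutator GO), fb (QuotientGroup.mk ω) = f ω := fun _ => rfl
  have hfbsurj : Function.Surjective fb := by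
    intro a
    obtain ⟨ω, hω⟩ := hfsurj a
    exact ⟨QuotientGroup.mk ω, hω⟩
  haveI : Fintype (↥(commutator GO) ⧸ Subgroup.center ↥(commutator GO)) := Fintype.ofFinite _
  haveI : Fintype S := Fintype.ofFinite _
  have hirr : Cfsg.IsIrrCharacter (↥(commutator GO) ⧸ Subgroup.center ↥(commutator GO))
      (fun x => χS (fb x)) :=
    Cfsg.Agent.Lib.helper2.bg_irr_comp_surjective fb hfbsurj hχ
  refine ⟨fun x => χS (fb x), hirr, ?_⟩
  intro P
  -- vanishing
  have hvan : ∀ x : ↥(commutator GO) ⧸ Subgroup.center ↥(commutator GO), x ∈ P → x ≠ 1 →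
      χS (fb x) = 0 := by
    intro x hxP hx1
    obtain ⟨k, hk⟩ := P.isPGroup' ⟨x, hxP⟩
    have hk' : x ^ (2 ^ k) = 1 := by
      have := congrArg Subtype.val hk
      simpa using this
    apply hχ0
    · intro hy
      apply hx1
      induction x using QuotientGroup.induction_on with
      | H ω =>
        rw [hfb, hf] at hy
        -- ω = rho (1, b) with b in the commutator subgroup
        have hω : (ω : GO) = rho (1, (pr ω).2) := by
          rw [← hpr ω]
          congr 1
          ext
          · exact hy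
          · rfl
        have hK : rho (1, (pr ω).2) ∈ Ksub rho := by
          rw [← hω]; exact hΩK ω.2
        rw [mem_Ksub rho hinj, phi0_apply, map_one, one_mul, inv_eq_one] at hK
        have hb : (pr ω).2 ∈ commutator S := by
          have : (QuotientGroup.mk (pr ω).2 : S ⧸ commutator S) = 1 := hK
          rwa [QuotientGroup.eq_one_iff] at this
        have hb3 : (pr ω).2 ^ 3 = 1 := by
          have h3 := card_commutator_of_six hS hZ
          have := pow_card_eq_one' (G := ↥(commutator S)) (x := ⟨(pr ω).2, hb⟩)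
          rw [h3] at this
          have := congrArg Subtype.val this
          simpa using this
        have hω3 : ω ^ 3 = 1 := by
          apply Subtype.ext
          rw [Subgroup.coe_pow, hω, ← map_pow]
          have : ((1, (pr ω).2) : S × S) ^ 3 = 1 := by
            ext
            · simp
            · simpa using hb3
          rw [this, map_one]
          rfl
        have hzk : ω ^ (2 ^ k) ∈ Subgroup.center ↥(commutator GO) := by
          have : (QuotientGroup.mk (ω ^ (2 ^ k)) :
              ↥(commutator GO) ⧸ Subgroup.center ↥(commutator GO)) = 1 := by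
            rw [QuotientGroup.mk_pow]; exact hk'
          rwa [QuotientGroup.eq_one_iff] at this
        have hcop : IsCoprime ((2 : ℤ) ^ k) 3 := by
          apply IsCoprime.pow_left
          exact ⟨-1, 1, by norm_num⟩
        obtain ⟨u, v, huv⟩ := hcop
        have hωeq : ω = (ω ^ (2 ^ k)) ^ u := by
          have h1 : ω = ω ^ (u * 2 ^ k + v * 3) := by rw [huv, zpow_one]
          rw [zpow_add, zpow_mul, zpow_mul] at h1
          have h2 : ω ^ (3 : ℤ) = 1 := by exact_mod_cast hω3
          have h3 : (ω ^ v) ^ (3 : ℤ) = 1 := by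
            rw [← zpow_mul, mul_comm, zpow_mul, h2, one_zpow]
          rw [h3, mul_one] at h1
          have h4 : (ω ^ u) ^ ((2 : ℤ) ^ k) = (ω ^ (2 ^ k)) ^ u := by
            rw [← zpow_mul, mul_comm, zpow_mul]
            congr 1
            exact_mod_cast (zpow_natCast ω (2 ^ k))
          rw [h4] at h1
          exact h1
        have : ω ∈ Subgroup.center ↥(commutator GO) := by
          rw [hωeq]; exact Subgroup.zpow_mem _ hzk u
        exact (QuotientGroup.eq_one_iff ω).mpr this
    · exact ⟨k, by rw [← map_pow, hk', map_one]⟩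
  refine ⟨?_, hvan⟩
  -- the degree
  show χS (fb 1) = _
  rw [map_one, hχ1]
  haveI : Fintype (P : Subgroup (↥(commutator GO) ⧸ Subgroup.center ↥(commutator GO))) :=
    Fintype.ofFinite _
  obtain ⟨k, hk⟩ := Cfsg.Agent.Lib.Helper25.sum_subgroup_irr
    (P : Subgroup (↥(commutator GO) ⧸ Subgroup.center ↥(commutator GO)))
    (⟨fun x => χS (fb x), hirr⟩ : Cfsg.IrrCharacter _)
  have hsum : ∑ x : (P : Subgroup (↥(commutator GO) ⧸ Subgroup.center ↥(commutator GO))),
      χS (fb (x : ↥(commutator GO) ⧸ Subgroup.center ↥(commutator GO))) = 2 := by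
    rw [Finset.sum_eq_single (1 : (P : Subgroup (↥(commutator GO) ⧸ Subgroup.center ↥(commutator GO))))]
    · show χS (fb 1) = 2
      rw [map_one, hχ1]
    · intro x _ hx
      apply hvan _ x.2
      intro h
      exact hx (Subtype.ext h)
    · intro h
      exact absurd (Finset.mem_univ _) h
  have hdvd1 : Nat.card (P : Subgroup (↥(commutator GO) ⧸ Subgroup.center ↥(commutator GO))) ∣ 2 := by
    have h3 : ((2 : ℕ) : ℂ) =
        ((Nat.card (P : Subgroup (↥(commutator GO) ⧸ Subgroup.center ↥(commutator GO))) * k : ℕ) : ℂ) := by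
      push_cast
      rw [← hk]
      exact hsum.symm
    have h4 : 2 = Nat.card (P : Subgroup (↥(commutator GO) ⧸ Subgroup.center ↥(commutator GO))) * k := by
      exact_mod_cast h3
    exact ⟨k, h4⟩
  have hdvd2 : 2 ∣ Nat.card (P : Subgroup (↥(commutator GO) ⧸ Subgroup.center ↥(commutator GO))) := by
    haveI : Fact (Nat.Prime 2) := ⟨Nat.prime_two⟩
    have h6 : Nat.card S ∣ Nat.card (↥(commutator GO) ⧸ Subgroup.center ↥(commutator GO)) :=
      Subgroup.card_dvd_of_surjective fb hfbsurj
    have h2 : 2 ∣ Nat.card (↥(commutator GO) ⧸ Subgroup.center ↥(commutator GO)) := by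
      rw [hS] at h6
      exact dvd_trans (by norm_num) h6
    rw [Sylow.card_eq_multiplicity]
    apply dvd_pow_self
    intro h0
    have := (Nat.factorization_eq_zero_iff _ 2).mp h0
    rcases this with h | h | h
    · exact h Nat.prime_two
    · exact h h2
    · exact Nat.card_pos.ne' h
  have := Nat.dvd_antisymm hdvd1 hdvd2
  rw [this]
  norm_num

end Cfsg.Agent.Lib.Helper13.SDM
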