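import Mathlib
import Cfsg.Agent.Lib.Helper13.SDM22c
import Cfsg.Agent.S0299
import Cfsg.Agent.S0287
import Cfsg.Agent.S2544

/-!
The exceptional case `PΩ⁺_4(2)` of S2548: concrete part.
-/

set_option autoImplicit false

namespace Cfsg.Agent.Lib.Helper13.SDM

open Cfsg.Agent.Lib.Lead Matrix

variable {F : Type*} [Field F]

/-- the transposition `X ↦ Xᵀ` on `2 × 2` matrices `X = [[w0, -w1],[w3, w2]]` -/
def tau4 (F : Type*) [Field F] : Matrix (Fin 4) (Fin 4) F :=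
  !![1, 0, 0, 0; 0, 0, 0, -1; 0, 0, 1, 0; 0, -1, 0, 0]

theorem tau4_sq : tau4 F * tau4 F = 1 := by
  ext i j
  fin_cases i <;> fin_cases j <;> simp [tau4, Matrix.mul_apply, Fin.sum_univ_four]

theorem tau4_R4 (A B : Matrix (Fin 2) (Fin 2) F) :
    tau4 F * PO4.R4 A Bᵀ = PO4.R4 B Aᵀ * tau4 F := by
  ext i j
  fin_cases i <;> fin_cases j <;>
    simp [tau4, PO4.R4, Matrix.mul_apply, Fin.sum_univ_four] <;> ring

theorem Q4_tau4 (w : Fin 4 → F) : PO4.Q4 (tau4 F *ᵥ w) = PO4.Q4 w := by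
  simp only [PO4.Q4, tau4, Matrix.mulVec, dotProduct, Fin.sum_univ_four]
  simp
  ring

/-- `τ` in `GL₄` -/
def tau4GL (F : Type*) [Field F] : GL (Fin 4) F := ⟨tau4 F, tau4 F, tau4_sq, tau4_sq⟩

/-- `τ` in `GL (Fin 2 ⊕ Fin 2)` -/
noncomputable def tauGL (F : Type*) [Field F] : GL (Fin 2 ⊕ Fin 2) F :=
  RI.glReindex (F := F) PO4.e4 (tau4GL F)

theorem tauGL_coe : ((tauGL F : GL (Fin 2 ⊕ Fin 2) F) : Matrix (Fin 2 ⊕ Fin 2) (Fin 2 ⊕ Fin 2) F) =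
    Matrix.reindex PO4.e4 PO4.e4 (tau4 F) := rfl

theorem tauGL_mem : tauGL F ∈ Cfsg.isometryGroup F (Cfsg.quadFormPlus 2 F) := by
  rw [RI.mem_iso_iff']
  intro x
  rw [tauGL_coe, RI.reindex_mulVec, PO4.quadFormPlus_comp, Q4_tau4, ← PO4.quadFormPlus_comp]
  congr 1
  funext i; simp

/-- `τ` in the isometry group -/
noncomputable def tauO (F : Type*) [Field F] : ↥(Cfsg.isometryGroup F (Cfsg.quadFormPlus 2 F)) :=
  ⟨tauGL F, tauGL_mem⟩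

theorem tauO_rho (a b : Matrix.SpecialLinearGroup (Fin 2) F) :
    tauO F * PO4.rho (a, b) = PO4.rho (b, a) * tauO F := by
  apply Subtype.ext
  apply Units.ext
  rw [Subgroup.coe_mul, Subgroup.coe_mul, Units.val_mul, Units.val_mul]
  show ((tauGL F : GL (Fin 2 ⊕ Fin 2) F) : Matrix (Fin 2 ⊕ Fin 2) (Fin 2 ⊕ Fin 2) F) *
      ((PO4.rhoGL (a, b) : GL (Fin 2 ⊕ Fin 2) F) : Matrix (Fin 2 ⊕ Fin 2) (Fin 2 ⊕ Fin 2) F) =
    ((PO4.rhoGL (b, a) : GL (Fin 2 ⊕ Fin 2) F) : Matrix (Fin 2 ⊕ Fin 2) (Fin 2 ⊕ Fin 2) F) *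
      ((tauGL F : GL (Fin 2 ⊕ Fin 2) F) : Matrix (Fin 2 ⊕ Fin 2) (Fin 2 ⊕ Fin 2) F)
  rw [tauGL_coe, PO4.rhoGL_coe, PO4.rhoGL_coe]
  simp only [Matrix.reindex_apply, Matrix.submatrix_mul_equiv]
  rw [tau4_R4]

end Cfsg.Agent.Lib.Helper13.SDM
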