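import Mathlib
import Cfsg.Agent.Lib.Helper13.SDM22d
import Cfsg.Agent.Lib.helper14.SL2Card

/-!
The exceptional case `PΩ⁺_4(2)` of S2548: the final statement.
-/

set_option autoImplicit false

namespace Cfsg.Agent.Lib.Helper13.SDM

open Cfsg.Agent.Lib.Lead Matrix

variable {F : Type*} [Field F] [Fintype F]

theorem eq_one_of_ne_zero_of_card_two (hF : Fintype.card F = 2) (r : F) (hr : r ≠ 0) : r = 1 := by
  have := FiniteField.pow_card_sub_one_eq_one r hr
  rw [hF] at this
  simpa using this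

theorem two_eq_zero_of_card_two (hF : Fintype.card F = 2) : (2 : F) = 0 := by
  have := Nat.cast_card_eq_zero F
  rw [hF] at this
  exact_mod_cast this

theorem sl2_center_bot (hF : Fintype.card F = 2) :
    Subgroup.center (Matrix.SpecialLinearGroup (Fin 2) F) = ⊥ := by
  rw [eq_bot_iff]
  intro A hA
  rw [Subgroup.mem_bot]
  obtain ⟨r, hr1, hr2⟩ := Matrix.SpecialLinearGroup.mem_center_iff.mp hA
  have hr0 : r ≠ 0 := by
    intro h
    rw [h] at hr1
    simp at hr1
  have hr : r = 1 := eq_one_of_ne_zero_of_card_two hF r hr0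
  apply Subtype.ext
  rw [← hr2, hr]
  simp

theorem sl2_card_six (hF : Fintype.card F = 2) :
    Nat.card (Matrix.SpecialLinearGroup (Fin 2) F) = 6 := by
  rw [Cfsg.Agent.Lib.helper14.card_sl2, hF]
  norm_num

theorem go4_card (hF : Fintype.card F = 2) :
    Nat.card ↥(Cfsg.isometryGroup F (Cfsg.quadFormPlus 2 F)) = 72 := by
  have := Cfsg.Agent.S0287.result (F := F) hF 2 (by norm_num)
  rw [this]
  norm_num [Finset.prod_range_one]

theorem rho_injective (hF : Fintype.card F = 2) : Function.Injective (PO4.rho (F := F)) := by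
  rw [← MonoidHom.ker_eq_bot_iff]
  exact Subgroup.card_eq_one.mp (Cfsg.Agent.S0299.card_ker_char2 (two_eq_zero_of_card_two hF))

/-- S2548 for `m = 2` and `|F| = 2` -/
theorem sdm_plus_two_two (hF : Fintype.card F = 2) (p : ℕ) [Fact p.Prime] [CharP F p] :
    ∃ χ : Cfsg.POmega F (Cfsg.quadFormPlus 2 F) → ℂ,
      Cfsg.IsIrrCharacter (Cfsg.POmega F (Cfsg.quadFormPlus 2 F)) χ ∧
      ∀ P : Sylow p (Cfsg.POmega F (Cfsg.quadFormPlus 2 F)), χ 1 = Nat.card P ∧
        ∀ x : Cfsg.POmega F (Cfsg.quadFormPlus 2 F), x ∈ P → x ≠ 1 → χ x = 0 := by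
  classical
  have h2 : (2 : F) = 0 := two_eq_zero_of_card_two hF
  have hp2 : p = 2 := by
    have hp : p.Prime := Fact.out
    have : ((2 : ℕ) : F) = 0 := by exact_mod_cast h2
    have hd := (CharP.cast_eq_zero_iff F p 2).mp this
    exact (Nat.prime_dvd_prime_iff_eq hp Nat.prime_two).mp hd
  subst hp2
  have hZ := sl2_center_bot hF
  have hS := sl2_card_six hF
  -- the Steinberg character of `SL₂(F)`
  obtain ⟨χ0, hχ0irr, hχ0P⟩ := Cfsg.Agent.S2544.result (F := F) 2 2 (le_refl 2)
  let mk : Matrix.SpecialLinearGroup (Fin 2) F →* Matrix.ProjectiveSpecialLinearGroup (Fin 2) F :=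
    QuotientGroup.mk' _
  have hmk : Function.Surjective mk := QuotientGroup.mk'_surjective _
  letI : Fintype (Matrix.ProjectiveSpecialLinearGroup (Fin 2) F) := Fintype.ofFinite _
  have hχS : Cfsg.IsIrrCharacter (Matrix.SpecialLinearGroup (Fin 2) F) (fun y => χ0 (mk y)) :=
    Cfsg.Agent.Lib.helper2.bg_irr_comp_surjective mk hmk hχ0irr
  have hcardP : Nat.card (Matrix.ProjectiveSpecialLinearGroup (Fin 2) F) = 6 := by
    have h1 := Subgroup.card_eq_card_quotient_mul_card_subgroup
      (Subgroup.center (Matrix.SpecialLinearGroup (Fin 2) F))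
    have h3 : Nat.card ↥(Subgroup.center (Matrix.SpecialLinearGroup (Fin 2) F)) = 1 := by
      rw [hZ]
      exact Subgroup.card_bot
    rw [h3, mul_one, hS] at h1
    exact h1.symm
  have hχ1 : (fun y => χ0 (mk y)) 1 = 2 := by
    show χ0 (mk 1) = 2
    rw [map_one]
    obtain P0 : Sylow 2 (Matrix.ProjectiveSpecialLinearGroup (Fin 2) F) := default
    rw [(hχ0P P0).1, Sylow.card_eq_multiplicity, hcardP]
    have : (6 : ℕ).factorization 2 = 1 := by
      have h6 : (6 : ℕ) = 2 * 3 := by norm_num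
      rw [h6, Nat.factorization_mul (by norm_num) (by norm_num)]
      simp [Nat.Prime.factorization_self Nat.prime_two,
        Nat.factorization_eq_zero_of_not_dvd (by norm_num : ¬ 2 ∣ 3)]
    rw [this]
    norm_num
  have hχv : ∀ y : Matrix.SpecialLinearGroup (Fin 2) F, y ≠ 1 → (∃ k : ℕ, y ^ (2 ^ k) = 1) →
      (fun y => χ0 (mk y)) y = 0 := by
    intro y hy ⟨k, hk⟩
    show χ0 (mk y) = 0
    have hne : mk y ≠ 1 := by
      intro h
      apply hy
      have : y ∈ Subgroup.center (Matrix.SpecialLinearGroup (Fin 2) F) :=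
        (QuotientGroup.eq_one_iff y).mp h
      rw [hZ, Subgroup.mem_bot] at this
      exact this
    have hpg : IsPGroup 2 ↥(Subgroup.zpowers (mk y)) := by
      rintro ⟨h, hh⟩
      obtain ⟨j, rfl⟩ := Subgroup.mem_zpowers_iff.mp hh
      refine ⟨k, ?_⟩
      apply Subtype.ext
      show ((mk y) ^ j) ^ (2 ^ k) = 1
      rw [← zpow_natCast, ← _root_.zpow_mul, mul_comm, _root_.zpow_mul, zpow_natCast, ← map_pow, hk, map_one,
        _root_.one_zpow]
    obtain ⟨Q, hQ⟩ := hpg.exists_le_sylow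
    exact (hχ0P Q).2 (mk y) (hQ (Subgroup.mem_zpowers _)) hne
  have hGO : Nat.card ↥(Cfsg.isometryGroup F (Cfsg.quadFormPlus 2 F)) =
      2 * (Nat.card (Matrix.SpecialLinearGroup (Fin 2) F) *
        Nat.card (Matrix.SpecialLinearGroup (Fin 2) F)) := by
    rw [go4_card hF, hS]
  exact g22_abstract (PO4.rho (F := F)) (rho_injective hF) (tauO F) tauO_rho hGO hS hZ
    (fun y => χ0 (mk y)) hχS hχ1 hχv

end Cfsg.Agent.Lib.Helper13.SDM
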