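/-
DBN row SMALL22 (helper13): m = 2, |F| = 2; verbatim `small22`.
-/
import Mathlib
import Cfsg.Agent.Lib.Helper13.SDM22e

set_option autoImplicit false

namespace Cfsg.Agent.Lib.helper14.DBN

universe u
variable {F : Type u} [Field F]

theorem small22 [Fintype F] (p : ℕ) [Fact p.Prime] [CharP F p] (hF : Fintype.card F = 2) :
    ∃ χ : Cfsg.POmega F (Cfsg.quadFormPlus 2 F) → ℂ,
      Cfsg.IsIrrCharacter (Cfsg.POmega F (Cfsg.quadFormPlus 2 F)) χ ∧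
      ∀ P : Sylow p (Cfsg.POmega F (Cfsg.quadFormPlus 2 F)), χ 1 = Nat.card P ∧
        ∀ x : Cfsg.POmega F (Cfsg.quadFormPlus 2 F), x ∈ P → x ≠ 1 → χ x = 0 :=
  Cfsg.Agent.Lib.Helper13.SDM.sdm_plus_two_two hF p

end Cfsg.Agent.Lib.helper14.DBN
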