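import Mathlib
import Cfsg.Prelude.Def_DegreeGraph
import Cfsg.Prelude.Def_Classical
import Cfsg.Agent.Lib.helper2.CharNat

set_option autoImplicit false

namespace Cfsg.Agent.Lib.Helper21.DGU

/-- powers of an `m`-th root of unity indexed by `ZMod m` are additive -/
theorem h13_zeta_pow_add (m : ℕ) [NeZero m] (ζ : ℂ) (hζ : ζ ^ m = 1) (a b : ZMod m) :
    ζ ^ (a + b).val = ζ ^ a.val * ζ ^ b.val := by
  rw [← pow_add, ZMod.val_add a b]
  conv_rhs => rw [← Nat.mod_add_div (a.val + b.val) m]
  rw [pow_add, pow_mul, hζ, one_pow, mul_one]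

/-- DGU-A: twisted permutation character. -/
theorem twisted_perm_isCharacter {G : Type*} [Group G] {X : Type*} [Fintype X] [DecidableEq X]
    [MulAction G X] (m : ℕ) [NeZero m] (ζ : ℂ) (hζ : ζ ^ m = 1)
    (Y : Finset X) (r : X → X) (e : X → ZMod m) (t : X → X)
    (hYG : ∀ (g : G), ∀ x ∈ Y, g • x ∈ Y)
    (hcomm : ∀ (g : G) (x : X), g • t x = t (g • x))
    (htY : ∀ x ∈ Y, t x ∈ Y)
    (hrY : ∀ x ∈ Y, r x ∈ Y)
    (hrt : ∀ x ∈ Y, r (t x) = r x)
    (het : ∀ x ∈ Y, e (t x) = e x + 1)
    (hrec : ∀ x ∈ Y, t^[(e x).val] (r x) = x)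
    (hrr : ∀ x ∈ Y, e (r x) = 0) :
    Cfsg.IsCharacter G (fun g => ∑ x ∈ Y.filter (fun x => r x = x),
      if r (g • x) = x then ζ ^ (e (g • x)).val else 0) := by
  classical
  set Ω := Y.filter (fun x => r x = x) with hΩ
  have hrrx : ∀ x ∈ Y, r (r x) = r x := by
    intro x hx
    have h1 := hrec (r x) (hrY x hx)
    rw [hrr x hx] at h1
    simpa using h1
  have hrΩ : ∀ x ∈ Y, r x ∈ Ω := fun x hx => Finset.mem_filter.2 ⟨hrY x hx, hrrx x hx⟩
  have hiterY : ∀ (k : ℕ) x, x ∈ Y → t^[k] x ∈ Y := by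
    intro k
    induction k with
    | zero => intro x hx; exact hx
    | succ k ih => intro x hx; rw [Function.iterate_succ_apply']; exact htY _ (ih x hx)
  have hiter_comm : ∀ (g : G) (k : ℕ) x, g • t^[k] x = t^[k] (g • x) := by
    intro g k
    induction k with
    | zero => intro x; rfl
    | succ k ih =>
      intro x
      rw [Function.iterate_succ_apply', hcomm, ih, ← Function.iterate_succ_apply' t]
  have hiter_r : ∀ (k : ℕ) x, x ∈ Y → r (t^[k] x) = r x := by
    intro k
    induction k with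
    | zero => intro x hx; rfl
    | succ k ih =>
      intro x hx
      rw [Function.iterate_succ_apply', hrt _ (hiterY k x hx), ih x hx]
  have hiter_e : ∀ (k : ℕ) x, x ∈ Y → e (t^[k] x) = e x + k := by
    intro k
    induction k with
    | zero => intro x hx; simp
    | succ k ih =>
      intro x hx
      rw [Function.iterate_succ_apply', het _ (hiterY k x hx), ih x hx]
      push_cast
      ring
  have key : ∀ (g : G) y, y ∈ Y → r (g • y) = r (g • r y) ∧ e (g • y) = e (g • r y) + e y := by
    intro g y hy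
    have h1 : g • y = t^[(e y).val] (g • r y) := by
      conv_lhs => rw [← hrec y hy]
      exact hiter_comm g _ _
    have hgr : g • r y ∈ Y := hYG g _ (hrY y hy)
    constructor
    · rw [h1, hiter_r _ _ hgr]
    · rw [h1, hiter_e _ _ hgr, ZMod.natCast_zmod_val]
  let M : G → Matrix Ω Ω ℂ := fun g y x =>
    if r (g • (x : X)) = (y : X) then ζ ^ (e (g • (x : X))).val else 0
  have hM1 : M 1 = 1 := by
    ext y x
    have hx := Finset.mem_filter.1 x.2
    simp only [M, one_smul, Matrix.one_apply]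
    rw [hx.2]
    by_cases hxy : y = x
    · subst hxy
      rw [if_pos rfl, if_pos rfl]
      have h0 : e (y : X) = 0 := by
        have := hrr _ hx.1
        rwa [hx.2] at this
      rw [h0]
      simp
    · rw [if_neg (fun h => hxy (Subtype.ext h.symm)), if_neg hxy]
  have hMmul : ∀ g h, M (g * h) = M g * M h := by
    intro g h
    ext z x
    have hx := Finset.mem_filter.1 x.2
    have hhx : h • (x : X) ∈ Y := hYG h _ hx.1
    obtain ⟨k1, k2⟩ := key g (h • (x : X)) hhx
    rw [Matrix.mul_apply]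
    rw [Finset.sum_eq_single (⟨r (h • (x : X)), hrΩ _ hhx⟩ : Ω)]
    · simp only [M, mul_smul]
      rw [if_true, k1, k2, h13_zeta_pow_add m ζ hζ]
      by_cases hz : r (g • r (h • (x : X))) = (z : X)
      · rw [if_pos hz, if_pos hz]
      · rw [if_neg hz, if_neg hz, zero_mul]
    · intro y _ hy
      have : M h y x = 0 := by
        simp only [M]
        rw [if_neg (fun hh => hy (Subtype.ext hh.symm))]
      rw [this, mul_zero]
    · intro h
      exact absurd (Finset.mem_univ _) h
  let ρ : Representation ℂ G (Ω → ℂ) :=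
    { toFun := fun g => Matrix.toLin' (M g)
      map_one' := by rw [hM1, Matrix.toLin'_one]; rfl
      map_mul' := fun g h => by rw [hMmul, Matrix.toLin'_mul]; rfl }
  have hchar := Cfsg.Agent.Lib.helper2.isCharacter_of_rep ρ
  have hfun : ρ.character = (fun g => ∑ x ∈ Ω,
      if r (g • x) = x then ζ ^ (e (g • x)).val else 0) := by
    funext g
    show LinearMap.trace ℂ _ (Matrix.toLin' (M g)) = _
    rw [Matrix.trace_toLin'_eq, Matrix.trace]
    simp only [Matrix.diag, M]
    rw [Finset.sum_coe_sort Ω (fun x => if r (g • x) = x then ζ ^ (e (g • x)).val else 0)]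
  rw [hfun] at hchar
  exact hchar

end Cfsg.Agent.Lib.Helper21.DGU
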