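import Mathlib
import Cfsg.Prelude.Def_DegreeGraph
import Cfsg.Prelude.Def_Classical
import Cfsg.Agent.Lib.Helper11.VirtChar
import Cfsg.Agent.Lib.helper7.CharMul
import Cfsg.Agent.Lib.helper2.CharNat
import Cfsg.Agent.Lib.Helper25.CharOrth

set_option autoImplicit false

namespace Cfsg.Agent.Lib.Helper21.DGU

/-- DGU-B: a generalized character of norm one and positive degree `d` gives `d ∈ charDegrees`. -/
theorem degree_mem_of_norm_one {G : Type*} [Group G] [Fintype G] (θ : G → ℂ)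
    (hθ : Cfsg.IsGeneralizedCharacter G θ) (h1 : Cfsg.classInner θ θ = 1) (d : ℕ)
    (hd : θ 1 = (d : ℂ)) (hpos : 0 < d) : d ∈ Cfsg.charDegrees G := by
  obtain ⟨ε, η, hε, hθη⟩ := Cfsg.Agent.Lib.Helper11.genChar_norm_one θ hθ h1
  obtain ⟨n, hn, hηn⟩ := Cfsg.Agent.Lib.Helper25.irr_one_eq_finrank η
  have h2 : (d : ℂ) = (ε : ℂ) * (n : ℂ) := by
    rw [← hd, hθη, Pi.smul_apply, hηn, smul_eq_mul]
  have h3 : (d : ℤ) = ε * (n : ℤ) := by exact_mod_cast h2
  have hε1 : ε = 1 := by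
    rcases hε with h | h
    · exact h
    · exfalso
      rw [h] at h3
      have h4 : (0 : ℤ) < d := by exact_mod_cast hpos
      have h5 : (0 : ℤ) < n := by exact_mod_cast hn
      linarith
  rw [hε1, one_mul] at h3
  have h6 : d = n := by exact_mod_cast h3
  refine ⟨η, ?_⟩
  unfold Cfsg.charDegree
  rw [hηn, Complex.natCast_re, Nat.floor_natCast, h6]

/-- DGU-M: generalized characters are closed under products; characters are generalized characters. -/
theorem genChar_mul {G : Type*} [Group G] {a b : G → ℂ} (ha : Cfsg.IsGeneralizedCharacter G a)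
    (hb : Cfsg.IsGeneralizedCharacter G b) : Cfsg.IsGeneralizedCharacter G (a * b) := by
  obtain ⟨χ, ψ, hχ, hψ, rfl⟩ := ha
  obtain ⟨χ', ψ', hχ', hψ', rfl⟩ := hb
  refine ⟨χ * χ' + ψ * ψ', χ * ψ' + ψ * χ',
    Cfsg.Agent.Lib.helper2.isCharacter_add (Cfsg.Agent.Lib.helper7.h7_isCharacter_mul hχ hχ')
      (Cfsg.Agent.Lib.helper7.h7_isCharacter_mul hψ hψ'),
    Cfsg.Agent.Lib.helper2.isCharacter_add (Cfsg.Agent.Lib.helper7.h7_isCharacter_mul hχ hψ')
      (Cfsg.Agent.Lib.helper7.h7_isCharacter_mul hψ hχ'), ?_⟩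
  ring

theorem genChar_of_isCharacter {G : Type*} [Group G] {a : G → ℂ} (ha : Cfsg.IsCharacter G a) :
    Cfsg.IsGeneralizedCharacter G a :=
  ⟨a, 0, ha, Cfsg.Agent.Lib.helper2.isCharacter_zero G, (sub_zero a).symm⟩

end Cfsg.Agent.Lib.Helper21.DGU
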