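import Mathlib.GroupTheory.SpecificGroups.Dihedral
import Mathlib.GroupTheory.SpecificGroups.Cyclic
import Mathlib.GroupTheory.Index

set_option autoImplicit false

namespace Cfsg.Agent.Lib.Helper13

open DihedralGroup

/-- In a dihedral group of order `2n` (`n ≥ 2`), every element outside a cyclic subgroup of index two
is an involution. -/
theorem dihedral_outside_cyclic_index_two {n : ℕ} (hn : 2 ≤ n) (C' : Subgroup (DihedralGroup n))
    (hcyc : IsCyclic C') (hidx : C'.index = 2) (d : DihedralGroup n) (hd : d ∉ C') :
    orderOf d = 2 := by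
  haveI : NeZero n := ⟨by omega⟩
  have hcardC : Nat.card C' = n := by
    have h := C'.card_mul_index
    rw [hidx, DihedralGroup.nat_card] at h
    omega
  cases d with
  | sr j => exact orderOf_sr j
  | r j =>
    obtain ⟨g, hg⟩ := hcyc.exists_generator
    have hgo : orderOf g = n := by
      rw [orderOf_eq_card_of_forall_mem_zpowers hg, hcardC]
    have hgo' : orderOf (g : DihedralGroup n) = n := by
      rw [Subgroup.orderOf_coe]; exact hgo
    rcases hgv : (g : DihedralGroup n) with i | i
    · exfalso
      apply hd
      rw [hgv] at hgo'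
      have h1 : Subgroup.zpowers (r i : DihedralGroup n) ≤ Subgroup.zpowers (r 1) := by
        rw [Subgroup.zpowers_le]
        refine ⟨(i.val : ℤ), ?_⟩
        show (r 1 : DihedralGroup n) ^ ((i.val : ℕ) : ℤ) = r i
        rw [r_one_zpow]
        simp
      have h2 : Subgroup.zpowers (r i : DihedralGroup n) = Subgroup.zpowers (r 1) := by
        apply Subgroup.eq_of_le_of_card_ge h1
        rw [Nat.card_zpowers, Nat.card_zpowers, hgo', orderOf_r_one]
      have h3 : (r j : DihedralGroup n) ∈ Subgroup.zpowers (r 1 : DihedralGroup n) := by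
        refine ⟨(j.val : ℤ), ?_⟩
        show (r 1 : DihedralGroup n) ^ ((j.val : ℕ) : ℤ) = r j
        rw [r_one_zpow]
        simp
      rw [← h2] at h3
      have h4 : Subgroup.zpowers (r i : DihedralGroup n) ≤ C' := by
        rw [Subgroup.zpowers_le, ← hgv]
        exact g.2
      exact h4 h3
    · rw [hgv, orderOf_sr] at hgo'
      subst hgo'
      have hj : j ≠ 0 := by
        intro h
        apply hd
        rw [h, r_zero]
        exact C'.one_mem
      rw [orderOf_r]
      have : j.val = 1 := by
        have h1 : j.val < 2 := ZMod.val_lt j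
        have h2 : j.val ≠ 0 := fun h => hj ((ZMod.val_eq_zero j).mp h)
        omega
      rw [this]
      rfl

end Cfsg.Agent.Lib.Helper13
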