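import Mathlib
import Cfsg.Prelude.Def_GeometricClasses
import Cfsg.Agent.Lib.Helper27.ASC.Defs
import Cfsg.Agent.Lib.helper23.ASCO.Defs
import Cfsg.Agent.Lib.Helper19.ASG.Defs
import Cfsg.Agent.Lib.Helper1.ASGCLIF3
import Cfsg.Agent.Lib.Helper25.ASO.Defs
import Cfsg.Agent.Lib.helper23.ASE.Defs
import Cfsg.Agent.Lib.Helper20.ASE10M.Defs
import Cfsg.Agent.Lib.Helper25.ASOADJ

set_option autoImplicit false
set_option linter.unusedVariables false
set_option linter.unusedSectionVars false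

/-!
# Project E10M, field block stage 2, piece F5-GENINV (helper13): the generating set `efieldGen Q K` is invariant under conjugation by
isometries normalising `K` and under the adjoint (verbatim vs `Helper20/ASE10M/FieldSkel5`).
-/

namespace Cfsg.Agent.Lib.Helper16.E10M

open Cfsg Cfsg.Geo Cfsg.Agent.Lib.Helper27.ASC Cfsg.Agent.Lib.helper23.ASCO Cfsg.Agent.Lib.Helper19.ASG
  Cfsg.Agent.Lib.Helper25.ASO
open scoped MatrixGroups Matrix Kronecker

variable {n : ℕ} {F : Type*} [Field F] [Fintype F]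

/-- F5-GENINV : the generating set is invariant under conjugation by isometries normalising `K` and under the adjoint. -/
theorem efield_gen_inv (Q : QuadraticForm F (Fin n → F)) (hQ : (QuadraticMap.polarBilin Q).Nondegenerate)
    (K : Subalgebra F (Matrix (Fin n) (Fin n) F)) (hstar : ∀ k ∈ K, oadj (⇑Q) k ∈ K) :
    (∀ g : GL (Fin n) F, g ∈ isometryGroup F (⇑Q) → g ∈ subalgebraNormalizer K → ∀ x ∈ efieldGen (⇑Q) K,
      (g : Matrix (Fin n) (Fin n) F) * x * ((g⁻¹ : GL (Fin n) F) : Matrix (Fin n) (Fin n) F) ∈ efieldGen (⇑Q) K) ∧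
    (∀ x ∈ efieldGen (⇑Q) K, oadj (⇑Q) x ∈ efieldGen (⇑Q) K) := by
  constructor
  · intro g hgO hgK x hx
    obtain ⟨hxK, c, hxc⟩ := hx
    have e1 : ((g⁻¹ : GL (Fin n) F) : Matrix (Fin n) (Fin n) F) * (g : Matrix (Fin n) (Fin n) F) = 1 := by
      rw [← Units.val_mul, inv_mul_cancel, Units.val_one]
    have e2 : (g : Matrix (Fin n) (Fin n) F) * ((g⁻¹ : GL (Fin n) F) : Matrix (Fin n) (Fin n) F) = 1 := by
      rw [← Units.val_mul, mul_inv_cancel, Units.val_one]
    have hginv : g⁻¹ ∈ subalgebraNormalizer K := (subalgebraNormalizer K).inv_mem hgK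
    have hgiO : g⁻¹ ∈ isometryGroup F (⇑Q) := (isometryGroup F (⇑Q)).inv_mem hgO
    refine ⟨?_, c, ?_⟩
    · intro k hk
      have hk' : ((g⁻¹ : GL (Fin n) F) : Matrix (Fin n) (Fin n) F) * k * (g : Matrix (Fin n) (Fin n) F) ∈ K := by
        have := (hginv k).mp hk
        rwa [inv_inv] at this
      have h1 := hxK _ hk'
      calc (g : Matrix (Fin n) (Fin n) F) * x * ((g⁻¹ : GL (Fin n) F) : Matrix (Fin n) (Fin n) F) * k
          = (g : Matrix (Fin n) (Fin n) F) * (x * (((g⁻¹ : GL (Fin n) F) : Matrix (Fin n) (Fin n) F) * k *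
              (g : Matrix (Fin n) (Fin n) F))) * ((g⁻¹ : GL (Fin n) F) : Matrix (Fin n) (Fin n) F) := by
            simp only [Matrix.mul_assoc, e2, Matrix.mul_one]
        _ = (g : Matrix (Fin n) (Fin n) F) * ((((g⁻¹ : GL (Fin n) F) : Matrix (Fin n) (Fin n) F) * k *
              (g : Matrix (Fin n) (Fin n) F)) * x) * ((g⁻¹ : GL (Fin n) F) : Matrix (Fin n) (Fin n) F) := by rw [h1]
        _ = k * ((g : Matrix (Fin n) (Fin n) F) * x * ((g⁻¹ : GL (Fin n) F) : Matrix (Fin n) (Fin n) F)) := by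
            simp only [Matrix.mul_assoc]
            rw [← Matrix.mul_assoc (g : Matrix (Fin n) (Fin n) F) ((g⁻¹ : GL (Fin n) F) : Matrix (Fin n) (Fin n) F),
              e2, Matrix.one_mul]
    · intro u
      have hu : u = (g : Matrix (Fin n) (Fin n) F) *ᵥ (((g⁻¹ : GL (Fin n) F) : Matrix (Fin n) (Fin n) F) *ᵥ u) := by
        rw [Matrix.mulVec_mulVec, e2, Matrix.one_mulVec]
      have hQu : Q (((g⁻¹ : GL (Fin n) F) : Matrix (Fin n) (Fin n) F) *ᵥ u) = Q u := hgiO u u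
      calc QuadraticMap.polar (⇑Q) (((g : Matrix (Fin n) (Fin n) F) * x *
              ((g⁻¹ : GL (Fin n) F) : Matrix (Fin n) (Fin n) F)) *ᵥ u) u
          = QuadraticMap.polar (⇑Q) ((g : Matrix (Fin n) (Fin n) F) *ᵥ
              (x *ᵥ (((g⁻¹ : GL (Fin n) F) : Matrix (Fin n) (Fin n) F) *ᵥ u)))
              ((g : Matrix (Fin n) (Fin n) F) *ᵥ (((g⁻¹ : GL (Fin n) F) : Matrix (Fin n) (Fin n) F) *ᵥ u)) := by
            rw [← hu, Matrix.mulVec_mulVec, Matrix.mulVec_mulVec, Matrix.mul_assoc]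
        _ = QuadraticMap.polar (⇑Q) (x *ᵥ (((g⁻¹ : GL (Fin n) F) : Matrix (Fin n) (Fin n) F) *ᵥ u))
              (((g⁻¹ : GL (Fin n) F) : Matrix (Fin n) (Fin n) F) *ᵥ u) := asoadj_iso_polar Q g hgO _ _
        _ = c * Q (((g⁻¹ : GL (Fin n) F) : Matrix (Fin n) (Fin n) F) *ᵥ u) := hxc _
        _ = c * Q u := by rw [hQu]
  · intro x hx
    obtain ⟨hxK, c, hxc⟩ := hx
    refine ⟨?_, c, ?_⟩
    · intro k hk
      have hk' := hstar k hk
      have h1 := hxK _ hk'
      have e1 : oadj (⇑Q) x * k = oadj (⇑Q) (oadj (⇑Q) k * x) := by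
        rw [oadj_mul Q hQ, oadj_oadj Q hQ]
      have e2 : k * oadj (⇑Q) x = oadj (⇑Q) (x * oadj (⇑Q) k) := by
        rw [oadj_mul Q hQ, oadj_oadj Q hQ]
      rw [e1, e2, h1]
    · intro u
      rw [QuadraticMap.polar_comm, ← oadj_spec Q hQ x u u]
      exact hxc u

end Cfsg.Agent.Lib.Helper16.E10M
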