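import Mathlib
import Cfsg.Prelude.Def_GeometricClasses
import Cfsg.Agent.Lib.Helper27.ASC.Defs
import Cfsg.Agent.Lib.helper23.ASCO.Defs
import Cfsg.Agent.Lib.Helper19.ASG.Defs
import Cfsg.Agent.Lib.Helper1.ASGCLIF3
import Cfsg.Agent.Lib.Helper25.ASO.Defs
import Cfsg.Agent.Lib.helper23.ASE.Defs
import Cfsg.Agent.Lib.Helper20.ASE10M.Defs

set_option autoImplicit false
set_option linter.unusedVariables false
set_option linter.unusedSectionVars false

/-!
# Project E10M, field block stage 2, piece F5-JSQ (helper13): `j * j = s * j - β` (verbatim vs `Helper20/ASE10M/FieldSkel5`).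
-/

namespace Cfsg.Agent.Lib.Helper16.E10M

open Cfsg Cfsg.Geo Cfsg.Agent.Lib.Helper27.ASC Cfsg.Agent.Lib.helper23.ASCO Cfsg.Agent.Lib.Helper19.ASG
  Cfsg.Agent.Lib.Helper25.ASO
open scoped MatrixGroups Matrix Kronecker

variable {n : ℕ} {F : Type*} [Field F] [Fintype F]

/-- two matrices agreeing on all vectors are equal -/
theorem e10mf5jsq_ext (A B : Matrix (Fin n) (Fin n) F) (h : ∀ x : Fin n → F, A *ᵥ x = B *ᵥ x) : A = B := by
  apply Matrix.toLin'.injective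
  apply LinearMap.ext
  intro x
  rw [Matrix.toLin'_apply, Matrix.toLin'_apply]
  exact h x

/-- F5-JSQ : `j² = s j - β`. -/
theorem efield_j_sq {r : ℕ} (Q : QuadraticForm F (Fin n → F)) (K : Subalgebra F (Matrix (Fin n) (Fin n) F))
    (hK : IsFieldSubalgebra r K) {ℓ : Matrix (Fin n) (Fin n) F →ₗ[F] F} {v w : Fin n → F}
    {s β : Matrix (Fin n) (Fin n) F} (hc : EFieldCoord (⇑Q) K ℓ v w s β) (j : Matrix (Fin n) (Fin n) F)
    (hjK : ∀ k ∈ K, j * k = k * j)
    (hj : ∀ a ∈ K, ∀ b ∈ K, j *ᵥ (a *ᵥ v + b *ᵥ w) = (-(β * b)) *ᵥ v + (a + s * b) *ᵥ w) :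
    j * j = s * j - β := by
  apply e10mf5jsq_ext
  intro x
  obtain ⟨a, ha, b, hb, rfl⟩ := hc.surj x
  have hcomm : β * s = s * β := hK.comm β hc.hβ s hc.hs
  have h1 : -(β * b) ∈ K := K.neg_mem (K.mul_mem hc.hβ hb)
  have h2 : a + s * b ∈ K := K.add_mem ha (K.mul_mem hc.hs hb)
  rw [← Matrix.mulVec_mulVec, hj a ha b hb, hj _ h1 _ h2, Matrix.sub_mulVec, ← Matrix.mulVec_mulVec, hj a ha b hb]
  simp only [Matrix.mulVec_add, Matrix.mulVec_mulVec]
  have e1 : -(β * (a + s * b)) = s * -(β * b) - β * a := by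
    rw [mul_add, ← mul_assoc β s b, hcomm, mul_neg, mul_assoc]
    abel
  have e2 : -(β * b) + s * (a + s * b) = s * (a + s * b) - β * b := by abel
  rw [e1, e2, Matrix.sub_mulVec, Matrix.sub_mulVec]
  abel

end Cfsg.Agent.Lib.Helper16.E10M
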