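import Mathlib
import Cfsg.Prelude.Def_GeometricClasses
import Cfsg.Agent.Lib.Helper27.ASC.Defs
import Cfsg.Agent.Lib.helper23.ASCO.Defs
import Cfsg.Agent.Lib.Helper19.ASG.Defs
import Cfsg.Agent.Lib.Helper1.ASGCLIF3
import Cfsg.Agent.Lib.Helper25.ASO.Defs
import Cfsg.Agent.Lib.helper23.ASE.Defs
import Cfsg.Agent.Lib.Helper27.E10P.Defs
import Cfsg.Agent.Lib.Helper10.ASCOFRSUBcore

set_option autoImplicit false
set_option linter.unusedVariables false
set_option linter.unusedSectionVars false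

/-!
# Project E10P (leader helper27), piece FRSUBE : `frame_subfield_even`

Over a non-prime field the isometries stabilising an orthogonal frame of isometric lines lie in a subfield group of
prime index whose structure carries `ζ Q` (`ζ = c⁻¹`, `c` the common norm of the frame vectors).
-/

namespace Cfsg.Agent.Lib.Helper27.E10P

open Cfsg Cfsg.Geo Cfsg.Agent.Lib.Helper27.ASC Cfsg.Agent.Lib.helper23.ASCO Cfsg.Agent.Lib.Helper19.ASG
  Cfsg.Agent.Lib.Helper25.ASO Cfsg.Agent.Lib.helper23.ASE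
open scoped MatrixGroups Matrix Kronecker

variable {n : ℕ} {F : Type*} [Field F] [Fintype F]

/-- a non-degenerate line forces `2 ≠ 0` -/
theorem e10pfrsube_two_ne_zero (Q : QuadraticForm F (Fin n → F)) (L : Submodule F (Fin n → F))
    (hfr : Module.finrank F L = 1) (hnd : IsNondegenerateOn (QuadraticMap.polar (⇑Q)) L) : (2 : F) ≠ 0 := by
  intro h2
  have hne : L ≠ ⊥ := by
    intro h
    rw [h, finrank_bot] at hfr
    omega
  obtain ⟨d₀, hd₀, hd₀0⟩ := Submodule.exists_mem_ne_zero_of_ne_bot hne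
  obtain ⟨⟨x, hx, hxd⟩, -⟩ := hnd d₀ hd₀ hd₀0
  have hne' : (⟨d₀, hd₀⟩ : L) ≠ 0 := fun h => hd₀0 (congrArg Subtype.val h)
  obtain ⟨a, ha⟩ := (finrank_eq_one_iff_of_nonzero' (⟨d₀, hd₀⟩ : L) hne').1 hfr ⟨x, hx⟩
  have hx' : x = a • d₀ := by
    have := congrArg Subtype.val ha
    simpa using this.symm
  apply hxd
  have e : QuadraticMap.polar (⇑Q) x d₀ = QuadraticMap.polarBilin Q x d₀ := rfl
  rw [e, hx', map_smul, LinearMap.smul_apply, QuadraticMap.polarBilin_apply_apply,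
    QuadraticMap.polar_self]
  have h0 : 2 • Q d₀ = 0 := by rw [two_nsmul, ← two_mul, h2, zero_mul]
  rw [h0, smul_zero]

/-- scaling the form by a non-zero scalar keeps an orthogonal decomposition -/
theorem e10pfrsube_scale_dec (Q : QuadraticForm F (Fin n → F)) (z : F) (hz : z ≠ 0) {t k : ℕ}
    (D : Fin t → Submodule F (Fin n → F)) (hD : IsOrthogonalMDecomposition (⇑Q) k D) :
    IsOrthogonalMDecomposition (⇑(z • Q)) k D := by
  have hpol : ∀ u v : Fin n → F, QuadraticMap.polar (⇑(z • Q)) u v = z * QuadraticMap.polar (⇑Q) u v := by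
    intro u v
    unfold QuadraticMap.polar
    simp only [QuadraticMap.smul_apply, smul_eq_mul]
    ring
  refine ⟨⟨hD.decomp.decomp, ?_, ?_⟩, ?_⟩
  · intro i w hw hw0
    obtain ⟨⟨x, hx, hx0⟩, ⟨y, hy, hy0⟩⟩ := hD.decomp.nondegenerate i w hw hw0
    refine ⟨⟨x, hx, ?_⟩, ⟨y, hy, ?_⟩⟩
    · rw [hpol]; exact mul_ne_zero hz hx0
    · rw [hpol]; exact mul_ne_zero hz hy0
  · intro i j hij u hu v hv
    rw [hpol, hD.decomp.orthogonal i j hij u hu v hv, mul_zero]
  · intro i j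
    obtain ⟨e, he⟩ := hD.isometric i j
    refine ⟨e, fun w => ?_⟩
    simp only [QuadraticMap.smul_apply, smul_eq_mul]
    rw [he w]

/-- FRSUBE -/
theorem frame_subfield_even (Q : QuadraticForm F (Fin n → F)) (hQ : (QuadraticMap.polarBilin Q).Nondegenerate)
    (hnp : ¬ (Fintype.card F).Prime) (D : Fin n → Submodule F (Fin n → F))
    (hD : IsOrthogonalMDecomposition (⇑Q) 1 D) :
    ∃ (F₁ : Subfield F) (ℓ : ℕ) (B : GL (Fin n) F) (ζ : F), ℓ.Prime ∧ Fintype.card F = Nat.card F₁ ^ ℓ ∧ ζ ≠ 0 ∧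
      IsQuadFormRationalStructure (fun v : Fin n → F => ζ * Q v) F₁ B ∧
      decompositionStabilizer D ⊓ isometryGroup F (⇑Q) ≤ subfieldSubgroup F₁ B := by
  classical
  have hn2 : 2 ≤ n := hD.decomp.decomp.two_le
  have h2 : (2 : F) ≠ 0 :=
    e10pfrsube_two_ne_zero Q (D ⟨0, by omega⟩) (hD.decomp.decomp.finrank_eq _) (hD.decomp.nondegenerate _)
  obtain ⟨F₁, ℓ, -, hℓ, hcard⟩ := exists_prime_index_subfield (⊥ : Subfield F)
    (ascofrsub_bot_ne_top hnp)
  obtain ⟨d, c, hc, hdD, hQd⟩ := ascofrsub_vectors h2 Q D hD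
  have hci : c⁻¹ ≠ 0 := inv_ne_zero hc
  have hD' := e10pfrsube_scale_dec Q c⁻¹ hci D hD
  have hQd' : ∀ i, (c⁻¹ • Q) (d i) = 1 := by
    intro i
    rw [QuadraticMap.smul_apply, hQd i, smul_eq_mul, inv_mul_cancel₀ hc]
  have h1 : (1 : F) ^ 2 * 1 ∈ F₁ := by
    rw [one_pow, one_mul]
    exact F₁.one_mem
  obtain ⟨B, hB1, hB2⟩ := ascofrsub_final h2 (c⁻¹ • Q) F₁ D hD' d 1 one_ne_zero hdD hQd' 1 one_ne_zero h1
  refine ⟨F₁, ℓ, B, c⁻¹, hℓ, hcard, hci, ?_, ?_⟩
  · intro u hu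
    have := hB1 u hu
    simpa only [QuadraticMap.smul_apply, smul_eq_mul] using this
  · refine le_trans ?_ hB2
    intro g hg
    refine ⟨hg.1, ?_⟩
    intro u v
    show (c⁻¹ • Q) _ = (c⁻¹ • Q) _
    rw [QuadraticMap.smul_apply, QuadraticMap.smul_apply]
    have := hg.2 u v
    exact congrArg (fun x => c⁻¹ • x) this

end Cfsg.Agent.Lib.Helper27.E10P
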