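import Mathlib
import Cfsg.Prelude.Def_GeometricClasses
import Cfsg.Agent.Lib.Helper27.ASC.Defs
import Cfsg.Agent.Lib.helper23.ASCO.Defs
import Cfsg.Agent.Lib.Helper19.ASG.Defs
import Cfsg.Agent.Lib.Helper1.ASGCLIF3
import Cfsg.Agent.Lib.Helper25.ASO.Defs
import Cfsg.Agent.Lib.helper23.ASE.Defs
import Cfsg.Agent.Lib.Helper27.E10P.Defs
import Cfsg.Agent.Lib.Helper16.ASCORED
import Cfsg.Agent.Lib.Helper28.DecGen

set_option autoImplicit false
set_option linter.unusedVariables false
set_option linter.unusedSectionVars false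

/-!
# Project E10P (leader helper27), piece NDHALF : `nd_half_dec`

A non-degenerate subspace `W` of dimension `n / 2` and its polar-orthogonal form a non-degenerate decomposition
`![W, W^⊥]` stabilised by the isometries stabilising `W`.  All characteristics.
-/

namespace Cfsg.Agent.Lib.Helper27.E10P

open Cfsg Cfsg.Geo Cfsg.Agent.Lib.Helper27.ASC Cfsg.Agent.Lib.helper23.ASCO Cfsg.Agent.Lib.Helper19.ASG
  Cfsg.Agent.Lib.Helper25.ASO Cfsg.Agent.Lib.helper23.ASE
open scoped MatrixGroups Matrix Kronecker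

variable {n : ℕ} {F : Type*} [Field F] [Fintype F]

/-- the orthogonal complement of a non-degenerate subspace, with all the facts needed (general dimension). -/
theorem e10pndhalf_perp (Q : QuadraticForm F (Fin n → F)) (hQ : (QuadraticMap.polarBilin Q).Nondegenerate)
    (W : Submodule F (Fin n → F)) (hW : IsNondegenerateOn (QuadraticMap.polar (⇑Q)) W) :
    ∃ W' : Submodule F (Fin n → F), Module.finrank F W + Module.finrank F W' = n ∧
      IsNondegenerateOn (QuadraticMap.polar (⇑Q)) W' ∧ W ⊓ W' = ⊥ ∧ W ⊔ W' = ⊤ ∧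
      AreOrthogonalFor (QuadraticMap.polar (⇑Q)) W W' ∧
      AreOrthogonalFor (QuadraticMap.polar (⇑Q)) W' W ∧
      ∀ g ∈ subspaceStabilizer W ⊓ isometryGroup F (⇑Q), ∀ v ∈ W',
        (g : Matrix (Fin n) (Fin n) F) *ᵥ v ∈ W' := by
  classical
  set H : Subgroup (GL (Fin n) F) := subspaceStabilizer W ⊓ isometryGroup F (⇑Q) with hH
  have hst : H ≤ subspaceStabilizer W := inf_le_left
  have hHO : H ≤ isometryGroup F (⇑Q) := inf_le_right
  have hWm := Cfsg.Agent.Lib.helper23.ASCO.ascored_maps_of_stab H W hst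
  set B : LinearMap.BilinForm F (Fin n → F) := QuadraticMap.polarBilin Q with hBdef
  have hBapp : ∀ x y : Fin n → F, B x y = QuadraticMap.polar (⇑Q) x y := fun x y => rfl
  have hpol : ∀ g ∈ H, ∀ u v : Fin n → F,
      QuadraticMap.polar (⇑Q) ((g : Matrix (Fin n) (Fin n) F) *ᵥ u)
        ((g : Matrix (Fin n) (Fin n) F) *ᵥ v) = QuadraticMap.polar (⇑Q) u v :=
    fun g hg u v => Cfsg.Agent.Lib.helper23.ASCO.ascored_polar Q g (hHO hg) u v
  have hginv : ∀ g : GL (Fin n) F, ∀ w : Fin n → F, (g : Matrix (Fin n) (Fin n) F) *ᵥ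
      (((g⁻¹ : GL (Fin n) F) : Matrix (Fin n) (Fin n) F) *ᵥ w) = w := by
    intro g w
    rw [Matrix.mulVec_mulVec, ← Units.val_mul, mul_inv_cancel, Units.val_one, Matrix.one_mulVec]
  set Wp : Submodule F (Fin n → F) := B.orthogonal W with hWp
  have hmemp : ∀ v : Fin n → F, v ∈ Wp ↔ ∀ w ∈ W, QuadraticMap.polar (⇑Q) w v = 0 := by
    intro v
    rw [hWp, LinearMap.BilinForm.mem_orthogonal_iff]
    constructor
    · intro hv w hw
      have := hv w hw
      rw [← hBapp]
      exact this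
    · intro hv w hw
      show B w v = 0
      rw [hBapp]
      exact hv w hw
  have hPm : ∀ g ∈ H, ∀ v ∈ Wp, (g : Matrix (Fin n) (Fin n) F) *ᵥ v ∈ Wp := by
    intro g hg v hv
    rw [hmemp] at hv ⊢
    intro w hw
    have h3 := hWm g⁻¹ (H.inv_mem hg) w hw
    have h4 := hpol g hg (((g⁻¹ : GL (Fin n) F) : Matrix (Fin n) (Fin n) F) *ᵥ w) v
    rw [hginv] at h4
    rw [h4]
    exact hv _ h3
  have hR : W ⊓ Wp = ⊥ := by
    rw [eq_bot_iff]
    intro w hw
    rw [Submodule.mem_bot]
    by_contra hw0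
    obtain ⟨⟨x, hx, hx0⟩, _⟩ := hW w hw.1 hw0
    exact hx0 ((hmemp w).1 hw.2 x hx)
  have hfr : Module.finrank F Wp = n - Module.finrank F W := by
    have := LinearMap.BilinForm.finrank_orthogonal (B := B) hQ W
    rwa [Module.finrank_fin_fun] at this
  have hWle : Module.finrank F W ≤ n := by
    have := Submodule.finrank_le W
    rwa [Module.finrank_fin_fun] at this
  have hsi := Submodule.finrank_sup_add_finrank_inf_eq W Wp
  rw [hR, finrank_bot, add_zero] at hsi
  have hsup : W ⊔ Wp = ⊤ := by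
    apply Submodule.eq_top_of_finrank_eq
    rw [Module.finrank_fin_fun]
    omega
  refine ⟨Wp, by omega, ?_, hR, hsup, fun u hu v hv => (hmemp v).1 hv u hu,
    fun u hu v hv => by rw [QuadraticMap.polar_comm]; exact (hmemp u).1 hu v hv, hPm⟩
  intro w' hw' hw'0
  have key : ∃ x ∈ Wp, QuadraticMap.polar (⇑Q) x w' ≠ 0 := by
    by_contra hcon
    push Not at hcon
    have hall : ∀ v : Fin n → F, B v w' = 0 := by
      intro v
      have hv : v ∈ W ⊔ Wp := by rw [hsup]; exact Submodule.mem_top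
      obtain ⟨a, ha, b, hb, rfl⟩ := Submodule.mem_sup.1 hv
      rw [map_add, LinearMap.add_apply, hBapp, hBapp, hcon b hb, add_zero]
      exact (hmemp w').1 hw' a ha
    exact hw'0 (hQ.2 w' hall)
  obtain ⟨x, hx, hx0⟩ := key
  refine ⟨⟨x, hx, hx0⟩, ⟨x, hx, ?_⟩⟩
  rw [QuadraticMap.polar_comm]
  exact hx0

/-- NDHALF -/
theorem nd_half_dec {m : ℕ} (hn : n = 2 * m) (hm : 1 ≤ m) (Q : QuadraticForm F (Fin n → F))
    (hQ : (QuadraticMap.polarBilin Q).Nondegenerate) (W : Submodule F (Fin n → F))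
    (hW : IsNondegenerateOn (QuadraticMap.polar (⇑Q)) W) (hd : Module.finrank F W = m) :
    ∃ D : Fin 2 → Submodule F (Fin n → F), D 0 = W ∧
      IsNondegenerateMDecomposition (QuadraticMap.polar (⇑Q)) m D ∧
      subspaceStabilizer W ⊓ isometryGroup F (⇑Q) ≤ decompositionStabilizer D := by
  classical
  obtain ⟨W', hfr, hnd', hinf, hsup, ho1, ho2, hmaps⟩ := e10pndhalf_perp Q hQ W hW
  have hd' : Module.finrank F W' = m := by omega
  have hD0 : (![W, W'] : Fin 2 → Submodule F (Fin n → F)) 0 = W := rfl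
  have hD1 : (![W, W'] : Fin 2 → Submodule F (Fin n → F)) 1 = W' := rfl
  have hfrD : ∀ i, Module.finrank F ((![W, W'] : Fin 2 → Submodule F (Fin n → F)) i) = m := by
    intro i
    fin_cases i
    · exact hd
    · exact hd'
  refine ⟨![W, W'], rfl, ⟨⟨le_refl 2, hm, hfrD, ?_, ?_⟩, ?_, ?_⟩, ?_⟩
  · rw [iSupIndep_pair (i := (0 : Fin 2)) (j := 1) (by decide) (by intro k; fin_cases k <;> simp)]
    rw [hD0, hD1, disjoint_iff]
    exact hinf
  · rw [eq_top_iff, ← hsup]
    apply sup_le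
    · exact le_iSup (![W, W'] : Fin 2 → Submodule F (Fin n → F)) 0
    · exact le_iSup (![W, W'] : Fin 2 → Submodule F (Fin n → F)) 1
  · intro i
    fin_cases i
    · exact hW
    · exact hnd'
  · intro i j hij
    fin_cases i <;> fin_cases j
    · exact absurd rfl hij
    · exact ho1
    · exact ho2
    · exact absurd rfl hij
  · intro g hg
    have hWm := Cfsg.Agent.Lib.helper23.ASCO.ascored_maps_of_stab
      (subspaceStabilizer W ⊓ isometryGroup F (⇑Q)) W inf_le_left
    refine Cfsg.Agent.Lib.Helper28.DecGen.stab_of_maps _ hfrD g 1 ?_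
    intro i
    fin_cases i
    · exact hWm g hg
    · exact hmaps g hg

end Cfsg.Agent.Lib.Helper27.E10P
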