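import Mathlib
import Cfsg.Prelude.Def_GeometricClasses
import Cfsg.Agent.Lib.Helper27.ASC.Defs
import Cfsg.Agent.Lib.helper23.ASCO.Defs
import Cfsg.Agent.Lib.Helper19.ASG.Defs
import Cfsg.Agent.Lib.Helper25.ASO.Defs
import Cfsg.Agent.Lib.helper23.ASE.Defs
import Cfsg.Agent.Lib.Helper26.E12P.Defs
import Cfsg.Agent.Lib.Helper28.Ld.Trans
import Cfsg.Agent.Lib.Helper10.O9D3Q3

set_option autoImplicit false
set_option linter.unusedVariables false
set_option linter.unusedSectionVars false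

/-!
# Project E12P, piece D3Q3 (helper13): over `F_3` the isometries stabilising an orthogonal decomposition into `t` isometric 3-spaces
stabilise a frame of `n` isometric lines (verbatim vs `Helper26/E12P/Skel`).  Generalisation of `Helper10.O9D3Q3` `dec3_q3`
(`n = 9`, `t = 3`), whose proof is followed line by line; `o9d3q3_lines`, `o9d3q3_stab` are used as they are.
-/

namespace Cfsg.Agent.Lib.Helper26.E12P

open Cfsg Cfsg.Geo Cfsg.Agent.Lib.Helper27.ASC Cfsg.Agent.Lib.helper23.ASCO Cfsg.Agent.Lib.Helper19.ASG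
  Cfsg.Agent.Lib.Helper25.ASO Cfsg.Agent.Lib.helper23.ASE Cfsg.Agent.Lib.Helper25.O9
open scoped MatrixGroups Matrix Kronecker

variable {n : ℕ} {F : Type*} [Field F] [Fintype F]

/-- D3Q3 : `|F| = 3`: the isometries stabilising an orthogonal decomposition into `t` isometric 3-spaces stabilise a frame of `n`
isometric lines. -/
theorem dec3_q3_frame (hq : Fintype.card F = 3) (Q : QuadraticForm F (Fin n → F))
    (hQ : (QuadraticMap.polarBilin Q).Nondegenerate) {t : ℕ} (D : Fin t → Submodule F (Fin n → F))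
    (hD : IsOrthogonalMDecomposition (⇑Q) 3 D) :
    ∃ D' : Fin n → Submodule F (Fin n → F), IsOrthogonalMDecomposition (⇑Q) 1 D' ∧
      decompositionStabilizer D ⊓ isometryGroup F (⇑Q) ≤ decompositionStabilizer D' := by
  classical
  have h2 : (2 : F) ≠ 0 := Cfsg.Agent.Lib.Helper28.OPlane.two_ne_zero3 hq
  have ht2 : 2 ≤ t := hD.decomp.decomp.two_le
  have hn : t * 3 = n := Cfsg.Agent.Lib.Helper28.Ld.card_eq D hD.decomp.decomp
  obtain ⟨i0, hi0⟩ : ∃ i0 : Fin t, i0 = ⟨0, by omega⟩ := ⟨_, rfl⟩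
  have hqf := Cfsg.Agent.Lib.Helper28.OGenQ.qf_of_quad Q hQ
  have hsym := hqf.sym
  have hpf : ∀ a b, Cfsg.Agent.S0795.pf Q a b = QuadraticMap.polar (⇑Q) a b := fun _ _ => rfl
  -- block `i0` splits off
  have sp0 : Cfsg.Agent.Lib.Helper28.ONd.Split (Cfsg.Agent.S0795.pf Q) (D i0)
      (LinearMap.BilinForm.orthogonal (QuadraticMap.polarBilin Q) (D i0)) := by
    constructor
    · intro a ha o ho
      exact (LinearMap.BilinForm.mem_orthogonal_iff.mp ho) a ha
    · rw [eq_top_iff, ← hD.decomp.decomp.iSup_eq_top]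
      apply iSup_le
      intro i
      by_cases hi : i = i0
      · rw [hi]; exact le_sup_left
      · refine le_trans ?_ le_sup_right
        intro o ho
        rw [LinearMap.BilinForm.mem_orthogonal_iff]
        intro a ha
        exact hD.decomp.orthogonal i0 i (Ne.symm hi) a ha o ho
  obtain ⟨x, y, z, h, hy, hz⟩ := Cfsg.Agent.Lib.Helper28.OFrame.orth3_normal hqf hq sp0
    (hD.decomp.decomp.finrank_eq i0)
  obtain ⟨c, hc⟩ : ∃ c : F, c = Q x := ⟨_, rfl⟩
  have hc0 : c ≠ 0 := by rw [hc]; exact h.qx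
  -- the isometries
  have hiso := fun i => hD.isometric i0 i
  choose E hE using hiso
  have hEpf : ∀ i (a b : D i0), Cfsg.Agent.S0795.pf Q (E i a : Fin n → F) (E i b : Fin n → F) =
      Cfsg.Agent.S0795.pf Q (a : Fin n → F) (b : Fin n → F) := by
    intro i a b
    have h1 : ((E i a : D i) : Fin n → F) + ((E i b : D i) : Fin n → F) = ((E i (a + b) : D i) : Fin n → F) := by
      rw [map_add]; rfl
    have h3 : ((a + b : D i0) : Fin n → F) = (a : Fin n → F) + (b : Fin n → F) := rfl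
    rw [hpf, hpf]
    unfold QuadraticMap.polar
    rw [h1, hE, hE, hE, h3]
  obtain ⟨X, hX⟩ : ∃ X : Fin 3 → D i0, X = ![⟨x, h.hx⟩, ⟨y, h.hy⟩, ⟨z, h.hz⟩] := ⟨_, rfl⟩
  have hX0 : ((X 0 : D i0) : Fin n → F) = x := by rw [hX]; rfl
  have hX1 : ((X 1 : D i0) : Fin n → F) = y := by rw [hX]; rfl
  have hX2 : ((X 2 : D i0) : Fin n → F) = z := by rw [hX]; rfl
  have hQX : ∀ j, Q ((X j : D i0) : Fin n → F) = c := by
    intro j
    fin_cases j
    · show Q ((X 0 : D i0) : Fin n → F) = c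
      rw [hX0, hc]
    · show Q ((X 1 : D i0) : Fin n → F) = c
      rw [hX1, hc, hy]
    · show Q ((X 2 : D i0) : Fin n → F) = c
      rw [hX2, hc, hz]
  have hyx : Cfsg.Agent.S0795.pf Q y x = 0 := by rw [Cfsg.Agent.Lib.Helper28.OGen.s_symm hsym, h.xy]
  have hzx : Cfsg.Agent.S0795.pf Q z x = 0 := by rw [Cfsg.Agent.Lib.Helper28.OGen.s_symm hsym, h.xz]
  have hzy : Cfsg.Agent.S0795.pf Q z y = 0 := by rw [Cfsg.Agent.Lib.Helper28.OGen.s_symm hsym, h.yz]
  have hXo : ∀ j j', j ≠ j' → Cfsg.Agent.S0795.pf Q ((X j : D i0) : Fin n → F) ((X j' : D i0) : Fin n → F) = 0 := by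
    intro j j' hjj
    fin_cases j <;> fin_cases j'
    · exact absurd rfl hjj
    · show Cfsg.Agent.S0795.pf Q ((X 0 : D i0) : Fin n → F) ((X 1 : D i0) : Fin n → F) = 0
      rw [hX0, hX1, h.xy]
    · show Cfsg.Agent.S0795.pf Q ((X 0 : D i0) : Fin n → F) ((X 2 : D i0) : Fin n → F) = 0
      rw [hX0, hX2, h.xz]
    · show Cfsg.Agent.S0795.pf Q ((X 1 : D i0) : Fin n → F) ((X 0 : D i0) : Fin n → F) = 0
      rw [hX0, hX1, hyx]
    · exact absurd rfl hjj
    · show Cfsg.Agent.S0795.pf Q ((X 1 : D i0) : Fin n → F) ((X 2 : D i0) : Fin n → F) = 0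
      rw [hX1, hX2, h.yz]
    · show Cfsg.Agent.S0795.pf Q ((X 2 : D i0) : Fin n → F) ((X 0 : D i0) : Fin n → F) = 0
      rw [hX0, hX2, hzx]
    · show Cfsg.Agent.S0795.pf Q ((X 2 : D i0) : Fin n → F) ((X 1 : D i0) : Fin n → F) = 0
      rw [hX1, hX2, hzy]
    · exact absurd rfl hjj
  -- every vector of norm `c` in block `0` is `± X j`
  have hP0 : ∀ v : D i0, Q (v : Fin n → F) = c → ∃ j, v = X j ∨ v = -X j := by
    intro v hv
    have := Cfsg.Agent.Lib.Helper28.OFrame.orth3_P hqf hq h hy hz (v : Fin n → F) v.2 (by rw [hv, hc])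
    rcases this with h1 | h1 | h1 | h1 | h1 | h1
    · exact ⟨0, Or.inl (Subtype.ext (by rw [hX0]; exact h1))⟩
    · exact ⟨0, Or.inr (Subtype.ext (by rw [Submodule.coe_neg, hX0]; exact h1))⟩
    · exact ⟨1, Or.inl (Subtype.ext (by rw [hX1]; exact h1))⟩
    · exact ⟨1, Or.inr (Subtype.ext (by rw [Submodule.coe_neg, hX1]; exact h1))⟩
    · exact ⟨2, Or.inl (Subtype.ext (by rw [hX2]; exact h1))⟩
    · exact ⟨2, Or.inr (Subtype.ext (by rw [Submodule.coe_neg, hX2]; exact h1))⟩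
  -- the nine vectors
  obtain ⟨e⟩ : Nonempty (Fin n ≃ Fin t × Fin 3) :=
    ⟨((finProdFinEquiv : Fin t × Fin 3 ≃ Fin (t * 3)).trans (finCongr hn)).symm⟩
  obtain ⟨w, hw⟩ : ∃ w : Fin n → (Fin n → F), ∀ m, w m = ((E (e m).1 (X (e m).2) : D (e m).1) : Fin n → F) :=
    ⟨_, fun _ => rfl⟩
  have hwD : ∀ m, w m ∈ D (e m).1 := fun m => by rw [hw]; exact Subtype.property _
  have hQw : ∀ m, Q (w m) = c := fun m => by rw [hw, hE, hQX]
  obtain ⟨κ, hκdef⟩ : ∃ κ : F, κ = 2 * c := ⟨_, rfl⟩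
  have hκ : κ ≠ 0 := by rw [hκdef]; exact mul_ne_zero h2 hc0
  have hpol_same : ∀ m, QuadraticMap.polar (⇑Q) (w m) (w m) = κ := by
    intro m
    rw [← hpf, Cfsg.Agent.Lib.Helper28.OQ.f_self hqf, hQw, hκdef]
  have hpol_ne : ∀ m m', m ≠ m' → QuadraticMap.polar (⇑Q) (w m) (w m') = 0 := by
    intro m m' hmm
    by_cases h1 : (e m).1 = (e m').1
    · have h2' : (e m).2 ≠ (e m').2 := by
        intro h2'
        exact hmm (e.injective (Prod.ext h1 h2'))
      have key : ∀ (i i' : Fin t) (hi : i = i') (a b : D i0),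
          Cfsg.Agent.S0795.pf Q ((E i a : D i) : Fin n → F) ((E i' b : D i') : Fin n → F) =
            Cfsg.Agent.S0795.pf Q (a : Fin n → F) (b : Fin n → F) := by
        intro i i' hi a b
        subst hi
        exact hEpf i a b
      rw [← hpf, hw, hw, key _ _ h1, hXo _ _ h2']
    · exact hD.decomp.orthogonal _ _ h1 _ (hwD m) _ (hwD m')
  -- every vector of norm `c` in block `i` is `± w (i, j)`
  have hP : ∀ i, ∀ v ∈ D i, Q v = c → ∃ j, v = w (e.symm (i, j)) ∨ v = -w (e.symm (i, j)) := by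
    intro i v hv hvQ
    obtain ⟨v', hv'⟩ : ∃ v' : D i0, E i v' = ⟨v, hv⟩ := ⟨(E i).symm ⟨v, hv⟩, LinearEquiv.apply_symm_apply _ _⟩
    have h1 : Q (v' : Fin n → F) = c := by
      rw [← hE i v', hv']
      exact hvQ
    have hwij : ∀ j, w (e.symm (i, j)) = ((E i (X j) : D i) : Fin n → F) := by
      intro j
      rw [hw]
      have h3 : e (e.symm (i, j)) = (i, j) := e.apply_symm_apply _
      have key : ∀ (p : Fin t × Fin 3), p = (i, j) →
          ((E p.1 (X p.2) : D p.1) : Fin n → F) = ((E i (X j) : D i) : Fin n → F) := by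
        intro p hp
        subst hp
        rfl
      exact key _ h3
    obtain ⟨j, hj | hj⟩ := hP0 v' h1
    · refine ⟨j, Or.inl ?_⟩
      rw [hwij, ← hj, hv']
    · refine ⟨j, Or.inr ?_⟩
      rw [hwij]
      have : ((E i v' : D i) : Fin n → F) = -((E i (X j) : D i) : Fin n → F) := by
        rw [hj, map_neg]
        rfl
      rw [← this, hv']
  refine ⟨fun m => Submodule.span F {w m}, o9d3q3_lines (by omega) h2 Q w κ hκ hpol_same hpol_ne, ?_⟩
  -- the stabiliser
  intro g hg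
  obtain ⟨⟨σ, hσ⟩, hgI⟩ := Subgroup.mem_inf.mp hg
  have hgQ : ∀ v : Fin n → F, Q ((g : Matrix (Fin n) (Fin n) F) *ᵥ v) = Q v := fun v => hgI v v
  have hgpol : ∀ u v, QuadraticMap.polar (⇑Q) ((g : Matrix (Fin n) (Fin n) F) *ᵥ u)
      ((g : Matrix (Fin n) (Fin n) F) *ᵥ v) = QuadraticMap.polar (⇑Q) u v := by
    intro u v
    unfold QuadraticMap.polar
    rw [← Matrix.mulVec_add, hgQ, hgQ, hgQ]
  have hex : ∀ m, ∃ (m' : Fin n) (s : F), s ≠ 0 ∧ (g : Matrix (Fin n) (Fin n) F) *ᵥ w m = s • w m' := by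
    intro m
    have h1 : (g : Matrix (Fin n) (Fin n) F) *ᵥ w m ∈ D (σ (e m).1) := by
      rw [← hσ]
      exact ⟨w m, hwD m, by rw [Matrix.toLin'_apply]⟩
    obtain ⟨j, hj | hj⟩ := hP _ _ h1 (by rw [hgQ, hQw])
    · exact ⟨_, 1, one_ne_zero, by rw [hj, one_smul]⟩
    · exact ⟨_, -1, neg_ne_zero.mpr one_ne_zero, by rw [hj, neg_one_smul]⟩
  choose φ s hs hφ using hex
  have hinj : Function.Injective φ := by
    intro m m' hmm
    by_contra hne
    have h1 := hgpol (w m) (w m')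
    obtain ⟨B, hB⟩ : ∃ B : LinearMap.BilinMap F (Fin n → F) F, B = QuadraticMap.polarBilin Q := ⟨_, rfl⟩
    have hBp : ∀ a b, B a b = QuadraticMap.polar (⇑Q) a b := fun a b => by rw [hB]; rfl
    rw [hpol_ne m m' hne, hφ m, hφ m', hmm, ← hBp, map_smul, map_smul, LinearMap.smul_apply, hBp, hpol_same,
      smul_eq_mul, smul_eq_mul] at h1
    exact mul_ne_zero (hs m') (mul_ne_zero (hs m) hκ) h1
  exact o9d3q3_stab w g (Equiv.ofBijective φ (Finite.injective_iff_bijective.1 hinj)) s hs hφ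

end Cfsg.Agent.Lib.Helper26.E12P
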