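import Mathlib
import Cfsg.Prelude.Def_GeometricClasses
import Cfsg.Agent.Lib.Helper13.EIG.Defs
import Cfsg.Agent.Lib.Helper13.EIG.Basic

set_option autoImplicit false
set_option linter.unusedVariables false
set_option linter.unusedSectionVars false

/-!
# Project EIG -> S5877, piece FIX (helper13, second writer): `exists_fixed`, VERBATIM vs the Skel.
Extras: `eigfix_psi_mul` (`psi g (u w) = psi g u * psi g w * cm u (psi g w)`), `eigfix_psi_inv`, `eigfix_psi_conj`.
-/

namespace Cfsg.Agent.Lib.Helper13.EIG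

open Matrix

variable {n : ℕ} {F : Type*} [Field F] {r : ℕ}
  {S : Subgroup (Matrix.GeneralLinearGroup (Fin n) F)}

theorem eigfix_psi_mul (H : Hyp r S) {g : Matrix.GeneralLinearGroup (Fin n) F}
    (hg : g ∈ Cfsg.Geo.subgroupNormalizer S) {u w : Matrix.GeneralLinearGroup (Fin n) F} (hu : u ∈ S)
    (hw : w ∈ S) : psi g (u * w) = psi g u * psi g w * cm u (psi g w) := by
  have h1 : psi g (u * w) = psi g u * (cm u (psi g w) * psi g w) := by
    unfold psi cm; group
  rw [h1, cm_central H hu (psi_mem1 hg hw), mul_assoc]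

theorem eigfix_psi_one (g : Matrix.GeneralLinearGroup (Fin n) F) : psi g 1 = 1 := by
  unfold psi; group

theorem eigfix_psi_inv (H : Hyp r S) {g : Matrix.GeneralLinearGroup (Fin n) F}
    (hg : g ∈ Cfsg.Geo.subgroupNormalizer S) {u : Matrix.GeneralLinearGroup (Fin n) F} (hu : u ∈ S) :
    (psi g u)⁻¹ = psi g u⁻¹ * cm u (psi g u⁻¹) := by
  have h := eigfix_psi_mul H hg hu (S.inv_mem hu)
  rw [mul_inv_cancel, eigfix_psi_one, mul_assoc] at h
  exact inv_eq_of_mul_eq_one_right h.symm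

theorem eigfix_psi_conj (g x : Matrix.GeneralLinearGroup (Fin n) F) :
    g⁻¹ * psi g x * g = psi g (g⁻¹ * x * g) := by
  unfold psi; group

theorem eigfix_pow_fix {a : Matrix.GeneralLinearGroup (Fin n) F} {v : Fin n → F}
    (ha : (a : Matrix (Fin n) (Fin n) F) *ᵥ v = v) (k : ℕ) :
    ((a ^ k : Matrix.GeneralLinearGroup (Fin n) F) : Matrix (Fin n) (Fin n) F) *ᵥ v = v := by
  induction k with
  | zero => rw [pow_zero, mv_one]
  | succ k ih => rw [pow_succ, mv_mul, ha, ih]

theorem eigfix_inv_fix {a : Matrix.GeneralLinearGroup (Fin n) F} {v : Fin n → F}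
    (ha : (a : Matrix (Fin n) (Fin n) F) *ᵥ v = v) :
    ((a⁻¹ : Matrix.GeneralLinearGroup (Fin n) F) : Matrix (Fin n) (Fin n) F) *ᵥ v = v := by
  conv_lhs => rw [← ha]
  exact mv_inv_mv a v

theorem exists_fixed [Finite F] (H : Hyp r S) {g : Matrix.GeneralLinearGroup (Fin n) F}
    (hg : g ∈ Cfsg.Geo.subgroupNormalizer S) (hord : g ^ r = 1) {c : F} {v : Fin n → F} (hv0 : v ≠ 0)
    (hv : v ∈ Eig g c) {x : Matrix.GeneralLinearGroup (Fin n) F} (hx : x ∈ S)
    (hxn : psi g x ∉ Cfsg.Geo.scalars (Fin n) F)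
    (hxv : (psi g x : Matrix (Fin n) (Fin n) F) *ᵥ v = v) :
    ∃ x' ∈ S, psi g x' ∉ Cfsg.Geo.scalars (Fin n) F ∧ g * psi g x' = psi g x' * g := by
  classical
  haveI : Fact r.Prime := ⟨H.prime⟩
  have hgv : (g : Matrix (Fin n) (Fin n) F) *ᵥ v = c • v := mem_Eig.1 hv
  have hconjfix : ∀ a : Matrix.GeneralLinearGroup (Fin n) F,
      (a : Matrix (Fin n) (Fin n) F) *ᵥ v = v →
      ((g⁻¹ * a * g : Matrix.GeneralLinearGroup (Fin n) F) : Matrix (Fin n) (Fin n) F) *ᵥ v = v := by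
    intro a ha
    rw [mv_mul, mv_mul, hgv, Matrix.mulVec_smul, ha, ← hgv, mv_inv_mv]
  -- the subgroup `C`
  let C : Subgroup (Matrix.GeneralLinearGroup (Fin n) F) :=
    { carrier := {a | a ∈ S ∧ (a : Matrix (Fin n) (Fin n) F) *ᵥ v = v ∧
        ∃ x' ∈ S, ∃ z ∈ Cfsg.Geo.scalars (Fin n) F, a = psi g x' * z}
      one_mem' := by
        refine ⟨S.one_mem, mv_one v, 1, S.one_mem, 1, Subgroup.one_mem _, ?_⟩
        rw [eigfix_psi_one, one_mul]
      mul_mem' := by
        rintro a b ⟨haS, hav, u, hu, z1, hz1, rfl⟩ ⟨hbS, hbv, w, hw, z2, hz2, rfl⟩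
        refine ⟨S.mul_mem haS hbS, by rw [mv_mul, hbv, hav], u * w, S.mul_mem hu hw,
          (cm u (psi g w))⁻¹ * z1 * z2, ?_, ?_⟩
        · exact Subgroup.mul_mem _ (Subgroup.mul_mem _
            (Subgroup.inv_mem _ (H.comm_mem u hu _ (psi_mem1 hg hw))) hz1) hz2
        · rw [eigfix_psi_mul H hg hu hw]
          calc psi g u * z1 * (psi g w * z2) = psi g u * (z1 * psi g w) * z2 := by group
            _ = psi g u * (psi g w * z1) * z2 := by rw [scalar_comm hz1]
            _ = psi g u * psi g w * cm u (psi g w) * ((cm u (psi g w))⁻¹ * z1 * z2) := by group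
      inv_mem' := by
        rintro a ⟨haS, hav, u, hu, z, hz, rfl⟩
        refine ⟨S.inv_mem haS, eigfix_inv_fix hav, u⁻¹, S.inv_mem hu,
          cm u (psi g u⁻¹) * z⁻¹, ?_, ?_⟩
        · exact Subgroup.mul_mem _ (H.comm_mem u hu _ (psi_mem1 hg (S.inv_mem hu)))
            (Subgroup.inv_mem _ hz)
        · rw [_root_.mul_inv_rev, eigfix_psi_inv H hg hu,
            scalar_comm (Subgroup.inv_mem _ hz) (psi g u⁻¹ * cm u (psi g u⁻¹))]
          group }
  have hCmem : ∀ a, a ∈ C ↔ (a ∈ S ∧ (a : Matrix (Fin n) (Fin n) F) *ᵥ v = v ∧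
        ∃ x' ∈ S, ∃ z ∈ Cfsg.Geo.scalars (Fin n) F, a = psi g x' * z) := fun a => Iff.rfl
  -- conjugation by `g⁻¹` preserves `C`
  have hCconj : ∀ a ∈ C, g⁻¹ * a * g ∈ C := by
    rintro a ⟨haS, hav, u, hu, z, hz, rfl⟩
    refine ⟨conj_mem' hg haS, hconjfix _ hav, g⁻¹ * u * g, conj_mem' hg hu, z, hz, ?_⟩
    rw [← eigfix_psi_conj]
    calc g⁻¹ * (psi g u * z) * g = g⁻¹ * psi g u * (z * g) := by group
      _ = g⁻¹ * psi g u * (g * z) := by rw [scalar_comm hz]
      _ = g⁻¹ * psi g u * g * z := by group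
  -- elements of `C` have `r`-th power one, and `C ∩ Z = 1`
  have hCscal : ∀ a ∈ C, a ∈ Cfsg.Geo.scalars (Fin n) F → a = 1 := by
    rintro a ⟨_, hav, _⟩ haz
    exact eq_one_of_fix haz hv0 hav
  have hCpow : ∀ a ∈ C, a ^ r = 1 := by
    rintro a ⟨haS, hav, _⟩
    exact eq_one_of_fix (pow_mem_scalars H haS) hv0 (eigfix_pow_fix hav r)
  -- `psi g x ∈ C`
  have hxC : psi g x ∈ C := ⟨psi_mem1 hg hx, hxv, x, hx, 1, Subgroup.one_mem _, (mul_one _).symm⟩
  have hx1 : psi g x ≠ 1 := by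
    intro h1
    apply hxn
    rw [h1]; exact Subgroup.one_mem _
  haveI : Finite (Matrix.GeneralLinearGroup (Fin n) F) := inferInstance
  haveI : Fintype C := Fintype.ofFinite _
  -- `r ∣ card C`
  have hdvd : r ∣ Fintype.card C := by
    have h1 : orderOf (⟨psi g x, hxC⟩ : C) = r := by
      apply orderOf_eq_prime
      · apply Subtype.ext
        rw [Subgroup.coe_pow]
        exact hCpow _ hxC
      · intro h1
        apply hx1
        exact congrArg Subtype.val h1
    rw [← h1]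
    exact orderOf_dvd_card
  -- the permutation
  let fC : C → C := fun a => ⟨g⁻¹ * (a : Matrix.GeneralLinearGroup (Fin n) F) * g, hCconj a a.2⟩
  have hinj : Function.Injective fC := by
    intro a b hab
    have h1 : g⁻¹ * (a : Matrix.GeneralLinearGroup (Fin n) F) * g =
        g⁻¹ * (b : Matrix.GeneralLinearGroup (Fin n) F) * g := congrArg Subtype.val hab
    apply Subtype.ext
    have h2 : g * (g⁻¹ * (a : Matrix.GeneralLinearGroup (Fin n) F) * g) * g⁻¹ =
        g * (g⁻¹ * (b : Matrix.GeneralLinearGroup (Fin n) F) * g) * g⁻¹ := by rw [h1]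
    calc (a : Matrix.GeneralLinearGroup (Fin n) F) = g * (g⁻¹ * a * g) * g⁻¹ := by group
      _ = g * (g⁻¹ * b * g) * g⁻¹ := h2
      _ = b := by group
  let σ : Equiv.Perm C := Equiv.ofBijective fC (Finite.injective_iff_bijective.1 hinj)
  have hσpow : ∀ (k : ℕ) (a : C), (((σ ^ k) a : C) : Matrix.GeneralLinearGroup (Fin n) F) =
      (g ^ k)⁻¹ * (a : Matrix.GeneralLinearGroup (Fin n) F) * g ^ k := by
    intro k
    induction k with
    | zero => intro a; simp
    | succ k ih =>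
      intro a
      rw [pow_succ', Equiv.Perm.mul_apply]
      change g⁻¹ * (((σ ^ k) a : C) : Matrix.GeneralLinearGroup (Fin n) F) * g = _
      rw [ih a, pow_succ]
      group
  have hσr : σ ^ r ^ 1 = 1 := by
    rw [pow_one]
    apply Equiv.ext
    intro a
    apply Subtype.ext
    rw [hσpow r a, hord]
    simp
  have hσ1 : σ (1 : C) = 1 := by
    apply Subtype.ext
    change g⁻¹ * ((1 : C) : Matrix.GeneralLinearGroup (Fin n) F) * g = _
    simp
  obtain ⟨b, hb, hb1⟩ := Equiv.Perm.exists_fixed_point_of_prime' hdvd hσr hσ1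
  have hbfix : g⁻¹ * (b : Matrix.GeneralLinearGroup (Fin n) F) * g = b := congrArg Subtype.val hb
  obtain ⟨hbS, hbv, x', hx', z, hz, hbe⟩ := b.2
  have hbne : (b : Matrix.GeneralLinearGroup (Fin n) F) ≠ 1 := by
    intro h1
    apply hb1
    exact Subtype.ext h1
  refine ⟨x', hx', ?_, ?_⟩
  · intro hps
    apply hbne
    apply hCscal _ b.2
    rw [hbe]
    exact Subgroup.mul_mem _ hps hz
  · -- g commutes with b and z
    have hgb : g * (b : Matrix.GeneralLinearGroup (Fin n) F) = b * g := by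
      calc g * (b : Matrix.GeneralLinearGroup (Fin n) F) = g * (g⁻¹ * b * g) := by rw [hbfix]
        _ = b * g := by group
    have hp : psi g x' = (b : Matrix.GeneralLinearGroup (Fin n) F) * z⁻¹ := by
      rw [hbe]; group
    rw [hp]
    calc g * ((b : Matrix.GeneralLinearGroup (Fin n) F) * z⁻¹) = (g * b) * z⁻¹ := by group
      _ = (b * g) * z⁻¹ := by rw [hgb]
      _ = b * (g * z⁻¹) := by group
      _ = b * (z⁻¹ * g) := by rw [scalar_comm (Subgroup.inv_mem _ hz) g]
      _ = b * z⁻¹ * g := by group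

end Cfsg.Agent.Lib.Helper13.EIG
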