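import Mathlib
import Cfsg.Prelude.Def_GeometricClasses
import Cfsg.Agent.Lib.Helper13.EIG.Defs
import Cfsg.Agent.Lib.Helper13.EIG.Basic

set_option autoImplicit false
set_option linter.unusedVariables false
set_option linter.unusedSectionVars false

/-!
# Project EIG -> S5877, piece INT (helper13): `inter_fix`, `inter_finrank`, `two_w_le`, `exists_fix`, VERBATIM vs the Skel.
Extras: `eigint_pow_mv` (`g^k v = c^k v` on `Eig g c`).
-/

namespace Cfsg.Agent.Lib.Helper13.EIG

open Matrix

variable {n : ℕ} {F : Type*} [Field F] {r : ℕ}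
  {S : Subgroup (Matrix.GeneralLinearGroup (Fin n) F)}

theorem eigint_pow_mv {g : Matrix.GeneralLinearGroup (Fin n) F} {c : F} {v : Fin n → F}
    (hv : v ∈ Eig g c) (k : ℕ) :
    ((g ^ k : Matrix.GeneralLinearGroup (Fin n) F) : Matrix (Fin n) (Fin n) F) *ᵥ v = c ^ k • v := by
  rw [mem_Eig] at hv
  induction k with
  | zero => rw [pow_zero, pow_zero, one_smul, mv_one]
  | succ k ih => rw [pow_succ, mv_mul, hv, Matrix.mulVec_smul, ih, smul_smul, pow_succ, mul_comm]

theorem inter_fix (g x : Matrix.GeneralLinearGroup (Fin n) F) (c : F) {v : Fin n → F}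
    (hv : v ∈ Eig g c ⊓ (Eig g c).map (lin x).toLinearMap) (k : ℕ) :
    (psi (g ^ k) x : Matrix (Fin n) (Fin n) F) *ᵥ v = v := by
  obtain ⟨hv1, hv2⟩ := Submodule.mem_inf.1 hv
  rw [mem_map_lin] at hv2
  unfold psi
  rw [mv_mul, mv_mul, mv_mul, eigint_pow_mv hv2 k, Matrix.mulVec_smul, mv_mv_inv, Matrix.mulVec_smul,
    ← Matrix.mulVec_smul, ← eigint_pow_mv hv1 k, mv_inv_mv]

theorem inter_finrank (g x : Matrix.GeneralLinearGroup (Fin n) F) (c : F) :
    2 * Module.finrank F (Eig g c) ≤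
      n + Module.finrank F (Eig g c ⊓ (Eig g c).map (lin x).toLinearMap : Submodule F (Fin n → F)) := by
  have h1 := Submodule.finrank_sup_add_finrank_inf_eq (Eig g c) ((Eig g c).map (lin x).toLinearMap)
  rw [finrank_map_lin] at h1
  have h2 : Module.finrank F (Eig g c ⊔ (Eig g c).map (lin x).toLinearMap :
      Submodule F (Fin n → F)) ≤ n := by
    have := Submodule.finrank_le (Eig g c ⊔ (Eig g c).map (lin x).toLinearMap)
    rwa [Module.finrank_fin_fun] at this
  omega

theorem two_w_le (g x : Matrix.GeneralLinearGroup (Fin n) F) (c : F) (k : ℕ) :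
    2 * Module.finrank F (Eig g c) ≤ n + Module.finrank F (Eig (psi (g ^ k) x) 1) := by
  have h1 := inter_finrank g x c
  have h2 : (Eig g c ⊓ (Eig g c).map (lin x).toLinearMap : Submodule F (Fin n → F)) ≤
      Eig (psi (g ^ k) x) 1 := by
    intro v hv
    rw [mem_Eig, one_smul]
    exact inter_fix g x c hv k
  have h3 := Submodule.finrank_mono h2
  omega

theorem exists_fix (g x : Matrix.GeneralLinearGroup (Fin n) F) (c : F)
    (h : n < 2 * Module.finrank F (Eig g c)) :
    ∃ v : Fin n → F, v ≠ 0 ∧ v ∈ Eig g c ∧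
      ∀ k : ℕ, (psi (g ^ k) x : Matrix (Fin n) (Fin n) F) *ᵥ v = v := by
  have h1 := inter_finrank g x c
  have h2 : 0 < Module.finrank F (Eig g c ⊓ (Eig g c).map (lin x).toLinearMap :
      Submodule F (Fin n → F)) := by omega
  rw [Module.finrank_pos_iff_exists_ne_zero] at h2
  obtain ⟨⟨v, hv⟩, hv0⟩ := h2
  refine ⟨v, ?_, (Submodule.mem_inf.1 hv).1, fun k => inter_fix g x c hv k⟩
  intro h0
  apply hv0
  exact Subtype.ext h0

end Cfsg.Agent.Lib.Helper13.EIG
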