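import Mathlib
import Cfsg.Prelude.Def_GeometricClasses
import Cfsg.Agent.Lib.Helper13.EIG.Defs
import Cfsg.Agent.Lib.Helper13.EIG.Basic
import Cfsg.Agent.Lib.Helper13.EIGINT

set_option autoImplicit false
set_option linter.unusedVariables false
set_option linter.unusedSectionVars false

/-!
# Project EIG -> S5877, piece L1 (helper13): `l1_bound`, `bound_of_triv`, VERBATIM vs the Skel.
`eigl1_core` takes the statement of `eig_dim_le` (piece DIM) as a hypothesis; the verbatim `l1_bound` is in `EIGL1b.lean`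
once DIM is on main.
-/

namespace Cfsg.Agent.Lib.Helper13.EIG

open Matrix

variable {n : ℕ} {F : Type*} [Field F] {r : ℕ}
  {S : Subgroup (Matrix.GeneralLinearGroup (Fin n) F)}

theorem eigl1_exists (H : Hyp r S) {g : Matrix.GeneralLinearGroup (Fin n) F}
    (hg : g ∈ Cfsg.Geo.subgroupNormalizer S) (hns : g ∉ Cfsg.Geo.scalars (Fin n) F) :
    ∃ x ∈ S, psi g x ∈ S ∧ psi g x ≠ 1 := by
  obtain ⟨x, hx, hne⟩ := exists_noncomm H hns
  refine ⟨x, hx, psi_mem1 hg hx, ?_⟩
  intro h1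
  exact hne ((psi_eq_one_iff g x).1 h1)

theorem bound_of_triv (H : Hyp r S) {g : Matrix.GeneralLinearGroup (Fin n) F}
    (hg : g ∈ Cfsg.Geo.subgroupNormalizer S) (hns : g ∉ Cfsg.Geo.scalars (Fin n) F)
    (htriv : ∀ u ∈ S, psi g u ∈ Cfsg.Geo.scalars (Fin n) F) (c : F) :
    2 * Module.finrank F (Eig g c) ≤ n := by
  obtain ⟨x, hx, hxS, hx1⟩ := eigl1_exists H hg hns
  have h1 := two_w_le g x c 1
  rw [pow_one, eig_one_scalar (htriv x hx) hx1, finrank_bot] at h1
  omega

theorem eigl1_core (H : Hyp r S)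
    (hdim : ∀ {y : Matrix.GeneralLinearGroup (Fin n) F}, y ∈ S → y ∉ Cfsg.Geo.scalars (Fin n) F →
      ∀ θ : F, r * Module.finrank F (Eig y θ) ≤ n)
    {g : Matrix.GeneralLinearGroup (Fin n) F}
    (hg : g ∈ Cfsg.Geo.subgroupNormalizer S) (hns : g ∉ Cfsg.Geo.scalars (Fin n) F) (c : F) :
    2 * Module.finrank F (Eig g c) ≤ n ∨ 2 * r * Module.finrank F (Eig g c) ≤ (r + 1) * n := by
  obtain ⟨x, hx, hxS, hx1⟩ := eigl1_exists H hg hns
  have h1 := two_w_le g x c 1
  rw [pow_one] at h1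
  by_cases hz : psi g x ∈ Cfsg.Geo.scalars (Fin n) F
  · left
    rw [eig_one_scalar hz hx1, finrank_bot] at h1
    omega
  · right
    have h2 := hdim hxS hz 1
    calc 2 * r * Module.finrank F (Eig g c) = r * (2 * Module.finrank F (Eig g c)) := by ring
      _ ≤ r * (n + Module.finrank F (Eig (psi g x) 1)) := Nat.mul_le_mul_left _ h1
      _ = r * n + r * Module.finrank F (Eig (psi g x) 1) := by ring
      _ ≤ r * n + n := Nat.add_le_add_left h2 _
      _ = (r + 1) * n := by ring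

end Cfsg.Agent.Lib.Helper13.EIG
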