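import Mathlib
import Cfsg.Prelude.Def_GeometricClasses
import Cfsg.Agent.Lib.Helper13.EIG.Defs
import Cfsg.Agent.Lib.Helper13.EIG.Basic
import Cfsg.Agent.Lib.Helper13.EIGL1
import Cfsg.Agent.Lib.Helper1.EIGDIM

set_option autoImplicit false
set_option linter.unusedVariables false
set_option linter.unusedSectionVars false

/-!
# Project EIG -> S5877, piece L1 (helper13): `l1_bound`, VERBATIM vs the Skel (`bound_of_triv` is in `EIGL1.lean`).
-/

namespace Cfsg.Agent.Lib.Helper13.EIG

open Matrix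

variable {n : ℕ} {F : Type*} [Field F] {r : ℕ}
  {S : Subgroup (Matrix.GeneralLinearGroup (Fin n) F)}

theorem l1_bound (H : Hyp r S) {g : Matrix.GeneralLinearGroup (Fin n) F}
    (hg : g ∈ Cfsg.Geo.subgroupNormalizer S) (hns : g ∉ Cfsg.Geo.scalars (Fin n) F) (c : F) :
    2 * Module.finrank F (Eig g c) ≤ n ∨ 2 * r * Module.finrank F (Eig g c) ≤ (r + 1) * n :=
  eigl1_core H (fun hy hyn θ => eig_dim_le H hy hyn θ) hg hns c

end Cfsg.Agent.Lib.Helper13.EIG
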