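import Mathlib
import Cfsg.Prelude.Def_GeometricClasses
import Cfsg.Agent.Lib.Helper13.EIG.Defs
import Cfsg.Agent.Lib.Helper13.EIG.Basic
import Cfsg.Agent.Lib.Helper13.EIGINT

set_option autoImplicit false
set_option linter.unusedVariables false
set_option linter.unusedSectionVars false

/-!
# Project EIG -> S5877, piece ODDA (helper13): `psi_commute`, VERBATIM vs the Skel.
Extra: `eigodda_commute_of_fix` (two elements of `S` fixing a common non-zero vector commute), `eigodda_inv_fix`.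
-/

namespace Cfsg.Agent.Lib.Helper13.EIG

open Matrix

variable {n : ℕ} {F : Type*} [Field F] {r : ℕ}
  {S : Subgroup (Matrix.GeneralLinearGroup (Fin n) F)}

theorem eigodda_inv_fix {a : Matrix.GeneralLinearGroup (Fin n) F} {v : Fin n → F}
    (ha : (a : Matrix (Fin n) (Fin n) F) *ᵥ v = v) :
    ((a⁻¹ : Matrix.GeneralLinearGroup (Fin n) F) : Matrix (Fin n) (Fin n) F) *ᵥ v = v := by
  conv_lhs => rw [← ha]
  exact mv_inv_mv a v

/-- two elements of `S` fixing a common non-zero vector commute -/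
theorem eigodda_commute_of_fix (H : Hyp r S) {a b : Matrix.GeneralLinearGroup (Fin n) F} (ha : a ∈ S)
    (hb : b ∈ S) {v : Fin n → F} (hv : v ≠ 0) (hav : (a : Matrix (Fin n) (Fin n) F) *ᵥ v = v)
    (hbv : (b : Matrix (Fin n) (Fin n) F) *ᵥ v = v) : a * b = b * a := by
  rw [← cm_eq_one_iff]
  apply eq_one_of_fix (H.comm_mem a ha b hb) hv
  unfold cm
  rw [mv_mul, mv_mul, mv_mul, eigodda_inv_fix hbv, eigodda_inv_fix hav, hbv, hav]

theorem psi_commute (H : Hyp r S) {g : Matrix.GeneralLinearGroup (Fin n) F}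
    (hg : g ∈ Cfsg.Geo.subgroupNormalizer S) (c : F) (hw : n < 2 * Module.finrank F (Eig g c))
    {x : Matrix.GeneralLinearGroup (Fin n) F} (hx : x ∈ S) (k l : ℕ) :
    psi (g ^ k) x * psi (g ^ l) x = psi (g ^ l) x * psi (g ^ k) x := by
  obtain ⟨v, hv0, _, hfix⟩ := exists_fix g x c hw
  exact eigodda_commute_of_fix H (psi_mem hg k hx) (psi_mem hg l hx) hv0 (hfix k) (hfix l)

end Cfsg.Agent.Lib.Helper13.EIG
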