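import Mathlib
import Cfsg.Prelude.Def_GeometricClasses
import Cfsg.Agent.Lib.Helper13.EIG.Defs
import Cfsg.Agent.Lib.Helper13.EIG.Basic

set_option autoImplicit false
set_option linter.unusedVariables false
set_option linter.unusedSectionVars false

/-!
# Project EIG -> S5877, piece ODDC (helper13): `polar`, VERBATIM vs the Skel.
-/

namespace Cfsg.Agent.Lib.Helper13.EIG

open Matrix

variable {n : ℕ} {F : Type*} [Field F] {r : ℕ}
  {S : Subgroup (Matrix.GeneralLinearGroup (Fin n) F)}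

theorem polar (H : Hyp r S) {g : Matrix.GeneralLinearGroup (Fin n) F}
    (hg : g ∈ Cfsg.Geo.subgroupNormalizer S)
    (hall : ∀ x ∈ S, x * (g⁻¹ * x * g) = (g⁻¹ * x * g) * x) :
    ∀ u ∈ S, psi (g ^ 2) u ∈ Cfsg.Geo.scalars (Fin n) F := by
  -- the polarised identity
  have hpol : ∀ x ∈ S, ∀ y ∈ S, cm x (g⁻¹ * y * g) * cm y (g⁻¹ * x * g) = 1 := by
    intro x hx y hy
    have hφx : g⁻¹ * x * g ∈ S := conj_mem' hg hx
    have hφy : g⁻¹ * y * g ∈ S := conj_mem' hg hy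
    have h1 := (cm_eq_one_iff _ _).2 (hall (x * y) (S.mul_mem hx hy))
    have e : g⁻¹ * (x * y) * g = (g⁻¹ * x * g) * (g⁻¹ * y * g) := by group
    rw [e, cm_mul_left H hx hy (S.mul_mem hφx hφy), cm_mul_right H hx hφx hφy,
      cm_mul_right H hy hφx hφy, (cm_eq_one_iff _ _).2 (hall x hx),
      (cm_eq_one_iff _ _).2 (hall y hy), one_mul, mul_one] at h1
    exact h1
  -- `t = φ y (φ⁻¹ y)⁻¹` is central
  have hcen : ∀ y ∈ S, (g⁻¹ * y * g) * (g * y * g⁻¹)⁻¹ ∈ Cfsg.Geo.scalars (Fin n) F := by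
    intro y hy
    have hφy : g⁻¹ * y * g ∈ S := conj_mem' hg hy
    have hψy : g * y * g⁻¹ ∈ S := conj_mem hg hy
    apply H.cent
    intro x hx
    have hφx : g⁻¹ * x * g ∈ S := conj_mem' hg hx
    have h1 := hpol x hx y hy
    -- cm y (φ x) = cm (φ⁻¹ y) x
    have h2 : cm y (g⁻¹ * x * g) = cm (g * y * g⁻¹) x := by
      have := cm_conj H hψy hx g⁻¹
      rw [inv_inv] at this
      rw [← this]
      congr 1
      group
    rw [h2] at h1
    have h3 : cm x ((g⁻¹ * y * g) * (g * y * g⁻¹)⁻¹) = 1 := by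
      rw [cm_mul_right H hx hφy (S.inv_mem hψy), cm_inv_right H hx hψy, ← cm_inv_swap (g * y * g⁻¹) x,
        inv_inv]
      exact h1
    exact ((cm_eq_one_iff _ _).1 h3).symm
  intro u hu
  have := hcen (g⁻¹ * u * g) (conj_mem' hg hu)
  have e : (g⁻¹ * (g⁻¹ * u * g) * g) * (g * (g⁻¹ * u * g) * g⁻¹)⁻¹ = psi (g ^ 2) u := by
    unfold psi; rw [pow_two]; group
  rwa [e] at this

end Cfsg.Agent.Lib.Helper13.EIG
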