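import Mathlib
import Cfsg.Prelude.Def_GeometricClasses
import Cfsg.Agent.Lib.Helper13.EIG.Defs
import Cfsg.Agent.Lib.Helper13.EIG.Basic

set_option autoImplicit false
set_option linter.unusedVariables false
set_option linter.unusedSectionVars false

/-!
# Project EIG -> S5877, piece ODDD (helper13): `odd_triv`, VERBATIM vs the Skel.
Extra: `eigoddd_pow` (`psi h u ∈ Z` for all `u ∈ S` gives `psi (h^m) u ∈ Z` for all `u ∈ S`).
-/

namespace Cfsg.Agent.Lib.Helper13.EIG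

open Matrix

variable {n : ℕ} {F : Type*} [Field F] {r : ℕ}
  {S : Subgroup (Matrix.GeneralLinearGroup (Fin n) F)}

theorem eigoddd_pow {h : Matrix.GeneralLinearGroup (Fin n) F}
    (h1 : ∀ u ∈ S, psi h u ∈ Cfsg.Geo.scalars (Fin n) F) (m : ℕ) :
    ∀ u ∈ S, psi (h ^ m) u ∈ Cfsg.Geo.scalars (Fin n) F := by
  induction m with
  | zero =>
    intro u hu
    have : psi (h ^ 0) u = 1 := by unfold psi; group
    rw [this]; exact Subgroup.one_mem _
  | succ m ih =>
    intro u hu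
    have e : psi (h ^ (m + 1)) u = h⁻¹ * psi (h ^ m) u * h * psi h u := by
      unfold psi; rw [pow_succ]; group
    rw [e, ← scalar_comm (ih u hu) h⁻¹, mul_assoc (psi (h ^ m) u), inv_mul_cancel, mul_one]
    exact Subgroup.mul_mem _ (ih u hu) (h1 u hu)

theorem odd_triv (H : Hyp r S) {g : Matrix.GeneralLinearGroup (Fin n) F}
    (hg : g ∈ Cfsg.Geo.subgroupNormalizer S) {ϖ : ℕ} (hodd : Odd ϖ) (hpow : g ^ ϖ = 1)
    (h2 : ∀ u ∈ S, psi (g ^ 2) u ∈ Cfsg.Geo.scalars (Fin n) F) :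
    ∀ u ∈ S, psi g u ∈ Cfsg.Geo.scalars (Fin n) F := by
  obtain ⟨j, hj⟩ := hodd
  have e : (g ^ 2) ^ (j + 1) = g := by
    rw [← pow_mul]
    have : 2 * (j + 1) = ϖ + 1 := by omega
    rw [this, pow_succ, hpow, one_mul]
  intro u hu
  have := eigoddd_pow h2 (j + 1) u hu
  rwa [e] at this

end Cfsg.Agent.Lib.Helper13.EIG
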