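import Mathlib
import Cfsg.Prelude.Def_GeometricClasses
import Cfsg.Agent.Lib.Helper13.EIG.Defs
import Cfsg.Agent.Lib.Helper13.EIG.Basic

set_option autoImplicit false
set_option linter.unusedVariables false
set_option linter.unusedSectionVars false

/-!
# Project EIG -> S5877, piece RDVD (helper13): `r_dvd`, VERBATIM vs the Skel.
-/

namespace Cfsg.Agent.Lib.Helper13.EIG

open Matrix

variable {n : ℕ} {F : Type*} [Field F] {r : ℕ}
  {S : Subgroup (Matrix.GeneralLinearGroup (Fin n) F)}

theorem r_dvd (H : Hyp r S) : r ∣ n := by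
  obtain ⟨u, hu, v, hv, hne⟩ := H.nonab
  obtain ⟨a, ha, hact⟩ := cm_prim H hu hv hne
  have hmat : (cm u v : Matrix (Fin n) (Fin n) F) = a • (1 : Matrix (Fin n) (Fin n) F) := by
    apply Matrix.toLin'.injective
    apply LinearMap.ext
    intro w
    rw [Matrix.toLin'_apply, hact w]
    simp
  have hdet1 : Matrix.GeneralLinearGroup.det (cm u v) = 1 := by
    unfold cm
    rw [map_mul, map_mul, map_mul, map_inv, map_inv]
    rw [mul_comm (Matrix.GeneralLinearGroup.det u) (Matrix.GeneralLinearGroup.det v), mul_assoc,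
      mul_assoc, mul_inv_cancel_left, mul_inv_cancel]
  have hdet2 : (cm u v : Matrix (Fin n) (Fin n) F).det = 1 := by
    have := congrArg (fun z : Fˣ => (z : F)) hdet1
    simpa using this
  rw [hmat, Matrix.det_smul, Matrix.det_one, mul_one, Fintype.card_fin] at hdet2
  exact ha.dvd_of_pow_eq_one n hdet2

end Cfsg.Agent.Lib.Helper13.EIG
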