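import Mathlib
import Cfsg.Prelude.Def_GeometricClasses
import Cfsg.Agent.Lib.Helper13.EIG.Defs
import Cfsg.Agent.Lib.Helper13.EIG.Basic

set_option autoImplicit false
set_option linter.unusedVariables false
set_option linter.unusedSectionVars false

/-!
# Project EIG -> S5877, piece SETUP (helper13, second writer): `hyp_of_extraspecial`, VERBATIM vs the Skel.
-/

namespace Cfsg.Agent.Lib.Helper13.EIG

open Matrix

open scoped commutatorElement

/-- a central factor on the left does not change `cm` -/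
theorem eigsetup_cm_left {n : ℕ} {F : Type*} [Field F] (x y z : Matrix.GeneralLinearGroup (Fin n) F)
    (hz : ∀ h : Matrix.GeneralLinearGroup (Fin n) F, z * h = h * z) : cm (x * z) y = cm x y := by
  unfold cm
  calc (x * z) * y * (x * z)⁻¹ * y⁻¹ = x * (z * y) * z⁻¹ * x⁻¹ * y⁻¹ := by group
    _ = x * (y * z) * z⁻¹ * x⁻¹ * y⁻¹ := by rw [hz y]
    _ = x * y * x⁻¹ * y⁻¹ := by group

/-- a central factor on the right does not change `cm` -/
theorem eigsetup_cm_right {n : ℕ} {F : Type*} [Field F] (x y z : Matrix.GeneralLinearGroup (Fin n) F)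
    (hz : ∀ h : Matrix.GeneralLinearGroup (Fin n) F, z * h = h * z) : cm x (y * z) = cm x y := by
  unfold cm
  calc x * (y * z) * x⁻¹ * (y * z)⁻¹ = x * y * (z * x⁻¹) * z⁻¹ * y⁻¹ := by group
    _ = x * y * (x⁻¹ * z) * z⁻¹ * y⁻¹ := by rw [hz x⁻¹]
    _ = x * y * x⁻¹ * y⁻¹ := by group

/-- a matrix commuting with `R` is a scalar -/
theorem eigsetup_cent {n : ℕ} {F : Type*} [Field F]
    (R : Subgroup (Matrix.GeneralLinearGroup (Fin n) F))
    (hirr : Cfsg.Geo.ActsAbsolutelyIrreducibly (Cfsg.Geo.matrixSet R))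
    (h : Matrix.GeneralLinearGroup (Fin n) F) (hc : ∀ s ∈ R, h * s = s * h) :
    h ∈ Cfsg.Geo.scalars (Fin n) F := by
  obtain ⟨c, hcm⟩ := hirr.2 (h : Matrix (Fin n) (Fin n) F) (by
    rintro s ⟨x, hx, rfl⟩
    have := congrArg (fun t : Matrix.GeneralLinearGroup (Fin n) F =>
      (t : Matrix (Fin n) (Fin n) F)) (hc x hx)
    simpa using this)
  apply mem_scalars_of_mv (a := c)
  intro v
  rw [hcm, Matrix.smul_mulVec, Matrix.one_mulVec]

/-- commutators of `R` are scalars of `r`-th power one -/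
theorem eigsetup_comm {n r : ℕ} {F : Type*} [Field F]
    (R : Subgroup (Matrix.GeneralLinearGroup (Fin n) F))
    (hZ : Nat.card (Subgroup.center R) = r) (hext : commutator R = Subgroup.center R)
    (hirr : Cfsg.Geo.ActsAbsolutelyIrreducibly (Cfsg.Geo.matrixSet R))
    {x y : Matrix.GeneralLinearGroup (Fin n) F} (hx : x ∈ R) (hy : y ∈ R) :
    cm x y ∈ Cfsg.Geo.scalars (Fin n) F ∧ cm x y ^ r = 1 := by
  have hk : ⁅(⟨x, hx⟩ : R), (⟨y, hy⟩ : R)⁆ ∈ Subgroup.center R := by
    rw [← hext, commutator_def]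
    exact Subgroup.commutator_mem_commutator (Subgroup.mem_top _) (Subgroup.mem_top _)
  have hval : ((⁅(⟨x, hx⟩ : R), (⟨y, hy⟩ : R)⁆ : R) : Matrix.GeneralLinearGroup (Fin n) F) = cm x y := by
    rw [commutatorElement_def]
    unfold cm
    simp
  constructor
  · apply eigsetup_cent R hirr
    intro s hs
    have h1 := (Subgroup.mem_center_iff.1 hk) ⟨s, hs⟩
    have h2 := congrArg (fun t : R => (t : Matrix.GeneralLinearGroup (Fin n) F)) h1
    simp only [Subgroup.coe_mul] at h2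
    rw [hval] at h2
    exact h2.symm
  · have h1 : (⟨_, hk⟩ : Subgroup.center R) ^ Nat.card (Subgroup.center R) = 1 := pow_card_eq_one'
    rw [hZ] at h1
    have h2 := congrArg (fun t : Subgroup.center R => ((t : R) : Matrix.GeneralLinearGroup (Fin n) F)) h1
    simp only [Subgroup.coe_pow, Subgroup.coe_one] at h2
    rw [hval] at h2
    exact h2

theorem hyp_of_extraspecial {n r : ℕ} {F : Type*} [Field F]
    (R : Subgroup (Matrix.GeneralLinearGroup (Fin n) F)) (hr : r.Prime)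
    (hZ : Nat.card (Subgroup.center R) = r) (hext : commutator R = Subgroup.center R)
    (hirr : Cfsg.Geo.ActsAbsolutelyIrreducibly (Cfsg.Geo.matrixSet R)) :
    Hyp r (R ⊔ Cfsg.Geo.scalars (Fin n) F) := by
  have hdec : ∀ s ∈ R ⊔ Cfsg.Geo.scalars (Fin n) F, ∃ x ∈ R, ∃ z ∈ Cfsg.Geo.scalars (Fin n) F,
      s = x * z := by
    intro s hs
    have h1 : s ∈ ((R ⊔ Cfsg.Geo.scalars (Fin n) F : Subgroup _) : Set _) := hs
    rw [Subgroup.mul_normal] at h1
    obtain ⟨x, hx, z, hz, rfl⟩ := Set.mem_mul.1 h1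
    exact ⟨x, hx, z, hz, rfl⟩
  have hcmeq : ∀ u ∈ R ⊔ Cfsg.Geo.scalars (Fin n) F, ∀ v ∈ R ⊔ Cfsg.Geo.scalars (Fin n) F,
      ∃ x ∈ R, ∃ y ∈ R, cm u v = cm x y := by
    intro u hu v hv
    obtain ⟨x, hx, z, hz, rfl⟩ := hdec u hu
    obtain ⟨y, hy, z', hz', rfl⟩ := hdec v hv
    refine ⟨x, hx, y, hy, ?_⟩
    rw [eigsetup_cm_left _ _ _ (fun h => scalar_comm hz h),
      eigsetup_cm_right _ _ _ (fun h => scalar_comm hz' h)]
  refine ⟨hr, le_sup_right, ?_, ?_, ?_, ?_⟩
  · intro u hu v hv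
    obtain ⟨x, hx, y, hy, e⟩ := hcmeq u hu v hv
    rw [e]
    exact (eigsetup_comm R hZ hext hirr hx hy).1
  · intro u hu v hv
    obtain ⟨x, hx, y, hy, e⟩ := hcmeq u hu v hv
    rw [e]
    exact (eigsetup_comm R hZ hext hirr hx hy).2
  · intro h hc
    exact eigsetup_cent R hirr h (fun s hs => hc s (le_sup_left (a := R) hs))
  · by_contra hcon
    push Not at hcon
    have hcen : Subgroup.center R = ⊤ := by
      rw [eq_top_iff]
      intro s _
      rw [Subgroup.mem_center_iff]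
      intro t
      apply Subtype.ext
      simp only [Subgroup.coe_mul]
      exact hcon t (le_sup_left (a := R) t.2) s (le_sup_left (a := R) s.2)
    have hbot : commutator R = ⊥ := (commutator_eq_bot_iff_center_eq_top R).2 hcen
    rw [hext] at hbot
    rw [hbot] at hZ
    simp at hZ
    rw [← hZ] at hr
    exact Nat.not_prime_one hr

end Cfsg.Agent.Lib.Helper13.EIG
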