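import Mathlib
import Cfsg.Prelude.Def_GeometricClasses
import Cfsg.Agent.Lib.Helper27.ASC.Defs
import Cfsg.Agent.Lib.helper23.ASCO.Defs
import Cfsg.Agent.Lib.Helper19.ASG.Defs
import Cfsg.Agent.Lib.Helper1.ASGCLIF3
import Cfsg.Agent.Lib.Helper25.ASO.Defs
import Cfsg.Agent.Lib.helper23.ASE.Defs
import Cfsg.Agent.Lib.helper7.EM12.Defs
import Cfsg.Agent.Lib.Helper28.Ld.Trans
import Cfsg.Agent.Lib.Helper13.ASEPLUSDECcore

set_option autoImplicit false
set_option linter.unusedVariables false
set_option linter.unusedSectionVars false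

/-!
# Project EM12, piece PLUSBLK (helper13): pairwise orthogonal blocks of plus type make the whole space of plus type
(verbatim vs `helper7/EM12/Skel`).
-/

namespace Cfsg.Agent.Lib.helper7.EM12

open Cfsg Cfsg.Geo Cfsg.Agent.Lib.Helper27.ASC Cfsg.Agent.Lib.helper23.ASCO Cfsg.Agent.Lib.Helper19.ASG
  Cfsg.Agent.Lib.Helper25.ASO Cfsg.Agent.Lib.helper23.ASE
open scoped MatrixGroups Matrix Kronecker

variable {n : ℕ} {F : Type*} [Field F] [Fintype F]

/-- PLUSBLK : a decomposition into pairwise orthogonal blocks of plus type makes the whole space of plus type. -/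
theorem plus_of_plus_blocks (Q : QuadraticForm F (Fin n → F)) (hQ : (QuadraticMap.polarBilin Q).Nondegenerate)
    {t k : ℕ} (D : Fin t → Submodule F (Fin n → F))
    (hD : IsNondegenerateMDecomposition (QuadraticMap.polar (⇑Q)) k D) (hp : ∀ i, IsPlusTypeOn (⇑Q) (D i)) :
    IsPlusTypeOn (⇑Q) ⊤ := by
  classical
  choose U hUD hUts hUdim using hp
  have hn : t * k = n := Cfsg.Agent.Lib.Helper28.Ld.card_eq D hD.decomp
  let Φ : (∀ i, U i) →ₗ[F] (Fin n → F) := ∑ i, (U i).subtype ∘ₗ LinearMap.proj i
  have hΦ : ∀ u : ∀ i, U i, Φ u = ∑ i, ((u i : U i) : Fin n → F) := by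
    intro u
    simp only [Φ, LinearMap.sum_apply, LinearMap.comp_apply, Submodule.subtype_apply, LinearMap.proj_apply]
  refine ⟨LinearMap.range Φ, le_top, ?_, ?_⟩
  · rintro _ ⟨u, rfl⟩
    rw [hΦ]
    change Q (∑ i, ((u i : U i) : Fin n → F)) = 0
    rw [aseplusdec_map_sum Q]
    · apply Finset.sum_eq_zero
      intro i _
      exact hUts i _ (u i).2
    · intro i _ j _ hij
      exact hD.orthogonal i j hij _ (hUD i (u i).2) _ (hUD j (u j).2)
  · have hinj : Function.Injective Φ := by
      rw [← LinearMap.ker_eq_bot, LinearMap.ker_eq_bot']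
      intro u hu
      rw [hΦ] at hu
      have h1 := aseplusdec_indep_zero D hD.decomp.indep (fun i => ((u i : U i) : Fin n → F))
        (fun i => hUD i (u i).2) hu
      funext i
      exact Subtype.ext (h1 i)
    rw [LinearMap.finrank_range_of_inj hinj, Module.finrank_pi_fintype, finrank_top,
      Module.finrank_fintype_fun_eq_card, Fintype.card_fin, Finset.mul_sum]
    have h2 : ∀ i ∈ (Finset.univ : Finset (Fin t)), 2 * Module.finrank F (U i) = k := by
      intro i _
      rw [hUdim i, hD.decomp.finrank_eq i]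
    rw [Finset.sum_congr rfl h2, Finset.sum_const, Finset.card_univ, Fintype.card_fin, smul_eq_mul, hn]

end Cfsg.Agent.Lib.helper7.EM12
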