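import Cfsg.Agent.Lib.Helper13.TransferCtl

set_option autoImplicit false

/-! Families of conjugacy functors: fully normalized subgroups and local-to-global tools
(helper13). -/

namespace Cfsg.Agent.Lib.Helper13

variable {G : Type*} [Group G]

section Chain

variable {𝓕 : Set (Subgroup G)}

/-- The members of a conjugation chain starting at `R` are at least as large as `R`. -/
theorem ConjChain.restrict_card [Finite G] {R : Subgroup G} {g : G} (h : ConjChain 𝓕 R g) :
    ConjChain {T : Subgroup G | T ∈ 𝓕 ∧ Nat.card ↥R ≤ Nat.card ↥T} R g := by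
  induction h with
  | nil R => exact ConjChain.nil R
  | cons R T x g hT hx hRT _ ih =>
    rw [card_rc] at ih
    exact ConjChain.cons R T x g ⟨hT, Subgroup.card_le_of_le hRT⟩ hx hRT ih

end Chain

section FN

variable [Finite G] {p : ℕ} [Fact p.Prime]

/-- Every subgroup `T` of the Sylow subgroup `S` has a fully normalized conjugate `T^g`, with
`N_S(T)^g ≤ S`. -/
theorem exists_cj_fullyNormalized (S : Sylow p G) (T : Subgroup G) :
    ∃ g : G, ((S : Subgroup G) ⊓ Subgroup.normalizer (T : Set G)).map (MulAut.conj g).toMonoidHom ≤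
        (S : Subgroup G) ∧
      ¬ p ∣ ((S : Subgroup G) ⊓ Subgroup.normalizer
        ((T.map (MulAut.conj g).toMonoidHom : Subgroup G) : Set G)).relIndex
        (Subgroup.normalizer ((T.map (MulAut.conj g).toMonoidHom : Subgroup G) : Set G)) := by
  have hSp : IsPGroup p ↥(S : Subgroup G) := S.isPGroup'
  set N := Subgroup.normalizer (T : Set G) with hN
  obtain ⟨R, hQR, hRN, hRp, hRi⟩ := exists_sylow_between (p := p)
    (inf_le_right : (S : Subgroup G) ⊓ N ≤ N) (hSp.to_le inf_le_left)
  obtain ⟨g₁, -, hg₁⟩ := exists_conj_le_of_sylow_le S ⊤ R le_top le_top hRp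
  have hRg : R.map (MulAut.conj g₁).toMonoidHom ≤ (S : Subgroup G) := by
    rintro _ ⟨r, hr, rfl⟩
    exact hg₁ r hr
  refine ⟨g₁, (cj_mono hQR).trans hRg, ?_⟩
  have heq : R.map (MulAut.conj g₁).toMonoidHom =
      (S : Subgroup G) ⊓ Subgroup.normalizer
        ((T.map (MulAut.conj g₁).toMonoidHom : Subgroup G) : Set G) := by
    apply eq_of_le_of_not_dvd_relIndex (p := p)
      (N := Subgroup.normalizer ((T.map (MulAut.conj g₁).toMonoidHom : Subgroup G) : Set G))
    · apply le_inf hRg
      rw [normalizer_cj]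
      exact cj_mono hRN
    · exact inf_le_right
    · exact hSp.to_le inf_le_left
    · rw [normalizer_cj, relIndex_cj]
      exact hRi
  rw [← heq, normalizer_cj, relIndex_cj]
  exact hRi

/-- The family of fully normalized subgroups of `S`. -/
def fullyNormalized (p : ℕ) (S : Subgroup G) : Set (Subgroup G) :=
  {T : Subgroup G | T ≤ S ∧ ¬ p ∣ (S ⊓ Subgroup.normalizer (T : Set G)).relIndex
    (Subgroup.normalizer (T : Set G))}

omit [Finite G] [Fact p.Prime] in
theorem fullyNormalized_le {S T : Subgroup G} (h : T ∈ fullyNormalized p S) : T ≤ S := h.1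

theorem exists_fullyNormalized_conj (S : Sylow p G) (T : Subgroup G) (hT : T ≤ (S : Subgroup G)) :
    ∃ U ∈ fullyNormalized p (S : Subgroup G),
      (∃ g : G, T.map (MulAut.conj g).toMonoidHom = U) ∧
      ¬ p ∣ ((S : Subgroup G) ⊓ Subgroup.normalizer ((U : Subgroup G) : Set G)).relIndex
        (Subgroup.normalizer ((U : Subgroup G) : Set G)) := by
  obtain ⟨g, hg1, hg2⟩ := exists_cj_fullyNormalized S T
  refine ⟨_, ⟨?_, hg2⟩, ⟨g, rfl⟩, hg2⟩
  exact (cj_mono (le_inf hT Subgroup.le_normalizer)).trans hg1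

/-- Alperin's theorem for the fully normalized family. -/
theorem conjChain_fullyNormalized (S : Sylow p G) (R : Subgroup G) (hRS : R ≤ (S : Subgroup G))
    (g : G) (hg : rc R g ≤ (S : Subgroup G)) :
    ConjChain (fullyNormalized p (S : Subgroup G)) R g :=
  conjChain_of_le S _ (fun _ hU => hU.1) (exists_fullyNormalized_conj S)
    (Nat.card ↥(S : Subgroup G)) R hRS (Nat.sub_le _ _) g hg

end FN

section FamilyTransfer

variable [Finite G] {p : ℕ} [Fact p.Prime] {𝓦 : Set (Subgroup G → Subgroup G)}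

/-- Family control of transfer in `H` holds with respect to any Sylow `p`-subgroup of `H`. -/
theorem family_transfer_of_sylow (h𝓦 : ∀ W ∈ 𝓦, Cfsg.IsConjugacyFunctor p W) {H : Subgroup G}
    (hc : Cfsg.FamilyControlsTransferIn p 𝓦 H) {Q : Subgroup G} (hQH : Q ≤ H) (hQ : IsPGroup p ↥Q)
    (hQi : ¬ p ∣ Q.relIndex H) :
    Q ⊓ ⁅H, H⁆ = ⨆ W ∈ 𝓦, Q ⊓ ⁅H ⊓ Subgroup.normalizer ((W Q : Subgroup G) : Set G),
      H ⊓ Subgroup.normalizer ((W Q : Subgroup G) : Set G)⁆ := by
  obtain ⟨T, hTH, hTp, hTi, hT⟩ := hc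
  obtain ⟨k, hkH, hle⟩ := exists_mem_cj_le_of_relIndex (p := p) hQH hQ hQi hTH hTp
  have hHk : H.map (MulAut.conj k).toMonoidHom = H := cj_self_of_mem hkH
  have hTQ : T.map (MulAut.conj k).toMonoidHom = Q := by
    apply eq_of_le_of_not_dvd_relIndex (p := p) hle hQH hQ
    rw [← hHk, relIndex_cj]
    exact hTi
  have := congrArg (fun X : Subgroup G => X.map (MulAut.conj k).toMonoidHom) hT
  beta_reduce at this
  rw [cj_inf, Subgroup.map_commutator, hHk, hTQ] at this
  rw [this, Subgroup.map_iSup]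
  apply iSup_congr
  intro W
  rw [Subgroup.map_iSup]
  apply iSup_congr
  intro hWmem
  rw [cj_inf, Subgroup.map_commutator, cj_inf, hHk, hTQ, ← normalizer_cj,
    ← (h𝓦 W hWmem T hTp).2.2 k, hTQ]

end FamilyTransfer

end Cfsg.Agent.Lib.Helper13
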