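import Mathlib
import Cfsg.Agent.Lib.Helper13.FamilyCtl

set_option autoImplicit false

/-! The fixed-point chain argument on the cosets of the unique maximal subgroup over a Sylow
subgroup (helper13). -/

namespace Cfsg.Agent.Lib.Helper13

section OrbitProd

open Finset

/-- A product over a finite set stable under an element `e` acting with `e ^ p` trivial, in which
the products over the non-trivial `e`-orbits cancel, is the product over the fixed points. -/
theorem prod_eq_prod_filter_fixed {E α H : Type*} [Group E] [MulAction E α] [DecidableEq α]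
    [CommMonoid H] (p : ℕ) [hpf : Fact p.Prime] (e : E) (A : Finset α) (hA : ∀ a ∈ A, e • a ∈ A)
    (hp : ∀ a ∈ A, e ^ p • a = a) (f : α → H)
    (hf : ∀ a ∈ A, e • a ≠ a → ∏ i ∈ Finset.range p, f (e ^ i • a) = 1) :
    ∏ a ∈ A, f a = ∏ a ∈ A.filter (fun a => e • a = a), f a := by
  classical
  rw [← Finset.prod_filter_mul_prod_filter_not A (fun a => e • a = a)]
  suffices h : ∏ a ∈ A.filter (fun a => ¬ e • a = a), f a = 1 by rw [h, mul_one]
  have hApow : ∀ (i : ℕ), ∀ a ∈ A, e ^ i • a ∈ A := by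
    intro i
    induction i with
    | zero => intro a ha; simpa using ha
    | succ i ih =>
      intro a ha
      rw [pow_succ', mul_smul]
      exact hA _ (ih a ha)
  apply Finset.prod_cancels_of_partition_cancels (MulAction.orbitRel (Subgroup.zpowers e) α)
  intro x hx
  have hxA : x ∈ A := (Finset.mem_filter.mp hx).1
  have hxne : e • x ≠ x := (Finset.mem_filter.mp hx).2
  have hper : MulAction.period e x = p := by
    have h1 : MulAction.period e x ∣ p := MulAction.pow_smul_eq_iff_period_dvd.mp (hp x hxA)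
    rcases (Nat.dvd_prime hpf.out).mp h1 with h2 | h2
    · exact absurd (MulAction.period_eq_one_iff.mp h2) hxne
    · exact h2
  have hset : (A.filter (fun a => ¬ e • a = a)).filter
      (fun a => (MulAction.orbitRel (Subgroup.zpowers e) α) a x) =
      (Finset.range p).image (fun i => e ^ i • x) := by
    ext a
    simp only [Finset.mem_filter, Finset.mem_image, Finset.mem_range]
    constructor
    · rintro ⟨-, har⟩
      rw [MulAction.orbitRel_apply] at har
      obtain ⟨⟨z, hz⟩, rfl⟩ := har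
      obtain ⟨k, rfl⟩ := Subgroup.mem_zpowers_iff.mp hz
      refine ⟨(k % (p : ℤ)).toNat, ?_, ?_⟩
      · have h1 : 0 ≤ k % (p : ℤ) := Int.emod_nonneg _ (by exact_mod_cast hpf.out.ne_zero)
        have h2 : k % (p : ℤ) < p := Int.emod_lt_of_pos _ (by exact_mod_cast hpf.out.pos)
        omega
      · have h1 : 0 ≤ k % (p : ℤ) := Int.emod_nonneg _ (by exact_mod_cast hpf.out.ne_zero)
        have h3 : e ^ (k % (p : ℤ)) • x = e ^ k • x := by
          have := MulAction.zpow_mod_period_smul k (g := e) (a := x)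
          rwa [hper] at this
        show e ^ (k % (p : ℤ)).toNat • x = (⟨e ^ k, hz⟩ : Subgroup.zpowers e) • x
        rw [Subgroup.mk_smul, ← h3, ← zpow_natCast, Int.toNat_of_nonneg h1]
    · rintro ⟨i, hi, rfl⟩
      refine ⟨⟨hApow i x hxA, ?_⟩, ?_⟩
      · intro h1
        apply hxne
        have h2 : e ^ i • (e • x) = e ^ i • x := by
          rw [← mul_smul, ← pow_succ, pow_succ', mul_smul, h1]
        exact smul_left_cancel _ h2
      · rw [MulAction.orbitRel_apply]
        exact ⟨⟨e ^ i, Subgroup.pow_mem _ (Subgroup.mem_zpowers e) i⟩, rfl⟩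
  rw [hset, Finset.prod_image]
  · exact hf x hxA hxne
  · have key : ∀ i j : ℕ, j < p → i < j → e ^ i • x = e ^ j • x → False := by
      intro i j hj hlt hij
      have h1 : e ^ (j - i) • x = x := by
        have h2 : e ^ i • (e ^ (j - i) • x) = e ^ i • x := by
          rw [← mul_smul, ← pow_add, Nat.add_sub_cancel' hlt.le]
          exact hij.symm
        exact smul_left_cancel _ h2
      have h3 := MulAction.pow_smul_eq_iff_period_dvd.mp h1
      rw [hper] at h3
      have := Nat.le_of_dvd (by omega) h3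
      omega
    intro i hi j hj hij
    simp only [Finset.coe_range, Set.mem_Iio] at hi hj
    by_contra hne
    rcases Nat.lt_or_gt_of_ne hne with hlt | hlt
    · exact key i j hj hlt hij
    · exact key j i hi hlt hij.symm

end OrbitProd

section Chain

open Finset

variable {G : Type*} [Group G] [Finite G] {H : Type*} [CommGroup H]

/-- The function `gM ↦ ρ(g) w` on the cosets of `M` (computed on representatives). -/
noncomputable def engCosetFun (M : Subgroup G) (ρ : G →* Monoid.End H) (w : H) : G ⧸ M → H :=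
  fun ω => ρ (Quotient.out ω) w

omit [Finite G] in
theorem engCosetFun_mk (M : Subgroup G) (ρ : G →* Monoid.End H) (w : H)
    (hM : ∀ m ∈ M, ρ m w = w) (g : G) :
    engCosetFun M ρ w (QuotientGroup.mk g : G ⧸ M) = ρ g w := by
  unfold engCosetFun
  obtain ⟨m, hm⟩ := QuotientGroup.mk_out_eq_mul M g
  rw [hm, map_mul]
  show ρ g (ρ (m : G) w) = ρ g w
  rw [hM _ m.2]

theorem engCosetFun_smul (M : Subgroup G) (ρ : G →* Monoid.End H) (w : H)
    (hM : ∀ m ∈ M, ρ m w = w) (g : G) (ω : G ⧸ M) :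
    engCosetFun M ρ w (g • ω) = ρ g (engCosetFun M ρ w ω) := by
  induction ω using QuotientGroup.induction_on with
  | H a =>
    rw [MulAction.Quotient.smul_mk, engCosetFun_mk M ρ w hM, engCosetFun_mk M ρ w hM, smul_eq_mul,
      map_mul]
    rfl

open Classical in
/-- The product of `f` over the cosets fixed by the subgroup `Q`. -/
noncomputable def engFixProd (M : Subgroup G) (f : G ⧸ M → H) (Q : Subgroup G) : H :=
  haveI := Fintype.ofFinite (G ⧸ M)
  ∏ ω ∈ (Finset.univ : Finset (G ⧸ M)).filter (fun ω => ∀ q ∈ Q, q • ω = ω), f ω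

theorem engFixProd_eq (M : Subgroup G) (f : G ⧸ M → H) (Q : Subgroup G) [Fintype (G ⧸ M)]
    [DecidablePred (fun ω : G ⧸ M => ∀ q ∈ Q, q • ω = ω)] :
    engFixProd M f Q =
      ∏ ω ∈ (Finset.univ : Finset (G ⧸ M)).filter (fun ω => ∀ q ∈ Q, q • ω = ω), f ω := by
  unfold engFixProd
  apply Finset.prod_congr _ (fun _ _ => rfl)
  ext ω
  simp only [Finset.mem_filter, Finset.mem_univ, true_and]

theorem engFixProd_bot_invariant (M : Subgroup G) (ρ : G →* Monoid.End H) (f : G ⧸ M → H)
    (hf : ∀ (g : G) (ω : G ⧸ M), f (g • ω) = ρ g (f ω)) (g : G) :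
    ρ g (engFixProd M f ⊥) = engFixProd M f ⊥ := by
  classical
  have := Fintype.ofFinite (G ⧸ M)
  rw [engFixProd_eq]
  have h1 : (Finset.univ : Finset (G ⧸ M)).filter (fun ω => ∀ q ∈ (⊥ : Subgroup G), q • ω = ω) =
      Finset.univ := by
    apply Finset.filter_true_of_mem
    intro ω _ q hq
    rw [Subgroup.mem_bot] at hq
    rw [hq, one_smul]
  rw [h1, map_prod (ρ g : H →* H)]
  simp only [← hf]
  exact Fintype.prod_equiv (MulAction.toPerm g) _ _ (fun ω => rfl)

theorem engFixProd_step (M : Subgroup G) (ρ : G →* Monoid.End H) (f : G ⧸ M → H)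
    (hf : ∀ (g : G) (ω : G ⧸ M), f (g • ω) = ρ g (f ω)) (p : ℕ) [Fact p.Prime] (Q : Subgroup G)
    (e : G) (heN : e ∈ Subgroup.normalizer (Q : Set G)) (hep : e ^ p ∈ Q)
    (hcancel : ∀ ω : G ⧸ M, ∏ i ∈ Finset.range p, ρ (e ^ i) (f ω) = 1) :
    engFixProd M f (Q ⊔ Subgroup.zpowers e) = engFixProd M f Q := by
  classical
  have := Fintype.ofFinite (G ⧸ M)
  rw [engFixProd_eq, engFixProd_eq]
  have hset : (Finset.univ : Finset (G ⧸ M)).filter
      (fun ω => ∀ q ∈ Q ⊔ Subgroup.zpowers e, q • ω = ω) =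
      ((Finset.univ : Finset (G ⧸ M)).filter (fun ω => ∀ q ∈ Q, q • ω = ω)).filter
        (fun ω => e • ω = ω) := by
    ext ω
    simp only [Finset.mem_filter, Finset.mem_univ, true_and]
    constructor
    · intro h
      exact ⟨fun q hq => h q (Subgroup.mem_sup_left hq),
        h e (Subgroup.mem_sup_right (Subgroup.mem_zpowers e))⟩
    · rintro ⟨h1, h2⟩ q hq
      have hle : Q ⊔ Subgroup.zpowers e ≤ MulAction.stabilizer G ω := by
        apply sup_le
        · intro q hq
          exact MulAction.mem_stabilizer_iff.mpr (h1 q hq)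
        · rw [Subgroup.zpowers_le]
          exact MulAction.mem_stabilizer_iff.mpr h2
      exact MulAction.mem_stabilizer_iff.mp (hle hq)
  rw [hset]
  symm
  apply prod_eq_prod_filter_fixed p e
  · intro a ha
    simp only [Finset.mem_filter, Finset.mem_univ, true_and] at ha ⊢
    intro q hq
    have h1 : e⁻¹ * q * e⁻¹⁻¹ ∈ Q :=
      (Subgroup.mem_normalizer_iff.mp (Subgroup.inv_mem _ heN) q).mp hq
    have h2 := ha _ h1
    rw [inv_inv] at h2
    have h3 : q • e • a = e • ((e⁻¹ * q * e) • a) := by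
      rw [← mul_smul, ← mul_smul]
      congr 1
      group
    rw [h3, h2]
  · intro a ha
    simp only [Finset.mem_filter, Finset.mem_univ, true_and] at ha
    exact ha _ hep
  · intro a _ _
    simp only [hf]
    exact hcancel a

theorem engFixProd_pow_step (M : Subgroup G) (ρ : G →* Monoid.End H) (f : G ⧸ M → H)
    (hf : ∀ (g : G) (ω : G ⧸ M), f (g • ω) = ρ g (f ω)) (p : ℕ) [Fact p.Prime] (Q : Subgroup G) :
    ∀ (j : ℕ) (e : G), e ∈ Subgroup.normalizer (Q : Set G) → e ^ p ^ j ∈ Q →
      (∀ (k : ℕ) (ω : G ⧸ M), ∏ i ∈ Finset.range p, ρ ((e ^ k) ^ i) (f ω) = 1) →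
      engFixProd M f (Q ⊔ Subgroup.zpowers e) = engFixProd M f Q := by
  intro j
  induction j with
  | zero =>
    intro e _ he _
    rw [pow_zero, pow_one] at he
    rw [sup_eq_left.mpr ((Subgroup.zpowers_le).mpr he)]
  | succ j ih =>
    intro e heN he hcancel
    have h1 : engFixProd M f (Q ⊔ Subgroup.zpowers (e ^ p)) = engFixProd M f Q := by
      apply ih (e ^ p) (Subgroup.pow_mem _ heN p)
      · rw [← pow_mul, ← pow_succ']
        exact he
      · intro k ω
        rw [← pow_mul]
        exact hcancel (p * k) ω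
    have hle : Subgroup.zpowers (e ^ p) ≤ Subgroup.zpowers e :=
      (Subgroup.zpowers_le).mpr (Subgroup.pow_mem _ (Subgroup.mem_zpowers e) p)
    have h2 : e ∈ Subgroup.normalizer ((Q ⊔ Subgroup.zpowers (e ^ p) : Subgroup G) : Set G) := by
      apply mem_normalizer_of_cj_le
      rw [Subgroup.map_sup]
      apply sup_le_sup
      · exact (mem_normalizer_iff_cj_eq.mp heN).le
      · rintro _ ⟨z, hz, rfl⟩
        obtain ⟨k, rfl⟩ := Subgroup.mem_zpowers_iff.mp hz
        have : (MulAut.conj e).toMonoidHom ((e ^ p) ^ k) = (e ^ p) ^ k := by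
          show e * (e ^ p) ^ k * e⁻¹ = (e ^ p) ^ k
          have hc : Commute e ((e ^ p) ^ k) := ((Commute.refl e).pow_right p).zpow_right k
          rw [hc.eq, mul_inv_cancel_right]
        rw [this]
        exact Subgroup.zpow_mem _ (Subgroup.mem_zpowers _) k
    have h3 := engFixProd_step M ρ f hf p (Q ⊔ Subgroup.zpowers (e ^ p)) e h2
      (Subgroup.mem_sup_right (Subgroup.mem_zpowers _))
      (fun ω => by simpa using hcancel 1 ω)
    rw [sup_assoc, sup_eq_right.mpr hle] at h3
    rw [h3, h1]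

theorem engFixProd_singleton (M : Subgroup G) (f : G ⧸ M → H) (Q : Subgroup G) (hQM : Q ≤ M)
    (hfix : ∀ g : G, (∀ s ∈ Q, g⁻¹ * s * g ∈ M) → g ∈ M) :
    engFixProd M f Q = f ((1 : G) : G ⧸ M) := by
  classical
  have := Fintype.ofFinite (G ⧸ M)
  rw [engFixProd_eq]
  have hset : (Finset.univ : Finset (G ⧸ M)).filter (fun ω => ∀ q ∈ Q, q • ω = ω) =
      {((1 : G) : G ⧸ M)} := by
    ext ω
    simp only [Finset.mem_filter, Finset.mem_univ, true_and, Finset.mem_singleton]
    induction ω using QuotientGroup.induction_on with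
    | H g =>
      constructor
      · intro h
        have hg : g ∈ M := by
          apply hfix
          intro s hs
          have h1 := h s⁻¹ (Subgroup.inv_mem _ hs)
          rw [MulAction.Quotient.smul_mk, smul_eq_mul, QuotientGroup.eq] at h1
          have e : g⁻¹ * s * g = (s⁻¹ * g)⁻¹ * g := by group
          rw [e]
          exact h1
        rw [QuotientGroup.eq]
        simpa using hg
      · intro h q hq
        rw [QuotientGroup.eq] at h
        rw [MulAction.Quotient.smul_mk, smul_eq_mul, QuotientGroup.eq]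
        have hg : g ∈ M := by simpa using h
        have e : (q * g)⁻¹ * g = g⁻¹ * q⁻¹ * g := by group
        rw [e]
        exact Subgroup.mul_mem _ (Subgroup.mul_mem _ (Subgroup.inv_mem _ hg)
          (Subgroup.inv_mem _ (hQM hq))) hg
  rw [hset, Finset.prod_singleton]

/-- Normalizer growth for subgroups generated by elements of a normal generating subset. -/
theorem exists_mem_normalizer_not_mem_of_closure {p : ℕ} [Fact p.Prime] (X : Set G)
    (S₀ : Subgroup G) (hS₀ : S₀ = Subgroup.closure X) (hp : IsPGroup p ↥S₀)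
    (hX : ∀ x ∈ X, ∀ y ∈ S₀, y * x * y⁻¹ ∈ X) (Q : Subgroup G) (hQ : Q = Subgroup.closure (X ∩ ↑Q))
    (hQS : Q ≤ S₀) (hne : Q ≠ S₀) :
    ∃ x ∈ X, x ∈ Subgroup.normalizer (Q : Set G) ∧ x ∉ Q := by
  by_contra hcon
  push Not at hcon
  obtain ⟨N, hN⟩ : ∃ N : Subgroup G, N = S₀ ⊓ Subgroup.normalizer (Q : Set G) := ⟨_, rfl⟩
  have hQN : Q ≤ N := hN ▸ le_inf hQS Subgroup.le_normalizer
  have hNS : N ≤ S₀ := hN ▸ inf_le_left
  have hNN : S₀ ⊓ Subgroup.normalizer (N : Set G) ≤ N := by
    intro y hy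
    have hyS := (Subgroup.mem_inf.mp hy).1
    have hyN := (Subgroup.mem_inf.mp hy).2
    rw [hN]
    refine Subgroup.mem_inf.mpr ⟨hyS, ?_⟩
    apply mem_normalizer_of_cj_le
    conv_lhs => rw [hQ]
    rw [MonoidHom.map_closure, Subgroup.closure_le]
    rintro _ ⟨x, ⟨hxX, hxQ⟩, rfl⟩
    show y * x * y⁻¹ ∈ Q
    apply hcon _ (hX x hxX y hyS)
    have h1 : y * x * y⁻¹ ∈ N := (Subgroup.mem_normalizer_iff.mp hyN x).mp (hQN hxQ)
    rw [hN] at h1
    exact (Subgroup.mem_inf.mp h1).2
  have hNeq : N = S₀ := by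
    by_contra hne'
    have h1 := card_lt_card_inf_normalizer hp hNS hne'
    have h2 := Subgroup.card_le_of_le hNN
    omega
  have hall : ∀ x ∈ X, x ∈ Q := by
    intro x hx
    apply hcon x hx
    have h1 : x ∈ N := by
      rw [hNeq, hS₀]
      exact Subgroup.subset_closure hx
    rw [hN] at h1
    exact (Subgroup.mem_inf.mp h1).2
  apply hne
  apply le_antisymm hQS
  rw [hS₀, Subgroup.closure_le]
  exact hall

/-- The fixed-point chain lemma: if the unique maximal subgroup `M` over a Sylow `p`-subgroup fixes `w`,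
and the norms `∏ ρ(e^i)` of a normal, power-closed set `𝓔` of elements kill the orbit of `w`, where
the elements of `𝓔` in `S` do not generate a normal subgroup, then `G` fixes `w`. -/
theorem eng_fixed_of_chain {p : ℕ} [Fact p.Prime] (S : Sylow p G) (M : Subgroup G)
    (hSM : (S : Subgroup G) ≤ M) (hmax : ∀ K : Subgroup G, (S : Subgroup G) ≤ K → K ≠ ⊤ → K ≤ M)
    (ρ : G →* Monoid.End H) (𝓔 : Set G) (hconj : ∀ e ∈ 𝓔, ∀ g : G, g * e * g⁻¹ ∈ 𝓔)
    (hpow : ∀ e ∈ 𝓔, ∀ k : ℕ, e ^ k ∈ 𝓔)
    (hnn : ¬ (Subgroup.closure (𝓔 ∩ ((S : Subgroup G) : Set G))).Normal) (w : H)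
    (hM : ∀ m ∈ M, ρ m w = w)
    (hE : ∀ e ∈ 𝓔, ∀ g : G, ∏ i ∈ Finset.range p, ρ (e ^ i * g) w = 1) :
    ∀ g : G, ρ g w = w := by
  obtain ⟨X, hXdef⟩ : ∃ X : Set G, X = 𝓔 ∩ ((S : Subgroup G) : Set G) := ⟨_, rfl⟩
  obtain ⟨S₀, hS₀⟩ : ∃ S₀ : Subgroup G, S₀ = Subgroup.closure X := ⟨_, rfl⟩
  rw [← hXdef, ← hS₀] at hnn
  obtain ⟨f, hfdef⟩ : ∃ f : G ⧸ M → H, f = engCosetFun M ρ w := ⟨_, rfl⟩
  have hf : ∀ (g : G) (ω : G ⧸ M), f (g • ω) = ρ g (f ω) := by
    rw [hfdef]; exact engCosetFun_smul M ρ w hM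
  have hf1 : f ((1 : G) : G ⧸ M) = w := by
    rw [hfdef, engCosetFun_mk M ρ w hM, map_one]; rfl
  have hcancel : ∀ e ∈ 𝓔, ∀ ω : G ⧸ M, ∏ i ∈ Finset.range p, ρ (e ^ i) (f ω) = 1 := by
    intro e he ω
    induction ω using QuotientGroup.induction_on with
    | H g =>
      rw [hfdef, engCosetFun_mk M ρ w hM]
      have := hE e he g
      simp only [map_mul] at this
      exact this
  have hXS : X ⊆ ((S : Subgroup G) : Set G) := hXdef ▸ Set.inter_subset_right
  have hS₀S : S₀ ≤ (S : Subgroup G) := by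
    rw [hS₀, Subgroup.closure_le]; exact hXS
  have hS₀p : IsPGroup p ↥S₀ := S.isPGroup'.to_le hS₀S
  have hXconj : ∀ x ∈ X, ∀ g : G, g * x * g⁻¹ ∈ (S : Subgroup G) → g * x * g⁻¹ ∈ X := by
    intro x hx g hg
    rw [hXdef] at hx ⊢
    exact ⟨hconj x hx.1 g, hg⟩
  -- weak closure
  have hweak : ∀ g : G, S₀.map (MulAut.conj g).toMonoidHom ≤ (S : Subgroup G) →
      g ∈ Subgroup.normalizer (S₀ : Set G) := by
    intro g hg
    apply mem_normalizer_of_cj_le
    conv_lhs => rw [hS₀]
    rw [MonoidHom.map_closure, Subgroup.closure_le]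
    rintro _ ⟨x, hx, rfl⟩
    show g * x * g⁻¹ ∈ S₀
    rw [hS₀]
    apply Subgroup.subset_closure
    apply hXconj x hx g
    apply hg
    exact ⟨x, hS₀ ▸ Subgroup.subset_closure hx, rfl⟩
  have hSN : (S : Subgroup G) ≤ Subgroup.normalizer (S₀ : Set G) := by
    intro s hs
    apply hweak
    rintro _ ⟨x, hx, rfl⟩
    exact Subgroup.mul_mem _ (Subgroup.mul_mem _ hs (hS₀S hx)) (Subgroup.inv_mem _ hs)
  have hNM : Subgroup.normalizer (S₀ : Set G) ≤ M := by
    apply hmax _ hSN
    intro htop
    exact hnn (Subgroup.normalizer_eq_top_iff.mp htop)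
  have hSi : ¬ p ∣ (S : Subgroup G).relIndex M := fun hd =>
    S.not_dvd_index (hd.trans (Subgroup.relIndex_dvd_index_of_le hSM))
  have hfix : ∀ g : G, (∀ s ∈ S₀, g⁻¹ * s * g ∈ M) → g ∈ M := by
    intro g hg
    have hRM : S₀.map (MulAut.conj g⁻¹).toMonoidHom ≤ M := by
      rintro _ ⟨s, hs, rfl⟩
      have := hg s hs
      show g⁻¹ * s * g⁻¹⁻¹ ∈ M
      rwa [inv_inv]
    obtain ⟨m, hmM, hm⟩ := exists_mem_cj_le_of_relIndex (p := p) hSM S.isPGroup' hSi hRM
      (hS₀p.map _)
    rw [cj_cj] at hm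
    have h1 := hNM (hweak _ hm)
    have h2 : g⁻¹ ∈ M := by
      have e : g⁻¹ = m⁻¹ * (m * g⁻¹) := by group
      rw [e]
      exact Subgroup.mul_mem _ (Subgroup.inv_mem _ hmM) h1
    simpa using Subgroup.inv_mem _ h2
  have htop : engFixProd M f S₀ = w := by
    rw [engFixProd_singleton M f S₀ (hS₀S.trans hSM) hfix, hf1]
  -- the chain
  have hchain : ∀ (n : ℕ) (Q : Subgroup G), Q ≤ S₀ → Q = Subgroup.closure (X ∩ ↑Q) →
      engFixProd M f Q = engFixProd M f ⊥ → Nat.card ↥S₀ - Nat.card ↥Q ≤ n →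
      engFixProd M f S₀ = engFixProd M f ⊥ := by
    intro n
    induction n with
    | zero =>
      intro Q hQS _ hQF hcard
      have h1 := Subgroup.card_le_of_le hQS
      have : Q = S₀ := Subgroup.eq_of_le_of_card_ge hQS (by omega)
      rw [← this]; exact hQF
    | succ n ih =>
      intro Q hQS hQcl hQF hcard
      by_cases hQeq : Q = S₀
      · rw [← hQeq]; exact hQF
      · obtain ⟨x, hxX, hxN, hxQ⟩ := exists_mem_normalizer_not_mem_of_closure (p := p) X S₀ hS₀
          hS₀p (fun x hx y hy => hXconj x hx y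
            (Subgroup.mul_mem _ (Subgroup.mul_mem _ (hS₀S hy) (hXS hx))
              (Subgroup.inv_mem _ (hS₀S hy)))) Q hQcl hQS hQeq
        have hxE : x ∈ 𝓔 := by rw [hXdef] at hxX; exact hxX.1
        obtain ⟨k, hk⟩ := (IsPGroup.iff_orderOf.mp S.isPGroup') ⟨x, hXS hxX⟩
        have hxk : x ^ p ^ k ∈ Q := by
          have : x ^ p ^ k = 1 := by
            have h1 : orderOf x = p ^ k := by
              rw [← hk]; exact (Subgroup.orderOf_mk x (hXS hxX)).symm
            rw [← h1, pow_orderOf_eq_one]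
          rw [this]; exact Subgroup.one_mem _
        have hstep := engFixProd_pow_step M ρ f hf p Q k x hxN hxk
          (fun j ω => hcancel _ (hpow x hxE j) ω)
        have hQ'S : Q ⊔ Subgroup.zpowers x ≤ S₀ := by
          apply sup_le hQS
          rw [Subgroup.zpowers_le, hS₀]
          exact Subgroup.subset_closure hxX
        have hQ'cl : Q ⊔ Subgroup.zpowers x =
            Subgroup.closure (X ∩ ↑(Q ⊔ Subgroup.zpowers x : Subgroup G)) := by
          apply le_antisymm
          · apply sup_le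
            · conv_lhs => rw [hQcl]
              apply Subgroup.closure_mono
              exact Set.inter_subset_inter_right _ (by exact_mod_cast (le_sup_left : Q ≤ _))
            · rw [Subgroup.zpowers_le]
              apply Subgroup.subset_closure
              exact ⟨hxX, Subgroup.mem_sup_right (Subgroup.mem_zpowers x)⟩
          · rw [Subgroup.closure_le]
            exact Set.inter_subset_right
        apply ih (Q ⊔ Subgroup.zpowers x) hQ'S hQ'cl (hstep.trans hQF)
        have hlt : Nat.card ↥Q < Nat.card ↥(Q ⊔ Subgroup.zpowers x : Subgroup G) := by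
          by_contra hcon
          push Not at hcon
          have := Subgroup.eq_of_le_of_card_ge (le_sup_left : Q ≤ Q ⊔ Subgroup.zpowers x) hcon
          apply hxQ
          rw [this]
          exact Subgroup.mem_sup_right (Subgroup.mem_zpowers x)
        have h2 := Subgroup.card_le_of_le hQ'S
        omega
  have hbot : (⊥ : Subgroup G) = Subgroup.closure (X ∩ ↑(⊥ : Subgroup G)) := by
    apply le_antisymm bot_le
    rw [Subgroup.closure_le]
    exact Set.inter_subset_right
  have hfin := hchain _ ⊥ bot_le hbot rfl le_rfl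
  intro g
  rw [← htop, hfin]
  exact engFixProd_bot_invariant M ρ f hf g

end Chain

end Cfsg.Agent.Lib.Helper13
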