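import Cfsg.Agent.Lib.Helper13.EngA
import Cfsg.Agent.Lib.Helper13.CoatomSylow

set_option autoImplicit false

/-! A cocycle that vanishes on a subgroup of index prime to the exponent of the module is trivial as
soon as fixed points of the subgroup are fixed points of the group (helper13). -/

namespace Cfsg.Agent.Lib.Helper13

section Cocycle

variable {G : Type*} [Group G] [Finite G] {H : Type*} [CommGroup H]

theorem eng_cocycle_trivial (M : Subgroup G) (ρ : G →* Monoid.End H) (lam : H)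
    (hM : ∀ m ∈ M, ρ m lam = lam) (H₀ : Subgroup H)
    (hc : ∀ g : G, ρ g lam / lam ∈ H₀) (n' : ℕ) (hexp : ∀ h ∈ H₀, h ^ n' = 1)
    (hcop : Nat.Coprime M.index n')
    (hfix : ∀ w ∈ H₀, (∀ m ∈ M, ρ m w = w) → ∀ g : G, ρ g w = w) :
    ∀ g : G, ρ g lam = lam := by
  classical
  have := Fintype.ofFinite (G ⧸ M)
  obtain ⟨c, hcdef⟩ : ∃ c : G → H, c = fun g => ρ g lam / lam := ⟨_, rfl⟩
  have hcapp : ∀ g, c g = ρ g lam / lam := fun g => by rw [hcdef]
  have c_mul : ∀ g h : G, c (g * h) = ρ g (c h) * c g := by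
    intro g h
    rw [hcapp, hcapp, hcapp, map_mul, map_div]
    show ρ g (ρ h lam) / lam = ρ g (ρ h lam) / ρ g lam * (ρ g lam / lam)
    rw [div_mul_div_cancel]
  have c_M : ∀ m ∈ M, c m = 1 := by
    intro m hm
    rw [hcapp, hM m hm, div_self']
  have c_mulM : ∀ (g : G), ∀ m ∈ M, c (g * m) = c g := by
    intro g m hm
    rw [c_mul, c_M m hm, map_one, one_mul]
  obtain ⟨W₀, hW₀⟩ : ∃ W₀ : H, W₀ = ∏ ω : G ⧸ M, c (Quotient.out ω) := ⟨_, rfl⟩
  have hW₀mem : W₀ ∈ H₀ := by
    rw [hW₀]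
    apply Subgroup.prod_mem
    intro ω _
    rw [hcapp]
    exact hc _
  have key : ∀ g : G, ρ g W₀ * c g ^ (Fintype.card (G ⧸ M)) = W₀ := by
    intro g
    have h1 : ρ g W₀ = ∏ ω : G ⧸ M, c (g * Quotient.out ω) / c g := by
      rw [hW₀, map_prod (ρ g : H →* H)]
      apply Finset.prod_congr rfl
      intro ω _
      rw [c_mul, mul_div_cancel_right]
    have h2 : ∀ ω : G ⧸ M, c (g * Quotient.out ω) = c (Quotient.out (g • ω)) := by
      intro ω
      have e1 : g • ω = ((g * Quotient.out ω : G) : G ⧸ M) := by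
        conv_lhs => rw [← QuotientGroup.out_eq' ω]
        rfl
      obtain ⟨m, hm⟩ := QuotientGroup.mk_out_eq_mul M (g * Quotient.out ω)
      rw [e1, hm, c_mulM _ _ m.2]
    rw [h1, Finset.prod_div_distrib, Finset.prod_const, Finset.card_univ]
    simp only [h2]
    have h3 : ∏ ω : G ⧸ M, c (Quotient.out (g • ω)) = W₀ := by
      rw [hW₀]
      exact Fintype.prod_equiv (MulAction.toPerm g) _ _ (fun ω => rfl)
    rw [h3, div_mul_cancel]
  have hWM : ∀ m ∈ M, ρ m W₀ = W₀ := by
    intro m hm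
    have := key m
    rwa [c_M m hm, one_pow, mul_one] at this
  have hWG := hfix W₀ hW₀mem hWM
  have hcard : Fintype.card (G ⧸ M) = M.index := by
    rw [Subgroup.index_eq_card, Nat.card_eq_fintype_card]
  intro g
  have h1 : c g ^ M.index = 1 := by
    have := key g
    rw [hWG g, hcard] at this
    exact mul_eq_left.mp this
  have h2 : c g ^ n' = 1 := by
    apply hexp
    rw [hcapp]
    exact hc g
  have h3 := eq_one_of_pow_eq_one_of_coprime h1 h2 hcop
  rw [hcapp] at h3
  exact div_eq_one.mp h3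

end Cocycle

end Cfsg.Agent.Lib.Helper13
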