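import Cfsg.Agent.Lib.Helper13.SecTrE

set_option autoImplicit false

/-! Transport of the constrained-section hypothesis for transfer along isomorphisms, and the
conversion between `FT` and the frozen notions of control of transfer (helper13). -/

namespace Cfsg.Agent.Lib.Helper13

universe u

section Wrap

variable {p : ℕ} [Fact p.Prime] {𝓦 : Set (∀ (Q : Type u) [Group Q], Subgroup Q)}

theorem hypT_of_equiv (h𝓦 : ∀ W ∈ 𝓦, Cfsg.IsCharPFunctor.{u} p W)
    (Q₁ Q₂ : Type u) [Group Q₁] [Group Q₂] [Finite Q₁] (e : Q₁ ≃* Q₂) (h : HypT p 𝓦 Q₁) :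
    HypT p 𝓦 Q₂ := by
  intro hc₂ T₂ hT₂p hT₂i
  have hO : (Cfsg.pCore p Q₁).map e.toMonoidHom = Cfsg.pCore p Q₂ := pCore_map_equiv e
  have hc₁ : Subgroup.centralizer ((Cfsg.pCore p Q₁ : Subgroup Q₁) : Set Q₁) ≤ Cfsg.pCore p Q₁ := by
    intro x hx
    have h1 : e x ∈ Subgroup.centralizer ((Cfsg.pCore p Q₂ : Subgroup Q₂) : Set Q₂) := by
      rw [Subgroup.mem_centralizer_iff]
      intro y hy
      rw [SetLike.mem_coe, ← hO] at hy
      obtain ⟨y', hy', rfl⟩ := hy
      have := Subgroup.mem_centralizer_iff.mp hx y' hy'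
      show e y' * e x = e x * e y'
      rw [← map_mul, ← map_mul, this]
    have h2 := hc₂ h1
    rw [← hO] at h2
    obtain ⟨x', hx', hxx'⟩ := h2
    have : x' = x := e.injective hxx'
    rw [← this]; exact hx'
  obtain ⟨T₁, hT₁⟩ : ∃ T₁ : Subgroup Q₁, T₁ = T₂.comap e.toMonoidHom := ⟨_, rfl⟩
  have hmap : T₁.map e.toMonoidHom = T₂ := by
    rw [hT₁]
    exact Subgroup.map_comap_eq_self_of_surjective e.surjective T₂
  have hT₁p : IsPGroup p ↥T₁ := by
    rw [hT₁]
    exact hT₂p.comap_of_injective e.toMonoidHom e.injective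
  have hT₁i : ¬ p ∣ T₁.index := by
    rw [hT₁, Subgroup.index_comap_of_surjective _ e.surjective]
    exact hT₂i
  have h1 := h hc₁ T₁ hT₁p hT₁i
  have h2 := focD_map_le h𝓦 e.toMonoidHom hT₁p (fun t _ ht => e.injective (by rw [map_one]; exact ht))
  rw [hmap] at h2
  have h3 := (Subgroup.map_mono (f := e.toMonoidHom) h1).trans (h2.trans (focIn_le_focD _ _))
  refine le_trans ?_ h3
  rw [Subgroup.map_inf _ _ _ e.injective, hO, commutator_def, commutator_def, Subgroup.map_commutator,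
    ← MonoidHom.range_eq_map, MonoidHom.range_eq_top.mpr e.surjective]

/-- From the frozen family notion of control of transfer to `FT`. -/
theorem ft_of_familyControlsTransferIn (h𝓦 : ∀ W ∈ 𝓦, Cfsg.IsCharPFunctor.{u} p W)
    {Γ : Type u} [Group Γ] [Finite Γ]
    (h : Cfsg.FamilyControlsTransferIn p ((fun W => Cfsg.inducedFunctor (G := Γ) W) '' 𝓦) ⊤) :
    FT p 𝓦 Γ := by
  intro T hTp hTi
  have hTi' : ¬ p ∣ T.relIndex ⊤ := by rwa [Subgroup.relIndex_top_right]
  have h2 := family_transfer_of_sylow (indFam_isConjugacyFunctor h𝓦 Γ) h (le_top : T ≤ ⊤) hTp hTi'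
  rw [familyTarget_eq_focIn, focIn_top] at h2
  rw [commutator_def, h2]

/-- From `FT` to the frozen family notion of control of transfer. -/
theorem familyControlsTransferIn_of_ft {Γ : Type u} [Group Γ] [Finite Γ] (h : FT p 𝓦 Γ) :
    Cfsg.FamilyControlsTransferIn p ((fun W => Cfsg.inducedFunctor (G := Γ) W) '' 𝓦) ⊤ := by
  obtain ⟨S⟩ : Nonempty (Sylow p Γ) := inferInstance
  refine ⟨(S : Subgroup Γ), le_top, S.isPGroup', ?_, ?_⟩
  · rw [Subgroup.relIndex_top_right]; exact S.not_dvd_index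
  · have := familyTarget_eq_focIn (𝓦 := 𝓦) (⊤ : Subgroup Γ) (S : Subgroup Γ)
    unfold indFam at this
    rw [this, focIn_top]
    apply le_antisymm
    · have := h (S : Subgroup Γ) S.isPGroup' S.not_dvd_index
      rwa [commutator_def] at this
    · have := focD_le (𝓦 := 𝓦) (S : Subgroup Γ)
      rwa [commutator_def] at this

theorem hypT_of_familyControlsTransferIn (h𝓦 : ∀ W ∈ 𝓦, Cfsg.IsCharPFunctor.{u} p W)
    {Γ : Type u} [Group Γ] [Finite Γ]
    (h : Subgroup.centralizer ((Cfsg.pCore p Γ : Subgroup Γ) : Set Γ) ≤ Cfsg.pCore p Γ →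
      Cfsg.FamilyControlsTransferIn p ((fun W => Cfsg.inducedFunctor (G := Γ) W) '' 𝓦) ⊤) :
    HypT p 𝓦 Γ := by
  intro hc T hTp hTi
  have h1 := ft_of_familyControlsTransferIn h𝓦 (h hc) T hTp hTi
  refine le_trans (inf_le_inf_right _ ?_) h1
  haveI : (Cfsg.pCore p Γ).Normal := pCore_normal' p
  have := normal_pgroup_le_sylow (Cfsg.pCore p Γ) pCore_isPGroup (hTp.toSylow hTi)
  rwa [hTp.toSylow_coe hTi] at this

/-- The single-functor case. -/
theorem focD_singleton (W : ∀ (Q : Type u) [Group Q], Subgroup Q) {Γ : Type u} [Group Γ]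
    (T : Subgroup Γ) :
    focD {W} T = T ⊓
      ⁅Subgroup.normalizer ((Cfsg.inducedFunctor (G := Γ) W T : Subgroup Γ) : Set Γ),
        Subgroup.normalizer ((Cfsg.inducedFunctor (G := Γ) W T : Subgroup Γ) : Set Γ)⁆ := by
  unfold focD
  rw [iSup_singleton]

theorem controlsTransferIn_of_ft_singleton (W : ∀ (Q : Type u) [Group Q], Subgroup Q)
    {Γ : Type u} [Group Γ] [Finite Γ] (h : FT p {W} Γ) :
    Cfsg.ControlsTransferIn p (Cfsg.inducedFunctor (G := Γ) W) ⊤ := by
  obtain ⟨S⟩ : Nonempty (Sylow p Γ) := inferInstance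
  refine ⟨(S : Subgroup Γ), le_top, S.isPGroup', ?_, ?_⟩
  · rw [Subgroup.relIndex_top_right]; exact S.not_dvd_index
  · rw [top_inf_eq]
    apply le_antisymm
    · have := h (S : Subgroup Γ) S.isPGroup' S.not_dvd_index
      rw [commutator_def, focD_singleton] at this
      exact le_inf inf_le_left (this.trans inf_le_right)
    · exact inf_le_inf_left _ (Subgroup.commutator_mono le_top le_top)

end Wrap

end Cfsg.Agent.Lib.Helper13
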