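import Cfsg.Agent.Lib.Helper13.EngD
import Cfsg.Agent.Lib.Helper13.SecTrF

set_option autoImplicit false

/-! Minimal failure of control of transfer: the unique maximal subgroup over the Sylow subgroup and
Engel elements (helper13). -/

namespace Cfsg.Agent.Lib.Helper13

universe u

section CentralQuot

variable {G : Type*} [Group G] [Finite G] {p : ℕ} [Fact p.Prime]

open scoped commutatorElement

/-- If `[P, G] ≤ Q` for a normal subgroup `Q` and `P ≤ S`, then `P ∩ G' ≤ S' Q`. -/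
theorem inf_commutator_le_sup_of_commutator_le (S : Sylow p G) (P Q : Subgroup G) [Q.Normal]
    (hPS : P ≤ (S : Subgroup G)) (hPQ : ⁅P, (⊤ : Subgroup G)⁆ ≤ Q) :
    P ⊓ ⁅(⊤ : Subgroup G), ⊤⁆ ≤ ⁅(S : Subgroup G), (S : Subgroup G)⁆ ⊔ Q := by
  have hsurj := QuotientGroup.mk'_surjective Q
  obtain ⟨Sb, hSb⟩ : ∃ Sb : Sylow p (G ⧸ Q), (Sb : Subgroup (G ⧸ Q)) =
      (S : Subgroup G).map (QuotientGroup.mk' Q) := ⟨S.mapSurjective hsurj, Sylow.coe_mapSurjective hsurj S⟩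
  have hle : P.map (QuotientGroup.mk' Q) ≤ (Sb : Subgroup (G ⧸ Q)) := by
    rw [hSb]; exact Subgroup.map_mono hPS
  have hC : (⊤ : Subgroup (G ⧸ Q)) ≤
      Subgroup.centralizer ((P.map (QuotientGroup.mk' Q) : Subgroup (G ⧸ Q)) : Set (G ⧸ Q)) := by
    intro gb _
    obtain ⟨g, rfl⟩ := hsurj gb
    rw [Subgroup.mem_centralizer_iff]
    rintro _ ⟨x, hx, rfl⟩
    have h1 : ⁅x, g⁆ ∈ Q := hPQ (Subgroup.commutator_mem_commutator hx (Subgroup.mem_top g))
    have h2 : (QuotientGroup.mk' Q) (⁅x, g⁆) = 1 := (QuotientGroup.eq_one_iff _).mpr h1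
    rw [commutatorElement_def, map_mul, map_mul, map_mul, map_inv, map_inv] at h2
    have h3 := mul_inv_eq_one.mp h2
    have h4 := mul_inv_eq_iff_eq_mul.mp h3
    exact h4
  have h1 := inf_commutator_le_of_sup_centralizer Sb (P.map (QuotientGroup.mk' Q)) hle ⊤ hC
    (sup_top_eq _)
  intro x hx
  have hxP := (Subgroup.mem_inf.mp hx).1
  have hxc := (Subgroup.mem_inf.mp hx).2
  have h2 : (QuotientGroup.mk' Q) x ∈ P.map (QuotientGroup.mk' Q) ⊓ ⁅(⊤ : Subgroup (G ⧸ Q)), ⊤⁆ := by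
    refine Subgroup.mem_inf.mpr ⟨⟨x, hxP, rfl⟩, ?_⟩
    have : (QuotientGroup.mk' Q) x ∈
        (⁅(⊤ : Subgroup G), (⊤ : Subgroup G)⁆ : Subgroup G).map (QuotientGroup.mk' Q) :=
      ⟨x, hxc, rfl⟩
    rw [Subgroup.map_commutator] at this
    exact Subgroup.commutator_mono le_top le_top this
  have h3 := h1 h2
  rw [hSb, ← Subgroup.map_commutator] at h3
  obtain ⟨t, ht, htx⟩ := h3
  have h4 : t⁻¹ * x ∈ Q := by
    rw [← QuotientGroup.eq]
    exact htx
  have e : x = t * (t⁻¹ * x) := by group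
  rw [e]
  exact Subgroup.mul_mem _ (Subgroup.mem_sup_left ht) (Subgroup.mem_sup_right h4)

end CentralQuot

section MinFail

variable {p : ℕ} [Fact p.Prime] {𝓦 : Set (∀ (Q : Type u) [Group Q], Subgroup Q)}
  {Γ : Type u} [Group Γ] [Finite Γ]

open scoped commutatorElement

/-- Conjugation of the focal target. -/
theorem focD_cj (h𝓦 : ∀ W ∈ 𝓦, Cfsg.IsCharPFunctor.{u} p W) (T : Subgroup Γ) (hT : IsPGroup p ↥T)
    (g : Γ) :
    focD 𝓦 (T.map (MulAut.conj g).toMonoidHom) = (focD 𝓦 T).map (MulAut.conj g).toMonoidHom := by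
  unfold focD
  rw [Subgroup.map_iSup]
  apply iSup_congr
  intro W
  rw [Subgroup.map_iSup]
  apply iSup_congr
  intro hW
  rw [cj_inf, Subgroup.map_commutator, ← normalizer_cj,
    ← ((inducedFunctor_isConjugacyFunctor (G := Γ) W (h𝓦 W hW)) T hT).2.2 g]

/-- A bound for one Sylow subgroup gives the bound for all of them. -/
theorem pCore_inf_commutator_le_focD_of_sylow (h𝓦 : ∀ W ∈ 𝓦, Cfsg.IsCharPFunctor.{u} p W)
    (S : Sylow p Γ) (h : Cfsg.pCore p Γ ⊓ _root_.commutator Γ ≤ focD 𝓦 (S : Subgroup Γ))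
    (T : Subgroup Γ) (hTp : IsPGroup p ↥T) (hTi : ¬ p ∣ T.index) :
    Cfsg.pCore p Γ ⊓ _root_.commutator Γ ≤ focD 𝓦 T := by
  have hTi' : ¬ p ∣ T.relIndex ⊤ := by rwa [Subgroup.relIndex_top_right]
  obtain ⟨k, -, hle⟩ := exists_mem_cj_le_of_relIndex (p := p) (le_top : T ≤ ⊤) hTp hTi'
    (le_top : (S : Subgroup Γ) ≤ ⊤) S.isPGroup'
  have hST : (S : Subgroup Γ).map (MulAut.conj k).toMonoidHom = T := by
    apply eq_of_le_of_not_dvd_relIndex (p := p) hle (le_top : T ≤ ⊤) hTp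
    have := relIndex_cj k (S : Subgroup Γ) ⊤
    rw [cj_normal_eq ⊤ k] at this
    rw [this, Subgroup.relIndex_top_right]
    exact S.not_dvd_index
  rw [← hST, focD_cj h𝓦 _ S.isPGroup']
  have hn : (Cfsg.pCore p Γ ⊓ _root_.commutator Γ).Normal := by
    have := pCore_normal' (G := Γ) p
    infer_instance
  rw [← cj_normal_eq (Cfsg.pCore p Γ ⊓ _root_.commutator Γ) k]
  exact Subgroup.map_mono h

variable (h𝓦 : ∀ W ∈ 𝓦, Cfsg.IsCharPFunctor.{u} p W) (S : Sylow p Γ)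
  (hsub : ∀ N : Subgroup Γ, N ≠ ⊤ → FT p 𝓦 ↥N)

include h𝓦 hsub

theorem sylow_inf_commutator_le_focD (H : Subgroup Γ) (hH : H ≠ ⊤) (hSH : (S : Subgroup Γ) ≤ H) :
    (S : Subgroup Γ) ⊓ ⁅H, H⁆ ≤ focD 𝓦 (S : Subgroup Γ) :=
  inf_commutator_le_focD_of_ft h𝓦 H (hsub H hH) hSH S.isPGroup' S.not_dvd_index

/-- Every proper subgroup containing `S` normalizes `O_p ∩ focD`. -/
theorem le_normalizer_pCore_inf_focD (H : Subgroup Γ) (hH : H ≠ ⊤) (hSH : (S : Subgroup Γ) ≤ H) :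
    H ≤ Subgroup.normalizer
      ((Cfsg.pCore p Γ ⊓ focD 𝓦 (S : Subgroup Γ) : Subgroup Γ) : Set Γ) := by
  have hPn : (Cfsg.pCore p Γ).Normal := pCore_normal' p
  have hPS : Cfsg.pCore p Γ ≤ (S : Subgroup Γ) := normal_pgroup_le_sylow _ pCore_isPGroup S
  intro h hh
  apply mem_normalizer_of_cj_le
  rintro _ ⟨x, hx, rfl⟩
  have hxP := (Subgroup.mem_inf.mp hx).1
  have hxF := (Subgroup.mem_inf.mp hx).2
  show h * x * h⁻¹ ∈ _
  have h1 : h * x * h⁻¹ ∈ Cfsg.pCore p Γ := hPn.conj_mem x hxP h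
  refine Subgroup.mem_inf.mpr ⟨h1, ?_⟩
  have h2 : h * x * h⁻¹ * x⁻¹ ∈ (S : Subgroup Γ) ⊓ ⁅H, H⁆ := by
    refine Subgroup.mem_inf.mpr ⟨hPS (Subgroup.mul_mem _ h1 (Subgroup.inv_mem _ hxP)), ?_⟩
    rw [← commutatorElement_def]
    exact Subgroup.commutator_mem_commutator hh (hSH (hPS hxP))
  have h3 := sylow_inf_commutator_le_focD h𝓦 S hsub H hH hSH h2
  have e : h * x * h⁻¹ = (h * x * h⁻¹ * x⁻¹) * x := by group
  rw [e]
  exact Subgroup.mul_mem _ h3 hxF

omit hsub in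
/-- If `S` is normal, every `W(S)` is normal and the focal target is all of `S ∩ Γ'`. -/
theorem sylow_inf_commutator_le_focD_of_normal (hne : 𝓦.Nonempty)
    (hSn : Subgroup.normalizer ((S : Subgroup Γ) : Set Γ) = ⊤) :
    (S : Subgroup Γ) ⊓ ⁅(⊤ : Subgroup Γ), ⊤⁆ ≤ focD 𝓦 (S : Subgroup Γ) := by
  obtain ⟨W, hW⟩ := hne
  have h1 := normalizer_le_normalizer_functor
    (inducedFunctor_isConjugacyFunctor (G := Γ) W (h𝓦 W hW)) S.isPGroup'
  rw [hSn, top_le_iff] at h1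
  unfold focD
  refine le_trans ?_ (le_iSup₂ W hW)
  rw [h1]

/-- If `O_p ∩ focD` is normal, the focal target contains `O_p ∩ Γ'`. -/
theorem pCore_inf_commutator_le_focD_of_normalizer_eq_top (hne : 𝓦.Nonempty)
    (htop : Subgroup.normalizer
      ((Cfsg.pCore p Γ ⊓ focD 𝓦 (S : Subgroup Γ) : Subgroup Γ) : Set Γ) = ⊤) :
    Cfsg.pCore p Γ ⊓ _root_.commutator Γ ≤ focD 𝓦 (S : Subgroup Γ) := by
  have hPn : (Cfsg.pCore p Γ).Normal := pCore_normal' p
  have hPS : Cfsg.pCore p Γ ≤ (S : Subgroup Γ) := normal_pgroup_le_sylow _ pCore_isPGroup S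
  rw [commutator_def]
  by_cases hSn : Subgroup.normalizer ((S : Subgroup Γ) : Set Γ) = ⊤
  · -- `S` is normal: every `W(S)` is normal
    exact (inf_le_inf_right _ hPS).trans (sylow_inf_commutator_le_focD_of_normal h𝓦 S hne hSn)
  · have hSne : (S : Subgroup Γ) ≠ ⊤ := by
      intro h
      apply hSn
      rw [h]
      exact Subgroup.normalizer_eq_top_iff.mpr inferInstance
    have hS' : ⁅(S : Subgroup Γ), (S : Subgroup Γ)⁆ ≤ focD 𝓦 (S : Subgroup Γ) := by
      refine le_trans ?_ (sylow_inf_commutator_le_focD h𝓦 S hsub _ hSne le_rfl)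
      exact le_inf (Subgroup.commutator_le_self _) le_rfl
    by_cases hL : Subgroup.normalClosure ((S : Subgroup Γ) : Set Γ) = ⊤
    · -- `[O_p, Γ] ≤ D`
      obtain ⟨D, hD⟩ : ∃ D : Subgroup Γ, D = Cfsg.pCore p Γ ⊓ focD 𝓦 (S : Subgroup Γ) := ⟨_, rfl⟩
      rw [← hD] at htop
      have hDn : D.Normal := Subgroup.normalizer_eq_top_iff.mp htop
      have hsurj := QuotientGroup.mk'_surjective D
      have hPbn : ((Cfsg.pCore p Γ).map (QuotientGroup.mk' D)).Normal :=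
        Subgroup.Normal.map hPn _ hsurj
      have hKn : ((Subgroup.centralizer (((Cfsg.pCore p Γ).map (QuotientGroup.mk' D) :
          Subgroup (Γ ⧸ D)) : Set (Γ ⧸ D))).comap (QuotientGroup.mk' D)).Normal := by
        have : (Subgroup.centralizer (((Cfsg.pCore p Γ).map (QuotientGroup.mk' D) :
          Subgroup (Γ ⧸ D)) : Set (Γ ⧸ D))).Normal := Subgroup.normal_centralizer
        infer_instance
      have hSK : ((S : Subgroup Γ) : Set Γ) ⊆ (Subgroup.centralizer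
          (((Cfsg.pCore p Γ).map (QuotientGroup.mk' D) : Subgroup (Γ ⧸ D)) : Set (Γ ⧸ D))).comap
            (QuotientGroup.mk' D) := by
        intro s hs
        rw [SetLike.mem_coe, Subgroup.mem_comap, Subgroup.mem_centralizer_iff]
        rintro _ ⟨x, hx, rfl⟩
        have h1 : x * s * x⁻¹ * s⁻¹ ∈ D := by
          rw [hD]
          refine Subgroup.mem_inf.mpr ⟨?_, hS' ?_⟩
          · have := hPn.conj_mem x⁻¹ (Subgroup.inv_mem _ hx) s
            have e : x * s * x⁻¹ * s⁻¹ = x * (s * x⁻¹ * s⁻¹) := by group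
            rw [e]
            exact Subgroup.mul_mem _ hx this
          · rw [← commutatorElement_def]
            exact Subgroup.commutator_mem_commutator (hPS hx) hs
        have h2 : (QuotientGroup.mk' D) (x * s * x⁻¹ * s⁻¹) = 1 := (QuotientGroup.eq_one_iff _).mpr h1
        rw [map_mul, map_mul, map_mul, map_inv, map_inv] at h2
        have h3 := mul_inv_eq_one.mp h2
        exact (mul_inv_eq_iff_eq_mul.mp h3)
      have hK := Subgroup.normalClosure_le_normal (N := (Subgroup.centralizer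
          (((Cfsg.pCore p Γ).map (QuotientGroup.mk' D) : Subgroup (Γ ⧸ D)) : Set (Γ ⧸ D))).comap
            (QuotientGroup.mk' D)) hSK
      rw [hL, top_le_iff] at hK
      have hPD : ⁅Cfsg.pCore p Γ, (⊤ : Subgroup Γ)⁆ ≤ D := by
        rw [Subgroup.commutator_le]
        intro x hx g _
        have hg : g ∈ (Subgroup.centralizer
          (((Cfsg.pCore p Γ).map (QuotientGroup.mk' D) : Subgroup (Γ ⧸ D)) : Set (Γ ⧸ D))).comap
            (QuotientGroup.mk' D) := by rw [hK]; exact Subgroup.mem_top g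
        rw [Subgroup.mem_comap, Subgroup.mem_centralizer_iff] at hg
        have h1 := hg _ ⟨x, hx, rfl⟩
        rw [← QuotientGroup.eq_one_iff]
        show (QuotientGroup.mk' D) ⁅x, g⁆ = 1
        rw [commutatorElement_def, map_mul, map_mul, map_mul, map_inv, map_inv, h1]
        group
      have h1 := inf_commutator_le_sup_of_commutator_le S (Cfsg.pCore p Γ) D hPS hPD
      refine h1.trans (sup_le hS' ?_)
      rw [hD]
      exact inf_le_right
    · have h1 := focal_two_subgroups S (Subgroup.normalClosure ((S : Subgroup Γ) : Set Γ))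
      have hSL : (S : Subgroup Γ) ≤ Subgroup.normalClosure ((S : Subgroup Γ) : Set Γ) :=
        Subgroup.le_normalClosure
      rw [sup_eq_right.mpr hSL, inf_eq_left.mpr hSL] at h1
      refine (inf_le_inf_right _ hPS).trans (h1.trans (sup_le ?_ ?_))
      · exact sylow_inf_commutator_le_focD h𝓦 S hsub _ hL hSL
      · exact sylow_inf_commutator_le_focD h𝓦 S hsub _ hSn Subgroup.le_normalizer

/-- If `O_p ∩ focD` is not normal and some element of `S` outside `O_p` is an Engel element on the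
chief factors below `O_p`, the focal target contains `O_p ∩ Γ'`. -/
theorem pCore_inf_commutator_le_focD_of_engel
    (hne : Subgroup.normalizer
      ((Cfsg.pCore p Γ ⊓ focD 𝓦 (S : Subgroup Γ) : Subgroup Γ) : Set Γ) ≠ ⊤)
    (u : Γ) (huS : u ∈ (S : Subgroup Γ)) (huP : u ∉ Cfsg.pCore p Γ)
    (hEng : ∀ U V : Subgroup Γ, Cfsg.IsChiefFactor U V → U ≤ Cfsg.pCore p Γ →
      Cfsg.iterCommutator U (Subgroup.zpowers u) (p - 1) ≤ V) :
    Cfsg.pCore p Γ ⊓ _root_.commutator Γ ≤ focD 𝓦 (S : Subgroup Γ) := by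
  have hPn : (Cfsg.pCore p Γ).Normal := pCore_normal' p
  have hPS : Cfsg.pCore p Γ ≤ (S : Subgroup Γ) := normal_pgroup_le_sylow _ pCore_isPGroup S
  rw [commutator_def]
  obtain ⟨M, hM⟩ : ∃ M : Subgroup Γ, M = Subgroup.normalizer
      ((Cfsg.pCore p Γ ⊓ focD 𝓦 (S : Subgroup Γ) : Subgroup Γ) : Set Γ) := ⟨_, rfl⟩
  rw [← hM] at hne
  have hmax : ∀ K : Subgroup Γ, (S : Subgroup Γ) ≤ K → K ≠ ⊤ → K ≤ M := fun K hSK hK =>
    hM ▸ le_normalizer_pCore_inf_focD h𝓦 S hsub K hK hSK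
  have hSne : (S : Subgroup Γ) ≠ ⊤ := by
    intro h
    apply huP
    have hSn : (S : Subgroup Γ).Normal := by rw [h]; infer_instance
    have h1 := Cfsg.Agent.Lib.Helper1.le_pCore hSn S.isPGroup'
    exact h1 huS
  have hSM : (S : Subgroup Γ) ≤ M := hmax _ le_rfl hSne
  have hS' : ⁅(S : Subgroup Γ), (S : Subgroup Γ)⁆ ≤ focD 𝓦 (S : Subgroup Γ) := by
    refine le_trans ?_ (sylow_inf_commutator_le_focD h𝓦 S hsub _ hSne le_rfl)
    exact le_inf (Subgroup.commutator_le_self _) le_rfl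
  have hB := commutator_le_of_engel S M hSM hmax u huS huP hEng
  have hQn : (⁅Cfsg.pCore p Γ, (⊤ : Subgroup Γ)⁆).Normal := inferInstance
  have hQF : ⁅Cfsg.pCore p Γ, (⊤ : Subgroup Γ)⁆ ≤ focD 𝓦 (S : Subgroup Γ) := by
    refine le_trans ?_ (sylow_inf_commutator_le_focD h𝓦 S hsub M hne hSM)
    exact le_inf ((Subgroup.commutator_le_left _ _).trans hPS) hB
  have h1 := inf_commutator_le_sup_of_commutator_le S (Cfsg.pCore p Γ)
    ⁅Cfsg.pCore p Γ, (⊤ : Subgroup Γ)⁆ hPS le_rfl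
  exact h1.trans (sup_le hS' hQF)

end MinFail

end Cfsg.Agent.Lib.Helper13
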