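import Cfsg.Agent.Lib.Helper13.EngE

set_option autoImplicit false

/-! Transport and induction glue for the Engel criterion for control of transfer (helper13). -/

namespace Cfsg.Agent.Lib.Helper13

universe u

section Glue

variable {p : ℕ} [Fact p.Prime] {𝓦 : Set (∀ (Q : Type u) [Group Q], Subgroup Q)}

theorem ft_of_equiv (h𝓦 : ∀ W ∈ 𝓦, Cfsg.IsCharPFunctor.{u} p W)
    (Q₁ Q₂ : Type u) [Group Q₁] [Group Q₂] [Finite Q₁] (e : Q₁ ≃* Q₂) (h : FT p 𝓦 Q₁) :
    FT p 𝓦 Q₂ := by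
  intro T₂ hT₂p hT₂i
  obtain ⟨T₁, hT₁⟩ : ∃ T₁ : Subgroup Q₁, T₁ = T₂.comap e.toMonoidHom := ⟨_, rfl⟩
  have hmap : T₁.map e.toMonoidHom = T₂ := by
    rw [hT₁]
    exact Subgroup.map_comap_eq_self_of_surjective e.surjective T₂
  have hT₁p : IsPGroup p ↥T₁ := by
    rw [hT₁]
    exact hT₂p.comap_of_injective e.toMonoidHom e.injective
  have hT₁i : ¬ p ∣ T₁.index := by
    rw [hT₁, Subgroup.index_comap_of_surjective _ e.surjective]
    exact hT₂i
  have h1 := h T₁ hT₁p hT₁i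
  have h2 := focD_map_le h𝓦 e.toMonoidHom hT₁p (fun t _ ht => e.injective (by rw [map_one]; exact ht))
  rw [hmap] at h2
  have h3 := (Subgroup.map_mono (f := e.toMonoidHom) h1).trans (h2.trans (focIn_le_focD _ _))
  refine le_trans ?_ h3
  rw [Subgroup.map_inf _ _ _ e.injective, hmap, commutator_def, commutator_def,
    Subgroup.map_commutator, ← MonoidHom.range_eq_map, MonoidHom.range_eq_top.mpr e.surjective]

theorem hypT_of_ft {Γ : Type u} [Group Γ] [Finite Γ] (h : FT p 𝓦 Γ) : HypT p 𝓦 Γ := by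
  intro _ T hTp hTi
  refine le_trans (inf_le_inf_right _ ?_) (h T hTp hTi)
  have hn : (Cfsg.pCore p Γ).Normal := pCore_normal' p
  have := normal_pgroup_le_sylow (Cfsg.pCore p Γ) pCore_isPGroup (hTp.toSylow hTi)
  rwa [hTp.toSylow_coe hTi] at this

theorem secAll_section {Pr : ∀ (Q : Type u) [Group Q], Prop} {Γ : Type u} [Group Γ]
    (h : SecAll Pr Γ) {Q : Type u} [Group Q] (K : Subgroup Γ) (f : ↥K →* Q)
    (hf : Function.Surjective f) : SecAll Pr Q := by
  intro Q' _ _ ⟨K₂, f₂, hf₂⟩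
  apply (secAll_subgroup h K) Q'
  exact ⟨K₂.comap f, f₂.comp (f.subgroupComap K₂),
    hf₂.comp (MonoidHom.subgroupComap_surjective_of_surjective _ K₂ hf)⟩

/-- To prove the hypothesis `HypT` on all sections it suffices to have control of transfer in the
sections of smaller order and `HypT` for the group itself. -/
theorem secAll_hypT_of_proper (h𝓦 : ∀ W ∈ 𝓦, Cfsg.IsCharPFunctor.{u} p W)
    {Γ : Type u} [Group Γ] [Finite Γ]
    (hprop : ∀ (Q : Type u) [Group Q] [Finite Q] (K : Subgroup Γ) (f : ↥K →* Q),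
      Function.Surjective f → Nat.card Q < Nat.card Γ → FT p 𝓦 Q)
    (hΓ : HypT p 𝓦 Γ) : SecAll (HypT p 𝓦) Γ := by
  intro Q _ _ ⟨K, f, hf⟩
  have h1 : Nat.card Q ≤ Nat.card ↥K := Nat.card_le_card_of_surjective f hf
  have h2 : Nat.card ↥K ≤ Nat.card Γ := Subgroup.card_le_card_group K
  by_cases hlt : Nat.card Q < Nat.card Γ
  · exact hypT_of_ft (hprop Q K f hf hlt)
  · have hKtop : K = ⊤ := Subgroup.card_eq_iff_eq_top K |>.mp (by omega)
    have hcardeq : Nat.card ↥K = Nat.card Q := by omega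
    obtain ⟨e0⟩ := Finite.card_eq.mp hcardeq
    have hinj : Function.Injective f := (Finite.injective_iff_surjective_of_equiv e0).mpr hf
    have e1 : ↥K ≃* Q := MulEquiv.ofBijective f ⟨hinj, hf⟩
    have e2 : Γ ≃* ↥K := (MulEquiv.subgroupCongr hKtop.symm |> fun e => Subgroup.topEquiv.symm.trans e)
    exact hypT_of_equiv h𝓦 Γ Q (e2.trans e1) hΓ

/-- The Engel criterion: if control of transfer holds in the proper subgroups and, in the constrained
case, every Sylow subgroup `S` has some `W(S)` normal or an Engel element outside `O_p`, then the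
focal targets contain `O_p ∩ Γ'`. -/
theorem hypT_of_engel (h𝓦 : ∀ W ∈ 𝓦, Cfsg.IsCharPFunctor.{u} p W) (hne : 𝓦.Nonempty)
    {Γ : Type u} [Group Γ] [Finite Γ] (hsub : ∀ N : Subgroup Γ, N ≠ ⊤ → FT p 𝓦 ↥N)
    (hE : Subgroup.centralizer ((Cfsg.pCore p Γ : Subgroup Γ) : Set Γ) ≤ Cfsg.pCore p Γ →
      ∀ S : Sylow p Γ, (∃ W ∈ 𝓦, (Cfsg.inducedFunctor (G := Γ) W (S : Subgroup Γ)).Normal) ∨
        ∃ u : Γ, u ∈ (S : Subgroup Γ) ∧ u ∉ Cfsg.pCore p Γ ∧
          ∀ U V : Subgroup Γ, Cfsg.IsChiefFactor U V → U ≤ Cfsg.pCore p Γ →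
            Cfsg.iterCommutator U (Subgroup.zpowers u) (p - 1) ≤ V) :
    HypT p 𝓦 Γ := by
  intro hc T hTp hTi
  obtain ⟨S, hST⟩ : ∃ S : Sylow p Γ, (S : Subgroup Γ) = T := ⟨hTp.toSylow hTi, hTp.toSylow_coe hTi⟩
  rw [← hST]
  rcases hE hc S with ⟨W, hW, hWn⟩ | ⟨u, huS, huP, hEng⟩
  · have hPS : Cfsg.pCore p Γ ≤ (S : Subgroup Γ) := by
      have hn : (Cfsg.pCore p Γ).Normal := pCore_normal' p
      exact normal_pgroup_le_sylow _ pCore_isPGroup S
    rw [commutator_def]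
    refine (inf_le_inf_right _ hPS).trans ?_
    unfold focD
    refine le_trans ?_ (le_iSup₂ W hW)
    rw [Subgroup.normalizer_eq_top_iff.mpr hWn]
  · by_cases htop : Subgroup.normalizer
        ((Cfsg.pCore p Γ ⊓ focD 𝓦 (S : Subgroup Γ) : Subgroup Γ) : Set Γ) = ⊤
    · exact pCore_inf_commutator_le_focD_of_normalizer_eq_top h𝓦 S hsub hne htop
    · exact pCore_inf_commutator_le_focD_of_engel h𝓦 S hsub htop u huS huP hEng

end Glue

end Cfsg.Agent.Lib.Helper13
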