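import Mathlib
import Cfsg.Agent.Lib.Helper1.Fitting
import Cfsg.Agent.Lib.Helper1.Cores
import Cfsg.Agent.Lib.Helper10.Components
import Cfsg.Agent.Lib.Helper12.Local
import Cfsg.Agent.S4207
import Cfsg.Agent.S1265

set_option autoImplicit false
open Cfsg
open scoped commutatorElement

namespace Cfsg.Agent.Lib.Helper13

/-- A perfect solvable subgroup is trivial. -/
theorem perfect_eq_bot_of_isSolvable {G : Type*} [Group G] (A : Subgroup G)
    (hs : Group.IsSolvable ↥A) (h : ⁅A, A⁆ = A) : A = ⊥ := by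
  by_contra hne
  have hnt : Nontrivial ↥A := (Subgroup.nontrivial_iff_ne_bot A).mpr hne
  have h1 := Group.IsSolvable.commutator_lt_top_of_nontrivial ↥A
  have h2 : (commutator ↥A).map A.subtype = ⁅A, A⁆ := by
    rw [commutator_def, Subgroup.map_commutator, ← MonoidHom.range_eq_map, Subgroup.range_subtype]
  have h3 : (commutator ↥A).map A.subtype = (⊤ : Subgroup ↥A).map A.subtype := by
    rw [h2, h, ← MonoidHom.range_eq_map, Subgroup.range_subtype]
  have h4 := Subgroup.map_injective A.subtype_injective h3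
  exact (ne_of_lt h1) h4

/-- An element lying in `O_{p'}(X)` for every prime `p` is trivial. -/
theorem eq_one_of_forall_mem_pPrimeCore {X : Type*} [Group X] [Finite X] {g : X}
    (h : ∀ p : ℕ, p.Prime → g ∈ pPrimeCore p X) : g = 1 := by
  by_contra hne
  have h1 : orderOf g ≠ 1 := by
    intro h1; exact hne (orderOf_eq_one_iff.mp h1)
  obtain ⟨p, hp, hdvd⟩ := Nat.exists_prime_and_dvd h1
  have h2 : orderOf g ∣ Nat.card (pPrimeCore p X) := by
    have := Subgroup.orderOf_dvd_natCard (pPrimeCore p X) (h p hp)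
    exact this
  have h3 := Cfsg.Agent.Lib.Helper1.pPrimeCore_card_coprime (G := X) p
  have h4 : p ∣ Nat.card (pPrimeCore p X) := dvd_trans hdvd h2
  have h5 : p ∣ 1 := by
    have := Nat.dvd_gcd h4 (dvd_refl p)
    rwa [Nat.Coprime.gcd_eq_one h3] at this
  exact hp.one_lt.ne' (Nat.dvd_one.mp h5)

/-- A finite group all of whose perfect subgroups (inside `K`) are trivial is solvable. -/
theorem isSolvable_of_perfect_trivial {X : Type*} [Group X] [Finite X] (K : Subgroup X)
    (h : ∀ H : Subgroup X, H ≤ K → ⁅H, H⁆ = H → H = ⊥) : Group.IsSolvable ↥K := by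
  rw [Group.isSolvable_iff_commutator_lt]
  intro H hH
  refine lt_of_le_of_ne (Subgroup.commutator_le_self H) ?_
  intro heq
  apply hH
  have h1 : H.map K.subtype ≤ K := Subgroup.map_subtype_le H
  have h2 : ⁅H.map K.subtype, H.map K.subtype⁆ = H.map K.subtype := by
    rw [← Subgroup.map_commutator, heq]
  have h3 := h _ h1 h2
  exact (Subgroup.map_eq_bot_iff_of_injective H K.subtype_injective).mp h3

/-- If `[T, E(X)]` lies in a subgroup centralizing `E(X)` then `[T, E(X)] = 1`. -/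
theorem comm_layer_eq_bot_of_le {X : Type*} [Group X] (T N : Subgroup X)
    (hN : ⁅N, layer X⁆ = ⊥) (h : ⁅T, layer X⁆ ≤ N) : ⁅T, layer X⁆ = ⊥ := by
  have h1 : ⁅⁅T, layer X⁆, layer X⁆ = ⊥ := by
    rw [eq_bot_iff, ← hN]
    exact Subgroup.commutator_mono h le_rfl
  have h2 : ⁅⁅layer X, T⁆, layer X⁆ = ⊥ := by
    rw [Subgroup.commutator_comm (layer X) T]; exact h1
  have h3 := Subgroup.commutator_commutator_eq_bot_of_rotate (H₁ := layer X) (H₂ := layer X)
    (H₃ := T) h2 h1
  rw [Cfsg.Agent.Lib.Helper10.layer_commutator_self] at h3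
  rw [Subgroup.commutator_comm]; exact h3

/-- A perfect subgroup acting trivially on `F(X)/Φ(F(X))` has `[H, F(X)] ≤ O_{p'}(X)`. -/
theorem comm_fitting_le_pPrimeCore {X : Type*} [Group X] [Finite X] (H : Subgroup X)
    (hp : ⁅H, H⁆ = H)
    (hF : ⁅H, fittingSubgroup X⁆ ≤
      (frattini ↥(fittingSubgroup X)).map (fittingSubgroup X).subtype)
    (p : ℕ) [hpp : Fact p.Prime] : ⁅H, fittingSubgroup X⁆ ≤ pPrimeCore p X := by
  classical
  have hFn : (fittingSubgroup X).Normal := Cfsg.Agent.Lib.Helper1.fittingSubgroup_normal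
  have hOpn : (pPrimeCore p X).Normal := Cfsg.Agent.Lib.Helper1.pPrimeCore_normal p
  obtain ⟨O, hO⟩ : ∃ O : Subgroup X, O = fittingSubgroup X ⊓ pPrimeCore p X := ⟨_, rfl⟩
  have hOn : O.Normal := by rw [hO]; infer_instance
  have hker : (QuotientGroup.mk' O).ker = O := QuotientGroup.ker_mk' O
  have hsurjρ : Function.Surjective (QuotientGroup.mk' O) := QuotientGroup.mk'_surjective O
  -- the image of F is a normal p-subgroup
  have hFbn : ((fittingSubgroup X).map (QuotientGroup.mk' O)).Normal :=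
    Subgroup.Normal.map hFn _ hsurjρ
  have hFb_eq : (fittingSubgroup X).map (QuotientGroup.mk' O) =
      (pCore p X).map (QuotientGroup.mk' O) := by
    apply le_antisymm
    · rw [Cfsg.Agent.Lib.Helper1.fittingSubgroup_eq_iSup_pCore, Subgroup.map_iSup]
      apply iSup_le
      intro q
      by_cases hq : (q : ℕ) = p
      · rw [hq]
      · have hqf : Fact (q : ℕ).Prime := ⟨q.2⟩
        have h1 : pCore (q : ℕ) X ≤ O := by
          rw [hO]
          refine le_inf (Cfsg.Agent.Lib.Helper1.pCore_le_fittingSubgroup (q : ℕ)) ?_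
          apply Cfsg.Agent.Lib.Helper1.le_pPrimeCore (Cfsg.Agent.Lib.Helper1.pCore_normal (q : ℕ))
          obtain ⟨n, hn⟩ := (Cfsg.Agent.Lib.Helper1.pCore_isPGroup (G := X) (q : ℕ)).exists_card_eq
          rw [hn]
          exact Nat.Coprime.pow_left n ((Nat.coprime_primes q.2 hpp.out).mpr hq)
        have h2 : (pCore (q : ℕ) X).map (QuotientGroup.mk' O) = ⊥ := by
          rw [Subgroup.map_eq_bot_iff, hker]; exact h1
        rw [h2]; exact bot_le
    · exact Subgroup.map_mono (Cfsg.Agent.Lib.Helper1.pCore_le_fittingSubgroup p)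
  have hFbp : IsPGroup p ↥((fittingSubgroup X).map (QuotientGroup.mk' O)) := by
    rw [hFb_eq]
    exact (Cfsg.Agent.Lib.Helper1.pCore_isPGroup p).map _
  obtain ⟨n, hn⟩ := hFbp.exists_card_eq
  have hidx : (frattini ↥((fittingSubgroup X).map (QuotientGroup.mk' O))).index ∣ p ^ n := by
    rw [← hn]; exact Subgroup.index_dvd_card _
  obtain ⟨r, -, hr⟩ := (Nat.dvd_prime_pow hpp.out).mp hidx
  -- the group of automorphisms induced by H
  obtain ⟨A, hA⟩ : ∃ A : Subgroup (MulAut ↥((fittingSubgroup X).map (QuotientGroup.mk' O))),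
      A = (H.map (QuotientGroup.mk' O)).map MulAut.conjNormal := ⟨_, rfl⟩
  have hsurjφ : Function.Surjective ((QuotientGroup.mk' O).subgroupMap (fittingSubgroup X)) :=
    MonoidHom.subgroupMap_surjective _ _
  have hAfr : ∀ α ∈ A, ∀ x : ↥((fittingSubgroup X).map (QuotientGroup.mk' O)),
      α x * x⁻¹ ∈ frattini ↥((fittingSubgroup X).map (QuotientGroup.mk' O)) := by
    intro α hα x
    rw [hA] at hα
    obtain ⟨y, ⟨h, hh, rfl⟩, rfl⟩ := hα
    obtain ⟨x, hx⟩ := x
    obtain ⟨f, hf, rfl⟩ := hx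
    have hk : ⁅h, f⁆ ∈ ⁅H, fittingSubgroup X⁆ := Subgroup.commutator_mem_commutator hh hf
    obtain ⟨w, hw, hwk⟩ := hF hk
    have h1 := frattini_le_comap_frattini_of_surjective hsurjφ hw
    rw [Subgroup.mem_comap] at h1
    have h2 : MulAut.conjNormal ((QuotientGroup.mk' O) h)
        (⟨(QuotientGroup.mk' O) f, ⟨f, hf, rfl⟩⟩ :
          ↥((fittingSubgroup X).map (QuotientGroup.mk' O))) *
        (⟨(QuotientGroup.mk' O) f, ⟨f, hf, rfl⟩⟩ :
          ↥((fittingSubgroup X).map (QuotientGroup.mk' O)))⁻¹ =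
        ((QuotientGroup.mk' O).subgroupMap (fittingSubgroup X)) w := by
      apply Subtype.ext
      rw [Subgroup.coe_mul, MulAut.conjNormal_apply, Subgroup.coe_inv]
      change _ = (QuotientGroup.mk' O) (w : X)
      have hw' : (w : X) = ⁅h, f⁆ := hwk
      rw [hw', commutatorElement_def, map_mul, map_mul, map_mul, map_inv, map_inv]
    rw [h2]; exact h1
  have hcard := Cfsg.Agent.S4207.result hn hr A hAfr
  obtain ⟨m, -, hm⟩ := (Nat.dvd_prime_pow hpp.out).mp hcard
  have hAp : IsPGroup p ↥A := IsPGroup.of_card hm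
  have hAnil : Group.IsNilpotent ↥A := hAp.isNilpotent
  have hAsol : Group.IsSolvable ↥A := inferInstance
  have hAperf : ⁅A, A⁆ = A := by
    rw [hA, ← Subgroup.map_commutator, ← Subgroup.map_commutator, hp]
  have hAbot : A = ⊥ := perfect_eq_bot_of_isSolvable A hAsol hAperf
  rw [Subgroup.commutator_le]
  intro h hh f hf
  have h1 : (MulAut.conjNormal ((QuotientGroup.mk' O) h) :
      MulAut ↥((fittingSubgroup X).map (QuotientGroup.mk' O))) ∈ A := by
    rw [hA]; exact ⟨_, ⟨h, hh, rfl⟩, rfl⟩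
  rw [hAbot, Subgroup.mem_bot] at h1
  have h2 : MulAut.conjNormal ((QuotientGroup.mk' O) h)
      (⟨(QuotientGroup.mk' O) f, ⟨f, hf, rfl⟩⟩ :
        ↥((fittingSubgroup X).map (QuotientGroup.mk' O))) =
      ⟨(QuotientGroup.mk' O) f, ⟨f, hf, rfl⟩⟩ := by
    rw [h1]; rfl
  have h3 := congrArg Subtype.val h2
  rw [MulAut.conjNormal_apply] at h3
  have h4 : (QuotientGroup.mk' O) ⁅h, f⁆ = 1 := by
    rw [commutatorElement_def, map_mul, map_mul, map_mul, map_inv, map_inv, h3, mul_inv_cancel]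
  have h5 : ⁅h, f⁆ ∈ O := by
    rw [← hker]; exact h4
  rw [hO] at h5
  exact h5.2

/-- A perfect subgroup acting trivially on `F(X)/Φ(F(X))` centralizes `F(X)`. -/
theorem comm_fitting_eq_bot_of_perfect {X : Type*} [Group X] [Finite X] (H : Subgroup X)
    (hp : ⁅H, H⁆ = H)
    (hF : ⁅H, fittingSubgroup X⁆ ≤
      (frattini ↥(fittingSubgroup X)).map (fittingSubgroup X).subtype) :
    ⁅H, fittingSubgroup X⁆ = ⊥ := by
  rw [eq_bot_iff]
  intro g hg
  rw [Subgroup.mem_bot]
  apply eq_one_of_forall_mem_pPrimeCore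
  intro p hpp
  have : Fact p.Prime := ⟨hpp⟩
  exact comm_fitting_le_pPrimeCore H hp hF p hg

/-- A perfect subgroup centralizing `E(X)` and acting trivially on `F(X)/Φ(F(X))` is trivial. -/
theorem perfect_eq_bot_of_centralizes {X : Type*} [Group X] [Finite X] (H : Subgroup X)
    (hp : ⁅H, H⁆ = H) (hE : ⁅H, layer X⁆ = ⊥)
    (hF : ⁅H, fittingSubgroup X⁆ ≤
      (frattini ↥(fittingSubgroup X)).map (fittingSubgroup X).subtype) : H = ⊥ := by
  have h1 := comm_fitting_eq_bot_of_perfect H hp hF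
  rw [Subgroup.commutator_eq_bot_iff_le_centralizer] at h1 hE
  have h2 : H ≤ Subgroup.centralizer (generalizedFittingSubgroup X : Set X) := by
    rw [Subgroup.le_centralizer_iff]
    unfold generalizedFittingSubgroup
    exact sup_le (Subgroup.le_centralizer_iff.mp hE) (Subgroup.le_centralizer_iff.mp h1)
  have h3 : H ≤ generalizedFittingSubgroup X := h2.trans Cfsg.Agent.S1265.result
  have h4 : ⁅H, H⁆ = ⊥ := by
    rw [Subgroup.commutator_eq_bot_iff_le_centralizer]
    exact h2.trans (Subgroup.centralizer_le h3)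
  rw [← hp, h4]

end Cfsg.Agent.Lib.Helper13
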