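import Cfsg.Agent.Lib.Helper13.FamilyCtl

set_option autoImplicit false

/-! Families of conjugacy functors controlling strong fusion: an inductive reformulation
(helper13). -/

namespace Cfsg.Agent.Lib.Helper13

variable {G : Type*} [Group G]

/-- `FReach 𝓦 H T A c`: the element `c` is reached from `1` by left multiplications with elements
of the groups `H ∩ N(W T)`, `W ∈ 𝓦`, every intermediate element conjugating `A` into `T`. -/
inductive FReach (𝓦 : Set (Subgroup G → Subgroup G)) (H T : Subgroup G) (A : Set G) : G → Prop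
  | one (hA : A ⊆ (T : Set G)) : FReach 𝓦 H T A 1
  | step (c y : G) (W : Subgroup G → Subgroup G) (hW : W ∈ 𝓦)
      (hy : y ∈ H ⊓ Subgroup.normalizer ((W T : Subgroup G) : Set G))
      (hc : FReach 𝓦 H T A c) (hA : ∀ a ∈ A, (y * c) * a * (y * c)⁻¹ ∈ T) :
      FReach 𝓦 H T A (y * c)

namespace FReach

variable {𝓦 : Set (Subgroup G → Subgroup G)} {H T : Subgroup G} {A B : Set G} {c : G}

theorem conj_mem (h : FReach 𝓦 H T A c) : ∀ a ∈ A, c * a * c⁻¹ ∈ T := by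
  cases h with
  | one hA =>
    intro a ha
    have : (1 : G) * a * 1⁻¹ = a := by group
    rw [this]; exact hA ha
  | step c y W hW hy hc hA => exact hA

theorem subset_base (h : FReach 𝓦 H T A c) : A ⊆ (T : Set G) := by
  induction h with
  | one hA => exact hA
  | step c y W hW hy hc hA ih => exact ih

theorem mono (h : FReach 𝓦 H T A c) (hBA : B ⊆ A) : FReach 𝓦 H T B c := by
  induction h with
  | one hA => exact FReach.one (hBA.trans hA)
  | step c y W hW hy hc hA ih => exact FReach.step c y W hW hy ih (fun a ha => hA a (hBA ha))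

theorem comp {c₁ c₂ : G} (h₁ : FReach 𝓦 H T A c₁) (h₂ : FReach 𝓦 H T B c₂)
    (hAB : ∀ a ∈ A, c₁ * a * c₁⁻¹ ∈ B) : FReach 𝓦 H T A (c₂ * c₁) := by
  induction h₂ with
  | one hB => rw [one_mul]; exact h₁
  | step c y W hW hy hc hB ih =>
    rw [mul_assoc]
    refine FReach.step (c * c₁) y W hW hy ih ?_
    intro a ha
    have := hB _ (hAB a ha)
    have e : y * (c * c₁) * a * (y * (c * c₁))⁻¹ = y * c * (c₁ * a * c₁⁻¹) * (y * c)⁻¹ := by group
    rw [e]; exact this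

/-- a single step -/
theorem single {W : Subgroup G → Subgroup G} (hW : W ∈ 𝓦) {y : G}
    (hy : y ∈ H ⊓ Subgroup.normalizer ((W T : Subgroup G) : Set G)) (hA : A ⊆ (T : Set G))
    (hyA : ∀ a ∈ A, y * a * y⁻¹ ∈ T) : FReach 𝓦 H T A y := by
  have := FReach.step 1 y W hW hy (FReach.one hA) (by
    intro a ha
    rw [mul_one]; exact hyA a ha)
  rwa [mul_one] at this

/-- transport by conjugation with an element of `H` -/
theorem cj {p : ℕ} (h𝓦 : ∀ W ∈ 𝓦, Cfsg.IsConjugacyFunctor p W) (hT : IsPGroup p ↥T) {k : G}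
    (hk : k ∈ H) (h : FReach 𝓦 H T A c) (hBA : ∀ b ∈ B, k⁻¹ * b * k ∈ A) :
    FReach 𝓦 H (T.map (MulAut.conj k).toMonoidHom) B (k * c * k⁻¹) := by
  induction h with
  | one hA =>
    have : k * 1 * k⁻¹ = 1 := by group
    rw [this]
    apply FReach.one
    intro b hb
    rw [SetLike.mem_coe, mem_cj]
    exact hA (hBA b hb)
  | step c y W hW hy hc hA ih =>
    have e : k * (y * c) * k⁻¹ = (k * y * k⁻¹) * (k * c * k⁻¹) := by group
    rw [e]
    refine FReach.step _ _ W hW ?_ ih ?_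
    · refine Subgroup.mem_inf.mpr ⟨?_, ?_⟩
      · exact H.mul_mem (H.mul_mem hk (Subgroup.mem_inf.mp hy).1) (H.inv_mem hk)
      · rw [(h𝓦 W hW T hT).2.2 k, normalizer_cj]
        exact cj_mem (Subgroup.mem_inf.mp hy).2
    · intro b hb
      rw [mem_cj]
      have := hA _ (hBA b hb)
      have e2 : k⁻¹ * (k * y * k⁻¹ * (k * c * k⁻¹) * b * (k * y * k⁻¹ * (k * c * k⁻¹))⁻¹) * k =
          y * c * (k⁻¹ * b * k) * (y * c)⁻¹ := by group
      rw [e2]; exact this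

/-- From the inductive form to the sequence form. -/
theorem exists_fin (h : FReach 𝓦 H T A c) :
    ∃ (n : ℕ) (cs : Fin (n + 1) → G), cs 0 = 1 ∧
      (∀ i : Fin n, ∃ W ∈ 𝓦,
        cs i.succ * (cs i.castSucc)⁻¹ ∈ H ⊓ Subgroup.normalizer ((W T : Subgroup G) : Set G)) ∧
      (∀ i : Fin (n + 1), (fun a => cs i * a * (cs i)⁻¹) '' A ⊆ T) ∧
      cs (Fin.last n) = c := by
  induction h with
  | one hA =>
    refine ⟨0, fun _ => 1, rfl, fun i => i.elim0, ?_, rfl⟩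
    rintro i _ ⟨a, ha, rfl⟩
    have : (1 : G) * a * 1⁻¹ = a := by group
    simp only [this]
    exact hA ha
  | step c y W hW hy hc hA ih =>
    obtain ⟨n, cs, h0, hsteps, himg, hlast⟩ := ih
    refine ⟨n + 1, Fin.snoc cs (y * c), ?_, ?_, ?_, ?_⟩
    · have : (0 : Fin (n + 2)) = (0 : Fin (n + 1)).castSucc := rfl
      rw [this, Fin.snoc_castSucc]; exact h0
    · intro i
      refine Fin.lastCases ?_ (fun j => ?_) i
      · refine ⟨W, hW, ?_⟩
        have h1 : (Fin.last n).succ = Fin.last (n + 1) := rfl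
        rw [h1, Fin.snoc_last, Fin.snoc_castSucc, hlast]
        have : y * c * c⁻¹ = y := by group
        rw [this]; exact hy
      · obtain ⟨W', hW', hstep⟩ := hsteps j
        refine ⟨W', hW', ?_⟩
        have h1 : (j.castSucc).succ = (j.succ).castSucc := rfl
        rw [h1, Fin.snoc_castSucc, Fin.snoc_castSucc]
        exact hstep
    · intro i
      refine Fin.lastCases ?_ (fun j => ?_) i
      · rw [Fin.snoc_last]
        rintro _ ⟨a, ha, rfl⟩
        exact hA a ha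
      · rw [Fin.snoc_castSucc]
        exact himg j
    · rw [Fin.snoc_last]

/-- From the sequence form to the inductive form. -/
theorem of_fin {n : ℕ} (cs : Fin (n + 1) → G) (h0 : cs 0 = 1)
    (hsteps : ∀ i : Fin n, ∃ W ∈ 𝓦,
      cs i.succ * (cs i.castSucc)⁻¹ ∈ H ⊓ Subgroup.normalizer ((W T : Subgroup G) : Set G))
    (himg : ∀ i : Fin (n + 1), (fun a => cs i * a * (cs i)⁻¹) '' A ⊆ T) :
    ∀ i : Fin (n + 1), FReach 𝓦 H T A (cs i) := by
  intro i
  induction i using Fin.induction with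
  | zero =>
    rw [h0]
    apply FReach.one
    intro a ha
    have := himg 0 ⟨a, ha, rfl⟩
    rw [h0] at this
    simpa using this
  | succ j ih =>
    obtain ⟨W, hW, hstep⟩ := hsteps j
    have e : cs j.succ = (cs j.succ * (cs j.castSucc)⁻¹) * cs j.castSucc := by group
    rw [e]
    refine FReach.step _ _ W hW hstep ih ?_
    intro a ha
    rw [← e]
    exact himg j.succ ⟨a, ha, rfl⟩

end FReach

/-- `Reach 𝓦 H T A h`: conjugation by `h` on `A` is a composite of `𝓦`-steps inside `T`. -/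
def Reach (𝓦 : Set (Subgroup G → Subgroup G)) (H T : Subgroup G) (A : Set G) (h : G) : Prop :=
  ∃ c, FReach 𝓦 H T A c ∧ ∀ a ∈ A, c * a * c⁻¹ = h * a * h⁻¹

namespace Reach

variable {𝓦 : Set (Subgroup G → Subgroup G)} {H T : Subgroup G} {A B : Set G} {h : G}

theorem mono (hr : Reach 𝓦 H T A h) (hBA : B ⊆ A) : Reach 𝓦 H T B h := by
  obtain ⟨c, hc, hca⟩ := hr
  exact ⟨c, hc.mono hBA, fun b hb => hca b (hBA hb)⟩

theorem congr {h' : G} (hr : Reach 𝓦 H T A h) (hh : ∀ a ∈ A, h * a * h⁻¹ = h' * a * h'⁻¹) :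
    Reach 𝓦 H T A h' := by
  obtain ⟨c, hc, hca⟩ := hr
  exact ⟨c, hc, fun a ha => (hca a ha).trans (hh a ha)⟩

theorem comp {h₁ h₂ : G} (hr₁ : Reach 𝓦 H T A h₁) (hr₂ : Reach 𝓦 H T B h₂)
    (hAB : ∀ a ∈ A, h₁ * a * h₁⁻¹ ∈ B) : Reach 𝓦 H T A (h₂ * h₁) := by
  obtain ⟨c₁, hc₁, hca₁⟩ := hr₁
  obtain ⟨c₂, hc₂, hca₂⟩ := hr₂
  refine ⟨c₂ * c₁, hc₁.comp hc₂ (fun a ha => by rw [hca₁ a ha]; exact hAB a ha), ?_⟩
  intro a ha
  have e : c₂ * c₁ * a * (c₂ * c₁)⁻¹ = c₂ * (c₁ * a * c₁⁻¹) * c₂⁻¹ := by group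
  rw [e, hca₁ a ha, hca₂ _ (hAB a ha)]
  group

theorem one (hA : A ⊆ (T : Set G)) : Reach 𝓦 H T A 1 := ⟨1, FReach.one hA, fun _ _ => rfl⟩

end Reach

section Def

variable {p : ℕ} {𝓦 : Set (Subgroup G → Subgroup G)} {H : Subgroup G}

theorem familyControlsStrongFusionIn_iff :
    Cfsg.FamilyControlsStrongFusionIn p 𝓦 H ↔
      ∃ T : Subgroup G, T ≤ H ∧ IsPGroup p ↥T ∧ ¬ p ∣ T.relIndex H ∧
        ∀ (A : Set G) (h : G), h ∈ H → A ⊆ T → (fun a => h * a * h⁻¹) '' A ⊆ T →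
          Reach 𝓦 H T A h := by
  constructor
  · rintro ⟨T, hTH, hTp, hTi, hT⟩
    refine ⟨T, hTH, hTp, hTi, ?_⟩
    intro A h hh hA hhA
    obtain ⟨n, cs, h0, hsteps, himg, hlast⟩ := hT A h hh hA hhA
    exact ⟨cs (Fin.last n), FReach.of_fin cs h0 hsteps himg _, hlast⟩
  · rintro ⟨T, hTH, hTp, hTi, hT⟩
    refine ⟨T, hTH, hTp, hTi, ?_⟩
    intro A h hh hA hhA
    obtain ⟨c, hc, hca⟩ := hT A h hh hA hhA
    obtain ⟨n, cs, h0, hsteps, himg, hlast⟩ := hc.exists_fin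
    refine ⟨n, cs, h0, hsteps, himg, ?_⟩
    rw [hlast]
    exact hca

end Def

section Sylow

variable [Finite G] {p : ℕ} [Fact p.Prime] {𝓦 : Set (Subgroup G → Subgroup G)}

/-- Family control of strong fusion in `H` holds with respect to any Sylow `p`-subgroup of `H`. -/
theorem family_fusion_of_sylow (h𝓦 : ∀ W ∈ 𝓦, Cfsg.IsConjugacyFunctor p W) {H : Subgroup G}
    (hc : Cfsg.FamilyControlsStrongFusionIn p 𝓦 H) {Q : Subgroup G} (hQH : Q ≤ H)
    (hQ : IsPGroup p ↥Q) (hQi : ¬ p ∣ Q.relIndex H) :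
    ∀ (A : Set G) (h : G), h ∈ H → A ⊆ Q → (fun a => h * a * h⁻¹) '' A ⊆ Q →
      Reach 𝓦 H Q A h := by
  obtain ⟨T, hTH, hTp, hTi, hT⟩ := familyControlsStrongFusionIn_iff.mp hc
  obtain ⟨k, hkH, hle⟩ := exists_mem_cj_le_of_relIndex (p := p) hQH hQ hQi hTH hTp
  have hHk : H.map (MulAut.conj k).toMonoidHom = H := cj_self_of_mem hkH
  have hTQ : T.map (MulAut.conj k).toMonoidHom = Q := by
    apply eq_of_le_of_not_dvd_relIndex (p := p) hle hQH hQ
    rw [← hHk, relIndex_cj]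
    exact hTi
  intro A h hh hAQ hhA
  have hA' : (fun a => k⁻¹ * a * k) '' A ⊆ (T : Set G) := by
    rintro _ ⟨a, ha, rfl⟩
    have := hAQ ha
    rw [SetLike.mem_coe, ← hTQ, mem_cj] at this
    exact this
  have hh' : k⁻¹ * h * k ∈ H := H.mul_mem (H.mul_mem (H.inv_mem hkH) hh) hkH
  have hhA' : (fun a => (k⁻¹ * h * k) * a * (k⁻¹ * h * k)⁻¹) '' ((fun a => k⁻¹ * a * k) '' A) ⊆
      (T : Set G) := by
    rintro _ ⟨_, ⟨a, ha, rfl⟩, rfl⟩
    have := hhA ⟨a, ha, rfl⟩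
    rw [SetLike.mem_coe, ← hTQ, mem_cj] at this
    have e : (k⁻¹ * h * k) * (k⁻¹ * a * k) * (k⁻¹ * h * k)⁻¹ = k⁻¹ * (h * a * h⁻¹) * k := by group
    show (k⁻¹ * h * k) * (k⁻¹ * a * k) * (k⁻¹ * h * k)⁻¹ ∈ T
    rw [e]
    exact this
  obtain ⟨c, hc, hca⟩ := hT _ (k⁻¹ * h * k) hh' hA' hhA'
  refine ⟨k * c * k⁻¹, ?_, ?_⟩
  · rw [← hTQ]
    exact hc.cj h𝓦 hTp hkH (fun b hb => ⟨b, hb, rfl⟩)
  · intro a ha
    have := hca (k⁻¹ * a * k) ⟨a, ha, rfl⟩
    calc k * c * k⁻¹ * a * (k * c * k⁻¹)⁻¹ = k * (c * (k⁻¹ * a * k) * c⁻¹) * k⁻¹ := by group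
      _ = k * ((k⁻¹ * h * k) * (k⁻¹ * a * k) * (k⁻¹ * h * k)⁻¹) * k⁻¹ := by rw [this]
      _ = h * a * h⁻¹ := by group

end Sylow

end Cfsg.Agent.Lib.Helper13
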