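import Cfsg.Agent.Lib.Helper13.SignFree
import Cfsg.Agent.Lib.Helper13.PResidual

set_option autoImplicit false

namespace Cfsg.Agent.Lib.Helper13

open Equiv Equiv.Perm

universe u

section

variable {H : Type u} [Group H]

/-- The sign of the permutation action of `H` on the cosets of `M`. -/
noncomputable def cosetSignHom [Finite H] (M : Subgroup H) : H →* ℤˣ :=
  (@Equiv.Perm.sign (H ⧸ M) (Classical.decEq _) (Fintype.ofFinite _)).comp
    (MulAction.toPermHom H (H ⧸ M))

theorem cosetSignHom_eq_neg_one [Finite H] (M : Subgroup H) (c : H) (j m : ℕ)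
    (h1 : c ^ (2 ^ (j + 1)) = 1) (h2 : ∀ g : H, g⁻¹ * c ^ (2 ^ j) * g ∉ M)
    (hidx : M.index = 2 ^ (j + 1) * m) (hm : Odd m) : cosetSignHom M c = -1 := by
  letI : DecidableEq (H ⧸ M) := Classical.decEq _
  letI : Fintype (H ⧸ M) := Fintype.ofFinite _
  have hcard : Fintype.card (H ⧸ M) = 2 ^ (j + 1) * m := by
    rw [← Nat.card_eq_fintype_card, ← Subgroup.index_eq_card, hidx]
  show Equiv.Perm.sign (MulAction.toPermHom H (H ⧸ M) c) = -1
  apply sign_of_free_two_pow (MulAction.toPermHom H (H ⧸ M) c) j m ?_ ?_ hcard hm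
  · rw [← map_pow, h1, map_one]
  · intro x
    rw [← map_pow]
    obtain ⟨g, rfl⟩ := QuotientGroup.mk_surjective x
    show c ^ (2 ^ j) • (g : H ⧸ M) ≠ (g : H ⧸ M)
    rw [MulAction.Quotient.smul_mk]
    intro h
    rw [QuotientGroup.eq] at h
    apply h2 g
    have e : g⁻¹ * c ^ 2 ^ j * g = ((c ^ 2 ^ j • g)⁻¹ * g)⁻¹ := by
      rw [smul_eq_mul]; group
    rw [e]
    exact M.inv_mem h

theorem units_int_eq_one_of_pow_odd {u : ℤˣ} {n : ℕ} (hn : Odd n) (h : u ^ n = 1) : u = 1 := by
  rcases Int.units_eq_one_or u with rfl | rfl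
  · rfl
  · rw [hn.neg_one_pow] at h
    exact h

theorem pResidual_two_le_ker (φ : H →* ℤˣ) : Cfsg.pResidual 2 H ≤ φ.ker := by
  unfold Cfsg.pResidual
  rw [Subgroup.closure_le]
  intro g hg
  have hg' : Nat.Coprime (orderOf g) 2 := hg
  have hodd : Odd (orderOf g) := Nat.Coprime.odd_of_right hg'
  show g ∈ φ.ker
  rw [MonoidHom.mem_ker]
  apply units_int_eq_one_of_pow_odd hodd
  rw [← map_pow, pow_orderOf_eq_one, map_one]

theorem index_ker_eq_two (φ : H →* ℤˣ) (c : H) (hc : φ c = -1) : φ.ker.index = 2 := by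
  rw [Subgroup.index_ker]
  have : φ.range = ⊤ := by
    rw [eq_top_iff]
    intro u _
    rcases Int.units_eq_one_or u with rfl | rfl
    · exact one_mem _
    · exact ⟨c, hc⟩
  rw [this, Subgroup.card_top]
  simp

theorem pResidual_map_subtype (p : ℕ) (K : Subgroup H) (hK : Cfsg.pResidual p H ≤ K) :
    (Cfsg.pResidual p ↥K).map K.subtype = Cfsg.pResidual p H := by
  apply le_antisymm
  · unfold Cfsg.pResidual
    rw [MonoidHom.map_closure, Subgroup.closure_le]
    rintro _ ⟨g, hg, rfl⟩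
    apply Subgroup.subset_closure
    show Nat.Coprime (orderOf (K.subtype g)) p
    rw [Subgroup.coe_subtype, Subgroup.orderOf_coe]
    exact hg
  · have : Cfsg.pResidual p H = Subgroup.closure {g : H | Nat.Coprime (orderOf g) p} := rfl
    rw [this, Subgroup.closure_le]
    intro g hg
    have hgK : g ∈ K := hK (Subgroup.subset_closure hg)
    refine ⟨⟨g, hgK⟩, ?_, rfl⟩
    apply Subgroup.subset_closure
    show Nat.Coprime (orderOf (⟨g, hgK⟩ : ↥K)) p
    rw [Subgroup.orderOf_mk]
    exact hg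

end

/-- Iterated index-two descent: if `c` has `2`-power order `2^j`, the powers `c^(2^i)` (`i < j`)
have no conjugates in `T`, `T ≤ O²(H)` and `|H : T| = 2^j * odd`, then `2^j` divides `|H : O²(H)|`. -/
theorem two_pow_dvd_index_pResidual : ∀ (j : ℕ) (H : Type u) [Group H] [Finite H] (T : Subgroup H)
    (c : H) (m : ℕ), c ^ (2 ^ j) = 1 → (∀ i < j, ∀ g : H, g⁻¹ * c ^ (2 ^ i) * g ∉ T) →
    T ≤ Cfsg.pResidual 2 H → T.index = 2 ^ j * m → Odd m →
    2 ^ j ∣ (Cfsg.pResidual 2 H).index := by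
  intro j
  induction j with
  | zero => intro H _ _ T c m _ _ _ _ _; simp
  | succ j ih =>
    intro H _ _ T c m h1 h2 hT hidx hm
    have hφ : cosetSignHom T c = -1 :=
      cosetSignHom_eq_neg_one T c j m h1 (h2 j (Nat.lt_succ_self j)) hidx hm
    set K : Subgroup H := (cosetSignHom T).ker with hK
    have hKidx : K.index = 2 := index_ker_eq_two _ c hφ
    have hRK : Cfsg.pResidual 2 H ≤ K := pResidual_two_le_ker _
    have hTK : T ≤ K := hT.trans hRK
    have hmap := pResidual_map_subtype 2 K hRK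
    have hc2 : c ^ 2 ∈ K := by
      show c ^ 2 ∈ (cosetSignHom T).ker
      rw [MonoidHom.mem_ker, map_pow, hφ]
      simp
    have hidx' : (T.subgroupOf K).index = 2 ^ j * m := by
      have := Subgroup.relIndex_mul_index hTK
      rw [hKidx, hidx, pow_succ] at this
      have h2' : T.relIndex K * 2 = 2 ^ j * m * 2 := by rw [this]; ring
      exact Nat.eq_of_mul_eq_mul_right (by norm_num) h2'
    have key := ih ↥K (T.subgroupOf K) ⟨c ^ 2, hc2⟩ m ?_ ?_ ?_ hidx' hm
    · rw [← hmap, Subgroup.index_map_subtype, hKidx, pow_succ]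
      exact Nat.mul_dvd_mul_right key 2
    · apply Subtype.ext
      rw [Subgroup.coe_pow]
      show (c ^ 2) ^ 2 ^ j = 1
      rw [← pow_mul, ← pow_succ']
      exact h1
    · intro i hi g hmem
      rw [Subgroup.mem_subgroupOf] at hmem
      apply h2 (i + 1) (Nat.succ_lt_succ hi) (g : H)
      have e : (g : H)⁻¹ * c ^ 2 ^ (i + 1) * (g : H) =
          ((g⁻¹ * (⟨c ^ 2, hc2⟩ : ↥K) ^ 2 ^ i * g : ↥K) : H) := by
        rw [Subgroup.coe_mul, Subgroup.coe_mul, Subgroup.coe_inv, Subgroup.coe_pow]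
        show _ = (g : H)⁻¹ * (c ^ 2) ^ 2 ^ i * (g : H)
        rw [← pow_mul, ← pow_succ']
      rw [e]
      exact hmem
    · intro t ht
      rw [Subgroup.mem_subgroupOf] at ht
      have h3 : (t : H) ∈ (Cfsg.pResidual 2 ↥K).map K.subtype := by
        rw [hmap]; exact hT ht
      obtain ⟨t', ht', htt'⟩ := h3
      have : t' = t := Subtype.ext htt'
      rw [← this]
      exact ht'

end Cfsg.Agent.Lib.Helper13
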