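import Cfsg.Agent.Lib.Helper13.FrobSumC
import Cfsg.Agent.Lib.Helper13.Basic
import Cfsg.Agent.Lib.Helper13.FusionLift
import Cfsg.Agent.Lib.Helper1.GNPC.Stable

set_option autoImplicit false

/-! Building the final configuration of the normal `p`-complement arguments (Lib/Helper1/GNPC) from
a constrained group whose Sylow `p`-subgroup is maximal and whose quotient by `O_p` has a normal
`p`-complement (helper13). -/

namespace Cfsg.Agent.Lib.Helper13

open Cfsg Cfsg.Agent.Lib.Helper1.TNPC Cfsg.Agent.Lib.Helper1.GNPC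

universe u

section Build

variable {Γ : Type u} [Group Γ] [Finite Γ] {p : ℕ} [hp : Fact p.Prime]

theorem finalCfg_of_coatom (H : Subgroup Γ) [hHn : H.Normal] (hHp : IsPGroup p ↥H)
    (hmax : ∀ (X : Subgroup Γ) [X.Normal], IsPGroup p ↥X → X ≤ H)
    (hcent : Subgroup.centralizer (H : Set Γ) ≤ H)
    (hnpc : Cfsg.HasNormalPComplement p (Γ ⧸ H)) (T : Sylow p Γ)
    (hT : IsCoatom (T : Subgroup Γ)) :
    ∃ Kb : Subgroup (Γ ⧸ H), FinalCfg p Γ T H Kb := by
  have hpp : p.Prime := hp.out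
  obtain ⟨Kb, hKn, hKc, j, hj⟩ := npc_iff.mp hnpc
  have k : KCtx p Γ T H Kb := ⟨hKn, hKc, ⟨j, hj⟩⟩
  have hHT : H ≤ (T : Subgroup Γ) := normal_pgroup_le_sylow H hHp T
  have hTne : (T : Subgroup Γ) ≠ ⊤ := hT.1
  have hnotp : ¬ IsPGroup p Γ := by
    intro hG
    apply hTne
    have : (⊤ : Subgroup Γ) ≤ (T : Subgroup Γ) := by
      haveI : (⊤ : Subgroup Γ).Normal := inferInstance
      exact normal_pgroup_le_sylow ⊤ (IsPGroup.of_equiv hG Subgroup.topEquiv.symm) T
    exact top_le_iff.mp this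
  refine ⟨Kb, ⟨k, hHT, ?_, fun X _ hX => hmax X hX, ?_, hcent, ?_, ?_⟩⟩
  · -- `H ≠ ⊥`
    intro hbot
    apply hTne
    rw [eq_top_iff]
    intro x _
    have : x ∈ Subgroup.centralizer (H : Set Γ) := by
      rw [hbot, Subgroup.mem_centralizer_iff]
      intro h hh
      rw [SetLike.mem_coe, Subgroup.mem_bot] at hh
      rw [hh, one_mul, mul_one]
    exact hHT (hcent this)
  · -- normal `p'`-subgroups are trivial
    intro X hXn hX
    rw [eq_bot_iff]
    intro x hx
    have hxc : x ∈ Subgroup.centralizer (H : Set Γ) := by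
      rw [Subgroup.mem_centralizer_iff]
      intro h hh
      have h1 : x * h * x⁻¹ * h⁻¹ ∈ H :=
        H.mul_mem (hHn.conj_mem h hh x) (H.inv_mem hh)
      have h2 : x * h * x⁻¹ * h⁻¹ ∈ X := by
        have : x * h * x⁻¹ * h⁻¹ = x * (h * x⁻¹ * h⁻¹) := by group
        rw [this]
        exact X.mul_mem hx (hXn.conj_mem _ (X.inv_mem hx) h)
      have h3 := Cfsg.Agent.Lib.Helper5.h5_eq_one_of_mem_pgroup_of_mem_coprime hHp hX h1 h2
      calc h * x = (x * h * x⁻¹ * h⁻¹)⁻¹ * (x * h) := by group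
        _ = x * h := by rw [h3, inv_one, one_mul]
    rw [Subgroup.mem_bot]
    exact Cfsg.Agent.Lib.Helper5.h5_eq_one_of_mem_pgroup_of_mem_coprime hHp hX (hcent hxc) hx
  · -- irreducibility
    intro K₁ hHK₁ hK₁K hTK₁ hne
    have hsup : (T : Subgroup Γ) ⊔ K₁ = (T : Subgroup Γ) ∨ (T : Subgroup Γ) ⊔ K₁ = ⊤ := by
      by_cases h : (T : Subgroup Γ) ⊔ K₁ = ⊤
      · exact Or.inr h
      · left
        by_contra h2
        exact h (hT.2 _ (lt_of_le_of_ne le_sup_left (Ne.symm h2)))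
    rcases hsup with h | h
    · have hK₁T : K₁ ≤ (T : Subgroup Γ) := by rw [← h]; exact le_sup_right
      apply le_antisymm _ hHK₁
      intro x hx
      exact k.inf_le ⟨hK₁K hx, hK₁T hx⟩
    · exfalso
      apply hne
      apply le_antisymm hK₁K
      intro x hx
      have hx' : x ∈ (T : Subgroup Γ) ⊔ K₁ := by rw [h]; exact Subgroup.mem_top _
      obtain ⟨k₁, hk₁, t, ht, rfl⟩ := mem_sup_of_le_normalizer' hTK₁ hx'
      have htK : t ∈ Kb.comap (QuotientGroup.mk' H) := by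
        have : t = k₁⁻¹ * (k₁ * t) := by group
        rw [this]
        exact Subgroup.mul_mem _ (Subgroup.inv_mem _ (hK₁K hk₁)) hx
      exact K₁.mul_mem hk₁ (hHK₁ (k.inf_le ⟨htK, ht⟩))
  · -- `K ≠ H`
    intro hKH
    apply hnotp
    obtain ⟨j', hj'⟩ := k.index_eq
    rw [hKH] at hj'
    have hcard : Nat.card Γ = Nat.card ↥H * p ^ j' := by
      rw [← hj', mul_comm]
      exact (Subgroup.index_mul_card H).symm
    obtain ⟨a, ha⟩ := IsPGroup.iff_card.mp hHp
    exact IsPGroup.of_card (n := a + j') (by rw [hcard, ha, pow_add])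

end Build

end Cfsg.Agent.Lib.Helper13
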