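import Mathlib
import Cfsg.Agent.Lib.Helper1.FrobPQ.Props
import Cfsg.Agent.Lib.Helper10.QuotModule

/-!
# `el_quot` (piece P10 of helper1's plan for S4305), part A: the quotient module in ambient form
-/

set_option autoImplicit false

namespace Cfsg.Agent.Lib.Helper13.FrobElQuot

open Cfsg.Agent.Lib.Helper1.FrobPQ Cfsg.Agent.Lib.Helper1.Ward
open scoped commutatorElement

universe u

/-- ambient form of `exists_quot_module`: the module `S / C` with the conjugation action of a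
subgroup `Y` normalizing `S` and `C` -/
theorem quot_amb {𝔾 : Type u} [Group 𝔾] [Finite 𝔾] (S C Y : Subgroup 𝔾) (hCS : C ≤ S)
    (hSY : S ≤ Y) (hYS : Y ≤ Subgroup.normalizer (S : Set 𝔾))
    (hYC : Y ≤ Subgroup.normalizer (C : Set 𝔾)) (hder : ⁅S, S⁆ ≤ C) :
    ∃ (T : Type u) (_ : CommGroup T) (_ : Finite T) (θ : ↥Y →* MulAut T) (ρ : ↥S →* T),
      Function.Surjective ρ ∧ (∀ y : ↥S, ρ y = 1 ↔ (y : 𝔾) ∈ C) ∧
      ∀ (g : ↥Y) (y : ↥S) (h : (g : 𝔾) * y * (g : 𝔾)⁻¹ ∈ S),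
        θ g (ρ y) = ρ ⟨(g : 𝔾) * y * (g : 𝔾)⁻¹, h⟩ := by
  have hV : (S.subgroupOf Y).Normal := Subgroup.normal_subgroupOf_of_le_normalizer hYS
  have hV₀ : (C.subgroupOf Y).Normal := Subgroup.normal_subgroupOf_of_le_normalizer hYC
  have hle : C.subgroupOf Y ≤ S.subgroupOf Y := by
    intro a ha
    rw [Subgroup.mem_subgroupOf] at ha ⊢
    exact hCS ha
  have hder' : ⁅S.subgroupOf Y, S.subgroupOf Y⁆ ≤ C.subgroupOf Y := by
    rw [Subgroup.commutator_le]
    intro a ha b hb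
    rw [Subgroup.mem_subgroupOf] at ha hb ⊢
    exact hder (Subgroup.commutator_mem_commutator ha hb)
  obtain ⟨T, iT, iF, Ψ, π, hsurj, hker, hact⟩ :=
    Cfsg.Agent.Lib.Helper10.QuotModule.exists_quot_module _ _ hV hV₀ hle hder'
  let e : ↥S →* ↥(S.subgroupOf Y) := (Subgroup.subgroupOfEquivOfLe hSY).symm.toMonoidHom
  have he : ∀ y : ↥S, ((e y : ↥Y) : 𝔾) = y := by
    intro y
    rfl
  refine ⟨T, iT, iF, Ψ, π.comp e, ?_, ?_, ?_⟩
  · exact hsurj.comp (Subgroup.subgroupOfEquivOfLe hSY).symm.surjective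
  · intro y
    rw [MonoidHom.comp_apply, hker, Subgroup.mem_subgroupOf, he]
  · intro g y h
    rw [MonoidHom.comp_apply, hact, MonoidHom.comp_apply]
    congr 1

end Cfsg.Agent.Lib.Helper13.FrobElQuot
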