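import Mathlib
import Cfsg.Agent.Lib.Helper13.FrobElQuotA
import Cfsg.Agent.Lib.Helper13.FrobFinalD
import Cfsg.Agent.S0022

/-!
# `el_quot` (piece P10 of helper1's plan for S4305), part B: general lemmas
-/

set_option autoImplicit false

namespace Cfsg.Agent.Lib.Helper13.FrobElQuot

open Cfsg.Agent.Lib.Helper1.FrobPQ Cfsg.Agent.Lib.Helper1.Ward
open scoped commutatorElement

universe u

section General

variable {𝔾 : Type u} [Group 𝔾]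

/-- an element normalizing `S` and `R` normalizes `S ⊓ C(R)` (one inclusion) -/
theorem conj_mem_inf_cent {S R : Subgroup 𝔾} {g : 𝔾}
    (hgS : g ∈ Subgroup.normalizer (S : Set 𝔾)) (hgR : g ∈ Subgroup.normalizer (R : Set 𝔾))
    {c : 𝔾} (hc : c ∈ S ⊓ Subgroup.centralizer (R : Set 𝔾)) :
    g * c * g⁻¹ ∈ S ⊓ Subgroup.centralizer (R : Set 𝔾) := by
  refine ⟨nmem hgS hc.1, ?_⟩
  change g * c * g⁻¹ ∈ Subgroup.centralizer (R : Set 𝔾)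
  rw [Subgroup.mem_centralizer_iff]
  intro h hh
  have h1 : g⁻¹ * h * g ∈ R := nmem' hgR hh
  have h2 := (Subgroup.mem_centralizer_iff.mp hc.2) _ h1
  calc h * (g * c * g⁻¹) = g * ((g⁻¹ * h * g) * c) * g⁻¹ := by group
    _ = g * (c * (g⁻¹ * h * g)) * g⁻¹ := by rw [h2]
    _ = g * c * g⁻¹ * h := by group

/-- a `p`-group and a `q`-group have coprime orders -/
theorem coprime_card_of_pgroups [Finite 𝔾] {s r : ℕ} (hs : s.Prime) (hr : r.Prime) (hsr : s ≠ r)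
    {S R : Subgroup 𝔾} (hS : IsPGroup s S) (hR : IsPGroup r R) :
    (Nat.card R).Coprime (Nat.card S) := by
  haveI : Fact s.Prime := ⟨hs⟩
  haveI : Fact r.Prime := ⟨hr⟩
  obtain ⟨n, hn⟩ := IsPGroup.iff_card.mp hS
  obtain ⟨m, hm⟩ := IsPGroup.iff_card.mp hR
  rw [hn, hm]
  exact Nat.Coprime.pow _ _ ((Nat.coprime_primes hr hs).mpr (Ne.symm hsr))

/-- a finite `p`-subgroup is solvable -/
theorem solvable_of_pgroup [Finite 𝔾] {s : ℕ} (hs : s.Prime) {S : Subgroup 𝔾}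
    (hS : IsPGroup s S) : Group.IsSolvable S := by
  haveI : Fact s.Prime := ⟨hs⟩
  haveI := hS.isNilpotent
  infer_instance

end General

section Data

variable {𝔾 : Type u} [Group 𝔾] {S C Y : Subgroup 𝔾} {T : Type u} [CommGroup T]
  {θ : ↥Y →* MulAut T} {ρ : ↥S →* T}

/-- `g ∈ Y` centralizing `S` acts trivially on `T` -/
theorem theta_eq_one_of_cent (hYS : Y ≤ Subgroup.normalizer (S : Set 𝔾))
    (hsurj : Function.Surjective ρ)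
    (hact : ∀ (g : ↥Y) (y : ↥S) (h : (g : 𝔾) * y * (g : 𝔾)⁻¹ ∈ S),
      θ g (ρ y) = ρ ⟨(g : 𝔾) * y * (g : 𝔾)⁻¹, h⟩)
    (g : ↥Y) (hg : (g : 𝔾) ∈ Subgroup.centralizer (S : Set 𝔾)) : θ g = 1 := by
  ext t
  obtain ⟨y, rfl⟩ := hsurj t
  rw [hact g y (nmem (hYS g.2) y.2), MulAut.one_apply]
  congr 1
  apply Subtype.ext
  have h1 := (Subgroup.mem_centralizer_iff.mp hg) y y.2
  change (g : 𝔾) * y * (g : 𝔾)⁻¹ = y
  rw [← h1, mul_inv_cancel_right]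

/-- `ρ y = ρ z` iff `z⁻¹ y ∈ C` -/
theorem rho_eq_iff (hker : ∀ y : ↥S, ρ y = 1 ↔ (y : 𝔾) ∈ C) (y z : ↥S) :
    ρ y = ρ z ↔ (z : 𝔾)⁻¹ * y ∈ C := by
  have h1 := hker (z⁻¹ * y)
  rw [map_mul, map_inv, inv_mul_eq_one] at h1
  rw [eq_comm, h1]
  rfl

end Data

section Preim

variable {𝔾 : Type u} [Group 𝔾] {Y : Subgroup 𝔾} {T : Type u} [CommGroup T]

/-- the elements of `R` (inside `Y`) mapped into `D` by `θ` -/
def preim (θ : ↥Y →* MulAut T) (R : Subgroup 𝔾) (D : Subgroup (MulAut T)) : Subgroup 𝔾 :=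
  ((D.comap θ) ⊓ R.subgroupOf Y).map Y.subtype

theorem mem_preim {θ : ↥Y →* MulAut T} {R : Subgroup 𝔾} {D : Subgroup (MulAut T)} {k : 𝔾} :
    k ∈ preim θ R D ↔ k ∈ R ∧ ∃ hk : k ∈ Y, θ ⟨k, hk⟩ ∈ D := by
  constructor
  · rintro ⟨g, ⟨hg1, hg2⟩, rfl⟩
    exact ⟨Subgroup.mem_subgroupOf.mp hg2, g.2, hg1⟩
  · rintro ⟨hkR, hkY, hkD⟩
    exact ⟨⟨k, hkY⟩, ⟨hkD, Subgroup.mem_subgroupOf.mpr hkR⟩, rfl⟩

theorem preim_le (θ : ↥Y →* MulAut T) (R : Subgroup 𝔾) (D : Subgroup (MulAut T)) :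
    preim θ R D ≤ R := fun _ hk => (mem_preim.mp hk).1

theorem preim_normalizer [Finite 𝔾] {θ : ↥Y →* MulAut T} {R : Subgroup 𝔾}
    {D : Subgroup (MulAut T)} {a : 𝔾} (haY : a ∈ Y)
    (haR : a ∈ Subgroup.normalizer (R : Set 𝔾))
    (haD : θ ⟨a, haY⟩ ∈ Subgroup.normalizer (D : Set (MulAut T))) :
    a ∈ Subgroup.normalizer ((preim θ R D : Subgroup 𝔾) : Set 𝔾) := by
  apply FrobFinal.mem_normalizer_of_conj_mem
  intro k hk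
  obtain ⟨hkR, hkY, hkD⟩ := mem_preim.mp hk
  refine mem_preim.mpr ⟨nmem haR hkR, Y.mul_mem (Y.mul_mem haY hkY) (Y.inv_mem haY), ?_⟩
  have h1 : (⟨a * k * a⁻¹, Y.mul_mem (Y.mul_mem haY hkY) (Y.inv_mem haY)⟩ : ↥Y)
      = ⟨a, haY⟩ * ⟨k, hkY⟩ * (⟨a, haY⟩ : ↥Y)⁻¹ := rfl
  rw [h1, map_mul, map_mul, map_inv]
  exact nmem haD hkD

end Preim

section Gen

variable {𝔾 : Type u} [Group 𝔾] [Finite 𝔾]

/-- a subgroup of `↥Y` containing `f` and `x` contains `A = ⟨f⟩ ⋊ ⟨x⟩` -/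
theorem mem_of_gen {A F Y : Subgroup 𝔾} {p q : ℕ} (hfrob : FrobA p q A F) (hAY : A ≤ Y)
    {f x : 𝔾} (hf : f ∈ F) (hf1 : f ≠ 1) (hxA : x ∈ A) (hxF : x ∉ F) (K : Subgroup ↥Y)
    (hfK : (⟨f, hAY (hfrob.FA hf)⟩ : ↥Y) ∈ K) (hxK : (⟨x, hAY hxA⟩ : ↥Y) ∈ K) :
    ∀ (a : 𝔾) (ha : a ∈ A), (⟨a, hAY ha⟩ : ↥Y) ∈ K := by
  have h1 : A ≤ K.map Y.subtype := by
    rw [← hfrob.sup_zpowers_eq hxA hxF, ← hfrob.F_eq_zpowers hf hf1]
    apply sup_le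
    · rw [Subgroup.zpowers_le]
      exact ⟨_, hfK, rfl⟩
    · rw [Subgroup.zpowers_le]
      exact ⟨_, hxK, rfl⟩
  intro a ha
  obtain ⟨k, hk, hka⟩ := h1 ha
  have : k = ⟨a, hAY ha⟩ := Subtype.ext hka
  rw [← this]
  exact hk

end Gen

end Cfsg.Agent.Lib.Helper13.FrobElQuot
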