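import Mathlib
import Cfsg.Agent.Lib.Helper13.FrobElQuotB

/-!
# `el_quot` (piece P10 of helper1's plan for S4305), part C: the statement
-/

set_option autoImplicit false

namespace Cfsg.Agent.Lib.Helper13.FrobElQuot

open Cfsg.Agent.Lib.Helper1.FrobPQ Cfsg.Agent.Lib.Helper1.Ward
open scoped commutatorElement

universe u

set_option maxHeartbeats 1600000 in
theorem el_quot {𝔾 : Type u} [Group 𝔾] [Finite 𝔾] (hfinal : FinalLemmaProp.{u}) {p q s r : ℕ}
    {A F S R : Subgroup 𝔾}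
    (hfrob : FrobA p q A F) (hs : s.Prime) (hr : r.Prime) (hsr : s ≠ r) (hsp : s ≠ p) (hsq : s ≠ q)
    (hrp : r ≠ p) (hrq : r ≠ q) (Sgroup : IsPGroup s S) (Rgroup : IsPGroup r R)
    (AS : A ≤ Subgroup.normalizer (S : Set 𝔾)) (AR : A ≤ Subgroup.normalizer (R : Set 𝔾))
    (RS : R ≤ Subgroup.normalizer (S : Set 𝔾))
    (fpfS : ∀ y ∈ S, (∀ a ∈ A, a * y = y * a) → y = 1)
    (fpfR : ∀ x ∈ R, (∀ a ∈ A, a * x = x * a) → x = 1)
    (hder : ⁅R, R⁆ ≤ Subgroup.centralizer (S : Set 𝔾))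
    (hSS : ⁅S, S⁆ ≤ S ⊓ Subgroup.centralizer (R : Set 𝔾))
    (hirr : ∀ R' : Subgroup 𝔾, R' ≤ R → A ≤ Subgroup.normalizer (R' : Set 𝔾) →
      R' ≠ R → R' ≤ Subgroup.centralizer (S : Set 𝔾))
    {x : 𝔾} (hxA : x ∈ A) (hxF : x ∉ F) (N : Subgroup 𝔾) (hNS : N ≤ S)
    (hSN : S ≤ Subgroup.normalizer (N : Set 𝔾)) (hRN : R ≤ Subgroup.normalizer (N : Set 𝔾))
    (hxN : ∀ y ∈ S, x * y * x⁻¹ * y⁻¹ ∈ N) :
    S ≤ N ⊔ (S ⊓ Subgroup.centralizer (R : Set 𝔾)) := by
  classical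
  have hp := hfrob.hp
  have hq := hfrob.hq
  -- `CR` and the subgroup `Y`
  have hCRS : S ⊓ Subgroup.centralizer (R : Set 𝔾) ≤ S := inf_le_left
  have hS_CR : S ≤ Subgroup.normalizer ((S ⊓ Subgroup.centralizer (R : Set 𝔾) : Subgroup 𝔾) : Set 𝔾) := by
    intro y hy
    apply FrobFinal.mem_normalizer_of_conj_mem
    intro c hc
    have h1 : ⁅y, c⁆ ∈ S ⊓ Subgroup.centralizer (R : Set 𝔾) :=
      hSS (Subgroup.commutator_mem_commutator hy hc.1)
    have h2 : y * c * y⁻¹ = ⁅y, c⁆ * c := by rw [commutatorElement_def]; group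
    rw [h2]
    exact mul_mem h1 hc
  have hA_CR : A ≤ Subgroup.normalizer ((S ⊓ Subgroup.centralizer (R : Set 𝔾) : Subgroup 𝔾) : Set 𝔾) := by
    intro a ha
    apply FrobFinal.mem_normalizer_of_conj_mem
    intro c hc
    exact conj_mem_inf_cent (AS ha) (AR ha) hc
  have hR_CR : R ≤ Subgroup.normalizer ((S ⊓ Subgroup.centralizer (R : Set 𝔾) : Subgroup 𝔾) : Set 𝔾) := by
    intro a ha
    apply FrobFinal.mem_normalizer_of_conj_mem
    intro c hc
    exact conj_mem_inf_cent (RS ha) (Subgroup.le_normalizer ha) hc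
  obtain ⟨Y, hYdef⟩ : ∃ Y : Subgroup 𝔾, Y = Subgroup.normalizer (S : Set 𝔾) ⊓
      Subgroup.normalizer ((S ⊓ Subgroup.centralizer (R : Set 𝔾) : Subgroup 𝔾) : Set 𝔾) := ⟨_, rfl⟩
  have hYS : Y ≤ Subgroup.normalizer (S : Set 𝔾) := hYdef ▸ inf_le_left
  have hYC : Y ≤ Subgroup.normalizer ((S ⊓ Subgroup.centralizer (R : Set 𝔾) : Subgroup 𝔾) : Set 𝔾) :=
    hYdef ▸ inf_le_right
  have hSY : S ≤ Y := hYdef ▸ le_inf Subgroup.le_normalizer hS_CR
  have hAY : A ≤ Y := hYdef ▸ le_inf AS hA_CR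
  have hRY : R ≤ Y := hYdef ▸ le_inf RS hR_CR
  obtain ⟨T, iT, iF, θ, ρ, hsurj, hker, hact⟩ :=
    quot_amb S (S ⊓ Subgroup.centralizer (R : Set 𝔾)) Y hCRS hSY hYS hYC hSS
  have hK1 := theta_eq_one_of_cent hYS hsurj hact
  have hρeq := rho_eq_iff hker
  -- the generator `f` of `F`
  obtain ⟨f, hfF, hf1⟩ := hfrob.exists_gen_F
  have hFz := hfrob.F_eq_zpowers hfF hf1
  have hfA : f ∈ A := hfrob.FA hfF
  -- elements of `↥Y`
  obtain ⟨fY, hfY⟩ : ∃ fY : ↥Y, fY = ⟨f, hAY hfA⟩ := ⟨_, rfl⟩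
  obtain ⟨xY, hxY⟩ : ∃ xY : ↥Y, xY = ⟨x, hAY hxA⟩ := ⟨_, rfl⟩
  have hgen : ∀ K : Subgroup ↥Y, fY ∈ K → xY ∈ K → ∀ (a : 𝔾) (ha : a ∈ A), (⟨a, hAY ha⟩ : ↥Y) ∈ K := by
    intro K hfK hxK
    exact mem_of_gen hfrob hAY hfF hf1 hxA hxF K (hfY ▸ hfK) (hxY ▸ hxK)
  -- cardinalities
  have hcardT : Nat.card T ∣ Nat.card S := Subgroup.card_dvd_of_surjective ρ hsurj
  have hcardRb : Nat.card ((R.subgroupOf Y).map θ) ∣ Nat.card R := by
    have h1 := Subgroup.card_map_dvd (H := R.subgroupOf Y) θ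
    rwa [Nat.card_congr (Subgroup.subgroupOfEquivOfLe hRY).toEquiv] at h1
  obtain ⟨n, hn⟩ : ∃ n, Nat.card S = s ^ n := by
    haveI : Fact s.Prime := ⟨hs⟩
    exact IsPGroup.iff_card.mp Sgroup
  obtain ⟨m, hm⟩ : ∃ m, Nat.card R = r ^ m := by
    haveI : Fact r.Prime := ⟨hr⟩
    exact IsPGroup.iff_card.mp Rgroup
  have hcopRS : (Nat.card R).Coprime (Nat.card S) := coprime_card_of_pgroups hs hr hsr Sgroup Rgroup
  have hcopAS : (Nat.card A).Coprime (Nat.card S) := by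
    rw [hfrob.card, hn]
    apply Nat.Coprime.pow_right
    apply Nat.Coprime.mul_left
    · exact (Nat.coprime_primes hp hs).mpr (Ne.symm hsp)
    · exact (Nat.coprime_primes hq hs).mpr (Ne.symm hsq)
  have hcopAR : (Nat.card A).Coprime (Nat.card R) := by
    rw [hfrob.card, hm]
    apply Nat.Coprime.pow_right
    apply Nat.Coprime.mul_left
    · exact (Nat.coprime_primes hp hr).mpr (Ne.symm hrp)
    · exact (Nat.coprime_primes hq hr).mpr (Ne.symm hrq)
  have hsolvS : Group.IsSolvable S := solvable_of_pgroup hs Sgroup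
  have hsolvR : Group.IsSolvable R := solvable_of_pgroup hr Rgroup
  -- the conclusion from `hfinal`
  have hmain : (N.subgroupOf S).map ρ = ⊤ := by
    have hRbmem : ∀ c ∈ (R.subgroupOf Y).map θ, ∃ g : ↥Y, (g : 𝔾) ∈ R ∧ θ g = c := by
      intro c hc
      obtain ⟨g, hg, rfl⟩ := Subgroup.mem_map.mp hc
      exact ⟨g, Subgroup.mem_subgroupOf.mp hg, rfl⟩
    have hmemRb : ∀ g : ↥Y, (g : 𝔾) ∈ R → θ g ∈ (R.subgroupOf Y).map θ := by
      intro g hg
      exact Subgroup.mem_map.mpr ⟨g, Subgroup.mem_subgroupOf.mpr hg, rfl⟩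
    -- a fixed coset gives a commutator in `CR`
    have hfixconv : ∀ (g : ↥Y) (y : ↥S), θ g (ρ y) = ρ y →
        (g : 𝔾) * (y : 𝔾) * (g : 𝔾)⁻¹ * (y : 𝔾)⁻¹ ∈ S ⊓ Subgroup.centralizer (R : Set 𝔾) := by
      intro g y h1
      rw [hact g y (nmem (hYS g.2) y.2)] at h1
      have h2 := (hρeq _ _).mp h1
      have h3 := nmem (hS_CR y.2) h2
      have h4 : (g : 𝔾) * (y : 𝔾) * (g : 𝔾)⁻¹ * (y : 𝔾)⁻¹
          = (y : 𝔾) * ((y : 𝔾)⁻¹ * ((g : 𝔾) * y * (g : 𝔾)⁻¹)) * (y : 𝔾)⁻¹ := by group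
      rw [h4]; exact h3
    apply hfinal T ((R.subgroupOf Y).map θ) (θ fY) (θ xY) p q hp hq
    · -- hRab
      intro c hc d hd
      obtain ⟨g, hg, rfl⟩ := hRbmem c hc
      obtain ⟨h, hh, rfl⟩ := hRbmem d hd
      have h1 : θ (⁅g, h⁆) = 1 := by
        apply hK1
        exact hder (Subgroup.commutator_mem_commutator hg hh)
      rw [commutatorElement_def, map_mul, map_mul, map_mul, map_inv, map_inv] at h1
      calc θ g * θ h = (θ g * θ h * (θ g)⁻¹ * (θ h)⁻¹) * (θ h * θ g) := by group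
        _ = θ h * θ g := by rw [h1, one_mul]
    · -- hfR
      intro c hc
      obtain ⟨g, hg, rfl⟩ := hRbmem c hc
      rw [← map_inv, ← map_mul, ← map_mul]
      apply hmemRb
      have : ((fY * g * fY⁻¹ : ↥Y) : 𝔾) = f * g * f⁻¹ := by rw [hfY]; rfl
      rw [this]
      exact nmem (AR hfA) hg
    · -- hxR
      intro c hc
      obtain ⟨g, hg, rfl⟩ := hRbmem c hc
      rw [← map_inv, ← map_mul, ← map_mul]
      apply hmemRb
      have : ((xY * g * xY⁻¹ : ↥Y) : 𝔾) = x * g * x⁻¹ := by rw [hxY]; rfl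
      rw [this]
      exact nmem (AR hxA) hg
    · -- fb ^ p = 1
      rw [← map_pow]
      have : fY ^ p = 1 := by
        apply Subtype.ext
        rw [hfY, Subgroup.coe_pow]
        exact hfrob.pow_p_eq_one hfF
      rw [this, map_one]
    · -- xb ^ q = 1
      rw [← map_pow]
      have : xY ^ q = 1 := by
        apply Subtype.ext
        rw [hxY, Subgroup.coe_pow]
        exact hfrob.pow_q_eq_one hxA hxF
      rw [this, map_one]
    · -- hxf
      intro g hg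
      obtain ⟨i, rfl⟩ := Subgroup.mem_zpowers_iff.mp hg
      have h1 : x * f ^ i * x⁻¹ ∈ Subgroup.zpowers f := by
        rw [hFz]
        exact nmem (hfrob.AF hxA) (F.zpow_mem hfF i)
      obtain ⟨j, hj⟩ := Subgroup.mem_zpowers_iff.mp h1
      rw [Subgroup.mem_zpowers_iff]
      refine ⟨j, ?_⟩
      rw [← map_zpow, ← map_zpow, ← map_inv, ← map_mul, ← map_mul]
      congr 1
      apply Subtype.ext
      rw [hfY, hxY]
      simpa using hj
    · -- hfree
      intro g hg hcomm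
      obtain ⟨i, rfl⟩ := Subgroup.mem_zpowers_iff.mp hg
      by_cases hfi : f ^ i = 1
      · rw [← map_zpow]
        have : fY ^ i = 1 := by
          apply Subtype.ext
          rw [hfY]
          simpa using hfi
        rw [this, map_one]
      · have hfiF : f ^ i ∈ F := F.zpow_mem hfF i
        have huF : x * f ^ i * x⁻¹ * (f ^ i)⁻¹ ∈ F :=
          mul_mem (nmem (hfrob.AF hxA) hfiF) (inv_mem hfiF)
        have hu1 : x * f ^ i * x⁻¹ * (f ^ i)⁻¹ ≠ 1 := by
          intro h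
          apply hfi
          apply hfrob.free hxA hxF hfiF
          calc x * f ^ i = (x * f ^ i * x⁻¹ * (f ^ i)⁻¹) * (f ^ i * x) := by group
            _ = f ^ i * x := by rw [h, one_mul]
        have huz := hfrob.F_eq_zpowers huF hu1
        have hθu : θ (xY * fY ^ i * xY⁻¹ * (fY ^ i)⁻¹) = 1 := by
          rw [map_mul, map_mul, map_mul, map_inv, map_inv, map_zpow, hcomm]
          group
        have h3 : f ^ i ∈ Subgroup.zpowers (x * f ^ i * x⁻¹ * (f ^ i)⁻¹) := by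
          rw [huz]; exact hfiF
        obtain ⟨k, hk⟩ := Subgroup.mem_zpowers_iff.mp h3
        have h4 : fY ^ i = (xY * fY ^ i * xY⁻¹ * (fY ^ i)⁻¹) ^ k := by
          apply Subtype.ext
          rw [hfY, hxY]
          simpa using hk.symm
        rw [← map_zpow, h4, map_zpow, hθu, one_zpow]
    · -- hcopRT
      exact Nat.Coprime.coprime_dvd_left hcardRb (Nat.Coprime.coprime_dvd_right hcardT hcopRS)
    · -- hcopqT
      apply Nat.Coprime.coprime_dvd_left hcardT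
      rw [hn]
      exact Nat.Coprime.pow_left _ ((Nat.coprime_primes hs hq).mpr hsq)
    · -- hcopqR
      apply Nat.Coprime.coprime_dvd_left hcardRb
      rw [hm]
      exact Nat.Coprime.pow_left _ ((Nat.coprime_primes hr hq).mpr hrq)
    · -- hfixR
      intro t ht
      obtain ⟨y, rfl⟩ := hsurj t
      have hfix : ∀ g ∈ R, g * (y : 𝔾) * g⁻¹ * (y : 𝔾)⁻¹
          ∈ S ⊓ Subgroup.centralizer (R : Set 𝔾) := by
        intro g hg
        exact hfixconv ⟨g, hRY hg⟩ y (ht _ (hmemRb ⟨g, hRY hg⟩ hg))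
      obtain ⟨c, hc, hc2⟩ := Cfsg.Agent.S0022.result R S RS hcopRS (Or.inr hsolvS)
        (S ⊓ Subgroup.centralizer (R : Set 𝔾)) hCRS hS_CR hR_CR (y : 𝔾) y.2 hfix
      rw [hker]
      have h5 : (y : 𝔾) = c * ((y : 𝔾)⁻¹ * c)⁻¹ := by group
      rw [h5]
      exact mul_mem hc (inv_mem hc2)
    · -- hfixA
      intro t hft hxt
      obtain ⟨y, rfl⟩ := hsurj t
      have hstab : ∀ (a : 𝔾) (ha : a ∈ A), θ ⟨a, hAY ha⟩ (ρ y) = ρ y := by
        have h0 := hgen ((MulAction.stabilizer (MulAut T) (ρ y)).comap θ)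
          (by rw [Subgroup.mem_comap, MulAction.mem_stabilizer_iff]; exact hft)
          (by rw [Subgroup.mem_comap, MulAction.mem_stabilizer_iff]; exact hxt)
        intro a ha
        have h1 := h0 a ha
        rw [Subgroup.mem_comap, MulAction.mem_stabilizer_iff] at h1
        exact h1
      have hfix : ∀ a ∈ A, a * (y : 𝔾) * a⁻¹ * (y : 𝔾)⁻¹
          ∈ S ⊓ Subgroup.centralizer (R : Set 𝔾) := by
        intro a ha
        exact hfixconv ⟨a, hAY ha⟩ y (hstab a ha)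
      obtain ⟨c, hc, hc2⟩ := Cfsg.Agent.S0022.result A S AS hcopAS (Or.inr hsolvS)
        (S ⊓ Subgroup.centralizer (R : Set 𝔾)) hCRS hS_CR hA_CR (y : 𝔾) y.2 hfix
      have hc1 : c = 1 :=
        fpfS c hc.1 (fun a ha => (Subgroup.mem_centralizer_iff.mp hc.2) a ha)
      rw [hker]
      rw [hc1, mul_one] at hc2
      have := inv_mem hc2
      rwa [inv_inv] at this
    · -- hfixRA
      intro c hc hfc hxc
      obtain ⟨g, hg, rfl⟩ := hRbmem c hc
      have hbotN : ∀ a : MulAut T, a ∈ Subgroup.normalizer ((⊥ : Subgroup (MulAut T)) : Set (MulAut T)) := by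
        intro a
        rw [Subgroup.normalizer_eq_top]
        exact Subgroup.mem_top a
      have hA_K : A ≤ Subgroup.normalizer ((preim θ R ⊥ : Subgroup 𝔾) : Set 𝔾) :=
        fun a ha => preim_normalizer (hAY ha) (AR ha) (hbotN _)
      have hR_K : R ≤ Subgroup.normalizer ((preim θ R ⊥ : Subgroup 𝔾) : Set 𝔾) :=
        fun a ha => preim_normalizer (hRY ha) (Subgroup.le_normalizer ha) (hbotN _)
      have hcomm : ∀ (a : 𝔾) (ha : a ∈ A), θ ⟨a, hAY ha⟩ * θ g = θ g * θ ⟨a, hAY ha⟩ := by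
        have h0 := hgen ((Subgroup.centralizer ({θ g} : Set (MulAut T))).comap θ)
          (by
            rw [Subgroup.mem_comap, Subgroup.mem_centralizer_iff]
            intro h hh
            rw [Set.mem_singleton_iff] at hh
            rw [hh]; exact hfc.symm)
          (by
            rw [Subgroup.mem_comap, Subgroup.mem_centralizer_iff]
            intro h hh
            rw [Set.mem_singleton_iff] at hh
            rw [hh]; exact hxc.symm)
        intro a ha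
        have h1 := h0 a ha
        rw [Subgroup.mem_comap, Subgroup.mem_centralizer_iff] at h1
        exact (h1 _ (Set.mem_singleton _)).symm
      have hfix : ∀ a ∈ A, a * (g : 𝔾) * a⁻¹ * (g : 𝔾)⁻¹ ∈ preim θ R ⊥ := by
        intro a ha
        have haY := hAY ha
        refine mem_preim.mpr ⟨mul_mem (nmem (AR ha) hg) (inv_mem hg),
          Y.mul_mem (Y.mul_mem (Y.mul_mem haY g.2) (Y.inv_mem haY)) (Y.inv_mem g.2), ?_⟩
        rw [Subgroup.mem_bot]
        have h1 : (⟨a * (g : 𝔾) * a⁻¹ * (g : 𝔾)⁻¹,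
            Y.mul_mem (Y.mul_mem (Y.mul_mem haY g.2) (Y.inv_mem haY)) (Y.inv_mem g.2)⟩ : ↥Y)
            = ⟨a, haY⟩ * g * (⟨a, haY⟩ : ↥Y)⁻¹ * g⁻¹ := rfl
        rw [h1, map_mul, map_mul, map_mul, map_inv, map_inv, hcomm a ha]
        group
      obtain ⟨c', hc', hc2⟩ := Cfsg.Agent.S0022.result A R AR hcopAR (Or.inr hsolvR)
        (preim θ R ⊥) (preim_le θ R ⊥) hR_K hA_K (g : 𝔾) hg hfix
      have hc1 : c' = 1 :=
        fpfR c' hc'.1 (fun a ha => (Subgroup.mem_centralizer_iff.mp hc'.2) a ha)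
      rw [hc1, mul_one] at hc2
      obtain ⟨_, hk, h⟩ := mem_preim.mp hc2
      rw [Subgroup.mem_bot] at h
      have h2 : (⟨(g : 𝔾)⁻¹, hk⟩ : ↥Y) = g⁻¹ := rfl
      rw [h2, map_inv, inv_eq_one] at h
      exact h
    · -- hirr
      intro D hDR hfD hxD
      have hfN : θ fY ∈ Subgroup.normalizer (D : Set (MulAut T)) :=
        FrobFinal.mem_normalizer_of_conj_mem D _ hfD
      have hxN' : θ xY ∈ Subgroup.normalizer (D : Set (MulAut T)) :=
        FrobFinal.mem_normalizer_of_conj_mem D _ hxD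
      have hAN : ∀ (a : 𝔾) (ha : a ∈ A),
          θ ⟨a, hAY ha⟩ ∈ Subgroup.normalizer (D : Set (MulAut T)) :=
        hgen ((Subgroup.normalizer (D : Set (MulAut T))).comap θ) hfN hxN'
      have hA_RD : A ≤ Subgroup.normalizer ((preim θ R D : Subgroup 𝔾) : Set 𝔾) :=
        fun a ha => preim_normalizer (hAY ha) (AR ha) (hAN a ha)
      by_cases hRD : preim θ R D = R
      · right
        apply le_antisymm hDR
        intro c hc
        obtain ⟨g, hg, rfl⟩ := hRbmem c hc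
        have h1 : (g : 𝔾) ∈ preim θ R D := by rw [hRD]; exact hg
        obtain ⟨_, hk, h⟩ := mem_preim.mp h1
        exact h
      · left
        have h1 := hirr _ (preim_le θ R D) hA_RD hRD
        rw [eq_bot_iff]
        intro d hd
        obtain ⟨g, hg, rfl⟩ := hRbmem d (hDR hd)
        have h2 : (g : 𝔾) ∈ preim θ R D := mem_preim.mpr ⟨hg, g.2, hd⟩
        rw [Subgroup.mem_bot]
        exact hK1 g (h1 h2)
    · -- hNR
      intro c hc n' hn'
      obtain ⟨g, hg, rfl⟩ := hRbmem c hc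
      obtain ⟨y, hy, rfl⟩ := Subgroup.mem_map.mp hn'
      rw [Subgroup.mem_subgroupOf] at hy
      rw [hact g y (nmem (hYS g.2) y.2)]
      apply Subgroup.mem_map.mpr
      refine ⟨_, ?_, rfl⟩
      rw [Subgroup.mem_subgroupOf]
      exact nmem (hRN hg) hy
    · -- hNx
      intro t
      obtain ⟨y, rfl⟩ := hsurj t
      rw [hact xY y (nmem (hYS xY.2) y.2), ← map_inv, ← map_mul]
      apply Subgroup.mem_map.mpr
      refine ⟨_, ?_, rfl⟩
      rw [Subgroup.mem_subgroupOf]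
      have h1 := hxN y y.2
      subst hxY
      exact h1
  intro y hy
  have h1 : ρ ⟨y, hy⟩ ∈ (N.subgroupOf S).map ρ := by rw [hmain]; exact Subgroup.mem_top _
  obtain ⟨nn, hnn, hnn2⟩ := Subgroup.mem_map.mp h1
  rw [Subgroup.mem_subgroupOf] at hnn
  have h2 := (hρeq ⟨y, hy⟩ nn).mp hnn2.symm
  have h3 : y = (nn : 𝔾) * ((nn : 𝔾)⁻¹ * y) := by group
  rw [h3]
  exact mul_mem (Subgroup.mem_sup_left hnn) (Subgroup.mem_sup_right h2)

end Cfsg.Agent.Lib.Helper13.FrobElQuot
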