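import Mathlib
import Cfsg.Agent.Lib.Helper13.FrobElQuotC

/-!
# `el_quot` (piece P10 of helper1's plan for S4305), part D: `FinalLemmaProp` and `ElQuotProp`
-/

set_option autoImplicit false

namespace Cfsg.Agent.Lib.Helper13.FrobElQuot

open Cfsg.Agent.Lib.Helper1.FrobPQ Cfsg.Agent.Lib.Helper1.Ward
open scoped commutatorElement

universe u

/-- `final_lemma` (P4) packaged as `FinalLemmaProp` -/
theorem finalLemmaProp : FinalLemmaProp.{u} := by
  intro T _ _ Rb f x p q hp hq hRab hfR hxR hfp hxq hxf hfree hcopRT hcopqT hcopqR hfixR hfixA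
    hfixRA hirr N hNR hNx
  exact FrobFinal.final_lemma Rb f x hp hq hRab hfR hxR hfp hxq hxf hfree hcopRT hcopqT hcopqR
    hfixR hfixA hfixRA hirr N hNR hNx

/-- `el_quot` (P10) packaged as `ElQuotProp` -/
theorem elQuotProp : ElQuotProp.{u} := by
  intro 𝔾 _ _ p q s r A F S R hfrob hs hr hsr hsp hsq hrp hrq Sgroup Rgroup AS AR RS fpfS fpfR
    hder hSS hirr x hxA hxF N hNS hSN hRN hxN
  exact el_quot finalLemmaProp hfrob hs hr hsr hsp hsq hrp hrq Sgroup Rgroup AS AR RS fpfS fpfR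
    hder hSS hirr hxA hxF N hNS hSN hRN hxN

end Cfsg.Agent.Lib.Helper13.FrobElQuot
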