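import Mathlib

set_option autoImplicit false

/-! The Frobenius sum argument in a ring: if the geometric sum `1 + α + ⋯ + α^(p-1)` vanishes and
the finite group `D` of units is normalized by `α` with the nontrivial powers of `α` acting without
fixed points, then the sum of the elements of `D` is `#D` (helper13). -/

namespace Cfsg.Agent.Lib.Helper13

section FrobSum

variable {R : Type*} [Ring R]

open Finset

theorem conj_pow_mem_of_normalizes (α : Rˣ) (D : Subgroup Rˣ)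
    (hnorm : ∀ d ∈ D, α * d * α⁻¹ ∈ D) (i : ℕ) : ∀ d ∈ D, α ^ i * d * (α ^ i)⁻¹ ∈ D := by
  induction i with
  | zero => intro d hd; simpa using hd
  | succ i ih =>
    intro d hd
    have h1 := hnorm _ (ih d hd)
    have e : α ^ (i + 1) * d * (α ^ (i + 1))⁻¹ = α * (α ^ i * d * (α ^ i)⁻¹) * α⁻¹ := by
      rw [pow_succ']; group
    rw [e]; exact h1

theorem frob_sum (q : ℕ) (α : Rˣ) (D : Subgroup Rˣ) [Fintype D]
    (hnorm : ∀ d ∈ D, α * d * α⁻¹ ∈ D)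
    (hfix : ∀ d ∈ D, ∀ i : ℕ, 0 < i → i < q + 1 → α ^ i * d * (α ^ i)⁻¹ = d → d = 1)
    (hN : ∑ i ∈ range (q + 1), ((α ^ i : Rˣ) : R) = 0) :
    ∑ d : D, ((d : Rˣ) : R) = (Fintype.card D : R) := by
  classical
  have hmem : ∀ (i : ℕ) (d : D), (d : Rˣ) * (α ^ i * (d : Rˣ)⁻¹ * (α ^ i)⁻¹) ∈ D := fun i d =>
    D.mul_mem d.2 (conj_pow_mem_of_normalizes α D hnorm i _ (D.inv_mem d.2))
  obtain ⟨f, hf⟩ : ∃ f : ℕ → D → D, ∀ i d, ((f i d : D) : Rˣ) =
      (d : Rˣ) * (α ^ i * (d : Rˣ)⁻¹ * (α ^ i)⁻¹) := ⟨fun i d => ⟨_, hmem i d⟩, fun _ _ => rfl⟩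
  have hinj : ∀ i, 0 < i → i < q + 1 → Function.Injective (f i) := by
    intro i hi0 hiq d e hde
    have h1 : ((f i d : D) : Rˣ) = ((f i e : D) : Rˣ) := by rw [hde]
    rw [hf, hf] at h1
    have h2 : α ^ i * ((e : Rˣ)⁻¹ * (d : Rˣ)) * (α ^ i)⁻¹ = (e : Rˣ)⁻¹ * (d : Rˣ) := by
      have h3 : (d : Rˣ) * α ^ i * (d : Rˣ)⁻¹ = (e : Rˣ) * α ^ i * (e : Rˣ)⁻¹ := by
        have := congrArg (fun z => z * α ^ i) h1
        simpa [mul_assoc] using this
      calc α ^ i * ((e : Rˣ)⁻¹ * (d : Rˣ)) * (α ^ i)⁻¹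
          = (e : Rˣ)⁻¹ * ((e : Rˣ) * α ^ i * (e : Rˣ)⁻¹) * (d : Rˣ) * (α ^ i)⁻¹ := by group
        _ = (e : Rˣ)⁻¹ * ((d : Rˣ) * α ^ i * (d : Rˣ)⁻¹) * (d : Rˣ) * (α ^ i)⁻¹ := by rw [h3]
        _ = (e : Rˣ)⁻¹ * (d : Rˣ) := by group
    have h4 := hfix _ (D.mul_mem (D.inv_mem e.2) d.2) i hi0 hiq h2
    apply Subtype.ext
    exact (inv_mul_eq_one.mp h4).symm
  have hsumf : ∀ i, 0 < i → i < q + 1 →
      ∑ d : D, (((f i d : D) : Rˣ) : R) = ∑ d : D, ((d : Rˣ) : R) := by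
    intro i hi0 hiq
    have hbij : Function.Bijective (f i) := (hinj i hi0 hiq).bijective_of_finite
    exact Fintype.sum_bijective (f i) hbij _ _ (fun _ => rfl)
  have hf0 : ∀ d : D, (((f 0 d : D) : Rˣ) : R) = 1 := by
    intro d
    rw [hf]
    simp
  have hconj : ∀ d : D, ∑ i ∈ range (q + 1), ((((f i d : D) : Rˣ) : R) * ((α ^ i : Rˣ) : R)) = 0 := by
    intro d
    have h1 : ∀ i, (((f i d : D) : Rˣ) : R) * ((α ^ i : Rˣ) : R) =
        ((d : Rˣ) : R) * ((α ^ i : Rˣ) : R) * (((d : Rˣ)⁻¹ : Rˣ) : R) := by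
      intro i
      rw [hf, ← Units.val_mul, ← Units.val_mul, ← Units.val_mul]
      congr 1
      group
    simp_rw [h1]
    rw [← Finset.sum_mul, ← Finset.mul_sum, hN, mul_zero, zero_mul]
  have htot : ∑ d : D, ∑ i ∈ range (q + 1), ((((f i d : D) : Rˣ) : R) * ((α ^ i : Rˣ) : R)) = 0 :=
    Finset.sum_eq_zero (fun d _ => hconj d)
  rw [Finset.sum_comm] at htot
  rw [Finset.sum_range_succ'] at htot
  have h0 : ∑ d : D, ((((f 0 d : D) : Rˣ) : R) * ((α ^ 0 : Rˣ) : R)) = (Fintype.card D : R) := by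
    simp_rw [hf0]
    simp
  rw [h0] at htot
  have hrest : ∑ i ∈ range q, ∑ d : D, ((((f (i + 1) d : D) : Rˣ) : R) * ((α ^ (i + 1) : Rˣ) : R)) =
      (∑ d : D, ((d : Rˣ) : R)) * ∑ i ∈ range q, ((α ^ (i + 1) : Rˣ) : R) := by
    rw [Finset.mul_sum]
    apply Finset.sum_congr rfl
    intro i hi
    rw [← Finset.sum_mul, hsumf (i + 1) (Nat.succ_pos i) (by
      have := Finset.mem_range.mp hi
      omega)]
  rw [hrest] at htot
  have hα : ∑ i ∈ range q, ((α ^ (i + 1) : Rˣ) : R) = -1 := by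
    have := hN
    rw [Finset.sum_range_succ'] at this
    have h1 : ((α ^ 0 : Rˣ) : R) = 1 := by simp
    rw [h1] at this
    exact eq_neg_of_add_eq_zero_left this
  rw [hα, mul_neg, mul_one] at htot
  have := eq_of_sub_eq_zero (by rw [sub_eq_add_neg, add_comm]; exact htot :
    (Fintype.card D : R) - ∑ d : D, ((d : Rˣ) : R) = 0)
  exact this.symm

end FrobSum

end Cfsg.Agent.Lib.Helper13
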