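import Cfsg.Agent.Lib.Helper13.FrobSumA

set_option autoImplicit false

/-! Consequence of the Frobenius sum argument: in a ring of characteristic `p`, a unit `α` with
`1 + α + ⋯ + α^(p-1) = 0` centralizes every finite abelian `p'`-group of units that it normalizes
(helper13). -/

namespace Cfsg.Agent.Lib.Helper13

section FrobCent

variable {R : Type*} [Ring R]

open Finset

theorem eq_zero_of_mul_natCast_eq_zero {p n : ℕ} (hpR : (p : R) = 0) (hcop : n.Coprime p) {x : R}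
    (h : x * (n : R) = 0) : x = 0 := by
  have h1 : IsCoprime (n : ℤ) (p : ℤ) := Nat.isCoprime_iff_coprime.mpr hcop
  obtain ⟨a, b, hab⟩ := h1
  have h2 := congrArg (Int.cast : ℤ → R) hab
  push_cast at h2
  rw [hpR, mul_zero, add_zero] at h2
  calc x = x * ((a : R) * (n : R)) := by rw [h2, mul_one]
    _ = x * ((n : R) * (a : R)) := by rw [Nat.cast_comm]
    _ = (x * (n : R)) * (a : R) := by rw [mul_assoc]
    _ = 0 := by rw [h, zero_mul]

theorem unit_pow_eq_one_of_geom_sum (q : ℕ) (α : Rˣ)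
    (hN : ∑ i ∈ range (q + 1), ((α ^ i : Rˣ) : R) = 0) : α ^ (q + 1) = 1 := by
  apply Units.ext
  have h1 : ((α : R) - 1) * ∑ i ∈ range (q + 1), (α : R) ^ i = (α : R) ^ (q + 1) - 1 :=
    mul_geom_sum (α : R) (q + 1)
  have h2 : ∑ i ∈ range (q + 1), (α : R) ^ i = 0 := by
    rw [← hN]
    apply Finset.sum_congr rfl
    intro i _
    rw [Units.val_pow_eq_pow_val]
  rw [h2, mul_zero] at h1
  rw [Units.val_pow_eq_pow_val, Units.val_one]
  exact (sub_eq_zero.mp h1.symm)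

theorem commute_of_commute_pow {G : Type*} [Group G] {p : ℕ} (hp : p.Prime) {α d : G}
    (hαp : α ^ p = 1) {i : ℕ} (hi0 : 0 < i) (hip : i < p) (h : Commute (α ^ i) d) : Commute α d := by
  have hcop : Nat.Coprime i p := (Nat.coprime_of_lt_prime (Nat.pos_iff_ne_zero.mp hi0) hip hp).symm
  obtain ⟨m, -, hm⟩ := Nat.exists_mul_mod_eq_one_of_coprime hcop hp.one_lt
  have h1 : α ^ (i * m) = α := by
    have e := Nat.div_add_mod (i * m) p
    rw [hm] at e
    rw [← e, pow_add, pow_mul, hαp, one_pow, one_mul, pow_one]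
  have h2 : Commute (α ^ (i * m)) d := by
    rw [pow_mul]
    exact h.pow_left m
  rwa [h1] at h2

open scoped IsMulCommutative in
theorem commute_of_geom_sum_eq_zero {p : ℕ} (hp : p.Prime) (hpR : (p : R) = 0) (α : Rˣ)
    (hN : ∑ i ∈ range p, ((α ^ i : Rˣ) : R) = 0)
    (B : Subgroup Rˣ) [Finite B] (hcomm : ∀ a ∈ B, ∀ b ∈ B, a * b = b * a)
    (hnorm : ∀ b ∈ B, α * b * α⁻¹ ∈ B) (hcop : (Nat.card B).Coprime p) :
    ∀ b ∈ B, α * b = b * α := by
  classical
  obtain ⟨q, rfl⟩ : ∃ q, p = q + 1 := ⟨p - 1, (Nat.succ_pred_eq_of_pos hp.pos).symm⟩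
  have hαp : α ^ (q + 1) = 1 := unit_pow_eq_one_of_geom_sum q α hN
  have hBc : IsMulCommutative B := ⟨⟨fun a b => Subtype.ext (hcomm a a.2 b b.2)⟩⟩
  have hnormi := conj_pow_mem_of_normalizes α B hnorm
  -- the conjugation action on `B`
  obtain ⟨θ, hθ⟩ : ∃ θ : ℕ → ↥B → ↥B, ∀ l b, ((θ l b : ↥B) : Rˣ) = α ^ l * (b : Rˣ) * (α ^ l)⁻¹ :=
    ⟨fun l b => ⟨_, hnormi l b b.2⟩, fun _ _ => rfl⟩
  have hθmul : ∀ l a b, θ l (a * b) = θ l a * θ l b := by
    intro l a b
    apply Subtype.ext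
    rw [Subgroup.coe_mul, hθ, hθ, hθ, Subgroup.coe_mul]
    group
  have hθone : ∀ l, θ l 1 = 1 := by
    intro l
    apply Subtype.ext
    rw [hθ, Subgroup.coe_one]
    group
  have hθinv : ∀ l a, θ l a⁻¹ = (θ l a)⁻¹ := by
    intro l a
    apply Subtype.ext
    rw [Subgroup.coe_inv, hθ, hθ, Subgroup.coe_inv]
    group
  have hθsucc : ∀ l b, θ (l + 1) b = θ l (θ 1 b) := by
    intro l b
    apply Subtype.ext
    rw [hθ, hθ, hθ, pow_succ, pow_one]
    group
  have hθp : ∀ b, θ (q + 1) b = θ 0 b := by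
    intro b
    apply Subtype.ext
    rw [hθ, hθ, hαp, pow_zero]
  -- the norm
  obtain ⟨ν, hν⟩ : ∃ ν : ↥B → ↥B, ∀ b, ν b = ∏ l ∈ range (q + 1), θ l b := ⟨_, fun _ => rfl⟩
  have hνmul : ∀ a b, ν (a * b) = ν a * ν b := by
    intro a b
    rw [hν, hν, hν, ← Finset.prod_mul_distrib]
    exact Finset.prod_congr rfl (fun l _ => hθmul l a b)
  have hνone : ν 1 = 1 := by
    rw [hν]
    exact Finset.prod_eq_one (fun l _ => hθone l)
  have hνinv : ∀ a, ν a⁻¹ = (ν a)⁻¹ := by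
    intro a
    rw [hν, hν, ← Finset.prod_inv_distrib]
    exact Finset.prod_congr rfl (fun l _ => hθinv l a)
  have hνθ : ∀ b, ν (θ 1 b) = ν b := by
    intro b
    rw [hν, hν]
    have h1 : ∏ l ∈ range (q + 1), θ l (θ 1 b) = ∏ l ∈ range (q + 1), θ (l + 1) b :=
      Finset.prod_congr rfl (fun l _ => (hθsucc l b).symm)
    rw [h1]
    have h2 := Finset.prod_range_succ' (fun l => θ l b) (q + 1)
    have h3 := Finset.prod_range_succ (fun l => θ l b) (q + 1)
    rw [h3, hθp b] at h2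
    exact (mul_right_cancel h2).symm
  have hνfix : ∀ b, θ 1 b = b → ν b = b ^ (q + 1) := by
    intro b hb
    have h1 : ∀ l, θ l b = b := by
      intro l
      induction l with
      | zero =>
        apply Subtype.ext
        rw [hθ, pow_zero]; group
      | succ l ih => rw [hθsucc, hb, ih]
    rw [hν, Finset.prod_congr rfl (fun l _ => h1 l), Finset.prod_const, Finset.card_range]
  have hordB : ∀ b : ↥B, b ^ Nat.card ↥B = 1 := fun b => pow_card_eq_one'
  -- the kernel of the norm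
  let D : Subgroup Rˣ :=
    { carrier := {d | ∃ h : d ∈ B, ν ⟨d, h⟩ = 1}
      one_mem' := ⟨B.one_mem, hνone⟩
      mul_mem' := by
        rintro a b ⟨ha, ha'⟩ ⟨hb, hb'⟩
        refine ⟨B.mul_mem ha hb, ?_⟩
        have : (⟨a * b, B.mul_mem ha hb⟩ : ↥B) = ⟨a, ha⟩ * ⟨b, hb⟩ := rfl
        rw [this, hνmul, ha', hb', one_mul]
      inv_mem' := by
        rintro a ⟨ha, ha'⟩
        refine ⟨B.inv_mem ha, ?_⟩
        have : (⟨a⁻¹, B.inv_mem ha⟩ : ↥B) = (⟨a, ha⟩ : ↥B)⁻¹ := rfl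
        rw [this, hνinv, ha', inv_one] }
  have hDB : D ≤ B := fun d hd => hd.1
  have : Finite ↥D := Finite.of_injective (Subgroup.inclusion hDB) (Subgroup.inclusion_injective hDB)
  haveI : Fintype ↥D := Fintype.ofFinite _
  have hDnorm : ∀ d ∈ D, α * d * α⁻¹ ∈ D := by
    rintro d ⟨hd, hd'⟩
    refine ⟨hnorm d hd, ?_⟩
    have : (⟨α * d * α⁻¹, hnorm d hd⟩ : ↥B) = θ 1 ⟨d, hd⟩ := by
      apply Subtype.ext
      rw [hθ, pow_one]
    rw [this, hνθ, hd']
  have hDfix : ∀ d ∈ D, ∀ i : ℕ, 0 < i → i < q + 1 → α ^ i * d * (α ^ i)⁻¹ = d → d = 1 := by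
    rintro d ⟨hd, hd'⟩ i hi0 hiq hfix
    have hc : Commute (α ^ i) d := by
      have : α ^ i * d = d * α ^ i := by
        calc α ^ i * d = (α ^ i * d * (α ^ i)⁻¹) * α ^ i := by group
          _ = d * α ^ i := by rw [hfix]
      exact this
    have hc1 : Commute α d := commute_of_commute_pow hp hαp hi0 hiq hc
    have hθd : θ 1 ⟨d, hd⟩ = ⟨d, hd⟩ := by
      apply Subtype.ext
      rw [hθ, pow_one]
      show α * d * α⁻¹ = d
      rw [hc1.eq]; group
    have h1 := hνfix _ hθd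
    rw [hd'] at h1
    have h2 := hordB ⟨d, hd⟩
    have h3 : (⟨d, hd⟩ : ↥B) = 1 :=
      (pow_eq_one_iff_of_coprime hcop.symm).mp ⟨h1.symm, h2⟩
    exact congrArg Subtype.val h3
  have hsum := frob_sum q α D hDnorm hDfix hN
  have hDtriv : ∀ d ∈ D, d = 1 := by
    intro d hd
    have h1 : ((d : Rˣ) : R) * ∑ e : ↥D, ((e : Rˣ) : R) = ∑ e : ↥D, ((e : Rˣ) : R) := by
      rw [Finset.mul_sum]
      have hbij : Function.Bijective (fun e : ↥D => (⟨d, hd⟩ : ↥D) * e) :=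
        (Group.mulLeft_bijective _)
      exact Fintype.sum_bijective _ hbij _ _ (fun e => by
        rw [Subgroup.coe_mul, Units.val_mul])
    rw [hsum] at h1
    have h2 : (((d : Rˣ) : R) - 1) * (Fintype.card ↥D : R) = 0 := by
      rw [sub_mul, one_mul, h1, sub_self]
    have hcopD : (Fintype.card ↥D).Coprime (q + 1) := by
      have hdvd : Nat.card ↥D ∣ Nat.card ↥B := Subgroup.card_dvd_of_le hDB
      rw [Nat.card_eq_fintype_card] at hdvd
      exact Nat.Coprime.coprime_dvd_left hdvd hcop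
    have h3 := eq_zero_of_mul_natCast_eq_zero hpR hcopD h2
    apply Units.ext
    rw [Units.val_one]
    exact sub_eq_zero.mp h3
  intro b hb
  have hcD : α * b * α⁻¹ * b⁻¹ ∈ D := by
    refine ⟨B.mul_mem (hnorm b hb) (B.inv_mem hb), ?_⟩
    have : (⟨α * b * α⁻¹ * b⁻¹, B.mul_mem (hnorm b hb) (B.inv_mem hb)⟩ : ↥B) =
        θ 1 ⟨b, hb⟩ * (⟨b, hb⟩ : ↥B)⁻¹ := by
      apply Subtype.ext
      rw [Subgroup.coe_mul, hθ, pow_one, Subgroup.coe_inv]
    rw [this, hνmul, hνθ, hνinv, mul_inv_cancel]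
  have h1 := hDtriv _ hcD
  calc α * b = (α * b * α⁻¹ * b⁻¹) * b * α := by group
    _ = b * α := by rw [h1, one_mul]

end FrobCent

end Cfsg.Agent.Lib.Helper13
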