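import Cfsg.Agent.Lib.Helper13.FrobSumB
import Cfsg.Agent.Lib.Helper1.TNPC.QuadRep
import Cfsg.Prelude.Def_PLocal

set_option autoImplicit false

/-! The geometric sum in characteristic `p`, and iterated commutators in terms of the conjugation
representation on a normal abelian subgroup (helper13). -/

namespace Cfsg.Agent.Lib.Helper13

section Poly

open Polynomial Finset

theorem geom_sum_eq_sub_one_pow_zmod (p : ℕ) [hp : Fact p.Prime] :
    (∑ i ∈ range p, (X : (ZMod p)[X]) ^ i) = (X - 1) ^ (p - 1) := by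
  have h1 : ((X : (ZMod p)[X]) - 1) * ∑ i ∈ range p, (X : (ZMod p)[X]) ^ i = X ^ p - 1 :=
    mul_geom_sum _ _
  have h2 : ((X : (ZMod p)[X]) - 1) ^ p = X ^ p - 1 := by
    rw [sub_pow_char, one_pow]
  have h3 : ((X : (ZMod p)[X]) - 1) * (X - 1) ^ (p - 1) = (X - 1) ^ p := by
    rw [← pow_succ', Nat.sub_add_cancel hp.out.one_le]
  have hne : ((X : (ZMod p)[X]) - 1) ≠ 0 := X_sub_C_ne_zero (1 : ZMod p) |> fun h => by simpa using h
  apply mul_left_cancel₀ hne
  rw [h1, h3, h2]

theorem geom_sum_eq_zero_of_sub_one_pow {R : Type*} [Ring R] {p : ℕ} (hp : p.Prime)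
    (hpR : (p : R) = 0) (x : R) (hx : (x - 1) ^ (p - 1) = 0) : ∑ i ∈ range p, x ^ i = 0 := by
  have : Fact p.Prime := ⟨hp⟩
  let P : ℤ[X] := (∑ i ∈ range p, (X : ℤ[X]) ^ i) - (X - 1) ^ (p - 1)
  have hmap : P.map (Int.castRingHom (ZMod p)) = 0 := by
    simp only [P, Polynomial.map_sub, Polynomial.map_sum, Polynomial.map_pow, Polynomial.map_X,
      Polynomial.map_one]
    rw [geom_sum_eq_sub_one_pow_zmod, sub_self]
  have hdvd : C (p : ℤ) ∣ P := by
    rw [Polynomial.C_dvd_iff_dvd_coeff]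
    intro i
    have := congrArg (fun Q => Polynomial.coeff Q i) hmap
    simp only [Polynomial.coeff_map, Polynomial.coeff_zero, eq_intCast] at this
    exact (ZMod.intCast_zmod_eq_zero_iff_dvd _ p).mp this
  obtain ⟨f, hf⟩ := hdvd
  have h1 := congrArg (Polynomial.aeval x) hf
  simp only [P, map_sub, map_sum, map_pow, aeval_X, map_one, map_mul, aeval_C] at h1
  have h2 : (algebraMap ℤ R) (p : ℤ) = 0 := by
    simp [hpR]
  rw [h2, zero_mul, hx, sub_zero] at h1
  exact h1

end Poly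

section RhoIter

open Cfsg.Agent.Lib.Helper1.TNPC
open scoped IsMulCommutative commutatorElement

variable {G : Type*} [Group G] (V : Subgroup G) [hVn : V.Normal] [IsMulCommutative V]

theorem rho_sub_one_apply_val (a : G) (v : ↥V) :
    ((Additive.toMul ((rho V a - 1) (Additive.ofMul v)) : ↥V) : G) =
      a * (v : G) * a⁻¹ * (v : G)⁻¹ := by
  change (((MulAut.conjNormal a : ↥V ≃* ↥V) v / v : ↥V) : G) = _
  rw [Subgroup.coe_div, MulAut.conjNormal_apply, div_eq_mul_inv]

theorem rho_sub_one_pow_mem (a : G) (k : ℕ) (v : ↥V) :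
    ((Additive.toMul (((rho V a - 1) ^ k) (Additive.ofMul v)) : ↥V) : G) ∈
      Cfsg.iterCommutator V (Subgroup.zpowers a) k := by
  induction k with
  | zero =>
    rw [pow_zero]
    exact v.2
  | succ k ih =>
    rw [pow_succ']
    obtain ⟨c, hc⟩ : ∃ c : ↥V, Additive.ofMul c = ((rho V a - 1) ^ k) (Additive.ofMul v) :=
      ⟨Additive.toMul _, rfl⟩
    have hcm : (c : G) ∈ Cfsg.iterCommutator V (Subgroup.zpowers a) k := by
      have : ((Additive.toMul (Additive.ofMul c) : ↥V) : G) ∈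
          Cfsg.iterCommutator V (Subgroup.zpowers a) k := by
        rw [hc]; exact ih
      exact this
    have e : (((rho V a - 1) * (rho V a - 1) ^ k) (Additive.ofMul v)) =
        (rho V a - 1) (Additive.ofMul c) := by
      rw [hc]; rfl
    rw [e, rho_sub_one_apply_val]
    show a * (c : G) * a⁻¹ * (c : G)⁻¹ ∈ ⁅Cfsg.iterCommutator V (Subgroup.zpowers a) k,
      Subgroup.zpowers a⁆
    have h1 : ⁅(c : G), a⁆ ∈ ⁅Cfsg.iterCommutator V (Subgroup.zpowers a) k, Subgroup.zpowers a⁆ :=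
      Subgroup.commutator_mem_commutator hcm (Subgroup.mem_zpowers a)
    have e2 : a * (c : G) * a⁻¹ * (c : G)⁻¹ = (⁅(c : G), a⁆)⁻¹ := by
      rw [commutatorElement_def]; group
    rw [e2]
    exact Subgroup.inv_mem _ h1

theorem rho_sub_one_pow_eq_zero (a : G) (k : ℕ)
    (h : Cfsg.iterCommutator V (Subgroup.zpowers a) k = ⊥) : (rho V a - 1) ^ k = 0 := by
  ext w
  obtain ⟨v, rfl⟩ : ∃ v : ↥V, Additive.ofMul v = w := ⟨Additive.toMul w, rfl⟩
  have h1 := rho_sub_one_pow_mem V a k v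
  rw [h, Subgroup.mem_bot] at h1
  rw [h1]
  rfl

end RhoIter

end Cfsg.Agent.Lib.Helper13
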