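import Mathlib
import Cfsg.Agent.Lib.helper23.PgE

/-!
# Project G2J (S5746), piece A : maximality of a point stabiliser from suborbit arithmetic
-/

set_option autoImplicit false

namespace Cfsg.Agent.Lib.helper14.G2J

open Cfsg.Agent.Lib.helper23

/-- the size of a disjoint union indexed by a list of pairs (point, size) -/
theorem h13_ncard_biUnion_list {X : Type*} (f : X → Set X) (L : List (X × ℕ))
    (hfin : ∀ p ∈ L, (f p.1).Finite) (hcard : ∀ p ∈ L, (f p.1).ncard = p.2)
    (hdisj : L.Pairwise (fun p q => Disjoint (f p.1) (f q.1))) :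
    (⋃ p ∈ L, f p.1).Finite ∧ (⋃ p ∈ L, f p.1).ncard = (L.map Prod.snd).sum := by
  induction L with
  | nil => simp
  | cons a L ih =>
    rw [List.pairwise_cons] at hdisj
    obtain ⟨ihf, ihc⟩ := ih (fun p hp => hfin p (List.mem_cons_of_mem a hp))
      (fun p hp => hcard p (List.mem_cons_of_mem a hp)) hdisj.2
    have hU : (⋃ p ∈ a :: L, f p.1) = f a.1 ∪ ⋃ p ∈ L, f p.1 := by
      ext y
      simp only [List.mem_cons, Set.mem_iUnion, Set.mem_union, exists_prop]
      constructor
      · rintro ⟨p, rfl | hp, hy⟩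
        · exact Or.inl hy
        · exact Or.inr ⟨p, hp, hy⟩
      · rintro (hy | ⟨p, hp, hy⟩)
        · exact ⟨a, Or.inl rfl, hy⟩
        · exact ⟨p, Or.inr hp, hy⟩
    have hfa : (f a.1).Finite := hfin a List.mem_cons_self
    have hd : Disjoint (f a.1) (⋃ p ∈ L, f p.1) := by
      rw [Set.disjoint_left]
      intro y hy hy'
      simp only [Set.mem_iUnion, exists_prop] at hy'
      obtain ⟨p, hp, hyp⟩ := hy'
      exact Set.disjoint_left.mp (hdisj.1 p hp) hy hyp
    refine ⟨by rw [hU]; exact hfa.union ihf, ?_⟩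
    rw [hU, Set.ncard_union_eq hd hfa ihf, ihc, hcard a List.mem_cons_self, List.map_cons,
      List.sum_cons]

/-- G2J-A: the stabiliser of `α` is a maximal subgroup when no union of its orbits on the orbit of
`α`, containing `α`, has a size dividing the size of that orbit (except `{α}` and everything).
`reps` are representatives of the orbits of the stabiliser other than `{α}`, `sizes` their sizes. -/
theorem coatom_of_suborbits {K : Type*} [Group K] [Finite K] {X : Type*} [MulAction K X] (α : X)
    (reps : List X) (sizes : List ℕ) (hlen : reps.length = sizes.length)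
    (hsize : ∀ (j : ℕ) (h1 : j < reps.length) (h2 : j < sizes.length),
      (MulAction.orbit (MulAction.stabilizer K α) reps[j]).ncard = sizes[j])
    (hmem : ∀ x ∈ reps, x ∈ MulAction.orbit K α)
    (hne : ∀ x ∈ reps, x ≠ α)
    (hdisj : reps.Pairwise (fun x y => y ∉ MulAction.orbit (MulAction.stabilizer K α) x))
    (hsum : 1 + sizes.sum = (MulAction.orbit K α).ncard)
    (harith : ∀ J ∈ sizes.sublists, (1 + J.sum) ∣ (1 + sizes.sum) → J = [] ∨ J.sum = sizes.sum)
    (htop : MulAction.stabilizer K α ≠ ⊤) :
    IsCoatom (MulAction.stabilizer K α) := by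
  classical
  set H := MulAction.stabilizer K α with hH
  set f : X → Set X := fun x => MulAction.orbit H x with hf
  set L := reps.zip sizes with hL
  have hfinorb : ∀ x : X, (f x).Finite := fun x => Set.finite_range _
  have hΩfin : (MulAction.orbit K α).Finite := Set.finite_range _
  -- the entries of `L`
  have hLmem : ∀ p ∈ L, p.1 ∈ reps ∧ (f p.1).ncard = p.2 := by
    intro p hp
    obtain ⟨j, hj, rfl⟩ := List.mem_iff_getElem.mp hp
    have hj' : j < reps.length ∧ j < sizes.length := by
      rw [hL, List.length_zip] at hj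
      omega
    rw [List.getElem_zip]
    exact ⟨List.getElem_mem hj'.1, hsize j hj'.1 hj'.2⟩
  have hLsnd : L.map Prod.snd = sizes := List.map_snd_zip (by omega)
  have hLfst : L.map Prod.fst = reps := List.map_fst_zip (by omega)
  have hLdisj : L.Pairwise (fun p q => Disjoint (f p.1) (f q.1)) := by
    have h1 : (L.map Prod.fst).Pairwise
        (fun x y => y ∉ MulAction.orbit (MulAction.stabilizer K α) x) := by
      rw [hLfst]
      exact hdisj
    rw [List.pairwise_map] at h1
    refine h1.imp ?_
    intro p q hpq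
    rcases MulAction.orbit.eq_or_disjoint (G := H) p.1 q.1 with h | h
    · exfalso
      apply hpq
      have : q.1 ∈ MulAction.orbit H q.1 := MulAction.mem_orbit_self _
      rw [← h] at this
      exact this
    · exact h
  -- facts on the suborbits
  have hαfix : ∀ h : H, (h : K) • α = α := fun h => h.2
  have hsub : ∀ x ∈ reps, f x ⊆ MulAction.orbit K α \ {α} := by
    intro x hx y hy
    obtain ⟨h, hh⟩ := MulAction.mem_orbit_iff.mp hy
    obtain ⟨k, hk⟩ := MulAction.mem_orbit_iff.mp (hmem x hx)
    have hh' : (h : K) • x = y := hh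
    refine ⟨MulAction.mem_orbit_iff.mpr ⟨(h : K) * k, by rw [mul_smul, hk, hh']⟩, ?_⟩
    intro hya
    rw [Set.mem_singleton_iff] at hya
    apply hne x hx
    have h2 : x = (h : K)⁻¹ • y := by rw [← hh', inv_smul_smul]
    rw [h2, hya]
    exact MulAction.mem_stabilizer_iff.mp (H.inv_mem h.2)
  -- the suborbits cover the orbit
  obtain ⟨hUfin, hUcard⟩ := h13_ncard_biUnion_list f L (fun p _ => hfinorb p.1)
    (fun p hp => (hLmem p hp).2) hLdisj
  have hcover : (⋃ p ∈ L, f p.1) = MulAction.orbit K α \ {α} := by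
    apply Set.eq_of_subset_of_ncard_le
    · intro y hy
      simp only [Set.mem_iUnion, exists_prop] at hy
      obtain ⟨p, hp, hyp⟩ := hy
      exact hsub p.1 (hLmem p hp).1 hyp
    · rw [hUcard, hLsnd, Set.ncard_sdiff_singleton_of_mem (MulAction.mem_orbit_self α), ← hsum]
      omega
    · exact hΩfin.subset Set.sdiff_subset
  refine ⟨htop, ?_⟩
  intro M hHM
  have hle : H ≤ M := hHM.le
  -- the orbit of `α` under `M`
  set B : Set X := MulAction.orbit ↥M α with hB
  have hBΩ : B ⊆ MulAction.orbit K α := by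
    rintro y ⟨m, rfl⟩
    exact ⟨(m : K), rfl⟩
  have hBinv : ∀ (h : H) (y : X), y ∈ B → h • y ∈ B := by
    rintro h y ⟨m, rfl⟩
    refine ⟨⟨(h : K), hle h.2⟩ * m, ?_⟩
    simp only [mul_smul]
    rfl
  -- the size of `B` divides the size of the orbit
  have hstab : MulAction.stabilizer ↥M α = H.subgroupOf M := by
    ext m
    simp [MulAction.mem_stabilizer_iff, Subgroup.mem_subgroupOf]
    rfl
  have hBcard : B.ncard = H.relIndex M := by
    rw [hB, ← MulAction.index_stabilizer, hstab]
    rfl
  have hΩcard : (MulAction.orbit K α).ncard = H.index := (MulAction.index_stabilizer K α).symm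
  have hrel := Subgroup.relIndex_mul_index hle
  -- decomposition of `B`
  set L' := L.filter (fun p => decide (p.1 ∈ B)) with hL'
  have hL'mem : ∀ p, p ∈ L' ↔ p ∈ L ∧ p.1 ∈ B := by
    intro p
    rw [hL', List.mem_filter, decide_eq_true_eq]
  obtain ⟨hU'fin, hU'card⟩ := h13_ncard_biUnion_list f L'
    (fun p _ => hfinorb p.1) (fun p hp => (hLmem p ((hL'mem p).mp hp).1).2)
    (hLdisj.filter _)
  have hBdec : B = insert α (⋃ p ∈ L', f p.1) := by
    ext y
    simp only [Set.mem_insert_iff, Set.mem_iUnion, exists_prop]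
    constructor
    · intro hy
      by_cases hya : y = α
      · exact Or.inl hya
      · right
        have hy' : y ∈ MulAction.orbit K α \ {α} := ⟨hBΩ hy, hya⟩
        rw [← hcover] at hy'
        simp only [Set.mem_iUnion, exists_prop] at hy'
        obtain ⟨p, hp, hyp⟩ := hy'
        refine ⟨p, (hL'mem p).mpr ⟨hp, ?_⟩, hyp⟩
        obtain ⟨h, rfl⟩ := hyp
        have := hBinv h⁻¹ _ hy
        rwa [inv_smul_smul] at this
    · rintro (rfl | ⟨p, hp, hyp⟩)
      · exact MulAction.mem_orbit_self _
      · obtain ⟨h, rfl⟩ := hyp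
        exact hBinv h _ ((hL'mem p).mp hp).2
  have hαnot : α ∉ ⋃ p ∈ L', f p.1 := by
    intro hα
    simp only [Set.mem_iUnion, exists_prop] at hα
    obtain ⟨p, hp, hyp⟩ := hα
    have := hsub p.1 (hLmem p ((hL'mem p).mp hp).1).1 hyp
    exact this.2 rfl
  have hBcard' : B.ncard = 1 + (L'.map Prod.snd).sum := by
    rw [hBdec, Set.ncard_insert_of_notMem hαnot hU'fin, hU'card, add_comm]
  -- the arithmetic condition
  have hJsub : L'.map Prod.snd ∈ sizes.sublists := by
    rw [List.mem_sublists, ← hLsnd]
    exact List.filter_sublist.map _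
  have hdvd : (1 + (L'.map Prod.snd).sum) ∣ (1 + sizes.sum) := by
    rw [← hBcard', hsum, hBcard, hΩcard, ← hrel]
    exact dvd_mul_right _ _
  rcases harith _ hJsub hdvd with hJ | hJ
  · -- `B = {α}`: then `M ≤ H`
    exfalso
    have hL'nil : L' = [] := List.map_eq_nil_iff.mp hJ
    have hB1 : B = {α} := by
      rw [hBdec, hL'nil]
      simp
    apply hHM.not_ge
    intro m hm
    have : (⟨m, hm⟩ : ↥M) • α ∈ B := ⟨⟨m, hm⟩, rfl⟩
    rw [hB1, Set.mem_singleton_iff] at this
    exact this
  · -- `B` is the whole orbit: then `M = ⊤`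
    have h1 : H.relIndex M = H.index := by
      rw [← hBcard, hBcard', hJ, hsum, hΩcard]
    rw [h1] at hrel
    have hidx : H.index ≠ 0 := Subgroup.index_ne_zero_of_finite
    have h2 : M.index = 1 := by
      have : H.index * M.index = H.index * 1 := by rw [hrel, mul_one]
      exact Nat.eq_of_mul_eq_mul_left (Nat.pos_of_ne_zero hidx) this
    exact Subgroup.index_eq_one.mp h2

end Cfsg.Agent.Lib.helper14.G2J
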