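import Mathlib
import Cfsg.Agent.Lib.Helper19.G2V.Defs

/-!
# G2V row E3 (`bruhat_P`): the core, with the Bruhat decomposition (`h8bruhat`), the statements of E1, E2A, E2B, E2C
and `na ∈ Pp`, `X 6 1 ∈ Pp` as hypotheses.
-/

set_option autoImplicit false

namespace Cfsg.Agent.Lib.Helper19.G2V

open Cfsg.Lie Cfsg.Lie.ChevalleyDatum Matrix
open Cfsg.Agent.Lib.helper8
open Cfsg.Agent.Lib.helper23.P4V

universe u

variable {F : Type u} [Field F]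

theorem g2ve3_B_le_Pp : chevG2.borelSubgroup F ≤ Pp F := by
  unfold Pp ChevalleyDatum.parabolicSubgroup
  exact le_sup_left

theorem g2ve3_H_le_Pp : chevG2.diagonalSubgroup F ≤ Pp F := by
  refine le_trans ?_ g2ve3_B_le_Pp
  unfold ChevalleyDatum.borelSubgroup
  exact le_sup_right

/-- E3 core. -/
theorem g2ve3_core
    (hbr : ∀ g : GG F, g ∈ Gp F → ∃ b ∈ chevG2.borelSubgroup F, ∃ n ∈ chevG2.monomialSubgroup F,
      ∃ b' ∈ chevG2.borelSubgroup F, g = b * n * b')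
    (hE1 : ∀ n : GG F, n ∈ chevG2.monomialSubgroup F →
      ∃ (e1 e2 : ℕ) (w h : GG F), h ∈ chevG2.diagonalSubgroup F ∧
        (w = 1 ∨ w = nb ∨ w = nb * na * nb ∨ w = nb * na * nb * na * nb) ∧
        n = na ^ e1 * w * na ^ e2 * h)
    (hE2A : (nb : GG F) = X 6 1 * X 5 (-1) * X 6 1)
    (hE2B : ∃ r : F, r ≠ 0 ∧ ∃ p ∈ Pp F, ∃ p' ∈ Pp F, (nb * na * nb : GG F) = p * X 3 r * p')
    (hE2C : ∃ r : F, r ≠ 0 ∧ ∃ p ∈ Pp F, ∃ p' ∈ Pp F,
      (nb * na * nb * na * nb : GG F) = p * X 0 r * p')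
    (hna : (na : GG F) ∈ Pp F) (hX6 : (X 6 1 : GG F) ∈ Pp F)
    (g : GG F) (hg : g ∈ Gp F) :
    g ∈ Pp F ∨ ∃ j ∈ [5, 3, 0], ∃ r : F, r ≠ 0 ∧ ∃ p ∈ Pp F, ∃ p' ∈ Pp F,
      g = p * X j r * p' := by
  obtain ⟨b, hb, n, hn, b', hb', rfl⟩ := hbr g hg
  obtain ⟨e1, e2, w, h, hh, hw, rfl⟩ := hE1 n hn
  have hbP := g2ve3_B_le_Pp hb
  have hb'P := g2ve3_B_le_Pp hb'
  have hhP := g2ve3_H_le_Pp hh
  have hn1 : (na : GG F) ^ e1 ∈ Pp F := Subgroup.pow_mem _ hna e1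
  have hn2 : (na : GG F) ^ e2 ∈ Pp F := Subgroup.pow_mem _ hna e2
  have hL : b * na ^ e1 ∈ Pp F := Subgroup.mul_mem _ hbP hn1
  have hR : na ^ e2 * h * b' ∈ Pp F := Subgroup.mul_mem _ (Subgroup.mul_mem _ hn2 hhP) hb'P
  -- the general shape
  have key : ∀ (j : ℕ) (r : F) (p p' : GG F), p ∈ Pp F → p' ∈ Pp F → w = p * X j r * p' →
      b * (na ^ e1 * w * na ^ e2 * h) * b' = (b * na ^ e1 * p) * X j r * (p' * (na ^ e2 * h * b')) := by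
    intro j r p p' _ _ hw'
    rw [hw']
    group
  rcases hw with rfl | rfl | rfl | rfl
  · left
    have : b * (na ^ e1 * 1 * na ^ e2 * h) * b' = (b * na ^ e1) * (na ^ e2 * h * b') := by group
    rw [this]
    exact Subgroup.mul_mem _ hL hR
  · right
    refine ⟨5, by simp, -1, neg_ne_zero.mpr one_ne_zero, b * na ^ e1 * X 6 1,
      Subgroup.mul_mem _ hL hX6, X 6 1 * (na ^ e2 * h * b'), Subgroup.mul_mem _ hX6 hR, ?_⟩
    exact key 5 (-1) (X 6 1) (X 6 1) hX6 hX6 hE2A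
  · right
    obtain ⟨r, hr, p, hp, p', hp', e⟩ := hE2B
    exact ⟨3, by simp, r, hr, b * na ^ e1 * p, Subgroup.mul_mem _ hL hp,
      p' * (na ^ e2 * h * b'), Subgroup.mul_mem _ hp' hR, key 3 r p p' hp hp' e⟩
  · right
    obtain ⟨r, hr, p, hp, p', hp', e⟩ := hE2C
    exact ⟨0, by simp, r, hr, b * na ^ e1 * p, Subgroup.mul_mem _ hL hp,
      p' * (na ^ e2 * h * b'), Subgroup.mul_mem _ hp' hR, key 0 r p p' hp hp' e⟩

end Cfsg.Agent.Lib.Helper19.G2V
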