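import Mathlib
import Cfsg.Agent.Lib.Helper19.G2V.Defs
import Cfsg.Agent.Lib.helper8.ChevTits3
import Cfsg.Agent.Lib.helper8.ChevReflAll
import Cfsg.Agent.Lib.helper8.ChevBNAll2

/-!
# G2V row E3 (`bruhat_P`): the two inputs from helper8's toolkit: the Bruhat decomposition of `G₂(F)` and `na ∈ Pp`.
-/

set_option autoImplicit false

namespace Cfsg.Agent.Lib.Helper19.G2V

open Cfsg.Lie Cfsg.Lie.ChevalleyDatum Matrix
open Cfsg.Agent.Lib.helper8
open Cfsg.Agent.Lib.helper23.P4V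

universe u

variable {F : Type u} [Field F]

/-- Bruhat decomposition of `G₂(F)` (`h8bruhat`) -/
theorem g2ve3_bruhat (g : GG F) (hg : g ∈ Gp F) :
    ∃ b ∈ chevG2.borelSubgroup F, ∃ n ∈ chevG2.monomialSubgroup F,
      ∃ b' ∈ chevG2.borelSubgroup F, g = b * n * b' := by
  have hD : chevG2 ∈ [chevG2, chevB2, chevD4, chevF4, chevE6, chevE7, chevE8] := by simp
  exact h8bruhat chevG2 hB (h8reflAll chevG2 hD) (h8commAll chevG2 hD) (h8bn_all chevG2 hD)
    (h8bn2_all chevG2 hD) g hg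

/-- `n_a ∈ Pp` -/
theorem g2ve3_na_mem_Pp : (na : GG F) ∈ Pp F := by
  unfold Pp ChevalleyDatum.parabolicSubgroup
  apply Subgroup.mem_sup_right
  apply Subgroup.subset_closure
  refine ⟨0, rfl, by decide, ?_⟩
  have : chevG2.simple 0 = 7 := by decide
  rw [this]
  exact h8nU_val chevG2 hB 7 1

end Cfsg.Agent.Lib.Helper19.G2V
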