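import Mathlib
import Cfsg.Agent.Lib.Helper19.G2V.Defs
import Cfsg.Agent.Lib.Helper13.G2VE3core
import Cfsg.Agent.Lib.Helper13.G2VE3pre
import Cfsg.Agent.Lib.helper3.G2VE1
import Cfsg.Agent.Lib.Helper28.G2VE2A
import Cfsg.Agent.Lib.Helper28.G2VE2B
import Cfsg.Agent.Lib.Helper28.G2VE2C
import Cfsg.Agent.Lib.Helper5.G2VM2

/-!
# G2V row E3 (`bruhat_P`), verbatim vs `Helper19/G2V/Skel.lean.txt`.
-/

set_option autoImplicit false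

namespace Cfsg.Agent.Lib.Helper19.G2V

open Cfsg.Lie Cfsg.Lie.ChevalleyDatum Matrix
open Cfsg.Agent.Lib.helper8
open Cfsg.Agent.Lib.helper23.P4V

universe u

variable {F : Type u} [Field F]

/-- **E3** [M]. -/
theorem bruhat_P (g : GG F) (hg : g ∈ Gp F) :
    g ∈ Pp F ∨ ∃ j ∈ [5, 3, 0], ∃ r : F, r ≠ 0 ∧ ∃ p ∈ Pp F, ∃ p' ∈ Pp F, g = p * X j r * p' :=
  g2ve3_core g2ve3_bruhat N_words nb_eq nbab_form nbabab_form g2ve3_na_mem_Pp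
    (Qp_le_Pp (X_mem_Qp 6 (by simp) 1)) g hg

end Cfsg.Agent.Lib.Helper19.G2V
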