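import Mathlib
import Cfsg.Agent.Lib.Helper19.G2V.Defs

/-!
# G2V row N3 (`nrho_iota`, `nrho_iota'`): the cores, with the statements of N1, N2, I2 (`iota_mul`, `iota_one`) and
I3 (`iota_dg`, `iota_ha`) as hypotheses.
-/

set_option autoImplicit false

namespace Cfsg.Agent.Lib.Helper19.G2V

open Cfsg.Lie Cfsg.Lie.ChevalleyDatum Matrix
open Cfsg.Agent.Lib.helper8
open Cfsg.Agent.Lib.helper23.P4V

universe u

variable {F : Type u} [Field F]

/-- the determinant of an element of `GL₂(F)` is not zero -/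
theorem g2vn3_det_ne_zero (A : GL (Fin 2) F) : (A : M2 F).det ≠ 0 := by
  have := A.isUnit.map (Matrix.detMonoidHom (n := Fin 2) (R := F))
  exact this.ne_zero

/-- N3 core, first part. -/
theorem g2vn3_core
    (hN1 : ∀ S : Matrix.SpecialLinearGroup (Fin 2) F, (nrho : GG F) * phiA S = phiA S * nrho)
    (hN2 : ∀ c : F, c ≠ 0 → (nrho : GG F) * hb c * nrho⁻¹ = ha c⁻¹ * hb c⁻¹)
    (hmul : ∀ A B : GL (Fin 2) F, iota (A * B) = iota A * iota B)
    (hone : iota (1 : GL (Fin 2) F) = 1)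
    (hdg : ∀ (A : GL (Fin 2) F) (c : F), (A : M2 F) = !![1, 0; 0, c] → iota A = hb c)
    (hha : ∀ (A : GL (Fin 2) F) (c : F), c ≠ 0 → (A : M2 F) = !![c, 0; 0, c⁻¹] → iota A = ha c)
    (A A' : GL (Fin 2) F) (h : (A' : M2 F) = ((A : M2 F).det)⁻¹ • (A : M2 F)) :
    (nrho : GG F) * iota A * nrho⁻¹ = iota A' := by
  set c : F := (A : M2 F).det with hc
  have hc0 : c ≠ 0 := g2vn3_det_ne_zero A
  have hci0 : c⁻¹ ≠ 0 := inv_ne_zero hc0
  -- the three diagonal matrices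
  have d1 : (!![1, 0; 0, c] : M2 F).det ≠ 0 := by
    rw [Matrix.det_fin_two_of]; simpa using hc0
  have d2 : (!![1, 0; 0, c⁻¹] : M2 F).det ≠ 0 := by
    rw [Matrix.det_fin_two_of]; simpa using hc0
  have d3 : (!![c⁻¹, 0; 0, c] : M2 F).det ≠ 0 := by
    rw [Matrix.det_fin_two_of, mul_zero, sub_zero, inv_mul_cancel₀ hc0]; exact one_ne_zero
  have e1 : iota (mk2 _ d1) = hb c := hdg _ c rfl
  have e2 : iota (mk2 _ d2) = hb c⁻¹ := hdg _ c⁻¹ rfl
  have e3 : iota (mk2 _ d3) = ha c⁻¹ := by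
    apply hha _ c⁻¹ hci0
    rw [mk2_val, inv_inv]
  have e12 : (mk2 _ d1 : GL (Fin 2) F) * mk2 _ d2 = 1 := by
    apply Units.ext
    rw [Units.val_mul, mk2_val, mk2_val, Units.val_one]
    ext i j
    fin_cases i <;> fin_cases j <;> simp [Matrix.mul_apply, Fin.sum_univ_two, hc0]
  have hinv : hb c * iota (mk2 _ d2) = 1 := by
    rw [← e1, ← hmul, e12, hone]
  have hphi : phiA (sl2of A) = iota A * iota (mk2 _ d2) := by
    have h0 : iota A = phiA (sl2of A) * hb c := rfl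
    rw [h0, mul_assoc, hinv, mul_one]
  have hA' : A' = A * mk2 _ d2 * mk2 _ d3 * mk2 _ d2 := by
    apply Units.ext
    rw [h, Units.val_mul, Units.val_mul, Units.val_mul, mk2_val, mk2_val]
    ext i j
    fin_cases i <;> fin_cases j <;>
      simp [Matrix.mul_apply, Fin.sum_univ_two, Matrix.smul_apply] <;> field_simp
  have h0 : iota A = phiA (sl2of A) * hb c := rfl
  calc (nrho : GG F) * iota A * nrho⁻¹
      = (nrho * phiA (sl2of A)) * hb c * nrho⁻¹ := by rw [h0]; group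
    _ = phiA (sl2of A) * (nrho * hb c * nrho⁻¹) := by rw [hN1]; group
    _ = phiA (sl2of A) * (ha c⁻¹ * hb c⁻¹) := by rw [hN2 c hc0]
    _ = iota A * iota (mk2 _ d2) * (iota (mk2 _ d3) * iota (mk2 _ d2)) := by rw [hphi, e3, e2]
    _ = iota A' := by rw [hA', hmul, hmul, hmul]; group

/-- N3 core, second part (from the first). -/
theorem g2vn3_core' 
    (hfirst : ∀ (A A' : GL (Fin 2) F), (A' : M2 F) = ((A : M2 F).det)⁻¹ • (A : M2 F) →
      (nrho : GG F) * iota A * nrho⁻¹ = iota A')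
    (A A' : GL (Fin 2) F) (h : (A' : M2 F) = ((A : M2 F).det)⁻¹ • (A : M2 F)) :
    (nrho : GG F)⁻¹ * iota A * nrho = iota A' := by
  have hc0 : (A : M2 F).det ≠ 0 := g2vn3_det_ne_zero A
  have hback : (A : M2 F) = ((A' : M2 F).det)⁻¹ • (A' : M2 F) := by
    rw [h, Matrix.det_smul, Fintype.card_fin, smul_smul]
    have : ((A : M2 F).det⁻¹ ^ 2 * (A : M2 F).det)⁻¹ * (A : M2 F).det⁻¹ = 1 := by
      field_simp
    rw [this, one_smul]
  have h1 := hfirst A' A hback
  rw [← h1]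
  group

end Cfsg.Agent.Lib.Helper19.G2V
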