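import Mathlib
import Cfsg.Agent.Lib.Helper19.G2V.Defs
import Cfsg.Agent.Lib.Helper13.G2VN3core
import Cfsg.Agent.Lib.Helper16.G2VN1
import Cfsg.Agent.Lib.Helper21.G2VN2
import Cfsg.Agent.Lib.Helper27.G2VI2
import Cfsg.Agent.Lib.Helper25.G2VI3

/-!
# G2V row N3 (`nrho_iota`, `nrho_iota'`): spare copies under own names (the verbatim names are in
`Helper25/G2VN3.lean`, landed first).
-/

set_option autoImplicit false

namespace Cfsg.Agent.Lib.Helper19.G2V

open Cfsg.Lie Cfsg.Lie.ChevalleyDatum Matrix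
open Cfsg.Agent.Lib.helper8
open Cfsg.Agent.Lib.helper23.P4V

universe u

variable {F : Type u} [Field F]

/-- **N3** [M] (both). -/
theorem g2vn3_h13_nrho_iota (A A' : GL (Fin 2) F) (h : (A' : M2 F) = ((A : M2 F).det)⁻¹ • (A : M2 F)) :
    nrho * iota A * nrho⁻¹ = iota A' :=
  g2vn3_core nrho_phiA nrho_hb iota_mul iota_one iota_dg iota_ha A A' h

theorem g2vn3_h13_nrho_iota' (A A' : GL (Fin 2) F) (h : (A' : M2 F) = ((A : M2 F).det)⁻¹ • (A : M2 F)) :
    nrho⁻¹ * iota A * nrho = iota A' :=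
  g2vn3_core' g2vn3_h13_nrho_iota A A' h

end Cfsg.Agent.Lib.Helper19.G2V
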