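import Mathlib
import Cfsg.Agent.Lib.Helper25.Hall4.Defs
import Cfsg.Agent.Lib.Helper25.Hall4.Tools

set_option autoImplicit false

/-! helper13: common setup for the pieces O2 and O3 of helper25's project Hall4 (S4221). -/

namespace Cfsg.Agent.Lib.Helper13.Hall4

open MulAction Cfsg.Agent.Lib.helper4 Cfsg.Agent.Lib.Helper22.LW Cfsg.Agent.Lib.Helper25.Hall4

variable {K β : Type*} [Group K] [Finite K] [MulAction K β] [Fintype β] [DecidableEq β] {h : ℕ}

theorem exists_four (h4 : 4 ≤ Fintype.card β) : ∃ p1 p2 p3 p4 : β, [p1, p2, p3, p4].Nodup := by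
  have hle : Fintype.card (Fin 4) ≤ Fintype.card β := by rwa [Fintype.card_fin]
  obtain ⟨v⟩ := Function.Embedding.nonempty_of_card_le hle
  refine ⟨v 0, v 1, v 2, v 3, ?_⟩
  simp only [List.nodup_cons, List.mem_cons, List.not_mem_nil, or_false, not_or,
    List.nodup_nil, and_true, not_false_eq_true, EmbeddingLike.apply_eq_iff_eq]
  decide

theorem inv_smul_smul' {x : K} (hx : x * x = 1) (y : β) : x • x • y = y := by
  rw [← mul_smul, hx, one_smul]

/-- every involution has exactly three fixed points (odd degree at least 8) -/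
theorem card_Fset_eq_three (H : Hyp K β h) (hn8 : 8 ≤ Fintype.card β)
    (hod : Odd (Fintype.card β)) {x : K} (hx : x * x = 1) {a : β} (ha : x • a ≠ a) :
    (Fset x : Finset β).card = 3 := by
  obtain ⟨p1, p2, p3, p4, hnd⟩ := exists_four (β := β) (by omega)
  obtain ⟨t, ht2, t1, t2, t3, t4⟩ := exists_type1 H hnd
  have hnd' := hnd
  simp only [List.nodup_cons, List.mem_cons, List.not_mem_nil, or_false, not_or,
    List.nodup_nil, and_true, not_false_eq_true] at hnd'
  obtain ⟨⟨h12, h13, h14⟩, ⟨h23, h24⟩, h34⟩ := hnd'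
  have ht1 : t • p1 ≠ p1 := by rw [t1]; exact fun e => h12 e.symm
  obtain ⟨g, hg⟩ := all_conj H hn8 ht2 hx ht1 ha
  rw [hg, card_Fset_conj]
  have hle := fix_le_three H ht2 ht1
  have hev := card_Mset_even (β := β) ht2
  have hsum := card_F_add_card_M (β := β) t
  have h2 : 2 ≤ (Fset t : Finset β).card := by
    have hsub : ({p3, p4} : Finset β) ⊆ Fset t := by
      intro y hy
      rw [Finset.mem_insert, Finset.mem_singleton] at hy
      rw [mem_Fset]
      rcases hy with rfl | rfl
      · exact t3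
      · exact t4
    have := Finset.card_le_card hsub
    rwa [Finset.card_pair h34] at this
  obtain ⟨m, hm⟩ := hev
  obtain ⟨k, hk⟩ := hod
  omega

/-- the fixed points of an involution are the three known ones -/
theorem fixed_cases (H : Hyp K β h) {x : K} (hx : x * x = 1) {a c d e : β} (ha : x • a ≠ a)
    (hc : x • c = c) (hd : x • d = d) (he : x • e = e) (hcd : c ≠ d) (hce : c ≠ e) (hde : d ≠ e)
    {y : β} (hy : x • y = y) : y = c ∨ y = d ∨ y = e := by
  have hle := fix_le_three H hx ha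
  have hsub : ({c, d, e} : Finset β) ⊆ Fset x := by
    intro z hz
    simp only [Finset.mem_insert, Finset.mem_singleton] at hz
    rw [mem_Fset]
    rcases hz with rfl | rfl | rfl
    · exact hc
    · exact hd
    · exact he
  have hcard : ({c, d, e} : Finset β).card = 3 := by
    rw [Finset.card_insert_of_notMem, Finset.card_pair hde]
    simp [hcd, hce]
  have heq : ({c, d, e} : Finset β) = Fset x := by
    apply Finset.eq_of_subset_of_card_le hsub
    rw [hcard]; exact hle
  have : y ∈ ({c, d, e} : Finset β) := by rw [heq, mem_Fset]; exact hy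
  simpa using this

/-- the common configuration of O2 and O3: seven distinct points `p1 … p7` and commuting involutions
`s = (p1 p2)(p3)(p4)(p5)`, `t = (p1)(p2)(p3 p4)(p5)` with `s * t` fixing `p5, p6, p7`. -/
theorem setup (H : Hyp K β h) (hn8 : 8 ≤ Fintype.card β) (hod : Odd (Fintype.card β)) :
    ∃ (p1 p2 p3 p4 p5 p6 p7 : β) (s t : K), [p1, p2, p3, p4, p5, p6, p7].Nodup ∧
      s * s = 1 ∧ t * t = 1 ∧ s * t = t * s ∧
      s • p1 = p2 ∧ s • p2 = p1 ∧ s • p3 = p3 ∧ s • p4 = p4 ∧ s • p5 = p5 ∧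
      t • p1 = p1 ∧ t • p2 = p2 ∧ t • p3 = p4 ∧ t • p4 = p3 ∧ t • p5 = p5 ∧
      (s * t) • p6 = p6 ∧ (s * t) • p7 = p7 := by
  obtain ⟨p1, p2, p3, p4, hnd⟩ := exists_four (β := β) (by omega)
  have hnd' := hnd
  simp only [List.nodup_cons, List.mem_cons, List.not_mem_nil, or_false, not_or,
    List.nodup_nil, and_true, not_false_eq_true] at hnd'
  obtain ⟨⟨h12, h13, h14⟩, ⟨h23, h24⟩, h34⟩ := hnd'
  obtain ⟨s, hs2, s1, s2, s3, s4⟩ := exists_type1 H hnd
  have hs1 : s • p1 ≠ p1 := by rw [s1]; exact fun e => h12 e.symm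
  -- the third fixed point of `s`
  have hs3 := card_Fset_eq_three H hn8 hod hs2 hs1
  have h5 : ∃ p5 : β, s • p5 = p5 ∧ p5 ≠ p3 ∧ p5 ≠ p4 := by
    by_contra hcon
    push Not at hcon
    have hsub : (Fset s : Finset β) ⊆ {p3, p4} := by
      intro y hy
      rw [mem_Fset] at hy
      rw [Finset.mem_insert, Finset.mem_singleton]
      by_contra hne
      push Not at hne
      exact hne.2 (hcon y hy hne.1)
    have := Finset.card_le_card hsub
    rw [hs3, Finset.card_pair h34] at this
    omega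
  obtain ⟨p5, s5, h53, h54⟩ := h5
  have h51 : p5 ≠ p1 := by
    intro e; rw [e] at s5; exact hs1 s5
  have h52 : p5 ≠ p2 := by
    intro e; rw [e, s2] at s5; exact h12 s5
  -- the involution `t`
  have hnd2 : [p3, p4, p1, p2].Nodup := by
    simp only [List.nodup_cons, List.mem_cons, List.not_mem_nil, or_false, not_or,
      List.nodup_nil, and_true, not_false_eq_true]
    exact ⟨⟨h34, Ne.symm h13, Ne.symm h23⟩, ⟨Ne.symm h14, Ne.symm h24⟩, h12⟩
  obtain ⟨t₀, ht₀2, t₀3, t₀4, t₀1, t₀2⟩ := exists_type1 H hnd2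
  obtain ⟨t, ht2, hst, htt⟩ := exists_commuting H hs2 ht₀2 hnd
    (by
      intro p hp
      simp only [Finset.mem_insert, Finset.mem_singleton] at hp ⊢
      rcases hp with rfl | rfl | rfl | rfl
      · right; left; exact s1
      · left; exact s2
      · right; right; left; exact s3
      · right; right; right; exact s4)
    (by
      intro p hp
      simp only [Finset.mem_insert, Finset.mem_singleton] at hp ⊢
      rcases hp with rfl | rfl | rfl | rfl
      · left; exact t₀1
      · right; left; exact t₀2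
      · right; right; right; exact t₀3
      · right; right; left; exact t₀4)
    (by
      intro p hp
      simp only [Finset.mem_insert, Finset.mem_singleton] at hp
      rcases hp with rfl | rfl | rfl | rfl
      · rw [t₀1, s1, t₀2]
      · rw [t₀2, s2, t₀1]
      · rw [t₀3, s3, s4, t₀3]
      · rw [t₀4, s4, s3, t₀4])
  have t1 : t • p1 = p1 := by rw [htt p1 (by simp), t₀1]
  have t2 : t • p2 = p2 := by rw [htt p2 (by simp), t₀2]
  have t3 : t • p3 = p4 := by rw [htt p3 (by simp), t₀3]
  have t4 : t • p4 = p3 := by rw [htt p4 (by simp), t₀4]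
  have t5 : t • p5 = p5 := by
    have hfix : s • (t • p5) = t • p5 := by
      rw [← mul_smul, hst, mul_smul, s5]
    rcases fixed_cases H hs2 hs1 s3 s4 s5 h34 (Ne.symm h53) (Ne.symm h54) hfix with e | e | e
    · exfalso
      rw [← t4] at e
      exact h54 (smul_left_cancel t e)
    · exfalso
      rw [← t3] at e
      exact h53 (smul_left_cancel t e)
    · exact e
  -- the product
  have hx2 : (s * t) * (s * t) = 1 := by
    calc (s * t) * (s * t) = s * (t * s) * t := by group
      _ = s * (s * t) * t := by rw [hst]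
      _ = (s * s) * (t * t) := by group
      _ = 1 := by rw [hs2, ht2, one_mul]
  have x1 : (s * t) • p1 = p2 := by rw [mul_smul, t1, s1]
  have x2 : (s * t) • p2 = p1 := by rw [mul_smul, t2, s2]
  have x3 : (s * t) • p3 = p4 := by rw [mul_smul, t3, s4]
  have x4 : (s * t) • p4 = p3 := by rw [mul_smul, t4, s3]
  have x5 : (s * t) • p5 = p5 := by rw [mul_smul, t5, s5]
  have hx1 : (s * t) • p1 ≠ p1 := by rw [x1]; exact fun e => h12 e.symm
  have hx3 := card_Fset_eq_three H hn8 hod hx2 hx1
  have her : ((Fset (s * t) : Finset β).erase p5).card = 2 := by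
    rw [Finset.card_erase_of_mem (mem_Fset.mpr x5), hx3]
  obtain ⟨p6, p7, h67, he⟩ := Finset.card_eq_two.mp her
  have hp6 : p6 ∈ (Fset (s * t) : Finset β).erase p5 := by rw [he]; simp
  have hp7 : p7 ∈ (Fset (s * t) : Finset β).erase p5 := by rw [he]; simp
  rw [Finset.mem_erase, mem_Fset] at hp6 hp7
  obtain ⟨h65, x6⟩ := hp6
  obtain ⟨h75, x7⟩ := hp7
  have hne : ∀ q : β, (s * t) • q = q → q ≠ p1 ∧ q ≠ p2 ∧ q ≠ p3 ∧ q ≠ p4 := by
    intro q hq
    refine ⟨?_, ?_, ?_, ?_⟩
    · rintro rfl; rw [x1] at hq; exact h12 hq.symm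
    · rintro rfl; rw [x2] at hq; exact h12 hq
    · rintro rfl; rw [x3] at hq; exact h34 hq.symm
    · rintro rfl; rw [x4] at hq; exact h34 hq
  obtain ⟨h61, h62, h63, h64⟩ := hne p6 x6
  obtain ⟨h71, h72, h73, h74⟩ := hne p7 x7
  refine ⟨p1, p2, p3, p4, p5, p6, p7, s, t, ?_, hs2, ht2, hst, s1, s2, s3, s4, s5, t1, t2, t3, t4, t5,
    x6, x7⟩
  simp only [List.nodup_cons, List.mem_cons, List.not_mem_nil, or_false, not_or,
    List.nodup_nil, and_true, not_false_eq_true]
  exact ⟨⟨h12, h13, h14, Ne.symm h51, Ne.symm h61, Ne.symm h71⟩,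
    ⟨h23, h24, Ne.symm h52, Ne.symm h62, Ne.symm h72⟩,
    ⟨h34, Ne.symm h53, Ne.symm h63, Ne.symm h73⟩,
    ⟨Ne.symm h54, Ne.symm h64, Ne.symm h74⟩, ⟨Ne.symm h65, Ne.symm h75⟩, h67⟩

end Cfsg.Agent.Lib.Helper13.Hall4
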