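import Mathlib
import Cfsg.Agent.Lib.Helper25.Hall4.Defs
import Cfsg.Agent.Lib.Helper13.Hall4Common

set_option autoImplicit false

/-! helper13: piece O2 (`fixT_false`) of helper25's project Hall4 (S4221). -/

namespace Cfsg.Agent.Lib.Helper13.Hall4

open MulAction Cfsg.Agent.Lib.helper4 Cfsg.Agent.Lib.Helper22.LW Cfsg.Agent.Lib.Helper25.Hall4

variable {K β : Type*} [Group K] [Finite K] [MulAction K β] [Fintype β] [DecidableEq β] {h : ℕ}

/-- N1: under `FixT`, an involution with the same three fixed points as `x = (a b)(c)(d)(e)` also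
swaps `a` and `b`. -/
theorem swap_of_fix (H : Hyp K β h) (hn8 : 8 ≤ Fintype.card β) (hF : FixT K β) {x t : K}
    (hx : x * x = 1) (ht : t * t = 1) {a b c d e : β} (hnd : [a, b, c, d, e].Nodup)
    (xa : x • a = b) (xc : x • c = c) (xd : x • d = d) (xe : x • e = e)
    (tc : t • c = c) (td : t • d = d) (te : t • e = e) (ta : t • a ≠ a) : t • a = b := by
  have hnd' := hnd
  simp only [List.nodup_cons, List.mem_cons, List.not_mem_nil, or_false, not_or,
    List.nodup_nil, and_true, not_false_eq_true] at hnd'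
  obtain ⟨⟨hab, hac, had, hae⟩, ⟨hbc, hbd, hbe⟩, ⟨hcd, hce⟩, hde⟩ := hnd'
  have hxa : x • a ≠ a := by rw [xa]; exact fun e' => hab e'.symm
  obtain ⟨g, hg⟩ := all_conj H hn8 hx ht hxa ta
  have hgt : ∀ y : β, t • y = g • x • g⁻¹ • y := by
    intro y; rw [hg, mul_smul, mul_smul]
  have hfix : ∀ y : β, t • y = y → x • g⁻¹ • y = g⁻¹ • y := by
    intro y hy
    rw [hgt] at hy
    have := congrArg (fun z => g⁻¹ • z) hy
    simpa using this
  have hmv : x • g⁻¹ • a ≠ g⁻¹ • a := by
    intro e'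
    apply ta
    rw [hgt, e', smul_inv_smul]
  obtain ⟨c₀, hc₀, c₀a, c₀c, c₀d⟩ := A_trans H hx hxa xc xd hcd hmv (hfix c tc) (hfix d td)
    (fun e' => hcd (smul_left_cancel _ e'))
  have γa : (g * c₀) • a = a := by rw [mul_smul, c₀a, smul_inv_smul]
  have γc : (g * c₀) • c = c := by rw [mul_smul, c₀c, smul_inv_smul]
  have γd : (g * c₀) • d = d := by rw [mul_smul, c₀d, smul_inv_smul]
  have htγ : t * (g * c₀) = (g * c₀) * x := by
    rw [hg]
    calc g * x * g⁻¹ * (g * c₀) = g * (x * c₀) := by group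
      _ = g * (c₀ * x) := by rw [hc₀]
      _ = g * c₀ * x := by group
  have γe : (g * c₀) • e = e := by
    have hfe : t • ((g * c₀) • e) = (g * c₀) • e := by
      rw [← mul_smul, htγ, mul_smul, xe]
    rcases fixed_cases H ht ta tc td te hcd hce hde hfe with e' | e' | e'
    · exfalso
      rw [← γc] at e'
      exact hce (smul_left_cancel _ e').symm
    · exfalso
      rw [← γd] at e'
      exact hde (smul_left_cancel _ e').symm
    · exact e'
  -- `L4 a b c d = L4 a c d e`
  have hnd1 : [a, b, c, d].Nodup := by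
    simp only [List.nodup_cons, List.mem_cons, List.not_mem_nil, or_false, not_or,
      List.nodup_nil, and_true, not_false_eq_true]
    exact ⟨⟨hab, hac, had⟩, ⟨hbc, hbd⟩, hcd⟩
  have hnd2 : [a, c, d, e].Nodup := by
    simp only [List.nodup_cons, List.mem_cons, List.not_mem_nil, or_false, not_or,
      List.nodup_nil, and_true, not_false_eq_true]
    exact ⟨⟨hac, had, hae⟩, ⟨hcd, hce⟩, hde⟩
  have hle : L4 (K := K) a b c d ≤ L4 (K := K) a c d e := by
    intro k hk
    have hke := hF x a b c d e hx hnd xa xc xd xe k hk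
    obtain ⟨k1, _, k3, k4⟩ := mem_L4.mp hk
    exact mem_L4.mpr ⟨k1, k3, k4, hke⟩
  have heq : L4 (K := K) a b c d = L4 (K := K) a c d e := by
    apply Subgroup.eq_of_le_of_card_ge hle
    rw [card_L4 H.card hnd1, card_L4 H.card hnd2]
  have hγ : g * c₀ ∈ L4 (K := K) a b c d := by
    rw [heq]; exact mem_L4.mpr ⟨γa, γc, γd, γe⟩
  have γb : (g * c₀) • b = b := (mem_L4.mp hγ).2.1
  calc t • a = t • (g * c₀) • a := by rw [γa]
    _ = (g * c₀) • x • a := by rw [← mul_smul, htγ, mul_smul]
    _ = b := by rw [xa, γb]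

/-- N2: under `FixT`, two involutions with the same three fixed points are equal. -/
theorem unique_of_fix [FaithfulSMul K β] (H : Hyp K β h) (hn8 : 8 ≤ Fintype.card β)
    (hF : FixT K β) {x t t' : K}
    (hx : x * x = 1) (ht : t * t = 1) (ht' : t' * t' = 1) {a b c d e : β}
    (hnd : [a, b, c, d, e].Nodup)
    (xa : x • a = b) (xc : x • c = c) (xd : x • d = d) (xe : x • e = e)
    (tc : t • c = c) (td : t • d = d) (te : t • e = e) (ta : t • a ≠ a)
    (tc' : t' • c = c) (td' : t' • d = d) (te' : t' • e = e) (ta' : t' • a ≠ a) : t = t' := by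
  have hnd' := hnd
  simp only [List.nodup_cons, List.mem_cons, List.not_mem_nil, or_false, not_or,
    List.nodup_nil, and_true, not_false_eq_true] at hnd'
  obtain ⟨⟨hab, hac, had, hae⟩, ⟨hbc, hbd, hbe⟩, ⟨hcd, hce⟩, hde⟩ := hnd'
  have hT := H.trans
  have key : ∀ (u : K), u * u = 1 → u • c = c → u • d = d → u • e = e → u • a ≠ a →
      ∀ (y : β) (g : K), g • a = y → g • c = c → g • d = d → g • e = e → u • y = g • b := by
    intro u hu uc ud ue ua y g ga gc gd ge
    have hw2 : (g⁻¹ * u * g) * (g⁻¹ * u * g) = 1 := by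
      calc (g⁻¹ * u * g) * (g⁻¹ * u * g) = g⁻¹ * (u * u) * g := by group
        _ = 1 := by rw [hu]; group
    have hfixw : ∀ z : β, g • z = z → u • z = z → (g⁻¹ * u * g) • z = z := by
      intro z gz uz
      rw [mul_smul, mul_smul, gz, uz, inv_smul_eq_iff, gz]
    have hwa : (g⁻¹ * u * g) • a ≠ a := by
      intro e'
      rw [mul_smul, mul_smul, ga, inv_smul_eq_iff, ga] at e'
      -- u • y = y, so y is one of c, d, e
      rcases fixed_cases H hu ua uc ud ue hcd hce hde e' with e'' | e'' | e''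
      · rw [← ga, ← gc] at e''
        exact hac (smul_left_cancel _ (by rw [e'', gc]))
      · rw [← ga, ← gd] at e''
        exact had (smul_left_cancel _ (by rw [e'', gd]))
      · rw [← ga, ← ge] at e''
        exact hae (smul_left_cancel _ (by rw [e'', ge]))
    have := swap_of_fix H hn8 hF hx hw2 hnd xa xc xd xe (hfixw c gc uc) (hfixw d gd ud)
      (hfixw e ge ue) hwa
    rw [mul_smul, mul_smul, ga, inv_smul_eq_iff] at this
    exact this
  apply FaithfulSMul.eq_of_smul_eq_smul (α := β)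
  intro y
  by_cases hy : y = c ∨ y = d ∨ y = e
  · rcases hy with rfl | rfl | rfl
    · rw [tc, tc']
    · rw [td, td']
    · rw [te, te']
  · push Not at hy
    obtain ⟨hyc, hyd, hye⟩ := hy
    have hnd1 : [a, c, d, e].Nodup := by
      simp only [List.nodup_cons, List.mem_cons, List.not_mem_nil, or_false, not_or,
        List.nodup_nil, and_true, not_false_eq_true]
      exact ⟨⟨hac, had, hae⟩, ⟨hcd, hce⟩, hde⟩
    have hnd2 : [y, c, d, e].Nodup := by
      simp only [List.nodup_cons, List.mem_cons, List.not_mem_nil, or_false, not_or,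
        List.nodup_nil, and_true, not_false_eq_true]
      exact ⟨⟨hyc, hyd, hye⟩, ⟨hcd, hce⟩, hde⟩
    obtain ⟨g, ga, gc, gd, ge⟩ := exists_map4 (K := K) a c d e y c d e hnd1 hnd2
    rw [key t ht tc td te ta y g ga gc gd ge, key t' ht' tc' td' te' ta' y g ga gc gd ge]

/-- under `FixT`, the four-point stabiliser of `a, b, c, d` centralises `x = (a b)(c)(d)(e)`. -/
theorem comm_of_mem [FaithfulSMul K β] (H : Hyp K β h) (hn8 : 8 ≤ Fintype.card β)
    (hF : FixT K β) {x : K} (hx : x * x = 1) {a b c d e : β} (hnd : [a, b, c, d, e].Nodup)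
    (xa : x • a = b) (xc : x • c = c) (xd : x • d = d) (xe : x • e = e) {k : K}
    (hk : k ∈ L4 (K := K) a b c d) : k * x = x * k := by
  have hnd' := hnd
  simp only [List.nodup_cons, List.mem_cons, List.not_mem_nil, or_false, not_or,
    List.nodup_nil, and_true, not_false_eq_true] at hnd'
  obtain ⟨⟨hab, hac, had, hae⟩, ⟨hbc, hbd, hbe⟩, ⟨hcd, hce⟩, hde⟩ := hnd'
  have hke := hF x a b c d e hx hnd xa xc xd xe k hk
  obtain ⟨k1, k2, k3, k4⟩ := mem_L4.mp hk
  have hxa : x • a ≠ a := by rw [xa]; exact fun e' => hab e'.symm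
  have hw2 : (k * x * k⁻¹) * (k * x * k⁻¹) = 1 := by
    calc (k * x * k⁻¹) * (k * x * k⁻¹) = k * (x * x) * k⁻¹ := by group
      _ = 1 := by rw [hx]; group
  have hfixw : ∀ z : β, k • z = z → x • z = z → (k * x * k⁻¹) • z = z := by
    intro z kz xz
    rw [mul_smul, mul_smul, inv_smul_eq_iff.mpr kz.symm, xz, kz]
  have hwa : (k * x * k⁻¹) • a ≠ a := by
    rw [mul_smul, mul_smul, inv_smul_eq_iff.mpr k1.symm, xa, k2]
    exact fun e' => hab e'.symm
  have := unique_of_fix H hn8 hF hx hx hw2 hnd xa xc xd xe xc xd xe hxa (hfixw c k3 xc)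
    (hfixw d k4 xd) (hfixw e hke xe) hwa
  calc k * x = (k * x * k⁻¹) * k := by group
    _ = x * k := by rw [← this]

theorem pow_even_smul_of_swap {k : K} {p q : β} (hpq : k • p = q) (hqp : k • q = p) (m : ℕ) :
    k ^ (2 * m) • p = p := by
  induction m with
  | zero => simp
  | succ m ih =>
    rw [show 2 * (m + 1) = 2 * m + 1 + 1 by ring, pow_succ, pow_succ, mul_smul, mul_smul, hpq, hqp, ih]

/-- an element swapping two points has every power of odd exponent still swapping them -/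
theorem pow_odd_smul_of_swap {k : K} {p q : β} (hpq : k • p = q) (hqp : k • q = p) (m : ℕ) :
    k ^ (2 * m + 1) • p = q := by
  rw [pow_succ, mul_smul, hpq]
  exact pow_even_smul_of_swap hqp hpq m

theorem multiset_aux (m : Multiset ℕ) (hm : ∀ a ∈ m, Odd a ∧ 2 ≤ a) (hs : m.sum ≤ 4)
    (hev : Even m.sum) (hpos : 0 < m.sum) : False := by
  have hne : m ≠ 0 := by
    rintro rfl
    simp at hpos
  obtain ⟨a, ha⟩ := Multiset.exists_mem_of_ne_zero hne
  obtain ⟨m', rfl⟩ := Multiset.exists_cons_of_mem ha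
  rw [Multiset.sum_cons] at hs hev hpos
  obtain ⟨⟨j, hj⟩, ha2⟩ := hm a ha
  by_cases hm' : m' = 0
  · subst hm'
    rw [Multiset.sum_zero, add_zero] at hev
    obtain ⟨i, hi⟩ := hev
    omega
  · obtain ⟨b, hb⟩ := Multiset.exists_mem_of_ne_zero hm'
    obtain ⟨⟨i, hi⟩, hb2⟩ := hm b (Multiset.mem_cons_of_mem hb)
    have := Multiset.single_le_sum (fun x _ => Nat.zero_le x) b hb
    omega

/-- Piece O2 of Hall4. -/
theorem fixT_false [FaithfulSMul K β] (H : Hyp K β h) (hn8 : 8 ≤ Fintype.card β)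
    (hod : Odd (Fintype.card β)) (h1 : h ≠ 1) (hF : FixT K β) : False := by
  obtain ⟨p1, p2, p3, p4, p5, p6, p7, s, t, hnd, hs2, ht2, hst, s1, s2, s3, s4, s5, t1, t2, t3, t4,
    t5, x6, x7⟩ := setup H hn8 hod
  have hnd' := hnd
  simp only [List.nodup_cons, List.mem_cons, List.not_mem_nil, or_false, not_or,
    List.nodup_nil, and_true, not_false_eq_true] at hnd'
  obtain ⟨⟨h12, h13, h14, h15, h16, h17⟩, ⟨h23, h24, h25, h26, h27⟩, ⟨h34, h35, h36, h37⟩,
    ⟨h45, h46, h47⟩, ⟨h56, h57⟩, h67⟩ := hnd'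
  obtain ⟨x, hxdef⟩ : ∃ x : K, x = s * t := ⟨_, rfl⟩
  rw [← hxdef] at x6 x7
  have hx2 : x * x = 1 := by
    rw [hxdef]
    calc (s * t) * (s * t) = s * (t * s) * t := by group
      _ = s * (s * t) * t := by rw [hst]
      _ = (s * s) * (t * t) := by group
      _ = 1 := by rw [hs2, ht2, one_mul]
  have x1 : x • p1 = p2 := by rw [hxdef, mul_smul, t1, s1]
  have x3 : x • p3 = p4 := by rw [hxdef, mul_smul, t3, s4]
  have x5 : x • p5 = p5 := by rw [hxdef, mul_smul, t5, s5]
  have hx1 : x • p1 ≠ p1 := by rw [x1]; exact fun e => h12 e.symm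
  have hx3 : x • p3 ≠ p3 := by rw [x3]; exact fun e => h34 e.symm
  have hndA : [p1, p2, p3, p4, p5].Nodup := by
    simp only [List.nodup_cons, List.mem_cons, List.not_mem_nil, or_false, not_or,
      List.nodup_nil, and_true, not_false_eq_true]
    exact ⟨⟨h12, h13, h14, h15⟩, ⟨h23, h24, h25⟩, ⟨h34, h35⟩, h45⟩
  have hndB : [p3, p4, p1, p2, p5].Nodup := by
    simp only [List.nodup_cons, List.mem_cons, List.not_mem_nil, or_false, not_or,
      List.nodup_nil, and_true, not_false_eq_true]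
    exact ⟨⟨h34, Ne.symm h13, Ne.symm h23, h35⟩, ⟨Ne.symm h14, Ne.symm h24, h45⟩, ⟨h12, h15⟩, h25⟩
  have hnd4 : [p1, p2, p3, p4].Nodup := by
    simp only [List.nodup_cons, List.mem_cons, List.not_mem_nil, or_false, not_or,
      List.nodup_nil, and_true, not_false_eq_true]
    exact ⟨⟨h12, h13, h14⟩, ⟨h23, h24⟩, h34⟩
  have hnd4' : [p1, p2, p5, p6].Nodup := by
    simp only [List.nodup_cons, List.mem_cons, List.not_mem_nil, or_false, not_or,
      List.nodup_nil, and_true, not_false_eq_true]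
    exact ⟨⟨h12, h15, h16⟩, ⟨h25, h26⟩, h56⟩
  obtain ⟨j, hj⟩ := H.odd
  -- the four-point stabiliser centralises `s`, `t`, `x` and fixes `p5`, `p6`, `p7`
  have hcs : ∀ k ∈ L4 (K := K) p1 p2 p3 p4, k * s = s * k := fun k hk =>
    comm_of_mem H hn8 hF hs2 hndA s1 s3 s4 s5 hk
  have hct : ∀ k ∈ L4 (K := K) p1 p2 p3 p4, k * t = t * k := by
    intro k hk
    obtain ⟨k1, k2, k3, k4⟩ := mem_L4.mp hk
    exact comm_of_mem H hn8 hF ht2 hndB t3 t1 t2 t5 (mem_L4.mpr ⟨k3, k4, k1, k2⟩)
  have hk5 : ∀ k ∈ L4 (K := K) p1 p2 p3 p4, k • p5 = p5 := fun k hk =>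
    hF s p1 p2 p3 p4 p5 hs2 hndA s1 s3 s4 s5 k hk
  have hcx : ∀ k ∈ L4 (K := K) p1 p2 p3 p4, k * x = x * k := by
    intro k hk
    rw [hxdef]
    calc k * (s * t) = (k * s) * t := by group
      _ = (s * k) * t := by rw [hcs k hk]
      _ = s * (k * t) := by group
      _ = s * (t * k) := by rw [hct k hk]
      _ = s * t * k := by group
  have hk67 : ∀ k ∈ L4 (K := K) p1 p2 p3 p4, k • p6 = p6 ∧ k • p7 = p7 := by
    intro k hk
    have hkh : k ^ (2 * j + 1) = 1 := by
      rw [← hj]; exact pow_eq_one_of_mem_L4 H.card hnd4 hk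
    have hfx : ∀ z : β, x • z = z → x • k • z = k • z := by
      intro z hz
      rw [← mul_smul, ← hcx k hk, mul_smul, hz]
    have h6 : k • p6 = p6 := by
      rcases fixed_cases H hx2 hx1 x5 x6 x7 h56 h57 h67 (hfx p6 x6) with e | e | e
      · exfalso
        rw [← hk5 k hk] at e
        exact h56 (smul_left_cancel _ e).symm
      · exact e
      · exfalso
        rcases fixed_cases H hx2 hx1 x5 x6 x7 h56 h57 h67 (hfx p7 x7) with e' | e' | e'
        · rw [← hk5 k hk] at e'
          exact h57 (smul_left_cancel _ e').symm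
        · have := pow_odd_smul_of_swap e e' j
          rw [hkh, one_smul] at this
          exact h67 this
        · exact h67 (smul_left_cancel k (e.trans e'.symm))
    refine ⟨h6, ?_⟩
    rcases fixed_cases H hx2 hx1 x5 x6 x7 h56 h57 h67 (hfx p7 x7) with e' | e' | e'
    · exfalso
      rw [← hk5 k hk] at e'
      exact h57 (smul_left_cancel _ e').symm
    · exfalso
      exact h67 (smul_left_cancel k (h6.trans e'.symm))
    · exact e'
  -- cardinalities of the two stabilisers
  have hcard1 : Nat.card ↥(Cx x ⊓ L4 (K := K) p1 p2 p5 p6) = h := by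
    have hle1 : L4 (K := K) p1 p2 p3 p4 ≤ Cx x ⊓ L4 (K := K) p1 p2 p5 p6 := by
      intro k hk
      obtain ⟨k1, k2, _, _⟩ := mem_L4.mp hk
      exact Subgroup.mem_inf.mpr ⟨mem_Cx.mpr (hcx k hk),
        mem_L4.mpr ⟨k1, k2, hk5 k hk, (hk67 k hk).1⟩⟩
    have hle2 : Cx x ⊓ L4 (K := K) p1 p2 p5 p6 ≤ L4 (K := K) p1 p2 p5 p6 := inf_le_right
    have c1 := Subgroup.card_le_of_le hle1
    have c2 := Subgroup.card_le_of_le hle2
    rw [card_L4 H.card hnd4] at c1
    rw [card_L4 H.card hnd4'] at c2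
    omega
  have hcard2 : Nat.card ↥(Cx x ⊓ L4 (K := K) p1 p2 p3 p4) = h := by
    have hle1 : L4 (K := K) p1 p2 p3 p4 ≤ Cx x ⊓ L4 (K := K) p1 p2 p3 p4 := by
      intro k hk
      exact Subgroup.mem_inf.mpr ⟨mem_Cx.mpr (hcx k hk), hk⟩
    have hle2 : Cx x ⊓ L4 (K := K) p1 p2 p3 p4 ≤ L4 (K := K) p1 p2 p3 p4 := inf_le_right
    have c1 := Subgroup.card_le_of_le hle1
    have c2 := Subgroup.card_le_of_le hle2
    rw [card_L4 H.card hnd4] at c1 c2
    omega
  -- the two counts of the centraliser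
  have hF3 := card_Fset_eq_three H hn8 hod hx2 hx1
  have hFM := card_F_add_card_M (β := β) x
  have hc1 := count1 H.trans H.odd H.card x hx2 p1 p5 p6 hx1 x5 x6 h56
  rw [card_stab_triple, x1, hcard1, Finset.card_product, Finset.offDiag_card, hF3] at hc1
  have hc2 := count2 H.trans H.odd H.card x hx2 p1 p3 hx1 hx3 (Ne.symm h13)
    (by rw [x1]; exact Ne.symm h23)
  rw [card_stab_pair, x1, x3, hcard2] at hc2
  have hc3 := card_offDiag_filter_ne (Mset x : Finset β) (fun a => x • a)
    (by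
      intro a ha
      rw [mem_Mset] at ha ⊢
      exact fun e => ha (smul_left_cancel _ e))
    (by
      intro a ha
      rw [mem_Mset] at ha
      exact ha)
  have hhpos : 0 < h := by omega
  have hn11 : Fintype.card β = 11 := by
    obtain ⟨M, hM⟩ : ∃ M : ℕ, M = (Mset x : Finset β).card := ⟨_, rfl⟩
    obtain ⟨F, hFd⟩ : ∃ F : ℕ, F = ((Mset x : Finset β).offDiag.filter
        (fun t : β × β => t.2 ≠ x • t.1)).card := ⟨_, rfl⟩
    rw [← hM] at hc1 hc3 hFM
    rw [hF3] at hFM
    obtain ⟨i, hi⟩ := hod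
    rw [← hFd] at hc2
    have hc3' : F + M = M * M - M := by rw [hFd]; exact hc3
    have e1 : M * (3 * 3 - 3) = F := by
      apply Nat.eq_of_mul_eq_mul_right hhpos
      rw [hc1, hc2]
    have hM6 : 6 ≤ M := by omega
    have hMM : M * M = 8 * M := by
      have : M ≤ M * M := Nat.le_mul_self M
      omega
    have hM8 : M = 8 := Nat.eq_of_mul_eq_mul_right (by omega : 0 < M) hMM
    omega
  -- a nontrivial element of the stabiliser
  have hex : ∃ k ∈ L4 (K := K) p1 p2 p3 p4, k ≠ 1 := by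
    by_contra hcon
    push Not at hcon
    have hbot : L4 (K := K) p1 p2 p3 p4 = ⊥ := by
      rw [eq_bot_iff]
      intro k hk
      rw [Subgroup.mem_bot]
      exact hcon k hk
    have := card_L4 H.card hnd4
    rw [hbot, Subgroup.card_bot] at this
    exact h1 this.symm
  obtain ⟨k, hk, hk1⟩ := hex
  have hmoves : ∃ y : β, k • y ≠ y := by
    by_contra hcon
    push Not at hcon
    apply hk1
    apply FaithfulSMul.eq_of_smul_eq_smul (α := β)
    intro y
    rw [hcon y, one_smul]
  obtain ⟨y₀, hy₀⟩ := hmoves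
  obtain ⟨k1, k2, k3, k4⟩ := mem_L4.mp hk
  have k5 := hk5 k hk
  obtain ⟨k6, k7⟩ := hk67 k hk
  -- the moved points of `k`
  have hMv4 : (Mset k : Finset β).card ≤ 4 := by
    have hsub : (Mset k : Finset β) ⊆ Finset.univ \ ([p1, p2, p3, p4, p5, p6, p7] : List β).toFinset := by
      intro y hy
      rw [mem_Mset] at hy
      rw [Finset.mem_sdiff]
      refine ⟨Finset.mem_univ _, ?_⟩
      rw [List.mem_toFinset]
      simp only [List.mem_cons, List.not_mem_nil, or_false]
      rintro (rfl | rfl | rfl | rfl | rfl | rfl | rfl)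
      · exact hy k1
      · exact hy k2
      · exact hy k3
      · exact hy k4
      · exact hy k5
      · exact hy k6
      · exact hy k7
    have := Finset.card_le_card hsub
    rw [Finset.card_sdiff_of_subset (Finset.subset_univ _), Finset.card_univ,
      List.toFinset_card_of_nodup hnd, hn11] at this
    simpa using this
  have hMvev : Even (Mset k : Finset β).card := by
    rw [← Nat.not_odd_iff_even]
    intro hodd
    obtain ⟨y, hyM, hxy⟩ := exists_fixed_of_odd hx2 (Mset k : Finset β)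
      (by
        intro y hy
        rw [mem_Mset] at hy ⊢
        intro e
        apply hy
        rw [← mul_smul, hcx k hk, mul_smul] at e
        exact smul_left_cancel _ e) hodd
    rw [mem_Mset] at hyM
    rcases fixed_cases H hx2 hx1 x5 x6 x7 h56 h57 h67 hxy with rfl | rfl | rfl
    · exact hyM k5
    · exact hyM k6
    · exact hyM k7
  -- cycle type of the permutation induced by `k`
  obtain ⟨σ, hσ⟩ : ∃ σ : Equiv.Perm β, σ = MulAction.toPermHom K β k := ⟨_, rfl⟩
  have hσapp : ∀ y : β, σ y = k • y := by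
    intro y; rw [hσ]; rfl
  have hsupp : σ.support = (Mset k : Finset β) := by
    ext y
    rw [Equiv.Perm.mem_support, mem_Mset, hσapp]
  have hσh : σ ^ h = 1 := by
    rw [hσ, ← map_pow, pow_eq_one_of_mem_L4 H.card hnd4 hk, map_one]
  have hord : orderOf σ ∣ h := orderOf_dvd_of_pow_eq_one hσh
  apply multiset_aux σ.cycleType
  · intro a ha
    refine ⟨?_, Equiv.Perm.two_le_of_mem_cycleType ha⟩
    exact Odd.of_dvd_nat H.odd ((Equiv.Perm.dvd_of_mem_cycleType ha).trans hord)
  · rw [Equiv.Perm.sum_cycleType, hsupp]; exact hMv4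
  · rw [Equiv.Perm.sum_cycleType, hsupp]; exact hMvev
  · rw [Equiv.Perm.sum_cycleType, hsupp]
    exact Finset.card_pos.mpr ⟨y₀, mem_Mset.mpr hy₀⟩

end Cfsg.Agent.Lib.Helper13.Hall4
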