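import Mathlib
import Cfsg.Agent.Lib.Helper25.Hall4.Defs
import Cfsg.Agent.Lib.Helper13.Hall4Common
import Cfsg.Agent.Lib.Helper19.Hall4GEN
import Cfsg.Agent.Lib.Helper19.Hall4ORB
import Cfsg.Agent.Lib.helper2.Hall4O1

set_option autoImplicit false

/-! helper13: piece O3 (`trans_of_not_fixT`) of helper25's project Hall4 (S4221). -/

namespace Cfsg.Agent.Lib.Helper13.Hall4

open MulAction Cfsg.Agent.Lib.helper4 Cfsg.Agent.Lib.Helper22.LW Cfsg.Agent.Lib.Helper25.Hall4
open Cfsg.Agent.Lib.Helper19.Hall4 Cfsg.Agent.Lib.helper2.Hall4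

variable {K β : Type*} [Group K] [Finite K] [MulAction K β] [Fintype β] [DecidableEq β] {h : ℕ}

theorem pow_even_smul_of_swap' {k : K} {p q : β} (hpq : k • p = q) (hqp : k • q = p) (m : ℕ) :
    k ^ (2 * m) • p = p := by
  induction m with
  | zero => simp
  | succ m ih =>
    rw [show 2 * (m + 1) = 2 * m + 1 + 1 by ring, pow_succ, pow_succ, mul_smul, mul_smul, hpq, hqp, ih]

theorem pow_odd_smul_of_swap' {k : K} {p q : β} (hpq : k • p = q) (hqp : k • q = p) (m : ℕ) :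
    k ^ (2 * m + 1) • p = q := by
  rw [pow_succ, mul_smul, hpq]
  exact pow_even_smul_of_swap' hqp hpq m

/-- an element of odd order permuting three points and moving the first is transitive on them -/
theorem orbit3_aux {k : K} {j : ℕ} (hk : k ^ (2 * j + 1) = 1) {q5 q6 q7 : β}
    (h56 : q5 ≠ q6)
    (hperm : ∀ z : β, (z = q5 ∨ z = q6 ∨ z = q7) → (k • z = q5 ∨ k • z = q6 ∨ k • z = q7))
    (h5 : k • q5 = q6) : ∀ u : β, (u = q5 ∨ u = q6 ∨ u = q7) → ∃ i : ℕ, k ^ i • q5 = u := by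
  have h6 : k • q6 = q7 := by
    rcases hperm q6 (Or.inr (Or.inl rfl)) with e | e | e
    · exfalso
      have := pow_odd_smul_of_swap' h5 e j
      rw [hk, one_smul] at this
      exact h56 this
    · exfalso
      exact h56 (smul_left_cancel k (h5.trans e.symm))
    · exact e
  rintro u (rfl | rfl | rfl)
  · exact ⟨0, by simp⟩
  · exact ⟨1, by simpa using h5⟩
  · exact ⟨2, by rw [pow_two, mul_smul, h5, h6]⟩

theorem orbit3 {k : K} {j : ℕ} (hk : k ^ (2 * j + 1) = 1) {q5 q6 q7 : β}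
    (h56 : q5 ≠ q6) (h57 : q5 ≠ q7)
    (hperm : ∀ z : β, (z = q5 ∨ z = q6 ∨ z = q7) → (k • z = q5 ∨ k • z = q6 ∨ k • z = q7))
    (hmv : k • q5 ≠ q5) : ∀ u : β, (u = q5 ∨ u = q6 ∨ u = q7) → ∃ i : ℕ, k ^ i • q5 = u := by
  rcases hperm q5 (Or.inl rfl) with e | e | e
  · exact absurd e hmv
  · exact orbit3_aux hk h56 hperm e
  · intro u hu
    apply orbit3_aux (q6 := q7) (q7 := q6) hk h57 _ e u
    · rcases hu with r | r | r
      · exact Or.inl r
      · exact Or.inr (Or.inr r)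
      · exact Or.inr (Or.inl r)
    · intro z hz
      have : z = q5 ∨ z = q6 ∨ z = q7 := by
        rcases hz with r | r | r
        · exact Or.inl r
        · exact Or.inr (Or.inr r)
        · exact Or.inr (Or.inl r)
      rcases hperm z this with r | r | r
      · exact Or.inl r
      · exact Or.inr (Or.inr r)
      · exact Or.inr (Or.inl r)

/-- without `FixT`, every four-point stabiliser of a type-1 configuration moves the third fixed
point -/
theorem moves_of_not_fixT (H : Hyp K β h) (hn8 : 8 ≤ Fintype.card β) (hod : Odd (Fintype.card β))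
    (hF : ¬ FixT K β) {x : K} (hx : x * x = 1) {a b c d e : β} (hnd : [a, b, c, d, e].Nodup)
    (xa : x • a = b) (xc : x • c = c) (xd : x • d = d) (xe : x • e = e) :
    ∃ k ∈ L4 (K := K) a b c d, k • e ≠ e := by
  by_contra hcon
  push Not at hcon
  exact hF (fixT_of_exists H hn8 hod ⟨x, a, b, c, d, e, hx, hnd, xa, xc, xd, xe, hcon⟩)

theorem pow_smul_of_smul {k : K} {z : β} (hz : k • z = z) (i : ℕ) : k ^ i • z = z := by
  induction i with
  | zero => simp
  | succ i ih => rw [pow_succ, mul_smul, hz, ih]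

/-- some four-point stabiliser is transitive on the complement of its four points -/
theorem exists_base (H : Hyp K β h) (hn8 : 8 ≤ Fintype.card β) (hod : Odd (Fintype.card β))
    (hF : ¬ FixT K β) :
    ∃ q1 q2 q3 q4 q7 : β, [q1, q2, q3, q4].Nodup ∧
      ∀ z : β, z ≠ q1 → z ≠ q2 → z ≠ q3 → z ≠ q4 → ∃ k ∈ L4 (K := K) q1 q2 q3 q4, k • q7 = z := by
  classical
  obtain ⟨p1, p2, p3, p4, p5, p6, p7, s, t, hnd, hs2, ht2, hst, s1, s2, s3, s4, s5, t1, t2, t3, t4,
    t5, x6, x7⟩ := setup H hn8 hod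
  have hnd' := hnd
  simp only [List.nodup_cons, List.mem_cons, List.not_mem_nil, or_false, not_or,
    List.nodup_nil, and_true, not_false_eq_true] at hnd'
  obtain ⟨⟨h12, h13, h14, h15, h16, h17⟩, ⟨h23, h24, h25, h26, h27⟩, ⟨h34, h35, h36, h37⟩,
    ⟨h45, h46, h47⟩, ⟨h56, h57⟩, h67⟩ := hnd'
  obtain ⟨x, hxdef⟩ : ∃ x : K, x = s * t := ⟨_, rfl⟩
  rw [← hxdef] at x6 x7
  have hx2 : x * x = 1 := by
    rw [hxdef]
    calc (s * t) * (s * t) = s * (t * s) * t := by group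
      _ = s * (s * t) * t := by rw [hst]
      _ = (s * s) * (t * t) := by group
      _ = 1 := by rw [hs2, ht2, one_mul]
  have x1 : x • p1 = p2 := by rw [hxdef, mul_smul, t1, s1]
  have x3 : x • p3 = p4 := by rw [hxdef, mul_smul, t3, s4]
  have x5 : x • p5 = p5 := by rw [hxdef, mul_smul, t5, s5]
  have hx1 : x • p1 ≠ p1 := by rw [x1]; exact fun e => h12 e.symm
  have hx3 : x • p3 ≠ p3 := by rw [x3]; exact fun e => h34 e.symm
  have hs1 : s • p1 ≠ p1 := by rw [s1]; exact fun e => h12 e.symm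
  have ht3 : t • p3 ≠ p3 := by rw [t3]; exact fun e => h34 e.symm
  have hndA : [p1, p2, p3, p4, p5].Nodup := by
    simp only [List.nodup_cons, List.mem_cons, List.not_mem_nil, or_false, not_or,
      List.nodup_nil, and_true, not_false_eq_true]
    exact ⟨⟨h12, h13, h14, h15⟩, ⟨h23, h24, h25⟩, ⟨h34, h35⟩, h45⟩
  have hndC : [p1, p2, p5, p6, p7].Nodup := by
    simp only [List.nodup_cons, List.mem_cons, List.not_mem_nil, or_false, not_or,
      List.nodup_nil, and_true, not_false_eq_true]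
    exact ⟨⟨h12, h15, h16, h17⟩, ⟨h25, h26, h27⟩, ⟨h56, h57⟩, h67⟩
  have hnd4 : [p1, p2, p3, p4].Nodup := by
    simp only [List.nodup_cons, List.mem_cons, List.not_mem_nil, or_false, not_or,
      List.nodup_nil, and_true, not_false_eq_true]
    exact ⟨⟨h12, h13, h14⟩, ⟨h23, h24⟩, h34⟩
  have hnd4' : [p1, p2, p5, p6].Nodup := by
    simp only [List.nodup_cons, List.mem_cons, List.not_mem_nil, or_false, not_or,
      List.nodup_nil, and_true, not_false_eq_true]
    exact ⟨⟨h12, h15, h16⟩, ⟨h25, h26⟩, h56⟩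
  obtain ⟨j, hj⟩ := H.odd
  have hsinv : s⁻¹ = s := inv_eq_of_mul_eq_one_left hs2
  have htinv : t⁻¹ = t := inv_eq_of_mul_eq_one_left ht2
  -- an element of the stabiliser commuting with `x` and moving `p5`
  have hk₀ : ∃ k₀ ∈ L4 (K := K) p1 p2 p3 p4, k₀ * x = x * k₀ ∧ k₀ • p5 ≠ p5 := by
    by_contra hcon
    push Not at hcon
    obtain ⟨k, hk, hk5⟩ := moves_of_not_fixT H hn8 hod hF hs2 hndA s1 s3 s4 s5
    apply hk5
    have hle : L4 (K := K) p1 p2 p3 p4 ≤ stabilizer K p5 := by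
      apply gen4 s t hs2 ht2 hst (L4 (K := K) p1 p2 p3 p4)
      · rw [card_L4 H.card hnd4]; exact H.odd
      · intro k hk
        obtain ⟨k1, k2, k3, k4⟩ := mem_L4.mp hk
        rw [hsinv]
        refine mem_L4.mpr ⟨?_, ?_, ?_, ?_⟩
        · rw [mul_smul, mul_smul, s1, k2, s2]
        · rw [mul_smul, mul_smul, s2, k1, s1]
        · rw [mul_smul, mul_smul, s3, k3, s3]
        · rw [mul_smul, mul_smul, s4, k4, s4]
      · intro k hk
        obtain ⟨k1, k2, k3, k4⟩ := mem_L4.mp hk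
        rw [htinv]
        refine mem_L4.mpr ⟨?_, ?_, ?_, ?_⟩
        · rw [mul_smul, mul_smul, t1, k1, t1]
        · rw [mul_smul, mul_smul, t2, k2, t2]
        · rw [mul_smul, mul_smul, t3, k4, t4]
        · rw [mul_smul, mul_smul, t4, k3, t3]
      · intro k hk hks
        obtain ⟨k1, k2, k3, k4⟩ := mem_L4.mp hk
        rw [mem_stabilizer_iff]
        have hfix : s • k • p5 = k • p5 := by rw [← mul_smul, ← hks, mul_smul, s5]
        rcases fixed_cases H hs2 hs1 s3 s4 s5 h34 h35 h45 hfix with e | e | e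
        · exfalso
          exact h35 (smul_left_cancel k (k3.trans e.symm))
        · exfalso
          exact h45 (smul_left_cancel k (k4.trans e.symm))
        · exact e
      · intro k hk hkt
        obtain ⟨k1, k2, k3, k4⟩ := mem_L4.mp hk
        rw [mem_stabilizer_iff]
        have hfix : t • k • p5 = k • p5 := by rw [← mul_smul, ← hkt, mul_smul, t5]
        rcases fixed_cases H ht2 ht3 t1 t2 t5 h12 h15 h25 hfix with e | e | e
        · exfalso
          exact h15 (smul_left_cancel k (k1.trans e.symm))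
        · exfalso
          exact h25 (smul_left_cancel k (k2.trans e.symm))
        · exact e
      · intro k hk hkx
        rw [mem_stabilizer_iff]
        rw [← hxdef] at hkx
        exact hcon k hk hkx
    exact mem_stabilizer_iff.mp (hle hk)
  obtain ⟨k₀, hk₀L, hk₀x, hk₀5⟩ := hk₀
  obtain ⟨k₀1, k₀2, k₀3, k₀4⟩ := mem_L4.mp hk₀L
  have hk₀h : k₀ ^ (2 * j + 1) = 1 := by
    rw [← hj]; exact pow_eq_one_of_mem_L4 H.card hnd4 hk₀L
  -- fixed points of `x` are permuted by everything commuting with `x`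
  have hfixx : ∀ (g : K), g * x = x * g → ∀ z : β, (z = p5 ∨ z = p6 ∨ z = p7) →
      (g • z = p5 ∨ g • z = p6 ∨ g • z = p7) := by
    intro g hg z hz
    have hxz : x • z = z := by
      rcases hz with rfl | rfl | rfl
      · exact x5
      · exact x6
      · exact x7
    have : x • g • z = g • z := by rw [← mul_smul, ← hg, mul_smul, hxz]
    exact fixed_cases H hx2 hx1 x5 x6 x7 h56 h57 h67 this
  have horb := orbit3 hk₀h h56 h57 (hfixx k₀ hk₀x) hk₀5
  -- the subgroups `B` and `L`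
  obtain ⟨B, hB⟩ : ∃ B : Subgroup K, B = Cx x ⊓ stabilizer K p1 ⊓ stabilizer K p5 := ⟨_, rfl⟩
  have hmemB : ∀ g : K, g ∈ B ↔ g * x = x * g ∧ g • p1 = p1 ∧ g • p5 = p5 := by
    intro g
    rw [hB, Subgroup.mem_inf, Subgroup.mem_inf, mem_Cx, mem_stabilizer_iff, mem_stabilizer_iff,
      and_assoc]
  obtain ⟨L, hL⟩ : ∃ L : Subgroup K, L = L4 (K := K) p1 p2 p5 p6 ⊓ stabilizer K p7 := ⟨_, rfl⟩
  have hmemL : ∀ g : K, g ∈ L ↔ g ∈ L4 (K := K) p1 p2 p5 p6 ∧ g • p7 = p7 := by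
    intro g
    rw [hL, Subgroup.mem_inf, mem_stabilizer_iff]
  obtain ⟨Y, hY⟩ : ∃ Y : Finset β, Y = Finset.univ \ ([p1, p2, p5, p6, p7] : List β).toFinset :=
    ⟨_, rfl⟩
  have hmemY : ∀ z : β, z ∈ Y ↔ z ≠ p1 ∧ z ≠ p2 ∧ z ≠ p5 ∧ z ≠ p6 ∧ z ≠ p7 := by
    intro z
    rw [hY, Finset.mem_sdiff, List.mem_toFinset]
    simp only [Finset.mem_univ, true_and, List.mem_cons, List.not_mem_nil, or_false, not_or]
  have hp3Y : p3 ∈ Y := by
    rw [hmemY]
    exact ⟨Ne.symm h13, Ne.symm h23, h35, h36, h37⟩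
  -- `B` is transitive on `Y`
  have hB3 : ∀ y ∈ Y, ∃ g ∈ B, g • p3 = y := by
    intro y hy
    rw [hmemY] at hy
    obtain ⟨y1, y2, y5, y6, y7⟩ := hy
    have hxy : x • y ≠ y := by
      intro e
      rcases fixed_cases H hx2 hx1 x5 x6 x7 h56 h57 h67 e with r | r | r
      · exact y5 r
      · exact y6 r
      · exact y7 r
    obtain ⟨c₀, hc₀, c₀1, c₀3⟩ := B_trans H hx2 hx1 hx3 (Ne.symm h13)
      (by rw [x1]; exact Ne.symm h23) hx1 hxy y1 (by rw [x1]; exact y2)
    have hc₀inv : c₀⁻¹ * x = x * c₀⁻¹ := by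
      calc c₀⁻¹ * x = c₀⁻¹ * (x * c₀) * c₀⁻¹ := by group
        _ = c₀⁻¹ * (c₀ * x) * c₀⁻¹ := by rw [hc₀]
        _ = x * c₀⁻¹ := by group
    obtain ⟨i, hi⟩ := horb (c₀⁻¹ • p5) (hfixx c₀⁻¹ hc₀inv p5 (Or.inl rfl))
    refine ⟨c₀ * k₀ ^ i, ?_, ?_⟩
    · rw [hmemB]
      refine ⟨?_, ?_, ?_⟩
      · have hpow : k₀ ^ i * x = x * k₀ ^ i := (Commute.pow_left (show Commute k₀ x from hk₀x) i).eq
        calc c₀ * k₀ ^ i * x = c₀ * (k₀ ^ i * x) := by group
          _ = c₀ * (x * k₀ ^ i) := by rw [hpow]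
          _ = (c₀ * x) * k₀ ^ i := by group
          _ = (x * c₀) * k₀ ^ i := by rw [hc₀]
          _ = x * (c₀ * k₀ ^ i) := by group
      · rw [mul_smul, pow_smul_of_smul k₀1, c₀1]
      · rw [mul_smul, hi, smul_inv_smul]
    · rw [mul_smul, pow_smul_of_smul k₀3, c₀3]
  have hBtrans : ∀ y ∈ Y, ∀ y' ∈ Y, ∃ g ∈ B, g • y = y' := by
    intro y hy y' hy'
    obtain ⟨g, hg, hgy⟩ := hB3 y hy
    obtain ⟨g', hg', hgy'⟩ := hB3 y' hy'
    refine ⟨g' * g⁻¹, B.mul_mem hg' (B.inv_mem hg), ?_⟩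
    rw [mul_smul, ← hgy, inv_smul_smul, hgy']
  have hBpq : ∀ g ∈ B, g • p6 = p6 ∨ g • p6 = p7 := by
    intro g hg
    obtain ⟨gx, g1, g5⟩ := (hmemB g).mp hg
    rcases hfixx g gx p6 (Or.inr (Or.inl rfl)) with e | e | e
    · exfalso
      exact h56 (smul_left_cancel g (g5.trans e.symm))
    · exact Or.inl e
    · exact Or.inr e
  have hBqp : ∀ g ∈ B, g • p6 = p7 → g • p7 = p6 := by
    intro g hg h6
    obtain ⟨gx, g1, g5⟩ := (hmemB g).mp hg
    rcases hfixx g gx p7 (Or.inr (Or.inr rfl)) with e | e | e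
    · exfalso
      exact h57 (smul_left_cancel g (g5.trans e.symm))
    · exact e
    · exfalso
      exact h67 (smul_left_cancel g (h6.trans e.symm))
  have hBL : ∀ g ∈ B, g • p6 = p6 → g ∈ L := by
    intro g hg h6
    obtain ⟨gx, g1, g5⟩ := (hmemB g).mp hg
    have g2 : g • p2 = p2 := by
      rw [← x1, ← mul_smul, gx, mul_smul, g1]
    have g7 : g • p7 = p7 := by
      rcases hfixx g gx p7 (Or.inr (Or.inr rfl)) with e | e | e
      · exfalso
        exact h57 (smul_left_cancel g (g5.trans e.symm))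
      · exfalso
        exact h67 (smul_left_cancel g (h6.trans e.symm))
      · exact e
    rw [hmemL]
    exact ⟨mem_L4.mpr ⟨g1, g2, g5, h6⟩, g7⟩
  have h3 := three_points B L Y p6 p7 hBtrans hBpq hBqp hBL
  -- two orbits of `L` on `Y`
  have hLle : L ≤ L4 (K := K) p1 p2 p5 p6 := by rw [hL]; exact inf_le_left
  have hLodd : Odd (Nat.card L) := by
    have := Subgroup.card_dvd_of_le hLle
    rw [card_L4 H.card hnd4'] at this
    exact Odd.of_dvd_nat H.odd this
  have hYinv : ∀ k ∈ L, ∀ y ∈ Y, k • y ∈ Y := by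
    intro k hk y hy
    obtain ⟨hk4, k7⟩ := (hmemL k).mp hk
    obtain ⟨k1, k2, k5, k6⟩ := mem_L4.mp hk4
    rw [hmemY] at hy ⊢
    obtain ⟨y1, y2, y5, y6, y7⟩ := hy
    refine ⟨?_, ?_, ?_, ?_, ?_⟩
    · intro e; exact y1 (smul_left_cancel k (e.trans k1.symm))
    · intro e; exact y2 (smul_left_cancel k (e.trans k2.symm))
    · intro e; exact y5 (smul_left_cancel k (e.trans k5.symm))
    · intro e; exact y6 (smul_left_cancel k (e.trans k6.symm))
    · intro e; exact y7 (smul_left_cancel k (e.trans k7.symm))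
  have hYcard : Y.card + 5 = Fintype.card β := by
    rw [hY, Finset.card_sdiff_of_subset (Finset.subset_univ _), Finset.card_univ,
      List.toFinset_card_of_nodup hndC]
    simp only [List.length_cons, List.length_nil]
    omega
  have hYev : Even Y.card := by
    obtain ⟨i, hi⟩ := hod
    exact ⟨i - 2, by omega⟩
  obtain ⟨Q, Q', hQQ, hdisj, hQodd, hQ'odd, hQinv, hQ'inv, hQtr, hQ'tr⟩ :=
    two_orbits L hLodd Y hYinv hYev ⟨p3, hp3Y⟩ h3
  -- the orbit of `p7` under the stabiliser of `p1, p2, p5, p6`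
  obtain ⟨k₇, hk₇, hk₇7⟩ := moves_of_not_fixT H hn8 hod hF hx2 hndC x1 x5 x6 x7
  have hmemO : ∀ z : β, z ∈ orbit ↥(L4 (K := K) p1 p2 p5 p6) p7 ↔
      ∃ k ∈ L4 (K := K) p1 p2 p5 p6, k • p7 = z := by
    intro z
    rw [mem_orbit_iff]
    constructor
    · rintro ⟨⟨k, hk⟩, hkz⟩
      exact ⟨k, hk, hkz⟩
    · rintro ⟨k, hk, hkz⟩
      exact ⟨⟨k, hk⟩, hkz⟩
  have hOodd : Odd (orbit ↥(L4 (K := K) p1 p2 p5 p6) p7).ncard := by
    have := Cfsg.Agent.Lib.helper6.ncard_orbit_mul_card_stabilizer (Q := ↥(L4 (K := K) p1 p2 p5 p6)) p7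
    rw [card_L4 H.card hnd4'] at this
    exact Odd.of_dvd_nat H.odd ⟨_, this.symm⟩
  have hOY : ∀ z ∈ orbit ↥(L4 (K := K) p1 p2 p5 p6) p7, z = p7 ∨ z ∈ Y := by
    intro z hz
    rw [hmemO] at hz
    obtain ⟨k, hk, hkz⟩ := hz
    obtain ⟨k1, k2, k5, k6⟩ := mem_L4.mp hk
    by_cases hz7 : z = p7
    · exact Or.inl hz7
    · right
      rw [hmemY]
      refine ⟨?_, ?_, ?_, ?_, hz7⟩
      · rintro rfl; exact h17 (smul_left_cancel k (k1.trans hkz.symm))
      · rintro rfl; exact h27 (smul_left_cancel k (k2.trans hkz.symm))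
      · rintro rfl; exact h57 (smul_left_cancel k (k5.trans hkz.symm))
      · rintro rfl; exact h67 (smul_left_cancel k (k6.trans hkz.symm))
  have hOL : ∀ l ∈ L, ∀ z ∈ orbit ↥(L4 (K := K) p1 p2 p5 p6) p7,
      l • z ∈ orbit ↥(L4 (K := K) p1 p2 p5 p6) p7 := by
    intro l hl z hz
    rw [hmemO] at hz ⊢
    obtain ⟨k, hk, hkz⟩ := hz
    exact ⟨l * k, Subgroup.mul_mem _ (hLle hl) hk, by rw [mul_smul, hkz]⟩
  have hp7O : p7 ∈ orbit ↥(L4 (K := K) p1 p2 p5 p6) p7 := mem_orbit_self _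
  have hQall : (∃ z ∈ Q, z ∈ orbit ↥(L4 (K := K) p1 p2 p5 p6) p7) →
      ∀ z ∈ Q, z ∈ orbit ↥(L4 (K := K) p1 p2 p5 p6) p7 := by
    rintro ⟨z₀, hz₀Q, hz₀O⟩ z hz
    obtain ⟨l, hl, hlz⟩ := hQtr z₀ hz₀Q z hz
    rw [← hlz]
    exact hOL l hl z₀ hz₀O
  have hQ'all : (∃ z ∈ Q', z ∈ orbit ↥(L4 (K := K) p1 p2 p5 p6) p7) →
      ∀ z ∈ Q', z ∈ orbit ↥(L4 (K := K) p1 p2 p5 p6) p7 := by
    rintro ⟨z₀, hz₀Q, hz₀O⟩ z hz
    obtain ⟨l, hl, hlz⟩ := hQ'tr z₀ hz₀Q z hz
    rw [← hlz]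
    exact hOL l hl z₀ hz₀O
  have hp7Y : p7 ∉ Y := by
    rw [hmemY]; tauto
  have hp7Q : p7 ∉ Q := fun hq => hp7Y (hQQ ▸ Finset.mem_union_left _ hq)
  have hp7Q' : p7 ∉ Q' := fun hq => hp7Y (hQQ ▸ Finset.mem_union_right _ hq)
  have hall : ∀ z ∈ Y, z ∈ orbit ↥(L4 (K := K) p1 p2 p5 p6) p7 := by
    by_cases hmQ : ∃ z ∈ Q, z ∈ orbit ↥(L4 (K := K) p1 p2 p5 p6) p7
    · by_cases hmQ' : ∃ z ∈ Q', z ∈ orbit ↥(L4 (K := K) p1 p2 p5 p6) p7
      · intro z hz
        rw [← hQQ, Finset.mem_union] at hz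
        rcases hz with hz | hz
        · exact hQall hmQ z hz
        · exact hQ'all hmQ' z hz
      · exfalso
        push Not at hmQ'
        have heq : orbit ↥(L4 (K := K) p1 p2 p5 p6) p7 = insert p7 (Q : Set β) := by
          ext z
          rw [Set.mem_insert_iff, Finset.mem_coe]
          constructor
          · intro hz
            rcases hOY z hz with e | hzY
            · exact Or.inl e
            · right
              rw [← hQQ, Finset.mem_union] at hzY
              rcases hzY with hq | hq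
              · exact hq
              · exact absurd hz (hmQ' z hq)
          · rintro (rfl | hq)
            · exact hp7O
            · exact hQall hmQ z hq
        rw [heq, Set.ncard_insert_of_notMem (by simpa using hp7Q) (Finset.finite_toSet Q),
          Set.ncard_coe_finset] at hOodd
        obtain ⟨i, hi⟩ := hQodd
        obtain ⟨i', hi'⟩ := hOodd
        omega
    · push Not at hmQ
      by_cases hmQ' : ∃ z ∈ Q', z ∈ orbit ↥(L4 (K := K) p1 p2 p5 p6) p7
      · exfalso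
        have heq : orbit ↥(L4 (K := K) p1 p2 p5 p6) p7 = insert p7 (Q' : Set β) := by
          ext z
          rw [Set.mem_insert_iff, Finset.mem_coe]
          constructor
          · intro hz
            rcases hOY z hz with e | hzY
            · exact Or.inl e
            · right
              rw [← hQQ, Finset.mem_union] at hzY
              rcases hzY with hq | hq
              · exact absurd hz (hmQ z hq)
              · exact hq
          · rintro (rfl | hq)
            · exact hp7O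
            · exact hQ'all hmQ' z hq
        rw [heq, Set.ncard_insert_of_notMem (by simpa using hp7Q') (Finset.finite_toSet Q'),
          Set.ncard_coe_finset] at hOodd
        obtain ⟨i, hi⟩ := hQ'odd
        obtain ⟨i', hi'⟩ := hOodd
        omega
      · exfalso
        push Not at hmQ'
        have hmem : k₇ • p7 ∈ orbit ↥(L4 (K := K) p1 p2 p5 p6) p7 := (hmemO _).mpr ⟨k₇, hk₇, rfl⟩
        rcases hOY _ hmem with e | hzY
        · exact hk₇7 e
        · rw [← hQQ, Finset.mem_union] at hzY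
          rcases hzY with hq | hq
          · exact hmQ _ hq hmem
          · exact hmQ' _ hq hmem
  refine ⟨p1, p2, p5, p6, p7, hnd4', ?_⟩
  intro z z1 z2 z5 z6
  by_cases hz7 : z = p7
  · exact ⟨1, Subgroup.one_mem _, by rw [one_smul, hz7]⟩
  · exact (hmemO z).mp (hall z ((hmemY z).mpr ⟨z1, z2, z5, z6, hz7⟩))

/-- Piece O3 of Hall4. -/
theorem trans_of_not_fixT (H : Hyp K β h) (hn8 : 8 ≤ Fintype.card β) (hod : Odd (Fintype.card β))
    (hF : ¬ FixT K β) {a b c d : β} (hnd : [a, b, c, d].Nodup) {y y' : β}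
    (hy : y ∉ ({a, b, c, d} : Finset β)) (hy' : y' ∉ ({a, b, c, d} : Finset β)) :
    ∃ k ∈ L4 (K := K) a b c d, k • y = y' := by
  obtain ⟨q1, q2, q3, q4, q7, hndq, hbase⟩ := exists_base H hn8 hod hF
  have hT := H.trans
  obtain ⟨g, g1, g2, g3, g4⟩ := exists_map4 (K := K) q1 q2 q3 q4 a b c d hndq hnd
  have hpre : ∀ z : β, z ∉ ({a, b, c, d} : Finset β) →
      ∃ k ∈ L4 (K := K) q1 q2 q3 q4, k • q7 = g⁻¹ • z := by
    intro z hz
    simp only [Finset.mem_insert, Finset.mem_singleton, not_or] at hz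
    obtain ⟨za, zb, zc, zd⟩ := hz
    apply hbase
    · intro e; apply za; rw [← g1, ← e, smul_inv_smul]
    · intro e; apply zb; rw [← g2, ← e, smul_inv_smul]
    · intro e; apply zc; rw [← g3, ← e, smul_inv_smul]
    · intro e; apply zd; rw [← g4, ← e, smul_inv_smul]
  obtain ⟨k₁, hk₁, hk₁y⟩ := hpre y hy
  obtain ⟨k₂, hk₂, hk₂y⟩ := hpre y' hy'
  have hk : k₂ * k₁⁻¹ ∈ L4 (K := K) q1 q2 q3 q4 := Subgroup.mul_mem _ hk₂ (Subgroup.inv_mem _ hk₁)
  obtain ⟨m1, m2, m3, m4⟩ := mem_L4.mp hk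
  refine ⟨g * (k₂ * k₁⁻¹) * g⁻¹, mem_L4.mpr ⟨?_, ?_, ?_, ?_⟩, ?_⟩
  · rw [mul_smul, mul_smul, ← g1, inv_smul_smul, m1]
  · rw [mul_smul, mul_smul, ← g2, inv_smul_smul, m2]
  · rw [mul_smul, mul_smul, ← g3, inv_smul_smul, m3]
  · rw [mul_smul, mul_smul, ← g4, inv_smul_smul, m4]
  · rw [mul_smul, mul_smul, ← hk₁y, mul_smul, inv_smul_smul, hk₂y, smul_inv_smul]

end Cfsg.Agent.Lib.Helper13.Hall4
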