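import Mathlib
import Cfsg.Agent.Lib.Helper1.Hig.Basic

set_option autoImplicit false

/-! Project Hig (S3050), piece Decomp: a `Good` module is the direct sum of the images of `iota`
over a basis of `fixU` for the `star` vector space structure. -/

namespace Cfsg.Agent.Lib.Helper13.Hig

open Matrix Cfsg.Agent.Lib.helper15.NatMod Cfsg.Agent.Lib.helper15.QS Cfsg.Agent.Lib.Helper1.Hig

universe u v w

section

variable {F : Type u} [Field F] {A : Type v} [AddCommGroup A]
  [DistribMulAction (SpecialLinearGroup (Fin 2) F) A]

/-- the `F`-vector space structure on `fixU F A` given by `star` -/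
@[reducible] def h13hig_starModule (h : QHyp F A) : Module F (fixU F A) where
  smul c x := ⟨helper15.QS.star c (x : A), h.star_mem c x⟩
  one_smul x := Subtype.ext (h.star_one x.2)
  mul_smul c d x := Subtype.ext (h.star_mul c d x.2)
  smul_zero c := Subtype.ext (star_zero_right c)
  smul_add c x y := Subtype.ext (star_add_right c (x : A) (y : A))
  add_smul c d x := Subtype.ext (h.star_add_left c d (x : A))
  zero_smul x := Subtype.ext (star_zero_left (x : A))

theorem h13hig_starModule_coe (h : QHyp F A) (c : F) (x : fixU F A) :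
    (((h13hig_starModule h).smul c x : fixU F A) : A) = helper15.QS.star c (x : A) := rfl

/-- `MM 1` as an additive hom -/
def h13hig_MMhom (F : Type u) [Field F] (A : Type v) [AddCommGroup A]
    [DistribMulAction (SpecialLinearGroup (Fin 2) F) A] : A →+ A where
  toFun := MM (1 : F)
  map_zero' := MM_zero (1 : F)
  map_add' := MM_add (1 : F)

theorem h13hig_MMhom_apply (a : A) : h13hig_MMhom F A a = MM (1 : F) a := rfl

end

theorem good_decomp {F : Type u} [Field F] [Fintype F] [CharP F 2]
    {A : Type v} [AddCommGroup A] [Finite A] [DistribMulAction (SpecialLinearGroup (Fin 2) F) A]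
    (h : Good F A) :
    ∃ (k : ℕ) (x : Fin k → A), (∀ i, x i ∈ fixU F A) ∧
      Function.Bijective (fun v : Fin k → (Fin 2 → F) => ∑ i, iota (x i) (v i)) := by
  classical
  have hq : QHyp F A := h.qhyp
  letI : Module F (fixU F A) := h13hig_starModule hq
  haveI : Finite (fixU F A) := inferInstance
  haveI : Module.Finite F (fixU F A) := Module.Finite.of_finite
  let b := Module.finBasis F (fixU F A)
  have hsmul : ∀ (c : F) (x : fixU F A), ((c • x : fixU F A) : A) = helper15.QS.star c (x : A) :=
    fun c x => rfl
  have hsum : ∀ c : Fin (Module.finrank F (fixU F A)) → F,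
      ((∑ i, c i • b i : fixU F A) : A) = ∑ i, helper15.QS.star (c i) (b i : A) := by
    intro c
    rw [AddSubgroup.val_finsetSum]
    rfl
  have hΦ : ∀ v : Fin (Module.finrank F (fixU F A)) → (Fin 2 → F),
      ∑ i, iota (b i : A) (v i) = ((∑ i, (v i 0) • b i : fixU F A) : A) +
        MM (1 : F) ((∑ i, (v i 1) • b i : fixU F A) : A) := by
    intro v
    unfold iota
    rw [Finset.sum_add_distrib, hsum, hsum, ← h13hig_MMhom_apply, map_sum]
    rfl
  have hL : ∀ c c' : Fin (Module.finrank F (fixU F A)) → F,
      (∑ i, c i • b i : fixU F A) = ∑ i, c' i • b i → c = c' := by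
    intro c c' hcc
    have h1 : b.equivFun.symm c = b.equivFun.symm c' := by
      rw [Module.Basis.equivFun_symm_apply, Module.Basis.equivFun_symm_apply]
      exact hcc
    exact b.equivFun.symm.injective h1
  refine ⟨Module.finrank F (fixU F A), fun i => (b i : A), fun i => (b i).2, ?_, ?_⟩
  · -- injective
    intro v v' hvv
    simp only at hvv
    rw [hΦ v, hΦ v'] at hvv
    set u0 : fixU F A := ∑ i, (v i 0) • b i with hu0
    set u1 : fixU F A := ∑ i, (v i 1) • b i with hu1
    set u0' : fixU F A := ∑ i, (v' i 0) • b i with hu0'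
    set u1' : fixU F A := ∑ i, (v' i 1) • b i with hu1'
    have e1 : ((u0 - u0' : fixU F A) : A) = MM (1 : F) ((u1' - u1 : fixU F A) : A) := by
      rw [AddSubgroup.coe_sub, AddSubgroup.coe_sub, sub_eq_add_neg ((u1' : fixU F A) : A), MM_add,
        MM_neg]
      have : (u0 : A) = (u0' : A) + MM (1 : F) (u1' : A) - MM (1 : F) (u1 : A) := by
        rw [← hvv]; abel
      rw [this]; abel
    have z0 : ((u0 - u0' : fixU F A) : A) = 0 := by
      apply hq.h0 _ (u0 - u0').2
      rw [e1]
      exact hq.hT _ _
    have z1 : ((u1' - u1 : fixU F A) : A) = 0 := by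
      have hm : MM (1 : F) ((u1' - u1 : fixU F A) : A) = 0 := by rw [← e1, z0]
      have := hq.star_one (u1' - u1).2
      unfold helper15.QS.star at this
      rw [hm, NN_zero] at this
      exact this.symm
    have g0 : u0 = u0' := by
      have : u0 - u0' = 0 := Subtype.ext z0
      exact sub_eq_zero.mp this
    have g1 : u1 = u1' := by
      have : u1' - u1 = 0 := Subtype.ext z1
      exact (sub_eq_zero.mp this).symm
    have c0 := hL (fun i => v i 0) (fun i => v' i 0) g0
    have c1 := hL (fun i => v i 1) (fun i => v' i 1) g1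
    funext i j
    fin_cases j
    · exact congrFun c0 i
    · exact congrFun c1 i
  · -- surjective
    intro a
    let u0 : fixU F A := ⟨NN (1 : F) (MM (1 : F) a), h.quad _ _⟩
    let u1 : fixU F A := ⟨NN (1 : F) a, h.quad _ _⟩
    refine ⟨fun i => ![b.equivFun u0 i, b.equivFun u1 i], ?_⟩
    simp only
    rw [hΦ]
    simp only [Matrix.cons_val_zero, Matrix.cons_val_one]
    rw [b.sum_equivFun u0, b.sum_equivFun u1]
    exact h.decomp a

end Cfsg.Agent.Lib.Helper13.Hig
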