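import Mathlib
import Cfsg.Prelude.Def_Transfer
import Cfsg.Prelude.Def_BaumannBlocks
import Cfsg.Agent.Lib.Helper1.Hig.Main
import Cfsg.Agent.Lib.Helper13.HigDecomp
import Cfsg.Agent.Lib.Helper21.HigAct
import Cfsg.Agent.Lib.Helper19.HigO3

set_option autoImplicit false
set_option linter.style.haveILetI false

/-! Project Hig (S3050), piece Final: the assembly of S3050 from the commutativity of `Q`
(`Q_comm`, helper17), the module theorem (helper1), the decomposition (`good_decomp`), the action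
(`zAct_aux`, helper21) and the conjugacy of elements of order three (`order_three_conj`,
helper19). -/

namespace Cfsg.Agent.Lib.Helper13.Hig

open Matrix Cfsg.Agent.Lib.helper15.NatMod Cfsg.Agent.Lib.helper15.QS Cfsg.Agent.Lib.Helper1.Hig

universe u v

theorem h13hig_charP_two {K : Type v} [Field K] [Fintype K] (n : ℕ)
    (hK : Fintype.card K = 2 ^ n) : CharP K 2 := by
  obtain ⟨p, hp⟩ := CharP.exists K
  haveI := hp
  obtain ⟨m, hpp, hcard⟩ := FiniteField.card K p
  rw [hK] at hcard
  have h1 : p ∣ 2 ^ n := by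
    rw [hcard]
    exact dvd_pow_self p m.ne_zero
  have h2 : p ∣ 2 := hpp.dvd_of_dvd_pow h1
  have h3 : p = 2 := (Nat.prime_dvd_prime_iff_eq hpp Nat.prime_two).mp h2
  subst h3
  exact hp

theorem hig_final {G : Type u} [Group G] [Finite G]
    (Q : Subgroup G) [Q.Normal] (hQ : IsPGroup 2 ↥Q) (n : ℕ) (hn : 2 ≤ n)
    (K : Type v) [Field K] [Fintype K] (hK : Fintype.card K = 2 ^ n)
    (e : G ⧸ Q ≃* Matrix.SpecialLinearGroup (Fin 2) K)
    (x : G) (hx : orderOf x = 3) (hfpf : ∀ q ∈ Q, x * q * x⁻¹ = q → q = 1)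
    (hcomm : ∀ a ∈ Q, ∀ b ∈ Q, a * b = b * a) :
    Cfsg.IsElementaryAbelian 2 Q ∧
      ∃ (k : ℕ) (V : Fin k → Subgroup G), (∀ i, V i ≤ Q ∧ (V i).Normal ∧
        Cfsg.ActsAsSL2OnSection K ⊤ ⊤ (V i) ⊥) ∧ iSupIndep V ∧ ⨆ i, V i = Q := by
  classical
  haveI hchar : CharP K 2 := h13hig_charP_two n hK
  have hK4 : 4 ≤ Fintype.card K := by
    rw [hK]
    calc 4 = 2 ^ 2 := by norm_num
      _ ≤ 2 ^ n := Nat.pow_le_pow_right (by norm_num) hn
  letI cg : CommGroup Q :=
    { (inferInstance : Group Q) with mul_comm := fun a b => Subtype.ext (hcomm a a.2 b b.2) }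
  obtain ⟨inst, hinst⟩ := Cfsg.Agent.Lib.Helper21.Hig.zAct_aux Q Q e hcomm hcomm
  letI := inst
  -- equivariance in `G`
  have hact : ∀ (g : G) (a : Additive Q),
      ((Additive.toMul (e (g : G ⧸ Q) • a) : Q) : G) = g * ((Additive.toMul a : Q) : G) * g⁻¹ := by
    intro g a
    have := hinst g (Additive.toMul a)
    have h1 : e (g : G ⧸ Q) • a = Additive.ofMul (⟨g * ((Additive.toMul a : Q) : G) * g⁻¹,
        (inferInstance : Q.Normal).conj_mem _ (Additive.toMul a).2 g⟩ : Q) := this
    rw [h1]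
    rfl
  -- fixed point freeness
  have hy3 : orderOf (e (x : G ⧸ Q)) = 3 := by
    have h1 : (e (x : G ⧸ Q)) ^ 3 = 1 := by
      rw [← map_pow, ← QuotientGroup.mk_pow, ← hx, pow_orderOf_eq_one, QuotientGroup.mk_one, map_one]
    have h2 : e (x : G ⧸ Q) ≠ 1 := by
      intro h
      have hxQ : x ∈ Q := by
        rw [← QuotientGroup.eq_one_iff]
        exact e.injective (by rw [h, map_one])
      have := hfpf x hxQ (by group)
      rw [this, orderOf_one] at hx
      omega
    have h3 : orderOf (e (x : G ⧸ Q)) ∣ 3 := orderOf_dvd_of_pow_eq_one h1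
    rcases (Nat.dvd_prime Nat.prime_three).mp h3 with h | h
    · exact absurd (orderOf_eq_one_iff.mp h) h2
    · exact h
  obtain ⟨c, hc⟩ := Cfsg.Agent.Lib.Helper19.Hig.order_three_conj (e (x : G ⧸ Q)) hy3
  have hFPF : FPF K (Additive Q) := by
    intro a ha
    have h1 : e (x : G ⧸ Q) • (c • a) = c • a := by
      rw [← hc, ← mul_smul, mul_assoc, mul_assoc, inv_mul_cancel, mul_one, mul_smul, ha]
    have h2 := hact x (c • a)
    rw [h1] at h2
    have h3 := hfpf _ (Additive.toMul (c • a) : Q).2 h2.symm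
    have h4 : c • a = 0 := by
      have : (Additive.toMul (c • a) : Q) = 1 := Subtype.ext h3
      exact this
    have h5 : c⁻¹ • (c • a) = a := by rw [← mul_smul, inv_mul_cancel, one_smul]
    rw [← h5, h4, smul_zero]
  have h2pow : ∀ a : Additive Q, ∃ k : ℕ, 2 ^ k • a = 0 := by
    intro a
    obtain ⟨k, hk⟩ := hQ (Additive.toMul a)
    exact ⟨k, hk⟩
  have hGood : Good K (Additive Q) := module_main hK4 (Additive Q) h2pow hFPF
  have hq : QHyp K (Additive Q) := hGood.qhyp
  obtain ⟨k, xs, hxs, hbij⟩ := good_decomp hGood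
  -- elementary abelian
  have hEA : Cfsg.IsElementaryAbelian 2 Q := by
    refine ⟨⟨⟨fun a b => Subtype.ext (hcomm a a.2 b b.2)⟩⟩, ?_⟩
    intro a ha
    have h1 := hGood.two (Additive.ofMul (⟨a, ha⟩ : Q))
    have h2 : (⟨a, ha⟩ : Q) * ⟨a, ha⟩ = 1 := h1
    have h3 := congrArg (Subtype.val) h2
    rw [sq]
    exact h3
  refine ⟨hEA, k, ?_⟩
  -- the sum map as an additive equivalence
  let Φ : (Fin k → (Fin 2 → K)) →+ Additive Q :=
    AddMonoidHom.mk' (fun v => ∑ i, iota (xs i) (v i)) (by
      intro v w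
      simp only [Pi.add_apply]
      rw [← Finset.sum_add_distrib]
      exact Finset.sum_congr rfl (fun i _ => hq.iota_add (xs i) (v i) (w i)))
  have hΦ : ∀ v, Φ v = ∑ i, iota (xs i) (v i) := fun v => rfl
  let Ψ : (Fin k → (Fin 2 → K)) ≃+ Additive Q := AddEquiv.ofBijective Φ hbij
  have hΨ : ∀ v, Ψ v = ∑ i, iota (xs i) (v i) := fun v => rfl
  have hiota0 : ∀ i, iota (xs i) (0 : Fin 2 → K) = 0 := by
    intro i
    have := hq.iota_add (xs i) (0 : Fin 2 → K) 0
    rw [add_zero] at this
    exact left_eq_add.mp this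
  have hsingle : ∀ (i : Fin k) (v : Fin 2 → K), Ψ (Pi.single i v) = iota (xs i) v := by
    intro i v
    rw [hΨ, Finset.sum_eq_single i]
    · rw [Pi.single_eq_same]
    · intro j _ hji
      rw [Pi.single_eq_of_ne hji, hiota0]
    · intro h
      exact absurd (Finset.mem_univ i) h
  -- the embeddings of the natural module
  let φ : Fin k → Multiplicative (Fin 2 → K) →* G := fun i =>
    MonoidHom.mk' (fun v => ((Additive.toMul (iota (xs i) (Multiplicative.toAdd v)) : Q) : G)) (by
      intro v w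
      rw [toAdd_mul, hq.iota_add, toMul_add]
      rfl)
  have hφ : ∀ i v, φ i v = ((Additive.toMul (iota (xs i) (Multiplicative.toAdd v)) : Q) : G) :=
    fun i v => rfl
  have hφinj : ∀ i, Function.Injective (φ i) := by
    intro i v w hvw
    rw [hφ, hφ] at hvw
    have h1 : iota (xs i) (Multiplicative.toAdd v) = iota (xs i) (Multiplicative.toAdd w) :=
      Additive.toMul.injective (Subtype.ext hvw)
    rw [← hsingle, ← hsingle] at h1
    have h2 := Ψ.injective h1
    have h3 := congrFun h2 i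
    rw [Pi.single_eq_same, Pi.single_eq_same] at h3
    exact Multiplicative.toAdd.injective h3
  have hφconj : ∀ (i : Fin k) (g : G) (v : Multiplicative (Fin 2 → K)),
      g * φ i v * g⁻¹ = φ i (Multiplicative.ofAdd
        (((e (g : G ⧸ Q) : SpecialLinearGroup (Fin 2) K) : Matrix (Fin 2) (Fin 2) K).mulVec
          (Multiplicative.toAdd v))) := by
    intro i g v
    rw [hφ, hφ, ← hact, hq.iota_equiv (hxs i)]
    rfl
  refine ⟨fun i => (φ i).range, ?_, ?_, ?_⟩
  · intro i
    have hle : (φ i).range ≤ Q := by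
      rintro _ ⟨v, rfl⟩
      rw [hφ]
      exact (Additive.toMul (iota (xs i) (Multiplicative.toAdd v)) : Q).2
    have hnorm : ((φ i).range).Normal := by
      constructor
      rintro _ ⟨v, rfl⟩ g
      rw [hφconj]
      exact ⟨_, rfl⟩
    refine ⟨hle, hnorm, ?_, bot_le, ?_⟩
    · rw [Subgroup.normalizer_eq_top]
    · refine ⟨(e.toMonoidHom.comp (QuotientGroup.mk' Q)).comp (⊤ : Subgroup G).subtype,
        ((MonoidHom.ofInjective (hφinj i)).symm : (φ i).range ≃* Multiplicative (Fin 2 → K)).toMonoidHom,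
        ?_, ?_, ?_, ?_⟩
      · rw [MonoidHom.range_eq_top]
        intro M
        obtain ⟨g, hg⟩ := QuotientGroup.mk_surjective (e.symm M)
        refine ⟨⟨g, Subgroup.mem_top g⟩, ?_⟩
        show e (g : G ⧸ Q) = M
        rw [hg, MulEquiv.apply_symm_apply]
      · exact (MonoidHom.ofInjective (hφinj i)).symm.surjective
      · intro u
        show (MonoidHom.ofInjective (hφinj i)).symm u = 1 ↔ (u : G) ∈ (⊥ : Subgroup G)
        rw [MulEquiv.map_eq_one_iff, Subgroup.mem_bot, OneMemClass.coe_eq_one]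
      · intro e' u
        set v := (MonoidHom.ofInjective (hφinj i)).symm u with hv
        have hu : (u : G) = φ i v := by
          rw [← MonoidHom.ofInjective_apply (hφinj i), hv, MulEquiv.apply_symm_apply]
        refine ⟨MonoidHom.ofInjective (hφinj i) (Multiplicative.ofAdd
          (((e ((e' : G) : G ⧸ Q) : SpecialLinearGroup (Fin 2) K) :
            Matrix (Fin 2) (Fin 2) K).mulVec (Multiplicative.toAdd v))), ?_, ?_⟩
        · rw [MonoidHom.ofInjective_apply, hu, hφconj]
        · show Multiplicative.toAdd ((MonoidHom.ofInjective (hφinj i)).symm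
            (MonoidHom.ofInjective (hφinj i) _)) = _
          rw [MulEquiv.symm_apply_apply]
          rfl
  · -- independence
    intro i
    -- the coordinate homomorphism
    let ci : Q →* Multiplicative (Fin 2 → K) :=
      MonoidHom.mk' (fun z => Multiplicative.ofAdd ((Ψ.symm (Additive.ofMul z)) i)) (by
        intro z w
        rw [ofMul_mul, map_add, Pi.add_apply, ofAdd_add])
    have hci : ∀ z, ci z = Multiplicative.ofAdd ((Ψ.symm (Additive.ofMul z)) i) := fun z => rfl
    have hciφ : ∀ (j : Fin k) (v : Multiplicative (Fin 2 → K)),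
        ci (Additive.toMul (iota (xs j) (Multiplicative.toAdd v))) =
          Multiplicative.ofAdd ((Pi.single j (Multiplicative.toAdd v) : Fin k → Fin 2 → K) i) := by
      intro j v
      rw [hci, ← hsingle]
      show Multiplicative.ofAdd ((Ψ.symm (Ψ (Pi.single j (Multiplicative.toAdd v)))) i) = _
      rw [AddEquiv.symm_apply_apply]
    have hle : (⨆ (j : Fin k) (_ : j ≠ i), (φ j).range) ≤ (ci.ker).map Q.subtype := by
      apply iSup₂_le
      rintro j hji _ ⟨v, rfl⟩
      refine ⟨Additive.toMul (iota (xs j) (Multiplicative.toAdd v)), ?_, rfl⟩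
      rw [SetLike.mem_coe, MonoidHom.mem_ker, hciφ, Pi.single_eq_of_ne (Ne.symm hji)]
      rfl
    refine Disjoint.mono_right hle ?_
    rw [Subgroup.disjoint_def]
    rintro _ ⟨v, rfl⟩ ⟨z, hz, hzv⟩
    have hzv' : z = Additive.toMul (iota (xs i) (Multiplicative.toAdd v)) := Subtype.ext hzv
    rw [SetLike.mem_coe, MonoidHom.mem_ker, hzv', hciφ, Pi.single_eq_same] at hz
    have hv1 : v = 1 := hz
    rw [hv1, map_one]
  · -- the join
    apply le_antisymm
    · apply iSup_le
      rintro i _ ⟨v, rfl⟩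
      rw [hφ]
      exact (Additive.toMul (iota (xs i) (Multiplicative.toAdd v)) : Q).2
    · intro q hqQ
      have h1 : Ψ (Ψ.symm (Additive.ofMul (⟨q, hqQ⟩ : Q))) = Additive.ofMul (⟨q, hqQ⟩ : Q) :=
        AddEquiv.apply_symm_apply _ _
      rw [hΨ] at h1
      have h2 : (⟨q, hqQ⟩ : Q) =
          ∏ i, Additive.toMul (iota (xs i) ((Ψ.symm (Additive.ofMul (⟨q, hqQ⟩ : Q))) i)) := by
        have := congrArg Additive.toMul h1
        rw [toMul_sum] at this
        exact this.symm
      have h3 : (⟨q, hqQ⟩ : Q) ∈ (⨆ i, (φ i).range).subgroupOf Q := by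
        rw [h2]
        apply Subgroup.prod_mem
        intro i _
        rw [Subgroup.mem_subgroupOf]
        exact Subgroup.mem_iSup_of_mem i
          ⟨Multiplicative.ofAdd ((Ψ.symm (Additive.ofMul (⟨q, hqQ⟩ : Q))) i), rfl⟩
      exact Subgroup.mem_subgroupOf.mp h3

end Cfsg.Agent.Lib.Helper13.Hig
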