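import Mathlib.GroupTheory.PGroup
import Mathlib.GroupTheory.GroupAction.ConjAct
import Mathlib.GroupTheory.Index
import Mathlib.Algebra.BigOperators.Group.Finset.Basic

/-!
An automorphism `α` of a finite group `G` which is trivial modulo an abelian normal `p`-subgroup
`Z`, fixes `Z` elementwise and fixes a subgroup `T` of index prime to `p` elementwise is
conjugation by an element of `Z` (injectivity of restriction `H¹(G, Z) → H¹(T, Z)`, proved by the
averaging argument).
-/

set_option autoImplicit false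

namespace Cfsg.Agent.Lib.Helper13

theorem inner_of_cocycle {G : Type*} [Group G] [Finite G] {p : ℕ} [Fact p.Prime]
    (Z : Subgroup G) [hZn : Z.Normal] (hZc : ∀ a ∈ Z, ∀ b ∈ Z, a * b = b * a)
    (hZp : IsPGroup p ↥Z) (T : Subgroup G) (hTi : ¬ p ∣ T.index) (α : MulAut G)
    (hf : ∀ g : G, α g * g⁻¹ ∈ Z) (hαT : ∀ t ∈ T, α t = t) :
    ∃ v ∈ Z, ∀ x : G, α x = v * x * v⁻¹ := by
  classical
  have hp : p.Prime := Fact.out
  letI : CommGroup ↥Z := { (inferInstance : Group ↥Z) with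
    mul_comm := fun a b => Subtype.ext (hZc a a.2 b b.2) }
  haveI : Fintype (G ⧸ T) := Fintype.ofFinite _
  let f : G → ↥Z := fun g => ⟨α g * g⁻¹, hf g⟩
  have hcoc : ∀ g h : G, f (g * h) = f g * MulAut.conjNormal g (f h) := by
    intro g h
    apply Subtype.ext
    show α (g * h) * (g * h)⁻¹ = (α g * g⁻¹) * ((MulAut.conjNormal g (f h) : ↥Z) : G)
    rw [MulAut.conjNormal_apply]
    show _ = (α g * g⁻¹) * (g * (α h * h⁻¹) * g⁻¹)
    rw [map_mul]; group
  have hfT : ∀ t ∈ T, f t = 1 := by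
    intro t ht
    apply Subtype.ext
    show α t * t⁻¹ = 1
    rw [hαT t ht]; group
  have hfgt : ∀ g : G, ∀ t ∈ T, f (g * t) = f g := by
    intro g t ht
    rw [hcoc, hfT t ht, map_one, mul_one]
  let F : G ⧸ T → ↥Z := fun q => Quotient.liftOn' q f (by
    intro a b hab
    rw [QuotientGroup.leftRel_apply] at hab
    have : b = a * (a⁻¹ * b) := by group
    rw [this, hfgt a _ hab])
  obtain ⟨u, hu⟩ : ∃ u : ↥Z, u = ∏ q : G ⧸ T, F q := ⟨_, rfl⟩
  obtain ⟨m, hm⟩ : ∃ m : ℕ, m = T.index := ⟨_, rfl⟩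
  have hcu : ∀ x : G, MulAut.conjNormal x u = ((f x)⁻¹) ^ m * u := by
    intro x
    rw [hu, map_prod]
    have h1 : ∀ q : G ⧸ T, MulAut.conjNormal x (F q) = (f x)⁻¹ * F (x • q) := by
      intro q
      induction q using QuotientGroup.induction_on with
      | H g =>
        show MulAut.conjNormal x (f g) = (f x)⁻¹ * f (x * g)
        rw [hcoc, inv_mul_cancel_left]
    rw [Finset.prod_congr rfl (fun q _ => h1 q), Finset.prod_mul_distrib, Finset.prod_const,
      Finset.card_univ]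
    have h2 : Fintype.card (G ⧸ T) = m := by
      rw [hm, Subgroup.index, Nat.card_eq_fintype_card]
    have h3 : ∏ q : G ⧸ T, F (x • q) = ∏ q : G ⧸ T, F q :=
      Equiv.prod_comp (MulAction.toPerm x) F
    rw [h2, h3]
  have hfm : ∀ x : G, (f x) ^ m = u * (MulAut.conjNormal x u)⁻¹ := by
    intro x
    rw [hcu x, inv_pow, mul_inv_rev, inv_inv, mul_inv_cancel_left]
  have hcop : p.Coprime m := by
    rw [hm]; exact (Nat.Prime.coprime_iff_not_dvd hp).mpr hTi
  obtain ⟨v, hv⟩ : ∃ v : ↥Z, v ^ m = u := ⟨(hZp.powEquiv hcop).symm u, (hZp.powEquiv hcop).apply_symm_apply u⟩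
  refine ⟨(v : G), v.2, fun x => ?_⟩
  have h1 : (f x) ^ m = (v * (MulAut.conjNormal x v)⁻¹) ^ m := by
    rw [hfm x, ← hv, map_pow, mul_pow, inv_pow]
  have h2 : f x = v * (MulAut.conjNormal x v)⁻¹ := (hZp.powEquiv hcop).injective h1
  have h3 := congrArg Subtype.val h2
  have h4 : α x * x⁻¹ = (v : G) * (x * (v : G) * x⁻¹)⁻¹ := by
    rw [← MulAut.conjNormal_apply x v]
    exact h3
  calc α x = (α x * x⁻¹) * x := by group
    _ = (v : G) * (x * (v : G) * x⁻¹)⁻¹ * x := by rw [h4]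
    _ = (v : G) * x * (v : G)⁻¹ := by group

end Cfsg.Agent.Lib.Helper13
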