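import Mathlib.GroupTheory.Sylow
import Mathlib.GroupTheory.Perm.Cycle.Type
import Mathlib.GroupTheory.GroupAction.ConjAct
import Mathlib.GroupTheory.GroupAction.Quotient
import Mathlib.GroupTheory.Index

set_option autoImplicit false

/-! Involutions fixing a unique point of `G/H` (helper13). -/

namespace Cfsg.Agent.Lib.Helper13

variable {G : Type*} [Group G]

theorem inverts_pow {a b : G} (h : a * b * a⁻¹ = b⁻¹) (m : ℕ) : a * b ^ m * a⁻¹ = (b ^ m)⁻¹ := by
  rw [← conj_pow, h, inv_pow]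

/-- If `a` inverts `b` then `(b^m)⁻¹ * a * b^m = a * b^(m+m)`. -/
theorem inverts_conj {a b : G} (h : a * b * a⁻¹ = b⁻¹) (m : ℕ) :
    (b ^ m)⁻¹ * a * ((b ^ m)⁻¹)⁻¹ = a * b ^ (m + m) := by
  have h1 := inverts_pow h m
  have h2 : (b ^ m)⁻¹ * a = a * b ^ m := by
    rw [← h1]; group
  rw [inv_inv, h2, mul_assoc, ← pow_add]

/-- Parity of a finite set under an involution: `|s| ≡ |fixed points|` mod 2. -/
theorem card_modEq_card_filter_of_involution {α : Type*} [DecidableEq α] (s : Finset α) (f : α → α)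
    (hfs : ∀ x ∈ s, f x ∈ s) (hff : ∀ x ∈ s, f (f x) = x) :
    s.card ≡ (s.filter (fun x => f x = x)).card [MOD 2] := by
  classical
  let F : Function.End {x // x ∈ s} := fun x => ⟨f x.1, hfs x.1 x.2⟩
  have hF : F ^ 2 ^ 1 = 1 := by
    funext x
    apply Subtype.ext
    show f (f x.1) = x.1
    exact hff x.1 x.2
  haveI : Fact (Nat.Prime 2) := ⟨Nat.prime_two⟩
  have h := Equiv.Perm.card_fixedPoints_modEq (p := 2) (n := 1) hF
  rw [Fintype.card_coe] at h
  refine h.trans ?_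
  have : Fintype.card (Function.fixedPoints F) = (s.filter (fun x => f x = x)).card := by
    rw [← Fintype.card_coe (s.filter (fun x => f x = x))]
    apply Fintype.card_congr
    refine ⟨fun x => ⟨x.1.1, Finset.mem_filter.mpr ⟨x.1.2, congrArg Subtype.val x.2⟩⟩,
      fun x => ⟨⟨x.1, (Finset.mem_filter.mp x.2).1⟩, Subtype.ext (Finset.mem_filter.mp x.2).2⟩,
      fun x => rfl, fun x => rfl⟩
  rw [this]

/-- If `a` inverts `c`, then `a^m` fixes or inverts `c` according to the parity of `m`. -/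
theorem conj_pow_of_inverts {a c : G} (h : a * c * a⁻¹ = c⁻¹) (m : ℕ) :
    a ^ m * c * (a ^ m)⁻¹ = if Even m then c else c⁻¹ := by
  induction m with
  | zero => simp
  | succ m ih =>
    have e : a ^ (m + 1) * c * (a ^ (m + 1))⁻¹ = a * (a ^ m * c * (a ^ m)⁻¹) * a⁻¹ := by
      rw [pow_succ']; group
    rw [e, ih]
    by_cases hm : Even m
    · have : ¬ Even (m + 1) := by
        rw [Nat.even_add_one]; exact not_not.mpr hm
      rw [if_pos hm, if_neg this, h]
    · have : Even (m + 1) := by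
        rw [Nat.even_add_one]; exact hm
      rw [if_neg hm, if_pos this]
      calc a * c⁻¹ * a⁻¹ = (a * c * a⁻¹)⁻¹ := by group
        _ = (c⁻¹)⁻¹ := by rw [h]
        _ = c := inv_inv c

section Iso

variable {z : G} {H : Subgroup G}

theorem iso_z_mem (h0 : ∀ g : G, g⁻¹ * z * g ∈ H ↔ g ∈ H) : z ∈ H := by
  have := (h0 1).mpr (one_mem H)
  simpa using this

theorem iso_conj_mem_iff (h0 : ∀ g : G, g⁻¹ * z * g ∈ H ↔ g ∈ H) (c : G) :
    c * z * c⁻¹ ∈ H ↔ c ∈ H := by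
  have := h0 c⁻¹
  rw [inv_inv, inv_mem_iff] at this
  exact this

theorem iso_centralizer_le (h0 : ∀ g : G, g⁻¹ * z * g ∈ H ↔ g ∈ H) {x : G} (hx : x * z = z * x) :
    x ∈ H := by
  rw [← iso_conj_mem_iff h0]
  have : x * z * x⁻¹ = z := by rw [hx]; group
  rw [this]
  exact iso_z_mem h0

theorem iso_sq_conj (hz2 : z * z = 1) {y : G} (hy : IsConj z y) : y * y = 1 := by
  obtain ⟨c, rfl⟩ := isConj_iff.mp hy
  calc c * z * c⁻¹ * (c * z * c⁻¹) = c * (z * z) * c⁻¹ := by group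
    _ = 1 := by rw [hz2]; group

/-- Two distinct commuting conjugates of `z` whose product lies in `H` lie in `H`. -/
theorem iso_lemmaL (h0 : ∀ g : G, g⁻¹ * z * g ∈ H ↔ g ∈ H)
    (h1 : ∀ t : G, IsConj z t → t ≠ z → t * z = z * t → ∀ g : G, g⁻¹ * (z * t) * g ∈ H ↔ g ∈ H)
    {x x' : G} (hx : IsConj z x) (hx' : IsConj z x') (hne : x ≠ x') (hcomm : x * x' = x' * x)
    (hmem : x * x' ∈ H) : x ∈ H := by
  obtain ⟨c, rfl⟩ := isConj_iff.mp hx
  have ht : IsConj z (c⁻¹ * x' * c) := by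
    refine hx'.trans (isConj_iff.mpr ⟨c⁻¹, ?_⟩)
    rw [inv_inv]
  have htz : c⁻¹ * x' * c ≠ z := by
    intro h
    apply hne
    rw [← h]; group
  have htc : c⁻¹ * x' * c * z = z * (c⁻¹ * x' * c) := by
    have e1 : c⁻¹ * x' * c * z = c⁻¹ * (x' * (c * z * c⁻¹)) * c := by group
    have e2 : z * (c⁻¹ * x' * c) = c⁻¹ * ((c * z * c⁻¹) * x') * c := by group
    rw [e1, e2, hcomm]
  have h2 := (h1 _ ht htz htc c⁻¹).mp (by
    have e : (c⁻¹)⁻¹ * (z * (c⁻¹ * x' * c)) * c⁻¹ = c * z * c⁻¹ * x' := by group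
    rw [e]; exact hmem)
  rw [iso_conj_mem_iff h0]
  exact inv_mem_iff.mp h2

/-- A conjugate `y` of `z` outside `H` has `z * y` of odd order. -/
theorem iso_odd [Finite G] (hz2 : z * z = 1) (h0 : ∀ g : G, g⁻¹ * z * g ∈ H ↔ g ∈ H)
    (h1 : ∀ t : G, IsConj z t → t ≠ z → t * z = z * t → ∀ g : G, g⁻¹ * (z * t) * g ∈ H ↔ g ∈ H)
    {y : G} (hy : IsConj z y) (hyH : y ∉ H) : Odd (orderOf (z * y)) := by
  by_contra hodd
  rw [Nat.not_odd_iff_even] at hodd
  obtain ⟨k, hk⟩ := hodd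
  have hy2 : y * y = 1 := iso_sq_conj hz2 hy
  have hzinv : z⁻¹ = z := inv_eq_of_mul_eq_one_right hz2
  have hyinv : y⁻¹ = y := inv_eq_of_mul_eq_one_right hy2
  have hzρ : z * (z * y) * z⁻¹ = (z * y)⁻¹ := by
    rw [mul_inv_rev, hzinv, hyinv, ← mul_assoc, hz2, one_mul]
  have hyρ : y * (z * y) * y⁻¹ = (z * y)⁻¹ := by
    rw [mul_inv_rev, hzinv, hyinv]
    calc y * (z * y) * y = y * z * (y * y) := by group
      _ = y * z := by rw [hy2, mul_one]
  have hpos : 0 < orderOf (z * y) := orderOf_pos _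
  have hk0 : k ≠ 0 := by omega
  have hklt : k < orderOf (z * y) := by omega
  have hw1 : (z * y) ^ k ≠ 1 := pow_ne_one_of_lt_orderOf hk0 hklt
  have hw2 : (z * y) ^ k * (z * y) ^ k = 1 := by
    rw [← pow_add, ← hk, pow_orderOf_eq_one]
  have hwinv : ((z * y) ^ k)⁻¹ = (z * y) ^ k := inv_eq_of_mul_eq_one_right hw2
  have hzw : z * (z * y) ^ k = (z * y) ^ k * z := by
    have := inverts_pow hzρ k
    rw [hwinv] at this
    calc z * (z * y) ^ k = (z * (z * y) ^ k * z⁻¹) * z := by group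
      _ = (z * y) ^ k * z := by rw [this]
  have hyw : y * (z * y) ^ k = (z * y) ^ k * y := by
    have := inverts_pow hyρ k
    rw [hwinv] at this
    calc y * (z * y) ^ k = (y * (z * y) ^ k * y⁻¹) * y := by group
      _ = (z * y) ^ k * y := by rw [this]
  -- `r = z * w` is a conjugate of `z`
  have hrI : IsConj z (z * (z * y) ^ k) := by
    obtain ⟨m, hm | hm⟩ := Nat.even_or_odd' k
    · rw [isConj_iff]
      refine ⟨((z * y) ^ m)⁻¹, ?_⟩
      rw [inverts_conj hzρ m, hm, two_mul]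
    · refine hy.trans ?_
      rw [isConj_iff]
      refine ⟨((z * y) ^ m)⁻¹, ?_⟩
      rw [inverts_conj hyρ m, hm]
      have : y = z * (z * y) := by rw [← mul_assoc, hz2, one_mul]
      calc y * (z * y) ^ (m + m) = z * (z * y) * (z * y) ^ (m + m) := by rw [← this]
        _ = z * ((z * y) ^ (m + m) * (z * y)) := by
            rw [mul_assoc, ← pow_succ', pow_succ]
        _ = z * (z * y) ^ (2 * m + 1) := by rw [← pow_succ, two_mul]
  have hrz : z * (z * y) ^ k ≠ z := by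
    intro h
    apply hw1
    have : z * (z * y) ^ k = z * 1 := by rw [mul_one]; exact h
    exact mul_left_cancel this
  have hrcomm : z * (z * y) ^ k * z = z * (z * (z * y) ^ k) := by
    rw [mul_assoc, ← hzw]
  obtain ⟨c, hc⟩ := isConj_iff.mp hy
  have hcH : c ∉ H := by
    intro h
    apply hyH
    rw [← hc]
    exact (iso_conj_mem_iff h0 c).mpr h
  apply hcH
  apply (h1 _ hrI hrz hrcomm c).mp
  have e : z * (z * (z * y) ^ k) = (z * y) ^ k := by rw [← mul_assoc, hz2, one_mul]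
  rw [e]
  apply iso_centralizer_le h0
  -- `c⁻¹ w c` commutes with `z`
  have e1 : c⁻¹ * (z * y) ^ k * c * z = c⁻¹ * ((z * y) ^ k * (c * z * c⁻¹)) * c := by group
  have e2 : z * (c⁻¹ * (z * y) ^ k * c) = c⁻¹ * ((c * z * c⁻¹) * (z * y) ^ k) * c := by group
  rw [e1, e2, hc, hyw]

/-- A conjugate `y` of `z` outside `H` is conjugate to `z` by a conjugate of `z`. -/
theorem iso_exists_conj [Finite G] (hz2 : z * z = 1) (h0 : ∀ g : G, g⁻¹ * z * g ∈ H ↔ g ∈ H)
    (h1 : ∀ t : G, IsConj z t → t ≠ z → t * z = z * t → ∀ g : G, g⁻¹ * (z * t) * g ∈ H ↔ g ∈ H)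
    {y : G} (hy : IsConj z y) (hyH : y ∉ H) : ∃ r : G, IsConj z r ∧ r * z * r⁻¹ = y := by
  obtain ⟨j, hj⟩ := iso_odd hz2 h0 h1 hy hyH
  have hy2 : y * y = 1 := iso_sq_conj hz2 hy
  have hzinv : z⁻¹ = z := inv_eq_of_mul_eq_one_right hz2
  have hyinv : y⁻¹ = y := inv_eq_of_mul_eq_one_right hy2
  have hzρ : z * (z * y) * z⁻¹ = (z * y)⁻¹ := by
    rw [mul_inv_rev, hzinv, hyinv, ← mul_assoc, hz2, one_mul]
  have hρ1 : (z * y) ^ (2 * j + 1) = 1 := by rw [← hj, pow_orderOf_eq_one]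
  -- `τ = ρ^((j+1)^2)` has `τ^4 = ρ`
  obtain ⟨τ, hτ⟩ : ∃ τ : G, τ = (z * y) ^ ((j + 1) * (j + 1)) := ⟨_, rfl⟩
  have hτ4 : τ ^ (2 + 2) = z * y := by
    rw [hτ, ← pow_mul]
    have : (j + 1) * (j + 1) * (2 + 2) = (2 * j + 1) * (2 * j + 3) + 1 := by ring
    rw [this, pow_succ, pow_mul, hρ1, one_pow, one_mul]
  have hzτ : z * τ * z⁻¹ = τ⁻¹ := by
    rw [hτ]; exact inverts_pow hzρ _
  refine ⟨τ⁻¹ * z * (τ⁻¹)⁻¹, isConj_iff.mpr ⟨τ⁻¹, rfl⟩, ?_⟩
  have h2 : τ⁻¹ * z = z * τ := by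
    calc τ⁻¹ * z = (z * τ * z⁻¹) * z := by rw [hzτ]
      _ = z * τ := by group
  have h3 : τ * z = z * τ⁻¹ := by
    calc τ * z = τ * (z * τ) * τ⁻¹ := by group
      _ = τ * (τ⁻¹ * z) * τ⁻¹ := by rw [h2]
      _ = z * τ⁻¹ := by group
  calc τ⁻¹ * z * (τ⁻¹)⁻¹ * z * (τ⁻¹ * z * (τ⁻¹)⁻¹)⁻¹
      = τ⁻¹ * z * (τ * z) * τ⁻¹ * z⁻¹ * τ := by group
    _ = τ⁻¹ * z * (z * τ⁻¹) * τ⁻¹ * z⁻¹ * τ := by rw [h3]
    _ = τ⁻¹ * (z * z) * τ⁻¹ * (τ⁻¹ * z⁻¹) * τ := by group
    _ = τ⁻¹ * τ⁻¹ * (τ⁻¹ * z) * τ := by rw [hz2, hzinv]; group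
    _ = τ⁻¹ * τ⁻¹ * (z * τ) * τ := by rw [h2]
    _ = τ⁻¹ * (τ⁻¹ * z) * τ * τ := by group
    _ = τ⁻¹ * (z * τ) * τ * τ := by rw [h2]
    _ = (τ⁻¹ * z) * τ * τ * τ := by group
    _ = (z * τ) * τ * τ * τ := by rw [h2]
    _ = z * τ ^ (2 + 2) := by
        simp only [mul_assoc, pow_succ, pow_zero, one_mul]
    _ = y := by rw [hτ4, ← mul_assoc, hz2, one_mul]

/-- The index of the centralizer of `z` is the size of its conjugacy class. -/
theorem index_centralizer_eq_card_filter [Fintype G] [DecidableEq G] (z : G)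
    [DecidablePred (fun x => IsConj z x)] :
    (Subgroup.centralizer ({z} : Set G)).index =
      (Finset.univ.filter (fun x => IsConj z x)).card := by
  have e := ((MulAction.orbitEquivQuotientStabilizer (ConjAct G) z).trans
            (Subgroup.quotientEquivOfEq (ConjAct.stabilizer_eq_centralizer z)))
  have h1 : (Subgroup.centralizer ({z} : Set G)).index =
      Nat.card (MulAction.orbit (ConjAct G) z) := (Nat.card_congr e).symm
  rw [h1, Nat.card_coe_set_eq, ← Set.ncard_coe_finset]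
  congr 1
  ext x
  rw [ConjAct.mem_orbit_conjAct, isConj_comm]
  simp

/-- Under the hypotheses, the conjugacy class of `z` has odd size. -/
theorem iso_not_dvd_index_centralizer [Finite G] (hz2 : z * z = 1) (hH : H ≠ ⊤)
    (h0 : ∀ g : G, g⁻¹ * z * g ∈ H ↔ g ∈ H)
    (h1 : ∀ t : G, IsConj z t → t ≠ z → t * z = z * t → ∀ g : G, g⁻¹ * (z * t) * g ∈ H ↔ g ∈ H) :
    ¬ 2 ∣ (Subgroup.centralizer ({z} : Set G)).index := by
  classical
  haveI := Fintype.ofFinite G
  have hzinv : z⁻¹ = z := inv_eq_of_mul_eq_one_right hz2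
  have hzH : z ∈ H := iso_z_mem h0
  obtain ⟨b, hb⟩ : ∃ b : G, b ∉ H := by
    by_contra h
    push Not at h
    exact hH (eq_top_iff.mpr fun x _ => h x)
  obtain ⟨I, hI⟩ : ∃ I : Finset G, I = Finset.univ.filter (fun x => IsConj z x) := ⟨_, rfl⟩
  have hmI : ∀ x, x ∈ I ↔ IsConj z x := by intro x; rw [hI]; simp
  obtain ⟨Δ, hΔ⟩ : ∃ Δ : Finset G, Δ = I.filter (fun x => x ∈ H) := ⟨_, rfl⟩
  have hmΔ : ∀ x, x ∈ Δ ↔ IsConj z x ∧ x ∈ H := by intro x; rw [hΔ, Finset.mem_filter, hmI]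
  obtain ⟨A, hA⟩ : ∃ A : Finset G, A = I.filter (fun x => b⁻¹ * x ∈ H) := ⟨_, rfl⟩
  have hmA : ∀ x, x ∈ A ↔ IsConj z x ∧ b⁻¹ * x ∈ H := by
    intro x; rw [hA, Finset.mem_filter, hmI]
  -- elements of `A` are not in `H`
  have hAH : ∀ r, b⁻¹ * r ∈ H → r ∉ H := by
    intro r hr hrH
    apply hb
    have : b = r * (b⁻¹ * r)⁻¹ := by group
    rw [this]; exact mul_mem hrH (inv_mem hr)
  -- existence of elements of `A` conjugating `z` to a given conjugate in the coset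
  have hex : ∀ d : G, IsConj z d → d ∈ H → ∃ r, IsConj z r ∧ b⁻¹ * r ∈ H ∧
      b⁻¹ * (r * z * r⁻¹) * b = d := by
    intro d hd hdH
    have hy : IsConj z (b * d * b⁻¹) := hd.trans (isConj_iff.mpr ⟨b, rfl⟩)
    have hyH : b * d * b⁻¹ ∉ H := by
      obtain ⟨f, rfl⟩ := isConj_iff.mp hd
      have hf : f ∈ H := (iso_conj_mem_iff h0 f).mp hdH
      intro h
      have e : b * (f * z * f⁻¹) * b⁻¹ = (b * f) * z * (b * f)⁻¹ := by group
      rw [e, iso_conj_mem_iff h0] at h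
      apply hb
      have : b = b * f * f⁻¹ := by group
      rw [this]; exact mul_mem h (inv_mem hf)
    obtain ⟨r, hrI, hr⟩ := iso_exists_conj hz2 h0 h1 hy hyH
    refine ⟨r, hrI, ?_, ?_⟩
    · have e : (b⁻¹ * r) * z * (b⁻¹ * r)⁻¹ = b⁻¹ * (r * z * r⁻¹) * b := by group
      have : (b⁻¹ * r) * z * (b⁻¹ * r)⁻¹ ∈ H := by
        rw [e, hr]
        have : b⁻¹ * (b * d * b⁻¹) * b = d := by group
        rw [this]; exact hdH
      exact (iso_conj_mem_iff h0 _).mp this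
    · rw [hr]; group
  obtain ⟨s, hsI, hsb, -⟩ := hex z (IsConj.refl z) hzH
  have hs2 : s * s = 1 := iso_sq_conj hz2 hsI
  have hsinv : s⁻¹ = s := inv_eq_of_mul_eq_one_right hs2
  have hsH : s ∉ H := hAH s hsb
  -- (i) `|A|` is odd
  have hAodd : A.card ≡ 1 [MOD 2] := by
    have h := card_modEq_card_filter_of_involution A (fun r => s * r * s⁻¹) (by
      intro r hr
      rw [hmA] at hr ⊢
      refine ⟨hr.1.trans (isConj_iff.mpr ⟨s, rfl⟩), ?_⟩
      have hr2 : r * r = 1 := iso_sq_conj hz2 hr.1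
      have hrinv : r⁻¹ = r := inv_eq_of_mul_eq_one_right hr2
      have e : b⁻¹ * (s * r * s⁻¹) = (b⁻¹ * s) * (b⁻¹ * r)⁻¹ * (b⁻¹ * s) := by
        rw [hsinv]
        calc b⁻¹ * (s * r * s) = b⁻¹ * s * r * s := by group
          _ = b⁻¹ * s * r⁻¹ * s := by rw [hrinv]
          _ = (b⁻¹ * s) * (b⁻¹ * r)⁻¹ * (b⁻¹ * s) := by group
      rw [e]
      exact mul_mem (mul_mem hsb (inv_mem hr.2)) hsb) (by
      intro r _
      show s * (s * r * s⁻¹) * s⁻¹ = r
      rw [hsinv]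
      calc s * (s * r * s) * s = (s * s) * r * (s * s) := by group
        _ = r := by rw [hs2]; group)
    have hfix : A.filter (fun r => s * r * s⁻¹ = r) = {s} := by
      ext r
      rw [Finset.mem_filter, Finset.mem_singleton, hmA]
      constructor
      · rintro ⟨⟨hrI, hrb⟩, hfix⟩
        by_contra hne
        apply hsH
        have hcomm : s * r = r * s := by
          calc s * r = (s * r * s⁻¹) * s := by group
            _ = r * s := by rw [hfix]
        apply iso_lemmaL h0 h1 hsI hrI (Ne.symm hne) hcomm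
        have e : s * r = (b⁻¹ * s)⁻¹ * (b⁻¹ * r) := by
          rw [mul_inv_rev, hsinv]; group
        rw [e]
        exact mul_mem (inv_mem hsb) hrb
      · rintro rfl
        exact ⟨⟨hsI, hsb⟩, by group⟩
    rw [hfix, Finset.card_singleton] at h
    exact h
  -- (ii) `|A| = |Δ|`
  have hAΔ : A.card = Δ.card := by
    apply Finset.card_bij (fun r _ => b⁻¹ * (r * z * r⁻¹) * b)
    · intro r hr
      rw [hmA] at hr
      rw [hmΔ]
      refine ⟨isConj_iff.mpr ⟨b⁻¹ * r, by group⟩, ?_⟩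
      have e : b⁻¹ * (r * z * r⁻¹) * b = (b⁻¹ * r) * z * (b⁻¹ * r)⁻¹ := by group
      rw [e]
      exact mul_mem (mul_mem hr.2 hzH) (inv_mem hr.2)
    · intro r hr r' hr' heq
      rw [hmA] at hr hr'
      have heq' : r * z * r⁻¹ = r' * z * r'⁻¹ := by
        have this : b * (b⁻¹ * (r * z * r⁻¹) * b) * b⁻¹ =
            b * (b⁻¹ * (r' * z * r'⁻¹) * b) * b⁻¹ := by rw [heq]
        calc r * z * r⁻¹ = b * (b⁻¹ * (r * z * r⁻¹) * b) * b⁻¹ := by group
          _ = b * (b⁻¹ * (r' * z * r'⁻¹) * b) * b⁻¹ := this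
          _ = r' * z * r'⁻¹ := by group
      have hr2 : r * r = 1 := iso_sq_conj hz2 hr.1
      have hrinv : r⁻¹ = r := inv_eq_of_mul_eq_one_right hr2
      have hr'2 : r' * r' = 1 := iso_sq_conj hz2 hr'.1
      have hr'inv : r'⁻¹ = r' := inv_eq_of_mul_eq_one_right hr'2
      have hrH : r ∉ H := hAH r hr.2
      -- `c = r' * r` centralizes `z`
      have hcz : (r' * r) * z = z * (r' * r) := by
        have : r' * r * z * (r' * r)⁻¹ = z := by
          calc r' * r * z * (r' * r)⁻¹ = r'⁻¹⁻¹ * (r * z * r⁻¹) * r'⁻¹ := by group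
            _ = r'⁻¹ * (r' * z * r'⁻¹) * r'⁻¹⁻¹ := by rw [heq', hr'inv, hr'inv]
            _ = z := by group
        calc r' * r * z = (r' * r * z * (r' * r)⁻¹) * (r' * r) := by group
          _ = z * (r' * r) := by rw [this]
      -- `z * r` has odd order and inverts `c`
      obtain ⟨j, hj⟩ := iso_odd hz2 h0 h1 hr.1 hrH
      have hinv : (z * r) * (r' * r) * (z * r)⁻¹ = (r' * r)⁻¹ := by
        calc (z * r) * (r' * r) * (z * r)⁻¹ = z * (r * r' * (r * r⁻¹)) * z⁻¹ := by group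
          _ = z * (r * r') * z⁻¹ := by rw [mul_inv_cancel, mul_one]
          _ = z * (r⁻¹ * r'⁻¹) * z⁻¹ := by rw [hrinv, hr'inv]
          _ = z * (r' * r)⁻¹ * z⁻¹ := by rw [mul_inv_rev]
          _ = (z * (r' * r) * z⁻¹)⁻¹ := by group
          _ = (r' * r)⁻¹ := by
              congr 1
              calc z * (r' * r) * z⁻¹ = (r' * r) * z * z⁻¹ := by rw [hcz]
                _ = r' * r := by group
      have hpowinv := conj_pow_of_inverts hinv
      have hc2 : (r' * r) = (r' * r)⁻¹ := by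
        have h := hpowinv (2 * j + 1)
        rw [← hj, pow_orderOf_eq_one] at h
        have hne : ¬ Even (orderOf (z * r)) := by
          rw [hj]; exact Nat.not_even_iff_odd.mpr ⟨j, rfl⟩
        rw [if_neg hne] at h
        rw [← h]; group
      -- hence `r` and `r'` commute
      by_contra hne
      apply hrH
      have hrr' : r * r' = r' * r := by
        calc r * r' = r⁻¹ * r'⁻¹ := by rw [hrinv, hr'inv]
          _ = (r' * r)⁻¹ := by rw [mul_inv_rev]
          _ = r' * r := hc2.symm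
      apply iso_lemmaL h0 h1 hr.1 hr'.1 hne hrr'
      rw [hrr']
      exact iso_centralizer_le h0 hcz
    · intro d hd
      rw [hmΔ] at hd
      obtain ⟨r, hrI, hrb, hr⟩ := hex d hd.1 hd.2
      exact ⟨r, (hmA r).mpr ⟨hrI, hrb⟩, hr⟩
  -- (iii) `|I| ≡ |Δ|`
  have hIΔ : I.card ≡ Δ.card [MOD 2] := by
    have hinvz : ∀ x : G, z * (z * x * z⁻¹) * z⁻¹ = x := by
      intro x
      rw [hzinv]
      calc z * (z * x * z) * z = (z * z) * x * (z * z) := by group
        _ = x := by rw [hz2]; group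
    have h1' := card_modEq_card_filter_of_involution I (fun x => z * x * z⁻¹) (by
      intro x hx
      rw [hmI] at hx ⊢
      exact hx.trans (isConj_iff.mpr ⟨z, rfl⟩)) (fun x _ => hinvz x)
    have h2' := card_modEq_card_filter_of_involution Δ (fun x => z * x * z⁻¹) (by
      intro x hx
      rw [hmΔ] at hx ⊢
      exact ⟨hx.1.trans (isConj_iff.mpr ⟨z, rfl⟩), mul_mem (mul_mem hzH hx.2) (inv_mem hzH)⟩)
      (fun x _ => hinvz x)
    have : I.filter (fun x => z * x * z⁻¹ = x) = Δ.filter (fun x => z * x * z⁻¹ = x) := by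
      ext x
      rw [Finset.mem_filter, Finset.mem_filter, hmI, hmΔ]
      constructor
      · rintro ⟨hx, hfix⟩
        refine ⟨⟨hx, ?_⟩, hfix⟩
        apply iso_centralizer_le h0
        calc x * z = (z * x * z⁻¹) * z := by rw [hfix]
          _ = z * x := by group
      · rintro ⟨⟨hx, _⟩, hfix⟩
        exact ⟨hx, hfix⟩
    rw [this] at h1'
    exact h1'.trans h2'.symm
  have hfin : I.card ≡ 1 [MOD 2] := by
    rw [← hAΔ] at hIΔ
    exact hIΔ.trans hAodd
  have hidx : (Subgroup.centralizer ({z} : Set G)).index = I.card := by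
    rw [hI]
    convert index_centralizer_eq_card_filter z
  rw [hidx]
  intro hd
  have : I.card % 2 = 0 := Nat.mod_eq_zero_of_dvd hd
  have h1 : I.card % 2 = 1 % 2 := hfin
  omega

end Iso

end Cfsg.Agent.Lib.Helper13
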