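import Mathlib
import Cfsg.Prelude.Def_Transfer
import Cfsg.Agent.Lib.Helper10.Coprime
import Cfsg.Agent.Lib.Helper10.Hyperplane
import Cfsg.Agent.Lib.Helper13.Conj
import Cfsg.Agent.Lib.Helper13.FusionLift
import Cfsg.Agent.S1324

set_option autoImplicit false

namespace Cfsg.Agent.Lib.Helper13

open Cfsg Cfsg.Agent.Lib.Helper10

variable {G : Type*} [Group G]

theorem le_normalizer_inf' {K X Y : Subgroup G} (hX : K ≤ Subgroup.normalizer (X : Set G))
    (hY : K ≤ Subgroup.normalizer (Y : Set G)) :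
    K ≤ Subgroup.normalizer ((X ⊓ Y : Subgroup G) : Set G) := by
  intro k hk
  rw [Subgroup.mem_normalizer_iff]
  intro x
  have h1 := hX hk
  have h2 := hY hk
  rw [Subgroup.mem_normalizer_iff] at h1 h2
  rw [Subgroup.mem_inf, Subgroup.mem_inf, h1 x, h2 x]

theorem le_normalizer_iSup' {ι : Sort*} {K : Subgroup G} {X : ι → Subgroup G}
    (h : ∀ i, K ≤ Subgroup.normalizer (X i : Set G)) :
    K ≤ Subgroup.normalizer ((⨆ i, X i : Subgroup G) : Set G) := by
  intro k hk
  rw [mem_normalizer_iff_cj_eq, Subgroup.map_iSup]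
  congr 1
  funext i
  exact mem_normalizer_iff_cj_eq.mp (h i hk)

theorem le_normalizer_sup' {K X Y : Subgroup G} (hX : K ≤ Subgroup.normalizer (X : Set G))
    (hY : K ≤ Subgroup.normalizer (Y : Set G)) :
    K ≤ Subgroup.normalizer ((X ⊔ Y : Subgroup G) : Set G) := by
  intro k hk
  rw [mem_normalizer_iff_cj_eq, Subgroup.map_sup, mem_normalizer_iff_cj_eq.mp (hX hk),
    mem_normalizer_iff_cj_eq.mp (hY hk)]

theorem le_normalizer_commutator' {K X : Subgroup G} (hX : K ≤ Subgroup.normalizer (X : Set G)) :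
    K ≤ Subgroup.normalizer ((⁅X, X⁆ : Subgroup G) : Set G) := by
  intro k hk
  rw [mem_normalizer_iff_cj_eq, Subgroup.map_commutator, mem_normalizer_iff_cj_eq.mp (hX hk)]

theorem le_normalizer_centralizer_of_comm {A : Subgroup G}
    (hcomm : ∀ a ∈ A, ∀ b ∈ A, a * b = b * a) {S : Set G} (hS : S ⊆ (A : Set G)) :
    A ≤ Subgroup.normalizer ((Subgroup.centralizer S : Subgroup G) : Set G) := by
  refine le_trans ?_ Subgroup.le_normalizer
  intro a ha
  rw [Subgroup.mem_centralizer_iff]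
  intro s hs
  exact hcomm s (hS hs) a ha

theorem conj_mem_of_mem_normalizer {X : Subgroup G} {b u : G}
    (hb : b ∈ Subgroup.normalizer (X : Set G)) (hu : u ∈ X) : b * u * b⁻¹ ∈ X :=
  ((Subgroup.mem_normalizer_iff.mp hb) u).1 hu

theorem le_normalizer_of_commutator_le {W M : Subgroup G} (h1 : ⁅W, W⁆ ≤ M) (h2 : M ≤ W) :
    W ≤ Subgroup.normalizer (M : Set G) := by
  intro w hw
  have key : ∀ w ∈ W, ∀ m ∈ M, w * m * w⁻¹ ∈ M := by
    intro w hw m hm
    have h3 : w * m * w⁻¹ * m⁻¹ ∈ M := h1 (Subgroup.commutator_mem_commutator hw (h2 hm))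
    have h4 : w * m * w⁻¹ = w * m * w⁻¹ * m⁻¹ * m := by group
    rw [h4]
    exact mul_mem h3 hm
  rw [Subgroup.mem_normalizer_iff]
  intro m
  constructor
  · exact key w hw m
  · intro hm
    have h3 := key w⁻¹ (inv_mem hw) _ hm
    have h4 : w⁻¹ * (w * m * w⁻¹) * w⁻¹⁻¹ = m := by group
    rw [h4] at h3
    exact h3

/-- A `p`-element permuting a coset `vN` of a `p'`-subgroup `N` fixes a point of it. -/
theorem exists_fixed_in_coset [Finite G] (p : ℕ) [Fact p.Prime] (x : G) (hx : x ^ p = 1)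
    (N : Subgroup G) (hN : ¬ p ∣ Nat.card N) (v : G)
    (hS : ∀ n ∈ N, ∃ n' ∈ N, x * (v * n) * x⁻¹ = v * n') :
    ∃ n ∈ N, x * (v * n) * x⁻¹ = v * n := by
  have hnorm : x ∈ Subgroup.normalizer ((fun n => v * n) '' (N : Set G)) := by
    apply mem_normalizer_of_conj_subset
    rintro _ ⟨n, hn, rfl⟩
    obtain ⟨n', hn', h⟩ := hS n hn
    exact ⟨n', hn', h.symm⟩
  have hcard : ¬ p ∣ Nat.card ((fun n => v * n) '' (N : Set G)) := by
    rw [Nat.card_image_of_injective (mul_right_injective v)]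
    exact hN
  obtain ⟨s, ⟨n, hn, rfl⟩, hs⟩ := exists_conj_fixed p x hx _ hnorm hcard
  exact ⟨n, hn, hs⟩

theorem exists_mem_not_mem_of_relIndex [Finite G] {p : ℕ} [hp : Fact p.Prime] {A C D : Subgroup G}
    (hcard : p ^ 3 * Nat.card C ≤ Nat.card A) (hD : D ≤ A ∧ D.relIndex A ≤ p) :
    ∃ b ∈ D, b ∉ C := by
  by_contra hcon
  push Not at hcon
  have hDC : D ≤ C := hcon
  have h1 := Subgroup.relIndex_mul_relIndex ⊥ D A bot_le hD.1
  rw [Subgroup.relIndex_bot_left, Subgroup.relIndex_bot_left] at h1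
  have h2 : Nat.card D ≤ Nat.card C := Subgroup.card_le_of_le hDC
  have hp2 : 2 ≤ p := hp.out.two_le
  have hC : 0 < Nat.card C := Nat.card_pos
  have h3 : Nat.card A ≤ Nat.card C * p := by
    rw [← h1]
    exact Nat.mul_le_mul h2 hD.2
  have h4 : Nat.card C * p < p ^ 3 * Nat.card C := by
    have h6 : 1 < p * p := by nlinarith
    have h7 : 0 < Nat.card C * p := Nat.mul_pos hC (by omega)
    calc Nat.card C * p = 1 * (Nat.card C * p) := (one_mul _).symm
      _ < (p * p) * (Nat.card C * p) := Nat.mul_lt_mul_of_pos_right h6 h7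
      _ = p ^ 3 * Nat.card C := by ring
  omega

theorem exists_mem_inf_not_mem_of_relIndex [Finite G] {p : ℕ} [hp : Fact p.Prime]
    {A C D D' : Subgroup G}
    (hcard : p ^ 3 * Nat.card C ≤ Nat.card A) (hD : D ≤ A ∧ D.relIndex A ≤ p)
    (hD' : D' ≤ A ∧ D'.relIndex A ≤ p) :
    ∃ e ∈ D ⊓ D', e ∉ C := by
  by_contra hcon
  push Not at hcon
  have hDC : D ⊓ D' ≤ C := hcon
  have h0 := Subgroup.relIndex_inf_le (H := D) (K := D') (L := A)
  have h1 := Subgroup.relIndex_mul_relIndex ⊥ (D ⊓ D') A bot_le (le_trans inf_le_left hD.1)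
  rw [Subgroup.relIndex_bot_left, Subgroup.relIndex_bot_left] at h1
  have h2 : Nat.card ↥(D ⊓ D') ≤ Nat.card C := Subgroup.card_le_of_le hDC
  have hp2 : 2 ≤ p := hp.out.two_le
  have hC : 0 < Nat.card C := Nat.card_pos
  have h5 : (D ⊓ D').relIndex A ≤ p * p := le_trans h0 (Nat.mul_le_mul hD.2 hD'.2)
  have h3 : Nat.card A ≤ Nat.card C * (p * p) := by
    rw [← h1]
    exact Nat.mul_le_mul h2 h5
  have h4 : Nat.card C * (p * p) < p ^ 3 * Nat.card C := by
    have h6 : 1 < p := by omega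
    have h7 : 0 < Nat.card C * (p * p) := Nat.mul_pos hC (Nat.mul_pos (by omega) (by omega))
    calc Nat.card C * (p * p) = 1 * (Nat.card C * (p * p)) := (one_mul _).symm
      _ < p * (Nat.card C * (p * p)) := Nat.mul_lt_mul_of_pos_right h6 h7
      _ = p ^ 3 * Nat.card C := by ring
  omega

end Cfsg.Agent.Lib.Helper13
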