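import Mathlib
import Cfsg.Agent.Lib.Helper13.SigGen

set_option autoImplicit false

namespace Cfsg.Agent.Lib.Helper13

open Cfsg Cfsg.Agent.Lib.Helper10

variable {G : Type*} [Group G]

/-- Closure of the family of a "signalizer functor" `U` (indexed by `A ∖ C`) under generation
inside solvable `p'`-groups. -/
theorem sig_gen [Finite G] {p : ℕ} [hp : Fact p.Prime] {A C : Subgroup G}
    (hA : IsElementaryAbelian p A) (hCA : C ≤ A) (hcard : p ^ 3 * Nat.card C ≤ Nat.card A)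
    (U : G → Subgroup G)
    (hinv : ∀ x ∈ A, x ∉ C → A ≤ Subgroup.normalizer (U x : Set G))
    (hbal : ∀ x ∈ A, x ∉ C → ∀ y ∈ A, y ∉ C → U x ⊓ Subgroup.centralizer {y} ≤ U y) :
    ∀ n : ℕ, ∀ W : Subgroup G, Nat.card W = n → Group.IsSolvable ↥W → ¬ p ∣ Nat.card W →
      A ≤ Subgroup.normalizer (W : Set G) →
      (W ≤ ⨆ x : {x : G // x ∈ A ∧ x ∉ C}, W ⊓ U x) →
      ∀ x ∈ A, x ∉ C → W ⊓ Subgroup.centralizer {x} ≤ U x := by
  intro n
  induction n using Nat.strong_induction_on with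
  | _ n ih =>
  intro W hWn hWs hWp hWA hWgen x hxA hxC
  have hcomm : ∀ a ∈ A, ∀ b ∈ A, a * b = b * a := fun a ha b hb => elemAb_commute p hA ha hb
  have hpow : ∀ a ∈ A, a ^ p = 1 := hA.2
  by_cases hW1 : W = ⊥
  · rw [hW1]
    exact le_trans inf_le_left bot_le
  have hsubp : ∀ H : Subgroup G, H ≤ W → ¬ p ∣ Nat.card H :=
    fun H hH hd => hWp (dvd_trans hd (Subgroup.card_dvd_of_le hH))
  have hp2 : 2 ≤ p := hp.out.two_le
  have hA2 : p ^ 2 ≤ Nat.card A := by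
    have hC : 0 < Nat.card C := Nat.card_pos
    have h1 : p ^ 2 ≤ p ^ 3 * Nat.card C := by
      calc p ^ 2 ≤ p ^ 3 := Nat.pow_le_pow_right (by omega) (by omega)
        _ = p ^ 3 * 1 := (mul_one _).symm
        _ ≤ p ^ 3 * Nat.card C := Nat.mul_le_mul_left _ hC
    omega
  have hgen : ∀ H : Subgroup G, H ≤ W → A ≤ Subgroup.normalizer (H : Set G) →
      H = ⨆ D : {D : Subgroup G // D ≤ A ∧ D.relIndex A ≤ p},
        H ⊓ Subgroup.centralizer ((D : Subgroup G) : Set G) :=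
    fun H hH hHA => Cfsg.Agent.S1324.result p A H hA hA2 (hsubp H hH) hHA
  -- Step 1: the subgroup M
  have hcommlt : ⁅W, W⁆ < W := by
    refine lt_of_le_of_ne (Subgroup.commutator_le_self W) ?_
    intro heq
    haveI : Nontrivial ↥W := (Subgroup.nontrivial_iff_ne_bot W).mpr hW1
    have h1 := IsSolvable.commutator_lt_top_of_nontrivial ↥W
    have h2 : (_root_.commutator ↥W).map W.subtype = (⊤ : Subgroup ↥W).map W.subtype := by
      rw [Subgroup.map_subtype_commutator, heq, ← MonoidHom.range_eq_map, Subgroup.range_subtype]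
    exact h1.ne (Subgroup.map_injective W.subtype_injective h2)
  obtain ⟨M, hM⟩ := (Set.toFinite {M : Subgroup G | ⁅W, W⁆ ≤ M ∧ M < W ∧
      A ≤ Subgroup.normalizer (M : Set G)}).exists_maximal
    ⟨⁅W, W⁆, le_refl _, hcommlt, le_normalizer_commutator' hWA⟩
  obtain ⟨⟨hM1, hM2, hM3⟩, hMmax⟩ := hM
  have hWM : W ≤ Subgroup.normalizer (M : Set G) := le_normalizer_of_commutator_le hM1 hM2.le
  -- Step 2: the subgroup M₀
  obtain ⟨M₀, hM₀⟩ : ∃ M₀ : Subgroup G,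
      M₀ = ⨆ x : {x : G // x ∈ A ∧ x ∉ C}, M ⊓ U x := ⟨_, rfl⟩
  have hM₀M : M₀ ≤ M := by
    rw [hM₀]
    exact iSup_le fun _ => inf_le_left
  have hle₀ : ∀ x : {x : G // x ∈ A ∧ x ∉ C}, M ⊓ U x ≤ M₀ := by
    intro x
    rw [hM₀]
    exact le_iSup (fun x : {x : G // x ∈ A ∧ x ∉ C} => M ⊓ U x) x
  have hM₀A : A ≤ Subgroup.normalizer (M₀ : Set G) := by
    rw [hM₀]
    exact le_normalizer_iSup' fun x => le_normalizer_inf' hM3 (hinv x.1 x.2.1 x.2.2)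
  have hMltn : Nat.card M < n := by
    rw [← hWn]
    refine lt_of_le_of_ne (Subgroup.card_le_of_le hM2.le) ?_
    intro heq
    exact hM2.ne (Subgroup.eq_of_le_of_card_ge hM2.le heq.ge)
  have hM₀lt : Nat.card M₀ < n := lt_of_le_of_lt (Subgroup.card_le_of_le hM₀M) hMltn
  have hM₀W : M₀ ≤ W := le_trans hM₀M hM2.le
  have hM₀fam : ∀ y ∈ A, y ∉ C → M₀ ⊓ Subgroup.centralizer {y} ≤ U y := by
    refine ih (Nat.card M₀) hM₀lt M₀ rfl
      (solvable_of_solvable_injective (Subgroup.inclusion_injective hM₀W)) (hsubp M₀ hM₀W) hM₀A ?_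
    calc M₀ = ⨆ x : {x : G // x ∈ A ∧ x ∉ C}, M ⊓ U x := hM₀
      _ ≤ ⨆ x : {x : G // x ∈ A ∧ x ∉ C}, M₀ ⊓ U x :=
        iSup_mono fun x => le_inf (hle₀ x) inf_le_right
  -- Step 3: M₀ is normal in W
  have hWM₀ : W ≤ Subgroup.normalizer (M₀ : Set G) := by
    refine le_trans hWgen (iSup_le fun a => ?_)
    have hVA : A ≤ Subgroup.normalizer ((W ⊓ U a : Subgroup G) : Set G) :=
      le_normalizer_inf' hWA (hinv a.1 a.2.1 a.2.2)
    rw [hgen (W ⊓ U a) inf_le_left hVA]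
    refine iSup_le fun D => ?_
    intro u hu
    obtain ⟨hu1, huD⟩ := Subgroup.mem_inf.mp hu
    obtain ⟨huW, huU⟩ := Subgroup.mem_inf.mp hu1
    apply mem_normalizer_of_cj_le
    have key : ∀ c : {x : G // x ∈ A ∧ x ∉ C},
        (M ⊓ U c).map (MulAut.conj u).toMonoidHom ≤ M₀ := by
      intro c
      have hNA : A ≤ Subgroup.normalizer ((M ⊓ U c : Subgroup G) : Set G) :=
        le_normalizer_inf' hM3 (hinv c.1 c.2.1 c.2.2)
      rw [hgen (M ⊓ U c) (le_trans inf_le_left hM2.le) hNA, Subgroup.map_iSup]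
      refine iSup_le fun D' => ?_
      rintro _ ⟨y, hy, rfl⟩
      obtain ⟨hy1, hyD'⟩ := Subgroup.mem_inf.mp hy
      obtain ⟨hyM, hyU⟩ := Subgroup.mem_inf.mp hy1
      obtain ⟨e, he, heC⟩ := exists_mem_inf_not_mem_of_relIndex hcard D.2 D'.2
      obtain ⟨heD, heD'⟩ := Subgroup.mem_inf.mp he
      have heA : e ∈ A := D.2.1 heD
      have hue : u ∈ U e := by
        apply hbal a.1 a.2.1 a.2.2 e heA heC
        refine Subgroup.mem_inf.mpr ⟨huU, ?_⟩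
        rw [Subgroup.mem_centralizer_singleton_iff]
        exact (Subgroup.mem_centralizer_iff.mp huD e heD).symm
      have hye : y ∈ U e := by
        apply hbal c.1 c.2.1 c.2.2 e heA heC
        refine Subgroup.mem_inf.mpr ⟨hyU, ?_⟩
        rw [Subgroup.mem_centralizer_singleton_iff]
        exact (Subgroup.mem_centralizer_iff.mp hyD' e heD').symm
      apply hle₀ ⟨e, heA, heC⟩
      refine Subgroup.mem_inf.mpr ⟨?_, ?_⟩
      · exact conj_mem_of_mem_normalizer (hWM huW) hyM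
      · exact mul_mem (mul_mem hue hye) (inv_mem hue)
    rw [hM₀, Subgroup.map_iSup]
    rw [← hM₀]
    exact iSup_le key
  -- Step 4: an element b acting trivially on W / M
  obtain ⟨D, hDM⟩ : ∃ D : {D : Subgroup G // D ≤ A ∧ D.relIndex A ≤ p},
      ¬ (W ⊓ Subgroup.centralizer ((D : Subgroup G) : Set G) ≤ M) := by
    by_contra hcon
    push Not at hcon
    have h1 : W ≤ M := by
      calc W = ⨆ D : {D : Subgroup G // D ≤ A ∧ D.relIndex A ≤ p},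
            W ⊓ Subgroup.centralizer ((D : Subgroup G) : Set G) := hgen W le_rfl hWA
        _ ≤ M := iSup_le hcon
    exact absurd h1 (not_le_of_gt hM2)
  obtain ⟨b, hbD, hbC⟩ := exists_mem_not_mem_of_relIndex hcard D.2
  have hbA : b ∈ A := D.2.1 hbD
  have hbtriv : ∀ v ∈ W, b * v * b⁻¹ * v⁻¹ ∈ M := by
    have hP : W ≤ M ⊔ (W ⊓ Subgroup.centralizer {b}) := by
      by_contra hP
      have hPmem : (M ⊔ (W ⊓ Subgroup.centralizer {b})) ∈ {M : Subgroup G | ⁅W, W⁆ ≤ M ∧ M < W ∧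
          A ≤ Subgroup.normalizer (M : Set G)} := by
        refine ⟨le_trans hM1 le_sup_left,
          lt_of_le_of_ne (sup_le hM2.le inf_le_left) (fun h => hP h.ge), ?_⟩
        refine le_normalizer_sup' hM3 (le_normalizer_inf' hWA ?_)
        exact le_normalizer_centralizer_of_comm hcomm (Set.singleton_subset_iff.mpr hbA)
      have h1 := hMmax hPmem le_sup_left
      apply hDM
      refine le_trans (inf_le_inf_left W ?_) (le_trans le_sup_right h1)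
      exact Subgroup.centralizer_le (Set.singleton_subset_iff.mpr hbD)
    intro v hv
    have hv' : v ∈ (W ⊓ Subgroup.centralizer {b}) ⊔ M := by
      rw [sup_comm]
      exact hP hv
    obtain ⟨m, hm, c, hc, rfl⟩ := mem_sup_of_le_normalizer'
      (le_trans inf_le_left hWM : W ⊓ Subgroup.centralizer {b} ≤ Subgroup.normalizer (M : Set G)) hv'
    have hcb : c * b = b * c := Subgroup.mem_centralizer_singleton_iff.mp (Subgroup.mem_inf.mp hc).2
    have h1 : b * (m * c) * b⁻¹ * (m * c)⁻¹ = (b * m * b⁻¹) * (b * c * b⁻¹ * c⁻¹) * m⁻¹ := by group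
    have h2 : b * c * b⁻¹ * c⁻¹ = 1 := by
      rw [← hcb]
      group
    rw [h1, h2, mul_one]
    exact mul_mem (conj_mem_of_mem_normalizer (hM3 hbA) hm) (inv_mem hm)
  -- Step 5
  have hstep5 : ∀ a : {x : G // x ∈ A ∧ x ∉ C}, W ⊓ U a ≤ (W ⊓ U b) ⊔ M₀ := by
    intro a v hv
    obtain ⟨hvW, hvU⟩ := Subgroup.mem_inf.mp hv
    have hN : ¬ p ∣ Nat.card ↥(M ⊓ U a) := hsubp _ (le_trans inf_le_left hM2.le)
    have hbUa : b ∈ Subgroup.normalizer (U a : Set G) := hinv a.1 a.2.1 a.2.2 hbA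
    obtain ⟨n', hn', hfix⟩ := exists_fixed_in_coset p b (hpow b hbA) (M ⊓ U a) hN v (by
      intro n hn
      obtain ⟨hnM, hnU⟩ := Subgroup.mem_inf.mp hn
      refine ⟨v⁻¹ * (b * v * b⁻¹ * v⁻¹) * v⁻¹⁻¹ * (b * n * b⁻¹), ?_, by group⟩
      refine mul_mem (Subgroup.mem_inf.mpr ⟨?_, ?_⟩) (Subgroup.mem_inf.mpr ⟨?_, ?_⟩)
      · exact conj_mem_of_mem_normalizer (hWM (inv_mem hvW)) (hbtriv v hvW)
      · refine mul_mem (mul_mem (inv_mem hvU) ?_) (inv_mem (inv_mem hvU))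
        exact mul_mem (conj_mem_of_mem_normalizer hbUa hvU) (inv_mem hvU)
      · exact conj_mem_of_mem_normalizer (hM3 hbA) hnM
      · exact conj_mem_of_mem_normalizer hbUa hnU)
    obtain ⟨hn'M, hn'U⟩ := Subgroup.mem_inf.mp hn'
    have hsW : v * n' ∈ W := mul_mem hvW (hM2.le hn'M)
    have hsUa : v * n' ∈ U a := mul_mem hvU hn'U
    have hsb : v * n' ∈ Subgroup.centralizer {b} := by
      rw [Subgroup.mem_centralizer_singleton_iff]
      have h1 : b * (v * n') = b * (v * n') * b⁻¹ * b := by group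
      rw [h1, hfix]
    have hsUb : v * n' ∈ U b :=
      hbal a.1 a.2.1 a.2.2 b hbA hbC (Subgroup.mem_inf.mpr ⟨hsUa, hsb⟩)
    have h1 : v = (v * n') * n'⁻¹ := by group
    rw [h1]
    exact Subgroup.mul_mem_sup (Subgroup.mem_inf.mpr ⟨hsW, hsUb⟩) (inv_mem (hle₀ a hn'))
  have hstep6 : W ≤ (W ⊓ U b) ⊔ M₀ := le_trans hWgen (iSup_le hstep5)
  -- Step 7
  intro w hw
  obtain ⟨hwW, hwx⟩ := Subgroup.mem_inf.mp hw
  have hwx' : w * x = x * w := Subgroup.mem_centralizer_singleton_iff.mp hwx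
  obtain ⟨u₀, hu₀, m₀, hm₀, rfl⟩ := mem_sup_of_le_normalizer
    (le_trans inf_le_left hWM₀ : W ⊓ U b ≤ Subgroup.normalizer (M₀ : Set G)) (hstep6 hwW)
  obtain ⟨hu₀W, hu₀U⟩ := Subgroup.mem_inf.mp hu₀
  have hxVb : x ∈ Subgroup.normalizer ((W ⊓ U b : Subgroup G) : Set G) :=
    le_normalizer_inf' hWA (hinv b hbA hbC) hxA
  have hxM₀ : x ∈ Subgroup.normalizer (M₀ : Set G) := hM₀A hxA
  have hN : ¬ p ∣ Nat.card ↥((W ⊓ U b) ⊓ M₀) := hsubp _ (le_trans inf_le_left inf_le_left)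
  have hkey : u₀⁻¹ * (x * u₀ * x⁻¹) ∈ M₀ := by
    have h1 : u₀⁻¹ * (x * u₀ * x⁻¹) = m₀ * (x * m₀⁻¹ * x⁻¹) := by
      have h2 : x * u₀ * x⁻¹ = (u₀ * m₀) * (x * m₀⁻¹ * x⁻¹) := by
        calc x * u₀ * x⁻¹ = (x * (u₀ * m₀)) * m₀⁻¹ * x⁻¹ := by group
          _ = ((u₀ * m₀) * x) * m₀⁻¹ * x⁻¹ := by rw [hwx']
          _ = (u₀ * m₀) * (x * m₀⁻¹ * x⁻¹) := by group
      rw [h2]
      group
    rw [h1]
    exact mul_mem hm₀ (conj_mem_of_mem_normalizer hxM₀ (inv_mem hm₀))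
  obtain ⟨n₁, hn₁, hfix⟩ := exists_fixed_in_coset p x (hpow x hxA) ((W ⊓ U b) ⊓ M₀) hN u₀ (by
    intro n hn
    obtain ⟨hnV, hnM⟩ := Subgroup.mem_inf.mp hn
    refine ⟨u₀⁻¹ * (x * u₀ * x⁻¹) * (x * n * x⁻¹), ?_, by group⟩
    refine mul_mem (Subgroup.mem_inf.mpr ⟨?_, hkey⟩) (Subgroup.mem_inf.mpr ⟨?_, ?_⟩)
    · exact mul_mem (inv_mem hu₀) (conj_mem_of_mem_normalizer hxVb hu₀)
    · exact conj_mem_of_mem_normalizer hxVb hnV
    · exact conj_mem_of_mem_normalizer hxM₀ hnM)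
  obtain ⟨hn₁V, hn₁M⟩ := Subgroup.mem_inf.mp hn₁
  have hsx : (u₀ * n₁) * x = x * (u₀ * n₁) := by
    have h1 : x * (u₀ * n₁) = x * (u₀ * n₁) * x⁻¹ * x := by group
    rw [h1, hfix]
  have hsUx : u₀ * n₁ ∈ U x := by
    apply hbal b hbA hbC x hxA hxC
    refine Subgroup.mem_inf.mpr ⟨mul_mem hu₀U (Subgroup.mem_inf.mp hn₁V).2, ?_⟩
    rw [Subgroup.mem_centralizer_singleton_iff]
    exact hsx
  have hm'M : n₁⁻¹ * m₀ ∈ M₀ := mul_mem (inv_mem hn₁M) hm₀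
  have hm'x : n₁⁻¹ * m₀ ∈ Subgroup.centralizer {x} := by
    rw [Subgroup.mem_centralizer_singleton_iff]
    have h1 : n₁⁻¹ * m₀ = (u₀ * n₁)⁻¹ * (u₀ * m₀) := by group
    rw [h1]
    calc (u₀ * n₁)⁻¹ * (u₀ * m₀) * x = (u₀ * n₁)⁻¹ * ((u₀ * m₀) * x) := by group
      _ = (u₀ * n₁)⁻¹ * (x * (u₀ * m₀)) := by rw [hwx']
      _ = (u₀ * n₁)⁻¹ * (x * (u₀ * n₁)) * (u₀ * n₁)⁻¹ * (u₀ * m₀) := by group
      _ = (u₀ * n₁)⁻¹ * ((u₀ * n₁) * x) * (u₀ * n₁)⁻¹ * (u₀ * m₀) := by rw [hsx]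
      _ = x * ((u₀ * n₁)⁻¹ * (u₀ * m₀)) := by group
  have hm'U : n₁⁻¹ * m₀ ∈ U x := hM₀fam x hxA hxC (Subgroup.mem_inf.mpr ⟨hm'M, hm'x⟩)
  have h1 : u₀ * m₀ = (u₀ * n₁) * (n₁⁻¹ * m₀) := by group
  rw [h1]
  exact mul_mem hsUx hm'U

end Cfsg.Agent.Lib.Helper13
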