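import Mathlib
import Cfsg.Agent.Lib.Helper13.KBalance
import Cfsg.Agent.Lib.Helper13.SigGen2

set_option autoImplicit false

namespace Cfsg.Agent.Lib.Helper13

open Cfsg Cfsg.Agent.Lib.Helper10

variable {G : Type*} [Group G]

/-- `T(C)`: generated by the `Δ(B)` with `C ≤ B ≤ A` of order at least `p ^ k`. -/
def tsub (p k : ℕ) (A C : Subgroup G) : Subgroup G :=
  ⨆ B : {B : Subgroup G // C ≤ B ∧ B ≤ A ∧ p ^ k ≤ Nat.card ↥B}, signalizerDelta p (B : Subgroup G)

theorem sigDelta_le_tsub (p k : ℕ) {A C B : Subgroup G} (hCB : C ≤ B) (hBA : B ≤ A)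
    (hB : p ^ k ≤ Nat.card ↥B) : signalizerDelta p B ≤ tsub p k A C :=
  le_iSup (fun B : {B : Subgroup G // C ≤ B ∧ B ≤ A ∧ p ^ k ≤ Nat.card ↥B} =>
    signalizerDelta p (B : Subgroup G)) ⟨B, hCB, hBA, hB⟩

theorem tsub_le_cpc (p k : ℕ) {A C : Subgroup G} {c : G} (hc : c ∈ C) (hc1 : c ≠ 1) :
    tsub p k A C ≤ centralizerPPrimeCore p c :=
  iSup_le fun B => sigDelta_le_cpc p (B.2.1 hc) hc1

theorem tsub_le_centralizer (p k : ℕ) {A C : Subgroup G} :
    tsub p k A C ≤ Subgroup.centralizer (C : Set G) :=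
  iSup_le fun B => le_trans (sigDelta_le_centralizer p) (Subgroup.centralizer_le B.2.1)

theorem le_normalizer_tsub (p k : ℕ) {A C : Subgroup G}
    (hA : ∀ x ∈ A, ∀ y ∈ A, x * y = y * x) :
    A ≤ Subgroup.normalizer (tsub p k A C : Set G) :=
  le_normalizer_iSup' fun B => le_normalizer_sigDelta p hA B.2.2.1

theorem tsub_le_sigDelta (p k : ℕ) {A C : Subgroup G} :
    tsub p k A C ≤ signalizerDelta p C :=
  iSup_le fun B => sigDelta_anti p B.2.1

theorem mem_centralizer_sup {X Y : Subgroup G} {z : G} (h1 : z ∈ Subgroup.centralizer (X : Set G))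
    (h2 : z ∈ Subgroup.centralizer (Y : Set G)) :
    z ∈ Subgroup.centralizer ((X ⊔ Y : Subgroup G) : Set G) := by
  have h3 : X ⊔ Y ≤ Subgroup.centralizer ({z} : Set G) := by
    refine sup_le ?_ ?_
    · intro x hx
      rw [Subgroup.mem_centralizer_singleton_iff]
      exact (Subgroup.mem_centralizer_iff.mp h1 x hx)
    · intro y hy
      rw [Subgroup.mem_centralizer_singleton_iff]
      exact (Subgroup.mem_centralizer_iff.mp h2 y hy)
  rw [Subgroup.mem_centralizer_iff]
  intro w hw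
  exact Subgroup.mem_centralizer_singleton_iff.mp (h3 hw)

theorem mem_centralizer_zpowers {a z : G} (h : z ∈ Subgroup.centralizer ({a} : Set G)) :
    z ∈ Subgroup.centralizer ((Subgroup.zpowers a : Subgroup G) : Set G) := by
  rw [Subgroup.zpowers_eq_closure, Subgroup.centralizer_closure]
  exact h

end Cfsg.Agent.Lib.Helper13
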