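import Mathlib
import Cfsg.Agent.Lib.Helper13.KBalance2

set_option autoImplicit false

namespace Cfsg.Agent.Lib.Helper13

open Cfsg Cfsg.Agent.Lib.Helper10

variable {G : Type*} [Group G]

theorem not_dvd_card_of_le_cpc [Finite G] {p : ℕ} [hp : Fact p.Prime] {X : Subgroup G} {c : G}
    (h : X ≤ centralizerPPrimeCore p c) : ¬ p ∣ Nat.card ↥X := by
  have h1 : (Nat.card ↥X).Coprime p :=
    Nat.Coprime.coprime_dvd_left (Subgroup.card_dvd_of_le h) (cpc_card_coprime p c)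
  intro hd
  exact hp.out.one_lt.ne' (Nat.eq_one_of_dvd_coprimes h1 hd (dvd_refl p))

/-- The key claim: `T(C) ∩ C(B) ≤ Δ(B)` for `C ≤ B`. -/
theorem tsub_inf_centralizer_le [Finite G] {p k : ℕ} [hp : Fact p.Prime] {A : Subgroup G}
    (hA : IsElementaryAbelian p A) (hAk : p ^ (k + 2) ≤ Nat.card ↥A)
    (hbal : IsKBalancedWrt p k A)
    (hsolv : ∀ a ∈ A, a ≠ 1 → Group.IsSolvable ↥(centralizerPPrimeCore p a)) :
    ∀ m : ℕ, ∀ C : Subgroup G, C ≤ A → C ≠ ⊥ → Nat.card ↥A - Nat.card ↥C = m →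
      ∀ B : Subgroup G, C ≤ B → B ≤ A → p ^ k ≤ Nat.card ↥B →
        tsub p k A C ⊓ Subgroup.centralizer (B : Set G) ≤ signalizerDelta p B := by
  intro m
  induction m using Nat.strong_induction_on with
  | _ m ih =>
  intro C hCA hC1 hm B hCB hBA hBk
  have hcomm : ∀ a ∈ A, ∀ b ∈ A, a * b = b * a := fun a ha b hb => elemAb_commute p hA ha hb
  have hp2 : 2 ≤ p := hp.out.two_le
  by_cases hCk : p ^ k ≤ Nat.card ↥C
  · exact le_trans (inf_le_inf_right _ (tsub_le_sigDelta p k))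
      (sigDelta_inf_centralizer_le hbal hCA (elemAb_mono p hA hCA) hCk hBA)
  push Not at hCk
  have hcard3 : p ^ 3 * Nat.card ↥C ≤ Nat.card ↥A := by
    obtain ⟨j, hj⟩ := ((elemAb_isPGroup p hA).to_le hCA).exists_card_eq
    rw [hj] at hCk ⊢
    have hjk : j < k := (Nat.pow_lt_pow_iff_right (by omega)).mp hCk
    calc p ^ 3 * p ^ j = p ^ (3 + j) := (pow_add p 3 j).symm
      _ ≤ p ^ (k + 2) := Nat.pow_le_pow_right (by omega) (by omega)
      _ ≤ Nat.card ↥A := hAk
  have hA1 : p ^ (k + 1) ≤ Nat.card ↥A :=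
    le_trans (Nat.pow_le_pow_right (by omega) (by omega)) hAk
  have hA2 : p ^ 2 ≤ Nat.card ↥A :=
    le_trans (Nat.pow_le_pow_right (by omega) (by omega)) hAk
  obtain ⟨c, hcC, hc1⟩ : ∃ c ∈ C, c ≠ 1 := by
    obtain ⟨c, hc⟩ := Subgroup.ne_bot_iff_exists_ne_one.mp hC1
    exact ⟨c.1, c.2, fun h => hc (Subtype.ext h)⟩
  have ih' : ∀ x ∈ A, x ∉ C → ∀ B' : Subgroup G, C ⊔ Subgroup.zpowers x ≤ B' → B' ≤ A →
      p ^ k ≤ Nat.card ↥B' →
      tsub p k A (C ⊔ Subgroup.zpowers x) ⊓ Subgroup.centralizer (B' : Set G) ≤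
        signalizerDelta p B' := by
    intro x hxA hxC
    have hC'A : C ⊔ Subgroup.zpowers x ≤ A := sup_le hCA (Subgroup.zpowers_le.mpr hxA)
    have hne : C ≠ C ⊔ Subgroup.zpowers x := by
      intro h
      apply hxC
      rw [h]
      exact (le_sup_right : Subgroup.zpowers x ≤ C ⊔ Subgroup.zpowers x) (Subgroup.mem_zpowers x)
    have h1 : Nat.card ↥C < Nat.card ↥(C ⊔ Subgroup.zpowers x) := by
      refine lt_of_le_of_ne (Subgroup.card_le_of_le le_sup_left) ?_
      intro heq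
      exact hne (Subgroup.eq_of_le_of_card_ge le_sup_left heq.ge)
    have h2 : Nat.card ↥(C ⊔ Subgroup.zpowers x) ≤ Nat.card ↥A := Subgroup.card_le_of_le hC'A
    refine ih (Nat.card ↥A - Nat.card ↥(C ⊔ Subgroup.zpowers x)) (by omega)
      (C ⊔ Subgroup.zpowers x) hC'A ?_ rfl
    intro h
    apply hC1
    rw [eq_bot_iff, ← h]
    exact le_sup_left
  have hTp : ∀ X : Subgroup G, X ≤ tsub p k A C → ¬ p ∣ Nat.card ↥X :=
    fun X hX => not_dvd_card_of_le_cpc (le_trans hX (tsub_le_cpc p k hcC hc1))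
  have key := sig_gen hA hCA hcard3 (fun x => tsub p k A (C ⊔ Subgroup.zpowers x))
    (fun x _ _ => le_normalizer_tsub p k hcomm) (by
      intro x hxA hxC y hyA hyC
      have hXA : A ≤ Subgroup.normalizer ((tsub p k A (C ⊔ Subgroup.zpowers x) ⊓
          Subgroup.centralizer {y} : Subgroup G) : Set G) :=
        le_normalizer_inf' (le_normalizer_tsub p k hcomm)
          (le_normalizer_centralizer_of_comm hcomm (Set.singleton_subset_iff.mpr hyA))
      have hXp : ¬ p ∣ Nat.card ↥(tsub p k A (C ⊔ Subgroup.zpowers x) ⊓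
          Subgroup.centralizer {y} : Subgroup G) :=
        not_dvd_card_of_le_cpc (le_trans inf_le_left
          (tsub_le_cpc p k ((le_sup_left : C ≤ C ⊔ Subgroup.zpowers x) hcC) hc1))
      rw [Cfsg.Agent.S1324.result p A _ hA hA2 hXp hXA]
      refine iSup_le fun D => ?_
      intro z hz
      obtain ⟨hz0, hzD⟩ := Subgroup.mem_inf.mp hz
      obtain ⟨hz1, hzy⟩ := Subgroup.mem_inf.mp hz0
      have hzB₁ : z ∈ Subgroup.centralizer ((((C ⊔ Subgroup.zpowers x) ⊔ Subgroup.zpowers y) ⊔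
          (D : Subgroup G) : Subgroup G) : Set G) :=
        mem_centralizer_sup (mem_centralizer_sup (tsub_le_centralizer p k hz1)
          (mem_centralizer_zpowers hzy)) hzD
      have hB₁A : ((C ⊔ Subgroup.zpowers x) ⊔ Subgroup.zpowers y) ⊔ (D : Subgroup G) ≤ A :=
        sup_le (sup_le (sup_le hCA (Subgroup.zpowers_le.mpr hxA)) (Subgroup.zpowers_le.mpr hyA))
          D.2.1
      have hB₁k : p ^ k ≤ Nat.card ↥(((C ⊔ Subgroup.zpowers x) ⊔ Subgroup.zpowers y) ⊔
          (D : Subgroup G) : Subgroup G) :=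
        le_trans (card_ge_of_relIndex_le hp.out.pos D.2.1 hA1 D.2.2)
          (Subgroup.card_le_of_le le_sup_right)
      have h1 := ih' x hxA hxC _ (le_trans le_sup_left le_sup_left) hB₁A hB₁k
        (Subgroup.mem_inf.mpr ⟨hz1, hzB₁⟩)
      refine sigDelta_le_tsub p k ?_ hB₁A hB₁k h1
      exact sup_le (le_trans le_sup_left (le_trans le_sup_left le_sup_left))
        (le_trans le_sup_right le_sup_left))
    (Nat.card ↥(tsub p k A C)) (tsub p k A C) rfl
    (by
      haveI := hsolv c (hCA hcC) hc1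
      exact solvable_of_solvable_injective
        (Subgroup.inclusion_injective (tsub_le_cpc p k hcC hc1)))
    (hTp _ le_rfl) (le_normalizer_tsub p k hcomm) (by
      refine iSup_le fun B' => ?_
      obtain ⟨x, hxB, hxC⟩ : ∃ x ∈ (B' : Subgroup G), x ∉ C := by
        by_contra hcon
        push Not at hcon
        have h1 : (B' : Subgroup G) ≤ C := hcon
        have h2 := Subgroup.card_le_of_le h1
        have h3 := B'.2.2.2
        omega
      refine le_trans ?_ (le_iSup (fun x : {x : G // x ∈ A ∧ x ∉ C} =>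
        tsub p k A C ⊓ tsub p k A (C ⊔ Subgroup.zpowers (x : G))) ⟨x, B'.2.2.1 hxB, hxC⟩)
      exact le_inf (sigDelta_le_tsub p k B'.2.1 B'.2.2.1 B'.2.2.2)
        (sigDelta_le_tsub p k (sup_le B'.2.1 (Subgroup.zpowers_le.mpr hxB)) B'.2.2.1 B'.2.2.2))
  obtain ⟨x, hxB, hxC⟩ : ∃ x ∈ B, x ∉ C := by
    by_contra hcon
    push Not at hcon
    have h1 : B ≤ C := hcon
    have h2 := Subgroup.card_le_of_le h1
    omega
  intro z hz
  obtain ⟨hz1, hz2⟩ := Subgroup.mem_inf.mp hz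
  have hzx : z ∈ Subgroup.centralizer ({x} : Set G) :=
    Subgroup.centralizer_le (Set.singleton_subset_iff.mpr hxB) hz2
  have h1 := key x (hBA hxB) hxC (Subgroup.mem_inf.mpr ⟨hz1, hzx⟩)
  exact ih' x (hBA hxB) hxC B (sup_le hCB (Subgroup.zpowers_le.mpr hxB)) hBA hBk
    (Subgroup.mem_inf.mpr ⟨h1, hz2⟩)

end Cfsg.Agent.Lib.Helper13
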