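import Mathlib
import Cfsg.Agent.Lib.Helper13.KBalance3

set_option autoImplicit false

namespace Cfsg.Agent.Lib.Helper13

open Cfsg Cfsg.Agent.Lib.Helper10

variable {G : Type*} [Group G]

/-- Under `k`-balance with respect to `A` (rank at least `k + 2`) and solvability of the cores
`O_{p'}(C_G(a))`, the `k`-balanced functor is an `A`-signalizer functor. -/
theorem kbal_isSignalizerFunctor [Finite G] {p k : ℕ} [hp : Fact p.Prime] {A : Subgroup G}
    (hA : IsElementaryAbelian p A) (hAk : p ^ (k + 2) ≤ Nat.card ↥A)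
    (hbal : IsKBalancedWrt p k A)
    (hsolv : ∀ a ∈ A, a ≠ 1 → Group.IsSolvable ↥(centralizerPPrimeCore p a)) :
    IsSignalizerFunctor p A (kBalancedTheta p k A) := by
  have hcomm : ∀ a ∈ A, ∀ b ∈ A, a * b = b * a := fun a ha b hb => elemAb_commute p hA ha hb
  have hp2 : 2 ≤ p := hp.out.two_le
  have hA1 : p ^ (k + 1) ≤ Nat.card ↥A :=
    le_trans (Nat.pow_le_pow_right (by omega) (by omega)) hAk
  have hA2 : p ^ 2 ≤ Nat.card ↥A :=
    le_trans (Nat.pow_le_pow_right (by omega) (by omega)) hAk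
  have hle : ∀ a ∈ A, a ≠ 1 → kBalancedTheta p k A a ≤ centralizerPPrimeCore p a := by
    intro a ha ha1
    unfold kBalancedTheta
    exact iSup_le fun B => hbal B.1 B.2.1 B.2.2.1 B.2.2.2 a ha ha1
  have hnorm : ∀ a ∈ A, A ≤ Subgroup.normalizer (kBalancedTheta p k A a : Set G) := by
    intro a ha
    unfold kBalancedTheta
    exact le_normalizer_iSup' fun B => le_normalizer_inf' (le_normalizer_sigDelta p hcomm B.2.1)
      (le_normalizer_centralizer_of_comm hcomm (Set.singleton_subset_iff.mpr ha))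
  refine ⟨?_, ?_, ?_, ?_⟩
  · intro a _ _
    unfold kBalancedTheta
    exact iSup_le fun B => inf_le_right
  · intro a ha ha1
    exact not_dvd_card_of_le_cpc (hle a ha ha1)
  · intro a ha _ b hb x hx
    exact conj_mem_of_mem_normalizer (hnorm a ha hb) hx
  · intro a ha ha1 b hb hb1
    -- θ a ≤ T(⟨a⟩)
    have h2a : kBalancedTheta p k A a ≤ tsub p k A (Subgroup.zpowers a) := by
      unfold kBalancedTheta
      refine iSup_le fun B => ?_
      have hYA : A ≤ Subgroup.normalizer ((signalizerDelta p (B : Subgroup G) ⊓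
          Subgroup.centralizer {a} : Subgroup G) : Set G) :=
        le_normalizer_inf' (le_normalizer_sigDelta p hcomm B.2.1)
          (le_normalizer_centralizer_of_comm hcomm (Set.singleton_subset_iff.mpr ha))
      have hYp : ¬ p ∣ Nat.card ↥(signalizerDelta p (B : Subgroup G) ⊓
          Subgroup.centralizer {a} : Subgroup G) :=
        not_dvd_card_of_le_cpc (hbal B.1 B.2.1 B.2.2.1 B.2.2.2 a ha ha1)
      rw [Cfsg.Agent.S1324.result p A _ hA hA2 hYp hYA]
      refine iSup_le fun D => ?_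
      intro z hz
      obtain ⟨hz0, hzD⟩ := Subgroup.mem_inf.mp hz
      obtain ⟨hz1, hza⟩ := Subgroup.mem_inf.mp hz0
      have hB₁A : Subgroup.zpowers a ⊔ (D : Subgroup G) ≤ A :=
        sup_le (Subgroup.zpowers_le.mpr ha) D.2.1
      have hB₁k : p ^ k ≤ Nat.card ↥(Subgroup.zpowers a ⊔ (D : Subgroup G) : Subgroup G) :=
        le_trans (card_ge_of_relIndex_le hp.out.pos D.2.1 hA1 D.2.2)
          (Subgroup.card_le_of_le le_sup_right)
      have h1 : z ∈ signalizerDelta p (Subgroup.zpowers a ⊔ (D : Subgroup G)) :=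
        sigDelta_inf_centralizer_le hbal B.2.1 B.2.2.1 B.2.2.2 hB₁A
          (Subgroup.mem_inf.mpr ⟨hz1, mem_centralizer_sup (mem_centralizer_zpowers hza) hzD⟩)
      exact sigDelta_le_tsub p k le_sup_left hB₁A hB₁k h1
    have hXA : A ≤ Subgroup.normalizer ((kBalancedTheta p k A a ⊓
        Subgroup.centralizer {b} : Subgroup G) : Set G) :=
      le_normalizer_inf' (hnorm a ha)
        (le_normalizer_centralizer_of_comm hcomm (Set.singleton_subset_iff.mpr hb))
    have hXp : ¬ p ∣ Nat.card ↥(kBalancedTheta p k A a ⊓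
        Subgroup.centralizer {b} : Subgroup G) :=
      not_dvd_card_of_le_cpc (le_trans inf_le_left (hle a ha ha1))
    rw [Cfsg.Agent.S1324.result p A _ hA hA2 hXp hXA]
    refine iSup_le fun D => ?_
    intro z hz
    obtain ⟨hz0, hzD⟩ := Subgroup.mem_inf.mp hz
    obtain ⟨hz1, hzb⟩ := Subgroup.mem_inf.mp hz0
    have hzT : z ∈ tsub p k A (Subgroup.zpowers a) := h2a hz1
    have hzB₁ : z ∈ Subgroup.centralizer (((Subgroup.zpowers a ⊔ Subgroup.zpowers b) ⊔
        (D : Subgroup G) : Subgroup G) : Set G) :=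
      mem_centralizer_sup (mem_centralizer_sup (tsub_le_centralizer p k hzT)
        (mem_centralizer_zpowers hzb)) hzD
    have hB₁A : (Subgroup.zpowers a ⊔ Subgroup.zpowers b) ⊔ (D : Subgroup G) ≤ A :=
      sup_le (sup_le (Subgroup.zpowers_le.mpr ha) (Subgroup.zpowers_le.mpr hb)) D.2.1
    have hB₁k : p ^ k ≤ Nat.card ↥((Subgroup.zpowers a ⊔ Subgroup.zpowers b) ⊔
        (D : Subgroup G) : Subgroup G) :=
      le_trans (card_ge_of_relIndex_le hp.out.pos D.2.1 hA1 D.2.2)
        (Subgroup.card_le_of_le le_sup_right)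
    have h1 : z ∈ signalizerDelta p ((Subgroup.zpowers a ⊔ Subgroup.zpowers b) ⊔
        (D : Subgroup G)) :=
      tsub_inf_centralizer_le hA hAk hbal hsolv _ (Subgroup.zpowers a)
        (Subgroup.zpowers_le.mpr ha) (Subgroup.zpowers_ne_bot.mpr ha1) rfl _
        (le_trans le_sup_left le_sup_left) hB₁A hB₁k (Subgroup.mem_inf.mpr ⟨hzT, hzB₁⟩)
    have h2 : z ∈ signalizerDelta p ((Subgroup.zpowers a ⊔ Subgroup.zpowers b) ⊔
        (D : Subgroup G)) ⊓ Subgroup.centralizer {b} := Subgroup.mem_inf.mpr ⟨h1, hzb⟩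
    unfold kBalancedTheta
    exact le_iSup (fun B : {B : Subgroup G // B ≤ A ∧ IsElementaryAbelian p B ∧
        p ^ k ≤ Nat.card ↥B} => signalizerDelta p (B : Subgroup G) ⊓ Subgroup.centralizer {b})
      ⟨_, hB₁A, elemAb_mono p hA hB₁A, hB₁k⟩ h2

end Cfsg.Agent.Lib.Helper13
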