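import Mathlib
import Cfsg.Prelude.Def_ConjugacyFunctors

set_option autoImplicit false

/-! The K-infinity sequences inside an ambient group, and transport along injective homomorphisms
(helper13). -/

namespace Cfsg.Agent.Lib.Helper13

open Cfsg

section Transport

variable {P G : Type*} [Group P] [Group G] {f : P →* G}

theorem kmap_zIn (hf : Function.Injective f) (B : Subgroup P) :
    (B ⊓ Subgroup.centralizer (B : Set P)).map f =
      B.map f ⊓ Subgroup.centralizer ((B.map f : Subgroup G) : Set G) := by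
  ext y
  rw [Subgroup.mem_map, Subgroup.mem_inf, Subgroup.mem_map, Subgroup.mem_centralizer_iff]
  constructor
  · rintro ⟨x, hx, rfl⟩
    rw [Subgroup.mem_inf, Subgroup.mem_centralizer_iff] at hx
    refine ⟨⟨x, hx.1, rfl⟩, ?_⟩
    rintro _ ⟨b, hb, rfl⟩
    rw [← map_mul, ← map_mul, hx.2 b hb]
  · rintro ⟨⟨x, hxB, rfl⟩, hC⟩
    refine ⟨x, ?_, rfl⟩
    rw [Subgroup.mem_inf, Subgroup.mem_centralizer_iff]
    refine ⟨hxB, ?_⟩
    intro b hb
    apply hf
    rw [map_mul, map_mul]
    exact hC (f b) ⟨b, hb, rfl⟩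

theorem kmap_le_centralizer_iff (hf : Function.Injective f) (C B : Subgroup P) :
    C.map f ≤ Subgroup.centralizer ((B.map f : Subgroup G) : Set G) ↔
      C ≤ Subgroup.centralizer (B : Set P) := by
  rw [← Subgroup.commutator_eq_bot_iff_le_centralizer, ← Subgroup.commutator_eq_bot_iff_le_centralizer,
    ← Subgroup.map_commutator, Subgroup.map_eq_bot_iff_of_injective _ hf]

theorem kmap_le_normalizer_iff (hf : Function.Injective f) (Q B : Subgroup P) :
    Q.map f ≤ Subgroup.normalizer ((B.map f : Subgroup G) : Set G) ↔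
      Q ≤ Subgroup.normalizer (B : Set P) := by
  rw [Subgroup.le_normalizer_iff_commutator_le_right, Subgroup.le_normalizer_iff_commutator_le_right,
    ← Subgroup.map_commutator, Subgroup.map_le_map_iff_of_injective hf]

theorem kmap_classTwo_iff (hf : Function.Injective f) (B : Subgroup P) :
    B.map f ∈ Cfsg.classTwoSubgroups G ↔ B ∈ Cfsg.classTwoSubgroups P := by
  show ⁅B.map f, B.map f⁆ ≤ Subgroup.centralizer ((B.map f : Subgroup G) : Set G) ↔
    ⁅B, B⁆ ≤ Subgroup.centralizer (B : Set P)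
  rw [← Subgroup.map_commutator, kmap_le_centralizer_iff hf]

theorem kmap_upper_iff (hf : Function.Injective f) (B Q : Subgroup P) :
    B.map f ∈ Cfsg.kUpperStarFamily (Q.map f) ↔ B ∈ Cfsg.kUpperStarFamily Q := by
  show (B.map f ∈ Cfsg.classTwoSubgroups G ∧
    ⁅B.map f, Q.map f⁆ ≤ B.map f ⊓ Subgroup.centralizer ((B.map f : Subgroup G) : Set G)) ↔
    (B ∈ Cfsg.classTwoSubgroups P ∧ ⁅B, Q⁆ ≤ B ⊓ Subgroup.centralizer (B : Set P))
  rw [kmap_classTwo_iff hf, ← kmap_zIn hf, ← Subgroup.map_commutator,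
    Subgroup.map_le_map_iff_of_injective hf]

theorem kmap_lower_cond_iff (hf : Function.Injective f) (B A Q : Subgroup P) :
    (A.map f ∈ Cfsg.classTwoSubgroups G → A.map f ≤ Q.map f →
      B.map f ≤ Subgroup.normalizer ((A.map f : Subgroup G) : Set G) →
      ⁅B.map f, ⁅A.map f, A.map f⁆⁆ = ⊥ →
      ⁅⁅B.map f ⊓ Subgroup.centralizer ((B.map f : Subgroup G) : Set G), A.map f⁆, A.map f⁆ = ⊥ →
      ⁅B.map f, A.map f⁆ ≤ B.map f ⊓ Subgroup.centralizer ((B.map f : Subgroup G) : Set G)) ↔
    (A ∈ Cfsg.classTwoSubgroups P → A ≤ Q →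
      B ≤ Subgroup.normalizer (A : Set P) → ⁅B, ⁅A, A⁆⁆ = ⊥ →
      ⁅⁅B ⊓ Subgroup.centralizer (B : Set P), A⁆, A⁆ = ⊥ →
      ⁅B, A⁆ ≤ B ⊓ Subgroup.centralizer (B : Set P)) := by
  rw [kmap_classTwo_iff hf, Subgroup.map_le_map_iff_of_injective hf, kmap_le_normalizer_iff hf,
    ← kmap_zIn hf, ← Subgroup.map_commutator, ← Subgroup.map_commutator, ← Subgroup.map_commutator,
    ← Subgroup.map_commutator, ← Subgroup.map_commutator,
    Subgroup.map_eq_bot_iff_of_injective _ hf, Subgroup.map_eq_bot_iff_of_injective _ hf,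
    Subgroup.map_le_map_iff_of_injective hf]

theorem kmap_lower_iff (hf : Function.Injective f) (B Q : Subgroup P) :
    B.map f ∈ Cfsg.kLowerStarFamily (Q.map f) ↔ B ∈ Cfsg.kLowerStarFamily Q := by
  show (B.map f ∈ Cfsg.classTwoSubgroups G ∧
      Q.map f ≤ Subgroup.normalizer ((B.map f : Subgroup G) : Set G) ∧
      ∀ A' ∈ Cfsg.classTwoSubgroups G, A' ≤ Q.map f →
        B.map f ≤ Subgroup.normalizer ((A' : Subgroup G) : Set G) → ⁅B.map f, ⁅A', A'⁆⁆ = ⊥ →
        ⁅⁅B.map f ⊓ Subgroup.centralizer ((B.map f : Subgroup G) : Set G), A'⁆, A'⁆ = ⊥ →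
        ⁅B.map f, A'⁆ ≤ B.map f ⊓ Subgroup.centralizer ((B.map f : Subgroup G) : Set G)) ↔
    (B ∈ Cfsg.classTwoSubgroups P ∧ Q ≤ Subgroup.normalizer (B : Set P) ∧
      ∀ A ∈ Cfsg.classTwoSubgroups P, A ≤ Q → B ≤ Subgroup.normalizer (A : Set P) →
        ⁅B, ⁅A, A⁆⁆ = ⊥ → ⁅⁅B ⊓ Subgroup.centralizer (B : Set P), A⁆, A⁆ = ⊥ →
        ⁅B, A⁆ ≤ B ⊓ Subgroup.centralizer (B : Set P))
  rw [kmap_classTwo_iff hf, kmap_le_normalizer_iff hf]
  refine and_congr_right (fun _ => and_congr_right (fun _ => ?_))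
  constructor
  · intro h A
    exact (kmap_lower_cond_iff hf B A Q).mp (h (A.map f))
  · intro h A' hA'c hA'Q
    have hA'r : A' ≤ f.range := hA'Q.trans (Subgroup.map_le_range f Q)
    have hA' : (A'.comap f).map f = A' := Subgroup.map_comap_eq_self hA'r
    have := (kmap_lower_cond_iff hf B (A'.comap f) Q).mpr (h (A'.comap f))
    rw [hA'] at this
    exact this hA'c hA'Q

end Transport

section Ambient

variable {G : Type*} [Group G]

/-- The upper-star family relative to `Q`, cut down to the subgroups of `P`. -/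
def upIn (P Q : Subgroup G) : Set (Subgroup G) := {B | B ∈ Cfsg.kUpperStarFamily Q ∧ B ≤ P}

/-- The lower-star family relative to `Q`, cut down to the subgroups of `P`. -/
def lowIn (P Q : Subgroup G) : Set (Subgroup G) := {B | B ∈ Cfsg.kLowerStarFamily Q ∧ B ≤ P}

/-- The odd terms of the K-sequence of the subgroup `P`, inside the ambient group. -/
def kOddIn (P : Subgroup G) : ℕ → Subgroup G
  | 0 => P
  | n + 1 => sSup (upIn P (sSup (lowIn P (kOddIn P n))))

/-- The even terms of the K-sequence of the subgroup `P`, inside the ambient group. -/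
def kEvenIn (P : Subgroup G) (n : ℕ) : Subgroup G := sSup (lowIn P (kOddIn P n))

theorem kOddIn_zero (P : Subgroup G) : kOddIn P 0 = P := rfl

theorem kOddIn_succ (P : Subgroup G) (n : ℕ) :
    kOddIn P (n + 1) = sSup (upIn P (kEvenIn P n)) := rfl

end Ambient

section Transport2

variable {P G : Type*} [Group P] [Group G] {f : P →* G}

theorem kmap_sSup_upper (hf : Function.Injective f) (Q : Subgroup P) :
    (sSup (Cfsg.kUpperStarFamily Q)).map f = sSup (upIn f.range (Q.map f)) := by
  apply le_antisymm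
  · rw [Subgroup.map_le_iff_le_comap]
    apply sSup_le
    intro B hB
    rw [← Subgroup.map_le_iff_le_comap]
    exact le_sSup ⟨(kmap_upper_iff hf B Q).mpr hB, Subgroup.map_le_range f B⟩
  · apply sSup_le
    rintro B' ⟨hB', hB'r⟩
    have h1 : (B'.comap f).map f = B' := Subgroup.map_comap_eq_self hB'r
    rw [← h1] at hB' ⊢
    exact Subgroup.map_mono (le_sSup ((kmap_upper_iff hf _ Q).mp hB'))

theorem kmap_sSup_lower (hf : Function.Injective f) (Q : Subgroup P) :
    (sSup (Cfsg.kLowerStarFamily Q)).map f = sSup (lowIn f.range (Q.map f)) := by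
  apply le_antisymm
  · rw [Subgroup.map_le_iff_le_comap]
    apply sSup_le
    intro B hB
    rw [← Subgroup.map_le_iff_le_comap]
    exact le_sSup ⟨(kmap_lower_iff hf B Q).mpr hB, Subgroup.map_le_range f B⟩
  · apply sSup_le
    rintro B' ⟨hB', hB'r⟩
    have h1 : (B'.comap f).map f = B' := Subgroup.map_comap_eq_self hB'r
    rw [← h1] at hB' ⊢
    exact Subgroup.map_mono (le_sSup ((kmap_lower_iff hf _ Q).mp hB'))

theorem kmap_seqOdd (hf : Function.Injective f) (n : ℕ) :
    (Cfsg.kSeqOdd P n).map f = kOddIn f.range n := by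
  induction n with
  | zero =>
    show (⊤ : Subgroup P).map f = f.range
    rw [MonoidHom.range_eq_map]
  | succ n ih =>
    show (sSup (Cfsg.kUpperStarFamily (sSup (Cfsg.kLowerStarFamily (Cfsg.kSeqOdd P n))))).map f =
      sSup (upIn f.range (sSup (lowIn f.range (kOddIn f.range n))))
    rw [kmap_sSup_upper hf, kmap_sSup_lower hf, ih]

theorem kmap_seqEven (hf : Function.Injective f) (n : ℕ) :
    (Cfsg.kSeqEven P n).map f = kEvenIn f.range n := by
  show (sSup (Cfsg.kLowerStarFamily (Cfsg.kSeqOdd P n))).map f = sSup (lowIn f.range (kOddIn f.range n))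
  rw [kmap_sSup_lower hf, kmap_seqOdd hf]

end Transport2

section Transport3

universe u

variable {P G : Type u} [Group P] [Group G] {f : P →* G}

theorem kmap_infLower (hf : Function.Injective f) :
    (Cfsg.kInfLower P).map f = ⨆ n, kEvenIn f.range n := by
  show (⨆ n, Cfsg.kSeqEven P n).map f = _
  rw [Subgroup.map_iSup]
  exact iSup_congr (fun n => kmap_seqEven hf n)

theorem kmap_infUpper (hf : Function.Injective f) :
    (Cfsg.kInfUpper P).map f = ⨅ n, kOddIn f.range n := by
  show (⨅ n, Cfsg.kSeqOdd P n).map f = _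
  rw [Subgroup.map_iInf _ hf]
  exact iInf_congr (fun n => kmap_seqOdd hf n)

/-- The lower K-infinity subgroup of a subgroup, inside the ambient group. -/
theorem inducedFunctor_kInfLower (S : Subgroup G) :
    Cfsg.inducedFunctor (G := G) Cfsg.kInfLower S = ⨆ n, kEvenIn S n := by
  show (Cfsg.kInfLower ↥S).map S.subtype = _
  rw [kmap_infLower (Subgroup.subtype_injective S), Subgroup.range_subtype]

theorem inducedFunctor_kInfUpper (S : Subgroup G) :
    Cfsg.inducedFunctor (G := G) Cfsg.kInfUpper S = ⨅ n, kOddIn S n := by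
  show (Cfsg.kInfUpper ↥S).map S.subtype = _
  rw [kmap_infUpper (Subgroup.subtype_injective S), Subgroup.range_subtype]

/-- The K-infinity subgroups are carried along by isomorphisms. -/
theorem kInfLower_map_equiv {Q R : Type u} [Group Q] [Group R] (φ : Q ≃* R) :
    (Cfsg.kInfLower Q).map φ.toMonoidHom = Cfsg.kInfLower R := by
  have h1 := kmap_infLower (f := φ.toMonoidHom) φ.injective
  have h2 := kmap_infLower (f := MonoidHom.id R) Function.injective_id
  rw [Subgroup.map_id] at h2
  rw [h1, h2]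
  have : φ.toMonoidHom.range = (MonoidHom.id R).range := by
    rw [MonoidHom.range_eq_top.mpr φ.surjective, MonoidHom.range_eq_top.mpr Function.surjective_id]
  rw [this]

theorem kInfUpper_map_equiv {Q R : Type u} [Group Q] [Group R] (φ : Q ≃* R) :
    (Cfsg.kInfUpper Q).map φ.toMonoidHom = Cfsg.kInfUpper R := by
  have h1 := kmap_infUpper (f := φ.toMonoidHom) φ.injective
  have h2 := kmap_infUpper (f := MonoidHom.id R) Function.injective_id
  rw [Subgroup.map_id] at h2
  rw [h1, h2]
  have : φ.toMonoidHom.range = (MonoidHom.id R).range := by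
    rw [MonoidHom.range_eq_top.mpr φ.surjective, MonoidHom.range_eq_top.mpr Function.surjective_id]
  rw [this]

end Transport3

end Cfsg.Agent.Lib.Helper13
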