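import Cfsg.Agent.Lib.Helper13.KInfA

set_option autoImplicit false

/-! The K-infinity subgroups contain the centre and are isomorphism-invariant functors (helper13). -/

namespace Cfsg.Agent.Lib.Helper13

open Cfsg

section Center

variable {P : Type*} [Group P]

theorem center_mem_lower (Q : Subgroup P) : Subgroup.center P ∈ Cfsg.kLowerStarFamily Q := by
  have h1 : ∀ A : Subgroup P, ⁅Subgroup.center P, A⁆ = ⊥ := fun A =>
    Subgroup.commutator_eq_bot_iff_le_centralizer.mpr (Subgroup.center_le_centralizer _)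
  refine ⟨?_, ?_, ?_⟩
  · show ⁅Subgroup.center P, Subgroup.center P⁆ ≤ _
    rw [h1]
    exact bot_le
  · rw [Subgroup.normalizer_eq_top]
    exact le_top
  · intro A _ _ _ _ _
    rw [h1]
    exact bot_le

theorem center_mem_upper (Q : Subgroup P) : Subgroup.center P ∈ Cfsg.kUpperStarFamily Q := by
  have h1 : ∀ A : Subgroup P, ⁅Subgroup.center P, A⁆ = ⊥ := fun A =>
    Subgroup.commutator_eq_bot_iff_le_centralizer.mpr (Subgroup.center_le_centralizer _)
  refine ⟨?_, ?_⟩
  · show ⁅Subgroup.center P, Subgroup.center P⁆ ≤ _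
    rw [h1]
    exact bot_le
  · rw [h1]
    exact bot_le

theorem center_le_kSeqEven (n : ℕ) : Subgroup.center P ≤ Cfsg.kSeqEven P n :=
  le_sSup (center_mem_lower _)

theorem center_le_kSeqOdd (n : ℕ) : Subgroup.center P ≤ Cfsg.kSeqOdd P n := by
  cases n with
  | zero => exact le_top
  | succ n => exact le_sSup (center_mem_upper _)

end Center

section Functor

universe u

theorem center_le_kInfLower (P : Type u) [Group P] : Subgroup.center P ≤ Cfsg.kInfLower P :=
  (center_le_kSeqEven 0).trans (le_iSup (fun n => Cfsg.kSeqEven P n) 0)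

theorem center_le_kInfUpper (P : Type u) [Group P] : Subgroup.center P ≤ Cfsg.kInfUpper P :=
  le_iInf (fun n => center_le_kSeqOdd n)

theorem isCharPFunctor_kInfLower (p : ℕ) [Fact p.Prime] :
    Cfsg.IsCharPFunctor.{u} p Cfsg.kInfLower := by
  refine ⟨?_, ?_⟩
  · intro Q _ _ hQ hnt h
    have := hQ.center_nontrivial
    have h1 : Subgroup.center Q = ⊥ := le_bot_iff.mp (h ▸ center_le_kInfLower Q)
    exact (Subgroup.nontrivial_iff_ne_bot _).mp this h1
  · intro Q R _ _ _ _ φ
    exact kInfLower_map_equiv φ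

theorem isCharPFunctor_kInfUpper (p : ℕ) [Fact p.Prime] :
    Cfsg.IsCharPFunctor.{u} p Cfsg.kInfUpper := by
  refine ⟨?_, ?_⟩
  · intro Q _ _ hQ hnt h
    have := hQ.center_nontrivial
    have h1 : Subgroup.center Q = ⊥ := le_bot_iff.mp (h ▸ center_le_kInfUpper Q)
    exact (Subgroup.nontrivial_iff_ne_bot _).mp this h1
  · intro Q R _ _ _ _ φ
    exact kInfUpper_map_equiv φ

/-- The centre of a subgroup lies in its K-infinity subgroups. -/
theorem zIn_le_inducedFunctor_kInfLower {G : Type u} [Group G] (S : Subgroup G) :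
    S ⊓ Subgroup.centralizer (S : Set G) ≤ Cfsg.inducedFunctor (G := G) Cfsg.kInfLower S := by
  intro x hx
  rw [Subgroup.mem_inf, Subgroup.mem_centralizer_iff] at hx
  refine ⟨⟨x, hx.1⟩, center_le_kInfLower ↥S ?_, rfl⟩
  rw [Subgroup.mem_center_iff]
  intro y
  apply Subtype.ext
  exact hx.2 y y.2

theorem zIn_le_inducedFunctor_kInfUpper {G : Type u} [Group G] (S : Subgroup G) :
    S ⊓ Subgroup.centralizer (S : Set G) ≤ Cfsg.inducedFunctor (G := G) Cfsg.kInfUpper S := by
  intro x hx
  rw [Subgroup.mem_inf, Subgroup.mem_centralizer_iff] at hx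
  refine ⟨⟨x, hx.1⟩, center_le_kInfUpper ↥S ?_, rfl⟩
  rw [Subgroup.mem_center_iff]
  intro y
  apply Subtype.ext
  exact hx.2 y y.2

end Functor

end Cfsg.Agent.Lib.Helper13
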