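import Cfsg.Agent.Lib.Helper13.KInfB

set_option autoImplicit false

/-! The interleaving argument: when the star families of a subgroup `S` are confined to a subgroup
`T`, the K-infinity subgroups of `S` and `T` agree (helper13). -/

namespace Cfsg.Agent.Lib.Helper13

open Cfsg

variable {G : Type*} [Group G]

theorem kUpper_anti {Q R : Subgroup G} (h : Q ≤ R) {B : Subgroup G}
    (hB : B ∈ Cfsg.kUpperStarFamily R) : B ∈ Cfsg.kUpperStarFamily Q :=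
  ⟨hB.1, (Subgroup.commutator_mono le_rfl h).trans hB.2⟩

theorem kLower_anti {Q R : Subgroup G} (h : Q ≤ R) {B : Subgroup G}
    (hB : B ∈ Cfsg.kLowerStarFamily R) : B ∈ Cfsg.kLowerStarFamily Q :=
  ⟨hB.1, h.trans hB.2.1, fun A hA hAQ => hB.2.2 A hA (hAQ.trans h)⟩

theorem upIn_anti (P : Subgroup G) {Q R : Subgroup G} (h : Q ≤ R) : upIn P R ⊆ upIn P Q :=
  fun _ hB => ⟨kUpper_anti h hB.1, hB.2⟩

theorem lowIn_anti (P : Subgroup G) {Q R : Subgroup G} (h : Q ≤ R) : lowIn P R ⊆ lowIn P Q :=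
  fun _ hB => ⟨kLower_anti h hB.1, hB.2⟩

theorem sSup_upIn_le (P Q : Subgroup G) : sSup (upIn P Q) ≤ P := sSup_le (fun _ hB => hB.2)

theorem sSup_lowIn_le (P Q : Subgroup G) : sSup (lowIn P Q) ≤ P := sSup_le (fun _ hB => hB.2)

/-- The interleaving theorem. -/
theorem kinf_sandwich {S T A₀ : Subgroup G} (hTS : T ≤ S) (hAT : A₀ ≤ T)
    (h1 : ∀ Q : Subgroup G, Q ≤ S → A₀ ∈ Cfsg.kLowerStarFamily Q)
    (h1' : ∀ Q : Subgroup G, Q ≤ T → A₀ ∈ Cfsg.kUpperStarFamily Q)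
    (h2 : ∀ Q : Subgroup G, A₀ ≤ Q → Q ≤ S → ∀ B ∈ upIn S Q, B ≤ T)
    (h3 : ∀ Q : Subgroup G, A₀ ≤ Q → Q ≤ S → ∀ B ∈ lowIn S Q, B ≤ T) :
    (⨆ n, kEvenIn S n) = (⨆ n, kEvenIn T n) ∧ (⨅ n, kOddIn S n) = (⨅ n, kOddIn T n) := by
  have hAS : A₀ ≤ S := hAT.trans hTS
  -- the families for `S` and `T` agree above `A₀`
  have hlow : ∀ Q : Subgroup G, A₀ ≤ Q → Q ≤ S → lowIn S Q = lowIn T Q := by
    intro Q hAQ hQS
    ext B
    exact ⟨fun hB => ⟨hB.1, h3 Q hAQ hQS B hB⟩, fun hB => ⟨hB.1, hB.2.trans hTS⟩⟩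
  have hup : ∀ Q : Subgroup G, A₀ ≤ Q → Q ≤ S → upIn S Q = upIn T Q := by
    intro Q hAQ hQS
    ext B
    exact ⟨fun hB => ⟨hB.1, h2 Q hAQ hQS B hB⟩, fun hB => ⟨hB.1, hB.2.trans hTS⟩⟩
  -- bounds for the `S`-sequence
  have hS : ∀ n, (A₀ ≤ kOddIn S n ∧ kOddIn S n ≤ S) ∧ (A₀ ≤ kEvenIn S n ∧ kEvenIn S n ≤ T) := by
    intro n
    induction n with
    | zero =>
      have h0 : A₀ ≤ kOddIn S 0 ∧ kOddIn S 0 ≤ S := ⟨hAS, le_rfl⟩
      refine ⟨h0, le_sSup ⟨h1 _ h0.2, hAS⟩, sSup_le (fun B hB => h3 _ h0.1 h0.2 B hB)⟩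
    | succ n ih =>
      obtain ⟨_, hAe, heT⟩ := ih
      have h0 : A₀ ≤ kOddIn S (n + 1) ∧ kOddIn S (n + 1) ≤ S := by
        rw [kOddIn_succ]
        exact ⟨le_sSup ⟨h1' _ heT, hAS⟩, sSup_upIn_le _ _⟩
      refine ⟨h0, le_sSup ⟨h1 _ h0.2, hAS⟩, sSup_le (fun B hB => h3 _ h0.1 h0.2 B hB)⟩
  have hS1 : ∀ n, kOddIn S (n + 1) ≤ T := by
    intro n
    rw [kOddIn_succ]
    exact sSup_le (fun B hB => h2 _ (hS n).2.1 ((hS n).2.2.trans hTS) B hB)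
  -- bounds for the `T`-sequence
  have hT : ∀ n, (A₀ ≤ kOddIn T n ∧ kOddIn T n ≤ T) ∧ (A₀ ≤ kEvenIn T n ∧ kEvenIn T n ≤ T) := by
    intro n
    induction n with
    | zero =>
      have h0 : A₀ ≤ kOddIn T 0 ∧ kOddIn T 0 ≤ T := ⟨hAT, le_rfl⟩
      exact ⟨h0, le_sSup ⟨h1 _ (h0.2.trans hTS), hAT⟩, sSup_lowIn_le _ _⟩
    | succ n ih =>
      obtain ⟨_, hAe, heT⟩ := ih
      have h0 : A₀ ≤ kOddIn T (n + 1) ∧ kOddIn T (n + 1) ≤ T := by
        rw [kOddIn_succ]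
        exact ⟨le_sSup ⟨h1' _ heT, hAT⟩, sSup_upIn_le _ _⟩
      exact ⟨h0, le_sSup ⟨h1 _ (h0.2.trans hTS), hAT⟩, sSup_lowIn_le _ _⟩
  -- first interleaving
  have hI1a : ∀ n, kOddIn T n ≤ kOddIn S n → kEvenIn S n ≤ kEvenIn T n := by
    intro n h
    show sSup (lowIn S (kOddIn S n)) ≤ sSup (lowIn T (kOddIn T n))
    rw [hlow _ (hS n).1.1 (hS n).1.2]
    exact sSup_le_sSup (lowIn_anti T h)
  have hI1b : ∀ n, kEvenIn S n ≤ kEvenIn T n → kOddIn T (n + 1) ≤ kOddIn S (n + 1) := by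
    intro n h
    rw [kOddIn_succ, kOddIn_succ, hup _ (hS n).2.1 ((hS n).2.2.trans hTS)]
    exact sSup_le_sSup (upIn_anti T h)
  have hI1 : ∀ n, kOddIn T n ≤ kOddIn S n ∧ kEvenIn S n ≤ kEvenIn T n := by
    intro n
    induction n with
    | zero => exact ⟨hTS, hI1a 0 hTS⟩
    | succ n ih =>
      have := hI1b n ih.2
      exact ⟨this, hI1a _ this⟩
  -- second interleaving
  have hI2a : ∀ n, kOddIn S (n + 1) ≤ kOddIn T n → kEvenIn T n ≤ kEvenIn S (n + 1) := by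
    intro n h
    show sSup (lowIn T (kOddIn T n)) ≤ sSup (lowIn S (kOddIn S (n + 1)))
    rw [hlow _ (hS (n + 1)).1.1 (hS (n + 1)).1.2]
    exact sSup_le_sSup (lowIn_anti T h)
  have hI2b : ∀ n, kEvenIn T n ≤ kEvenIn S (n + 1) → kOddIn S (n + 2) ≤ kOddIn T (n + 1) := by
    intro n h
    rw [kOddIn_succ, kOddIn_succ, hup _ (hS (n + 1)).2.1 ((hS (n + 1)).2.2.trans hTS)]
    exact sSup_le_sSup (upIn_anti T h)
  have hI2 : ∀ n, kOddIn S (n + 1) ≤ kOddIn T n ∧ kEvenIn T n ≤ kEvenIn S (n + 1) := by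
    intro n
    induction n with
    | zero => exact ⟨hS1 0, hI2a 0 (hS1 0)⟩
    | succ n ih =>
      have := hI2b n ih.2
      exact ⟨this, hI2a _ this⟩
  constructor
  · apply le_antisymm
    · exact iSup_le (fun n => (hI1 n).2.trans (le_iSup (fun n => kEvenIn T n) n))
    · exact iSup_le (fun n => (hI2 n).2.trans (le_iSup (fun n => kEvenIn S n) (n + 1)))
  · apply le_antisymm
    · exact le_iInf (fun n => (iInf_le (fun n => kOddIn S n) (n + 1)).trans (hI2 n).1)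
    · exact le_iInf (fun n => (iInf_le (fun n => kOddIn T n) n).trans (hI1 n).1)

end Cfsg.Agent.Lib.Helper13
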