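import Cfsg.Agent.Lib.Helper13.KInfD
import Cfsg.Prelude.Def_LocalEven

set_option autoImplicit false

/-! Filtered three-subgroup argument: an element acting cubically on a critical subgroup `A` and
quadratically on `Z(A)` is `4`-Engel on every chief factor below (helper13). -/

namespace Cfsg.Agent.Lib.Helper13

open Cfsg

open scoped commutatorElement

variable {G : Type*} [Group G]

/-- Three subgroups lemma modulo a normal subgroup. -/
theorem k3_normal (H₁ H₂ H₃ K : Subgroup G) [K.Normal]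
    (h1 : ⁅⁅H₂, H₃⁆, H₁⁆ ≤ K) (h2 : ⁅⁅H₃, H₁⁆, H₂⁆ ≤ K) : ⁅⁅H₁, H₂⁆, H₃⁆ ≤ K := by
  have e : ∀ A B C : Subgroup G, ⁅⁅A, B⁆, C⁆ ≤ K ↔
      ⁅⁅A.map (QuotientGroup.mk' K), B.map (QuotientGroup.mk' K)⁆, C.map (QuotientGroup.mk' K)⁆ = ⊥ := by
    intro A B C
    rw [← Subgroup.map_commutator, ← Subgroup.map_commutator, Subgroup.map_eq_bot_iff,
      QuotientGroup.ker_mk']
  rw [e] at h1 h2 ⊢
  exact Subgroup.commutator_commutator_eq_bot_of_rotate h1 h2

/-- Three subgroups lemma modulo a subgroup normalized by the three subgroups. -/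
theorem k3_rel {A B C N : Subgroup G}
    (hA : A ≤ Subgroup.normalizer (N : Set G)) (hB : B ≤ Subgroup.normalizer (N : Set G))
    (hC : C ≤ Subgroup.normalizer (N : Set G))
    (h1 : ⁅⁅B, C⁆, A⁆ ≤ N) (h2 : ⁅⁅C, A⁆, B⁆ ≤ N) : ⁅⁅A, B⁆, C⁆ ≤ N := by
  obtain ⟨X, hX⟩ : ∃ X : Subgroup G, X = Subgroup.normalizer (N : Set G) := ⟨_, rfl⟩
  rw [← hX] at hA hB hC
  have hn : (N.subgroupOf X).Normal := by
    rw [hX]
    exact Subgroup.normal_in_normalizer
  have key : ∀ S T U : Subgroup G, S ≤ X → T ≤ X → U ≤ X →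
      (⁅⁅S, T⁆, U⁆ ≤ N ↔ ⁅⁅S.subgroupOf X, T.subgroupOf X⁆, U.subgroupOf X⁆ ≤ N.subgroupOf X) := by
    intro S T U hS hT hU
    have e : (⁅⁅S.subgroupOf X, T.subgroupOf X⁆, U.subgroupOf X⁆).map X.subtype = ⁅⁅S, T⁆, U⁆ := by
      rw [Subgroup.map_commutator, Subgroup.map_commutator, Subgroup.map_subgroupOf_eq_of_le hS,
        Subgroup.map_subgroupOf_eq_of_le hT, Subgroup.map_subgroupOf_eq_of_le hU]
    rw [← e, Subgroup.map_le_iff_le_comap]
    rfl
  rw [key A B C hA hB hC]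
  rw [key B C A hB hC hA] at h1
  rw [key C A B hC hA hB] at h2
  exact k3_normal _ _ _ _ h1 h2

theorem commutator_le_of_le {A B L : Subgroup G} (hA : A ≤ L) (hB : B ≤ L) : ⁅A, B⁆ ≤ L := by
  rw [Subgroup.commutator_le]
  intro a ha b hb
  exact L.mul_mem (L.mul_mem (L.mul_mem (hA ha) (hB hb)) (L.inv_mem (hA ha))) (L.inv_mem (hB hb))

theorem kiter_le_of_le {N H L : Subgroup G} (hN : N ≤ L) (hH : H ≤ L) (k : ℕ) :
    Cfsg.iterCommutator N H k ≤ L := by
  induction k with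
  | zero => exact hN
  | succ k ih => exact commutator_le_of_le ih hH

theorem kiter_le_self (N H : Subgroup G) [hN : N.Normal] (k : ℕ) :
    Cfsg.iterCommutator N H k ≤ N := by
  induction k with
  | zero => exact le_rfl
  | succ k ih => exact (Subgroup.commutator_mono ih le_rfl).trans (Subgroup.commutator_le_left N H)

/-- One step of the filtered three-subgroup argument. -/
theorem filt_step {X H U U' V' N : Subgroup G}
    (hUH : ⁅U, H⁆ ≤ U') (hXU' : ⁅X, U'⁆ ≤ N) (hXU : ⁅X, U⁆ ≤ V') (hV'H : ⁅V', H⁆ ≤ N)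
    (hXN : X ≤ Subgroup.normalizer (N : Set G)) (hHN : H ≤ Subgroup.normalizer (N : Set G))
    (hUN : U ≤ Subgroup.normalizer (N : Set G)) :
    ⁅⁅X, H⁆, U⁆ ≤ N := by
  apply k3_rel hXN hHN hUN
  · rw [Subgroup.commutator_comm H U, Subgroup.commutator_comm _ X]
    exact (Subgroup.commutator_mono le_rfl hUH).trans hXU'
  · rw [Subgroup.commutator_comm U X]
    exact (Subgroup.commutator_mono hXU le_rfl).trans hV'H

/-- The filtered three-subgroup argument, iterated. -/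
theorem filt_iter {X H L : Subgroup G} (U V : ℕ → Subgroup G)
    (hXL : X ≤ L) (hHL : H ≤ L) (hUL : ∀ i, U i ≤ L)
    (hLV : ∀ m, L ≤ Subgroup.normalizer ((V m : Subgroup G) : Set G))
    (hU : ∀ i, ⁅U i, H⁆ ≤ U (i + 1)) (hV : ∀ m, ⁅V m, H⁆ ≤ V (m + 1))
    (hX : ∀ i, ⁅X, U i⁆ ≤ V i) :
    ∀ e i, ⁅Cfsg.iterCommutator X H e, U i⁆ ≤ V (i + e) := by
  intro e
  induction e with
  | zero => exact hX
  | succ e ih =>
    intro i
    show ⁅⁅Cfsg.iterCommutator X H e, H⁆, U i⁆ ≤ V (i + (e + 1))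
    have hXe : Cfsg.iterCommutator X H e ≤ L := kiter_le_of_le hXL hHL e
    have h1 := ih (i + 1)
    have h2 : i + 1 + e = i + (e + 1) := by omega
    rw [h2] at h1
    exact filt_step (hU i) h1 (ih i) (hV (i + e)) (hXe.trans (hLV _)) (hHL.trans (hLV _))
      ((hUL i).trans (hLV _))

theorem commutator_sup_normal_le (Y : Subgroup G) [Y.Normal] (A H : Subgroup G) :
    ⁅A ⊔ Y, H⁆ ≤ ⁅A, H⁆ ⊔ Y := by
  have h1 : ⁅A ⊔ Y, H⁆ ≤ ((⁅A, H⁆).map (QuotientGroup.mk' Y)).comap (QuotientGroup.mk' Y) := by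
    rw [← Subgroup.map_le_iff_le_comap, Subgroup.map_commutator, Subgroup.map_sup,
      QuotientGroup.map_mk'_self, sup_bot_eq, ← Subgroup.map_commutator]
  rw [Subgroup.comap_map_eq, QuotientGroup.ker_mk'] at h1
  exact h1

theorem kiter_sup_normal_le (Y : Subgroup G) [Y.Normal] (A H : Subgroup G) (m : ℕ) :
    Cfsg.iterCommutator (A ⊔ Y) H m ≤ Cfsg.iterCommutator A H m ⊔ Y := by
  induction m with
  | zero => exact le_rfl
  | succ m ih =>
    exact (Subgroup.commutator_mono ih le_rfl).trans (commutator_sup_normal_le Y _ H)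

/-- `N` is good: the relevant part of every chief factor is killed by `n`-fold commutation with
`H`. -/
def EngGood (H : Subgroup G) (n : ℕ) (N : Subgroup G) : Prop :=
  ∀ U V : Subgroup G, Cfsg.IsChiefFactor U V → Cfsg.iterCommutator (U ⊓ N) H n ≤ V

theorem engGood_bot (H : Subgroup G) (n : ℕ) : EngGood H n ⊥ := by
  intro U V _
  rw [inf_bot_eq, kiter_bot]
  exact bot_le

theorem engGood_mono {H : Subgroup G} {n : ℕ} {M N : Subgroup G} (hMN : M ≤ N)
    (hN : EngGood H n N) : EngGood H n M :=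
  fun U V hUV => (kiter_mono (inf_le_inf_left U hMN) le_rfl n).trans (hN U V hUV)

theorem engGood_step {H : Subgroup G} {n : ℕ} {M N : Subgroup G} [hMn : M.Normal]
    (h : Cfsg.iterCommutator N H n ≤ M) (hM : EngGood H n M) : EngGood H n N := by
  intro U V hUV
  obtain ⟨hlt, hUn, hVn, hmin⟩ := hUV
  have hK : ((U ⊓ M) ⊔ V).Normal := by
    have : (U ⊓ M).Normal := inferInstance
    infer_instance
  rcases hmin _ hK le_sup_right (sup_le inf_le_left hlt.le) with hKV | hKU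
  · have h1 : U ⊓ M ≤ V := by
      rw [← hKV]
      exact le_sup_left
    refine le_trans ?_ h1
    apply le_inf
    · exact (kiter_mono inf_le_left le_rfl n).trans (kiter_le_self U H n)
    · exact (kiter_mono inf_le_right le_rfl n).trans h
  · have h1 : U ⊓ N ≤ (U ⊓ M) ⊔ V := by
      rw [hKU]
      exact inf_le_left
    refine (kiter_mono h1 le_rfl n).trans ((kiter_sup_normal_le V _ H n).trans ?_)
    exact sup_le (hM U V ⟨hlt, hUn, hVn, hmin⟩) le_rfl

end Cfsg.Agent.Lib.Helper13
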