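import Cfsg.Agent.Lib.Helper13.KInfF

set_option autoImplicit false

/-! The stability series of a critical subgroup `A` of a normal `p`-subgroup `T`, and the `4`-Engel
property on chief factors below `T` (helper13). -/

namespace Cfsg.Agent.Lib.Helper13

open Cfsg

open scoped commutatorElement

variable {G : Type*} [Group G]

/-- The elements `t` with `⁅c, t⁆ ∈ N` for all `c ∈ U`. -/
def cmod (U N : Subgroup G) [hN : N.Normal] : Subgroup G where
  carrier := {t | ∀ c ∈ U, ⁅c, t⁆ ∈ N}
  one_mem' := by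
    intro c _
    rw [commutatorElement_one_right]
    exact N.one_mem
  mul_mem' := by
    intro t s ht hs c hc
    have h1 : ⁅c, t * s⁆ = ⁅c, t⁆ * (t * ⁅c, s⁆ * t⁻¹) := by
      simp only [commutatorElement_def]
      group
    rw [h1]
    exact N.mul_mem (ht c hc) (hN.conj_mem _ (hs c hc) t)
  inv_mem' := by
    intro t ht c hc
    have h1 : ⁅c, t⁻¹⁆ = t⁻¹ * (⁅c, t⁆)⁻¹ * t⁻¹⁻¹ := by
      simp only [commutatorElement_def]
      group
    rw [h1]
    exact hN.conj_mem _ (N.inv_mem (ht c hc)) t⁻¹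

theorem le_cmod_iff (U N : Subgroup G) [hN : N.Normal] (X : Subgroup G) :
    X ≤ cmod U N ↔ ⁅U, X⁆ ≤ N := by
  rw [Subgroup.commutator_le]
  constructor
  · intro h c hc x hx
    exact h hx c hc
  · intro h x hx c hc
    exact h c hc x hx

instance cmod_normal (U N : Subgroup G) [hU : U.Normal] [hN : N.Normal] : (cmod U N).Normal := by
  constructor
  intro t ht x c hc
  have h1 : ⁅c, x * t * x⁻¹⁆ = x * ⁅x⁻¹ * c * x⁻¹⁻¹, t⁆ * x⁻¹ := by
    simp only [commutatorElement_def]
    group
  rw [h1]
  exact hN.conj_mem _ (ht _ (hU.conj_mem c hc x⁻¹)) x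

section Stab

variable (T A : Subgroup G)

/-- The series `A ≥ Z(A) ≥ [Z(A), T] ≥ [Z(A), T, T] ≥ …`. -/
def cser : ℕ → Subgroup G
  | 0 => A
  | 1 => A ⊓ Subgroup.centralizer (A : Set G)
  | (m + 2) => ⁅cser (m + 1), T⁆

theorem cser_zero : cser T A 0 = A := rfl

theorem cser_one : cser T A 1 = A ⊓ Subgroup.centralizer (A : Set G) := rfl

theorem cser_succ_succ (m : ℕ) : cser T A (m + 2) = ⁅cser T A (m + 1), T⁆ := rfl

instance cser_normal [hT : T.Normal] [hA : A.Normal] : ∀ k, (cser T A k).Normal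
  | 0 => hA
  | 1 => by
    show (A ⊓ Subgroup.centralizer (A : Set G)).Normal
    infer_instance
  | (m + 2) => by
    have := cser_normal (m + 1)
    show (⁅cser T A (m + 1), T⁆).Normal
    infer_instance

variable [hT : T.Normal] [hA : A.Normal]

theorem cser_succ_le (k : ℕ) : cser T A (k + 1) ≤ cser T A k := by
  cases k with
  | zero => exact inf_le_left
  | succ m => exact Subgroup.commutator_le_left _ _

theorem cser_add_le (k j : ℕ) : cser T A (k + j) ≤ cser T A k := by
  induction j with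
  | zero => exact le_rfl
  | succ j ih => exact (cser_succ_le T A (k + j)).trans ih

theorem cser_succ_le_one (k : ℕ) : cser T A (k + 1) ≤ cser T A 1 := by
  rw [add_comm]
  exact cser_add_le T A 1 k

theorem cser_le_zero (k : ℕ) : cser T A k ≤ A := by
  have := cser_add_le T A 0 k
  rwa [zero_add] at this

/-- The stability groups of the series. -/
def tstab (j : ℕ) : Subgroup G := T ⊓ ⨅ k, cmod (cser T A k) (cser T A (k + j))

theorem le_tstab_iff (j : ℕ) (X : Subgroup G) :
    X ≤ tstab T A j ↔ X ≤ T ∧ ∀ k, ⁅cser T A k, X⁆ ≤ cser T A (k + j) := by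
  unfold tstab
  rw [le_inf_iff, le_iInf_iff]
  exact and_congr_right (fun _ => forall_congr' (fun k => le_cmod_iff _ _ X))

instance tstab_normal (j : ℕ) : (tstab T A j).Normal := by
  unfold tstab
  have : (⨅ k, cmod (cser T A k) (cser T A (k + j))).Normal :=
    Subgroup.normal_iInf_normal (fun k => inferInstance)
  infer_instance

theorem tstab_le (j : ℕ) : tstab T A j ≤ T := inf_le_left

theorem tstab_comm (j k : ℕ) : ⁅cser T A k, tstab T A j⁆ ≤ cser T A (k + j) :=
  ((le_tstab_iff T A j _).mp le_rfl).2 k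

theorem tstab_succ_le (j : ℕ) : tstab T A (j + 1) ≤ tstab T A j := by
  rw [le_tstab_iff]
  refine ⟨tstab_le T A _, fun k => ?_⟩
  exact (tstab_comm T A (j + 1) k).trans (cser_succ_le T A (k + j))

end Stab

end Cfsg.Agent.Lib.Helper13
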