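import Mathlib
import Cfsg.Prelude.Def_ConjugacyFunctors

set_option autoImplicit false

/-! Transfer of the star families of the K-sequence along the inclusion of a subgroup
(helper13). -/

namespace Cfsg.Agent.Lib.Helper13

section

variable {P : Type*} [Group P] (Q : Subgroup P)

theorem ks_map_eq_bot_iff (X : Subgroup ↥Q) : X.map Q.subtype = ⊥ ↔ X = ⊥ :=
  Subgroup.map_eq_bot_iff_of_injective X Q.subtype_injective

theorem ks_map_le_iff (X Y : Subgroup ↥Q) : X.map Q.subtype ≤ Y.map Q.subtype ↔ X ≤ Y :=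
  Subgroup.map_le_map_iff_of_injective Q.subtype_injective

theorem ks_classTwo_iff (B : Subgroup ↥Q) :
    B ∈ Cfsg.classTwoSubgroups ↥Q ↔ B.map Q.subtype ∈ Cfsg.classTwoSubgroups P := by
  show ⁅B, B⁆ ≤ Subgroup.centralizer (B : Set ↥Q) ↔
    ⁅B.map Q.subtype, B.map Q.subtype⁆ ≤ Subgroup.centralizer ((B.map Q.subtype : Subgroup P) : Set P)
  rw [← Subgroup.commutator_eq_bot_iff_le_centralizer,
    ← Subgroup.commutator_eq_bot_iff_le_centralizer, ← Subgroup.map_commutator,
    ← Subgroup.map_commutator, ks_map_eq_bot_iff]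

theorem ks_center_map (B : Subgroup ↥Q) :
    (B ⊓ Subgroup.centralizer (B : Set ↥Q)).map Q.subtype =
      B.map Q.subtype ⊓ Subgroup.centralizer ((B.map Q.subtype : Subgroup P) : Set P) := by
  ext x
  rw [Subgroup.mem_map, Subgroup.mem_inf]
  constructor
  · rintro ⟨y, hy, rfl⟩
    rw [Subgroup.mem_inf] at hy
    obtain ⟨hyB, hyC⟩ := hy
    refine ⟨Subgroup.mem_map_of_mem _ hyB, ?_⟩
    rw [Subgroup.mem_centralizer_iff]
    rintro _ ⟨b, hb, rfl⟩
    have := (Subgroup.mem_centralizer_iff.mp hyC) b hb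
    rw [← map_mul, ← map_mul, this]
  · rintro ⟨hxB, hC⟩
    obtain ⟨y, hyB, rfl⟩ := Subgroup.mem_map.mp hxB
    refine ⟨y, Subgroup.mem_inf.mpr ⟨hyB, ?_⟩, rfl⟩
    rw [Subgroup.mem_centralizer_iff]
    intro b hb
    apply Q.subtype_injective
    rw [map_mul, map_mul]
    exact (Subgroup.mem_centralizer_iff.mp hC) _ ⟨b, hb, rfl⟩

theorem ks_normalizer_iff (R B : Subgroup ↥Q) :
    R ≤ Subgroup.normalizer (B : Set ↥Q) ↔
      R.map Q.subtype ≤ Subgroup.normalizer ((B.map Q.subtype : Subgroup P) : Set P) := by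
  constructor
  · intro h
    exact (Subgroup.map_mono h).trans (Subgroup.le_normalizer_map Q.subtype)
  · intro h r hr
    have h1 : Q.subtype r ∈ Subgroup.normalizer ((B.map Q.subtype : Subgroup P) : Set P) :=
      h ⟨r, hr, rfl⟩
    rw [Subgroup.mem_normalizer_iff] at h1 ⊢
    intro x
    rw [← Subgroup.mem_map_iff_mem Q.subtype_injective (K := B) (x := x),
      ← Subgroup.mem_map_iff_mem Q.subtype_injective (K := B) (x := r * x * r⁻¹),
      map_mul, map_mul, map_inv]
    exact h1 (Q.subtype x)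

theorem ks_upper_iff (R B : Subgroup ↥Q) :
    B ∈ Cfsg.kUpperStarFamily R ↔ B.map Q.subtype ∈ Cfsg.kUpperStarFamily (R.map Q.subtype) := by
  show (B ∈ Cfsg.classTwoSubgroups ↥Q ∧ ⁅B, R⁆ ≤ B ⊓ Subgroup.centralizer (B : Set ↥Q)) ↔
    (B.map Q.subtype ∈ Cfsg.classTwoSubgroups P ∧ ⁅B.map Q.subtype, R.map Q.subtype⁆ ≤
      B.map Q.subtype ⊓ Subgroup.centralizer ((B.map Q.subtype : Subgroup P) : Set P))
  rw [ks_classTwo_iff, ← ks_center_map, ← Subgroup.map_commutator, ks_map_le_iff]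

theorem ks_lower_iff (R B : Subgroup ↥Q) :
    B ∈ Cfsg.kLowerStarFamily R ↔ B.map Q.subtype ∈ Cfsg.kLowerStarFamily (R.map Q.subtype) := by
  constructor
  · rintro ⟨h1, h2, h3⟩
    refine ⟨(ks_classTwo_iff Q B).mp h1, (ks_normalizer_iff Q R B).mp h2, ?_⟩
    intro A hA hAR hBA hc1 hc2
    have hRQ : R.map Q.subtype ≤ Q := Subgroup.map_subtype_le R
    have hAQ : A ≤ Q := hAR.trans hRQ
    have hAmap : (A.subgroupOf Q).map Q.subtype = A := Subgroup.map_subgroupOf_eq_of_le hAQ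
    rw [← hAmap] at hA hAR hBA hc1 hc2 ⊢
    rw [← ks_center_map, ← Subgroup.map_commutator, ks_map_le_iff]
    apply h3 (A.subgroupOf Q) ((ks_classTwo_iff Q _).mpr hA) ((ks_map_le_iff Q _ _).mp hAR)
      ((ks_normalizer_iff Q _ _).mpr hBA)
    · rw [← Subgroup.map_commutator, ← Subgroup.map_commutator, ks_map_eq_bot_iff] at hc1
      exact hc1
    · rw [← ks_center_map, ← Subgroup.map_commutator, ← Subgroup.map_commutator,
        ks_map_eq_bot_iff] at hc2
      exact hc2
  · rintro ⟨h1, h2, h3⟩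
    refine ⟨(ks_classTwo_iff Q B).mpr h1, (ks_normalizer_iff Q R B).mpr h2, ?_⟩
    intro A hA hAR hBA hc1 hc2
    rw [← ks_map_le_iff, Subgroup.map_commutator, ks_center_map]
    apply h3 (A.map Q.subtype) ((ks_classTwo_iff Q A).mp hA) ((ks_map_le_iff Q _ _).mpr hAR)
      ((ks_normalizer_iff Q _ _).mp hBA)
    · rw [← Subgroup.map_commutator, ← Subgroup.map_commutator, ks_map_eq_bot_iff]
      exact hc1
    · rw [← ks_center_map, ← Subgroup.map_commutator, ← Subgroup.map_commutator,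
        ks_map_eq_bot_iff]
      exact hc2

/-- The join of a star family computed in `Q`, viewed in `P`. -/
theorem ks_map_sSup_lower (R : Subgroup ↥Q) :
    (sSup (Cfsg.kLowerStarFamily R)).map Q.subtype =
      sSup {B : Subgroup P | B ≤ Q ∧ B ∈ Cfsg.kLowerStarFamily (R.map Q.subtype)} := by
  apply le_antisymm
  · rw [Subgroup.map_le_iff_le_comap]
    apply sSup_le
    intro B hB
    rw [← Subgroup.map_le_iff_le_comap]
    exact le_sSup ⟨Subgroup.map_subtype_le B, (ks_lower_iff Q R B).mp hB⟩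
  · apply sSup_le
    rintro B ⟨hBQ, hB⟩
    have hBmap : (B.subgroupOf Q).map Q.subtype = B := Subgroup.map_subgroupOf_eq_of_le hBQ
    rw [← hBmap] at hB ⊢
    exact Subgroup.map_mono (le_sSup ((ks_lower_iff Q R _).mpr hB))

theorem ks_map_sSup_upper (R : Subgroup ↥Q) :
    (sSup (Cfsg.kUpperStarFamily R)).map Q.subtype =
      sSup {B : Subgroup P | B ≤ Q ∧ B ∈ Cfsg.kUpperStarFamily (R.map Q.subtype)} := by
  apply le_antisymm
  · rw [Subgroup.map_le_iff_le_comap]
    apply sSup_le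
    intro B hB
    rw [← Subgroup.map_le_iff_le_comap]
    exact le_sSup ⟨Subgroup.map_subtype_le B, (ks_upper_iff Q R B).mp hB⟩
  · apply sSup_le
    rintro B ⟨hBQ, hB⟩
    have hBmap : (B.subgroupOf Q).map Q.subtype = B := Subgroup.map_subgroupOf_eq_of_le hBQ
    rw [← hBmap] at hB ⊢
    exact Subgroup.map_mono (le_sSup ((ks_upper_iff Q R _).mpr hB))

end

end Cfsg.Agent.Lib.Helper13
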