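import Cfsg.Agent.Lib.Helper13.KStabA

set_option autoImplicit false

/-! The forcing lemma for `p`-stable groups (helper13). -/

namespace Cfsg.Agent.Lib.Helper13

open Cfsg

open scoped commutatorElement

universe u

section Force

variable {G : Type u} [Group G] [Finite G] {p : ℕ} [hp : Fact p.Prime]

/-- If `B` acts quadratically on `R` and on `A₀ / R`, where `A₀` is a normal `p`-subgroup on which
the elements of order prime to `p` act faithfully, then `B` lies in a `p`-subgroup normalized by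
`N_G(R)`. -/
theorem nps_force (hG : Cfsg.IsNormalizerPStable p G)
    (hst : ∀ (K R : Subgroup G) [hR : (R.subgroupOf K).Normal],
      Cfsg.IsNormalizerPStable p (↥K ⧸ R.subgroupOf K))
    (A₀ : Subgroup G) [hA₀n : A₀.Normal] (hA₀p : IsPGroup p ↥A₀)
    (hfaith : ∀ x : G, (orderOf x).Coprime p → (∀ a ∈ A₀, x * a * x⁻¹ = a) → x = 1)
    (R : Subgroup G) (hRA : R ≤ A₀) (hAR : A₀ ≤ Subgroup.normalizer (R : Set G)) (B : Subgroup G)
    (hBR : B ≤ Subgroup.normalizer (R : Set G))
    (h1 : ⁅⁅R, B⁆, B⁆ = ⊥) (h2 : ⁅⁅A₀, B⁆, B⁆ ≤ R) :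
    ∃ L : Subgroup G, IsPGroup p ↥L ∧
      Subgroup.normalizer (R : Set G) ≤ Subgroup.normalizer (L : Set G) ∧ B ≤ L := by
  obtain ⟨N, hNdef⟩ : ∃ N : Subgroup G, N = Subgroup.normalizer (R : Set G) := ⟨_, rfl⟩
  have hRN : R ≤ N := hNdef ▸ Subgroup.le_normalizer
  -- first application: `P = R`
  obtain ⟨L₁, hL₁N, hNL₁, hL₁c, hL₁q⟩ := nps_local hG R (hA₀p.to_le hRA)
  have hBL₁ : B ≤ L₁ := by
    intro b hb
    apply hL₁q b (hBR hb)
    have hle : Subgroup.zpowers b ≤ B := Subgroup.zpowers_le.mpr hb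
    exact le_bot_iff.mp ((Subgroup.commutator_mono (Subgroup.commutator_mono le_rfl hle) hle).trans
      h1.le)
  -- second application: the section `N / R`, `P = A₀ R / R`
  have hRn : (R.subgroupOf (Subgroup.normalizer (R : Set G))).Normal := inferInstance
  obtain ⟨V₂, hV₂⟩ : ∃ V₂ : Subgroup (↥(Subgroup.normalizer (R : Set G)) ⧸
      R.subgroupOf (Subgroup.normalizer (R : Set G))),
      V₂ = (A₀.subgroupOf (Subgroup.normalizer (R : Set G))).map
        (QuotientGroup.mk' (R.subgroupOf (Subgroup.normalizer (R : Set G)))) := ⟨_, rfl⟩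
  have hV₂p : IsPGroup p ↥V₂ := by
    rw [hV₂]
    exact (hA₀p.comap_of_injective _ (Subgroup.subtype_injective _)).map _
  have hV₂n : V₂.Normal := by
    rw [hV₂]
    exact Subgroup.Normal.map inferInstance _ (QuotientGroup.mk'_surjective _)
  obtain ⟨L₂, -, hNL₂, hL₂c, hL₂q⟩ :=
    nps_local (hst (Subgroup.normalizer (R : Set G)) R) V₂ hV₂p
  have hV₂top : Subgroup.normalizer ((V₂ : Subgroup (↥(Subgroup.normalizer (R : Set G)) ⧸
      R.subgroupOf (Subgroup.normalizer (R : Set G)))) : Set (↥(Subgroup.normalizer (R : Set G)) ⧸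
      R.subgroupOf (Subgroup.normalizer (R : Set G)))) = ⊤ := Subgroup.normalizer_eq_top_iff.mpr hV₂n
  have hL₂n : L₂.Normal := by
    rw [hV₂top] at hNL₂
    exact Subgroup.normalizer_eq_top_iff.mp (top_le_iff.mp hNL₂)
  have hBL₂ : ∀ b (hb : b ∈ B), QuotientGroup.mk' (R.subgroupOf (Subgroup.normalizer (R : Set G)))
      ⟨b, hBR hb⟩ ∈ L₂ := by
    intro b hb
    apply hL₂q _ (by rw [hV₂top]; exact Subgroup.mem_top _)
    have hz : Subgroup.zpowers (QuotientGroup.mk' (R.subgroupOf (Subgroup.normalizer (R : Set G)))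
        ⟨b, hBR hb⟩) = (Subgroup.zpowers (⟨b, hBR hb⟩ : ↥(Subgroup.normalizer (R : Set G)))).map
        (QuotientGroup.mk' (R.subgroupOf (Subgroup.normalizer (R : Set G)))) := by
      rw [MonoidHom.map_zpowers]
    rw [hz, hV₂, ← Subgroup.map_commutator, ← Subgroup.map_commutator, eq_bot_iff]
    have hle : ⁅⁅A₀.subgroupOf (Subgroup.normalizer (R : Set G)),
        Subgroup.zpowers (⟨b, hBR hb⟩ : ↥(Subgroup.normalizer (R : Set G)))⁆,
        Subgroup.zpowers (⟨b, hBR hb⟩ : ↥(Subgroup.normalizer (R : Set G)))⁆ ≤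
        R.subgroupOf (Subgroup.normalizer (R : Set G)) := by
      rw [← Subgroup.map_le_map_iff_of_injective (Subgroup.subtype_injective _),
        Subgroup.map_commutator, Subgroup.map_commutator, Subgroup.subgroupOf_map_subtype,
        Subgroup.subgroupOf_map_subtype, MonoidHom.map_zpowers]
      have hle : Subgroup.zpowers b ≤ B := Subgroup.zpowers_le.mpr hb
      refine (Subgroup.commutator_mono (Subgroup.commutator_mono inf_le_left hle) hle).trans ?_
      exact le_inf h2 (h2.trans Subgroup.le_normalizer)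
    refine (Subgroup.map_mono hle).trans ?_
    rw [QuotientGroup.map_mk'_self]
  obtain ⟨L₂G, hL₂G⟩ : ∃ L₂G : Subgroup G, L₂G = (L₂.comap
      (QuotientGroup.mk' (R.subgroupOf (Subgroup.normalizer (R : Set G))))).map
      (Subgroup.normalizer (R : Set G)).subtype := ⟨_, rfl⟩
  have hL₂Gn : Subgroup.normalizer (R : Set G) ≤ Subgroup.normalizer (L₂G : Set G) := by
    have hcn : (L₂.comap (QuotientGroup.mk' (R.subgroupOf (Subgroup.normalizer (R : Set G))))).Normal :=
      Subgroup.Normal.comap hL₂n _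
    intro n hn
    rw [Subgroup.mem_normalizer_iff]
    intro y
    rw [hL₂G]
    constructor
    · rintro ⟨y', hy', rfl⟩
      exact ⟨⟨n, hn⟩ * y' * ⟨n, hn⟩⁻¹, hcn.conj_mem y' hy' ⟨n, hn⟩, rfl⟩
    · rintro ⟨z', hz', hz⟩
      refine ⟨⟨n, hn⟩⁻¹ * z' * ⟨n, hn⟩⁻¹⁻¹, hcn.conj_mem z' hz' ⟨n, hn⟩⁻¹, ?_⟩
      show n⁻¹ * (z' : G) * n⁻¹⁻¹ = y
      have hz2 : (z' : G) = n * y * n⁻¹ := hz
      rw [hz2]
      group
  refine ⟨L₁ ⊓ L₂G, ?_, ?_, ?_⟩
  · apply isPGroup_of_coprime_trivial
    intro x hx hcop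
    apply hfaith x hcop
    have hxR : ∀ r ∈ R, x * r * x⁻¹ = r := by
      intro r hr
      have := Subgroup.mem_centralizer_iff.mp (hL₁c x hx.1 hcop) r hr
      rw [← this, mul_inv_cancel_right]
    have hxA : ∀ a ∈ A₀, x * a * x⁻¹ * a⁻¹ ∈ R := by
      intro a ha
      have hx2 := hx.2
      rw [hL₂G] at hx2
      obtain ⟨x', hx', hxx'⟩ := hx2
      have hx'2 : QuotientGroup.mk' (R.subgroupOf (Subgroup.normalizer (R : Set G))) x' ∈ L₂ :=
        Subgroup.mem_comap.mp hx'
      have hcop' : (orderOf (QuotientGroup.mk' (R.subgroupOf (Subgroup.normalizer (R : Set G)))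
          x')).Coprime p := by
        have hd : orderOf (QuotientGroup.mk' (R.subgroupOf (Subgroup.normalizer (R : Set G))) x') ∣
            orderOf x := by
          rw [← hxx', orderOf_injective (Subgroup.normalizer (R : Set G)).subtype
            (Subgroup.subtype_injective _) x']
          exact orderOf_map_dvd _ x'
        exact Nat.Coprime.coprime_dvd_left hd hcop
      have hc := hL₂c _ hx'2 hcop'
      have haN : a ∈ Subgroup.normalizer (R : Set G) := hAR ha
      have hmem : QuotientGroup.mk' (R.subgroupOf (Subgroup.normalizer (R : Set G)))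
          (⟨a, haN⟩ : ↥(Subgroup.normalizer (R : Set G))) ∈ V₂ := by
        rw [hV₂]
        exact ⟨⟨a, haN⟩, Subgroup.mem_subgroupOf.mpr ha, rfl⟩
      have hcomm := Subgroup.mem_centralizer_iff.mp hc _ hmem
      have h3 : QuotientGroup.mk' (R.subgroupOf (Subgroup.normalizer (R : Set G)))
          (x' * ⟨a, haN⟩ * x'⁻¹ * (⟨a, haN⟩ : ↥(Subgroup.normalizer (R : Set G)))⁻¹) = 1 := by
        rw [map_mul, map_mul, map_mul, ← hcomm, map_inv, map_inv]
        group
      rw [QuotientGroup.mk'_apply, QuotientGroup.eq_one_iff, Subgroup.mem_subgroupOf] at h3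
      rw [← hxx']
      exact h3
    exact coprime_centralizes x A₀ R hA₀p hRA hcop hxR hxA
  · intro n hn
    rw [Subgroup.mem_normalizer_iff]
    intro y
    have e1 := Subgroup.mem_normalizer_iff.mp (hNL₁ hn) y
    have e2 := Subgroup.mem_normalizer_iff.mp (hL₂Gn hn) y
    constructor
    · intro hy
      exact ⟨e1.mp hy.1, e2.mp hy.2⟩
    · intro hy
      exact ⟨e1.mpr hy.1, e2.mpr hy.2⟩
  · intro b hb
    refine ⟨hBL₁ hb, ?_⟩
    rw [hL₂G]
    exact ⟨⟨b, hBR hb⟩, Subgroup.mem_comap.mpr (hBL₂ b hb), rfl⟩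

end Force

end Cfsg.Agent.Lib.Helper13
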