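import Cfsg.Agent.Lib.Helper13.WcElemA
import Cfsg.Agent.Lib.Helper13.KInfA

set_option autoImplicit false

/-! Restriction of a conjugacy functor to a subgroup, and the relative form of the reduction for
weak closure of elements (helper13). -/

namespace Cfsg.Agent.Lib.Helper13

open Cfsg

section ResFun

variable {G : Type*} [Group G]

/-- The restriction of a conjugacy functor to a subgroup. -/
def resFun (H : Subgroup G) (W : Subgroup G → Subgroup G) (P : Subgroup ↥H) : Subgroup ↥H :=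
  (W (P.map H.subtype)).subgroupOf H

theorem map_conj_subtype (H : Subgroup G) (g : ↥H) (A : Subgroup ↥H) :
    (A.map (MulAut.conj g).toMonoidHom).map H.subtype =
      (A.map H.subtype).map (MulAut.conj (g : G)).toMonoidHom := by
  rw [Subgroup.map_map, Subgroup.map_map]
  rfl

variable {p : ℕ} {W : Subgroup G → Subgroup G} {H : Subgroup G}

theorem resFun_map (hW : Cfsg.IsConjugacyFunctor p W) (P : Subgroup ↥H) (hP : IsPGroup p ↥P) :
    (resFun H W P).map H.subtype = W (P.map H.subtype) := by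
  unfold resFun
  rw [Subgroup.subgroupOf_map_subtype, inf_eq_left]
  exact ((hW _ (hP.map H.subtype)).1).trans (Subgroup.map_subtype_le P)

theorem mem_resFun (P : Subgroup ↥H) (y : ↥H) : y ∈ resFun H W P ↔ (y : G) ∈ W (P.map H.subtype) := by
  unfold resFun
  rw [Subgroup.mem_subgroupOf]

theorem resFun_isConjugacyFunctor (hW : Cfsg.IsConjugacyFunctor p W) :
    Cfsg.IsConjugacyFunctor p (resFun H W) := by
  intro P hP
  have hinj : Function.Injective H.subtype := H.subtype_injective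
  obtain ⟨h1, h2, h3⟩ := hW _ (hP.map H.subtype)
  refine ⟨?_, ?_, ?_⟩
  · rw [← Subgroup.map_le_map_iff_of_injective hinj, resFun_map hW P hP]
    exact h1
  · intro hne hbot
    apply h2
    · intro hb
      apply hne
      exact (Subgroup.map_eq_bot_iff_of_injective P hinj).mp hb
    · rw [← resFun_map hW P hP, hbot, Subgroup.map_bot]
  · intro g
    apply Subgroup.map_injective hinj
    have hPg : IsPGroup p ↥(P.map (MulAut.conj g).toMonoidHom) := hP.map _
    rw [resFun_map hW _ hPg, map_conj_subtype, map_conj_subtype, resFun_map hW P hP, h3]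

theorem resFun_center_le
    (hWZ : ∀ P : Subgroup G, IsPGroup p ↥P → P ⊓ Subgroup.centralizer (P : Set G) ≤ W P)
    (P : Subgroup ↥H) (hP : IsPGroup p ↥P) :
    P ⊓ Subgroup.centralizer (P : Set ↥H) ≤ resFun H W P := by
  intro y hy
  rw [mem_resFun]
  apply hWZ _ (hP.map H.subtype)
  rw [← kmap_zIn H.subtype_injective]
  exact ⟨y, hy, rfl⟩

theorem mem_normalizer_resFun (hW : Cfsg.IsConjugacyFunctor p W) (P : Subgroup ↥H)
    (hP : IsPGroup p ↥P) (n : ↥H) :
    n ∈ Subgroup.normalizer ((resFun H W P : Subgroup ↥H) : Set ↥H) ↔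
      (n : G) ∈ Subgroup.normalizer ((W (P.map H.subtype) : Subgroup G) : Set G) := by
  have hle : W (P.map H.subtype) ≤ H :=
    ((hW _ (hP.map H.subtype)).1).trans (Subgroup.map_subtype_le P)
  unfold resFun
  rw [← Subgroup.subgroupOf_normalizer_eq hle, Subgroup.mem_subgroupOf]

theorem mem_normalizer_subtype (A : Subgroup ↥H) (n : ↥H) :
    n ∈ Subgroup.normalizer (A : Set ↥H) ↔
      (n : G) ∈ Subgroup.normalizer ((A.map H.subtype : Subgroup G) : Set G) := by
  have h1 : A = (A.map H.subtype).subgroupOf H := by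
    ext y
    rw [Subgroup.mem_subgroupOf]
    constructor
    · intro hy
      exact ⟨y, hy, rfl⟩
    · rintro ⟨z, hz, hzy⟩
      have : z = y := Subtype.ext hzy
      rwa [← this]
  conv_lhs => rw [h1]
  rw [← Subgroup.subgroupOf_normalizer_eq (Subgroup.map_subtype_le A), Subgroup.mem_subgroupOf]

end ResFun

section Rel

variable {G : Type*} [Group G] [Finite G] {p : ℕ} [Fact p.Prime]

theorem map_subgroupOf_subtype {H A : Subgroup G} (hA : A ≤ H) :
    (A.subgroupOf H).map H.subtype = A := by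
  rw [Subgroup.subgroupOf_map_subtype, inf_eq_left]
  exact hA

theorem map_inf_normalizer_subtype {H : Subgroup G} (A B : Subgroup ↥H) :
    (A ⊓ Subgroup.normalizer (B : Set ↥H)).map H.subtype =
      A.map H.subtype ⊓ Subgroup.normalizer ((B.map H.subtype : Subgroup G) : Set G) := by
  ext y
  rw [Subgroup.mem_map, Subgroup.mem_inf, Subgroup.mem_map]
  constructor
  · rintro ⟨z, hz, rfl⟩
    exact ⟨⟨z, hz.1, rfl⟩, (mem_normalizer_subtype B z).mp hz.2⟩
  · rintro ⟨⟨z, hz, rfl⟩, hn⟩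
    exact ⟨z, ⟨hz, (mem_normalizer_subtype B z).mpr hn⟩, rfl⟩

theorem map_normalizer_subtype {H : Subgroup G} (B : Subgroup ↥H) :
    (Subgroup.normalizer (B : Set ↥H)).map H.subtype =
      H ⊓ Subgroup.normalizer ((B.map H.subtype : Subgroup G) : Set G) := by
  have := map_inf_normalizer_subtype (⊤ : Subgroup ↥H) B
  rw [top_inf_eq, ← MonoidHom.range_eq_map, Subgroup.range_subtype] at this
  exact this

/-- The relative form of `wc_reduction`. -/
theorem wc_reduction_rel (W : Subgroup G → Subgroup G) (hW : Cfsg.IsConjugacyFunctor p W)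
    (hWZ : ∀ P : Subgroup G, IsPGroup p ↥P → P ⊓ Subgroup.centralizer (P : Set G) ≤ W P)
    (H T : Subgroup G) (hTH : T ≤ H) (hTp : IsPGroup p ↥T) (hidx : ¬ p ∣ T.relIndex H)
    (x : G) (hxT : x ∈ T)
    (hxN : ∀ n ∈ H ⊓ Subgroup.normalizer ((W T : Subgroup G) : Set G), n * x * n⁻¹ = x)
    (h : G) (hh : h ∈ H) (hhT : h * x * h⁻¹ ∈ T) (hne : h * x * h⁻¹ ≠ x) :
    ∃ U : Subgroup G, U ≤ T ∧ x ∈ U ∧
      (∀ n ∈ H ⊓ Subgroup.normalizer
        ((W (T ⊓ Subgroup.normalizer ((U : Subgroup G) : Set G)) : Subgroup G) : Set G),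
        n * x * n⁻¹ = x) ∧
      ¬ p ∣ (T ⊓ Subgroup.normalizer ((U : Subgroup G) : Set G)).relIndex
        (H ⊓ Subgroup.normalizer ((U : Subgroup G) : Set G)) ∧
      ∃ g ∈ H ⊓ Subgroup.normalizer ((U : Subgroup G) : Set G), g * x * g⁻¹ ≠ x := by
  have hT'p : IsPGroup p ↥(T.subgroupOf H) :=
    hTp.comap_of_injective H.subtype H.subtype_injective
  obtain ⟨S', hS'⟩ : ∃ S' : Sylow p ↥H, (S' : Subgroup ↥H) = T.subgroupOf H :=
    ⟨hT'p.toSylow hidx, hT'p.toSylow_coe hidx⟩
  have hS'map : (S' : Subgroup ↥H).map H.subtype = T := by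
    rw [hS', map_subgroupOf_subtype hTH]
  have hTN : T ≤ Subgroup.normalizer ((W T : Subgroup G) : Set G) :=
    Subgroup.le_normalizer.trans (normalizer_le_normalizer_functor hW hTp)
  obtain ⟨x', hx'⟩ : ∃ x' : ↥H, x' = ⟨x, hTH hxT⟩ := ⟨_, rfl⟩
  have hx'val : (x' : G) = x := by rw [hx']
  have hconj : ∀ n : ↥H, n * x' * n⁻¹ = x' ↔ (n : G) * x * (n : G)⁻¹ = x := by
    intro n
    rw [Subtype.ext_iff, ← hx'val]
    rfl
  have hx'S : x' ∈ (S' : Subgroup ↥H) := by
    rw [hS', Subgroup.mem_subgroupOf, hx'val]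
    exact hxT
  have hx'C : x' ∈ Subgroup.centralizer (((S' : Subgroup ↥H) : Subgroup ↥H) : Set ↥H) := by
    rw [Subgroup.mem_centralizer_iff]
    intro t ht
    have htT : (t : G) ∈ T := by
      rw [hS'] at ht
      exact Subgroup.mem_subgroupOf.mp ht
    have h1 := (hconj t).mpr (hxN _ ⟨t.2, hTN htT⟩)
    calc t * x' = t * x' * t⁻¹ * t := by group
      _ = x' * t := by rw [h1]
  have hN' : ∀ n ∈ Subgroup.normalizer ((resFun H W (S' : Subgroup ↥H) : Subgroup ↥H) : Set ↥H),
      n * x' * n⁻¹ = x' := by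
    intro n hn
    rw [mem_normalizer_resFun hW _ S'.isPGroup', hS'map] at hn
    exact (hconj n).mpr (hxN _ ⟨n.2, hn⟩)
  obtain ⟨h', hh'⟩ : ∃ h' : ↥H, h' = ⟨h, hh⟩ := ⟨_, rfl⟩
  have hh'val : (h' : G) = h := by rw [hh']
  have hg₀S : h' * x' * h'⁻¹ ∈ (S' : Subgroup ↥H) := by
    rw [hS', Subgroup.mem_subgroupOf]
    show (h' : G) * (x' : G) * (h' : G)⁻¹ ∈ T
    rw [hh'val, hx'val]
    exact hhT
  have hg₀ : h' * x' * h'⁻¹ ≠ x' := by
    rw [Ne, hconj, hh'val]
    exact hne
  obtain ⟨T', hT'S, hxT', hT'N, hT'idx, g, hgN, hgx⟩ :=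
    wc_reduction S' (resFun H W) (resFun_isConjugacyFunctor hW) (resFun_center_le hWZ) x' hx'S hx'C
      hN' h' hg₀S hg₀
  have hmapinf : ((S' : Subgroup ↥H) ⊓ Subgroup.normalizer ((T' : Subgroup ↥H) : Set ↥H)).map
      H.subtype = T ⊓ Subgroup.normalizer ((T'.map H.subtype : Subgroup G) : Set G) := by
    rw [map_inf_normalizer_subtype, hS'map]
  refine ⟨T'.map H.subtype, ?_, ?_, ?_, ?_, ?_⟩
  · rw [← hS'map]
    exact Subgroup.map_mono hT'S
  · exact ⟨x', hxT', hx'val⟩
  · intro n hn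
    have h1 := hT'N ⟨n, hn.1⟩ (by
      rw [mem_normalizer_resFun hW _ (S'.isPGroup'.to_le inf_le_left), hmapinf]
      exact hn.2)
    exact (hconj ⟨n, hn.1⟩).mp h1
  · rw [← hmapinf, ← map_normalizer_subtype,
      Subgroup.relIndex_map_map_of_injective _ _ H.subtype_injective]
    exact hT'idx
  · refine ⟨(g : G), ⟨g.2, (mem_normalizer_subtype T' g).mp hgN⟩, ?_⟩
    intro hcon
    exact hgx ((hconj g).mpr hcon)

end Rel

end Cfsg.Agent.Lib.Helper13
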