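import Cfsg.Agent.Lib.Helper13.WcElemC
import Cfsg.Agent.Lib.Helper13.WcElemD

set_option autoImplicit false

/-! The relative normal case and the weak closure theorem for elements (helper13). -/

namespace Cfsg.Agent.Lib.Helper13

open Cfsg

section RelNormal

variable {G : Type*} [Group G] [Finite G] {p : ℕ} [Fact p.Prime]

/-- The relative form of `wc_normal_case`. -/
theorem wc_normal_case_rel (H T : Subgroup G) (hTH : T ≤ H) (hTp : IsPGroup p ↥T)
    (hidx : ¬ p ∣ T.relIndex H) (x : G) (hxP : x ∈ Cfsg.pCoreOf p H)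
    (hxC : x ∈ Subgroup.centralizer ((Cfsg.pCoreOf p H : Subgroup G) : Set G))
    (hmax : ∀ K : Subgroup G, T ≤ K → K ≤ H → K ≠ H → ∀ k ∈ K, k * x * k⁻¹ = x)
    (u : G) (huT : u ∈ T) (huP : u ∉ Cfsg.pCoreOf p H)
    (hEng : ∀ U V : Subgroup ↥H, Cfsg.IsChiefFactor U V →
      U.map H.subtype ≤ Cfsg.pCoreOf p H ⊓
        Subgroup.centralizer ((Cfsg.pCoreOf p H : Subgroup G) : Set G) →
      Cfsg.iterCommutator (U.map H.subtype) (Subgroup.zpowers u) (p - 1) ≤ V.map H.subtype) :
    ∀ g ∈ H, g * x * g⁻¹ = x := by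
  have hinj : Function.Injective H.subtype := H.subtype_injective
  have hT'p : IsPGroup p ↥(T.subgroupOf H) :=
    hTp.comap_of_injective H.subtype H.subtype_injective
  obtain ⟨S', hS'⟩ : ∃ S' : Sylow p ↥H, (S' : Subgroup ↥H) = T.subgroupOf H :=
    ⟨hT'p.toSylow hidx, hT'p.toSylow_coe hidx⟩
  have hS'map : (S' : Subgroup ↥H).map H.subtype = T := by
    rw [hS', map_subgroupOf_subtype hTH]
  have hcore : Cfsg.pCoreOf p H = (Cfsg.pCore p ↥H).map H.subtype := rfl
  have hxH : x ∈ H := by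
    rw [hcore] at hxP
    exact Subgroup.map_subtype_le _ hxP
  obtain ⟨x', hx'⟩ : ∃ x' : ↥H, x' = ⟨x, hxH⟩ := ⟨_, rfl⟩
  have hx'val : (x' : G) = x := by rw [hx']
  have hconj : ∀ n : ↥H, n * x' * n⁻¹ = x' ↔ (n : G) * x * (n : G)⁻¹ = x := by
    intro n
    rw [Subtype.ext_iff, ← hx'val]
    rfl
  have hmemcore : ∀ y : ↥H, y ∈ Cfsg.pCore p ↥H ↔ (y : G) ∈ Cfsg.pCoreOf p H := by
    intro y
    rw [hcore]
    constructor
    · intro hy
      exact ⟨y, hy, rfl⟩
    · rintro ⟨z, hz, hzy⟩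
      have : z = y := Subtype.ext hzy
      rwa [← this]
  have hzmap : (Cfsg.pCore p ↥H ⊓ Subgroup.centralizer ((Cfsg.pCore p ↥H : Subgroup ↥H) : Set ↥H)).map
      H.subtype = Cfsg.pCoreOf p H ⊓
        Subgroup.centralizer ((Cfsg.pCoreOf p H : Subgroup G) : Set G) := by
    rw [kmap_zIn hinj, hcore]
  obtain ⟨u', hu'⟩ : ∃ u' : ↥H, u' = ⟨u, hTH huT⟩ := ⟨_, rfl⟩
  have hu'val : (u' : G) = u := by rw [hu']
  have key := wc_normal_case S' x' ((hmemcore x').mpr (hx'val ▸ hxP)) ?_ ?_ u' ?_ ?_ ?_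
  · intro g hg
    exact (hconj ⟨g, hg⟩).mp (key ⟨g, hg⟩)
  · rw [Subgroup.mem_centralizer_iff]
    intro t ht
    apply Subtype.ext
    show (t : G) * (x' : G) = (x' : G) * (t : G)
    rw [hx'val]
    exact Subgroup.mem_centralizer_iff.mp hxC _ ((hmemcore t).mp ht)
  · intro K' hSK' hK'top k hk
    rw [hconj]
    apply hmax (K'.map H.subtype) _ (Subgroup.map_subtype_le K') _ _ ⟨k, hk, rfl⟩
    · rw [← hS'map]
      exact Subgroup.map_mono hSK'
    · intro hcon
      apply hK'top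
      apply Subgroup.map_injective hinj
      rw [hcon, ← MonoidHom.range_eq_map, Subgroup.range_subtype]
  · rw [hS', Subgroup.mem_subgroupOf, hu'val]
    exact huT
  · rw [hmemcore, hu'val]
    exact huP
  · intro U V hUV hUZ
    have h1 := hEng U V hUV (by
      rw [← hzmap]
      exact Subgroup.map_mono hUZ)
    have h2 : (Subgroup.zpowers u').map H.subtype = Subgroup.zpowers u := by
      rw [MonoidHom.map_zpowers, ← hu'val]
      rfl
    rw [← h2, ← iterCommutator_map, Subgroup.map_le_map_iff_of_injective hinj] at h1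
    exact h1

end RelNormal

section Main

variable {G : Type*} [Group G] [Finite G] {p : ℕ} [Fact p.Prime]

theorem wc_le_pCoreOf {P X : Subgroup G} (hPX : P ≤ X) (hP : IsPGroup p ↥P)
    (hn : X ≤ Subgroup.normalizer (P : Set G)) : P ≤ Cfsg.pCoreOf p X := by
  have hnorm : (P.subgroupOf X).Normal := (Subgroup.normal_subgroupOf_iff_le_normalizer hPX).mpr hn
  have h2 := Cfsg.Agent.Lib.Helper1.le_pCore hnorm
    (hP.comap_of_injective X.subtype X.subtype_injective)
  intro x hx
  exact ⟨⟨x, hPX hx⟩, h2 (Subgroup.mem_subgroupOf.mpr hx), rfl⟩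

theorem wc_pCoreOf_le {H T : Subgroup G} (hTH : T ≤ H) (hTp : IsPGroup p ↥T)
    (hidx : ¬ p ∣ T.relIndex H) : Cfsg.pCoreOf p H ≤ T := by
  have hT'p : IsPGroup p ↥(T.subgroupOf H) :=
    hTp.comap_of_injective H.subtype H.subtype_injective
  have hn : (Cfsg.pCore p ↥H).Normal := pCore_normal' p
  have h1 := normal_pgroup_le_sylow (Cfsg.pCore p ↥H) pCore_isPGroup (hT'p.toSylow hidx)
  rw [hT'p.toSylow_coe hidx] at h1
  rintro _ ⟨y, hy, rfl⟩
  exact Subgroup.mem_subgroupOf.mp (h1 hy)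

theorem wc_not_dvd_relIndex_map (H : Subgroup G) (S' : Sylow p ↥H) :
    ¬ p ∣ ((S' : Subgroup ↥H).map H.subtype).relIndex H := by
  have h2 : (⊤ : Subgroup ↥H).map H.subtype = H := by
    rw [← MonoidHom.range_eq_map, Subgroup.range_subtype]
  have h3 := Subgroup.relIndex_map_map_of_injective (S' : Subgroup ↥H) ⊤ H.subtype_injective
  rw [h2, Subgroup.relIndex_top_right] at h3
  rw [h3]
  exact S'.not_dvd_index

theorem wc_card_lt {K H : Subgroup G} (hKH : K ≤ H) (hne : K ≠ H) : Nat.card ↥K < Nat.card ↥H := by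
  by_contra hcon
  exact hne (Subgroup.eq_of_le_of_card_ge hKH (not_lt.mp hcon))

/-- The weak closure theorem for elements, by induction on the order of the subgroup. -/
theorem wc_elem_main (W : Subgroup G → Subgroup G) (hW : Cfsg.IsConjugacyFunctor p W)
    (hWZ : ∀ P : Subgroup G, IsPGroup p ↥P → P ⊓ Subgroup.centralizer (P : Set G) ≤ W P)
    (hloc : ∀ (H T : Subgroup G), T ≤ H → IsPGroup p ↥T → ¬ p ∣ T.relIndex H →
      ¬ H ≤ Subgroup.normalizer ((W T : Subgroup G) : Set G) →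
      ∃ g : G, g ∈ T ∧ g ∉ Cfsg.pCoreOf p H ∧ ∀ U V : Subgroup ↥H, Cfsg.IsChiefFactor U V →
        U.map H.subtype ≤ Cfsg.pCoreOf p H ⊓
          Subgroup.centralizer ((Cfsg.pCoreOf p H : Subgroup G) : Set G) →
        Cfsg.iterCommutator (U.map H.subtype) (Subgroup.zpowers g) (p - 1) ≤ V.map H.subtype) :
    ∀ n : ℕ, ∀ H T : Subgroup G, Nat.card ↥H ≤ n → T ≤ H → IsPGroup p ↥T → ¬ p ∣ T.relIndex H →
      ∀ x ∈ T, (∀ m ∈ H ⊓ Subgroup.normalizer ((W T : Subgroup G) : Set G), m * x * m⁻¹ = x) →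
      ∀ h ∈ H, h * x * h⁻¹ ∈ T → h * x * h⁻¹ = x := by
  intro n
  induction n with
  | zero =>
    intro H _ hcard
    exfalso
    have := Nat.card_pos (α := ↥H)
    omega
  | succ n ih =>
    intro H T hcard hTH hTp hidx x hxT hxN h hh hhT
    by_contra hne
    obtain ⟨U, hUT, hxU, hUN, hUidx, g, hg, hgx⟩ :=
      wc_reduction_rel W hW hWZ H T hTH hTp hidx x hxT hxN h hh hhT hne
    have hconjU : ∀ k ∈ Subgroup.normalizer ((U : Subgroup G) : Set G), k * x * k⁻¹ ∈ U :=
      fun k hk => (Subgroup.mem_normalizer_iff.mp hk x).mp hxU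
    by_cases hK : H ⊓ Subgroup.normalizer ((U : Subgroup G) : Set G) = H
    · -- `U` is normal in `H`
      have hHN : H ≤ Subgroup.normalizer ((U : Subgroup G) : Set G) := inf_eq_left.mp hK
      have hUP : U ≤ Cfsg.pCoreOf p H := wc_le_pCoreOf (hUT.trans hTH) (hTp.to_le hUT) hHN
      have hPT : Cfsg.pCoreOf p H ≤ T := wc_pCoreOf_le hTH hTp hidx
      have hTN : T ≤ Subgroup.normalizer ((W T : Subgroup G) : Set G) :=
        Subgroup.le_normalizer.trans (normalizer_le_normalizer_functor hW hTp)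
      have hxC : x ∈ Subgroup.centralizer ((Cfsg.pCoreOf p H : Subgroup G) : Set G) := by
        rw [Subgroup.mem_centralizer_iff]
        intro t ht
        have h1 := hxN t ⟨hTH (hPT ht), hTN (hPT ht)⟩
        calc t * x = t * x * t⁻¹ * t := by group
          _ = x * t := by rw [h1]
      have hnotle : ¬ H ≤ Subgroup.normalizer ((W T : Subgroup G) : Set G) := by
        intro hle
        exact hgx (hxN g ⟨hg.1, hle hg.1⟩)
      obtain ⟨u, huT, huP, hEng⟩ := hloc H T hTH hTp hidx hnotle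
      have hmax : ∀ K : Subgroup G, T ≤ K → K ≤ H → K ≠ H → ∀ k ∈ K, k * x * k⁻¹ = x := by
        intro K hTK hKH hKne k hk
        have hcardK : Nat.card ↥K ≤ n := by
          have := wc_card_lt hKH hKne
          omega
        have hidxK : ¬ p ∣ T.relIndex K := by
          intro hd
          apply hidx
          rw [← Subgroup.relIndex_mul_relIndex T K H hTK hKH]
          exact hd.mul_right _
        apply ih K T hcardK hTK hTp hidxK x hxT _ k hk
        · exact hUT (hconjU k (hHN (hKH hk)))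
        · intro m hm
          exact hxN m ⟨hKH hm.1, hm.2⟩
      exact hgx (wc_normal_case_rel H T hTH hTp hidx x (hUP hxU) hxC hmax u huT huP hEng g hg.1)
    · -- pass to the normalizer of `U` in `H`
      have hcardK : Nat.card ↥(H ⊓ Subgroup.normalizer ((U : Subgroup G) : Set G)) ≤ n := by
        have := wc_card_lt (inf_le_left) hK
        omega
      have hT₁p : IsPGroup p ↥(T ⊓ Subgroup.normalizer ((U : Subgroup G) : Set G)) :=
        hTp.to_le inf_le_left
      have hxT₁ : x ∈ T ⊓ Subgroup.normalizer ((U : Subgroup G) : Set G) :=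
        ⟨hxT, Subgroup.le_normalizer hxU⟩
      apply hgx
      apply ih _ _ hcardK (inf_le_inf_right _ hTH) hT₁p hUidx x hxT₁ _ g hg
      · exact ⟨hUT (hconjU g hg.2), Subgroup.le_normalizer (hconjU g hg.2)⟩
      · intro m hm
        exact hUN m ⟨hm.1.1, hm.2⟩

end Main

end Cfsg.Agent.Lib.Helper13
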