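import Cfsg.Agent.Lib.Helper13.KStabB
import Cfsg.Agent.Lib.Helper13.WcElemE
import Cfsg.Agent.Lib.Helper18.PCore

set_option autoImplicit false

/-! From `O_p` of a local subgroup to `O_p(G)` (helper13). -/

namespace Cfsg.Agent.Lib.Helper13

open Cfsg

open scoped commutatorElement

section Nil

variable {Γ : Type*} [Group Γ] [Finite Γ] {p : ℕ} [hp : Fact p.Prime]

theorem kstab_pCore_quot {G : Type*} [Group G] [Finite G] (N : Subgroup G) [N.Normal]
    (hN : N = Cfsg.pCore p G) : Cfsg.pCore p (G ⧸ N) = ⊥ := by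
  have hQn : (Cfsg.pCore p (G ⧸ N)).Normal := pCore_normal' p
  have hQp : IsPGroup p ↥(Cfsg.pCore p (G ⧸ N)) := pCore_isPGroup
  have hNp : IsPGroup p ↥N := hN ▸ pCore_isPGroup
  have h1 : IsPGroup p ↥((Cfsg.pCore p (G ⧸ N)).comap (QuotientGroup.mk' N)) := by
    apply hQp.comap_of_ker_isPGroup
    rw [QuotientGroup.ker_mk']
    exact hNp
  have h2 : (Cfsg.pCore p (G ⧸ N)).comap (QuotientGroup.mk' N) ≤ N :=
    (Cfsg.Agent.Lib.Helper1.le_pCore (hQn.comap _) h1).trans hN.ge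
  rw [eq_bot_iff]
  intro y hy
  obtain ⟨x, rfl⟩ := QuotientGroup.mk'_surjective N y
  have h3 : x ∈ N := h2 hy
  rw [Subgroup.mem_bot]
  exact (QuotientGroup.eq_one_iff x).2 h3

/-- In a group with trivial `O_p`, a normal subgroup that is a `p`-group modulo a subgroup it
centralizes contains no nontrivial `p`-subgroup. -/
theorem central_by_p_trivial (hO : Cfsg.pCore p Γ = ⊥) (D N : Subgroup Γ) [hDn : D.Normal]
    (hcomm : ∀ n ∈ N, ∀ d ∈ D, n * d = d * n)
    (hpow : ∀ d ∈ D, ∃ k : ℕ, d ^ p ^ k ∈ N) (P : Subgroup Γ) (hPD : P ≤ D)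
    (hP : IsPGroup p ↥P) : P = ⊥ := by
  have hNDle : ∀ d ∈ D, ∀ k : ℕ, d ^ p ^ k ∈ N → d ^ p ^ k ∈ D := fun d hd k _ =>
    Subgroup.pow_mem _ hd _
  have hq : IsPGroup p (↥D ⧸ Subgroup.center ↥D) := by
    intro y
    obtain ⟨d, rfl⟩ := QuotientGroup.mk_surjective y
    obtain ⟨k, hk⟩ := hpow d d.2
    refine ⟨k, ?_⟩
    rw [← QuotientGroup.mk_pow, QuotientGroup.eq_one_iff, Subgroup.mem_center_iff]
    intro e
    apply Subtype.ext
    show (e : Γ) * ((d ^ p ^ k : ↥D) : Γ) = ((d ^ p ^ k : ↥D) : Γ) * (e : Γ)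
    rw [Subgroup.coe_pow]
    exact (hcomm _ hk e e.2).symm
  have hnil : Group.IsNilpotent ↥D := Group.of_quotient_center_nilpotent hq.isNilpotent
  have hnc : NormalizerCondition ↥D := Group.normalizerCondition_of_isNilpotent
  obtain ⟨Q⟩ : Nonempty (Sylow p ↥D) := inferInstance
  have hQn : (Q : Subgroup ↥D).Normal := Q.normal_of_normalizerCondition hnc
  have hQc : (Q : Subgroup ↥D).Characteristic := Q.characteristic_of_normal hQn
  have hQG : ((Q : Subgroup ↥D).map D.subtype).Normal := ConjAct.normal_of_characteristic_of_normal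
  have hQbot : (Q : Subgroup ↥D).map D.subtype = ⊥ := by
    rw [eq_bot_iff, ← hO]
    exact Cfsg.Agent.Lib.Helper1.le_pCore hQG (Q.isPGroup'.map _)
  have hQbot' : (Q : Subgroup ↥D) = ⊥ :=
    (Subgroup.map_eq_bot_iff_of_injective _ D.subtype_injective).mp hQbot
  have hP' : IsPGroup p ↥(P.subgroupOf D) := hP.comap_of_injective _ D.subtype_injective
  have hle := normal_pgroup_le_sylow (Q : Subgroup ↥D) Q.isPGroup'
  obtain ⟨Q', hQ'⟩ := hP'.exists_le_sylow
  obtain ⟨g, rfl⟩ := MulAction.exists_smul_eq ↥D Q Q'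
  have hQ'bot : ((g • Q : Sylow p ↥D) : Subgroup ↥D) = ⊥ := by
    haveI := hQn
    rw [Sylow.smul_eq_of_normal, hQbot']
  rw [hQ'bot] at hQ'
  rw [eq_bot_iff]
  intro x hx
  have : (⟨x, hPD hx⟩ : ↥D) ∈ P.subgroupOf D := Subgroup.mem_subgroupOf.mpr hx
  have h2 := hQ' this
  rw [Subgroup.mem_bot] at h2 ⊢
  exact congrArg Subtype.val h2

theorem exists_pow_coprime_order (x : Γ) : ∃ k : ℕ, (orderOf (x ^ p ^ k)).Coprime p := by
  obtain ⟨a, m, hm, hn⟩ := Nat.exists_eq_pow_mul_and_not_dvd (orderOf_pos x).ne' p hp.out.ne_one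
  refine ⟨a, ?_⟩
  rw [orderOf_pow' x (pow_ne_zero a hp.out.ne_zero), hn]
  have hcop : Nat.Coprime m p := ((Nat.Prime.coprime_iff_not_dvd hp.out).2 hm).symm
  have hg : Nat.gcd (p ^ a * m) (p ^ a) = p ^ a := Nat.gcd_eq_right (dvd_mul_right _ _)
  rw [hg, Nat.mul_div_cancel_left _ (pow_pos hp.out.pos a)]
  exact hcop

theorem pCoreOf_le_pCore_of_normal (C : Subgroup Γ) [hC : C.Normal] :
    Cfsg.pCoreOf p C ≤ Cfsg.pCore p Γ := by
  haveI : (Cfsg.pCore p ↥C).Characteristic := Cfsg.Agent.Lib.Helper18.pCore_characteristic p ↥C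
  have h1 : ((Cfsg.pCore p ↥C).map C.subtype).Normal := ConjAct.normal_of_characteristic_of_normal
  have h2 : IsPGroup p ((Cfsg.pCore p ↥C).map C.subtype) :=
    (Cfsg.Agent.Lib.Helper18.pCore_isPGroup p ↥C).map _
  exact Cfsg.Agent.Lib.Helper1.le_pCore h1 h2

/-- Steps 6–8: a subgroup `B` lying in a `p`-group `L` normalized by a normal subgroup `C`, and in
a normal subgroup `M` all of whose `p'`-elements lie in `C`, lies in `O_p`. -/
theorem le_pCore_of_local (C L M B : Subgroup Γ) [hCn : C.Normal] [hMn : M.Normal]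
    (hL : IsPGroup p ↥L) (hCL : C ≤ Subgroup.normalizer (L : Set Γ))
    (hM : ∀ x ∈ M, (orderOf x).Coprime p → x ∈ C)
    (hBL : B ≤ L) (hBM : B ≤ M) : B ≤ Cfsg.pCore p Γ := by
  obtain ⟨T, hT⟩ : ∃ T : Subgroup Γ, T = Cfsg.pCore p Γ := ⟨_, rfl⟩
  haveI hTn : T.Normal := hT ▸ pCore_normal' p
  rw [← hT]
  -- Step 6
  have h6a : C ⊓ L ≤ Cfsg.pCoreOf p C := by
    apply wc_le_pCoreOf inf_le_left (hL.to_le inf_le_right)
    intro c hc
    rw [Subgroup.mem_normalizer_iff]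
    intro h
    have hcL := Subgroup.mem_normalizer_iff.mp (hCL hc) h
    constructor
    · rintro ⟨h1, h2⟩
      exact ⟨hCn.conj_mem h h1 c, hcL.mp h2⟩
    · rintro ⟨h1, h2⟩
      refine ⟨?_, hcL.mpr h2⟩
      have := hCn.conj_mem _ h1 c⁻¹
      simpa [mul_assoc] using this
  have h6 : ∀ c ∈ C, ∀ b ∈ B, ⁅c, b⁆ ∈ T := by
    intro c hc b hb
    rw [hT]
    apply pCoreOf_le_pCore_of_normal C
    apply h6a
    refine ⟨?_, ?_⟩
    · rw [commutatorElement_def]
      have : b * c⁻¹ * b⁻¹ ∈ C := hCn.conj_mem _ (C.inv_mem hc) b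
      have h2 := C.mul_mem hc this
      simpa [mul_assoc] using h2
    · rw [commutatorElement_def]
      have h1 : c * b * c⁻¹ ∈ L := (Subgroup.mem_normalizer_iff.mp (hCL hc) b).mp (hBL hb)
      exact L.mul_mem h1 (L.inv_mem (hBL hb))
  -- the quotient
  have hO : Cfsg.pCore p (Γ ⧸ T) = ⊥ := kstab_pCore_quot T hT
  obtain ⟨π, hπ⟩ : ∃ π : Γ →* Γ ⧸ T, π = QuotientGroup.mk' T := ⟨_, rfl⟩
  have hπs : Function.Surjective π := hπ ▸ QuotientGroup.mk'_surjective T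
  have hπk : ∀ x, π x = 1 ↔ x ∈ T := by
    intro x
    rw [hπ]
    exact QuotientGroup.eq_one_iff x
  haveI hCbn : (C.map π).Normal := hCn.map π hπs
  obtain ⟨E, hE⟩ : ∃ E : Subgroup Γ, E = (Subgroup.centralizer ((C.map π : Subgroup (Γ ⧸ T)) : Set (Γ ⧸ T))).comap π :=
    ⟨_, rfl⟩
  haveI hEn : E.Normal := by
    rw [hE]
    exact Subgroup.Normal.comap inferInstance π
  have hBE : B ≤ E := by
    intro b hb
    rw [hE, Subgroup.mem_comap, Subgroup.mem_centralizer_iff]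
    rintro _ ⟨c, hc, rfl⟩
    have h1 := (hπk _).mpr (h6 c hc b hb)
    rw [commutatorElement_def, map_mul, map_mul, map_mul, map_inv, map_inv] at h1
    have h2 : π c * π b = π b * π c := by
      have := mul_inv_eq_one.mp (by rw [← h1]; group : π c * π b * (π b * π c)⁻¹ = 1)
      exact this
    exact h2
  haveI hDn : (E ⊓ M).Normal := inferInstance
  haveI hDbn : ((E ⊓ M).map π).Normal := hDn.map π hπs
  have hres := central_by_p_trivial hO ((E ⊓ M).map π) ((E ⊓ M ⊓ C).map π) ?_ ?_ (B.map π)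
    (Subgroup.map_mono (le_inf hBE hBM)) ((hL.to_le hBL).map π)
  · intro b hb
    have h1 : π b ∈ B.map π := Subgroup.mem_map_of_mem π hb
    rw [hres, Subgroup.mem_bot] at h1
    exact (hπk b).mp h1
  · rintro _ ⟨n, hn, rfl⟩ _ ⟨d, hd, rfl⟩
    have hdE : d ∈ E := hd.1
    rw [hE, Subgroup.mem_comap, Subgroup.mem_centralizer_iff] at hdE
    exact hdE (π n) (Subgroup.mem_map_of_mem π hn.2)
  · rintro _ ⟨d, hd, rfl⟩
    obtain ⟨k, hk⟩ := exists_pow_coprime_order (p := p) d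
    refine ⟨k, ?_⟩
    rw [← map_pow]
    apply Subgroup.mem_map_of_mem
    have hdk : d ^ p ^ k ∈ E ⊓ M := Subgroup.pow_mem _ hd _
    exact ⟨hdk, hM _ hdk.2 hk⟩

end Nil

end Cfsg.Agent.Lib.Helper13
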