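import Cfsg.Agent.Lib.Helper13.KInfD

set_option autoImplicit false

/-! Confinement of the star families under a subgroup-forcing hypothesis (helper13). -/

namespace Cfsg.Agent.Lib.Helper13

open Cfsg

open scoped commutatorElement

variable {G : Type*} [Group G]

theorem classTwo_conj_comm {A₀ : Subgroup G} (hA2 : A₀ ∈ Cfsg.classTwoSubgroups G)
    {a a' x : G} (ha : a ∈ A₀) (ha' : a' ∈ A₀) (hx : x ∈ A₀) : x * ⁅a, a'⁆ * x⁻¹ = ⁅a, a'⁆ := by
  have h1 : ⁅a, a'⁆ ∈ Subgroup.centralizer (A₀ : Set G) :=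
    hA2 (Subgroup.commutator_mem_commutator ha ha')
  have h2 := Subgroup.mem_centralizer_iff.mp h1 x hx
  rw [h2]
  group

/-- The subgroup of the class-two group `A₀` of the elements whose commutators with `A₀` are
centralized by `B`. -/
theorem exists_crad (A₀ B : Subgroup G) (hA2 : A₀ ∈ Cfsg.classTwoSubgroups G) :
    ∃ R : Subgroup G, ∀ a, a ∈ R ↔
      a ∈ A₀ ∧ ∀ a' ∈ A₀, ⁅a, a'⁆ ∈ Subgroup.centralizer (B : Set G) := by
  refine ⟨{ carrier := {a | a ∈ A₀ ∧ ∀ a' ∈ A₀, ⁅a, a'⁆ ∈ Subgroup.centralizer (B : Set G)}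
            mul_mem' := ?_
            one_mem' := ?_
            inv_mem' := ?_ }, fun a => Iff.rfl⟩
  · rintro a₁ a₂ ⟨h1, h1'⟩ ⟨h2, h2'⟩
    refine ⟨A₀.mul_mem h1 h2, fun a' ha' => ?_⟩
    have hc := classTwo_conj_comm hA2 h2 ha' h1
    have : ⁅a₁ * a₂, a'⁆ = ⁅a₂, a'⁆ * ⁅a₁, a'⁆ := by
      calc ⁅a₁ * a₂, a'⁆ = (a₁ * ⁅a₂, a'⁆ * a₁⁻¹) * ⁅a₁, a'⁆ := by
            simp only [commutatorElement_def]; group
        _ = _ := by rw [hc]
    rw [this]
    exact Subgroup.mul_mem _ (h2' a' ha') (h1' a' ha')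
  · refine ⟨A₀.one_mem, fun a' _ => ?_⟩
    rw [commutatorElement_one_left]
    exact Subgroup.one_mem _
  · rintro a ⟨h1, h1'⟩
    refine ⟨A₀.inv_mem h1, fun a' ha' => ?_⟩
    have hc := classTwo_conj_comm hA2 h1 ha' (A₀.inv_mem h1)
    have : ⁅a⁻¹, a'⁆ = ⁅a, a'⁆⁻¹ := by
      calc ⁅a⁻¹, a'⁆ = (a⁻¹ * ⁅a, a'⁆ * a⁻¹⁻¹)⁻¹ := by
            simp only [commutatorElement_def]; group
        _ = _ := by rw [hc]
    rw [this]
    exact Subgroup.inv_mem _ (h1' a' ha')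

theorem crad_conj_mem {A₀ B R : Subgroup G} [hAn : A₀.Normal]
    (hR : ∀ a, a ∈ R ↔ a ∈ A₀ ∧ ∀ a' ∈ A₀, ⁅a, a'⁆ ∈ Subgroup.centralizer (B : Set G))
    (g : G) (hg : ∀ a ∈ R, ∀ a' ∈ A₀, g * ⁅a, a'⁆ * g⁻¹ = ⁅a, a'⁆) :
    ∀ a ∈ R, g * a * g⁻¹ ∈ R := by
  intro a ha
  have haA := ((hR a).mp ha).1
  refine (hR _).mpr ⟨hAn.conj_mem a haA g, fun a' ha' => ?_⟩
  have h1 : g⁻¹ * a' * g ∈ A₀ := by
    have := hAn.conj_mem a' ha' g⁻¹
    simpa using this
  have h2 : ⁅g * a * g⁻¹, a'⁆ = g * ⁅a, g⁻¹ * a' * g⁆ * g⁻¹ := by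
    simp only [commutatorElement_def]; group
  rw [h2, hg a ha _ h1]
  exact ((hR a).mp ha).2 _ h1

theorem crad_le_normalizer {A₀ B R : Subgroup G} [hAn : A₀.Normal]
    (hR : ∀ a, a ∈ R ↔ a ∈ A₀ ∧ ∀ a' ∈ A₀, ⁅a, a'⁆ ∈ Subgroup.centralizer (B : Set G))
    (K : Subgroup G) (hK : ∀ g ∈ K, ∀ a ∈ R, ∀ a' ∈ A₀, g * ⁅a, a'⁆ * g⁻¹ = ⁅a, a'⁆) :
    K ≤ Subgroup.normalizer (R : Set G) := by
  intro g hg
  rw [Subgroup.mem_normalizer_iff]
  intro h
  constructor
  · exact crad_conj_mem hR g (hK g hg) h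
  · intro hh
    have := crad_conj_mem hR g⁻¹ (hK g⁻¹ (K.inv_mem hg)) _ hh
    simpa [mul_assoc] using this

/-- The confinement theorem, subgroup-forcing form. -/
theorem kinf_confined_stable {S T A₀ : Subgroup G} (hTS : T ≤ S) (hAT : A₀ ≤ T) [hAn : A₀.Normal]
    (hA2 : A₀ ∈ Cfsg.classTwoSubgroups G)
    (hATc : ⁅A₀, T⁆ ≤ A₀ ⊓ Subgroup.centralizer (A₀ : Set G))
    (hF : ∀ B R : Subgroup G, B ≤ S → A₀ ⊓ Subgroup.centralizer (A₀ : Set G) ≤ R → R ≤ A₀ →
      A₀ ≤ Subgroup.normalizer (R : Set G) → B ≤ Subgroup.normalizer (R : Set G) →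
      Subgroup.centralizer ((A₀ ⊓ Subgroup.centralizer (A₀ : Set G) : Subgroup G) : Set G) ≤
        Subgroup.normalizer (R : Set G) →
      ⁅⁅R, B⁆, B⁆ = ⊥ → ⁅⁅A₀, B⁆, B⁆ ≤ R → B ≤ T) :
    (⨆ n, kEvenIn S n) = (⨆ n, kEvenIn T n) ∧ (⨅ n, kOddIn S n) = (⨅ n, kOddIn T n) := by
  obtain ⟨Z, hZ⟩ : ∃ Z : Subgroup G, Z = A₀ ⊓ Subgroup.centralizer (A₀ : Set G) := ⟨_, rfl⟩
  rw [← hZ] at hATc hF
  have hZn : Z.Normal := by
    rw [hZ]
    infer_instance
  have hZA : Z ≤ A₀ := hZ ▸ inf_le_left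
  have hZC : Z ≤ Subgroup.centralizer (A₀ : Set G) := hZ ▸ inf_le_right
  have hZZ : ⁅Z, Z⁆ = ⊥ := by
    rw [Subgroup.commutator_eq_bot_iff_le_centralizer]
    exact hZC.trans (Subgroup.centralizer_le hZA)
  have hZ2 : Z ∈ Cfsg.classTwoSubgroups G := by
    show ⁅Z, Z⁆ ≤ _
    rw [hZZ]
    exact bot_le
  have hAtop : Subgroup.normalizer (A₀ : Set G) = ⊤ := Subgroup.normalizer_eq_top A₀
  have hZtop : Subgroup.normalizer (Z : Set G) = ⊤ := Subgroup.normalizer_eq_top Z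
  -- a subgroup acting quadratically on `A₀`
  have hquad : ∀ B : Subgroup G, B ≤ S → ⁅⁅A₀, B⁆, B⁆ = ⊥ → B ≤ T := by
    intro B hBS h
    exact hF B A₀ hBS hZA le_rfl Subgroup.le_normalizer (hAtop ▸ le_top) (hAtop ▸ le_top) h
      (h ▸ bot_le)
  apply kinf_sandwich hTS hAT
  · -- A₀ in the lower family
    intro Q hQS
    refine ⟨hA2, ?_, ?_⟩
    · rw [Subgroup.normalizer_eq_top]
      exact le_top
    · intro A hA hAQ hAN hAA' hZAA
      rw [← hZ] at hZAA ⊢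
      have hAA : ⁅A₀, A⁆ ≤ A := Subgroup.le_normalizer_iff_commutator_le_right.mp hAN
      have h1 : ⁅⁅A₀, A⁆, A⁆ ≤ A₀ :=
        (Subgroup.commutator_mono (Subgroup.commutator_le_left A₀ A) le_rfl).trans
          (Subgroup.commutator_le_left A₀ A)
      have h2 : ⁅A, A⁆ ≤ Subgroup.centralizer (A₀ : Set G) := by
        rw [← Subgroup.commutator_eq_bot_iff_le_centralizer, Subgroup.commutator_comm]
        exact hAA'
      have h3 : ⁅⁅A₀, A⁆, A⁆ ≤ Z := by
        rw [hZ]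
        exact le_inf h1 ((Subgroup.commutator_mono hAA le_rfl).trans h2)
      have hAT' : A ≤ T := hF A Z (hAQ.trans hQS) le_rfl hZA (hZtop ▸ le_top) (hZtop ▸ le_top)
        (hZtop ▸ le_top) hZAA h3
      exact (Subgroup.commutator_mono le_rfl hAT').trans hATc
  · -- A₀ in the upper family
    intro Q hQT
    refine ⟨hA2, ?_⟩
    rw [← hZ]
    exact (Subgroup.commutator_mono le_rfl hQT).trans hATc
  · -- the upper family is confined
    rintro Q hAQ hQS B ⟨⟨_, hBQ⟩, hBS⟩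
    exact hquad B hBS
      (quadratic_of_commutator_le_zIn ((Subgroup.commutator_mono le_rfl hAQ).trans hBQ))
  · -- the lower family is confined
    rintro Q hAQ hQS B ⟨⟨hB2, hQB, hB⟩, hBS⟩
    have hAB : ⁅A₀, B⁆ ≤ B :=
      Subgroup.le_normalizer_iff_commutator_le_right.mp (hAQ.trans hQB)
    -- Step 0
    have hZBT : B ⊓ Subgroup.centralizer (B : Set G) ≤ T := by
      apply hquad _ (inf_le_left.trans hBS)
      have h1 : ⁅A₀, B ⊓ Subgroup.centralizer (B : Set G)⁆ ≤ B :=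
        (Subgroup.commutator_mono le_rfl inf_le_left).trans hAB
      rw [Subgroup.commutator_comm]
      exact le_bot_iff.mp ((Subgroup.commutator_mono le_rfl h1).trans
        (zIn_commutator_eq_bot B).le)
    obtain ⟨R, hR⟩ := exists_crad A₀ B hA2
    have hRA : R ≤ A₀ := fun a ha => ((hR a).mp ha).1
    have hZR : Z ≤ R := by
      intro z hz
      refine (hR z).mpr ⟨hZA hz, fun a' ha' => ?_⟩
      have h1 := Subgroup.mem_centralizer_iff.mp (hZC hz) a' ha'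
      have h2 : ⁅z, a'⁆ = 1 := by
        rw [commutatorElement_def, ← h1]
        group
      rw [h2]
      exact Subgroup.one_mem _
    have hBNR : B ≤ Subgroup.normalizer (R : Set G) := by
      apply crad_le_normalizer hR
      intro b hb a ha a' ha'
      have h1 := Subgroup.mem_centralizer_iff.mp (((hR a).mp ha).2 a' ha') b hb
      rw [h1]
      group
    have hANR : A₀ ≤ Subgroup.normalizer (R : Set G) := by
      apply crad_le_normalizer hR
      intro x hx a ha a' ha'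
      exact classTwo_conj_comm hA2 (hRA ha) ha' hx
    have hCNR : Subgroup.centralizer (Z : Set G) ≤ Subgroup.normalizer (R : Set G) := by
      apply crad_le_normalizer hR
      intro c hc a ha a' ha'
      have h0 : ⁅a, a'⁆ ∈ Z := by
        rw [hZ]
        exact ⟨Subgroup.commutator_le_left A₀ A₀ (Subgroup.commutator_mem_commutator (hRA ha) ha'),
          hA2 (Subgroup.commutator_mem_commutator (hRA ha) ha')⟩
      have h1 := Subgroup.mem_centralizer_iff.mp hc _ h0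
      rw [← h1]
      group
    -- Step 3
    have h3 : ⁅⁅A₀, B⁆, B⁆ ≤ R := by
      have h31 : ⁅⁅A₀, B⁆, B⁆ ≤ A₀ :=
        (Subgroup.commutator_mono (Subgroup.commutator_le_left A₀ B) le_rfl).trans
          (Subgroup.commutator_le_left A₀ B)
      have h32 : ⁅⁅A₀, B⁆, B⁆ ≤ ⁅B, B⁆ := Subgroup.commutator_mono hAB le_rfl
      intro z hz
      have hzA : z ∈ A₀ := h31 hz
      have hzC : z ∈ Subgroup.centralizer (B : Set G) := hB2 (h32 hz)
      refine (hR z).mpr ⟨hzA, fun a' ha' => ?_⟩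
      rw [Subgroup.mem_centralizer_iff]
      intro b hb
      obtain ⟨w, hw⟩ : ∃ w : G, w = ⁅b, a'⁆ := ⟨_, rfl⟩
      have hwB : w ∈ B := by
        rw [hw, commutatorElement_def]
        have h1 : a' * b⁻¹ * a'⁻¹ ∈ B :=
          (Subgroup.mem_normalizer_iff.mp (hQB (hAQ ha')) b⁻¹).mp (B.inv_mem hb)
        have := B.mul_mem hb h1
        simpa [mul_assoc] using this
      have hwA : w ∈ A₀ := by
        rw [hw, commutatorElement_def]
        exact A₀.mul_mem (hAn.conj_mem a' ha' b) (A₀.inv_mem ha')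
      have hzb : b * z = z * b := Subgroup.mem_centralizer_iff.mp hzC b hb
      have hzw : w * z = z * w := Subgroup.mem_centralizer_iff.mp hzC w hwB
      have hcw := classTwo_conj_comm hA2 hzA ha' hwA
      have hba' : b * a' = w * a' * b := by
        rw [hw, commutatorElement_def]
        group
      have hbz : b * z⁻¹ = z⁻¹ * b := by
        have : z⁻¹ * (b * z) * z⁻¹ = z⁻¹ * (z * b) * z⁻¹ := by rw [hzb]
        simpa [mul_assoc] using this.symm
      have hwz : w * z⁻¹ = z⁻¹ * w := by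
        have : z⁻¹ * (w * z) * z⁻¹ = z⁻¹ * (z * w) * z⁻¹ := by rw [hzw]
        simpa [mul_assoc] using this.symm
      have hba'inv : b * a'⁻¹ = a'⁻¹ * w⁻¹ * b := by
        rw [hw, commutatorElement_def]
        group
      -- b ⁅z,a'⁆ = z w a' z⁻¹ a'⁻¹ w⁻¹ b = w ⁅z,a'⁆ w⁻¹ b
      calc b * ⁅z, a'⁆ = b * z * a' * z⁻¹ * a'⁻¹ := by
            rw [commutatorElement_def]; group
        _ = z * (b * a') * z⁻¹ * a'⁻¹ := by rw [hzb]; group
        _ = z * (w * a' * b) * z⁻¹ * a'⁻¹ := by rw [hba']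
        _ = z * w * a' * (b * z⁻¹) * a'⁻¹ := by group
        _ = z * w * a' * (z⁻¹ * b) * a'⁻¹ := by rw [hbz]
        _ = z * w * a' * z⁻¹ * (b * a'⁻¹) := by group
        _ = z * w * a' * z⁻¹ * (a'⁻¹ * w⁻¹ * b) := by rw [hba'inv]
        _ = (z * w) * a' * z⁻¹ * a'⁻¹ * w⁻¹ * b := by group
        _ = (w * z) * a' * z⁻¹ * a'⁻¹ * w⁻¹ * b := by rw [hzw]
        _ = (w * ⁅z, a'⁆ * w⁻¹) * b := by rw [commutatorElement_def]; group
        _ = ⁅z, a'⁆ * b := by rw [hcw]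
    -- Step 4
    have hR2 : R ∈ Cfsg.classTwoSubgroups G := by
      show ⁅R, R⁆ ≤ _
      exact ((Subgroup.commutator_mono hRA hRA).trans hA2).trans (Subgroup.centralizer_le hRA)
    have h41 : ⁅B, ⁅R, R⁆⁆ = ⊥ := by
      rw [Subgroup.commutator_comm, Subgroup.commutator_eq_bot_iff_le_centralizer,
        Subgroup.commutator_le]
      intro a ha a' ha'
      exact ((hR a).mp ha).2 a' (hRA ha')
    have h42 : ⁅⁅B ⊓ Subgroup.centralizer (B : Set G), R⁆, R⁆ = ⊥ := by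
      have h1 : ⁅B ⊓ Subgroup.centralizer (B : Set G), R⁆ ≤ Z := by
        rw [Subgroup.commutator_comm]
        exact (Subgroup.commutator_mono hRA hZBT).trans hATc
      have h2 : ⁅Z, R⁆ = ⊥ := by
        rw [Subgroup.commutator_eq_bot_iff_le_centralizer]
        exact hZC.trans (Subgroup.centralizer_le hRA)
      exact le_bot_iff.mp ((Subgroup.commutator_mono h1 le_rfl).trans h2.le)
    have h4 : ⁅⁅R, B⁆, B⁆ = ⊥ :=
      quadratic_of_commutator_le_zIn (hB R hR2 (hRA.trans hAQ) hBNR h41 h42)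
    exact hF B R hBS hZR hRA hANR hBNR hCNR h4 h3

end Cfsg.Agent.Lib.Helper13
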