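import Cfsg.Agent.Lib.Helper13.KStabC
import Cfsg.Agent.Lib.Helper13.KStabD
import Cfsg.Agent.Lib.Helper13.KInfI

set_option autoImplicit false

/-! Glauberman's Theorem B for the K-infinity functors in `p`-stable groups: if every section of
`G` is `p`-stable in the normalizer form and `C_G(O_p(G)) ≤ O_p(G)`, the K-infinity subgroups of a
Sylow `p`-subgroup are normal in `G` (helper13). -/

namespace Cfsg.Agent.Lib.Helper13

open Cfsg

open scoped commutatorElement

universe u

section ThmB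

variable {G : Type u} [Group G] [Finite G] {p : ℕ} [hp : Fact p.Prime]

/-- Elements of order prime to `p` act faithfully on a critical subgroup of `O_p(G)` when
`C_G(O_p(G)) ≤ O_p(G)`. -/
theorem critical_faithful (T A : Subgroup G) [hTn : T.Normal] (hTp : IsPGroup p ↥T)
    (hc : Subgroup.centralizer (T : Set G) ≤ T) (hAT : A ≤ T)
    (hATc : ⁅A, T⁆ ≤ A ⊓ Subgroup.centralizer (A : Set G))
    (hCT : T ⊓ Subgroup.centralizer (A : Set G) ≤ A)
    (x : G) (hx : (orderOf x).Coprime p) (hxA : ∀ a ∈ A, x * a * x⁻¹ = a) : x = 1 := by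
  obtain ⟨X, hX⟩ : ∃ X : Subgroup G, X = Subgroup.zpowers x := ⟨_, rfl⟩
  have hXA : ⁅A, X⁆ = ⊥ := by
    rw [Subgroup.commutator_comm, Subgroup.commutator_eq_bot_iff_le_centralizer, hX,
      Subgroup.zpowers_le, Subgroup.mem_centralizer_iff]
    intro a ha
    have := hxA a ha
    calc a * x = (x * a * x⁻¹) * x := by rw [this]
      _ = x * a := by group
  have h1 : ⁅⁅T, A⁆, X⁆ = ⊥ := by
    rw [Subgroup.commutator_comm T A]
    exact le_bot_iff.mp ((Subgroup.commutator_mono (hATc.trans inf_le_left) le_rfl).trans hXA.le)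
  have h2 : ⁅⁅A, X⁆, T⁆ = ⊥ := by
    rw [hXA, Subgroup.commutator_bot_left]
  have h3 : ⁅⁅X, T⁆, A⁆ = ⊥ := Subgroup.commutator_commutator_eq_bot_of_rotate h1 h2
  have h4 : ⁅X, T⁆ ≤ A := by
    apply le_trans _ hCT
    exact le_inf (Subgroup.commutator_le_right X T)
      (Subgroup.commutator_eq_bot_iff_le_centralizer.mp h3)
  have h5 : ∀ t ∈ T, x * t * x⁻¹ = t := by
    apply coprime_centralizes x T A hTp hAT hx hxA
    intro t ht
    apply h4
    have : x * t * x⁻¹ * t⁻¹ = ⁅x, t⁆ := by rw [commutatorElement_def]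
    rw [this]
    exact Subgroup.commutator_mem_commutator (hX ▸ Subgroup.mem_zpowers x) ht
  have h6 : x ∈ T := by
    apply hc
    rw [Subgroup.mem_centralizer_iff]
    intro t ht
    have := h5 t ht
    calc t * x = (x * t * x⁻¹) * x := by rw [this]
      _ = x * t := by group
  obtain ⟨k, hk⟩ := (IsPGroup.iff_orderOf.mp hTp) ⟨x, h6⟩
  have h7 : orderOf x = p ^ k := by
    rw [← hk]
    exact (Subgroup.orderOf_mk x h6).symm
  rw [h7] at hx
  have h8 : p ^ k = 1 := by
    rcases Nat.eq_zero_or_pos k with h | h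
    · rw [h, pow_zero]
    · exfalso
      have := (Nat.coprime_pow_left_iff h p p).mp hx
      rw [Nat.coprime_self] at this
      exact hp.out.ne_one this
  rw [h8] at h7
  exact orderOf_eq_one_iff.mp h7

/-- **Theorem B for K-infinity, local form.** -/
theorem kinf_normal_of_nps (hG : Cfsg.IsNormalizerPStable p G)
    (hst : ∀ (K R : Subgroup G) [hR : (R.subgroupOf K).Normal],
      Cfsg.IsNormalizerPStable p (↥K ⧸ R.subgroupOf K))
    (hc : Subgroup.centralizer ((Cfsg.pCore p G : Subgroup G) : Set G) ≤ Cfsg.pCore p G)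
    (S : Sylow p G) :
    (Cfsg.inducedFunctor (G := G) Cfsg.kInfLower (S : Subgroup G)).Normal ∧
      (Cfsg.inducedFunctor (G := G) Cfsg.kInfUpper (S : Subgroup G)).Normal := by
  have hTn : (Cfsg.pCore p G).Normal := pCore_normal' p
  have hTp : IsPGroup p ↥(Cfsg.pCore p G) := pCore_isPGroup
  have hTS : Cfsg.pCore p G ≤ (S : Subgroup G) := pCore_le_sylow S
  obtain ⟨A, hAn, hAT, hATc, hCT⟩ := exists_critical_in (Cfsg.pCore p G) hTp
  have hA2 : A ∈ Cfsg.classTwoSubgroups G :=
    ((Subgroup.commutator_mono le_rfl hAT).trans hATc).trans inf_le_right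
  have hAp : IsPGroup p ↥A := hTp.to_le hAT
  have hfaith := critical_faithful (Cfsg.pCore p G) A hTp hc hAT hATc hCT
  apply kinf_normal_of_eq S
  apply kinf_confined_stable hTS hAT hA2 hATc
  intro B R hBS hZR hRA hANR hBNR hCNR hRR hAR
  obtain ⟨L, hLp, hNL, hBL⟩ := nps_force hG hst A hAp hfaith R hRA hANR B hBNR hRR hAR
  obtain ⟨Z, hZ⟩ : ∃ Z : Subgroup G, Z = A ⊓ Subgroup.centralizer (A : Set G) := ⟨_, rfl⟩
  rw [← hZ] at hZR hCNR
  haveI hZn : Z.Normal := by
    rw [hZ]
    infer_instance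
  have hZp : IsPGroup p ↥Z := hAp.to_le (hZ ▸ inf_le_left)
  obtain ⟨M, hMN, hNM, hMc, hMq⟩ := nps_local hG Z hZp
  have hZtop : Subgroup.normalizer (Z : Set G) = ⊤ := Subgroup.normalizer_eq_top Z
  haveI hMn : M.Normal := by
    rw [← Subgroup.normalizer_eq_top_iff]
    exact top_le_iff.mp (hZtop ▸ hNM)
  have hBM : B ≤ M := by
    intro b hb
    apply hMq b (hZtop ▸ Subgroup.mem_top b)
    have hbB : Subgroup.zpowers b ≤ B := Subgroup.zpowers_le.mpr hb
    exact le_bot_iff.mp ((Subgroup.commutator_mono (Subgroup.commutator_mono hZR hbB) hbB).trans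
      hRR.le)
  exact le_pCore_of_local (Subgroup.centralizer (Z : Set G)) L M B hLp (hCNR.trans hNL) hMc hBL hBM

end ThmB

end Cfsg.Agent.Lib.Helper13
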