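import Cfsg.Agent.Lib.Helper13.KStabE
import Cfsg.Agent.Lib.Helper13.SecFusI
import Cfsg.Agent.Lib.helper17.QdStab11
import Cfsg.Agent.Lib.Helper10.NPStab2

set_option autoImplicit false

/-! The K-infinity functors control strong fusion in `Qd(p)`-free groups, `p` odd (helper13). -/

namespace Cfsg.Agent.Lib.Helper13

open Cfsg

universe u

section KFus

variable {p : ℕ} [Fact p.Prime]

/-- In a `Qd(p)`-free group (`p` odd) the K-infinity subgroups of every Sylow subgroup of a
section with `C(O_p) ≤ O_p` are normal; hence each K-infinity functor controls strong fusion. -/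
theorem fcs_kinf_of_qdfree (hp : p ≠ 2) (Y : Type u) [Group Y] [Finite Y]
    (h : ¬ Cfsg.Involves ↥(Cfsg.qd p) Y) :
    FCS p {Cfsg.kInfLower} Y ∧ FCS p {Cfsg.kInfUpper} Y := by
  have key : ∀ (Q : Type u) [Group Q] [Finite Q],
      (∃ (K : Subgroup Y) (f : ↥K →* Q), Function.Surjective f) →
      Subgroup.centralizer ((Cfsg.pCore p Q : Subgroup Q) : Set Q) ≤ Cfsg.pCore p Q →
      ∀ T : Sylow p Q, (Cfsg.inducedFunctor (G := Q) Cfsg.kInfLower (T : Subgroup Q)).Normal ∧
        (Cfsg.inducedFunctor (G := Q) Cfsg.kInfUpper (T : Subgroup Q)).Normal := by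
    rintro Q _ _ ⟨K, f, hf⟩ hc T
    have hQfree : ¬ Cfsg.Involves ↥(Cfsg.qd p) Q := fun hi =>
      h (Cfsg.Agent.Lib.Helper10.NPStab.involves_of_inj_surj_trans K.subtype K.subtype_injective
        f hf hi)
    have hG := Cfsg.Agent.Lib.helper17.QdStab11.qdfree_nps hp hQfree
    have hst : ∀ (K R : Subgroup Q) [hR : (R.subgroupOf K).Normal],
        Cfsg.IsNormalizerPStable p (↥K ⧸ R.subgroupOf K) := fun K R _ =>
      Cfsg.Agent.Lib.helper17.QdStab11.qdfree_section_nps hp hQfree K R
    exact kinf_normal_of_nps hG hst hc T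
  constructor
  · apply sec_main (𝓦 := {Cfsg.kInfLower}) _ _ Y rfl
    · intro Q _ _ hsec hc
      apply fcs_singleton_of_normal
      intro T
      exact (key Q hsec hc T).1
    · intro W hW
      rw [Set.mem_singleton_iff] at hW
      rw [hW]
      exact isCharPFunctor_kInfLower p
  · apply sec_main (𝓦 := {Cfsg.kInfUpper}) _ _ Y rfl
    · intro Q _ _ hsec hc
      apply fcs_singleton_of_normal
      intro T
      exact (key Q hsec hc T).2
    · intro W hW
      rw [Set.mem_singleton_iff] at hW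
      rw [hW]
      exact isCharPFunctor_kInfUpper p

theorem csf_kInfLower_of_qdfree (hp : p ≠ 2) {G : Type u} [Group G] [Finite G]
    (h : ¬ Cfsg.Involves ↥(Cfsg.qd p) G) (S : Sylow p G) :
    Cfsg.ControlsStrongFusion p (Cfsg.inducedFunctor (G := G) Cfsg.kInfLower (S : Subgroup G)) :=
  controlsStrongFusion_of_fcs_singleton Cfsg.kInfLower (isCharPFunctor_kInfLower p)
    (fcs_kinf_of_qdfree hp G h).1 S

theorem csf_kInfUpper_of_qdfree (hp : p ≠ 2) {G : Type u} [Group G] [Finite G]
    (h : ¬ Cfsg.Involves ↥(Cfsg.qd p) G) (S : Sylow p G) :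
    Cfsg.ControlsStrongFusion p (Cfsg.inducedFunctor (G := G) Cfsg.kInfUpper (S : Subgroup G)) :=
  controlsStrongFusion_of_fcs_singleton Cfsg.kInfUpper (isCharPFunctor_kInfUpper p)
    (fcs_kinf_of_qdfree hp G h).2 S

end KFus

end Cfsg.Agent.Lib.Helper13
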