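import Mathlib
import Cfsg.Agent.S0744

set_option autoImplicit false

/-! Project LW (S0745/S0746), piece P1: pointwise stabilisers of `(k-1)`-sets are trivial. -/

namespace Cfsg.Agent.Lib.Helper13.LWP1

open MulAction
open scoped Pointwise

variable {α : Type*} [Fintype α] [DecidableEq α]

/-- under `j`-homogeneity, the pointwise stabilisers of all `j`-sets have the same order -/
theorem card_fixing_const (G : Subgroup (Equiv.Perm α)) (j : ℕ)
    (hh : IsPretransitive G (Set.powersetCard α j)) (s t : Finset α) (hs : s.card = j)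
    (ht : t.card = j) :
    Nat.card (fixingSubgroup G (s : Set α)) = Nat.card (fixingSubgroup G (t : Set α)) := by
  obtain ⟨g, hg⟩ := hh.exists_smul_eq (Set.powersetCard.ofCard hs) (Set.powersetCard.ofCard ht)
  have h1 : ((g • Set.powersetCard.ofCard hs : Set.powersetCard α j) : Finset α) = g • s :=
    Set.powersetCard.coe_smul (g := g) (s := Set.powersetCard.ofCard hs)
  have h2 : g • s = t := by
    rw [← h1, hg]
    rfl
  have hg' : g • (s : Set α) = (t : Set α) := by
    rw [← Finset.coe_smul_finset, h2]
  exact Nat.card_congr (SubMulAction.fixingSubgroupEquivFixingSubgroup hg').toEquiv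

theorem fix_trivial (G : Subgroup (Equiv.Perm α)) {k : ℕ} (hk : 3 ≤ k) (hkn : k ≤ Fintype.card α)
    (hnt : ¬ IsMultiplyPretransitive G α (k - 1))
    (hh1 : IsPretransitive G (Set.powersetCard α (k - 1)))
    (hh : IsPretransitive G (Set.powersetCard α k)) :
    ∀ s : Finset α, s.card = k - 1 → fixingSubgroup G (s : Set α) = ⊥ := by
  intro s hs
  by_contra hne
  have hl : 1 < Nat.card (fixingSubgroup G (s : Set α)) := by
    rcases Nat.lt_or_ge 1 (Nat.card (fixingSubgroup G (s : Set α))) with h | h
    · exact h
    · exfalso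
      apply hne
      exact Subgroup.card_eq_one.mp (le_antisymm h Nat.card_pos)
  obtain ⟨u, -, hu⟩ : ∃ u : Finset α, u ⊆ Finset.univ ∧ u.card = k :=
    Finset.exists_subset_card_eq (by rw [Finset.card_univ]; exact hkn)
  apply hnt
  exact Cfsg.Agent.S0744.result G (by omega) hkn (Nat.card (fixingSubgroup G (s : Set α)))
    (Nat.card (fixingSubgroup G (u : Set α))) hl
    (fun s' hs' => card_fixing_const G (k - 1) hh1 s' s hs' hs)
    (fun u' hu' => card_fixing_const G k hh u' u hu' hu)

end Cfsg.Agent.Lib.Helper13.LWP1
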