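import Mathlib
import Cfsg.Agent.S0744
import Cfsg.Agent.Lib.Helper13.LWP1

set_option autoImplicit false

/-! Project LW (S0745/S0746), piece P2: the numerical consequences of trivial `(t+1)`-point
stabilisers together with `(t+1)`- and `(t+2)`-homogeneity. -/

namespace Cfsg.Agent.Lib.Helper13.LWP2

open MulAction Cfsg.Agent.Lib.helper6
open scoped Pointwise

variable {α : Type*} [Fintype α] [DecidableEq α]

/-- orbit-stabiliser for a `j`-homogeneous group -/
theorem card_eq_choose_mul (G : Subgroup (Equiv.Perm α)) (j : ℕ) (hj : j ≤ Fintype.card α)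
    (hh : IsPretransitive G (Set.powersetCard α j)) :
    ∃ b : ℕ, Nat.card G = (Fintype.card α).choose j * b := by
  obtain ⟨u, -, hu⟩ : ∃ u : Finset α, u ⊆ Finset.univ ∧ u.card = j :=
    Finset.exists_subset_card_eq (by rw [Finset.card_univ]; exact hj)
  haveI := hh
  refine ⟨Nat.card (stabilizer G (Set.powersetCard.ofCard hu : Set.powersetCard α j)), ?_⟩
  have h1 := ncard_orbit_mul_card_stabilizer (Q := G)
    (Set.powersetCard.ofCard hu : Set.powersetCard α j)
  rw [MulAction.orbit_eq_univ, Set.ncard_univ, Set.powersetCard.card,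
    Nat.card_eq_fintype_card] at h1
  exact h1.symm

/-- the pointwise stabiliser of a `t`-set is semiregular off the set -/
theorem orbit_ncard (G : Subgroup (Equiv.Perm α)) (t : ℕ)
    (hfix : ∀ s : Finset α, s.card = t + 1 → fixingSubgroup G (s : Set α) = ⊥)
    (Y : Finset α) (hY : Y.card = t) (x : α) (hx : x ∉ Y) :
    (orbit (fixingSubgroup G (Y : Set α)) x).ncard = Nat.card (fixingSubgroup G (Y : Set α)) := by
  have h1 := Cfsg.Agent.S0744.orbit_fixing_card (G := G) (Y : Set α) x
  have h2 := hfix (insert x Y) (by rw [Finset.card_insert_of_notMem hx, hY])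
  rw [Finset.coe_insert] at h2
  rw [h2, Subgroup.card_bot, mul_one] at h1
  exact h1

theorem numerics (G : Subgroup (Equiv.Perm α)) (t : ℕ) (ht : 1 ≤ t) (hn : t + 2 ≤ Fintype.card α)
    (hT : IsMultiplyPretransitive G α t)
    (hnT : ¬ IsMultiplyPretransitive G α (t + 1))
    (hfix : ∀ s : Finset α, s.card = t + 1 → fixingSubgroup G (s : Set α) = ⊥)
    (hh1 : IsPretransitive G (Set.powersetCard α (t + 1)))
    (hh2 : IsPretransitive G (Set.powersetCard α (t + 2))) :
    ∃ h c : ℕ, 1 ≤ h ∧ 2 ≤ c ∧ Fintype.card α = t + h * c ∧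
      (∀ s : Finset α, s.card = t → Nat.card (fixingSubgroup G (s : Set α)) = h) ∧
      Nat.card G = (Fintype.card α).descFactorial t * h ∧
      c ∣ (t + 1).factorial ∧ c * (h * c - 1) ∣ (t + 2).factorial := by
  classical
  -- a `t`-set
  obtain ⟨S0, -, hS0⟩ : ∃ u : Finset α, u ⊆ Finset.univ ∧ u.card = t :=
    Finset.exists_subset_card_eq (by rw [Finset.card_univ]; omega)
  set h := Nat.card (fixingSubgroup G (S0 : Set α)) with hh
  have hpos : 1 ≤ h := Nat.card_pos
  have hhom : IsPretransitive G (Set.powersetCard α t) :=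
    Set.powersetCard.isPretransitive_of_isMultiplyPretransitive _ hT
  have hconst : ∀ s : Finset α, s.card = t → Nat.card (fixingSubgroup G (s : Set α)) = h :=
    fun s hs => Cfsg.Agent.Lib.Helper13.LWP1.card_fixing_const G t hhom s S0 hs hS0
  -- the order of `G`
  have hG : Nat.card G = (Fintype.card α).descFactorial t * h := by
    have h1 := Subgroup.index_mul_card (fixingSubgroup G (S0 : Set α))
    have hnc : (S0 : Set α).ncard = t := by rw [Set.ncard_coe_finset, hS0]
    have h2 := IsMultiplyPretransitive.index_of_fixingSubgroup_eq (G := G) (S0 : Set α)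
      (by rw [hnc]; exact hT)
    rw [hnc, Nat.card_eq_fintype_card] at h2
    rw [← h1, h2, Nat.descFactorial_eq_factorial_mul_choose, mul_comm (t.factorial)]
  -- `h ∣ n - t`
  have hdvd : h ∣ Fintype.card α - t := by
    apply dvd_ncard_of_invariant (Q := fixingSubgroup G (S0 : Set α)) h (Fintype.card α - t)
      ((S0 : Set α)ᶜ) (Set.toFinite _)
    · rw [Set.ncard_compl, Set.ncard_coe_finset, hS0, Nat.card_eq_fintype_card]
    · intro q x hx
      exact Cfsg.Agent.S0744.not_mem_of_orbit_fixing (S0 : Set α) x (q • x) hx (mem_orbit x q)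
    · intro x hx
      exact orbit_ncard G t hfix S0 hS0 x (by simpa using hx)
  obtain ⟨c, hc⟩ := hdvd
  have hncard : Fintype.card α = t + h * c := by omega
  have hc0 : c ≠ 0 := by
    rintro rfl
    omega
  have hc1 : c ≠ 1 := by
    rintro rfl
    apply hnT
    apply isMultiplyPretransitive_of_fixing
    intro Z hZ a b haZ hbZ
    by_cases hab : a = b
    · exact ⟨1, G.one_mem, fun _ _ => rfl, by rw [hab]; rfl⟩
    have hsub : Z ⊆ Finset.univ \ {a, b} := by
      intro z hz
      rw [Finset.mem_sdiff, Finset.mem_insert, Finset.mem_singleton]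
      refine ⟨Finset.mem_univ _, ?_⟩
      rintro (rfl | rfl)
      · exact haZ hz
      · exact hbZ hz
    have hcard2 : (Finset.univ \ ({a, b} : Finset α)).card = Fintype.card α - 2 := by
      rw [Finset.card_sdiff_of_subset (Finset.subset_univ _), Finset.card_univ,
        Finset.card_pair hab]
    obtain ⟨Y, hZY, hYsub, hYcard⟩ := Finset.exists_subsuperset_card_eq hsub
      (show Z.card ≤ t by omega) (show t ≤ (Finset.univ \ ({a, b} : Finset α)).card by omega)
    have haY : a ∉ Y := by
      intro h
      have := hYsub h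
      simp at this
    have hbY : b ∉ Y := by
      intro h
      have := hYsub h
      simp at this
    -- the orbit of `a` is the whole complement of `Y`
    have horb : (orbit (fixingSubgroup G (Y : Set α)) a).ncard = Fintype.card α - t := by
      rw [orbit_ncard G t hfix Y hYcard a haY, hconst Y hYcard]
      omega
    have hsubset : orbit (fixingSubgroup G (Y : Set α)) a ⊆ (Y : Set α)ᶜ := by
      intro x hx
      exact Cfsg.Agent.S0744.not_mem_of_orbit_fixing (Y : Set α) a x (by simpa using haY) hx
    have hcompl : ((Y : Set α)ᶜ).ncard = Fintype.card α - t := by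
      rw [Set.ncard_compl, Set.ncard_coe_finset, hYcard, Nat.card_eq_fintype_card]
    have heq : orbit (fixingSubgroup G (Y : Set α)) a = (Y : Set α)ᶜ :=
      Set.eq_of_subset_of_ncard_le hsubset (by rw [horb, hcompl]) (Set.toFinite _)
    have hb : b ∈ orbit (fixingSubgroup G (Y : Set α)) a := by
      rw [heq]
      simpa using hbY
    obtain ⟨κ, hκ⟩ := hb
    refine ⟨κ.1.1, κ.1.2, ?_, hκ⟩
    intro z hz
    exact (mem_fixingSubgroup_iff G).mp κ.2 z (Finset.mem_coe.mpr (hZY hz))
  have hc2 : 2 ≤ c := by omega
  -- homogeneity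
  obtain ⟨b1, hb1⟩ := card_eq_choose_mul G (t + 1) (by omega) hh1
  obtain ⟨b2, hb2⟩ := card_eq_choose_mul G (t + 2) (by omega) hh2
  have hDpos : 0 < (Fintype.card α).descFactorial t := by
    apply Nat.pos_of_ne_zero
    rw [Ne, Nat.descFactorial_eq_zero_iff_lt]
    omega
  have e1 : (t + 1).factorial = c * b1 := by
    have h1 : (t + 1).factorial * Nat.card G =
        (Fintype.card α - t) * (Fintype.card α).descFactorial t * b1 := by
      rw [hb1, ← mul_assoc, ← Nat.descFactorial_eq_factorial_mul_choose, Nat.descFactorial_succ]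
    rw [hG, hc] at h1
    have h2 : (Fintype.card α).descFactorial t * h * (t + 1).factorial =
        (Fintype.card α).descFactorial t * h * (c * b1) := by
      rw [mul_comm, h1]; ring
    exact Nat.eq_of_mul_eq_mul_left (Nat.mul_pos hDpos hpos) h2
  have e2 : (t + 2).factorial = c * (h * c - 1) * b2 := by
    have h1 : (t + 2).factorial * Nat.card G =
        (Fintype.card α - (t + 1)) * ((Fintype.card α - t) * (Fintype.card α).descFactorial t)
          * b2 := by
      rw [hb2, ← mul_assoc, ← Nat.descFactorial_eq_factorial_mul_choose,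
        show t + 2 = (t + 1) + 1 from rfl, Nat.descFactorial_succ, Nat.descFactorial_succ]
    have h3 : Fintype.card α - (t + 1) = h * c - 1 := by omega
    rw [hG, hc, h3] at h1
    have h2 : (Fintype.card α).descFactorial t * h * (t + 2).factorial =
        (Fintype.card α).descFactorial t * h * (c * (h * c - 1) * b2) := by
      rw [mul_comm, h1]; ring
    exact Nat.eq_of_mul_eq_mul_left (Nat.mul_pos hDpos hpos) h2
  exact ⟨h, c, hpos, hc2, hncard, hconst, hG, ⟨b1, e1⟩, ⟨b2, e2⟩⟩

end Cfsg.Agent.Lib.Helper13.LWP2
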