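import Mathlib
import Cfsg.Agent.Lib.helper2.MI2.Defs

/-!
# Project MI2 (S2142, designer helper2), row S1 `card_ff_eq` (helper13), VERBATIM:
a nonzero linear functional `ff x ·` takes each value `2^(2m-1)` times.
-/

set_option autoImplicit false
set_option linter.unusedVariables false
set_option linter.unusedSectionVars false

namespace Cfsg.Agent.Lib.helper2.MI2

open Matrix

variable {m : ℕ}

theorem mi2s1_card_V : Nat.card (V m) = 2 ^ (2 * m) := by
  rw [Nat.card_eq_fintype_card, Fintype.card_fun, ZMod.card, Fintype.card_sum, Fintype.card_fin, two_mul]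

/-- translation by `z₀` with `ff x z₀ = 1` exchanges the fibres -/
theorem mi2s1_card_shift {x z₀ : V m} (hz₀ : ff x z₀ = 1) (a : ZMod 2) :
    Nat.card {y : V m | ff x y = a} = Nat.card {y : V m | ff x y = a + 1} := by
  apply Nat.card_congr
  refine ⟨fun y => ⟨y.1 + z₀, ?_⟩, fun y => ⟨y.1 + z₀, ?_⟩, ?_, ?_⟩
  · have := y.2
    simp only [Set.mem_setOf_eq] at this ⊢
    rw [ff_add_right, this, hz₀]
  · have := y.2
    simp only [Set.mem_setOf_eq] at this ⊢
    rw [ff_add_right, this, hz₀, add_assoc, z2_add_self, add_zero]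
  · intro y
    apply Subtype.ext
    simp only
    rw [add_assoc, v_add_self, add_zero]
  · intro y
    apply Subtype.ext
    simp only
    rw [add_assoc, v_add_self, add_zero]

/-- **S1** [S-M] A nonzero linear functional `ff x ·` takes each value `2^(2m-1)` times. -/
theorem card_ff_eq {x : V m} (hx : x ≠ 0) (a : ZMod 2) :
    Nat.card {y : V m | ff x y = a} = 2 ^ (2 * m - 1) := by
  classical
  obtain ⟨z₀, hz₀⟩ := exists_ff_eq_one hx
  have hm : 1 ≤ m := by
    by_contra h
    have h0 : m = 0 := by omega
    subst h0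
    apply hx
    funext i
    rcases i with i | i <;> exact i.elim0
  have hcompl : ({y : V m | ff x y = 0} : Set (V m))ᶜ = {y : V m | ff x y = 1} := by
    ext y
    simp only [Set.mem_compl_iff, Set.mem_setOf_eq]
    exact z2_ne_zero _
  have htot : Nat.card {y : V m | ff x y = 0} + Nat.card {y : V m | ff x y = 1} = 2 ^ (2 * m) := by
    rw [Nat.card_coe_set_eq, Nat.card_coe_set_eq, ← hcompl, Set.ncard_add_ncard_compl, mi2s1_card_V]
  have h01 : Nat.card {y : V m | ff x y = 0} = Nat.card {y : V m | ff x y = 1} := by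
    have := mi2s1_card_shift hz₀ 0
    rw [zero_add] at this
    exact this
  have hpow : 2 ^ (2 * m) = 2 * 2 ^ (2 * m - 1) := by
    have : 2 * m = (2 * m - 1) + 1 := by omega
    rw [this, pow_succ]
    have : 2 * m - 1 + 1 - 1 = 2 * m - 1 := by omega
    rw [this]
    ring
  rcases z2_cases a with rfl | rfl
  · omega
  · omega

end Cfsg.Agent.Lib.helper2.MI2
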