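import Mathlib

set_option autoImplicit false

/-! Minimal degree of primitive groups (helper13), part A: invariant graphs of a primitive
group are connected, phrased with closed sets. -/

namespace Cfsg.Agent.Lib.Helper13.MinDeg

open MulAction
open scoped Pointwise

variable {G Ω : Type*} [Group G] [MulAction G Ω]

/-- The relation `r` on `Ω` is invariant under `G`. -/
def RelInv (G : Type*) {Ω : Type*} [Group G] [MulAction G Ω] (r : Ω → Ω → Prop) : Prop :=
  ∀ (g : G) (x y : Ω), r x y → r (g • x) (g • y)

theorem relInv_rtg {r : Ω → Ω → Prop} (hinv : RelInv G r) :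
    RelInv G (Relation.ReflTransGen r) := by
  intro g x y h
  induction h with
  | refl => exact Relation.ReflTransGen.refl
  | tail _ hbc ih => exact Relation.ReflTransGen.tail ih (hinv g _ _ hbc)

/-- In a primitive action, a nonempty set closed under a symmetric invariant relation having at
least one proper edge is everything. -/
theorem closed_eq_univ (hprim : IsPreprimitive G Ω) (r : Ω → Ω → Prop) (hsymm : ∀ x y, r x y → r y x)
    (hinv : RelInv G r) (hedge : ∃ x y, x ≠ y ∧ r x y) (S : Set Ω) (hS : S.Nonempty)
    (hclosed : ∀ x ∈ S, ∀ y, r x y → y ∈ S) : S = Set.univ := by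
  obtain ⟨x0, y0, hne, hxy⟩ := hedge
  have hR : ∀ a b, Relation.ReflTransGen r a b → Relation.ReflTransGen r b a := by
    intro a b h
    induction h with
    | refl => exact Relation.ReflTransGen.refl
    | tail _ hbc ih => exact Relation.ReflTransGen.head (hsymm _ _ hbc) ih
  have hRinv := relInv_rtg (G := G) hinv
  set B : Set Ω := {z | Relation.ReflTransGen r x0 z} with hB
  have hblock : IsBlock G B := by
    rw [isBlock_iff_smul_eq_of_mem]
    intro g a ha hga
    have key : ∀ (h : G) (b : Ω), b ∈ B → h • b ∈ B → h • B ⊆ B := by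
      intro h b hb hhb z hz
      obtain ⟨w, hw, rfl⟩ := hz
      have h1 : Relation.ReflTransGen r b w := (hR _ _ hb).trans hw
      have h2 := hRinv h _ _ h1
      exact Relation.ReflTransGen.trans hhb h2
    apply Set.Subset.antisymm (key g a ha hga)
    have h3 : g⁻¹ • B ⊆ B := key g⁻¹ (g • a) hga (by simpa using ha)
    intro z hz
    have : g⁻¹ • z ∈ B := h3 ⟨z, hz, rfl⟩
    exact ⟨g⁻¹ • z, this, by simp⟩
  have hBuniv : B = Set.univ := by
    rcases hprim.isTrivialBlock_of_isBlock hblock with h | h
    · exfalso
      apply hne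
      apply h
      · exact Relation.ReflTransGen.refl
      · exact Relation.ReflTransGen.single hxy
    · exact h
  obtain ⟨s, hs⟩ := hS
  obtain ⟨g, hg⟩ := hprim.toIsPretransitive.exists_smul_eq x0 s
  apply Set.eq_univ_of_forall
  intro z
  have hz : g⁻¹ • z ∈ B := by rw [hBuniv]; trivial
  have h2 := hRinv g _ _ hz
  rw [hg, smul_inv_smul] at h2
  -- closed under ReflTransGen
  clear hz
  induction h2 with
  | refl => exact hs
  | tail _ hbc ih => exact hclosed _ ih _ hbc

end Cfsg.Agent.Lib.Helper13.MinDeg
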