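import Mathlib
import Cfsg.Agent.Lib.Helper13.MinDegA

set_option autoImplicit false

/-! Minimal degree of primitive groups (helper13), part B: distinguishing sets. -/

namespace Cfsg.Agent.Lib.Helper13.MinDeg

open MulAction Finset
open scoped Classical

variable {G Ω : Type*} [Group G] [MulAction G Ω]

/-- `z` separates `x` from `y`: the pairs `(x, z)` and `(y, z)` lie in different orbitals. -/
def Sep (G : Type*) {Ω : Type*} [Group G] [MulAction G Ω] (x y z : Ω) : Prop :=
  ¬ ∃ g : G, g • x = y ∧ g • z = z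

theorem sep_smul (g : G) (x y z : Ω) : Sep G (g • x) (g • y) (g • z) ↔ Sep G x y z := by
  unfold Sep
  rw [not_iff_not]
  constructor
  · rintro ⟨h, h1, h2⟩
    refine ⟨g⁻¹ * h * g, ?_, ?_⟩
    · rw [mul_smul, mul_smul, h1, inv_smul_smul]
    · rw [mul_smul, mul_smul, h2, inv_smul_smul]
  · rintro ⟨h, h1, h2⟩
    refine ⟨g * h * g⁻¹, ?_, ?_⟩
    · rw [mul_smul, mul_smul, inv_smul_smul, h1]
    · rw [mul_smul, mul_smul, inv_smul_smul, h2]

theorem sep_symm (x y z : Ω) : Sep G x y z → Sep G y x z := by
  unfold Sep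
  intro h
  rintro ⟨g, h1, h2⟩
  apply h
  refine ⟨g⁻¹, ?_, ?_⟩
  · rw [← h1, inv_smul_smul]
  · rw [inv_smul_eq_iff, h2]

theorem sep_triangle (x y w z : Ω) (h : Sep G x w z) : Sep G x y z ∨ Sep G y w z := by
  by_contra hcon
  rw [not_or] at hcon
  obtain ⟨h1, h2⟩ := hcon
  unfold Sep at h1 h2 h
  rw [not_not] at h1 h2
  obtain ⟨g1, a1, b1⟩ := h1
  obtain ⟨g2, a2, b2⟩ := h2
  apply h
  refine ⟨g2 * g1, ?_, ?_⟩
  · rw [mul_smul, a1, a2]
  · rw [mul_smul, b1, b2]

theorem sep_moved (g : G) (x y z : Ω) (hg : g • x = y) (h : Sep G x y z) : g • z ≠ z := by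
  intro hz
  exact h ⟨g, hg, hz⟩

theorem sep_self_left (x y : Ω) (h : x ≠ y) : Sep G x y x := by
  rintro ⟨g, h1, h2⟩
  exact h (h2.symm.trans h1)

theorem sep_self_right (x y : Ω) (h : x ≠ y) : Sep G x y y := by
  rintro ⟨g, h1, h2⟩
  apply h
  have : g • x = g • y := h1.trans h2.symm
  exact (MulAction.injective g) this

theorem not_sep_same (x z : Ω) : ¬ Sep G x x z := by
  unfold Sep
  rw [not_not]
  exact ⟨1, one_smul _ _, one_smul _ _⟩

variable [Fintype Ω]

/-- The set of points separating `x` from `y`. -/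
noncomputable def Dset (G : Type*) {Ω : Type*} [Group G] [MulAction G Ω] [Fintype Ω]
    (x y : Ω) : Finset Ω :=
  Finset.univ.filter (fun z => Sep G x y z)

/-- The distinguishing number of the pair. -/
noncomputable def dd (G : Type*) {Ω : Type*} [Group G] [MulAction G Ω] [Fintype Ω]
    (x y : Ω) : ℕ := (Dset G x y).card

theorem mem_Dset (x y z : Ω) : z ∈ Dset G x y ↔ Sep G x y z := by
  unfold Dset
  simp

/-- Cardinalities of invariant neighbourhoods are constant along orbits. -/
theorem card_filter_smul (P : Ω → Ω → Prop) (hP : ∀ (g : G) z w, P z w → P (g • z) (g • w))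
    (g : G) (z : Ω) :
    (Finset.univ.filter (fun w => P (g • z) w)).card = (Finset.univ.filter (fun w => P z w)).card := by
  symm
  apply Finset.card_bij (fun w _ => g • w)
  · intro w hw
    simp only [Finset.mem_filter, Finset.mem_univ, true_and] at hw ⊢
    exact hP g z w hw
  · intro a _ b _ hab
    exact (MulAction.injective g) hab
  · intro w hw
    simp only [Finset.mem_filter, Finset.mem_univ, true_and] at hw ⊢
    refine ⟨g⁻¹ • w, ?_, by simp⟩
    have := hP g⁻¹ _ _ hw
    simpa using this

theorem card_filter_const [IsPretransitive G Ω] (P : Ω → Ω → Prop)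
    (hP : ∀ (g : G) z w, P z w → P (g • z) (g • w)) (z z' : Ω) :
    (Finset.univ.filter (fun w => P z' w)).card = (Finset.univ.filter (fun w => P z w)).card := by
  obtain ⟨g, rfl⟩ := exists_smul_eq G z z'
  exact card_filter_smul P hP g z

theorem dd_smul (g : G) (x y : Ω) : dd G (g • x) (g • y) = dd G x y := by
  unfold dd Dset
  symm
  apply Finset.card_bij (fun w _ => g • w)
  · intro w hw
    simp only [Finset.mem_filter, Finset.mem_univ, true_and] at hw ⊢
    exact (sep_smul g x y w).mpr hw
  · intro a _ b _ hab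
    exact (MulAction.injective g) hab
  · intro w hw
    simp only [Finset.mem_filter, Finset.mem_univ, true_and] at hw ⊢
    refine ⟨g⁻¹ • w, ?_, by simp⟩
    rw [← sep_smul g]
    simpa using hw

theorem dd_symm (x y : Ω) : dd G x y = dd G y x := by
  unfold dd Dset
  congr 1
  ext z
  simp only [Finset.mem_filter, Finset.mem_univ, true_and]
  exact ⟨sep_symm x y z, sep_symm y x z⟩

theorem dd_triangle (x y w : Ω) : dd G x w ≤ dd G x y + dd G y w := by
  unfold dd
  calc (Dset G x w).card ≤ (Dset G x y ∪ Dset G y w).card := by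
        apply Finset.card_le_card
        intro z hz
        rw [mem_Dset] at hz
        rw [Finset.mem_union, mem_Dset, mem_Dset]
        exact sep_triangle x y w z hz
    _ ≤ _ := Finset.card_union_le _ _

theorem dd_self (x : Ω) : dd G x x = 0 := by
  unfold dd
  rw [Finset.card_eq_zero]
  ext z
  simp [mem_Dset, not_sep_same]

theorem dd_le_moved (g : G) (x : Ω) :
    dd G x (g • x) ≤ (Finset.univ.filter (fun z : Ω => g • z ≠ z)).card := by
  unfold dd
  apply Finset.card_le_card
  intro z hz
  rw [mem_Dset] at hz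
  simp only [Finset.mem_filter, Finset.mem_univ, true_and]
  exact sep_moved g x _ z rfl hz

/-- Lemma A: every point other than `x` separates `x` from one of its neighbours. -/
theorem exists_nbr_sep (hprim : IsPreprimitive G Ω) (r : Ω → Ω → Prop)
    (hsymm : ∀ x y, r x y → r y x) (hinv : RelInv G r) (hedge : ∃ x y, x ≠ y ∧ r x y)
    (x z : Ω) (hzx : z ≠ x) : ∃ w, r x w ∧ Sep G x w z := by
  by_contra H
  push_neg at H
  set B : Set Ω := {u | ∃ g : G, g • x = u ∧ g • z = z} with hB
  have hxB : x ∈ B := ⟨1, one_smul _ _, one_smul _ _⟩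
  have hclosed : ∀ u ∈ B, ∀ u', r u u' → u' ∈ B := by
    rintro u ⟨g, rfl, hgz⟩ u' hr
    have h1 := hinv g⁻¹ _ _ hr
    rw [inv_smul_smul] at h1
    have h2 := H _ h1
    unfold Sep at h2
    rw [not_not] at h2
    obtain ⟨h, hh1, hh2⟩ := h2
    refine ⟨g * h, ?_, ?_⟩
    · rw [mul_smul, hh1, smul_inv_smul]
    · rw [mul_smul, hh2, hgz]
  have huniv := closed_eq_univ hprim r hsymm hinv hedge B ⟨x, hxB⟩ hclosed
  have hz : z ∈ B := by rw [huniv]; trivial
  obtain ⟨g, h1, h2⟩ := hz
  apply hzx
  have : g • x = g • z := h1.trans h2.symm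
  exact ((MulAction.injective g) this).symm

/-- Counting form of Lemma A. -/
theorem card_le_of_nbr_bound (hprim : IsPreprimitive G Ω) (r : Ω → Ω → Prop)
    (hsymm : ∀ x y, r x y → r y x) (hinv : RelInv G r) (hedge : ∃ x y, x ≠ y ∧ r x y)
    (hirr : ∀ x y, r x y → x ≠ y)
    (x : Ω) (M : ℕ) (hM : ∀ w, r x w → dd G x w ≤ M) :
    Fintype.card Ω ≤ 1 + (Finset.univ.filter (fun w => r x w)).card * (M - 1) := by
  have hsub : (Finset.univ : Finset Ω) ⊆
      insert x ((Finset.univ.filter (fun w => r x w)).biUnion (fun w => (Dset G x w).erase x)) := by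
    intro z _
    by_cases hzx : z = x
    · rw [hzx]; exact Finset.mem_insert_self _ _
    · obtain ⟨w, hw, hs⟩ := exists_nbr_sep hprim r hsymm hinv hedge x z hzx
      apply Finset.mem_insert_of_mem
      rw [Finset.mem_biUnion]
      refine ⟨w, by simp [hw], ?_⟩
      rw [Finset.mem_erase]
      exact ⟨hzx, (mem_Dset x w z).mpr hs⟩
  calc Fintype.card Ω = (Finset.univ : Finset Ω).card := rfl
    _ ≤ _ := Finset.card_le_card hsub
    _ ≤ 1 + ((Finset.univ.filter (fun w => r x w)).biUnion
          (fun w => (Dset G x w).erase x)).card := by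
        rw [add_comm]; exact Finset.card_insert_le _ _
    _ ≤ 1 + ∑ w ∈ Finset.univ.filter (fun w => r x w), ((Dset G x w).erase x).card := by
        apply Nat.add_le_add_left
        exact Finset.card_biUnion_le
    _ ≤ 1 + ∑ w ∈ Finset.univ.filter (fun w => r x w), (M - 1) := by
        apply Nat.add_le_add_left
        apply Finset.sum_le_sum
        intro w hw
        simp only [Finset.mem_filter, Finset.mem_univ, true_and] at hw
        have hx : x ∈ Dset G x w := (mem_Dset x w x).mpr (sep_self_left x w (hirr x w hw))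
        rw [Finset.card_erase_of_mem hx]
        exact Nat.sub_le_sub_right (hM w hw) 1
    _ = _ := by rw [Finset.sum_const, smul_eq_mul]

end Cfsg.Agent.Lib.Helper13.MinDeg
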