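import Mathlib
import Cfsg.Agent.Lib.Helper13.MinDegB

set_option autoImplicit false

/-! Minimal degree of primitive groups (helper13), part C: the orbital graph of a pair. -/

namespace Cfsg.Agent.Lib.Helper13.MinDeg

open MulAction Finset
open scoped Classical

variable {G Ω : Type*} [Group G] [MulAction G Ω]

/-- Two-transitivity, in elementary form. -/
def TwoTrans (G Ω : Type*) [Group G] [MulAction G Ω] : Prop :=
  ∀ a b a' b' : Ω, a ≠ b → a' ≠ b' → ∃ g : G, g • a = a' ∧ g • b = b'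

/-- `(z, w)` lies in the orbital of `(x0, y0)`. -/
def OutR (G : Type*) {Ω : Type*} [Group G] [MulAction G Ω] (x0 y0 z w : Ω) : Prop :=
  ∃ g : G, g • x0 = z ∧ g • y0 = w

/-- Adjacency in the symmetrized orbital graph of `(x0, y0)`. -/
def Adj (G : Type*) {Ω : Type*} [Group G] [MulAction G Ω] (x0 y0 x w : Ω) : Prop :=
  OutR G x0 y0 x w ∨ OutR G x0 y0 w x

/-- Non-adjacency of distinct points. -/
def CoAdj (G : Type*) {Ω : Type*} [Group G] [MulAction G Ω] (x0 y0 x w : Ω) : Prop :=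
  x ≠ w ∧ ¬ Adj G x0 y0 x w

theorem outR_inv (x0 y0 : Ω) (g : G) (z w : Ω) (h : OutR G x0 y0 z w) :
    OutR G x0 y0 (g • z) (g • w) := by
  obtain ⟨h0, h1, h2⟩ := h
  exact ⟨g * h0, by rw [mul_smul, h1], by rw [mul_smul, h2]⟩

theorem outR_ne (x0 y0 : Ω) (hne : x0 ≠ y0) (z w : Ω) (h : OutR G x0 y0 z w) : z ≠ w := by
  obtain ⟨g, rfl, rfl⟩ := h
  intro h
  exact hne ((MulAction.injective g) h)

theorem adj_inv (x0 y0 : Ω) : RelInv G (Adj G x0 y0) := by
  intro g x y h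
  rcases h with h | h
  · exact Or.inl (outR_inv x0 y0 g _ _ h)
  · exact Or.inr (outR_inv x0 y0 g _ _ h)

theorem adj_symm (x0 y0 : Ω) (x y : Ω) (h : Adj G x0 y0 x y) : Adj G x0 y0 y x := by
  rcases h with h | h
  · exact Or.inr h
  · exact Or.inl h

theorem adj_ne (x0 y0 : Ω) (hne : x0 ≠ y0) (x y : Ω) (h : Adj G x0 y0 x y) : x ≠ y := by
  rcases h with h | h
  · exact outR_ne x0 y0 hne _ _ h
  · exact (outR_ne x0 y0 hne _ _ h).symm

theorem adj_base (x0 y0 : Ω) : Adj G x0 y0 x0 y0 :=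
  Or.inl ⟨1, one_smul _ _, one_smul _ _⟩

theorem adj_inv_iff (x0 y0 : Ω) (g : G) (x y : Ω) :
    Adj G x0 y0 (g • x) (g • y) ↔ Adj G x0 y0 x y := by
  constructor
  · intro h
    have := adj_inv x0 y0 g⁻¹ _ _ h
    simpa using this
  · exact adj_inv x0 y0 g x y

theorem coadj_inv (x0 y0 : Ω) : RelInv G (CoAdj G x0 y0) := by
  intro g x y h
  refine ⟨fun hxy => h.1 ((MulAction.injective g) hxy), ?_⟩
  rw [adj_inv_iff]
  exact h.2

theorem coadj_symm (x0 y0 : Ω) (x y : Ω) (h : CoAdj G x0 y0 x y) : CoAdj G x0 y0 y x :=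
  ⟨h.1.symm, fun h' => h.2 (adj_symm x0 y0 _ _ h')⟩

variable [Fintype Ω]

theorem dd_of_outR (x0 y0 x w : Ω) (h : OutR G x0 y0 x w) : dd G x w = dd G x0 y0 := by
  obtain ⟨g, rfl, rfl⟩ := h
  exact dd_smul g x0 y0

theorem dd_of_adj (x0 y0 x w : Ω) (h : Adj G x0 y0 x w) : dd G x w = dd G x0 y0 := by
  rcases h with h | h
  · exact dd_of_outR x0 y0 x w h
  · rw [dd_symm]; exact dd_of_outR x0 y0 w x h

/-- Diameter two: if the valency exceeds `3δ` then all pairs have distinguishing number `≤ 2δ`. -/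
theorem dd_le_two_mul (hprim : IsPreprimitive G Ω) (x0 y0 : Ω) (hne : x0 ≠ y0)
    (hk : ∀ x : Ω, 3 * dd G x0 y0 < (Finset.univ.filter (fun w => Adj G x0 y0 x w)).card)
    (x w : Ω) : dd G x w ≤ 2 * dd G x0 y0 := by
  set δ := dd G x0 y0 with hδ
  set N2 : Set Ω := {w | w = x ∨ Adj G x0 y0 x w ∨ ∃ p, Adj G x0 y0 x p ∧ Adj G x0 y0 p w} with hN2
  have hclosed : ∀ u ∈ N2, ∀ u', Adj G x0 y0 u u' → u' ∈ N2 := by
    intro u hu u' huu'
    rcases hu with rfl | hu | ⟨p, hp1, hp2⟩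
    · exact Or.inr (Or.inl huu')
    · exact Or.inr (Or.inr ⟨u, hu, huu'⟩)
    · by_contra hcon
      simp only [hN2, Set.mem_setOf_eq, not_or, not_exists, not_and] at hcon
      obtain ⟨h1, h2, h3⟩ := hcon
      have hsub : (Finset.univ.filter (fun w => Adj G x0 y0 x w)) ⊆ Dset G x u' := by
        intro v hv
        simp only [Finset.mem_filter, Finset.mem_univ, true_and] at hv
        rw [mem_Dset]
        rintro ⟨g, hg1, hg2⟩
        have := adj_inv x0 y0 g _ _ hv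
        rw [hg1, hg2] at this
        exact h3 v hv (adj_symm x0 y0 _ _ this)
      have hle : (Finset.univ.filter (fun w => Adj G x0 y0 x w)).card ≤ dd G x u' :=
        Finset.card_le_card hsub
      have t1 : dd G x u' ≤ dd G x p + dd G p u' := dd_triangle x p u'
      have t2 : dd G p u' ≤ dd G p u + dd G u u' := dd_triangle p u u'
      have e1 := dd_of_adj x0 y0 _ _ hp1
      have e2 := dd_of_adj x0 y0 _ _ hp2
      have e3 := dd_of_adj x0 y0 _ _ huu'
      have := hk x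
      omega
  have huniv := closed_eq_univ hprim (Adj G x0 y0) (adj_symm x0 y0) (adj_inv x0 y0)
    ⟨x0, y0, hne, adj_base x0 y0⟩ N2 ⟨x, Or.inl rfl⟩ hclosed
  have hw : w ∈ N2 := by rw [huniv]; trivial
  rcases hw with rfl | hw | ⟨p, hp1, hp2⟩
  · rw [dd_self]; exact Nat.zero_le _
  · rw [dd_of_adj x0 y0 _ _ hw]; omega
  · have t1 : dd G x w ≤ dd G x p + dd G p w := dd_triangle x p w
    have e1 := dd_of_adj x0 y0 _ _ hp1
    have e2 := dd_of_adj x0 y0 _ _ hp2
    omega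

end Cfsg.Agent.Lib.Helper13.MinDeg
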