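import Mathlib
import Cfsg.Agent.Lib.Helper13.MinDegC

set_option autoImplicit false

/-! Minimal degree of primitive groups (helper13), part D: the counting inequality. -/

namespace Cfsg.Agent.Lib.Helper13.MinDeg

open MulAction Finset
open scoped Classical

variable {G Ω : Type*} [Group G] [MulAction G Ω] [Fintype Ω]

theorem univ_eq_insert (x0 y0 : Ω) (hne : x0 ≠ y0) (z : Ω) :
    (Finset.univ : Finset Ω) = insert z ((Finset.univ.filter (fun w => Adj G x0 y0 z w)) ∪
      (Finset.univ.filter (fun w => CoAdj G x0 y0 z w))) := by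
  ext w
  simp only [Finset.mem_univ, Finset.mem_insert, Finset.mem_union, Finset.mem_filter, true_and,
    true_iff]
  by_cases h1 : w = z
  · exact Or.inl h1
  · by_cases h2 : Adj G x0 y0 z w
    · exact Or.inr (Or.inl h2)
    · exact Or.inr (Or.inr ⟨fun h => h1 h.symm, h2⟩)

theorem not_mem_union (x0 y0 : Ω) (hne : x0 ≠ y0) (z : Ω) :
    z ∉ ((Finset.univ.filter (fun w => Adj G x0 y0 z w)) ∪
      (Finset.univ.filter (fun w => CoAdj G x0 y0 z w))) := by
  simp only [Finset.mem_union, Finset.mem_filter, Finset.mem_univ, true_and, not_or]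
  exact ⟨fun h => adj_ne x0 y0 hne _ _ h rfl, fun h => h.1 rfl⟩

theorem disjoint_nbr_co (x0 y0 : Ω) (z : Ω) :
    Disjoint (Finset.univ.filter (fun w => Adj G x0 y0 z w))
      (Finset.univ.filter (fun w => CoAdj G x0 y0 z w)) := by
  rw [Finset.disjoint_left]
  intro w hw hw'
  simp only [Finset.mem_filter, Finset.mem_univ, true_and] at hw hw'
  exact hw'.2 hw

theorem sum_split (x0 y0 : Ω) (hne : x0 ≠ y0) (z : Ω) (f : Ω → ℕ) :
    ∑ x, f x = f z + ∑ x ∈ Finset.univ.filter (fun w => Adj G x0 y0 z w), f x +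
      ∑ x ∈ Finset.univ.filter (fun w => CoAdj G x0 y0 z w), f x := by
  conv_lhs => rw [univ_eq_insert (G := G) x0 y0 hne z]
  rw [Finset.sum_insert (not_mem_union x0 y0 hne z), Finset.sum_union (disjoint_nbr_co x0 y0 z)]
  ring

theorem card_split (x0 y0 : Ω) (hne : x0 ≠ y0) (z : Ω) :
    Fintype.card Ω = 1 + (Finset.univ.filter (fun w => Adj G x0 y0 z w)).card +
      (Finset.univ.filter (fun w => CoAdj G x0 y0 z w)).card := by
  have := sum_split (G := G) x0 y0 hne z (fun _ => 1)
  simpa using this

/-- Out- and in-valencies of an orbital agree. -/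
theorem card_out_eq_card_in [IsPretransitive G Ω] (x0 y0 : Ω) (z z' : Ω) :
    (Finset.univ.filter (fun w => OutR G x0 y0 z w)).card =
      (Finset.univ.filter (fun w => OutR G x0 y0 w z')).card := by
  have hout : ∀ u, (Finset.univ.filter (fun w => OutR G x0 y0 u w)).card =
      (Finset.univ.filter (fun w => OutR G x0 y0 z w)).card := fun u =>
    card_filter_const (fun a b => OutR G x0 y0 a b) (fun g a b h => outR_inv x0 y0 g a b h) z u
  have hin : ∀ u, (Finset.univ.filter (fun w => OutR G x0 y0 w u)).card =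
      (Finset.univ.filter (fun w => OutR G x0 y0 w z')).card := fun u =>
    card_filter_const (fun a b => OutR G x0 y0 b a) (fun g a b h => outR_inv x0 y0 g b a h) z' u
  have h1 : ∑ u : Ω, (Finset.univ.filter (fun w => OutR G x0 y0 u w)).card =
      ∑ u : Ω, (Finset.univ.filter (fun w => OutR G x0 y0 w u)).card := by
    simp_rw [Finset.card_filter]
    rw [Finset.sum_comm]
  simp_rw [hout, hin] at h1
  rw [Finset.sum_const, Finset.sum_const, smul_eq_mul, smul_eq_mul] at h1
  have hpos : 0 < (Finset.univ : Finset Ω).card := Finset.card_pos.mpr ⟨z, Finset.mem_univ _⟩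
  exact Nat.eq_of_mul_eq_mul_left hpos h1

/-- The orbit of `x` under the stabilizer of `z` has its size bounded by class. -/
theorem card_orb_self (z : Ω) :
    (Finset.univ.filter (fun w => ¬ Sep G z w z)).card ≤ 1 := by
  rw [Finset.card_le_one]
  intro a ha b hb
  simp only [Finset.mem_filter, Finset.mem_univ, true_and, Sep, not_not] at ha hb
  obtain ⟨g, h1, h2⟩ := ha
  obtain ⟨g', h1', h2'⟩ := hb
  rw [← h1, h2, ← h1', h2']

theorem card_orb_out (x0 y0 z x : Ω) (h : OutR G x0 y0 z x) :
    (Finset.univ.filter (fun w => ¬ Sep G x w z)).card ≤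
      (Finset.univ.filter (fun w => OutR G x0 y0 z w)).card := by
  apply Finset.card_le_card
  intro w hw
  simp only [Finset.mem_filter, Finset.mem_univ, true_and, Sep, not_not] at hw ⊢
  obtain ⟨g, h1, h2⟩ := hw
  have := outR_inv x0 y0 g _ _ h
  rwa [h1, h2] at this

theorem card_orb_in (x0 y0 z x : Ω) (h : OutR G x0 y0 x z) :
    (Finset.univ.filter (fun w => ¬ Sep G x w z)).card ≤
      (Finset.univ.filter (fun w => OutR G x0 y0 w z)).card := by
  apply Finset.card_le_card
  intro w hw
  simp only [Finset.mem_filter, Finset.mem_univ, true_and, Sep, not_not] at hw ⊢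
  obtain ⟨g, h1, h2⟩ := hw
  have := outR_inv x0 y0 g _ _ h
  rwa [h1, h2] at this

theorem card_orb_co (x0 y0 z x : Ω) (h : CoAdj G x0 y0 z x) :
    (Finset.univ.filter (fun w => ¬ Sep G x w z)).card ≤
      (Finset.univ.filter (fun w => CoAdj G x0 y0 z w)).card := by
  apply Finset.card_le_card
  intro w hw
  simp only [Finset.mem_filter, Finset.mem_univ, true_and, Sep, not_not] at hw ⊢
  obtain ⟨g, h1, h2⟩ := hw
  have := coadj_inv x0 y0 g _ _ h
  rwa [h1, h2] at this

/-- The counting inequality (B). -/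
theorem counting [IsPretransitive G Ω] (x0 y0 : Ω) (hne : x0 ≠ y0) (k k1 e δ2 : ℕ)
    (hk : ∀ x : Ω, (Finset.univ.filter (fun w => Adj G x0 y0 x w)).card = k)
    (he : ∀ x : Ω, (Finset.univ.filter (fun w => CoAdj G x0 y0 x w)).card = e)
    (hk1 : ∀ x : Ω, (Finset.univ.filter (fun w => OutR G x0 y0 x w)).card = k1)
    (hδ2 : ∀ x w : Ω, dd G x w ≤ δ2) :
    Fintype.card Ω * Fintype.card Ω ≤
      1 + k * k1 + e * e + k * dd G x0 y0 + e * δ2 := by
  set n := Fintype.card Ω with hn
  have hk1' : ∀ x : Ω, (Finset.univ.filter (fun w => OutR G x0 y0 w x)).card = k1 := by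
    intro x
    rw [← card_out_eq_card_in x0 y0 x x, hk1]
  -- upper bound on row sums of dd
  have hrow : ∀ x : Ω, ∑ w, dd G x w ≤ k * dd G x0 y0 + e * δ2 := by
    intro x
    rw [sum_split (G := G) x0 y0 hne x, dd_self, zero_add]
    apply Nat.add_le_add
    · apply le_of_eq
      calc ∑ w ∈ Finset.univ.filter (fun w => Adj G x0 y0 x w), dd G x w
          = ∑ w ∈ Finset.univ.filter (fun w => Adj G x0 y0 x w), dd G x0 y0 := by
            apply Finset.sum_congr rfl
            intro w hw
            simp only [Finset.mem_filter, Finset.mem_univ, true_and] at hw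
            exact dd_of_adj x0 y0 _ _ hw
        _ = k * dd G x0 y0 := by rw [Finset.sum_const, smul_eq_mul, hk]
    · calc ∑ w ∈ Finset.univ.filter (fun w => CoAdj G x0 y0 x w), dd G x w
          ≤ ∑ w ∈ Finset.univ.filter (fun w => CoAdj G x0 y0 x w), δ2 :=
            Finset.sum_le_sum (fun w _ => hδ2 x w)
        _ = e * δ2 := by rw [Finset.sum_const, smul_eq_mul, he]
  -- column sums of orbit sizes
  have hcol : ∀ z : Ω, ∑ x, (Finset.univ.filter (fun w => ¬ Sep G x w z)).card ≤
      1 + k * k1 + e * e := by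
    intro z
    rw [sum_split (G := G) x0 y0 hne z]
    apply Nat.add_le_add
    · apply Nat.add_le_add (card_orb_self z)
      calc ∑ x ∈ Finset.univ.filter (fun w => Adj G x0 y0 z w),
            (Finset.univ.filter (fun w => ¬ Sep G x w z)).card
          ≤ ∑ x ∈ Finset.univ.filter (fun w => Adj G x0 y0 z w), k1 := by
            apply Finset.sum_le_sum
            intro x hx
            simp only [Finset.mem_filter, Finset.mem_univ, true_and] at hx
            rcases hx with hx | hx
            · exact (card_orb_out x0 y0 z x hx).trans (hk1 z).le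
            · exact (card_orb_in x0 y0 z x hx).trans (hk1' z).le
        _ = k * k1 := by rw [Finset.sum_const, smul_eq_mul, hk]
    · calc ∑ x ∈ Finset.univ.filter (fun w => CoAdj G x0 y0 z w),
            (Finset.univ.filter (fun w => ¬ Sep G x w z)).card
          ≤ ∑ x ∈ Finset.univ.filter (fun w => CoAdj G x0 y0 z w), e := by
            apply Finset.sum_le_sum
            intro x hx
            simp only [Finset.mem_filter, Finset.mem_univ, true_and] at hx
            exact (card_orb_co x0 y0 z x hx).trans (he z).le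
        _ = e * e := by rw [Finset.sum_const, smul_eq_mul, he]
  -- the double count
  have hswap : ∑ x : Ω, ∑ w : Ω, dd G x w =
      ∑ z : Ω, ∑ x : Ω, (Finset.univ.filter (fun w => Sep G x w z)).card := by
    unfold dd Dset
    simp_rw [Finset.card_filter]
    calc ∑ x : Ω, ∑ w : Ω, ∑ z : Ω, (if Sep G x w z then 1 else 0)
        = ∑ x : Ω, ∑ z : Ω, ∑ w : Ω, (if Sep G x w z then 1 else 0) :=
          Finset.sum_congr rfl (fun x _ => Finset.sum_comm)
      _ = ∑ z : Ω, ∑ x : Ω, ∑ w : Ω, (if Sep G x w z then 1 else 0) := Finset.sum_comm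
  have hcompl : ∀ z x : Ω, (Finset.univ.filter (fun w => Sep G x w z)).card +
      (Finset.univ.filter (fun w => ¬ Sep G x w z)).card = n := by
    intro z x
    rw [Finset.card_filter_add_card_filter_not]
    rfl
  have htot : ∑ z : Ω, ∑ x : Ω, ((Finset.univ.filter (fun w => Sep G x w z)).card +
      (Finset.univ.filter (fun w => ¬ Sep G x w z)).card) = n * (n * n) := by
    simp_rw [hcompl]
    simp only [Finset.sum_const, smul_eq_mul, Finset.card_univ]
    rfl
  simp_rw [Finset.sum_add_distrib] at htot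
  rw [← hswap] at htot
  have h1 : ∑ x : Ω, ∑ w : Ω, dd G x w ≤ n * (k * dd G x0 y0 + e * δ2) := by
    calc ∑ x : Ω, ∑ w : Ω, dd G x w ≤ ∑ x : Ω, (k * dd G x0 y0 + e * δ2) :=
          Finset.sum_le_sum (fun x _ => hrow x)
      _ = n * (k * dd G x0 y0 + e * δ2) := by
          rw [Finset.sum_const, smul_eq_mul]; rfl
  have h2 : ∑ z : Ω, ∑ x : Ω, (Finset.univ.filter (fun w => ¬ Sep G x w z)).card ≤
      n * (1 + k * k1 + e * e) := by
    calc _ ≤ ∑ z : Ω, (1 + k * k1 + e * e) := Finset.sum_le_sum (fun z _ => hcol z)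
      _ = n * (1 + k * k1 + e * e) := by rw [Finset.sum_const, smul_eq_mul]; rfl
  have hpos : 0 < n := Fintype.card_pos_iff.mpr ⟨x0⟩
  have h3 : n * (n * n) ≤ n * (1 + k * k1 + e * e + k * dd G x0 y0 + e * δ2) := by
    rw [← htot]
    have : n * (1 + k * k1 + e * e + k * dd G x0 y0 + e * δ2) =
        n * (k * dd G x0 y0 + e * δ2) + n * (1 + k * k1 + e * e) := by ring
    rw [this]
    exact Nat.add_le_add h1 h2
  exact Nat.le_of_mul_le_mul_left h3 hpos

end Cfsg.Agent.Lib.Helper13.MinDeg
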