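import Mathlib
import Cfsg.Agent.Lib.Helper13.MinDegD

set_option autoImplicit false

/-! Minimal degree of primitive groups (helper13), part E: the uniprimitive bound. -/

namespace Cfsg.Agent.Lib.Helper13.MinDeg

open MulAction Finset
open scoped Classical

variable {G Ω : Type*} [Group G] [MulAction G Ω] [Fintype Ω]

theorem arith_k_big (n k δ : ℕ) (hA1 : n ≤ 1 + k * (δ - 1)) (hbig : (2 * δ + 1) ^ 2 < n) :
    4 * δ < k := by
  by_contra hcon
  push_neg at hcon
  rcases Nat.eq_zero_or_pos δ with h0 | hpos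
  · subst h0
    simp at hA1 hbig
    omega
  · obtain ⟨d, rfl⟩ := Nat.exists_eq_succ_of_ne_zero hpos.ne'
    simp only [Nat.succ_sub_one] at hA1
    have : k * d ≤ 4 * (d + 1) * d := Nat.mul_le_mul_right d hcon
    nlinarith

theorem arith_final (n k k1 e δ : ℕ) (hn : n = 1 + k + e) (hk : 4 * δ < k)
    (hbig : (2 * δ + 1) ^ 2 < n)
    (hB : n * n ≤ 1 + k * k1 + e * e + k * δ + e * (2 * δ)) (hk1 : k1 ≤ k)
    (he0 : e = 0 → 2 * k1 ≤ k) (hAe : 1 ≤ e → n ≤ 1 + e * (2 * δ - 1)) : False := by
  rcases Nat.eq_zero_or_pos e with h0 | hpos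
  · subst h0
    have h2 := he0 rfl
    subst hn
    simp only [add_zero, zero_mul, mul_zero] at hB
    -- (1+k)^2 ≤ 1 + k k1 + k δ
    have h3 : 2 * ((1 + k) * (1 + k)) ≤ 2 * (1 + k * k1 + k * δ) := by omega
    have h4 : 2 * (k * k1) ≤ k * k := by
      have := Nat.mul_le_mul_left k h2
      nlinarith
    nlinarith
  · have hA := hAe hpos
    subst hn
    have hkk : k * k1 ≤ k * k := Nat.mul_le_mul_left k hk1
    -- 2k + 2e + 2ke ≤ kδ + 2eδ
    have h5 : 2 * k + 2 * e + 2 * (k * e) ≤ k * δ + e * (2 * δ) := by nlinarith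
    have h6 : e * (2 * δ) ≤ k * e := by nlinarith
    have h7 : k * (e + 2) ≤ k * δ := by nlinarith
    have hkpos : 0 < k := by omega
    have h8 : e + 2 ≤ δ := Nat.le_of_mul_le_mul_left h7 hkpos
    rcases Nat.eq_zero_or_pos δ with hd0 | hdpos
    · omega
    · obtain ⟨d, rfl⟩ := Nat.exists_eq_succ_of_ne_zero hdpos.ne'
      have h9 : 2 * (d + 1) - 1 = 2 * d + 1 := by omega
      rw [h9] at hA
      have h10 : e ≤ d - 1 := by omega
      have h11 : e * (2 * d + 1) ≤ (d - 1) * (2 * d + 1) := Nat.mul_le_mul_right _ h10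
      have h12 : (d - 1) * (2 * d + 1) ≤ d * (2 * d + 1) :=
        Nat.mul_le_mul_right _ (Nat.sub_le d 1)
      nlinarith

/-- Babai's bound: in a primitive group that is not 2-transitive, `n ≤ (2 D(x,y) + 1)²` for every
pair of distinct points. -/
theorem babai_bound (hprim : IsPreprimitive G Ω) (hnot2 : ¬ TwoTrans G Ω) (x0 y0 : Ω)
    (hne : x0 ≠ y0) : Fintype.card Ω ≤ (2 * dd G x0 y0 + 1) ^ 2 := by
  by_contra hbig
  push_neg at hbig
  haveI : IsPretransitive G Ω := hprim.toIsPretransitive
  set δ := dd G x0 y0 with hδ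
  set k := (Finset.univ.filter (fun w => Adj G x0 y0 x0 w)).card with hkdef
  set e := (Finset.univ.filter (fun w => CoAdj G x0 y0 x0 w)).card with hedef
  set k1 := (Finset.univ.filter (fun w => OutR G x0 y0 x0 w)).card with hk1def
  have hk : ∀ x : Ω, (Finset.univ.filter (fun w => Adj G x0 y0 x w)).card = k := fun x =>
    card_filter_const (fun a b => Adj G x0 y0 a b) (adj_inv x0 y0) x0 x
  have he : ∀ x : Ω, (Finset.univ.filter (fun w => CoAdj G x0 y0 x w)).card = e := fun x =>
    card_filter_const (fun a b => CoAdj G x0 y0 a b) (coadj_inv x0 y0) x0 x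
  have hk1 : ∀ x : Ω, (Finset.univ.filter (fun w => OutR G x0 y0 x w)).card = k1 := fun x =>
    card_filter_const (fun a b => OutR G x0 y0 a b) (fun g a b h => outR_inv x0 y0 g a b h) x0 x
  have hn : Fintype.card Ω = 1 + k + e := card_split (G := G) x0 y0 hne x0
  have hA1 : Fintype.card Ω ≤ 1 + k * (δ - 1) :=
    card_le_of_nbr_bound hprim (Adj G x0 y0) (adj_symm x0 y0) (adj_inv x0 y0)
      ⟨x0, y0, hne, adj_base x0 y0⟩ (adj_ne x0 y0 hne) x0 δ
      (fun w hw => (dd_of_adj x0 y0 _ _ hw).le)
  have hkbig : 4 * δ < k := arith_k_big _ k δ hA1 hbig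
  have hdia : ∀ x w : Ω, dd G x w ≤ 2 * δ := by
    intro x w
    apply dd_le_two_mul hprim x0 y0 hne
    intro x'
    rw [hk x']
    omega
  have hB := counting (G := G) x0 y0 hne k k1 e (2 * δ) hk he hk1 hdia
  have hk1le : k1 ≤ k := by
    apply Finset.card_le_card
    intro w hw
    simp only [Finset.mem_filter, Finset.mem_univ, true_and] at hw ⊢
    exact Or.inl hw
  have hAe : 1 ≤ e → Fintype.card Ω ≤ 1 + e * (2 * δ - 1) := by
    intro hpos
    have hex : ∃ w, w ∈ Finset.univ.filter (fun w => CoAdj G x0 y0 x0 w) := by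
      rw [← Finset.Nonempty, ← Finset.card_pos]
      exact hpos
    obtain ⟨w, hw⟩ := hex
    simp only [Finset.mem_filter, Finset.mem_univ, true_and] at hw
    exact card_le_of_nbr_bound hprim (CoAdj G x0 y0) (coadj_symm x0 y0) (coadj_inv x0 y0)
      ⟨x0, w, hw.1, hw⟩ (fun a b h => h.1) x0 (2 * δ) (fun w _ => hdia x0 w)
  have he0 : e = 0 → 2 * k1 ≤ k := by
    intro h0
    have hin : (Finset.univ.filter (fun w => OutR G x0 y0 w x0)).card = k1 := by
      rw [← card_out_eq_card_in x0 y0 x0 x0]
    have hdisj : Disjoint (Finset.univ.filter (fun w => OutR G x0 y0 x0 w))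
        (Finset.univ.filter (fun w => OutR G x0 y0 w x0)) := by
      rw [Finset.disjoint_left]
      intro u hu hu'
      simp only [Finset.mem_filter, Finset.mem_univ, true_and] at hu hu'
      apply hnot2
      -- the stabilizer of x0 is transitive on the other points
      have htr : ∀ w : Ω, w ≠ x0 → ∃ g : G, g • x0 = x0 ∧ g • u = w := by
        intro w hw
        have hadj : Adj G x0 y0 x0 w := by
          by_contra hcon
          have : w ∈ Finset.univ.filter (fun w => CoAdj G x0 y0 x0 w) := by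
            simp only [Finset.mem_filter, Finset.mem_univ, true_and]
            exact ⟨fun h => hw h.symm, hcon⟩
          rw [Finset.card_eq_zero.mp h0] at this
          simp at this
        rcases hadj with ⟨g, h1, h2⟩ | ⟨g, h1, h2⟩
        · obtain ⟨g', h1', h2'⟩ := hu
          have e1 : g'⁻¹ • x0 = x0 := by rw [inv_smul_eq_iff, h1']
          have e2 : g'⁻¹ • u = y0 := by rw [inv_smul_eq_iff, h2']
          refine ⟨g * g'⁻¹, ?_, ?_⟩
          · rw [mul_smul, e1, h1]
          · rw [mul_smul, e2, h2]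
        · obtain ⟨g', h1', h2'⟩ := hu'
          have e1 : g'⁻¹ • u = x0 := by rw [inv_smul_eq_iff, h1']
          have e2 : g'⁻¹ • x0 = y0 := by rw [inv_smul_eq_iff, h2']
          refine ⟨g * g'⁻¹, ?_, ?_⟩
          · rw [mul_smul, e2, h2]
          · rw [mul_smul, e1, h1]
      intro a b a' b' hab hab'
      obtain ⟨s, hs⟩ := exists_smul_eq G a x0
      obtain ⟨t, ht⟩ := exists_smul_eq G a' x0
      have hsb : s • b ≠ x0 := by
        intro h
        apply hab
        have : s • a = s • b := hs.trans h.symm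
        exact (MulAction.injective s) this
      have htb : t • b' ≠ x0 := by
        intro h
        apply hab'
        have : t • a' = t • b' := ht.trans h.symm
        exact (MulAction.injective t) this
      obtain ⟨g1, h11, h12⟩ := htr _ hsb
      obtain ⟨g2, h21, h22⟩ := htr _ htb
      refine ⟨t⁻¹ * g2 * g1⁻¹ * s, ?_, ?_⟩
      · rw [mul_smul, mul_smul, mul_smul, hs]
        have : g1⁻¹ • x0 = x0 := by rw [inv_smul_eq_iff, h11]
        rw [this, h21, inv_smul_eq_iff, ht]
      · rw [mul_smul, mul_smul, mul_smul]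
        have : g1⁻¹ • s • b = u := by rw [inv_smul_eq_iff, h12]
        rw [this, h22, inv_smul_smul]
    have hsub : (Finset.univ.filter (fun w => OutR G x0 y0 x0 w)) ∪
        (Finset.univ.filter (fun w => OutR G x0 y0 w x0)) ⊆
        (Finset.univ.filter (fun w => Adj G x0 y0 x0 w)) := by
      intro w hw
      simp only [Finset.mem_union, Finset.mem_filter, Finset.mem_univ, true_and] at hw ⊢
      exact hw
    have := Finset.card_le_card hsub
    rw [Finset.card_union_of_disjoint hdisj, hin] at this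
    omega
  exact arith_final _ k k1 e δ hn hkbig hbig hB hk1le he0 hAe

end Cfsg.Agent.Lib.Helper13.MinDeg
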