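import Mathlib

set_option autoImplicit false

/-! Minimal degree of primitive groups (helper13), part F: the commutator of two permutations whose
supports meet in exactly one point is a 3-cycle. -/

namespace Cfsg.Agent.Lib.Helper13.MinDeg

open Equiv

variable {Ω : Type*} [Fintype Ω] [DecidableEq Ω]

theorem perm_apply_inv (s : Perm Ω) (x : Ω) : s (s⁻¹ x) = x := s.apply_symm_apply x

theorem perm_inv_apply (s : Perm Ω) (x : Ω) : s⁻¹ (s x) = x := s.symm_apply_apply x

theorem inv_apply_of_fixed (s : Perm Ω) (x : Ω) (h : s x = x) : s⁻¹ x = x := by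
  rw [Perm.inv_eq_iff_eq, h]

theorem inv_apply_moved (s : Perm Ω) (x : Ω) (h : s x ≠ x) : s (s⁻¹ x) ≠ s⁻¹ x := by
  intro h'
  apply h
  rw [perm_apply_inv] at h'
  -- h' : x = s⁻¹ x
  have : s x = s (s⁻¹ x) := congrArg s h'
  rw [perm_apply_inv] at this
  exact this

/-- If the supports of `s` and `t` meet exactly in `α`, then `s t s⁻¹ t⁻¹` is a 3-cycle. -/
theorem isThreeCycle_commutator (s t : Perm Ω) (α : Ω) (hs : s α ≠ α) (ht : t α ≠ α)
    (hst : ∀ x, s x ≠ x → t x ≠ x → x = α) : (s * t * s⁻¹ * t⁻¹).IsThreeCycle := by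
  -- basic facts
  have fs : ∀ x, x ≠ α → t x ≠ x → s x = x := by
    intro x hx htx
    by_contra h
    exact hx (hst x h htx)
  have ft : ∀ x, x ≠ α → s x ≠ x → t x = x := by
    intro x hx hsx
    by_contra h
    exact hx (hst x hsx h)
  have msα : s (s α) ≠ s α := fun h => hs (s.injective h)
  have mtα : t (t α) ≠ t α := fun h => ht (t.injective h)
  have hsαt : t (s α) = s α := ft (s α) hs msα
  have htαs : s (t α) = t α := fs (t α) ht mtα
  have hne : s α ≠ t α := by
    intro h
    have : t (s α) ≠ s α := by rw [h]; exact mtα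
    exact this hsαt
  set c := s * t * s⁻¹ * t⁻¹ with hc
  have capp : ∀ x, c x = s (t (s⁻¹ (t⁻¹ x))) := fun x => rfl
  -- the three values
  have c1 : c α = s α := by
    rw [capp]
    have h1 : t (t⁻¹ α) ≠ t⁻¹ α := inv_apply_moved t α ht
    have h2 : t⁻¹ α ≠ α := by
      intro h
      rw [Perm.inv_eq_iff_eq] at h
      exact ht h.symm
    have h3 : s (t⁻¹ α) = t⁻¹ α := fs _ h2 h1
    rw [inv_apply_of_fixed s _ h3, perm_apply_inv]
  have c2 : c (s α) = t α := by
    rw [capp, inv_apply_of_fixed t _ hsαt, perm_inv_apply, htαs]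
  have c3 : c (t α) = α := by
    rw [capp, perm_inv_apply]
    have h1 : s (s⁻¹ α) ≠ s⁻¹ α := inv_apply_moved s α hs
    have h2 : s⁻¹ α ≠ α := by
      intro h
      rw [Perm.inv_eq_iff_eq] at h
      exact hs h.symm
    have h3 : t (s⁻¹ α) = s⁻¹ α := ft _ h2 h1
    rw [h3, perm_apply_inv]
  have cfix : ∀ x, x ≠ α → x ≠ s α → x ≠ t α → c x = x := by
    intro x hxα hxs hxt
    rw [capp]
    by_cases htx : t x = x
    · rw [inv_apply_of_fixed t x htx]
      by_cases hsx : s x = x
      · rw [inv_apply_of_fixed s x hsx, htx, hsx]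
      · have h1 : s (s⁻¹ x) ≠ s⁻¹ x := inv_apply_moved s x hsx
        have h2 : s⁻¹ x ≠ α := by
          intro h
          apply hxs
          rw [← h, perm_apply_inv]
        rw [ft _ h2 h1, perm_apply_inv]
    · have h1 : t (t⁻¹ x) ≠ t⁻¹ x := inv_apply_moved t x htx
      have h2 : t⁻¹ x ≠ α := by
        intro h
        apply hxt
        rw [← h, perm_apply_inv]
      have h3 : s (t⁻¹ x) = t⁻¹ x := fs _ h2 h1
      rw [inv_apply_of_fixed s _ h3, perm_apply_inv]
      exact fs x hxα htx
  rw [← card_support_eq_three_iff]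
  have hsupp : c.support = {α, s α, t α} := by
    ext x
    simp only [Perm.mem_support, Finset.mem_insert, Finset.mem_singleton]
    constructor
    · intro hx
      by_contra hcon
      simp only [not_or] at hcon
      exact hx (cfix x hcon.1 hcon.2.1 hcon.2.2)
    · rintro (rfl | rfl | rfl)
      · rw [c1]; exact hs
      · rw [c2]; exact hne.symm
      · rw [c3]; exact ht.symm
  rw [hsupp]
  rw [Finset.card_insert_of_notMem, Finset.card_insert_of_notMem, Finset.card_singleton]
  · simp only [Finset.mem_singleton]; exact hne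
  · simp only [Finset.mem_insert, Finset.mem_singleton, not_or]
    exact ⟨hs.symm, ht.symm⟩

end Cfsg.Agent.Lib.Helper13.MinDeg
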