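import Mathlib
import Cfsg.Agent.Lib.Helper13.MinDegC
import Cfsg.Agent.Lib.Helper13.MinDegF

set_option autoImplicit false

/-! Minimal degree of primitive groups (helper13), part G: the 2-transitive case. -/

namespace Cfsg.Agent.Lib.Helper13.MinDeg

open MulAction Finset
open scoped Classical

variable {G Ω : Type*} [Group G] [MulAction G Ω] [Fintype Ω]

/-- In a 2-transitive group, the stabilizer of `a` contains an element moving a small set `Δ'`
off itself. -/
theorem exists_stab_disjoint [Fintype G] (h2 : TwoTrans G Ω) (a : Ω) (Δ' : Finset Ω)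
    (ha : a ∉ Δ') (hne : Δ'.Nonempty) (hcard : Δ'.card * Δ'.card + 1 < Fintype.card Ω) :
    ∃ h : G, h • a = a ∧ ∀ b ∈ Δ', h • b ∉ Δ' := by
  by_contra H
  push_neg at H
  obtain ⟨b0, hb0⟩ := hne
  have hb0a : b0 ≠ a := fun h => ha (h ▸ hb0)
  set T : Ω → Ω → Finset G := fun b b' => Finset.univ.filter (fun h : G => h • a = a ∧ h • b = b')
    with hT
  set S : Finset G := Finset.univ.filter (fun h : G => h • a = a) with hS
  set q := (T b0 b0).card with hq
  have hconst : ∀ b b' : Ω, b ≠ a → b' ≠ a → (T b b').card = q := by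
    intro b b' hb hb'
    obtain ⟨u, hu1, hu2⟩ := h2 a b a b0 hb.symm hb0a.symm
    obtain ⟨v, hv1, hv2⟩ := h2 a b0 a b' hb0a.symm hb'.symm
    symm
    apply Finset.card_nbij' (fun h => v * h * u) (fun h => v⁻¹ * h * u⁻¹)
    · intro h hh
      simp only [hT, Finset.coe_filter, Finset.mem_univ, true_and, Set.mem_setOf_eq] at hh ⊢
      refine ⟨?_, ?_⟩
      · rw [mul_smul, mul_smul, hu1, hh.1, hv1]
      · rw [mul_smul, mul_smul, hu2, hh.2, hv2]
    · intro h hh
      simp only [hT, Finset.coe_filter, Finset.mem_univ, true_and, Set.mem_setOf_eq] at hh ⊢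
      have e1 : u⁻¹ • a = a := by rw [inv_smul_eq_iff, hu1]
      have e2 : u⁻¹ • b0 = b := by rw [inv_smul_eq_iff, hu2]
      have e3 : v⁻¹ • a = a := by rw [inv_smul_eq_iff, hv1]
      have e4 : v⁻¹ • b' = b0 := by rw [inv_smul_eq_iff, hv2]
      refine ⟨?_, ?_⟩
      · rw [mul_smul, mul_smul, e1, hh.1, e3]
      · rw [mul_smul, mul_smul, e2, hh.2, e4]
    · intro h _
      simp only
      group
    · intro h _
      simp only
      group
  have hqpos : 0 < q := by
    rw [hq, Finset.card_pos]
    exact ⟨1, by simp [hT]⟩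
  -- |S| = (n-1) q
  have hScard : S.card = (Fintype.card Ω - 1) * q := by
    have h1 : S.card = ∑ b' ∈ (Finset.univ.erase a : Finset Ω),
        (S.filter (fun h => h • b0 = b')).card := by
      apply Finset.card_eq_sum_card_fiberwise
      intro h hh
      simp only [hS, Finset.coe_filter, Finset.mem_univ, true_and, Set.mem_setOf_eq] at hh
      simp only [Finset.coe_erase, Finset.coe_univ, Set.mem_diff, Set.mem_univ,
        Set.mem_singleton_iff, true_and]
      intro hcon
      apply hb0a
      have : h • b0 = h • a := hcon.trans hh.symm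
      exact (MulAction.injective h) this
    rw [h1]
    have h2' : ∀ b' ∈ (Finset.univ.erase a : Finset Ω),
        (S.filter (fun h => h • b0 = b')).card = q := by
      intro b' hb'
      rw [Finset.mem_erase] at hb'
      rw [← hconst b0 b' hb0a hb'.1]
      congr 1
      ext h
      simp [hS, hT]
    rw [Finset.sum_congr rfl h2', Finset.sum_const, smul_eq_mul, Finset.card_erase_of_mem
      (Finset.mem_univ a), Finset.card_univ]
  -- Σ_{h ∈ S} X'_h = m'^2 q
  have hsum : ∑ h ∈ S, (Δ'.filter (fun b => h • b ∈ Δ')).card = Δ'.card * Δ'.card * q := by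
    have e1 : ∀ h : G, (Δ'.filter (fun b => h • b ∈ Δ')).card =
        ∑ b ∈ Δ', ∑ b' ∈ Δ', (if h • b = b' then 1 else 0) := by
      intro h
      rw [Finset.card_filter]
      apply Finset.sum_congr rfl
      intro b _
      rw [Finset.sum_ite_eq]
    simp_rw [e1]
    rw [Finset.sum_comm]
    have e2 : ∀ b ∈ Δ', ∑ h ∈ S, ∑ b' ∈ Δ', (if h • b = b' then 1 else 0) = Δ'.card * q := by
      intro b hb
      rw [Finset.sum_comm]
      have e3 : ∀ b' ∈ Δ', ∑ h ∈ S, (if h • b = b' then 1 else 0) = q := by
        intro b' hb'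
        rw [← Finset.card_filter]
        have hba : b ≠ a := fun h => ha (h ▸ hb)
        have hb'a : b' ≠ a := fun h => ha (h ▸ hb')
        rw [← hconst b b' hba hb'a]
        congr 1
        ext h
        simp [hS, hT]
      rw [Finset.sum_congr rfl e3, Finset.sum_const, smul_eq_mul]
    rw [Finset.sum_congr rfl e2, Finset.sum_const, smul_eq_mul, mul_assoc]
  have hle : S.card ≤ ∑ h ∈ S, (Δ'.filter (fun b => h • b ∈ Δ')).card := by
    calc S.card = ∑ h ∈ S, 1 := by simp
      _ ≤ _ := by
        apply Finset.sum_le_sum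
        intro h hh
        simp only [hS, Finset.mem_filter, Finset.mem_univ, true_and] at hh
        obtain ⟨b, hb, hb'⟩ := H h hh
        rw [Nat.succ_le_iff, Finset.card_pos]
        exact ⟨b, by simp [hb, hb']⟩
  rw [hScard, hsum] at hle
  have := Nat.le_of_mul_le_mul_right hle hqpos
  omega

/-- The 2-transitive case: no element acting as a 3-cycle forces `n ≤ (m-1)² + 1`. -/
theorem two_trans_bound [Finite G] [DecidableEq Ω] (h2 : TwoTrans G Ω) (s : G) (a : Ω)
    (hsa : s • a ≠ a)
    (hno3 : ∀ c : G, ¬ (MulAction.toPermHom G Ω c).IsThreeCycle) :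
    Fintype.card Ω ≤ ((Finset.univ.filter (fun z : Ω => s • z ≠ z)).card - 1) ^ 2 + 1 := by
  by_contra hlt
  push_neg at hlt
  haveI : Fintype G := Fintype.ofFinite G
  set Δ : Finset Ω := Finset.univ.filter (fun z : Ω => s • z ≠ z) with hΔ
  have haΔ : a ∈ Δ := by simp [hΔ, hsa]
  set Δ' := Δ.erase a with hΔ'
  have hcardΔ' : Δ'.card = Δ.card - 1 := Finset.card_erase_of_mem haΔ
  have hsaΔ' : s • a ∈ Δ' := by
    rw [hΔ', Finset.mem_erase]
    refine ⟨hsa, ?_⟩
    simp only [hΔ, Finset.mem_filter, Finset.mem_univ, true_and]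
    intro h
    exact hsa ((MulAction.injective s) h)
  have hcard : Δ'.card * Δ'.card + 1 < Fintype.card Ω := by
    rw [hcardΔ', ← pow_two]
    exact hlt
  obtain ⟨h, hha, hh⟩ := exists_stab_disjoint h2 a Δ' (Finset.notMem_erase a Δ) ⟨_, hsaΔ'⟩ hcard
  set t : G := h⁻¹ * s * h with ht
  have hta : t • a ≠ a := by
    rw [ht, mul_smul, mul_smul, hha]
    intro hcon
    rw [inv_smul_eq_iff, hha] at hcon
    exact hsa hcon
  have hmeet : ∀ x : Ω, (MulAction.toPermHom G Ω s) x ≠ x → (MulAction.toPermHom G Ω t) x ≠ x →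
      x = a := by
    intro x hx1 hx2
    simp only [MulAction.toPermHom_apply, MulAction.toPerm_apply] at hx1 hx2
    by_contra hxa
    have hxΔ' : x ∈ Δ' := by
      rw [hΔ', Finset.mem_erase]
      exact ⟨hxa, by simp [hΔ, hx1]⟩
    apply hh x hxΔ'
    rw [hΔ', Finset.mem_erase]
    refine ⟨?_, ?_⟩
    · intro hcon
      apply hxa
      have : h • x = h • a := hcon.trans hha.symm
      exact (MulAction.injective h) this
    · simp only [hΔ, Finset.mem_filter, Finset.mem_univ, true_and]
      intro hcon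
      apply hx2
      rw [ht, mul_smul, mul_smul, hcon, inv_smul_smul]
  have h3 := isThreeCycle_commutator (MulAction.toPermHom G Ω s) (MulAction.toPermHom G Ω t) a
    (by simpa using hsa) (by simpa using hta) hmeet
  apply hno3 (s * t * s⁻¹ * t⁻¹)
  rw [map_mul, map_mul, map_mul, map_inv, map_inv]
  exact h3

end Cfsg.Agent.Lib.Helper13.MinDeg
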