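import Mathlib
import Cfsg.Agent.Lib.helper7.NCV.Defs

/-!
# Project NCV (helper13): own-name copies of the basic 2×2 facts used by rows C13D, C15A, C15C.
-/

set_option autoImplicit false

namespace Cfsg.Agent.Lib.helper7.NCV

open Matrix

universe u

variable {F : Type u} [Field F]

/-- own copy of C1. -/
theorem ncv_h13_irr_ne (g : Matrix (Fin 2) (Fin 2) F) (h : Irr g) : g 0 1 ≠ 0 ∧ g 1 0 ≠ 0 := by
  refine ⟨?_, ?_⟩
  · intro h0
    refine h ![0, 1] ?_ (g 1 1) ?_
    · intro hv
      have := congrFun hv 1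
      simp at this
    · ext i
      fin_cases i <;> simp [Matrix.mulVec, dotProduct, Fin.sum_univ_two, h0]
  · intro h0
    refine h ![1, 0] ?_ (g 0 0) ?_
    · intro hv
      have := congrFun hv 0
      simp at this
    · ext i
      fin_cases i <;> simp [Matrix.mulVec, dotProduct, Fin.sum_univ_two, h0]

/-- own copy of C3'. -/
theorem ncv_h13_irr_charpoly_ne (g : Matrix (Fin 2) (Fin 2) F) (h : Irr g) (c : F) :
    c ^ 2 - g.trace * c + g.det ≠ 0 := by
  intro h0
  have hdet : (g - c • (1 : Matrix (Fin 2) (Fin 2) F)).det = 0 := by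
    rw [Matrix.det_fin_two]
    rw [Matrix.trace_fin_two, Matrix.det_fin_two] at h0
    simp only [Matrix.sub_apply, Matrix.smul_apply, Matrix.one_apply_eq, smul_eq_mul, mul_one,
      Matrix.one_apply_ne (show (0 : Fin 2) ≠ 1 by decide),
      Matrix.one_apply_ne (show (1 : Fin 2) ≠ 0 by decide), mul_zero, sub_zero]
    linear_combination h0
  obtain ⟨v, hv, hv0⟩ := Matrix.exists_mulVec_eq_zero_iff.mpr hdet
  refine h v hv c ?_
  rw [Matrix.sub_mulVec, Matrix.smul_mulVec, Matrix.one_mulVec, sub_eq_zero] at hv0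
  exact hv0

/-- own copy of C3. -/
theorem ncv_h13_irr_affine (g : Matrix (Fin 2) (Fin 2) F) (h : Irr g) (α β : F) (hβ : β ≠ 0) :
    Irr (α • (1 : Matrix (Fin 2) (Fin 2) F) + β • g) := by
  intro v hv c hc
  refine h v hv ((c - α) / β) ?_
  rw [Matrix.add_mulVec, Matrix.smul_mulVec, Matrix.smul_mulVec, Matrix.one_mulVec] at hc
  have h1 : β • (g *ᵥ v) = (c - α) • v := by
    rw [sub_smul, ← hc]; abel
  calc g *ᵥ v = β⁻¹ • (β • (g *ᵥ v)) := by rw [smul_smul, inv_mul_cancel₀ hβ, one_smul]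
    _ = ((c - α) / β) • v := by rw [h1, smul_smul]; congr 1; field_simp

/-- own copy of C3''. -/
theorem ncv_h13_cayley2 (g : Matrix (Fin 2) (Fin 2) F) :
    g * g = g.trace • g - g.det • (1 : Matrix (Fin 2) (Fin 2) F) := by
  ext i j
  fin_cases i <;> fin_cases j <;>
    simp [Matrix.mul_apply, Fin.sum_univ_two, Matrix.trace_fin_two, Matrix.det_fin_two] <;> ring

end Cfsg.Agent.Lib.helper7.NCV
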