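import Mathlib
import Cfsg.Agent.Lib.helper7.NCV.Defs
import Cfsg.Agent.Lib.Helper13.NCVbasics

/-!
# Project NCV, row C13D (helper13): `tr0_companion`, verbatim.
-/

set_option autoImplicit false

namespace Cfsg.Agent.Lib.helper7.NCV

open Matrix

universe u

variable {F : Type u} [Field F] {n : ℕ}

/-- `det (a + x) = a² + a tr x + det x`. -/
theorem ncvc13d_det (x : Matrix (Fin 2) (Fin 2) F) (a : F) :
    (a • (1 : Matrix (Fin 2) (Fin 2) F) + x).det = a ^ 2 + a * x.trace + x.det := by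
  rw [Matrix.det_fin_two, Matrix.det_fin_two, Matrix.trace_fin_two]
  simp only [Matrix.add_apply, Matrix.smul_apply, Matrix.one_apply_eq, smul_eq_mul, mul_one,
    Matrix.one_apply_ne (show (0 : Fin 2) ≠ 1 by decide),
    Matrix.one_apply_ne (show (1 : Fin 2) ≠ 0 by decide), mul_zero, zero_add]
  ring

/-- `(a + x)² = (a² - det x) + (2a + tr x) x`. -/
theorem ncvc13d_sq (x : Matrix (Fin 2) (Fin 2) F) (a : F) :
    (a • (1 : Matrix (Fin 2) (Fin 2) F) + x) * (a • (1 : Matrix (Fin 2) (Fin 2) F) + x) =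
      (a ^ 2 - x.det) • (1 : Matrix (Fin 2) (Fin 2) F) + (2 * a + x.trace) • x := by
  have e : (a • (1 : Matrix (Fin 2) (Fin 2) F) + x) * (a • (1 : Matrix (Fin 2) (Fin 2) F) + x) =
      (a * a) • (1 : Matrix (Fin 2) (Fin 2) F) + (2 * a) • x + x * x := by
    rw [Matrix.add_mul, Matrix.mul_add, Matrix.mul_add, Matrix.smul_mul, Matrix.smul_mul,
      Matrix.mul_smul, Matrix.mul_smul, Matrix.one_mul, Matrix.one_mul, Matrix.mul_one, smul_smul,
      two_mul, add_smul]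
    abel
  rw [e, ncv_h13_cayley2, add_smul, sub_smul, pow_two]
  abel

/-- **C13d (TR0).** -/
theorem tr0_companion (x : Matrix (Fin 2) (Fin 2) F) (hi : Irr x) (ht : x.trace = 0)
    (h2 : (2 : F) ≠ 0) (a : F) (ha : a ≠ 0) (ha2 : a ^ 2 ≠ x.det) :
    ∃ k : GL (Fin 2) F, Irr ((k * k : GL (Fin 2) F) : Matrix (Fin 2) (Fin 2) F) ∧
      ((k * k : GL (Fin 2) F) : Matrix (Fin 2) (Fin 2) F).trace ≠ 0 ∧
      x * ((k * k : GL (Fin 2) F) : Matrix (Fin 2) (Fin 2) F)
        = ((k * k : GL (Fin 2) F) : Matrix (Fin 2) (Fin 2) F) * x := by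
  have hdet : (a • (1 : Matrix (Fin 2) (Fin 2) F) + x).det ≠ 0 := by
    rw [ncvc13d_det, ht, mul_zero, add_zero]
    have := ncv_h13_irr_charpoly_ne x hi (-a)
    rw [ht, zero_mul, sub_zero] at this
    simpa using this
  refine ⟨Matrix.GeneralLinearGroup.mkOfDetNeZero _ hdet, ?_⟩
  have hkk : ((Matrix.GeneralLinearGroup.mkOfDetNeZero _ hdet *
      Matrix.GeneralLinearGroup.mkOfDetNeZero _ hdet : GL (Fin 2) F) :
      Matrix (Fin 2) (Fin 2) F) =
      (a ^ 2 - x.det) • (1 : Matrix (Fin 2) (Fin 2) F) + (2 * a) • x := by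
    rw [Units.val_mul, Matrix.GeneralLinearGroup.val_mkOfDetNeZero, ncvc13d_sq, ht, add_zero]
  rw [hkk]
  refine ⟨ncv_h13_irr_affine x hi _ _ (mul_ne_zero h2 ha), ?_, ?_⟩
  · rw [Matrix.trace_add, Matrix.trace_smul, Matrix.trace_smul, ht, Matrix.trace_one,
      Fintype.card_fin, smul_eq_mul, smul_eq_mul, mul_zero, add_zero]
    refine mul_ne_zero (sub_ne_zero.mpr ha2) ?_
    exact_mod_cast h2
  · rw [Matrix.mul_add, Matrix.add_mul, Matrix.mul_smul, Matrix.smul_mul, Matrix.mul_smul,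
      Matrix.smul_mul, Matrix.mul_one, Matrix.one_mul]

end Cfsg.Agent.Lib.helper7.NCV
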