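import Mathlib
import Cfsg.Agent.Lib.helper7.NCV.Defs
import Cfsg.Agent.Lib.Helper13.NCVbasics

/-!
# Project NCV, row C15A (helper13): `dinv`, core on the conclusion of C5 (`ceng`).

`mu_cases` (C6) is not needed: the four entries of `d c d⁻¹ = μ c` give everything directly.
-/

set_option autoImplicit false

namespace Cfsg.Agent.Lib.helper7.NCV

open Matrix

universe u

variable {F : Type u} [Field F] {n : ℕ}

/-- the matrix of `toGL (dgSL s)`. -/
theorem ncvc15a_dg_val (s : Fˣ) :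
    ((Matrix.SpecialLinearGroup.toGL (dgSL s) : GL (Fin 2) F) : Matrix (Fin 2) (Fin 2) F) =
      !![(s : F), 0; 0, ((s⁻¹ : Fˣ) : F)] := rfl

/-- the matrix of `(toGL (dgSL s))⁻¹`. -/
theorem ncvc15a_dg_inv_val (s : Fˣ) :
    (((Matrix.SpecialLinearGroup.toGL (dgSL s))⁻¹ : GL (Fin 2) F) : Matrix (Fin 2) (Fin 2) F) =
      !![((s⁻¹ : Fˣ) : F), 0; 0, (s : F)] := by
  rw [Matrix.coe_units_inv, ncvc15a_dg_val]
  refine Matrix.inv_eq_right_inv ?_
  ext i j
  fin_cases i <;> fin_cases j <;> simp [Matrix.mul_apply, Fin.sum_univ_two]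

/-- pure algebra: `D c D⁻¹ = μ c` for `D = diag(s, s⁻¹)`, `c = α + β g`, `β ≠ 0`, `g` with non-zero
off-diagonal entries, `s² ≠ 1`. -/
theorem ncvc15a_alg (s si : F) (hsi : s * si = 1) (hs : s ^ 2 ≠ 1) (g : Matrix (Fin 2) (Fin 2) F)
    (h01 : g 0 1 ≠ 0) (h10 : g 1 0 ≠ 0) (α β μ : F) (hβ : β ≠ 0)
    (h : (!![s, 0; 0, si] : Matrix (Fin 2) (Fin 2) F) *
        (α • (1 : Matrix (Fin 2) (Fin 2) F) + β • g) * !![si, 0; 0, s]
      = μ • (α • (1 : Matrix (Fin 2) (Fin 2) F) + β • g)) :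
    s ^ 2 = -1 ∧
    (!![s, 0; 0, si] : Matrix (Fin 2) (Fin 2) F) * g * !![si, 0; 0, s]
      = g.trace • (1 : Matrix (Fin 2) (Fin 2) F) - g := by
  have e00 := congrFun (congrFun h 0) 0
  have e01 := congrFun (congrFun h 0) 1
  have e10 := congrFun (congrFun h 1) 0
  have e11 := congrFun (congrFun h 1) 1
  simp [Matrix.mul_apply, Fin.sum_univ_two, Matrix.vecMul, dotProduct] at e00 e01 e10 e11
  -- e01 : s * (β * g 0 1) * s = μ * (β * g 0 1)
  have hμ : μ = s ^ 2 := by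
    have : (s ^ 2 - μ) * (β * g 0 1) = 0 := by linear_combination e01
    rcases mul_eq_zero.mp this with h1 | h1
    · exact (sub_eq_zero.mp h1).symm
    · exact absurd h1 (mul_ne_zero hβ h01)
  have hμ1 : μ - 1 ≠ 0 := by
    rw [hμ]; exact sub_ne_zero.mpr hs
  have hsi2 : si ^ 2 = s ^ 2 := by
    have : (si ^ 2 - μ) * (β * g 1 0) = 0 := by linear_combination e10
    rcases mul_eq_zero.mp this with h1 | h1
    · rw [← hμ]; exact sub_eq_zero.mp h1
    · exact absurd h1 (mul_ne_zero hβ h10)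
  have hs4 : (s ^ 2 - 1) * (s ^ 2 + 1) = 0 := by
    have h1 : s ^ 2 * si ^ 2 = 1 := by rw [← mul_pow, hsi, one_pow]
    rw [hsi2] at h1
    linear_combination h1
  have hs2 : s ^ 2 = -1 := by
    rcases mul_eq_zero.mp hs4 with h1 | h1
    · exact absurd (sub_eq_zero.mp h1) hs
    · exact eq_neg_of_add_eq_zero_left h1
  have ha : α + β * g 0 0 = 0 := by
    have : (μ - 1) * (α + β * g 0 0) = 0 := by
      have hsisi : s * si = 1 := hsi
      linear_combination (α + β * g 0 0) * hsisi - e00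
    rcases mul_eq_zero.mp this with h1 | h1
    · exact absurd h1 hμ1
    · exact h1
  have hd : α + β * g 1 1 = 0 := by
    have : (μ - 1) * (α + β * g 1 1) = 0 := by
      have hsisi : s * si = 1 := hsi
      linear_combination (α + β * g 1 1) * hsisi - e11
    rcases mul_eq_zero.mp this with h1 | h1
    · exact absurd h1 hμ1
    · exact h1
  have had : g 0 0 = g 1 1 := by
    have : β * (g 0 0 - g 1 1) = 0 := by linear_combination ha - hd
    rcases mul_eq_zero.mp this with h1 | h1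
    · exact absurd h1 hβ
    · exact sub_eq_zero.mp h1
  refine ⟨hs2, ?_⟩
  have hsi2' : si ^ 2 = -1 := by rw [hsi2, hs2]
  ext i j
  fin_cases i <;> fin_cases j <;>
    simp [Matrix.mul_apply, Fin.sum_univ_two, Matrix.trace_fin_two, Matrix.vecMul, dotProduct]
  · linear_combination (g 0 0) * hsi + had
  · linear_combination (g 0 1) * hs2
  · linear_combination (g 1 0) * hsi2'
  · linear_combination (g 1 1) * hsi - had

/-- **C15a (DINV)**, core: the conclusion of `ceng` (C5) for `X`, `g` as a hypothesis. -/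
theorem ncvc15a_core (X : Subgroup (GL (Fin 2) F)) (s : Fˣ)
    (hs : (s : F) ^ 2 ≠ 1) (g : GL (Fin 2) F) (hi : Irr (g : Matrix (Fin 2) (Fin 2) F))
    (hd : Matrix.SpecialLinearGroup.toGL (dgSL s) ∈ X)
    (hC5 : ∃ α β : F, β ≠ 0 ∧ ∀ y ∈ X, ∃ μ : F,
      (y : Matrix (Fin 2) (Fin 2) F) *
        (α • (1 : Matrix (Fin 2) (Fin 2) F) + β • (g : Matrix (Fin 2) (Fin 2) F)) *
        ((y⁻¹ : GL (Fin 2) F) : Matrix (Fin 2) (Fin 2) F)
      = μ • (α • (1 : Matrix (Fin 2) (Fin 2) F) + β • (g : Matrix (Fin 2) (Fin 2) F))) :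
    (s : F) ^ 2 = -1 ∧
    (!![(s : F), 0; 0, ((s⁻¹ : Fˣ) : F)] : Matrix (Fin 2) (Fin 2) F) *
        (g : Matrix (Fin 2) (Fin 2) F) * !![((s⁻¹ : Fˣ) : F), 0; 0, (s : F)]
      = (g : Matrix (Fin 2) (Fin 2) F).trace • (1 : Matrix (Fin 2) (Fin 2) F)
        - (g : Matrix (Fin 2) (Fin 2) F) := by
  obtain ⟨α, β, hβ, hall⟩ := hC5
  obtain ⟨μ, hμ⟩ := hall _ hd
  rw [ncvc15a_dg_val, ncvc15a_dg_inv_val] at hμ
  obtain ⟨h01, h10⟩ := ncv_h13_irr_ne _ hi
  exact ncvc15a_alg (s : F) ((s⁻¹ : Fˣ) : F) (by simp) hs _ h01 h10 α β μ hβ hμ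

end Cfsg.Agent.Lib.helper7.NCV
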