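import Mathlib
import Cfsg.Agent.Lib.helper7.NCV.Defs
import Cfsg.Agent.Lib.Helper18.NCVC5
import Cfsg.Agent.Lib.Helper13.NCVC15Acore

/-!
# Project NCV, row C15A (helper13): `dinv`, verbatim.

One-liner over `ncvc15a_core` (Helper13/NCVC15Acore) with C5 `ceng` (Helper18/NCVC5).
-/

set_option autoImplicit false

namespace Cfsg.Agent.Lib.helper7.NCV

open Matrix

universe u

variable {F : Type u} [Field F] {n : ℕ}

/-- **C15a (DINV).** -/
theorem dinv (X : Subgroup (GL (Fin 2) F)) [Group.IsNilpotent ↥X] (s : Fˣ)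
    (hs : (s : F) ^ 2 ≠ 1) (g : GL (Fin 2) F) (hi : Irr (g : Matrix (Fin 2) (Fin 2) F))
    (ht : (g : Matrix (Fin 2) (Fin 2) F).trace ≠ 0)
    (hd : Matrix.SpecialLinearGroup.toGL (dgSL s) ∈ X) (hg : g ∈ X) :
    (s : F) ^ 2 = -1 ∧
    (!![(s : F), 0; 0, ((s⁻¹ : Fˣ) : F)] : Matrix (Fin 2) (Fin 2) F) *
        (g : Matrix (Fin 2) (Fin 2) F) * !![((s⁻¹ : Fˣ) : F), 0; 0, (s : F)]
      = (g : Matrix (Fin 2) (Fin 2) F).trace • (1 : Matrix (Fin 2) (Fin 2) F)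
        - (g : Matrix (Fin 2) (Fin 2) F) :=
  ncvc15a_core X s hs g hi hd (ceng X g hg hi ht)

end Cfsg.Agent.Lib.helper7.NCV
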