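import Mathlib
import Cfsg.Agent.Lib.helper7.NCV.Defs
import Cfsg.Agent.Lib.Helper13.NCVbasics

/-!
# Project NCV, row C15C (helper13): `h4`, verbatim.
-/

set_option autoImplicit false

namespace Cfsg.Agent.Lib.helper7.NCV

open Matrix

universe u

variable {F : Type u} [Field F] {n : ℕ}

/-- entry `(0,1)` of `y⁴`. -/
theorem ncvc15c_pow4_01 (y : Matrix (Fin 2) (Fin 2) F) :
    (y ^ 4) 0 1 = y 0 1 * y.trace * (y.trace ^ 2 - 2 * y.det) := by
  have e : y ^ 4 = (y * y) * (y * y) := by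
    rw [show (4 : ℕ) = 2 + 2 from rfl, pow_add, pow_two]
  rw [e, Matrix.trace_fin_two, Matrix.det_fin_two]
  simp only [Matrix.mul_apply, Fin.sum_univ_two]
  ring

/-- **C15c (H4).** -/
theorem h4 (y : Matrix (Fin 2) (Fin 2) F) (hi : Irr y) (s : F) (hs : s ^ 2 = -1) (z : F)
    (h : y ^ 4 = z • (1 : Matrix (Fin 2) (Fin 2) F)) :
    ∃ z' : F, y ^ 2 = z' • (1 : Matrix (Fin 2) (Fin 2) F) := by
  have hb : y 0 1 ≠ 0 := (ncv_h13_irr_ne y hi).1
  by_cases ht : y.trace = 0
  · refine ⟨-y.det, ?_⟩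
    rw [pow_two, ncv_h13_cayley2, ht, zero_smul, zero_sub, neg_smul]
  · exfalso
    have h01 : (y ^ 4) 0 1 = 0 := by
      rw [h]; simp
    rw [ncvc15c_pow4_01] at h01
    have ht2 : y.trace ^ 2 = 2 * y.det := by
      rcases mul_eq_zero.mp h01 with h1 | h1
      · rcases mul_eq_zero.mp h1 with h2 | h2
        · exact absurd h2 hb
        · exact absurd h2 ht
      · exact sub_eq_zero.mp h1
    have h2 : (2 : F) ≠ 0 := by
      intro h20
      rw [h20, zero_mul] at ht2
      exact ht ((pow_eq_zero_iff (two_ne_zero)).mp ht2)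
    set t := y.trace with htdef
    set δ := y.det with hδdef
    set hf : F := (2 : F)⁻¹ with hhf
    have hh : 2 * hf = 1 := mul_inv_cancel₀ h2
    refine ncv_h13_irr_charpoly_ne y hi (t * (1 + s) * hf) ?_
    linear_combination (t ^ 2 * hf ^ 2) * hs + (t ^ 2 * hf * s - δ) * hh - hf * ht2

end Cfsg.Agent.Lib.helper7.NCV
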