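import Mathlib
import Cfsg.Agent.Lib.Helper26.NPSQ1

set_option autoImplicit false

/-! Quadratic pairs in characteristic three: the field level (helper13, for S5279).
The `p ≥ 5` argument of helper26 (`z` conjugate to `z ^ 4`) is replaced by: every biadditive form
invariant under the elements of order prime to `3` is invariant under a transvection. -/

namespace Cfsg.Agent.Lib.Helper13.NPS3

universe w

section Quat

variable {A : Type*} [Ring A]

theorem three_mul_eq_zero (h3 : (1 : A) + 1 + 1 = 0) (X : A) : X + X + X = 0 := by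
  have : X + X + X = X * (1 + 1 + 1) := by
    rw [mul_add, mul_add, mul_one]
  rw [this, h3, mul_zero]

/-- In a ring of characteristic three, a unipotent element normalizing a quaternion pair `I, J`
like the standard transvection of `SL₂(3)` equals `1 + I + J + IJ`. -/
theorem quat_unip_eq (I J U : A) (h3 : (1 : A) + 1 + 1 = 0)
    (hI : I * I = -1) (hJ : J * J = -1) (hJI : J * I = -(I * J))
    (hUI : U * I = J * U) (hUJ : U * J = I * J * U) (hU : (U - 1) * (U - 1) = 0) :
    U = 1 + I + J + I * J := by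
  have hI' : ∀ x, I * (I * x) = -x := fun x => by rw [← mul_assoc, hI, neg_one_mul]
  have hJ' : ∀ x, J * (J * x) = -x := fun x => by rw [← mul_assoc, hJ, neg_one_mul]
  have hJI' : ∀ x, J * (I * x) = -(I * (J * x)) := fun x => by
    rw [← mul_assoc, hJI, neg_mul, mul_assoc]
  obtain ⟨s, hs⟩ : ∃ s : A, s = I + J + I * J := ⟨_, rfl⟩
  have hs2 : s * s = 0 := by
    have key : s * s = -(1 + 1 + 1) := by
      rw [hs]
      simp only [mul_add, add_mul, mul_assoc, hI, hJ, hJI, hI', hJ', hJI', mul_neg, neg_mul,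
        neg_neg, mul_one, one_mul]
      abel
    rw [key, h3, neg_zero]
  have hvu : (1 - s) * (1 + s) = 1 := by
    have e : (1 - s) * (1 + s) = 1 - s * s := by
      simp only [sub_mul, mul_add, one_mul, mul_one]; abel
    rw [e, hs2, sub_zero]
  -- conjugation relations for `v = 1 - s`
  have hvI : (1 - s) * I = I * J * (1 - s) := by
    rw [hs]
    simp only [mul_add, add_mul, mul_sub, sub_mul, mul_assoc, hI, hJ, hJI, hI', hJ', hJI', mul_neg,
      neg_mul, neg_neg, mul_one, one_mul]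
    abel
  have hvJ : (1 - s) * J = I * (1 - s) := by
    rw [hs]
    simp only [mul_add, add_mul, mul_sub, sub_mul, mul_assoc, hI, hJ, hJI, hI', hJ', hJI', mul_neg,
      neg_mul, neg_neg, mul_one, one_mul]
    abel
  obtain ⟨m, hm⟩ : ∃ m : A, m = U * (1 - s) := ⟨_, rfl⟩
  have hmI : m * I = I * m := by
    calc m * I = U * ((1 - s) * I) := by rw [hm, mul_assoc]
      _ = (U * I) * J * (1 - s) := by rw [hvI]; simp only [mul_assoc]
      _ = J * ((U * J) * (1 - s)) := by rw [hUI]; simp only [mul_assoc]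
      _ = (J * (I * J)) * (U * (1 - s)) := by rw [hUJ]; simp only [mul_assoc]
      _ = I * m := by
        rw [← hm]
        have : J * (I * J) = I := by
          rw [hJI', hJ, mul_neg, mul_one, neg_neg]
        rw [this]
  have hmJ : m * J = J * m := by
    calc m * J = U * ((1 - s) * J) := by rw [hm, mul_assoc]
      _ = (U * I) * (1 - s) := by rw [hvJ, mul_assoc]
      _ = J * m := by rw [hUI, hm, mul_assoc]
  have hms : m * s = s * m := by
    rw [hs, mul_add, mul_add, add_mul, add_mul, hmI, hmJ, ← mul_assoc, hmI, mul_assoc, hmJ,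
      mul_assoc]
  have hUm : U = m * (1 + s) := by
    rw [hm, mul_assoc, hvu, mul_one]
  obtain ⟨μ, hμ⟩ : ∃ μ : A, μ = m - 1 := ⟨_, rfl⟩
  have hmμ : m = 1 + μ := by rw [hμ]; abel
  have hμI : μ * I = I * μ := by rw [hμ, sub_mul, mul_sub, hmI, one_mul, mul_one]
  have hμs : μ * s = s * μ := by rw [hμ, sub_mul, mul_sub, hms, one_mul, mul_one]
  have hμm : μ * m = m * μ := by rw [hμ, sub_mul, mul_sub, one_mul, mul_one]
  -- the key cancellation lemma
  have hIsI : I * s * I = -I + J + I * J := by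
    rw [hs]
    simp only [mul_add, add_mul, mul_assoc, hI, hJ, hJI, hI', hJ', hJI', mul_neg, neg_mul,
      neg_neg, mul_one, one_mul]
  have cancel : ∀ X : A, X * I = I * X → X * s = 0 → X = 0 := by
    intro X hXI hXs
    have h1 : X * (I * s * I) = 0 := by
      calc X * (I * s * I) = I * (X * s) * I := by
            rw [← mul_assoc, ← mul_assoc, hXI]; simp only [mul_assoc]
        _ = 0 := by rw [hXs, mul_zero, zero_mul]
    have h2 : X * (I + I) = 0 := by
      have e : I + I = s - I * s * I := by rw [hIsI, hs]; abel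
      rw [e, mul_sub, hXs, h1, sub_zero]
    have h4 : X * (I + I) * I = 0 := by rw [h2, zero_mul]
    have h5 : X * (I + I) * I = -(X + X) := by
      rw [mul_assoc, add_mul, hI, mul_add, mul_neg, mul_one, neg_add]
    rw [h5, neg_eq_zero] at h4
    have h6 := three_mul_eq_zero h3 X
    rw [h4, zero_add] at h6
    exact h6
  have hUm1 : U - 1 = μ + m * s := by
    rw [hUm, mul_add, mul_one, hμ]; abel
  have hA : μ * μ + (μ * m + μ * m) * s = 0 := by
    have e : (μ + m * s) * (μ + m * s) = μ * μ + (μ * m + μ * m) * s := by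
      have e1 : m * s * μ = μ * m * s := by
        rw [mul_assoc, ← hμs, ← mul_assoc, ← hμm]
      have e2 : m * s * (m * s) = 0 := by
        calc m * s * (m * s) = m * (s * m) * s := by simp only [mul_assoc]
          _ = m * m * (s * s) := by rw [← hms]; simp only [mul_assoc]
          _ = 0 := by rw [hs2, mul_zero]
      rw [add_mul, mul_add, mul_add, e1, e2, add_zero, add_mul]
      simp only [mul_assoc]
      abel
    rw [← e, ← hUm1]
    exact hU
  have hμμ : μ * μ = 0 := by
    apply cancel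
    · rw [mul_assoc, hμI, ← mul_assoc, hμI, mul_assoc]
    · have := congrArg (· * s) hA
      simp only [add_mul, zero_mul] at this
      rw [mul_assoc (μ * m) s s, hs2, mul_zero, add_zero, add_zero] at this
      exact this
  rw [hμμ, zero_add] at hA
  have h2μm : μ * m + μ * m = 0 := by
    apply cancel _ _ hA
    have : μ * m * I = I * (μ * m) := by
      rw [mul_assoc, hmI, ← mul_assoc, hμI, mul_assoc]
    rw [add_mul, mul_add, this]
  have hμm0 : μ * m = 0 := by
    have h6 := three_mul_eq_zero h3 (μ * m)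
    rw [h2μm, zero_add] at h6
    exact h6
  have hμ0 : μ = 0 := by
    rw [hmμ, mul_add, mul_one, hμμ, add_zero] at hμm0
    exact hμm0
  rw [hUm, hmμ, hμ0, add_zero, one_mul, hs]
  abel

end Quat

section Bil

variable {V : Type*} [AddCommGroup V] {Z : Type*} [AddCommGroup Z]

/-- A biadditive form invariant under `I` and `J` is invariant under `1 + I + J + IJ`. -/
theorem bil_inv_of_quat {R : Type*} [Semiring R] [Module R V] (c : V → V → Z)
    (hcl : ∀ u v w, c (u + v) w = c u w + c v w) (hcr : ∀ u v w, c u (v + w) = c u v + c u w)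
    (I J : Module.End R V) (h3 : (1 : Module.End R V) + 1 + 1 = 0)
    (hI : I * I = -1) (hJ : J * J = -1) (hJI : J * I = -(I * J))
    (hcI : ∀ v w, c (I v) (I w) = c v w) (hcJ : ∀ v w, c (J v) (J w) = c v w) :
    ∀ v w, c ((1 + I + J + I * J) v) ((1 + I + J + I * J) w) = c v w := by
  have hc0l : ∀ w, c 0 w = 0 := by
    intro w
    have := hcl 0 0 w
    rw [add_zero] at this
    exact left_eq_add.mp this
  have hc0r : ∀ v, c v 0 = 0 := by
    intro v
    have := hcr v 0 0
    rw [add_zero] at this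
    exact left_eq_add.mp this
  have hcnl : ∀ v w, c (-v) w = -c v w := by
    intro v w
    have := hcl v (-v) w
    rw [add_neg_cancel, hc0l] at this
    exact (neg_eq_of_add_eq_zero_right this.symm).symm
  have hcnr : ∀ v w, c v (-w) = -c v w := by
    intro v w
    have := hcr v w (-w)
    rw [add_neg_cancel, hc0r] at this
    exact (neg_eq_of_add_eq_zero_right this.symm).symm
  have hII : ∀ v, I (I v) = -v := by
    intro v
    have := congrArg (fun f : Module.End R V => f v) hI
    simpa using this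
  have hJJ : ∀ v, J (J v) = -v := by
    intro v
    have := congrArg (fun f : Module.End R V => f v) hJ
    simpa using this
  have hJIv : ∀ v, J (I v) = -(I (J v)) := by
    intro v
    have := congrArg (fun f : Module.End R V => f v) hJI
    simpa using this
  have aI : ∀ v w, c (I v) w = -c v (I w) := by
    intro v w
    have := hcI (I v) w
    rw [hII, hcnl] at this
    exact this.symm
  have aJ : ∀ v w, c (J v) w = -c v (J w) := by
    intro v w
    have := hcJ (J v) w
    rw [hJJ, hcnl] at this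
    exact this.symm
  obtain ⟨s, hs⟩ : ∃ s : Module.End R V, s = I + J + I * J := ⟨_, rfl⟩
  have hsv : ∀ v, s v = I v + J v + I (J v) := by
    intro v; rw [hs]; rfl
  have as : ∀ v w, c (s v) w = -c v (s w) := by
    intro v w
    rw [hsv, hsv, hcl, hcl, hcr, hcr, aI, aJ, aI, aJ, hJIv, hcnr]
    abel
  have hs2 : s * s = 0 := by
    have hI' : ∀ x, I * (I * x) = -x := fun x => by rw [← mul_assoc, hI, neg_one_mul]
    have hJ' : ∀ x, J * (J * x) = -x := fun x => by rw [← mul_assoc, hJ, neg_one_mul]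
    have hJI' : ∀ x, J * (I * x) = -(I * (J * x)) := fun x => by
      rw [← mul_assoc, hJI, neg_mul, mul_assoc]
    have key : s * s = -(1 + 1 + 1) := by
      rw [hs]
      simp only [mul_add, add_mul, mul_assoc, hI, hJ, hJI, hI', hJ', hJI', mul_neg, neg_mul,
        neg_neg, mul_one, one_mul]
      abel
    rw [key, h3, neg_zero]
  have hssv : ∀ v, s (s v) = 0 := by
    intro v
    have := congrArg (fun f : Module.End R V => f v) hs2
    simpa using this
  intro v w
  have hU : (1 + I + J + I * J : Module.End R V) = 1 + s := by rw [hs]; abel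
  rw [hU]
  have e1 : ∀ x, (1 + s : Module.End R V) x = x + s x := fun x => rfl
  rw [e1, e1, hcl, hcr, hcr, as v w, as v (s w), hssv, hc0r]
  abel

end Bil

section FieldLevel3

variable {K : Type*} [Field K] [Fintype K] [CharP K 3]

local notation "SL2K" => Matrix.SpecialLinearGroup (Fin 2) K

abbrev S3 := Matrix.SpecialLinearGroup (Fin 2) (ZMod 3)

def qI : S3 := ⟨!![0, -1; 1, 0], by decide⟩
def qJ : S3 := ⟨!![1, 1; 1, -1], by decide⟩
def qU : S3 := ⟨!![1, 1; 0, 1], by decide⟩

set_option maxRecDepth 100000 in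
theorem q_rels : qI * qI = qJ * qJ ∧ (qI * qI) * (qI * qI) = 1 ∧ qI * qI ≠ 1 ∧
    qJ * qI = (qI * qI) * (qI * qJ) ∧ qU * qI = qJ * qU ∧ qU * qJ = qI * qJ * qU ∧
    qU * qU * qU = 1 ∧ qU ≠ 1 := by decide

/-- Invariance of biadditive forms: the additive form of the conclusion. -/
def BilInvAdd {V : Type*} [AddCommGroup V] {Γ : Type*} [Group Γ] (act : Γ → V → V) (p : ℕ)
    (z : Γ) : Prop :=
  ∀ (Z : Type w) [AddCommGroup Z] (c : V → V → Z),
    (∀ u v w, c (u + v) w = c u w + c v w) → (∀ u v w, c u (v + w) = c u v + c u w) →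
    (∀ g : Γ, (∃ m : ℕ, m.Coprime p ∧ ∀ v, act (g ^ m) v = v) →
      ∀ v w, c (act g v) (act g w) = c v w) →
    ∀ v w, c (act z v) (act z w) = c v w

set_option maxHeartbeats 1000000 in
/-- Quadratic pairs in dimension two over a finite field of characteristic `3`. -/
theorem quad_pair_field_three
    {V : Type*} [AddCommGroup V] [Module K V] [FiniteDimensional K V]
    (h2 : Module.finrank K V = 2) {Γ : Type*} [Group Γ] (ρ : Γ →* (V →ₗ[K] V)) (x y : Γ)
    (hgen : Subgroup.closure {x, y} = (⊤ : Subgroup Γ))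
    (hx : ∀ w, ρ x (ρ x w - w) = ρ x w - w) (hy : ∀ w, ρ y (ρ y w - w) = ρ y w - w)
    (hx1 : ∃ v, ρ x v ≠ v)
    (hOp : ∀ M : Subgroup Γ, M.Normal → (∀ m ∈ M, ∃ k : ℕ, ∀ v, ρ (m ^ 3 ^ k) v = v) →
      ∀ m ∈ M, ∀ v, ρ m v = v) :
    (∃ t : Γ, ∀ v, ρ t v = -v) ∧
    ∃ z : Γ, (∃ v, ρ z v ≠ v) ∧ (∀ w, ρ z (ρ z w - w) = ρ z w - w) ∧
      BilInvAdd.{w} (fun g v => ρ g v) 3 z := by
  classical
  have hpp : (3 : ℕ).Prime := Nat.prime_three
  have hp2 : (3 : ℕ) ≠ 2 := by decide
  have h2K : (2 : K) ≠ 0 := Cfsg.Agent.Lib.Helper1.Dickson.two_ne_zero_of_char 3 hp2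
  obtain ⟨b, φ, hφ⟩ := Cfsg.Agent.Lib.Helper26.NPSQ.exists_sl2_hom h2 ρ x y hgen hx hy
  have hinj : ∀ g g' : Γ, φ g = φ g' → ρ g = ρ g' := by
    intro g g' h
    apply (LinearMap.toMatrixAlgEquiv b).injective
    rw [← hφ, ← hφ, h]
  have hφ1 : ∀ g : Γ, φ g = 1 → ∀ v, ρ g v = v := by
    intro g hg v
    have := hinj g 1 (by rw [hg, map_one])
    rw [this, map_one]
    rfl
  have hxp : φ x ^ 3 = 1 := by
    have hN : (ρ x - 1) * (ρ x - 1) = 0 := by
      ext w
      simp only [Module.End.mul_apply, LinearMap.sub_apply, Module.End.one_apply,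
        LinearMap.zero_apply]
      rw [hx w, sub_self]
    have h1 := Cfsg.Agent.S0592.one_add_pow_of_sq_zero (ρ x - 1) hN 3
    rw [add_sub_cancel] at h1
    have h3 : (3 : ℕ) • (ρ x - 1) = 0 := by
      rw [← Nat.cast_smul_eq_nsmul K, CharP.cast_eq_zero K 3, zero_smul]
    rw [h3, add_zero, ← map_pow] at h1
    apply Subtype.ext
    rw [← map_pow, hφ, h1, map_one]
    rfl
  obtain ⟨Δ, hΔ⟩ : ∃ Δ : Subgroup SL2K, Δ = φ.range := ⟨_, rfl⟩
  have hlt : 1 < Nat.card (Sylow 3 Δ) := by
    by_contra hle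
    push Not at hle
    haveI : Subsingleton (Sylow 3 Δ) := Finite.card_le_one_iff_subsingleton.mp hle
    obtain ⟨T⟩ : Nonempty (Sylow 3 Δ) := inferInstance
    haveI hTn : (T : Subgroup Δ).Normal := T.normal_of_subsingleton
    have hmemΔ : ∀ g : Γ, φ g ∈ Δ := fun g => hΔ ▸ ⟨g, rfl⟩
    obtain ⟨ψ, hψ⟩ : ∃ ψ : Γ →* Δ, ∀ g, (ψ g : SL2K) = φ g :=
      ⟨φ.codRestrict Δ hmemΔ, fun g => rfl⟩
    have hMn : ((T : Subgroup Δ).comap ψ).Normal := inferInstance
    have hM : ∀ m ∈ (T : Subgroup Δ).comap ψ, ∀ v, ρ m v = v := by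
      apply hOp _ hMn
      intro m hm
      rw [Subgroup.mem_comap] at hm
      obtain ⟨k, hk⟩ := (IsPGroup.iff_orderOf.mp T.isPGroup') ⟨ψ m, hm⟩
      refine ⟨k, ?_⟩
      apply hφ1
      have h1 : (⟨ψ m, hm⟩ : (T : Subgroup Δ)) ^ 3 ^ k = 1 := by
        rw [← hk]; exact pow_orderOf_eq_one _
      have h3 : (ψ m) ^ 3 ^ k = 1 := by
        have := congrArg Subtype.val h1
        simpa using this
      have h4 := congrArg Subtype.val h3
      rw [Subgroup.coe_pow, hψ, Subgroup.coe_one] at h4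
      rw [map_pow, h4]
    have hxM : x ∈ (T : Subgroup Δ).comap ψ := by
      rw [Subgroup.mem_comap]
      have hzp : IsPGroup 3 (Subgroup.zpowers (ψ x)) := by
        apply IsPGroup.of_card (n := orderOf (ψ x) |>.factorization 3)
        rw [Nat.card_zpowers]
        have hd : orderOf (ψ x) ∣ 3 := by
          apply orderOf_dvd_of_pow_eq_one
          apply Subtype.ext
          rw [Subgroup.coe_pow, hψ, hxp, Subgroup.coe_one]
        rcases (Nat.dvd_prime hpp).mp hd with h1 | h1
        · rw [h1]; simp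
        · rw [h1, hpp.factorization_self, pow_one]
      obtain ⟨T', hT'⟩ := hzp.exists_le_sylow
      have : T' = T := Subsingleton.elim _ _
      rw [← this]
      exact hT' (Subgroup.mem_zpowers _)
    obtain ⟨v, hv⟩ := hx1
    exact hv (hM x hxM v)
  obtain ⟨K₀, hK₀, ⟨e⟩⟩ := Cfsg.Agent.S0274.result 3 hp2 Δ hlt
  have hmemK : ∀ k : K₀, ∃ g : Γ, φ g = (k : SL2K) := by
    intro k
    have := hK₀ k.2
    rw [hΔ] at this
    exact this
  obtain ⟨hr1, hr2, hr3, hr4, hr5, hr6, hr7, hr8⟩ := q_rels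
  obtain ⟨gi, hgi⟩ := hmemK (e.symm qI)
  obtain ⟨gj, hgj⟩ := hmemK (e.symm qJ)
  obtain ⟨gu, hgu⟩ := hmemK (e.symm qU)
  -- the central involution
  have hτ : ((e.symm qI : K₀) : SL2K) * ((e.symm qI : K₀) : SL2K) = -1 := by
    have h1 : ((e.symm qI * e.symm qI : K₀) : SL2K) * ((e.symm qI * e.symm qI : K₀) : SL2K) = 1 := by
      rw [← Subgroup.coe_mul, ← map_mul, ← map_mul, hr2, map_one, Subgroup.coe_one]
    rcases Cfsg.Agent.Lib.Helper1.Dickson.sl2_sq_one h2K _ h1 with h | h
    · exfalso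
      apply hr3
      have h4 : (e.symm qI * e.symm qI : K₀) = 1 := Subtype.ext (by rw [h]; rfl)
      rw [← map_mul] at h4
      have h5 := congrArg e h4
      rw [MulEquiv.apply_symm_apply, map_one] at h5
      exact h5
    · rw [← Subgroup.coe_mul]; exact h
  have hφii : φ gi * φ gi = -1 := by rw [hgi]; exact hτ
  have hφjj : φ gj * φ gj = -1 := by
    rw [hgj, ← Subgroup.coe_mul, ← map_mul, ← hr1, map_mul, Subgroup.coe_mul]; exact hτ
  have hφji : φ gj * φ gi = -1 * (φ gi * φ gj) := by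
    rw [← hφii, hgi, hgj, ← Subgroup.coe_mul, ← Subgroup.coe_mul, ← Subgroup.coe_mul,
      ← Subgroup.coe_mul, ← map_mul, ← map_mul, ← map_mul, ← map_mul, hr4]
  have hφui : φ gu * φ gi = φ gj * φ gu := by
    rw [hgu, hgi, hgj, ← Subgroup.coe_mul, ← Subgroup.coe_mul, ← map_mul, ← map_mul, hr5]
  have hφuj : φ gu * φ gj = φ gi * φ gj * φ gu := by
    rw [hgu, hgi, hgj, ← Subgroup.coe_mul, ← Subgroup.coe_mul, ← Subgroup.coe_mul, ← map_mul,
      ← map_mul, ← map_mul, hr6]
  have hφu3 : φ gu ^ 3 = 1 := by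
    rw [hgu, ← Subgroup.coe_pow, ← map_pow, pow_succ, pow_two, hr7, map_one, Subgroup.coe_one]
  have hφu1 : φ gu ≠ 1 := by
    rw [hgu]
    intro h
    apply hr8
    have h4 : (e.symm qU : K₀) = 1 := Subtype.ext (by rw [h]; rfl)
    have h5 := congrArg e h4
    rw [MulEquiv.apply_symm_apply, map_one] at h5
    exact h5
  -- transfer to endomorphisms
  have hneg : ∀ g : Γ, φ g = -1 → ρ g = -1 := by
    intro g hg
    apply (LinearMap.toMatrixAlgEquiv b).injective
    rw [← hφ, hg, map_neg, map_one]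
    simp
  have hρii : ρ gi * ρ gi = -1 := by
    rw [← map_mul]; apply hneg; rw [map_mul]; exact hφii
  have hρjj : ρ gj * ρ gj = -1 := by
    rw [← map_mul]; apply hneg; rw [map_mul]; exact hφjj
  have hρji : ρ gj * ρ gi = -(ρ gi * ρ gj) := by
    have h1 : φ (gj * gi) = φ ((gi * gi) * (gi * gj)) := by
      rw [map_mul, map_mul, map_mul, map_mul, hφii, hφji]
    rw [← map_mul, hinj _ _ h1, map_mul, map_mul, map_mul, hρii, neg_one_mul]
  have hρui : ρ gu * ρ gi = ρ gj * ρ gu := by
    rw [← map_mul, ← map_mul]; apply hinj; rw [map_mul, map_mul]; exact hφui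
  have hρuj : ρ gu * ρ gj = ρ gi * ρ gj * ρ gu := by
    rw [← map_mul, ← map_mul, ← map_mul]; apply hinj
    rw [map_mul, map_mul, map_mul]; exact hφuj
  have hρuq : (ρ gu - 1) * (ρ gu - 1) = 0 := by
    have h3 := Cfsg.Agent.Lib.Helper26.NPSQ.sl2_quad_of_pow_p (p := 3) (φ gu) hφu3
    rw [hφ] at h3
    apply (LinearMap.toMatrixAlgEquiv b).injective
    rw [map_mul, map_sub, map_one, map_zero]
    exact h3
  have h3A : (1 : V →ₗ[K] V) + 1 + 1 = 0 := by
    have : (1 : V →ₗ[K] V) + 1 + 1 = ((3 : ℕ) : K) • (1 : V →ₗ[K] V) := by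
      rw [Nat.cast_ofNat, show (3 : K) = 1 + 1 + 1 by norm_num, add_smul, add_smul, one_smul]
    rw [this, CharP.cast_eq_zero K 3, zero_smul]
  have hUeq := quat_unip_eq (ρ gi) (ρ gj) (ρ gu) h3A hρii hρjj hρji hρui hρuj hρuq
  refine ⟨⟨gi * gi, fun v => ?_⟩, gu, ?_, ?_, ?_⟩
  · rw [map_mul, hρii]; rfl
  · by_contra hcon
    push Not at hcon
    apply hφu1
    apply Subtype.ext
    rw [hφ]
    have : ρ gu = 1 := by
      ext v
      rw [hcon v]
      rfl
    rw [this, map_one]
    rfl
  · intro w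
    have h5 := congrArg (fun f : V →ₗ[K] V => f w) hρuq
    simp only [Module.End.mul_apply, LinearMap.sub_apply, Module.End.one_apply,
      LinearMap.zero_apply] at h5
    exact sub_eq_zero.mp h5
  · intro Z _ c hcl hcr hinv v w
    have h4 : ∀ g : Γ, ρ g * ρ g = -1 → ∃ m : ℕ, m.Coprime 3 ∧ ∀ v, ρ (g ^ m) v = v := by
      intro g hg
      refine ⟨4, by decide, fun v => ?_⟩
      have : ρ (g ^ 4) = 1 := by
        rw [map_pow, show (4 : ℕ) = 2 + 2 by rfl, pow_add, pow_two, hg]
        simp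
      rw [this]; rfl
    have hcI := hinv gi (h4 gi hρii)
    have hcJ := hinv gj (h4 gj hρjj)
    have := bil_inv_of_quat (R := K) c hcl hcr (ρ gi) (ρ gj) h3A hρii hρjj hρji hcI hcJ v w
    rw [← hUeq] at this
    exact this

end FieldLevel3

end Cfsg.Agent.Lib.Helper13.NPS3
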