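import Mathlib
import Cfsg.Agent.Lib.Helper26.NPSQ3
import Cfsg.Agent.Lib.Helper13.NPS3A

set_option autoImplicit false

/-! Quadratic pairs in characteristic three: prime-field level and group level (helper13, for
S5279; adapted from helper26's `NPSQ2`, `NPSQ3`). -/

namespace Cfsg.Agent.Lib.Helper13.NPS3

open Cfsg.Agent.Lib.Helper26.NPSQ

universe u w

section ZModLevel

variable {V : Type u} [AddCommGroup V] [Module (ZMod 3) V] [Finite V]

set_option maxHeartbeats 1000000 in
/-- Quadratic pairs on an irreducible module over the prime field, `p = 3`. -/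
theorem quad_pair_zmod_three [Nontrivial V] {Γ : Type*} [Group Γ]
    (ρ : Γ →* Module.End (ZMod 3) V) (x y : Γ)
    (hgen : Subgroup.closure {x, y} = (⊤ : Subgroup Γ))
    (hx : ∀ w, ρ x (ρ x w - w) = ρ x w - w) (hy : ∀ w, ρ y (ρ y w - w) = ρ y w - w)
    (hx1 : ∃ v, ρ x v ≠ v)
    (hirr : ∀ W : Submodule (ZMod 3) V, (∀ g : Γ, ∀ w ∈ W, ρ g w ∈ W) → W = ⊥ ∨ W = ⊤)
    (hOp : ∀ M : Subgroup Γ, M.Normal → (∀ m ∈ M, ∃ k : ℕ, ∀ v, ρ (m ^ 3 ^ k) v = v) →
      ∀ m ∈ M, ∀ v, ρ m v = v) :
    (∃ t : Γ, ∀ v, ρ t v = -v) ∧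
    ∃ z : Γ, (∃ v, ρ z v ≠ v) ∧ (∀ w, ρ z (ρ z w - w) = ρ z w - w) ∧
      BilInvAdd.{w} (fun g v => ρ g v) 3 z := by
  obtain ⟨a, ha⟩ : ∃ a : Module.End (ZMod 3) V, a = ρ x - 1 := ⟨_, rfl⟩
  obtain ⟨b, hb⟩ : ∃ b : Module.End (ZMod 3) V, b = ρ y - 1 := ⟨_, rfl⟩
  have hxa : ρ x = 1 + a := by rw [ha]; abel
  have hyb : ρ y = 1 + b := by rw [hb]; abel
  have haa : a * a = 0 := by
    ext w
    rw [ha]
    simp only [Module.End.mul_apply, LinearMap.sub_apply, Module.End.one_apply,
      LinearMap.zero_apply]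
    rw [hx w, sub_self]
  have hbb : b * b = 0 := by
    ext w
    rw [hb]
    simp only [Module.End.mul_apply, LinearMap.sub_apply, Module.End.one_apply,
      LinearMap.zero_apply]
    rw [hy w, sub_self]
  have hinv : ∀ (g : Γ) (n : Module.End (ZMod 3) V), ρ g = 1 + n → n * n = 0 →
      ρ g⁻¹ = 1 - n := by
    intro g n hg hn
    have e1 : ρ g⁻¹ * ρ g = 1 := by rw [← map_mul, inv_mul_cancel, map_one]
    have e2 : ρ g * (1 - n) = 1 := by
      rw [hg, add_mul, mul_sub, mul_sub, one_mul, one_mul, mul_one, hn]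
      abel
    calc ρ g⁻¹ = ρ g⁻¹ * (ρ g * (1 - n)) := by rw [e2, mul_one]
      _ = 1 - n := by rw [← mul_assoc, e1, one_mul]
  have hirr' : ∀ W : Submodule (ZMod 3) V, (∀ w ∈ W, a w ∈ W) → (∀ w ∈ W, b w ∈ W) →
      W = ⊥ ∨ W = ⊤ := by
    intro W hWa hWb
    apply hirr W
    intro g
    apply invariant_of_closure ρ W {x, y} _ g (by rw [hgen]; trivial)
    rintro s (rfl | hs)
    · constructor
      · intro w hw
        rw [hxa, LinearMap.add_apply, Module.End.one_apply]
        exact W.add_mem hw (hWa w hw)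
      · intro w hw
        rw [hinv s a hxa haa, LinearMap.sub_apply, Module.End.one_apply]
        exact W.sub_mem hw (hWa w hw)
    · rw [Set.mem_singleton_iff] at hs
      subst hs
      constructor
      · intro w hw
        rw [hyb, LinearMap.add_apply, Module.End.one_apply]
        exact W.add_mem hw (hWb w hw)
      · intro w hw
        rw [hinv s b hyb hbb, LinearMap.sub_apply, Module.End.one_apply]
        exact W.sub_mem hw (hWb w hw)
  have hane : a ≠ 0 := by
    intro h0
    obtain ⟨v, hv⟩ := hx1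
    apply hv
    rw [hxa, h0, add_zero]
    rfl
  have hcne : a * b + b * a ≠ 0 := by
    intro hc0
    have hker : ∀ w ∈ LinearMap.ker a, b w ∈ LinearMap.ker a := by
      intro w hw
      rw [LinearMap.mem_ker] at hw ⊢
      have h1 := congrArg (fun f : Module.End (ZMod 3) V => f w) hc0
      simp only [LinearMap.add_apply, Module.End.mul_apply, LinearMap.zero_apply] at h1
      rw [hw, map_zero, add_zero] at h1
      exact h1
    have hkera : ∀ w ∈ LinearMap.ker a, a w ∈ LinearMap.ker a := by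
      intro w hw
      rw [LinearMap.mem_ker] at hw ⊢
      rw [hw, map_zero]
    rcases hirr' (LinearMap.ker a) hkera hker with h | h
    · apply hane
      ext w
      have h1 : a w ∈ LinearMap.ker a := by
        rw [LinearMap.mem_ker]
        exact congrArg (fun f : Module.End (ZMod 3) V => f w) haa
      rw [h] at h1
      exact (Submodule.mem_bot _).mp h1
    · apply hane
      ext w
      have h1 : w ∈ LinearMap.ker a := by rw [h]; trivial
      exact LinearMap.mem_ker.mp h1
  apply exists_field_of_irr a b haa hbb hirr'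
  intro F _ _ _ _ γ hγ hlin
  have hγ0 : γ ≠ 0 := by
    intro h0
    apply hcne
    ext v
    rw [← hγ v, h0, zero_smul]
    rfl
  have hcomm : ∀ g : Γ, Commute (ρ g) (a * b + b * a) := by
    intro g
    apply commute_map_of_closure ρ _ {x, y} _ g (by rw [hgen]; trivial)
    rintro s (rfl | hs)
    · rw [hxa]
      exact (Commute.one_left _).add_left (commute_anti_left a b haa)
    · rw [Set.mem_singleton_iff] at hs
      subst hs
      rw [hyb]
      exact (Commute.one_left _).add_left (commute_anti_right a b hbb)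
  obtain ⟨ρF, hρF⟩ : ∃ ρF : Γ →* (V →ₗ[F] V), ∀ g v, ρF g v = ρ g v := by
    refine ⟨{ toFun := fun g =>
                { toFun := fun v => ρ g v
                  map_add' := fun v w => map_add _ v w
                  map_smul' := fun f v => hlin (ρ g) (hcomm g) f v }
              map_one' := ?_
              map_mul' := ?_ }, fun g v => rfl⟩
    · apply LinearMap.ext
      intro v
      show ρ 1 v = v
      rw [map_one]
      rfl
    · intro g h
      apply LinearMap.ext
      intro v
      show ρ (g * h) v = ρ g (ρ h v)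
      rw [map_mul]
      rfl
  haveI : FiniteDimensional F V := Module.Finite.of_finite
  have hqx : ∀ w, ρF x (ρF x w - w) = ρF x w - w := by
    intro w
    rw [hρF, hρF]
    exact hx w
  have hqy : ∀ w, ρF y (ρF y w - w) = ρF y w - w := by
    intro w
    rw [hρF, hρF]
    exact hy w
  have hapt : ∀ v, (ρF x - 1) v = a v := by
    intro v
    rw [LinearMap.sub_apply, hρF, ha]
    rfl
  have hbpt : ∀ v, (ρF y - 1) v = b v := by
    intro v
    rw [LinearMap.sub_apply, hρF, hb]
    rfl
  have h2 : Module.finrank F V = 2 := by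
    apply finrank_two_of_quad (ρF x - 1) (ρF y - 1) _ _ γ hγ0
    · intro v
      rw [hγ v]
      simp only [LinearMap.add_apply, Module.End.mul_apply, hapt, hbpt]
    · intro W hWa hWb
      rcases hirr' (AddSubgroup.toZModSubmodule 3 W.toAddSubgroup)
        (fun w hw => by
          have := hWa w hw
          rw [hapt] at this
          exact this)
        (fun w hw => by
          have := hWb w hw
          rw [hbpt] at this
          exact this) with h | h
      · left
        rw [eq_bot_iff]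
        intro w hw
        have : w ∈ AddSubgroup.toZModSubmodule 3 W.toAddSubgroup := hw
        rw [h] at this
        exact this
      · right
        rw [eq_top_iff]
        intro w _
        have : w ∈ AddSubgroup.toZModSubmodule 3 W.toAddSubgroup := by rw [h]; trivial
        exact this
    · intro h0
      apply hane
      ext v
      rw [← hapt, h0]
      rfl
    · ext w
      simp only [Module.End.mul_apply, LinearMap.zero_apply, hapt]
      exact congrArg (fun f : Module.End (ZMod 3) V => f w) haa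
    · ext w
      simp only [Module.End.mul_apply, LinearMap.zero_apply, hbpt]
      exact congrArg (fun f : Module.End (ZMod 3) V => f w) hbb
  have hx1' : ∃ v, ρF x v ≠ v := by
    obtain ⟨v, hv⟩ := hx1
    exact ⟨v, by rw [hρF]; exact hv⟩
  have hOp' : ∀ M : Subgroup Γ, M.Normal → (∀ m ∈ M, ∃ k : ℕ, ∀ v, ρF (m ^ 3 ^ k) v = v) →
      ∀ m ∈ M, ∀ v, ρF m v = v := by
    intro M hM hk m hm v
    rw [hρF]
    apply hOp M hM _ m hm v
    intro m' hm'
    obtain ⟨k, hk'⟩ := hk m' hm'
    exact ⟨k, fun v' => by rw [← hρF]; exact hk' v'⟩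
  obtain ⟨⟨t, ht⟩, z, ⟨v, hv⟩, hz, hbil⟩ :=
    quad_pair_field_three.{w, _, _, _} h2 ρF x y hgen hqx hqy hx1' hOp'
  refine ⟨⟨t, fun v => by rw [← hρF]; exact ht v⟩, z, ⟨v, by rw [← hρF]; exact hv⟩, ?_, ?_⟩
  · intro w
    have := hz w
    rw [hρF, hρF] at this
    exact this
  · intro Z _ c hcl hcr hinv v w
    have := hbil Z c hcl hcr (fun g hg v w => by
      simp only [hρF]
      apply hinv g _ v w
      obtain ⟨m, hm, hmv⟩ := hg
      refine ⟨m, hm, fun v' => ?_⟩
      have h := hmv v'
      simp only [hρF] at h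
      exact h) v w
    simp only [hρF] at this
    exact this

end ZModLevel

section GroupForm

variable {E : Type u} [CommGroup E] [Finite E] {Γ : Type*} [Group Γ]

/-- Invariance of biadditive forms: the multiplicative form of the conclusion. -/
def BilInvMul (α : Γ →* MulAut E) (p : ℕ) (z : Γ) : Prop :=
  ∀ (W : Type w) [CommGroup W] (c : E → E → W),
    (∀ a b f, c (a * b) f = c a f * c b f) → (∀ a f f', c a (f * f') = c a f * c a f') →
    (∀ g : Γ, (∃ m : ℕ, m.Coprime p ∧ ∀ e, α (g ^ m) e = e) →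
      ∀ e f, c (α g e) (α g f) = c e f) →
    ∀ e f, c (α z e) (α z f) = c e f

theorem quad_pair_group_mod_three [Nontrivial E] [Module (ZMod 3) (Additive E)]
    (hexp : ∀ e : E, e ^ 3 = 1)
    (α : Γ →* MulAut E) (x y : Γ) (hgen : Subgroup.closure {x, y} = (⊤ : Subgroup Γ))
    (hx : ∀ e, α x (α x e / e) = α x e / e) (hy : ∀ e, α y (α y e / e) = α y e / e)
    (hx1 : ∃ e, α x e ≠ e)
    (hirr : ∀ W : Subgroup E, (∀ g : Γ, ∀ w ∈ W, α g w ∈ W) → W = ⊥ ∨ W = ⊤) :
    (∃ t : Γ, ∀ e, α t e = e⁻¹) ∧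
    ∃ z : Γ, (∃ e, α z e ≠ e) ∧ (∀ e, α z (α z e / e) = α z e / e) ∧
      BilInvMul.{u, w, _} α 3 z := by
  have hEp : IsPGroup 3 E := fun e => ⟨1, by rw [pow_one]; exact hexp e⟩
  have key : ∀ (g : Γ) (v : Additive E),
      (AddMonoidHom.toZModLinearMap 3 (MonoidHom.toAdditive (α g).toMonoidHom) :
        Additive E →ₗ[ZMod 3] Additive E) v =
        Additive.ofMul (α g (Additive.toMul v)) := fun g v => rfl
  obtain ⟨ρ₀, hρ₀⟩ : ∃ ρ₀ : Γ →* Module.End (ZMod 3) (Additive E),
      ∀ g v, ρ₀ g v = Additive.ofMul (α g (Additive.toMul v)) := by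
    refine ⟨{ toFun := fun g => (MonoidHom.toAdditive (α g).toMonoidHom).toZModLinearMap 3
              map_one' := ?_
              map_mul' := ?_ }, fun g v => rfl⟩
    · apply LinearMap.ext
      intro v
      rw [key, Module.End.one_apply, map_one]
      rfl
    · intro g h
      apply LinearMap.ext
      intro v
      rw [Module.End.mul_apply, key, key, key, map_mul]
      rfl
  have hqx : ∀ w, ρ₀ x (ρ₀ x w - w) = ρ₀ x w - w := by
    intro w
    rw [hρ₀ x w]
    show ρ₀ x (Additive.ofMul (α x w.toMul / w.toMul)) = Additive.ofMul (α x w.toMul / w.toMul)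
    rw [hρ₀]
    show Additive.ofMul (α x (α x w.toMul / w.toMul)) = Additive.ofMul (α x w.toMul / w.toMul)
    rw [hx]
  have hqy : ∀ w, ρ₀ y (ρ₀ y w - w) = ρ₀ y w - w := by
    intro w
    rw [hρ₀ y w]
    show ρ₀ y (Additive.ofMul (α y w.toMul / w.toMul)) = Additive.ofMul (α y w.toMul / w.toMul)
    rw [hρ₀]
    show Additive.ofMul (α y (α y w.toMul / w.toMul)) = Additive.ofMul (α y w.toMul / w.toMul)
    rw [hy]
  have hx1' : ∃ v, ρ₀ x v ≠ v := by
    obtain ⟨e, he⟩ := hx1
    refine ⟨Additive.ofMul e, ?_⟩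
    rw [hρ₀]
    intro h
    exact he (Additive.ofMul.injective h)
  have hirr' : ∀ W : Submodule (ZMod 3) (Additive E), (∀ g : Γ, ∀ w ∈ W, ρ₀ g w ∈ W) →
      W = ⊥ ∨ W = ⊤ := by
    intro W hW
    rcases hirr (AddSubgroup.toSubgroup' W.toAddSubgroup) (fun g w hw => by
      have := hW g (Additive.ofMul w) hw
      rw [hρ₀] at this
      exact this) with h | h
    · left
      rw [eq_bot_iff]
      intro w hw
      have h1 : w.toMul ∈ AddSubgroup.toSubgroup' W.toAddSubgroup := hw
      rw [h, Subgroup.mem_bot] at h1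
      rw [Submodule.mem_bot]
      exact Additive.toMul.injective h1
    · right
      rw [eq_top_iff]
      intro w _
      have h1 : w.toMul ∈ AddSubgroup.toSubgroup' W.toAddSubgroup := by rw [h]; trivial
      exact h1
  have hOp : ∀ M : Subgroup Γ, M.Normal → (∀ m ∈ M, ∃ k : ℕ, ∀ v, ρ₀ (m ^ 3 ^ k) v = v) →
      ∀ m ∈ M, ∀ v, ρ₀ m v = v := by
    intro M hMn hM m hm v
    rw [hρ₀]
    have := trivial_of_pgroup_action hEp α hirr M
      (fun g m hm => ⟨g * m * g⁻¹, hMn.conj_mem m hm g, rfl⟩)
      (fun m hm => by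
        obtain ⟨k, hk⟩ := hM m hm
        refine ⟨k, fun e => ?_⟩
        have := hk (Additive.ofMul e)
        rw [hρ₀] at this
        exact Additive.ofMul.injective this) m hm v.toMul
    rw [this]
    rfl
  obtain ⟨⟨t, ht⟩, z, ⟨v, hv⟩, hz, hbil⟩ :=
    quad_pair_zmod_three.{u, w, _} ρ₀ x y hgen hqx hqy hx1' hirr' hOp
  refine ⟨⟨t, fun e => ?_⟩, z, ⟨v.toMul, ?_⟩, ?_, ?_⟩
  · have := ht (Additive.ofMul e)
    rw [hρ₀] at this
    exact Additive.ofMul.injective this
  · intro hcon
    apply hv
    rw [hρ₀, hcon]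
    rfl
  · intro e
    have := hz (Additive.ofMul e)
    rw [hρ₀ z (Additive.ofMul e)] at this
    have h2 : ρ₀ z (Additive.ofMul (α z e / e)) = Additive.ofMul (α z e / e) := this
    rw [hρ₀] at h2
    exact Additive.ofMul.injective h2
  · intro W _ c hcl hcr hinv e f
    have := hbil (Additive W) (fun v w => Additive.ofMul (c v.toMul w.toMul))
      (fun u v w => congrArg Additive.ofMul (hcl u.toMul v.toMul w.toMul))
      (fun u v w => congrArg Additive.ofMul (hcr u.toMul v.toMul w.toMul))
      (fun g hg v w => by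
        simp only [hρ₀]
        apply congrArg Additive.ofMul
        apply hinv g _ v.toMul w.toMul
        obtain ⟨m, hm, hmv⟩ := hg
        refine ⟨m, hm, fun e' => ?_⟩
        have h := hmv (Additive.ofMul e')
        simp only [hρ₀] at h
        exact Additive.ofMul.injective h) (Additive.ofMul e) (Additive.ofMul f)
    simp only [hρ₀] at this
    exact Additive.ofMul.injective this

theorem quad_pair_group_aux_three [Nontrivial E] (hexp : ∀ e : E, e ^ 3 = 1)
    (α : Γ →* MulAut E) (x y : Γ) (hgen : Subgroup.closure {x, y} = (⊤ : Subgroup Γ))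
    (hx : ∀ e, α x (α x e / e) = α x e / e) (hy : ∀ e, α y (α y e / e) = α y e / e)
    (hx1 : ∃ e, α x e ≠ e)
    (hirr : ∀ W : Subgroup E, (∀ g : Γ, ∀ w ∈ W, α g w ∈ W) → W = ⊥ ∨ W = ⊤) :
    (∃ t : Γ, ∀ e, α t e = e⁻¹) ∧
    ∃ z : Γ, (∃ e, α z e ≠ e) ∧ (∀ e, α z (α z e / e) = α z e / e) ∧
      BilInvMul.{u, w, _} α 3 z := by
  letI instMod : Module (ZMod 3) (Additive E) := AddCommGroup.zmodModule (n := 3) (by
    intro v
    exact congrArg Additive.ofMul (hexp v.toMul))
  exact quad_pair_group_mod_three hexp α x y hgen hx hy hx1 hirr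

/-- Quadratic pairs on an irreducible elementary abelian `3`-group. -/
theorem quad_pair_group_three [Nontrivial E] (hexp : ∀ e : E, e ^ 3 = 1)
    (α : Γ →* MulAut E) (x y : Γ) (hgen : Subgroup.closure {x, y} = (⊤ : Subgroup Γ))
    (hx : ∀ e, α x (α x e / e) = α x e / e) (hy : ∀ e, α y (α y e / e) = α y e / e)
    (hne : ∃ g : Γ, ∃ e, α g e ≠ e)
    (hirr : ∀ W : Subgroup E, (∀ g : Γ, ∀ w ∈ W, α g w ∈ W) → W = ⊥ ∨ W = ⊤) :
    (∃ t : Γ, ∀ e, α t e = e⁻¹) ∧
    ∃ z : Γ, (∃ e, α z e ≠ e) ∧ (∀ e, α z (α z e / e) = α z e / e) ∧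
      BilInvMul.{u, w, _} α 3 z := by
  by_cases hx1 : ∃ e, α x e ≠ e
  · exact quad_pair_group_aux_three hexp α x y hgen hx hy hx1 hirr
  · by_cases hy1 : ∃ e, α y e ≠ e
    · have hgen' : Subgroup.closure {y, x} = (⊤ : Subgroup Γ) := by
        rw [Set.pair_comm]; exact hgen
      exact quad_pair_group_aux_three hexp α y x hgen' hy hx hy1 hirr
    · exfalso
      push Not at hx1 hy1
      obtain ⟨g, e, hge⟩ := hne
      apply hge
      have hker : Subgroup.closure {x, y} ≤ α.ker := by
        rw [Subgroup.closure_le]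
        rintro s (rfl | hs)
        · rw [SetLike.mem_coe, MonoidHom.mem_ker]
          ext e'
          exact hx1 e'
        · rw [Set.mem_singleton_iff] at hs
          subst hs
          rw [SetLike.mem_coe, MonoidHom.mem_ker]
          ext e'
          exact hy1 e'
      have hg : g ∈ α.ker := hker (by rw [hgen]; trivial)
      rw [MonoidHom.mem_ker] at hg
      rw [hg]
      rfl

end GroupForm

end Cfsg.Agent.Lib.Helper13.NPS3
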