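import Mathlib
import Cfsg.Agent.Lib.Helper26.NPSQ5

set_option autoImplicit false

/-! The endgame of the section `p`-stability argument with the bilinear-invariance hypothesis
(helper13, for S5279; adapted from helper26's `NPSQ5`). -/

namespace Cfsg.Agent.Lib.Helper13.NPS3

open Cfsg.Agent.Lib.Helper26.NPSQ

open scoped commutatorElement

section CommForm

variable {G : Type*} [Group G]

/-- the commutator as a plain word -/
def kk (a b : G) : G := a * b * a⁻¹ * b⁻¹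

theorem kk_conj (g a b : G) : g * kk a b * g⁻¹ = kk (g * a * g⁻¹) (g * b * g⁻¹) := by
  unfold kk; group

variable {R R₀ : Subgroup G}

theorem kk_mul_left (hk : ∀ a ∈ R, ∀ b ∈ R, kk a b ∈ R₀)
    (hcen : ∀ z ∈ R₀, ∀ r ∈ R, z * r = r * z) (hR₀R : R₀ ≤ R)
    (a a' b : G) (ha : a ∈ R) (ha' : a' ∈ R) (hb : b ∈ R) :
    kk (a * a') b = kk a b * kk a' b := by
  have h1 := hcen _ (hk a' ha' b hb) a ha
  have h2 := hcen _ (hk a' ha' b hb) _ (hR₀R (hk a ha b hb))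
  calc kk (a * a') b = a * (kk a' b) * b * a⁻¹ * b⁻¹ := by unfold kk; group
    _ = (kk a' b * a) * b * a⁻¹ * b⁻¹ := by rw [h1]
    _ = kk a' b * kk a b := by unfold kk; group
    _ = kk a b * kk a' b := h2

theorem kk_mul_right (hk : ∀ a ∈ R, ∀ b ∈ R, kk a b ∈ R₀)
    (hcen : ∀ z ∈ R₀, ∀ r ∈ R, z * r = r * z)
    (a b b' : G) (ha : a ∈ R) (hb : b ∈ R) (hb' : b' ∈ R) :
    kk a (b * b') = kk a b * kk a b' := by
  have h1 := hcen _ (hk a ha b' hb') b⁻¹ (R.inv_mem hb)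
  calc kk a (b * b') = kk a b * b * (kk a b' * b⁻¹) := by unfold kk; group
    _ = kk a b * b * (b⁻¹ * kk a b') := by rw [h1]
    _ = kk a b * kk a b' := by group

theorem kk_central_left (hcen : ∀ z ∈ R₀, ∀ r ∈ R, z * r = r * z)
    (z b : G) (hz : z ∈ R₀) (hb : b ∈ R) : kk z b = 1 := by
  unfold kk
  rw [hcen z hz b hb]; group

theorem kk_central_right (hcen : ∀ z ∈ R₀, ∀ r ∈ R, z * r = r * z)
    (a z : G) (ha : a ∈ R) (hz : z ∈ R₀) : kk a z = 1 := by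
  unfold kk
  rw [← hcen z hz a ha]; group

theorem kk_congr (hk : ∀ a ∈ R, ∀ b ∈ R, kk a b ∈ R₀)
    (hcen : ∀ z ∈ R₀, ∀ r ∈ R, z * r = r * z) (hR₀R : R₀ ≤ R)
    (a a' b b' : G) (ha : a ∈ R) (ha' : a' ∈ R) (hb : b ∈ R) (hb' : b' ∈ R)
    (haa : a * a'⁻¹ ∈ R₀) (hbb : b * b'⁻¹ ∈ R₀) : kk a b = kk a' b' := by
  have e1 : a = (a * a'⁻¹) * a' := by group
  have e2 : b = (b * b'⁻¹) * b' := by group
  rw [e1, kk_mul_left hk hcen hR₀R _ _ _ (hR₀R haa) ha' hb,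
    kk_central_left hcen _ _ haa hb, one_mul, e2,
    kk_mul_right hk hcen _ _ _ ha' (hR₀R hbb) hb', kk_central_right hcen _ _ ha' hbb, one_mul]

end CommForm

section Endgame

variable {G : Type*} [Group G] [Finite G] {p : ℕ} [Fact p.Prime]
  {R R₀ : Subgroup G} [hRn : R.Normal] [hR₀n : R₀.Normal]
  {E : Type*} [Group E] {red : ↥R →* E} {α : G →* MulAut E} {t : G}

/-- an element whose image has order prime to `p` is congruent modulo the kernel to an element of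
order prime to `p`. -/
theorem exists_coprime_same_image (α : G →* MulAut E) (g : G) (m : ℕ) (hm : m.Coprime p)
    (hgm : ∀ e, α (g ^ m) e = e) : ∃ y : G, (orderOf y).Coprime p ∧ α y = α g := by
  have hpp : p.Prime := Fact.out
  obtain ⟨k, hk⟩ := exists_pow_coprime p g
  have hαm : α g ^ m = 1 := by
    rw [← map_pow]; ext e; exact hgm e
  by_cases hm1 : 1 < m
  · have hc : Nat.Coprime (p ^ k) m := (Nat.Coprime.pow_left k hm.symm)
    obtain ⟨j, -, hj⟩ := Nat.exists_mul_mod_eq_one_of_coprime hc hm1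
    refine ⟨(g ^ p ^ k) ^ j, ?_, ?_⟩
    · exact Nat.Coprime.coprime_dvd_left (orderOf_pow_dvd j) hk
    · rw [← pow_mul, map_pow]
      have e : p ^ k * j = m * (p ^ k * j / m) + 1 := by
        have := Nat.div_add_mod (p ^ k * j) m
        rw [hj] at this
        exact this.symm
      rw [e, pow_succ, pow_mul, hαm, one_pow, one_mul]
  · have hm0 : m ≠ 0 := by
      rintro rfl
      rw [Nat.coprime_zero_left] at hm
      exact hpp.one_lt.ne' hm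
    have : m = 1 := by omega
    subst this
    refine ⟨1, by rw [orderOf_one]; exact Nat.coprime_one_left p, ?_⟩
    rw [pow_one] at hαm
    rw [hαm, map_one]

variable (ctx : EndCtx p R R₀ red α t)

include ctx

/-- The endgame with the bilinear-invariance hypothesis. -/
theorem endgame_bil (hst : Cfsg.IsNormalizerPStable p G)
    (hOp : ∀ M : Subgroup G, (∀ g : G, ∀ m ∈ M, ∃ m' ∈ M, α (g * m * g⁻¹) = α m') →
      (∀ m ∈ M, ∃ k : ℕ, ∀ e, α (m ^ p ^ k) e = e) → ∀ m ∈ M, ∀ e, α m e = e)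
    (z : G) (hz1 : ∃ e, α z e ≠ e) (hzq : ∀ e, α z (α z e / e) = α z e / e)
    (hbil : ∀ (c : E → E → ↥(Subgroup.center ↥R)),
      (∀ a b f, c (a * b) f = c a f * c b f) → (∀ a f f', c a (f * f') = c a f * c a f') →
      (∀ g : G, (∃ m : ℕ, m.Coprime p ∧ ∀ e, α (g ^ m) e = e) →
        ∀ e f, c (α g e) (α g f) = c e f) →
      ∀ e f, c (α z e) (α z f) = c e f) : False := by
  obtain ⟨L₁, hL₁⟩ : ∃ L₁ : Subgroup G, L₁ =
      (Subgroup.centralizer {(MulAut.conjNormal t : MulAut ↥R)}).comap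
        (MulAut.conjNormal (H := R)) := ⟨_, rfl⟩
  obtain ⟨R₂, hR₂⟩ : ∃ R₂ : Subgroup G, R₂ = ⁅R, Subgroup.zpowers t⁆ := ⟨_, rfl⟩
  have hR₂R : R₂ ≤ R := hR₂ ▸ Subgroup.commutator_le_left R _
  have hR₂p : IsPGroup p ↥R₂ := ctx.hRp.to_le hR₂R
  have hL₁N : L₁ ≤ Subgroup.normalizer (R₂ : Set G) := by
    rw [hL₁, hR₂]; exact L1_le_normalizer
  obtain ⟨n₁, hn₁, hx₁L⟩ := ctx.covering z
  rw [← hL₁] at hx₁L
  obtain ⟨x₁, hx₁⟩ : ∃ x₁ : G, x₁ = n₁ * z := ⟨_, rfl⟩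
  rw [← hx₁] at hx₁L
  have hαx : α x₁ = α z := by
    rw [hx₁, map_mul, MonoidHom.mem_ker.mp hn₁, one_mul]
  -- the commutator form
  have hk : ∀ a ∈ R, ∀ b ∈ R, kk a b ∈ R₀ := fun a ha b hb => ctx.comm_mem a b ha hb
  have hcen := ctx.hcen
  have hR₀R := ctx.hR₀R
  obtain ⟨ℓ, hℓ⟩ : ∃ ℓ : E → ↥R, ∀ e, red (ℓ e) = e :=
    ⟨Function.surjInv ctx.hred, Function.surjInv_eq ctx.hred⟩
  have hkR : ∀ a b : ↥R, kk (a : G) (b : G) ∈ R := fun a b => hR₀R (hk a a.2 b b.2)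
  have hkC : ∀ a b : ↥R, (⟨kk (a : G) (b : G), hkR a b⟩ : ↥R) ∈ Subgroup.center ↥R := by
    intro a b
    rw [Subgroup.mem_center_iff]
    intro r
    apply Subtype.ext
    show (r : G) * kk (a : G) (b : G) = kk (a : G) (b : G) * (r : G)
    exact (hcen _ (hk a a.2 b b.2) r r.2).symm
  obtain ⟨c, hc⟩ : ∃ c : E → E → ↥(Subgroup.center ↥R),
      ∀ e f, ((c e f : ↥R) : G) = kk (ℓ e : G) (ℓ f : G) :=
    ⟨fun e f => ⟨⟨kk (ℓ e : G) (ℓ f : G), hkR _ _⟩, hkC _ _⟩, fun e f => rfl⟩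
  have hcext : ∀ u v : ↥(Subgroup.center ↥R), ((u : ↥R) : G) = ((v : ↥R) : G) → u = v :=
    fun u v h => Subtype.ext (Subtype.ext h)
  -- `c` computes commutators of arbitrary lifts
  have hc_red : ∀ a b : ↥R, kk (a : G) (b : G) = ((c (red a) (red b) : ↥R) : G) := by
    intro a b
    rw [hc]
    apply kk_congr hk hcen hR₀R _ _ _ _ a.2 (ℓ (red a)).2 b.2 (ℓ (red b)).2
    · exact (ctx.red_eq_iff _ _).mp (hℓ (red a)).symm
    · exact (ctx.red_eq_iff _ _).mp (hℓ (red b)).symm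
  have hc_conj : ∀ (g : G) (e f : E),
      ((c (α g e) (α g f) : ↥R) : G) = g * ((c e f : ↥R) : G) * g⁻¹ := by
    intro g e f
    have h1 := hc_red ⟨g * (ℓ e : G) * g⁻¹, hRn.conj_mem _ (ℓ e).2 g⟩
      ⟨g * (ℓ f : G) * g⁻¹, hRn.conj_mem _ (ℓ f).2 g⟩
    rw [← ctx.hα, ← ctx.hα, hℓ, hℓ] at h1
    rw [← h1, hc, kk_conj]
  have hcl : ∀ a b f, c (a * b) f = c a f * c b f := by
    intro a b f
    apply hcext
    have h1 := hc_red (ℓ a * ℓ b) (ℓ f)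
    rw [map_mul, hℓ, hℓ, hℓ] at h1
    rw [← h1]
    show kk ((ℓ a : G) * (ℓ b : G)) (ℓ f : G) = ((c a f : ↥R) : G) * ((c b f : ↥R) : G)
    rw [hc, hc]
    exact kk_mul_left hk hcen hR₀R _ _ _ (ℓ a).2 (ℓ b).2 (ℓ f).2
  have hcr : ∀ a f f', c a (f * f') = c a f * c a f' := by
    intro a f f'
    apply hcext
    have h1 := hc_red (ℓ a) (ℓ f * ℓ f')
    rw [map_mul, hℓ, hℓ, hℓ] at h1
    rw [← h1]
    show kk (ℓ a : G) ((ℓ f : G) * (ℓ f' : G)) = ((c a f : ↥R) : G) * ((c a f' : ↥R) : G)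
    rw [hc, hc]
    exact kk_mul_right hk hcen _ _ _ (ℓ a).2 (ℓ f).2 (ℓ f').2
  have hcinv : ∀ g : G, (∃ m : ℕ, m.Coprime p ∧ ∀ e, α (g ^ m) e = e) →
      ∀ e f, c (α g e) (α g f) = c e f := by
    rintro g ⟨m, hm, hgm⟩ e f
    obtain ⟨y, hy, hαy⟩ := exists_coprime_same_image α g m hm hgm
    apply hcext
    rw [← hαy, hc_conj]
    apply ctx.hp' y hy
    rw [hc]
    exact hk _ (ℓ e).2 _ (ℓ f).2
  have hcz := hbil c hcl hcr hcinv
  have hx₁k : ∀ a ∈ R, ∀ b ∈ R, x₁ * kk a b * x₁⁻¹ = kk a b := by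
    intro a ha b hb
    have h1 := hc_red ⟨a, ha⟩ ⟨b, hb⟩
    have h2 := hc_conj x₁ (red ⟨a, ha⟩) (red ⟨b, hb⟩)
    rw [hαx, hcz] at h2
    show x₁ * kk ((⟨a, ha⟩ : ↥R) : G) ((⟨b, hb⟩ : ↥R) : G) * x₁⁻¹ = _
    rw [h1]
    exact h2.symm
  have hx₁c : ∀ w ∈ ⁅R₂, R₂⁆, x₁ * w * x₁⁻¹ = w := by
    have hle : ⁅R₂, R₂⁆ ≤ Subgroup.centralizer ({x₁} : Set G) := by
      rw [Subgroup.commutator_le]
      intro a ha b hb
      rw [Subgroup.mem_centralizer_singleton_iff, commutatorElement_def]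
      have := hx₁k a (hR₂R ha) b (hR₂R hb)
      unfold kk at this
      calc a * b * a⁻¹ * b⁻¹ * x₁ = (x₁ * (a * b * a⁻¹ * b⁻¹) * x₁⁻¹) * x₁ := by rw [this]
        _ = x₁ * (a * b * a⁻¹ * b⁻¹) := by group
    intro w hw
    have := Subgroup.mem_centralizer_singleton_iff.mp (hle hw)
    rw [← this]; group
  have hq₁ : ∀ e, α x₁ (α x₁ e / e) = α x₁ e / e := by
    rw [hαx]; exact hzq
  have hquad : ⁅⁅R₂, Subgroup.zpowers x₁⁆, Subgroup.zpowers x₁⁆ = ⊥ := by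
    apply quad_of_elementwise
    intro r hr
    rw [hR₂] at hr hx₁c
    exact ctx.quad_on_R2 x₁ (hL₁ ▸ hx₁L) hq₁ hx₁c r hr
  obtain ⟨L, hLN, hNL, hLp', hLq⟩ := Cfsg.Agent.Lib.Helper13.nps_local hst R₂ hR₂p
  have hx₁Lq : x₁ ∈ L := hLq x₁ (hL₁N hx₁L) hquad
  have hkey := hOp (L ⊓ L₁) ?_ ?_ x₁ (Subgroup.mem_inf.mpr ⟨hx₁Lq, hx₁L⟩)
  · obtain ⟨e, he⟩ := hz1
    apply he
    rw [← hαx]
    exact hkey e
  · intro g m hm
    obtain ⟨hm1, hm2⟩ := Subgroup.mem_inf.mp hm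
    obtain ⟨n, hn, hgL⟩ := ctx.covering g
    rw [← hL₁] at hgL
    refine ⟨(n * g) * m * (n * g)⁻¹, Subgroup.mem_inf.mpr ⟨?_, ?_⟩, ?_⟩
    · exact (Subgroup.mem_normalizer_iff.mp (hNL (hL₁N hgL)) m).mp hm1
    · exact L₁.mul_mem (L₁.mul_mem hgL hm2) (L₁.inv_mem hgL)
    · rw [map_mul, map_mul, map_inv, map_mul, map_mul, map_inv, map_mul,
        MonoidHom.mem_ker.mp hn, one_mul]
  · intro m hm
    obtain ⟨hm1, hm2⟩ := Subgroup.mem_inf.mp hm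
    obtain ⟨k, hk'⟩ := exists_pow_coprime p m
    refine ⟨k, ?_⟩
    have hyc := hLp' _ (L.pow_mem hm1 _) hk'
    rw [Subgroup.mem_centralizer_iff] at hyc
    have hyk : m ^ p ^ k ∈ α.ker := by
      rw [ctx.mem_ker_iff]
      intro r hr
      obtain ⟨r₂, hr₂, a, ha, rfl⟩ := Subgroup.mem_sup_of_normal_right.mp (ctx.R_le hr)
      rw [← hR₂] at hr₂
      have h1 := hyc r₂ hr₂
      have e : m ^ p ^ k * (r₂ * a) * (m ^ p ^ k)⁻¹ * (r₂ * a)⁻¹ =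
          r₂ * ((m ^ p ^ k * a * (m ^ p ^ k)⁻¹) * a⁻¹) * r₂⁻¹ := by
        calc m ^ p ^ k * (r₂ * a) * (m ^ p ^ k)⁻¹ * (r₂ * a)⁻¹
            = (m ^ p ^ k * r₂) * a * (m ^ p ^ k)⁻¹ * a⁻¹ * r₂⁻¹ := by group
          _ = (r₂ * m ^ p ^ k) * a * (m ^ p ^ k)⁻¹ * a⁻¹ * r₂⁻¹ := by rw [h1]
          _ = r₂ * ((m ^ p ^ k * a * (m ^ p ^ k)⁻¹) * a⁻¹) * r₂⁻¹ := by group
      rw [e]
      exact hR₀n.conj_mem _ (R₀.mul_mem (hR₀n.conj_mem a ha _) (R₀.inv_mem ha)) r₂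
    intro e
    rw [MonoidHom.mem_ker.mp hyk]
    rfl

end Endgame

end Cfsg.Agent.Lib.Helper13.NPS3
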