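import Mathlib
import Cfsg.Agent.Lib.Helper26.NPSQ9
import Cfsg.Agent.Lib.Helper13.NPS3B
import Cfsg.Agent.Lib.Helper13.NPS3C

set_option autoImplicit false

/-! Section `3`-stability from normalizer `3`-stability and control of strong fusion
(helper13, for S5279; adapted from helper26's `NPSQ6`-`NPSQ9`, with `p ≥ 5` replaced by `p = 3` and
the new endgame). -/

namespace Cfsg.Agent.Lib.Helper13.NPS3

open Cfsg.Agent.Lib.Helper26.NPSQ Cfsg.Agent.Lib.Helper13

open scoped commutatorElement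

universe u

section CoreAbs

variable {G : Type u} [Group G] [Finite G] {p : ℕ} [Fact p.Prime]

open scoped IsMulCommutative in
/-- The minimal configuration is impossible (abstract form of the section). -/
theorem core_contra_abs3 (hp3 : p = 3) (hst : Cfsg.IsNormalizerPStable p G)
    (R R₀ : Subgroup G) [hRn : R.Normal] [hR₀n : R₀.Normal]
    (hRp : IsPGroup p ↥R) (hR₀R : R₀ ≤ R) (hR₀ne : R₀ ≠ R)
    (hcen : ∀ a ∈ R₀, ∀ r ∈ R, a * r = r * a) (hR₀c : CentP p R₀)
    (hmax : ∀ R₁ : Subgroup G, R₁.Normal → R₁ ≤ R → R₁ ≠ R → R₁ ≤ R₀)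
    (hpow : ∀ r ∈ R, r ^ p ∈ R₀)
    (hnt : ¬ (∀ g : G, ∀ r ∈ R, g * r * g⁻¹ * r⁻¹ ∈ R₀))
    {E : Type u} [CommGroup E] (red : ↥R →* E) (α : G →* MulAut E)
    (hred : Function.Surjective red) (hker : ∀ r : ↥R, red r = 1 ↔ (r : G) ∈ R₀)
    (hα : ∀ (g : G) (r : ↥R), α g (red r) = red ⟨g * r * g⁻¹, hRn.conj_mem r r.2 g⟩)
    (x x' : G) (hgen : Subgroup.closure {x, x'} ⊔ R = ⊤)
    (hq : ⁅⁅R, Subgroup.zpowers x⁆, Subgroup.zpowers x⁆ ≤ R₀)
    (hq' : ⁅⁅R, Subgroup.zpowers x'⁆, Subgroup.zpowers x'⁆ ≤ R₀) : False := by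
  have hpp : p.Prime := Fact.out
  have hp2 : p ≠ 2 := by omega
  haveI hEfin : Finite E := Finite.of_surjective red hred
  have hred_eq : ∀ r s : ↥R, red r = red s ↔ (r : G) * (s : G)⁻¹ ∈ R₀ := by
    intro r s
    rw [← mul_inv_eq_one, ← map_inv, ← map_mul, hker]
    rfl
  have hmemker : ∀ g : G, g ∈ α.ker ↔ ∀ r ∈ R, g * r * g⁻¹ * r⁻¹ ∈ R₀ := by
    intro g
    rw [MonoidHom.mem_ker]
    constructor
    · intro h r hr
      have h1 := hα g ⟨r, hr⟩
      rw [h, MulAut.one_apply] at h1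
      exact (hred_eq _ _).mp h1.symm
    · intro h
      ext e
      obtain ⟨r, rfl⟩ := hred e
      rw [hα, MulAut.one_apply]
      exact (hred_eq _ _).mpr (h r r.2)
  haveI hEnt : Nontrivial E := by
    have : ∃ r ∈ R, r ∉ R₀ := by
      by_contra hcon
      push Not at hcon
      exact hR₀ne (le_antisymm hR₀R hcon)
    obtain ⟨r, hr, hr0⟩ := this
    refine ⟨⟨red ⟨r, hr⟩, 1, ?_⟩⟩
    intro h
    exact hr0 ((hker _).mp h)
  have hexp : ∀ e : E, e ^ p = 1 := by
    intro e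
    obtain ⟨r, rfl⟩ := hred e
    rw [← map_pow, hker]
    exact hpow r r.2
  have hEp : IsPGroup p E := fun e => ⟨1, by rw [pow_one]; exact hexp e⟩
  have hRker : R ≤ α.ker := by
    intro r hr
    rw [hmemker]
    intro s hs
    have h1 : red (⟨r, hr⟩ * ⟨s, hs⟩) = red (⟨s, hs⟩ * ⟨r, hr⟩) := by
      rw [map_mul, map_mul, mul_comm]
    have h2 := (hred_eq _ _).mp h1
    have e : r * s * r⁻¹ * s⁻¹ = (r * s) * (s * r)⁻¹ := by group
    rw [e]
    exact h2
  have hquadα : ∀ y : G, ⁅⁅R, Subgroup.zpowers y⁆, Subgroup.zpowers y⁆ ≤ R₀ →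
      ∀ e, α y (α y e / e) = α y e / e := by
    intro y hy e
    obtain ⟨r, rfl⟩ := hred e
    have hδR : y * r * y⁻¹ * (r : G)⁻¹ ∈ R := R.mul_mem (hRn.conj_mem r r.2 y) (R.inv_mem r.2)
    have h2 : α y (red r) / red r = red ⟨y * r * y⁻¹ * (r : G)⁻¹, hδR⟩ := by
      rw [hα, div_eq_mul_inv, ← map_inv, ← map_mul]
      rfl
    rw [h2, hα, hred_eq]
    apply hy
    have h3 : ⁅y, (r : G)⁆ ∈ ⁅R, Subgroup.zpowers y⁆ := by
      rw [Subgroup.commutator_comm]
      exact Subgroup.commutator_mem_commutator (Subgroup.mem_zpowers y) r.2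
    have h4 := Subgroup.commutator_mem_commutator (Subgroup.mem_zpowers y) h3
    rw [Subgroup.commutator_comm, commutatorElement_def, commutatorElement_def] at h4
    exact h4
  have hirrG : ∀ W : Subgroup E, (∀ g : G, ∀ w ∈ W, α g w ∈ W) → W = ⊥ ∨ W = ⊤ := by
    intro W hW
    obtain ⟨R₁, hR₁⟩ : ∃ R₁ : Subgroup G, R₁ = (W.comap red).map R.subtype := ⟨_, rfl⟩
    have hmemR₁ : ∀ r : ↥R, (r : G) ∈ R₁ ↔ red r ∈ W := by
      intro r
      rw [hR₁]
      constructor
      · rintro ⟨r', hr', hrr'⟩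
        have : r' = r := Subtype.ext hrr'
        rw [← this]
        exact hr'
      · intro h
        exact ⟨r, h, rfl⟩
    have hR₁R : R₁ ≤ R := hR₁ ▸ Subgroup.map_subtype_le _
    have hR₁n : R₁.Normal := by
      refine ⟨fun r hr g => ?_⟩
      have hrR : r ∈ R := hR₁R hr
      have h1 := (hmemR₁ ⟨r, hrR⟩).mp hr
      have h2 := hW g _ h1
      rw [hα] at h2
      exact (hmemR₁ ⟨g * r * g⁻¹, hRn.conj_mem r hrR g⟩).mpr h2
    by_cases hne : R₁ = R
    · right
      rw [eq_top_iff]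
      intro e _
      obtain ⟨r, rfl⟩ := hred e
      exact (hmemR₁ r).mp (hne ▸ r.2)
    · left
      have hle := hmax R₁ hR₁n hR₁R hne
      rw [eq_bot_iff]
      intro e he
      obtain ⟨r, rfl⟩ := hred e
      rw [Subgroup.mem_bot, hker]
      exact hle ((hmemR₁ r).mpr he)
  obtain ⟨Γ, hΓ⟩ : ∃ Γ : Subgroup G, Γ = Subgroup.closure {x, x'} := ⟨_, rfl⟩
  have hxΓ : x ∈ Γ := hΓ ▸ Subgroup.subset_closure (Set.mem_insert _ _)
  have hx'Γ : x' ∈ Γ := hΓ ▸ Subgroup.subset_closure (Set.mem_insert_of_mem _ rfl)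
  have hgenΓ : Subgroup.closure {(⟨x, hxΓ⟩ : ↥Γ), ⟨x', hx'Γ⟩} = (⊤ : Subgroup ↥Γ) := by
    subst hΓ
    have h1 := Subgroup.closure_closure_coe_preimage (k := ({x, x'} : Set G))
    rw [← h1]
    congr 1
    ext γ
    simp only [Set.mem_insert_iff, Set.mem_singleton_iff, Set.mem_preimage]
    constructor
    · rintro (h | h)
      · left; rw [h]
      · right; rw [h]
    · rintro (h | h)
      · left; exact Subtype.ext h
      · right; exact Subtype.ext h
  have hirrΓ : ∀ W : Subgroup E, (∀ γ : ↥Γ, ∀ w ∈ W, (α.comp Γ.subtype) γ w ∈ W) →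
      W = ⊥ ∨ W = ⊤ := by
    intro W hW
    apply hirrG W
    intro g w hw
    have hg : g ∈ Γ ⊔ R := by rw [hΓ, hgen]; trivial
    obtain ⟨d, hd, r, hr, rfl⟩ := Subgroup.mem_sup_of_normal_right.mp hg
    rw [map_mul, MonoidHom.mem_ker.mp (hRker hr), mul_one]
    exact hW ⟨d, hd⟩ w hw
  have hneΓ : ∃ γ : ↥Γ, ∃ e, (α.comp Γ.subtype) γ e ≠ e := by
    by_contra hcon
    push Not at hcon
    apply hnt
    intro g
    rw [← hmemker]
    have hg : g ∈ Γ ⊔ R := by rw [hΓ, hgen]; trivial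
    have hle : Γ ⊔ R ≤ α.ker := by
      apply sup_le _ hRker
      intro d hd
      rw [MonoidHom.mem_ker]
      ext e
      exact hcon ⟨d, hd⟩ e
    exact hle hg
  subst hp3
  obtain ⟨⟨t, ht⟩, z, hz1, hzq, hbil⟩ := quad_pair_group_three.{u, u, u} hexp (α.comp Γ.subtype)
    ⟨x, hxΓ⟩ ⟨x', hx'Γ⟩ hgenΓ (hquadα x hq) (hquadα x' hq') hneΓ hirrΓ
  obtain ⟨k, hk⟩ := exists_pow_coprime 3 (t : G)
  have ht' : ∀ e, α ((t : G) ^ 3 ^ k) e = e⁻¹ := by
    intro e
    rw [map_pow]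
    exact inv_pow_odd (α (t : G)) ht _ (hpp.odd_of_ne_two hp2).pow e
  have ctx : EndCtx 3 R R₀ red α ((t : G) ^ 3 ^ k) :=
    ⟨hRp, hR₀R, hcen, hR₀c, hred, hker, hα, ht', hk, hp2⟩
  have hOp : ∀ M : Subgroup G, (∀ g : G, ∀ m ∈ M, ∃ m' ∈ M, α (g * m * g⁻¹) = α m') →
      (∀ m ∈ M, ∃ k : ℕ, ∀ e, α (m ^ 3 ^ k) e = e) → ∀ m ∈ M, ∀ e, α m e = e :=
    fun M hMn hM => trivial_of_pgroup_action hEp α hirrG M hMn hM
  refine endgame_bil ctx hst hOp (z : G) hz1 hzq ?_
  intro c hcl hcr hcinv e f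
  exact hbil ↥(Subgroup.center ↥R) c hcl hcr
    (fun γ hγ e' f' => hcinv (γ : G) hγ e' f') e f

end CoreAbs

section Core

variable {G : Type u} [Group G] [Finite G] {p : ℕ} [Fact p.Prime]

/-- The minimal configuration is impossible. -/
theorem core_contra3 (hp3 : p = 3) (hst : Cfsg.IsNormalizerPStable p G)
    (R R₀ : Subgroup G) [hRn : R.Normal] [hR₀n : R₀.Normal]
    (hRp : IsPGroup p ↥R) (hR₀R : R₀ ≤ R) (hR₀ne : R₀ ≠ R)
    (hcen : ∀ a ∈ R₀, ∀ r ∈ R, a * r = r * a) (hR₀c : CentP p R₀)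
    (hmax : ∀ R₁ : Subgroup G, R₁.Normal → R₁ ≤ R → R₁ ≠ R → R₁ ≤ R₀)
    (hpow : ∀ r ∈ R, r ^ p ∈ R₀) (hcomm : ∀ r ∈ R, ∀ s ∈ R, r * s * r⁻¹ * s⁻¹ ∈ R₀)
    (hnt : ¬ (∀ g : G, ∀ r ∈ R, g * r * g⁻¹ * r⁻¹ ∈ R₀))
    (x x' : G) (hgen : Subgroup.closure {x, x'} ⊔ R = ⊤)
    (hq : ⁅⁅R, Subgroup.zpowers x⁆, Subgroup.zpowers x⁆ ≤ R₀)
    (hq' : ⁅⁅R, Subgroup.zpowers x'⁆, Subgroup.zpowers x'⁆ ≤ R₀) : False := by
  obtain ⟨π, hπ⟩ : ∃ π : G →* G ⧸ R₀, π = QuotientGroup.mk' R₀ := ⟨_, rfl⟩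
  have hπs : Function.Surjective π := hπ ▸ QuotientGroup.mk'_surjective R₀
  have hπk : ∀ g, π g = 1 ↔ g ∈ R₀ := by
    intro g
    rw [hπ]
    exact QuotientGroup.eq_one_iff g
  haveI hVn : (R.map π).Normal := hRn.map π hπs
  have hVc : ∀ a b : ↥(R.map π), a * b = b * a := by
    rintro ⟨_, ⟨r, hr, rfl⟩⟩ ⟨_, ⟨s, hs, rfl⟩⟩
    apply Subtype.ext
    show π r * π s = π s * π r
    rw [← map_mul, ← map_mul, ← mul_inv_eq_one, ← map_inv, ← map_mul, hπk]
    have e : r * s * (s * r)⁻¹ = r * s * r⁻¹ * s⁻¹ := by group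
    rw [e]
    exact hcomm r hr s hs
  letI instCG : CommGroup ↥(R.map π) :=
    { (inferInstance : Group ↥(R.map π)) with mul_comm := hVc }
  refine core_contra_abs3 hp3 hst R R₀ hRp hR₀R hR₀ne hcen hR₀c hmax hpow hnt
    (E := ↥(R.map π)) (π.subgroupMap R) ((MulAut.conjNormal (H := R.map π)).comp π)
    (π.subgroupMap_surjective R) ?_ ?_ x x' hgen hq hq'
  · intro r
    rw [← hπk]
    constructor
    · intro h
      exact congrArg Subtype.val h
    · intro h
      exact Subtype.ext h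
  · intro g r
    apply Subtype.ext
    show π g * π r * (π g)⁻¹ = π (g * r * g⁻¹)
    rw [map_mul, map_mul, map_inv]

/-- The core lemma: a normal `p`-subgroup `R` of a group generated modulo `R` by two elements
acting quadratically modulo `Q`, all of whose proper invariant subgroups are centralized by the
elements of order prime to `p`, is itself centralized by them. -/
theorem core_lemma3 (hp3 : p = 3) (hst : Cfsg.IsNormalizerPStable p G)
    (R Q : Subgroup G) [hRn : R.Normal] [hQn : Q.Normal]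
    (hRp : IsPGroup p ↥R) (hQR : Q ≤ R) (hQ : CentP p Q)
    (hmin : ∀ R₁ : Subgroup G, R₁.Normal → R₁ ≤ R → R₁ ≠ R → CentP p R₁)
    (x x' : G) (hgen : Subgroup.closure {x, x'} ⊔ R = ⊤)
    (hq : ⁅⁅R, Subgroup.zpowers x⁆, Subgroup.zpowers x⁆ ≤ Q)
    (hq' : ⁅⁅R, Subgroup.zpowers x'⁆, Subgroup.zpowers x'⁆ ≤ Q) : CentP p R := by
  by_contra hcon
  obtain ⟨R₀, hR₀n, hR₀R, hR₀ne, hQR₀, hcen, hR₀c, hmax, hpow, hcomm, hnt⟩ :=
    exists_max_invariant R Q hRp hQR hQ hmin hcon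
  exact core_contra3 hp3 hst R R₀ hRp hR₀R hR₀ne hcen hR₀c hmax hpow hcomm hnt x x' hgen
    (hq.trans hQR₀) (hq'.trans hQR₀)
end Core

section Induction

variable {p : ℕ} [Fact p.Prime]

/-- The step of the induction: the pair case, by passage to the subgroup generated by the pair
and `R`. -/
theorem quad_section_step3 (hp3 : p = 3) {G : Type u} [Group G] [Finite G]
    (hst : Cfsg.IsNormalizerPStable p G) (R Q : Subgroup G) [hRn : R.Normal] [hQn : Q.Normal]
    (hRp : IsPGroup p ↥R) (hQR : Q ≤ R) (hQ : CentP p Q) (x x' : G)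
    (hq : ⁅⁅R, Subgroup.zpowers x⁆, Subgroup.zpowers x⁆ ≤ Q)
    (hq' : ⁅⁅R, Subgroup.zpowers x'⁆, Subgroup.zpowers x'⁆ ≤ Q)
    (ihyp : ∀ (G' : Type u) [Group G'] [Finite G'], Cfsg.IsNormalizerPStable p G' →
      ∀ (R' Q' : Subgroup G') [R'.Normal] [Q'.Normal], Nat.card ↥R' < Nat.card ↥R →
        IsPGroup p ↥R' → Q' ≤ R' → CentP p Q' → ∀ x : G',
          ⁅⁅R', Subgroup.zpowers x⁆, Subgroup.zpowers x⁆ ≤ Q' →
          ∀ y ∈ Subgroup.normalClosure {x}, (orderOf y).Coprime p →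
            y ∈ Subgroup.centralizer (R' : Set G')) :
    ∀ y ∈ Subgroup.closure {x, x'}, (orderOf y).Coprime p →
      y ∈ Subgroup.centralizer (R : Set G) := by
  have hpp : p.Prime := Fact.out
  obtain ⟨H₁, hH₁⟩ : ∃ H₁ : Subgroup G, H₁ = Subgroup.closure {x, x'} ⊔ R := ⟨_, rfl⟩
  have hRH : R ≤ H₁ := hH₁ ▸ le_sup_right
  have hcH : Subgroup.closure {x, x'} ≤ H₁ := hH₁ ▸ le_sup_left
  have hxH : x ∈ H₁ := hcH (Subgroup.subset_closure (Set.mem_insert _ _))
  have hx'H : x' ∈ H₁ := hcH (Subgroup.subset_closure (Set.mem_insert_of_mem _ rfl))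
  have hst₁ : Cfsg.IsNormalizerPStable p ↥H₁ := Cfsg.Agent.Lib.Helper10.ZJctl.nps_subgroup hst H₁
  obtain ⟨R', hR'⟩ : ∃ R' : Subgroup ↥H₁, R' = R.subgroupOf H₁ := ⟨_, rfl⟩
  obtain ⟨Q', hQ'⟩ : ∃ Q' : Subgroup ↥H₁, Q' = Q.subgroupOf H₁ := ⟨_, rfl⟩
  haveI hR'n : R'.Normal := hR' ▸ inferInstance
  haveI hQ'n : Q'.Normal := hQ' ▸ inferInstance
  have hR'map : R'.map H₁.subtype = R := hR' ▸ Subgroup.map_subgroupOf_eq_of_le hRH
  have hR'p : IsPGroup p ↥R' := hR' ▸ hRp.comap_subtype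
  have hQ'R' : Q' ≤ R' := by
    rw [hR', hQ']
    exact Subgroup.comap_mono hQR
  have hQ'c : CentP p Q' := by
    intro y hy a ha
    apply Subtype.ext
    rw [hQ', Subgroup.mem_subgroupOf] at ha
    rw [← Subgroup.orderOf_coe] at hy
    exact hQ (y : G) hy a ha
  have hcardR' : Nat.card ↥R' = Nat.card ↥R := by
    rw [hR']
    exact Nat.card_congr (Subgroup.subgroupOfEquivOfLe hRH).toEquiv
  have hgen' : Subgroup.closure {(⟨x, hxH⟩ : ↥H₁), ⟨x', hx'H⟩} ⊔ R' = ⊤ := by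
    apply Subgroup.map_injective H₁.subtype_injective
    rw [Subgroup.map_sup, MonoidHom.map_closure, Set.image_pair, hR'map,
      ← MonoidHom.range_eq_map, Subgroup.range_subtype]
    exact hH₁.symm
  have hqmap : ∀ (z : G) (hz : z ∈ H₁),
      ⁅⁅R, Subgroup.zpowers z⁆, Subgroup.zpowers z⁆ ≤ Q →
      ⁅⁅R', Subgroup.zpowers (⟨z, hz⟩ : ↥H₁)⁆, Subgroup.zpowers (⟨z, hz⟩ : ↥H₁)⁆ ≤ Q' := by
    intro z hz h
    rw [hQ', Subgroup.subgroupOf, ← Subgroup.map_le_iff_le_comap, Subgroup.map_commutator,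
      Subgroup.map_commutator, hR'map, MonoidHom.map_zpowers]
    exact h
  have hmin' : ∀ R₁ : Subgroup ↥H₁, R₁.Normal → R₁ ≤ R' → R₁ ≠ R' → CentP p R₁ := by
    intro R₁ hR₁n hle hne
    haveI := hR₁n
    haveI hC₁n : (Subgroup.centralizer (R₁ : Set ↥H₁)).Normal := Subgroup.normal_centralizer
    have hlt : Nat.card ↥R₁ < Nat.card ↥R := by
      rw [← hcardR']
      by_contra hcon
      push Not at hcon
      exact hne (Subgroup.eq_of_le_of_card_ge hle hcon)
    have hQ₁c : CentP p (Q' ⊓ R₁) := fun y hy a ha => hQ'c y hy a (Subgroup.mem_inf.mp ha).1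
    have hq₁ : ∀ (z : G) (hz : z ∈ H₁),
        ⁅⁅R, Subgroup.zpowers z⁆, Subgroup.zpowers z⁆ ≤ Q →
        ⁅⁅R₁, Subgroup.zpowers (⟨z, hz⟩ : ↥H₁)⁆, Subgroup.zpowers (⟨z, hz⟩ : ↥H₁)⁆ ≤ Q' ⊓ R₁ := by
      intro z hz h
      apply le_inf
      · exact (Subgroup.commutator_mono (Subgroup.commutator_mono hle le_rfl) le_rfl).trans
          (hqmap z hz h)
      · exact (Subgroup.commutator_mono (Subgroup.commutator_le_left R₁ _) le_rfl).trans
          (Subgroup.commutator_le_left R₁ _)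
    have h1 := ihyp ↥H₁ hst₁ R₁ (Q' ⊓ R₁) hlt (hR'p.to_le hle) inf_le_right hQ₁c ⟨x, hxH⟩
      (hq₁ x hxH hq)
    have h2 := ihyp ↥H₁ hst₁ R₁ (Q' ⊓ R₁) hlt (hR'p.to_le hle) inf_le_right hQ₁c ⟨x', hx'H⟩
      (hq₁ x' hx'H hq')
    have h3 : ∀ y ∈ R', (orderOf y).Coprime p → y ∈ Subgroup.centralizer (R₁ : Set ↥H₁) := by
      intro y hy hcop
      obtain ⟨k, hk⟩ := (IsPGroup.iff_orderOf.mp hR'p) ⟨y, hy⟩
      rw [Subgroup.orderOf_mk] at hk
      have hy1 : y = 1 := by
        rw [← orderOf_eq_one_iff]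
        rw [hk] at hcop ⊢
        rcases Nat.eq_zero_or_pos k with h0 | h0
        · rw [h0, pow_zero]
        · exfalso
          have := (Nat.coprime_pow_left_iff h0 p p).mp hcop
          rw [Nat.coprime_self] at this
          exact hpp.ne_one this
      rw [hy1]
      exact Subgroup.one_mem _
    have h4 := coprime_mem_sup (Subgroup.centralizer (R₁ : Set ↥H₁))
      (Subgroup.normalClosure {(⟨x, hxH⟩ : ↥H₁)}) (Subgroup.normalClosure {(⟨x', hx'H⟩ : ↥H₁)})
      h1 h2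
    have h5 := coprime_mem_sup (Subgroup.centralizer (R₁ : Set ↥H₁)) _ R' h4 h3
    have htop : Subgroup.normalClosure {(⟨x, hxH⟩ : ↥H₁)} ⊔
        Subgroup.normalClosure {(⟨x', hx'H⟩ : ↥H₁)} ⊔ R' = ⊤ := by
      rw [eq_top_iff, ← hgen']
      apply sup_le_sup_right
      rw [Subgroup.closure_le]
      rintro z (rfl | hz)
      · exact Subgroup.mem_sup_left (Subgroup.subset_normalClosure rfl)
      · rw [Set.mem_singleton_iff] at hz
        subst hz
        exact Subgroup.mem_sup_right (Subgroup.subset_normalClosure rfl)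
    intro y hy a ha
    have h6 := h5 y (htop ▸ Subgroup.mem_top y) hy
    have h7 := Subgroup.mem_centralizer_iff.mp h6 a ha
    exact mul_inv_eq_iff_eq_mul.mpr h7.symm
  have hcore := core_lemma3 hp3 hst₁ R' Q' hR'p hQ'R' hQ'c hmin' ⟨x, hxH⟩ ⟨x', hx'H⟩ hgen'
    (hqmap x hxH hq) (hqmap x' hx'H hq')
  intro y hy hcop
  rw [Subgroup.mem_centralizer_iff]
  intro r hr
  have hyH : y ∈ H₁ := hcH hy
  have hcop' : (orderOf (⟨y, hyH⟩ : ↥H₁)).Coprime p := by
    rw [Subgroup.orderOf_mk]; exact hcop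
  have hrR' : (⟨r, hRH hr⟩ : ↥H₁) ∈ R' := by
    rw [hR', Subgroup.mem_subgroupOf]; exact hr
  have h1 := hcore ⟨y, hyH⟩ hcop' ⟨r, hRH hr⟩ hrR'
  have h2 := congrArg Subtype.val h1
  have h3 : y * r * y⁻¹ = r := h2
  exact (mul_inv_eq_iff_eq_mul.mp h3).symm

/-- Section `p`-stability in top form, `p ≥ 5`: in a group that is `p`-stable in the normalizer
form, an element acting quadratically on a normal `p`-subgroup `R` modulo a normal subgroup `Q` of
`R` centralized by the elements of order prime to `p` lies in a normal subgroup whose elements of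
order prime to `p` centralize `R`. -/
theorem quad_section_top3 (hp3 : p = 3) :
    ∀ (n : ℕ) (G : Type u) [Group G] [Finite G], Cfsg.IsNormalizerPStable p G →
      ∀ (R Q : Subgroup G) [R.Normal] [Q.Normal], Nat.card ↥R = n → IsPGroup p ↥R → Q ≤ R →
        CentP p Q → ∀ x : G, ⁅⁅R, Subgroup.zpowers x⁆, Subgroup.zpowers x⁆ ≤ Q →
          ∀ y ∈ Subgroup.normalClosure {x}, (orderOf y).Coprime p →
            y ∈ Subgroup.centralizer (R : Set G) := by
  intro n
  induction n using Nat.strong_induction_on with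
  | _ n ih =>
  intro G _ _ hst R Q hRn hQn hcard hRp hQR hQ x hq
  haveI : (Subgroup.centralizer (R : Set G)).Normal := Subgroup.normal_centralizer
  apply baer_suzuki_rel
  intro g
  apply quad_section_step3 hp3 hst R Q hRp hQR hQ x (g * x * g⁻¹) hq (quad_le_conj R Q x g hq)
  intro G' _ _ hst' R' Q' _ _ hlt hR'p hQ'R' hQ'c x' hq'
  exact ih (Nat.card ↥R') (hcard ▸ hlt) G' hst' R' Q' rfl hR'p hQ'R' hQ'c x' hq'

end Induction

section Quot

variable {p : ℕ} [Fact p.Prime] {G : Type u} [Group G] [Finite G]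

set_option maxHeartbeats 1600000 in
/-- For `p ≥ 5`, `p`-stability in the normalizer form passes to the quotient by a normal
`p`-subgroup centralized by all elements of order prime to `p`. -/
theorem nps_quotient_pgroup3 (hp3 : p = 3) (hst : Cfsg.IsNormalizerPStable p G)
    (Q : Subgroup G) [hQn : Q.Normal] (hQp : IsPGroup p ↥Q) (hQc : CentP p Q) :
    Cfsg.IsNormalizerPStable p (G ⧸ Q) := by
  intro Pb hPb gb hgb hq
  obtain ⟨π, hπ⟩ : ∃ π : G →* G ⧸ Q, π = QuotientGroup.mk' Q := ⟨_, rfl⟩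
  have hπs : Function.Surjective π := hπ ▸ QuotientGroup.mk'_surjective Q
  have hπker : π.ker = Q := hπ ▸ QuotientGroup.ker_mk' Q
  obtain ⟨g, hg⟩ := hπs gb
  obtain ⟨R, hR⟩ : ∃ R : Subgroup G, R = Pb.comap π := ⟨_, rfl⟩
  obtain ⟨H, hH⟩ : ∃ H : Subgroup G, H = Subgroup.normalizer (R : Set G) := ⟨_, rfl⟩
  have hHeq : H = (Subgroup.normalizer (Pb : Set (G ⧸ Q))).comap π := by
    rw [hH, hR, Subgroup.comap_normalizer_eq_of_surjective Pb hπs]
  have hgH : g ∈ H := by
    rw [hHeq, Subgroup.mem_comap, hg]; exact hgb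
  have hRH : R ≤ H := hH ▸ Subgroup.le_normalizer
  have hQR : Q ≤ R := by
    rw [hR]
    exact (le_of_eq hπker.symm).trans (Subgroup.ker_le_comap π Pb)
  have hkerp : IsPGroup p ↥π.ker := by
    rw [hπker]; exact hQp
  have hRp : IsPGroup p ↥R := by
    rw [hR]
    exact IsPGroup.comap_of_ker_isPGroup hPb π hkerp
  have hRmap : R.map π = Pb := by
    rw [hR]; exact Subgroup.map_comap_eq_self_of_surjective hπs Pb
  have hquad : ⁅⁅R, Subgroup.zpowers g⁆, Subgroup.zpowers g⁆ ≤ Q := by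
    rw [← hπker, ← Subgroup.map_eq_bot_iff, Subgroup.map_commutator, Subgroup.map_commutator,
      hRmap, MonoidHom.map_zpowers, hg]
    exact hq
  have hst₁ : Cfsg.IsNormalizerPStable p ↥H := Cfsg.Agent.Lib.Helper10.ZJctl.nps_subgroup hst H
  obtain ⟨R', hR'⟩ : ∃ R' : Subgroup ↥H, R' = R.subgroupOf H := ⟨_, rfl⟩
  obtain ⟨Q', hQ'⟩ : ∃ Q' : Subgroup ↥H, Q' = Q.subgroupOf H := ⟨_, rfl⟩
  haveI hR'n : R'.Normal := by
    rw [hR', hH]; exact Subgroup.normal_in_normalizer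
  haveI hQ'n : Q'.Normal := hQ' ▸ inferInstance
  have hR'map : R'.map H.subtype = R := hR' ▸ Subgroup.map_subgroupOf_eq_of_le hRH
  have hR'p : IsPGroup p ↥R' := hR' ▸ hRp.comap_subtype
  have hQ'R' : Q' ≤ R' := by
    rw [hR', hQ']
    exact Subgroup.comap_mono hQR
  have hQ'c : CentP p Q' := by
    intro y hy a ha
    apply Subtype.ext
    rw [hQ', Subgroup.mem_subgroupOf] at ha
    rw [← Subgroup.orderOf_coe] at hy
    exact hQc (y : G) hy a ha
  have hquad' : ⁅⁅R', Subgroup.zpowers (⟨g, hgH⟩ : ↥H)⁆, Subgroup.zpowers (⟨g, hgH⟩ : ↥H)⁆ ≤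
      Q' := by
    rw [hQ', Subgroup.subgroupOf, ← Subgroup.map_le_iff_le_comap, Subgroup.map_commutator,
      Subgroup.map_commutator, hR'map, MonoidHom.map_zpowers]
    exact hquad
  have key := quad_section_top3 hp3 _ ↥H hst₁ R' Q' rfl hR'p hQ'R' hQ'c ⟨g, hgH⟩ hquad'
  obtain ⟨ψ₀, hψ₀⟩ : ∃ ψ₀ : ↥H →* ↥(Subgroup.normalizer (Pb : Set (G ⧸ Q))),
      ∀ h : ↥H, ((ψ₀ h : ↥(Subgroup.normalizer (Pb : Set (G ⧸ Q)))) : G ⧸ Q) = π (h : G) := by
    refine ⟨(π.comp H.subtype).codRestrict _ (fun h => ?_), fun h => rfl⟩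
    have := (le_of_eq hHeq) h.2
    rw [Subgroup.mem_comap] at this
    exact this
  have hψ₀s : Function.Surjective ψ₀ := by
    rintro ⟨y, hy⟩
    obtain ⟨h, rfl⟩ := hπs y
    have hh : h ∈ H := by rw [hHeq, Subgroup.mem_comap]; exact hy
    exact ⟨⟨h, hh⟩, Subtype.ext (hψ₀ _)⟩
  obtain ⟨ψ, hψ⟩ : ∃ ψ : ↥H →* ↥(Subgroup.normalizer (Pb : Set (G ⧸ Q))) ⧸
      (Subgroup.centralizer (Pb : Set (G ⧸ Q))).subgroupOf
        (Subgroup.normalizer (Pb : Set (G ⧸ Q))), ψ = (QuotientGroup.mk' _).comp ψ₀ := ⟨_, rfl⟩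
  have hψs : Function.Surjective ψ := by
    rw [hψ]
    exact (QuotientGroup.mk'_surjective _).comp hψ₀s
  have hψ1 : ∀ y : ↥H, y ∈ Subgroup.centralizer (R' : Set ↥H) → ψ y = 1 := by
    intro y hy
    rw [hψ, MonoidHom.comp_apply, QuotientGroup.mk'_apply, QuotientGroup.eq_one_iff,
      Subgroup.mem_subgroupOf, Subgroup.mem_centralizer_iff]
    intro b hb
    rw [SetLike.mem_coe, ← hRmap] at hb
    obtain ⟨r, hr, rfl⟩ := hb
    rw [hψ₀, ← map_mul, ← map_mul]
    congr 1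
    have hrR' : (⟨r, hRH hr⟩ : ↥H) ∈ R' := by
      rw [hR', Subgroup.mem_subgroupOf]; exact hr
    have := Subgroup.mem_centralizer_iff.mp hy ⟨r, hRH hr⟩ hrR'
    exact congrArg Subtype.val this
  have hLp : IsPGroup p ↥((Subgroup.normalClosure {(⟨g, hgH⟩ : ↥H)}).map ψ) := by
    rintro ⟨_, ⟨y, hy, rfl⟩⟩
    obtain ⟨k, hk⟩ := exists_pow_coprime p y
    refine ⟨k, ?_⟩
    apply Subtype.ext
    rw [Subgroup.coe_pow, Subgroup.coe_one]
    show ψ y ^ p ^ k = 1
    rw [← map_pow]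
    exact hψ1 _ (key _ (Subgroup.pow_mem _ hy _) hk)
  have hLn : ((Subgroup.normalClosure {(⟨g, hgH⟩ : ↥H)}).map ψ).Normal :=
    Subgroup.Normal.map inferInstance ψ hψs
  have hle := Cfsg.Agent.Lib.Helper1.le_pCore hLn hLp
  apply hle
  refine ⟨⟨g, hgH⟩, Subgroup.subset_normalClosure rfl, ?_⟩
  rw [hψ, MonoidHom.comp_apply, QuotientGroup.mk'_apply]
  congr 1
  apply Subtype.ext
  rw [hψ₀]
  exact hg

end Quot

section Main

variable {p : ℕ} [Fact p.Prime] {𝓦 : Set (∀ (Q : Type u) [Group Q], Subgroup Q)}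

theorem nps_main3 (hp3 : p = 3) (h𝓦 : ∀ W ∈ 𝓦, Cfsg.IsCharPFunctor.{u} p W)
    (hcons : ∀ (Γ : Type u) [Group Γ] [Finite Γ], Cfsg.IsNormalizerPStable p Γ →
      Subgroup.centralizer ((Cfsg.pCore p Γ : Subgroup Γ) : Set Γ) ≤ Cfsg.pCore p Γ →
        FCS p 𝓦 Γ) :
    ∀ (n : ℕ) (Γ : Type u) [Group Γ] [Finite Γ], Nat.card Γ = n →
      Cfsg.IsNormalizerPStable p Γ → FCS p 𝓦 Γ := by
  intro n
  induction n using Nat.strong_induction_on with
  | _ n ih =>
  intro Γ _ _ hcard hst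
  have hp : p.Prime := Fact.out
  have ihsub : ∀ N : Subgroup Γ, N ≠ ⊤ → FCS p 𝓦 ↥N := fun N hN =>
    ih (Nat.card ↥N) (hcard ▸ card_subgroup_lt_of_ne_top N hN) ↥N rfl
      (Cfsg.Agent.Lib.Helper10.ZJctl.nps_subgroup hst N)
  have ihquot : ∀ (M : Subgroup Γ) [M.Normal], M ≠ ⊥ → Cfsg.IsNormalizerPStable p (Γ ⧸ M) →
      FCS p 𝓦 (Γ ⧸ M) := fun M _ hM hstM =>
    ih (Nat.card (Γ ⧸ M)) (hcard ▸ card_quotient_lt_of_ne_bot M hM) (Γ ⧸ M) rfl hstM
  obtain ⟨S⟩ : Nonempty (Sylow p Γ) := inferInstance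
  have hconj := indFam_isConjugacyFunctor h𝓦 Γ
  have reach_in_sub : ∀ N : Subgroup Γ, N ≠ ⊤ → (S : Subgroup Γ) ≤ N →
      ∀ (A : Set Γ) (h : Γ), h ∈ N → A ⊆ ((S : Subgroup Γ) : Set Γ) →
        (fun a => h * a * h⁻¹) '' A ⊆ ((S : Subgroup Γ) : Set Γ) →
        Reach (indFam 𝓦 Γ) ⊤ (S : Subgroup Γ) A h := by
    intro N hN hSN A h hh hA hhA
    have h1 := fcs_subgroup_of_type h𝓦 N (ihsub N hN)
    have hSi : ¬ p ∣ (S : Subgroup Γ).relIndex N := fun hd =>
      S.not_dvd_index (hd.trans (Subgroup.relIndex_dvd_index_of_le hSN))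
    exact (family_fusion_of_sylow hconj h1 hSN S.isPGroup' hSi A h hh hA hhA).mono_ambient le_top
  have package : (∀ (A : Set Γ) (h : Γ), A ⊆ ((S : Subgroup Γ) : Set Γ) →
      (fun a => h * a * h⁻¹) '' A ⊆ ((S : Subgroup Γ) : Set Γ) →
      Reach (indFam 𝓦 Γ) ⊤ (S : Subgroup Γ) A h) → FCS p 𝓦 Γ := by
    intro hall
    unfold FCS
    rw [familyControlsStrongFusionIn_iff]
    refine ⟨S, le_top, S.isPGroup', ?_, fun A h _ hA hhA => hall A h hA hhA⟩
    rw [Subgroup.relIndex_top_right]; exact S.not_dvd_index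
  by_cases hQ : Cfsg.pCore p Γ = ⊥
  · apply Cfsg.Agent.S1959.result S (indFam 𝓦 Γ) hconj
    intro T hTS hTne _
    have hne : Subgroup.normalizer (T : Set Γ) ≠ ⊤ := by
      intro htop
      have hTn : T.Normal := Subgroup.normalizer_eq_top_iff.mp htop
      have := Cfsg.Agent.Lib.Helper1.le_pCore hTn (S.isPGroup'.to_le hTS)
      rw [hQ] at this
      exact hTne (le_bot_iff.mp this)
    exact fcs_subgroup_of_type h𝓦 _ (ihsub _ hne)
  · obtain ⟨Q, hQdef⟩ : ∃ Q : Subgroup Γ, Q = Cfsg.pCore p Γ := ⟨_, rfl⟩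
    rw [← hQdef] at hQ
    haveI hQn : Q.Normal := hQdef ▸ pCore_normal' p
    have hQp : IsPGroup p ↥Q := hQdef ▸ pCore_isPGroup
    have hle_Q : ∀ R : Subgroup Γ, R.Normal → IsPGroup p ↥R → R ≤ Q := fun R hRn hRp =>
      hQdef ▸ Cfsg.Agent.Lib.Helper1.le_pCore hRn hRp
    by_cases hC : Subgroup.centralizer (Q : Set Γ) ≤ Q
    · rw [hQdef] at hC
      exact hcons Γ hst hC
    · by_cases hD : Cfsg.pPrimeCore p Γ = ⊥
      swap
      · haveI : (Cfsg.pPrimeCore p Γ).Normal := pPrimeCore_normal' p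
        exact fcs_of_quotient_pprime h𝓦 (Cfsg.pPrimeCore p Γ)
          (Cfsg.Agent.Lib.Helper1.pPrimeCore_card_coprime p) (ihquot _ hD
            (Cfsg.Agent.Lib.Helper10.ZJctl.nps_quotient hst _
              (Cfsg.Agent.Lib.Helper1.pPrimeCore_card_coprime p)))
      · obtain ⟨C, hCdef⟩ : ∃ C : Subgroup Γ, C = Subgroup.centralizer (Q : Set Γ) := ⟨_, rfl⟩
        haveI hCn : C.Normal := by rw [hCdef]; exact Subgroup.normal_centralizer
        have hSC : ¬ (S : Subgroup Γ) ⊓ C ≤ Q := by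
          intro hle
          rw [hCdef] at hle
          exact hC (centralizer_le_of_sylow_inf_le Q hD S hle)
        have hRN : Subgroup.normalizer ((((S : Subgroup Γ) ⊓ C : Subgroup Γ)) : Set Γ) ≠ ⊤ := by
          intro htop
          have hRn := Subgroup.normalizer_eq_top_iff.mp htop
          exact hSC (hle_Q _ hRn (S.isPGroup'.to_le inf_le_left))
        have hSNC : (S : Subgroup Γ) ≤
            Subgroup.normalizer ((((S : Subgroup Γ) ⊓ C : Subgroup Γ)) : Set Γ) := by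
          intro s hs
          apply mem_normalizer_inf_of_mem (Subgroup.le_normalizer hs)
          rw [Subgroup.normalizer_eq_top_iff.mpr hCn]
          exact Subgroup.mem_top _
        by_cases hX : (S : Subgroup Γ) ⊔ C = ⊤
        swap
        · apply package
          exact reach_of_two_subgroups S C
            (fun A h hh hA hhA => reach_in_sub _ hX le_sup_left A h hh hA hhA)
            (fun A h hh hA hhA => reach_in_sub _ hRN hSNC A h hh hA hhA)
        · have hp' : ∀ g : Γ, (orderOf g).Coprime p →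
              g ∈ Subgroup.centralizer (Q : Set Γ) := by
            intro g hg
            rw [← hCdef]
            have hgtop : g ∈ (S : Subgroup Γ) ⊔ C := by rw [hX]; exact Subgroup.mem_top _
            have hSCn : (S : Subgroup Γ) ≤ Subgroup.normalizer (C : Set Γ) := by
              rw [Subgroup.normalizer_eq_top_iff.mpr hCn]; exact le_top
            obtain ⟨s, hs, c, hc, rfl⟩ := mem_sup_of_le_normalizer hSCn hgtop
            obtain ⟨k, hk⟩ := (IsPGroup.iff_orderOf.mp S.isPGroup') ⟨s, hs⟩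
            have hsk : s ^ p ^ k = 1 := by
              have h1 : (⟨s, hs⟩ : ↥(S : Subgroup Γ)) ^ p ^ k = 1 := by
                rw [← hk]; exact pow_orderOf_eq_one _
              have := congrArg Subtype.val h1
              simpa using this
            have hc1 : (QuotientGroup.mk' C) c = 1 := (QuotientGroup.eq_one_iff c).mpr hc
            have e1 : (QuotientGroup.mk' C) (s * c) = (QuotientGroup.mk' C) s := by
              rw [map_mul, hc1, mul_one]
            have h1 : ((QuotientGroup.mk' C) s) ^ orderOf (s * c) = 1 := by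
              rw [← e1, ← map_pow, pow_orderOf_eq_one, map_one]
            have h2 : ((QuotientGroup.mk' C) s) ^ p ^ k = 1 := by
              rw [← map_pow, hsk, map_one]
            have h3 := eq_one_of_pow_eq_one_of_coprime h1 h2 (Nat.Coprime.pow_right k hg)
            have hsC : s ∈ C := (QuotientGroup.eq_one_iff s).mp h3
            exact Subgroup.mul_mem _ hsC hc
          have hQcent : CentP p Q := by
            intro y hy a ha
            have h1 := Subgroup.mem_centralizer_iff.mp (hp' y hy) a ha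
            exact mul_inv_eq_iff_eq_mul.mpr h1.symm
          have hstQ : Cfsg.IsNormalizerPStable p (Γ ⧸ Q) :=
            nps_quotient_pgroup3 hp3 hst Q hQp hQcent
          have hSne : (S : Subgroup Γ) ≠ ⊤ := by
            intro htop
            apply hSC
            have hSn : (S : Subgroup Γ).Normal := by rw [htop]; infer_instance
            exact inf_le_left.trans (hle_Q _ hSn S.isPGroup')
          have hS : ∀ (A : Set Γ) (s : Γ), s ∈ (S : Subgroup Γ) →
              A ⊆ ((S : Subgroup Γ) : Set Γ) → Reach (indFam 𝓦 Γ) ⊤ (S : Subgroup Γ) A s := by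
            intro A s hs hA
            apply reach_in_sub _ hSne le_rfl A s hs hA
            rintro _ ⟨a, ha, rfl⟩
            exact Subgroup.mul_mem _ (Subgroup.mul_mem _ hs (hA ha)) (Subgroup.inv_mem _ hs)
          have hQS : Q ≤ (S : Subgroup Γ) := normal_pgroup_le_sylow Q hQp S
          have hSbp : IsPGroup p ↥((S : Subgroup Γ).map (QuotientGroup.mk' Q)) :=
            S.isPGroup'.map _
          have hM : ∀ W ∈ 𝓦, ∀ (A : Set Γ) (h : Γ),
              h ∈ Subgroup.normalizer (((Cfsg.inducedFunctor (G := Γ ⧸ Q) W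
                ((S : Subgroup Γ).map (QuotientGroup.mk' Q))).comap (QuotientGroup.mk' Q) :
                  Subgroup Γ) : Set Γ) →
              A ⊆ ((S : Subgroup Γ) : Set Γ) →
              (fun a => h * a * h⁻¹) '' A ⊆ ((S : Subgroup Γ) : Set Γ) →
              Reach (indFam 𝓦 Γ) ⊤ (S : Subgroup Γ) A h := by
            intro W hW
            obtain ⟨Vb, hVb⟩ : ∃ Vb, Vb = Cfsg.inducedFunctor (G := Γ ⧸ Q) W
                ((S : Subgroup Γ).map (QuotientGroup.mk' Q)) := ⟨_, rfl⟩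
            rw [← hVb]
            have hVble : Vb ≤ (S : Subgroup Γ).map (QuotientGroup.mk' Q) :=
              hVb ▸ inducedFunctor_le W _
            have hcm := comap_map_sylow_of_le Q (S : Subgroup Γ) hQS
            have hVS : Vb.comap (QuotientGroup.mk' Q) ≤ (S : Subgroup Γ) := by
              rw [← hcm]
              exact Subgroup.comap_mono hVble
            have hne : Subgroup.normalizer ((Vb.comap (QuotientGroup.mk' Q) : Subgroup Γ) : Set Γ) ≠
                ⊤ := by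
              intro htop
              have hVn := Subgroup.normalizer_eq_top_iff.mp htop
              have h1 := hle_Q _ hVn (S.isPGroup'.to_le hVS)
              have h2 : Vb ≤ ⊥ := by
                rw [← Subgroup.map_comap_eq_self_of_surjective (QuotientGroup.mk'_surjective Q) Vb]
                refine (Subgroup.map_mono h1).trans ?_
                rw [QuotientGroup.map_mk'_self]
              have hSb : (S : Subgroup Γ).map (QuotientGroup.mk' Q) = ⊥ := by
                by_contra hne'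
                have := ((inducedFunctor_isConjugacyFunctor (G := Γ ⧸ Q) W (h𝓦 W hW)) _ hSbp).2.1 hne'
                rw [← hVb] at this
                exact this (le_bot_iff.mp h2)
              apply hSC
              refine inf_le_left.trans ?_
              intro s hs
              have h3 : (QuotientGroup.mk' Q) s ∈ (S : Subgroup Γ).map (QuotientGroup.mk' Q) :=
                ⟨s, hs, rfl⟩
              rw [hSb, Subgroup.mem_bot] at h3
              exact (QuotientGroup.eq_one_iff s).mp h3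
            have hSle : (S : Subgroup Γ) ≤
                Subgroup.normalizer ((Vb.comap (QuotientGroup.mk' Q) : Subgroup Γ) : Set Γ) := by
              rw [← Subgroup.comap_normalizer_eq_of_surjective _ (QuotientGroup.mk'_surjective Q)]
              intro s hs
              rw [Subgroup.mem_comap, hVb]
              apply sylow_le_normalizer_induced h𝓦 hSbp hW
              exact ⟨s, hs, rfl⟩
            intro A h hh hA hhA
            exact reach_in_sub _ hne hSle A h hh hA hhA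
          apply package
          exact reach_of_quotient_pcore h𝓦 Q hQp S hp' (ihquot Q hQ hstQ) hS hM

end Main

end Cfsg.Agent.Lib.Helper13.NPS3
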