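import Mathlib

set_option autoImplicit false

namespace Cfsg.Agent.Lib.Helper13

open scoped IsMulCommutative

/-- The norm (corestriction in degree 0) from `T`-invariants to `H`-invariants of an abelian
normal subgroup `A` of a finite group `H`. -/
theorem exists_normHom {H : Type*} [Group H] [Finite H] (T A : Subgroup H) [hAn : A.Normal]
    (hA : ∀ a ∈ A, ∀ b ∈ A, a * b = b * a) :
    ∃ N : ↥A →* ↥A,
      (∀ a : ↥A, (∀ t ∈ T, t * (a : H) * t⁻¹ = a) → ∀ g : H, g * (N a : H) * g⁻¹ = N a) ∧
      (∀ a : ↥A, (∀ g : H, g * (a : H) * g⁻¹ = a) → N a = a ^ T.index) := by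
  classical
  have : IsMulCommutative ↥A := ⟨⟨fun a b => Subtype.ext (hA a a.2 b b.2)⟩⟩
  letI : Fintype (H ⧸ T) := Fintype.ofFinite _
  obtain ⟨c, hc⟩ : ∃ c : H →* MulAut ↥A, c = MulAut.conjNormal := ⟨_, rfl⟩
  have hcapp : ∀ (g : H) (a : ↥A), ((c g a : ↥A) : H) = g * a * g⁻¹ := by
    intro g a
    rw [hc]
    exact MulAut.conjNormal_apply g a
  let N : ↥A →* ↥A :=
    { toFun := fun a => ∏ q : H ⧸ T, c (Quotient.out q) a
      map_one' := by simp
      map_mul' := fun a b => by simp [Finset.prod_mul_distrib] }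
  have hN : ∀ a : ↥A, N a = ∏ q : H ⧸ T, c (Quotient.out q) a := fun a => rfl
  refine ⟨N, ?_, ?_⟩
  · intro a ha g
    have hta : ∀ t ∈ T, c t a = a := by
      intro t ht
      apply Subtype.ext
      rw [hcapp]
      exact ha t ht
    have h1 : c g (N a) = N a := by
      rw [hN, map_prod]
      have h2 : ∀ q : H ⧸ T, c g (c (Quotient.out q) a) = c (Quotient.out (g • q)) a := by
        intro q
        have h3 : g • q = ((g * Quotient.out q : H) : H ⧸ T) := by
          conv_lhs => rw [← QuotientGroup.out_eq' q]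
          rfl
        obtain ⟨t, ht⟩ := QuotientGroup.mk_out_eq_mul T (g * Quotient.out q)
        rw [h3, ht, map_mul, map_mul]
        simp only [MulAut.mul_apply]
        rw [hta t t.2]
      rw [Finset.prod_congr rfl (fun q _ => h2 q)]
      exact Equiv.prod_comp (MulAction.toPerm g : Equiv.Perm (H ⧸ T))
        (fun q => c (Quotient.out q) a)
    have h4 := hcapp g (N a)
    rw [h1] at h4
    exact h4.symm
  · intro a ha
    have h1 : ∀ x : H, c x a = a := by
      intro x
      apply Subtype.ext
      rw [hcapp]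
      exact ha x
    rw [hN]
    simp only [h1, Finset.prod_const, Finset.card_univ]
    rw [Subgroup.index_eq_card, Nat.card_eq_fintype_card]

end Cfsg.Agent.Lib.Helper13
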