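import Mathlib
import Cfsg.Agent.Lib.Helper13.CentralSylow
import Cfsg.Agent.Lib.Helper10.ExtLayer

set_option autoImplicit false

/-! Groups with a normal Sylow `p`-subgroup and trivial `O_{p'}` (helper13). -/

namespace Cfsg.Agent.Lib.Helper13

section

variable {Y : Type*} [Group Y] [Finite Y] {p : ℕ} [Fact p.Prime]

/-- Every `p`-subgroup lies in a normal Sylow `p`-subgroup. -/
theorem le_of_normal_sylow (P : Sylow p Y) (hP : (P : Subgroup Y).Normal) {R : Subgroup Y}
    (hR : IsPGroup p ↥R) : R ≤ (P : Subgroup Y) := by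
  obtain ⟨Q, hQ⟩ := hR.exists_le_sylow
  obtain ⟨g, hg⟩ := MulAction.exists_smul_eq Y P Q
  have : g • P = P := Sylow.smul_eq_of_normal
  rw [this] at hg
  rw [hg]; exact hQ

/-- If `Y` has a normal Sylow `p`-subgroup `P` and `O_{p'}(Y) = 1` then `C_Y(P) ≤ P`. -/
theorem centralizer_le_of_normal_sylow (P : Sylow p Y) (hP : (P : Subgroup Y).Normal)
    (hO : Cfsg.pPrimeCore p Y = ⊥) :
    Subgroup.centralizer ((P : Subgroup Y) : Set Y) ≤ (P : Subgroup Y) := by
  obtain ⟨C, hC⟩ : ∃ C : Subgroup Y, C = Subgroup.centralizer ((P : Subgroup Y) : Set Y) :=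
    ⟨_, rfl⟩
  rw [← hC]
  have hCn : C.Normal := by rw [hC]; exact Subgroup.normal_centralizer
  obtain ⟨R⟩ : Nonempty (Sylow p ↥C) := inferInstance
  have hRP : (R : Subgroup ↥C).map C.subtype ≤ (P : Subgroup Y) :=
    le_of_normal_sylow P hP (R.isPGroup'.map _)
  have hRc : (R : Subgroup ↥C) ≤ Subgroup.center ↥C := by
    intro r hr
    rw [Subgroup.mem_center_iff]
    intro c
    apply Subtype.ext
    rw [Subgroup.coe_mul, Subgroup.coe_mul]
    have h1 : (r : Y) ∈ (P : Subgroup Y) := hRP ⟨r, hr, rfl⟩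
    have h2 : (c : Y) ∈ Subgroup.centralizer ((P : Subgroup Y) : Set Y) := by
      rw [← hC]; exact c.2
    exact ((Subgroup.mem_centralizer_iff.mp h2) _ h1).symm
  have hcore : Cfsg.Agent.Lib.Helper10.coreOf p C = ⊥ := by
    rw [eq_bot_iff, ← hO]
    apply Cfsg.Agent.Lib.Helper1.le_pPrimeCore _ (Cfsg.Agent.Lib.Helper10.coreOf_card_coprime p C)
    constructor
    intro n hn g
    have h1 : C.map (MulAut.conj g).toMonoidHom = C := by
      apply le_antisymm
      · rintro _ ⟨x, hx, rfl⟩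
        exact hCn.conj_mem x hx g
      · intro x hx
        refine ⟨g⁻¹ * x * g, ?_, ?_⟩
        · have := hCn.conj_mem x hx g⁻¹
          rwa [inv_inv] at this
        · show g * (g⁻¹ * x * g) * g⁻¹ = x
          group
    have h2 := Cfsg.Agent.Lib.Helper10.coreOf_conj p C g
    rw [h1] at h2
    rw [h2]
    exact ⟨n, hn, rfl⟩
  intro c hc
  obtain ⟨t, ht, r, hr, hctr⟩ := exists_mul_of_central_sylow R hRc ⟨c, hc⟩
  have ht1 : (t : Y) ∈ Cfsg.Agent.Lib.Helper10.coreOf p C := ⟨t, ht, rfl⟩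
  rw [hcore, Subgroup.mem_bot] at ht1
  have h3 : c = (t : Y) * (r : Y) := by
    have := congrArg Subtype.val hctr
    rwa [Subgroup.coe_mul] at this
  rw [h3, ht1, one_mul]
  exact hRP ⟨r, hr, rfl⟩

end

end Cfsg.Agent.Lib.Helper13
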