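import Mathlib
import Cfsg.Agent.Lib.Helper13.O459.Defs
import Cfsg.Agent.Lib.Helper10.BHPB
import Cfsg.Agent.Lib.helper23.BRCLS
import Cfsg.Agent.Lib.helper23.BRCARDY
import Cfsg.Agent.Lib.helper23.BRDIV
import Cfsg.Agent.Lib.helper23.BRCONG
import Cfsg.Agent.Lib.helper23.BRPERF
import Cfsg.Agent.Lib.helper23.BRSQ
import Cfsg.Agent.Lib.helper2.CharInt
import Cfsg.Agent.Lib.helper2.CharNat
import Cfsg.Agent.Lib.Helper25.CharLinear

/-!
# Project O459 (S1022), piece BLOCK (leader): the principal 19-block of a perfect group of order 459648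
with `|C_G(P)| = 456 / e`, `e = |N_G(P) : C_G(P)| ∈ {2, 3, 6}`.
-/

set_option autoImplicit false
set_option linter.unusedVariables false
set_option linter.unusedSectionVars false
set_option linter.style.haveILetI false

namespace Cfsg.Agent.Lib.Helper13.O459

open Classical
open Cfsg.Agent.Lib.helper7.BR Cfsg.Agent.Lib.Helper25 Cfsg.Agent.Lib.helper2
open Cfsg.Agent.Lib.helper15.BH

universe u

variable {G : Type u} [Group G] [Fintype G]

/-- the degree of an irreducible character, as a natural number -/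
noncomputable def o459blockDeg (χ : Cfsg.IrrCharacter G) : ℕ := Classical.choose (irr_degree_dvd_card χ)

theorem o459blockDeg_spec (χ : Cfsg.IrrCharacter G) :
    0 < o459blockDeg χ ∧ (χ : G → ℂ) 1 = (o459blockDeg χ : ℂ) :=
  ⟨(Classical.choose_spec (irr_degree_dvd_card χ)).1, (Classical.choose_spec (irr_degree_dvd_card χ)).2.1⟩

/-- there is a non-trivial element in `P` -/
theorem o459block_exists (P : Sylow 19 G) (hP : Nat.card ↥(P : Subgroup G) = 19) :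
    ∃ x : G, x ∈ (P : Subgroup G) ∧ x ≠ 1 := by
  by_contra hcon
  push Not at hcon
  have : Nat.card ↥(P : Subgroup G) ≤ 1 := by
    rw [Nat.card_eq_fintype_card, Fintype.card_le_one_iff]
    intro a b
    apply Subtype.ext
    rw [hcon a a.2, hcon b b.2]
  omega

/-- BLOCK, with the arithmetic core as a hypothesis. -/
theorem o459block_core
    (harith : ∀ (X : Finset (Cfsg.IrrCharacter G)) (triv : Cfsg.IrrCharacter G) (htriv : triv ∈ X)
      (a : Cfsg.IrrCharacter G → ℤ) (d : Cfsg.IrrCharacter G → ℕ)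
      (e t z : ℕ) (ε : ℤ) (he : e = 2 ∨ e = 3 ∨ e = 6) (het : e * t = 18) (hcard : X.card = e)
      (ha : ∀ i ∈ X, a i = 1 ∨ a i = -1) (hatriv : a triv = 1) (hdtriv : d triv = 1)
      (hdvd : ∀ i ∈ X, d i ∣ 6048) (hcong : ∀ i ∈ X, (19 : ℤ) ∣ (d i : ℤ) - a i)
      (hge : ∀ i ∈ X, i ≠ triv → 2 ≤ d i)
      (hε : ε = 1 ∨ ε = -1) (hzdvd : z ∣ 6048) (hzcong : (19 : ℤ) ∣ (z : ℤ) - ε * (e : ℤ))
      (hdeg : ε * (z : ℤ) = ∑ i ∈ X, a i * (d i : ℤ))
      (hsq : ∑ i ∈ X, (d i) ^ 2 + t * z ^ 2 ≤ 459648),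
      e = 6 ∧ ((∃ i ∈ X, d i = 18 ∧ a i = -1) ∨
        (∃ i ∈ X, ∃ j ∈ X, i ≠ j ∧ d i = 56 ∧ d j = 56 ∧ a i = -1 ∧ a j = -1)))
    (hperf : commutator G = ⊤) (hG : Nat.card G = 459648) (P : Sylow 19 G)
    (hP : Nat.card ↥(P : Subgroup G) = 19) (e : ℕ) (he : (cen P).relIndex (nrm P) = e)
    (he' : e = 2 ∨ e = 3 ∨ e = 6) (hidx : (cen P).index = e * 1008) :
    e = 6 ∧
    ((∃ χ : Cfsg.IrrCharacter G, (χ : G → ℂ) 1 = 18 ∧ ∀ g : G, 19 ∣ orderOf g → (χ : G → ℂ) g = -1) ∨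
     (∃ χ χ' : Cfsg.IrrCharacter G, χ ≠ χ' ∧ (χ : G → ℂ) 1 = 56 ∧ (χ' : G → ℂ) 1 = 56 ∧
        (∀ g : G, 19 ∣ orderOf g → (χ : G → ℂ) g = -1) ∧
        (∀ g : G, 19 ∣ orderOf g → (χ' : G → ℂ) g = -1))) := by
  have he2 : 1 < e := by rcases he' with h | h | h <;> omega
  have he19 : e + 1 < 19 := by rcases he' with h | h | h <;> omega
  obtain ⟨X, Y, a, ε, hXcard, hYne, htrivX, hXa, hε, hYsum, hYval, hYdeg⟩ :=
    pb_values (p := 19) P hP e he he2 he19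
  obtain ⟨t, het⟩ : ∃ t, e * t = 18 := by
    rcases he' with h | h | h
    · exact ⟨9, by rw [h]⟩
    · exact ⟨6, by rw [h]⟩
    · exact ⟨3, by rw [h]⟩
  have hidxdvd : (cen P).index ∣ 6048 := by
    rw [hidx]
    rcases he' with h | h | h <;> rw [h] <;> norm_num
  obtain ⟨x₀, hx₀, hx₀1⟩ := o459block_exists P hP
  have hsing : ∀ x ∈ (P : Subgroup G), x ≠ 1 → 19 ∣ orderOf x := fun x hx hx1 =>
    dvd_orderOf_of_mem P x hx hx1
  have hXval : ∀ χ ∈ X, ∀ x ∈ (P : Subgroup G), x ≠ 1 → (χ : G → ℂ) x = (a χ : ℂ) :=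
    fun χ hχ x hx hx1 => (hXa χ hχ).2 x (hsing x hx hx1)
  have hYval' : ∀ x ∈ (P : Subgroup G), x ≠ 1 → ∑ η ∈ Y, (η : G → ℂ) x = -(ε : ℂ) :=
    fun x hx hx1 => hYval x (hsing x hx hx1)
  have hatriv : a (trivIrr G) = 1 := by
    have := hXval (trivIrr G) htrivX x₀ hx₀ hx₀1
    rw [trivIrr_apply] at this
    have h' : ((1 : ℤ) : ℂ) = ((a (trivIrr G) : ℤ) : ℂ) := by rw [← this]; simp
    exact_mod_cast h'.symm
  have hdtriv : o459blockDeg (trivIrr G) = 1 := by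
    have := (o459blockDeg_spec (trivIrr G)).2
    rw [trivIrr_apply] at this
    exact_mod_cast this.symm
  obtain ⟨η₀, hη₀⟩ := hYne
  set z := o459blockDeg η₀ with hz
  have hzall : ∀ η ∈ Y, (η : G → ℂ) 1 = (z : ℂ) := by
    intro η hη
    have h1 := hYdeg η hη
    have h2 := hYdeg η₀ hη₀
    rw [← h2] at h1
    have hε0 : (ε : ℂ) ≠ 0 := by
      rcases hε with h | h <;> rw [h] <;> norm_num
    have := mul_left_cancel₀ hε0 h1
    rw [this, (o459blockDeg_spec η₀).2]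
  have hdisjXY : ∀ χ ∈ X, χ ∉ Y := by
    intro χ hχ hχY
    exact not_const_of_sum P hP (χ : G → ℂ) (a χ) (hXa χ hχ).1 (hXval χ hχ) ε hε e he19
      (hYsum χ hχY)
  have hcardY : Y.card = t := by
    have := card_Y_mul P hP Y ε hε e hYsum hYval'
    have h18 : Y.card * e = e * t := by rw [this, het]
    rw [mul_comm] at h18
    exact Nat.eq_of_mul_eq_mul_left (by omega) h18
  have hdvdX : ∀ χ ∈ X, o459blockDeg χ ∣ 6048 := by
    intro χ hχ
    refine dvd_trans ?_ hidxdvd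
    exact deg_dvd_of_pm_one P hP χ (a χ) (hXa χ hχ).1 x₀ hx₀ hx₀1 (hXval χ hχ x₀ hx₀ hx₀1) _
      (o459blockDeg_spec χ).2
  have hcongX : ∀ χ ∈ X, ((19 : ℕ) : ℤ) ∣ (o459blockDeg χ : ℤ) - a χ := by
    intro χ hχ
    exact deg_congr_of_const P hP (χ : G → ℂ) (isCharacter_of_irr χ) (a χ) (hXval χ hχ) _
      (o459blockDeg_spec χ).2
  have hgeX : ∀ χ ∈ X, χ ≠ trivIrr G → 2 ≤ o459blockDeg χ := by
    intro χ hχ hne
    obtain ⟨d, hd2, hd⟩ := deg_ge_two hperf χ hne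
    have := (o459blockDeg_spec χ).2
    rw [hd] at this
    have : d = o459blockDeg χ := by exact_mod_cast this
    omega
  have hzdvd : z ∣ 6048 := by
    refine dvd_trans ?_ hidxdvd
    exact exc_deg_dvd P hP Y z hzall ε hε x₀ hx₀ hx₀1 (hYval' x₀ hx₀ hx₀1)
  have hzcong : ((19 : ℕ) : ℤ) ∣ (z : ℤ) - ε * (e : ℤ) :=
    deg_congr_of_sum P hP (η₀ : G → ℂ) (isCharacter_of_irr η₀) ε e z (hzall η₀ hη₀) (hYsum η₀ hη₀)
  have hdeg : ε * (z : ℤ) = ∑ χ ∈ X, a χ * (o459blockDeg χ : ℤ) := by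
    have h1 := hYdeg η₀ hη₀
    rw [hzall η₀ hη₀] at h1
    have h2 : ∑ χ ∈ X, (a χ : ℂ) * (χ : G → ℂ) 1 =
        ((∑ χ ∈ X, a χ * (o459blockDeg χ : ℤ) : ℤ) : ℂ) := by
      push_cast
      refine Finset.sum_congr rfl fun χ _ => ?_
      rw [(o459blockDeg_spec χ).2]
    rw [h2] at h1
    exact_mod_cast h1
  have hsq : ∑ χ ∈ X, (o459blockDeg χ) ^ 2 + t * z ^ 2 ≤ 459648 := by
    have hdisj : Disjoint X Y := by
      rw [Finset.disjoint_left]
      exact hdisjXY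
    have h1 := sum_sq_le (X ∪ Y) o459blockDeg (fun χ _ => (o459blockDeg_spec χ).2)
    rw [Finset.sum_union hdisj, hG] at h1
    have h2 : ∑ χ ∈ Y, (o459blockDeg χ) ^ 2 = t * z ^ 2 := by
      rw [Finset.sum_congr rfl (g := fun _ => z ^ 2), Finset.sum_const, hcardY, smul_eq_mul]
      intro η hη
      have := (o459blockDeg_spec η).2
      rw [hzall η hη] at this
      have : z = o459blockDeg η := by exact_mod_cast this
      rw [this]
    rw [h2] at h1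
    exact h1
  have hmain := harith X (trivIrr G) htrivX a o459blockDeg e t z ε he' het hXcard
    (fun χ hχ => (hXa χ hχ).1) hatriv hdtriv hdvdX (by exact_mod_cast hcongX) hgeX hε hzdvd
    (by exact_mod_cast hzcong) hdeg hsq
  refine ⟨hmain.1, ?_⟩
  have hdegc : ∀ χ : Cfsg.IrrCharacter G, ∀ m : ℕ, o459blockDeg χ = m → (χ : G → ℂ) 1 = (m : ℂ) := by
    intro χ m hm
    rw [← hm]; exact (o459blockDeg_spec χ).2
  have hvalm : ∀ χ ∈ X, a χ = -1 → ∀ g : G, 19 ∣ orderOf g → (χ : G → ℂ) g = -1 := by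
    intro χ hχ haχ g hg
    rw [(hXa χ hχ).2 g hg, haχ]
    simp
  rcases hmain.2 with ⟨χ, hχ, hd, haχ⟩ | ⟨χ, hχ, χ', hχ', hne, hd, hd', haχ, haχ'⟩
  · left
    refine ⟨χ, ?_, hvalm χ hχ haχ⟩
    rw [hdegc χ 18 hd]
    norm_num
  · right
    refine ⟨χ, χ', hne, ?_, ?_, hvalm χ hχ haχ, hvalm χ' hχ' haχ'⟩
    · rw [hdegc χ 56 hd]
      norm_num
    · rw [hdegc χ' 56 hd']
      norm_num

end Cfsg.Agent.Lib.Helper13.O459
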