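import Mathlib
import Cfsg.Agent.Lib.Helper13.O459.Defs
import Cfsg.Agent.Lib.Helper13.O459BLOCKcore
import Cfsg.Agent.Lib.Helper11.O459ARITH

/-!
# Project O459 (S1022), piece BLOCK (leader): `block` = `o459block_core` + ARITH (helper11).
-/

set_option autoImplicit false
set_option linter.unusedVariables false
set_option linter.unusedSectionVars false

namespace Cfsg.Agent.Lib.Helper13.O459

open Classical
open Cfsg.Agent.Lib.helper7.BR Cfsg.Agent.Lib.Helper25

universe u

variable {G : Type u} [Group G] [Fintype G]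

/-- BLOCK [L] (leader): the principal 19-block.  (`Helper10.BHPB.pb_values` + the BR wave-1 pieces `deg_dvd_of_pm_one`, `exc_deg_dvd`, `deg_congr_of_const`,
`deg_congr_of_sum`, `card_Y_mul`, `not_const_of_sum`, `deg_ge_two`, `sum_sq_le`, exactly as in `helper7/BR/FRONT.lean`, then ARITH.) -/
theorem block (hperf : commutator G = ⊤) (hG : Nat.card G = 459648) (P : Sylow 19 G)
    (hP : Nat.card ↥(P : Subgroup G) = 19) (e : ℕ) (he : (cen P).relIndex (nrm P) = e)
    (he' : e = 2 ∨ e = 3 ∨ e = 6) (hidx : (cen P).index = e * 1008) :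
    e = 6 ∧
    ((∃ χ : Cfsg.IrrCharacter G, (χ : G → ℂ) 1 = 18 ∧ ∀ g : G, 19 ∣ orderOf g → (χ : G → ℂ) g = -1) ∨
     (∃ χ χ' : Cfsg.IrrCharacter G, χ ≠ χ' ∧ (χ : G → ℂ) 1 = 56 ∧ (χ' : G → ℂ) 1 = 56 ∧
        (∀ g : G, 19 ∣ orderOf g → (χ : G → ℂ) g = -1) ∧
        (∀ g : G, 19 ∣ orderOf g → (χ' : G → ℂ) g = -1))) :=
  o459block_core
    (fun X triv htriv a d e t z ε he het hcard ha hatriv hdtriv hdvd hcong hge hε hzdvd hzcong hdeg hsq =>
      arith X triv htriv a d e t z ε he het hcard ha hatriv hdtriv hdvd hcong hge hε hzdvd hzcong hdeg hsq)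
    hperf hG P hP e he he' hidx

end Cfsg.Agent.Lib.Helper13.O459
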