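import Cfsg.Agent.Lib.Helper13.O459.Defs
import Cfsg.Agent.Lib.Helper25.CharLinear
import Cfsg.Agent.Lib.Helper25.CharBound
import Cfsg.Agent.Lib.Helper25.Gagola
import Cfsg.Agent.Lib.helper2.CharNat
import Cfsg.Agent.Lib.Helper24.O459SUM38
import Cfsg.Agent.Lib.Helper18.O459D18

/-!
# Project O459 (S1022), second copy of piece D56VAL (leader helper13): `o459d56h13_main` = the statement of `d56_val`
-/

set_option autoImplicit false
set_option linter.unusedVariables false
set_option linter.unusedSectionVars false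

namespace Cfsg.Agent.Lib.Helper13.O459

open Classical
open Cfsg.Agent.Lib.helper7.BR Cfsg.Agent.Lib.Helper25

universe u

variable {G : Type u} [Group G] [Fintype G]

/-- second copy of D56VAL. -/
theorem o459d56h13_main [IsSimpleGroup G] (P : Sylow 19 G) (hP : Nat.card ↥(P : Subgroup G) = 19)
    (y : G) (hy : orderOf y = 2) (hyc : y ∈ cen P) (χ : Cfsg.IrrCharacter G)
    (h1 : (χ : G → ℂ) 1 = 56) (hval : ∀ g : G, 19 ∣ orderOf g → (χ : G → ℂ) g = -1) :
    (χ : G → ℂ) y = 18 ∨ (χ : G → ℂ) y = -20 := by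
  obtain ⟨m, hm⟩ := sum38 P hP y hy hyc (χ : G → ℂ)
    (Cfsg.Agent.Lib.helper2.isCharacter_of_irr χ) (-1) (by
      intro g hg
      rw [hval g hg]
      norm_num)
  have hχy : (χ : G → ℂ) y = (((38 * (m : ℤ) - 20 : ℤ)) : ℂ) := by
    rw [h1] at hm
    push_cast at hm ⊢
    linear_combination hm
  have hle := irr_norm_le χ y
  rw [hχy, h1, Complex.norm_intCast] at hle
  have h56 : ‖(56 : ℂ)‖ = 56 := by
    have : (56 : ℂ) = ((56 : ℕ) : ℂ) := by norm_num
    rw [this, Complex.norm_natCast]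
    norm_num
  rw [h56] at hle
  have hle' : |(38 * (m : ℤ) - 20 : ℤ)| ≤ 56 := by
    have : ((|(38 * (m : ℤ) - 20 : ℤ)| : ℤ) : ℝ) ≤ ((56 : ℤ) : ℝ) := by
      rw [Int.cast_abs]
      simpa using hle
    exact_mod_cast this
  have hm2 : m ≤ 2 := by
    have := (abs_le.1 hle').2
    omega
  interval_cases m
  · right
    rw [hχy]
    norm_num
  · left
    rw [hχy]
    norm_num
  · exfalso
    refine o459d18_ker P hP y hy χ ?_ ?_
    · rw [hχy, h1]
      norm_num
    · intro g hg
      rw [hval g hg, h1]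
      norm_num

end Cfsg.Agent.Lib.Helper13.O459
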