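import Mathlib
import Cfsg.Agent.Lib.Helper13.O5760.Defs
import Cfsg.Agent.Lib.helper23.BRCLS
import Cfsg.Agent.Lib.helper23.BRDIV
import Cfsg.Agent.Lib.helper23.BRCONG
import Cfsg.Agent.Lib.helper23.BRPERF
import Cfsg.Agent.Lib.helper2.CharInt
import Cfsg.Agent.Lib.helper2.CharNat
import Cfsg.Agent.Lib.Helper25.CharLinear

/-!
# Project O5760 (S0980), piece DEG (core): the degrees of the principal 5-block, with the arithmetic piece ARITH as a
hypothesis.
-/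

set_option autoImplicit false
set_option linter.unusedVariables false
set_option linter.unusedSectionVars false
set_option linter.style.haveILetI false
open scoped ComplexConjugate
open Classical

namespace Cfsg.Agent.Lib.Helper13.O5760

open Cfsg.Agent.Lib.helper7 Cfsg.Agent.Lib.helper7.BR Cfsg.Agent.Lib.helper2 Cfsg.Agent.Lib.Helper25
  Cfsg.Agent.Lib.Helper29 Cfsg.Agent.Lib.helper15.BH Cfsg.Agent.Lib.helper15.PSL

universe u

variable {G : Type u} [Group G] [Fintype G]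

/-- there is a non-trivial element in `P` -/
theorem o5760deg_exists (P : Sylow 5 G) (hP : Nat.card ↥(P : Subgroup G) = 5) :
    ∃ x : G, x ∈ (P : Subgroup G) ∧ x ≠ 1 := by
  by_contra hcon
  push Not at hcon
  have : Nat.card ↥(P : Subgroup G) ≤ 1 := by
    rw [Nat.card_eq_fintype_card, Fintype.card_le_one_iff]
    intro a b
    apply Subtype.ext
    rw [hcon a a.2, hcon b b.2]
  omega

/-- DEG (core), with ARITH as a hypothesis -/
theorem o5760deg_core
    (harith : ∀ (d z : ℕ) (a ε : ℤ), (a = 1 ∨ a = -1) → (ε = 1 ∨ ε = -1) → d ∣ 1152 → z ∣ 1152 →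
      (5 : ℤ) ∣ (d : ℤ) - a → (5 : ℤ) ∣ (z : ℤ) - ε * 2 → 2 ≤ d → ε * (z : ℤ) = 1 + a * (d : ℤ) →
      a = -1 ∧ ε = -1 ∧ d = z + 1 ∧ (z = 3 ∨ z = 8))
    (hperf : commutator G = ⊤) (hG : Nat.card G = 5760) {P : Sylow 5 G} (hL : Loc 5 2 P)
    (hZ : Subgroup.center G = ⊥) {X Y : Finset (Cfsg.IrrCharacter G)} {a : Cfsg.IrrCharacter G → ℤ}
    {ε : ℤ} (hB : PB0 5 2 (P : Subgroup G) X Y a ε) :
    ∃ (χ : Cfsg.IrrCharacter G) (d z : ℕ), Blk P X Y a χ d z ∧ (z = 3 ∨ z = 8) := by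
  have hP := hL.cardP
  obtain ⟨x₀, hx₀, hx₀1⟩ := o5760deg_exists P hP
  have hsing : ∀ x ∈ (P : Subgroup G), x ≠ 1 → 5 ∣ orderOf x := fun x hx hx1 =>
    dvd_orderOf_of_mem P x hx hx1
  -- the index of `C_G(P)`
  have hidx : (cen P).index = 1152 := by
    have h1 := Subgroup.card_mul_index (cen P)
    rw [hL.cardC, hZ, Subgroup.card_bot, hG] at h1
    omega
  -- the second member of `X`
  obtain ⟨χ, hχX, hne⟩ : ∃ χ ∈ X, χ ≠ trivIrr G :=
    Finset.exists_mem_ne (by rw [hB.cardX]; norm_num) (trivIrr G)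
  have hX : X = {trivIrr G, χ} := by
    symm
    apply Finset.eq_of_subset_of_card_le
    · intro ξ hξ
      rw [Finset.mem_insert, Finset.mem_singleton] at hξ
      rcases hξ with rfl | rfl
      · exact hB.triv_mem
      · exact hχX
    · rw [Finset.card_pair hne.symm, hB.cardX]
  have hatriv : a (trivIrr G) = 1 := by
    have h := hB.valX (trivIrr G) hB.triv_mem x₀ (hsing x₀ hx₀ hx₀1)
    rw [trivIrr_apply] at h
    exact_mod_cast h.symm
  -- the degree of `χ`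
  obtain ⟨d, hd2, hd⟩ := deg_ge_two hperf χ hne
  have hddvd : d ∣ 1152 := by
    rw [← hidx]
    exact deg_dvd_of_pm_one P hP χ (a χ) (hB.a_pm χ hχX) x₀ hx₀ hx₀1
      (hB.valX χ hχX x₀ (hsing x₀ hx₀ hx₀1)) d hd
  have hdc : ((5 : ℕ) : ℤ) ∣ (d : ℤ) - a χ :=
    deg_congr_of_const P hP (χ : G → ℂ) (isCharacter_of_irr χ) (a χ)
      (fun x hx hx1 => hB.valX χ hχX x (hsing x hx hx1)) d hd
  -- the degree of the members of `Y`
  have hYne : Y.Nonempty := by
    rw [← Finset.card_pos, hB.cardY]; norm_num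
  obtain ⟨η₀, hη₀⟩ := hYne
  obtain ⟨z, hz0, hz, _⟩ := irr_degree_dvd_card η₀
  have hreg1 : ¬ 5 ∣ orderOf (1 : G) := by
    rw [orderOf_one]; norm_num
  have hzall : ∀ η ∈ Y, (η : G → ℂ) 1 = (z : ℂ) := by
    intro η hη
    rw [hB.agree η hη η₀ hη₀ 1 hreg1, hz]
  have hzdvd : z ∣ 1152 := by
    rw [← hidx]
    exact exc_deg_dvd P hP Y z hzall ε hB.eps_pm x₀ hx₀ hx₀1 (hB.sumY x₀ (hsing x₀ hx₀ hx₀1))
  have hzc : ((5 : ℕ) : ℤ) ∣ (z : ℤ) - ε * ((2 : ℕ) : ℤ) :=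
    deg_congr_of_sum P hP (η₀ : G → ℂ) (isCharacter_of_irr η₀) ε 2 z hz (hB.sumP η₀ hη₀)
  -- the relation at `1`
  have hrel : ε * (z : ℤ) = 1 + a χ * (d : ℤ) := by
    have h1 := hB.rel η₀ hη₀ 1 hreg1
    rw [hz, hX, Finset.sum_pair hne.symm, hatriv, trivIrr_apply, hd] at h1
    have h2 : ((ε * (z : ℤ) : ℤ) : ℂ) = ((1 + a χ * (d : ℤ) : ℤ) : ℂ) := by
      push_cast
      rw [h1]
      push_cast
      ring
    exact_mod_cast h2
  obtain ⟨ha, hε, hdz, hz38⟩ := harith d z (a χ) ε (hB.a_pm χ hχX) hB.eps_pm hddvd hzdvd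
    (by exact_mod_cast hdc) (by exact_mod_cast hzc) hd2 hrel
  subst hε
  exact ⟨χ, d, z,
    { loc := hL
      pb := hB
      cen := hZ
      ne := hne
      hX := hX
      ha := ha
      degχ := hd
      degY := hzall
      dz := hdz
      zpos := hz0 }, hz38⟩

end Cfsg.Agent.Lib.Helper13.O5760
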