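import Mathlib
import Cfsg.Agent.Lib.Helper13.O5760.Defs
import Cfsg.Agent.Lib.Helper13.O5760DEGcore
import Cfsg.Agent.Lib.Helper10.O5760ARITH

/-!
# Project O5760 (S0980), piece DEG: the degrees of the principal 5-block (wrapper of `o5760deg_core` with ARITH).
-/

set_option autoImplicit false
set_option linter.unusedVariables false
set_option linter.unusedSectionVars false
open scoped ComplexConjugate
open Classical

namespace Cfsg.Agent.Lib.Helper13.O5760

open Cfsg.Agent.Lib.helper7 Cfsg.Agent.Lib.helper7.BR Cfsg.Agent.Lib.helper2 Cfsg.Agent.Lib.Helper25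
  Cfsg.Agent.Lib.Helper29 Cfsg.Agent.Lib.helper15.BH Cfsg.Agent.Lib.helper15.PSL

universe u

variable {G : Type u} [Group G] [Fintype G]

/-- DEG [D] : the degrees of the principal block -/
theorem degrees (hperf : commutator G = ⊤) (hG : Nat.card G = 5760) {P : Sylow 5 G} (hL : Loc 5 2 P)
    (hZ : Subgroup.center G = ⊥) {X Y : Finset (Cfsg.IrrCharacter G)} {a : Cfsg.IrrCharacter G → ℤ}
    {ε : ℤ} (hB : PB0 5 2 (P : Subgroup G) X Y a ε) :
    ∃ (χ : Cfsg.IrrCharacter G) (d z : ℕ), Blk P X Y a χ d z ∧ (z = 3 ∨ z = 8) :=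
  o5760deg_core (fun d z a ε ha hε hd hz hdc hzc hd2 hrel => arith d z a ε ha hε hd hz hdc hzc hd2 hrel)
    hperf hG hL hZ hB

end Cfsg.Agent.Lib.Helper13.O5760
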