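import Cfsg.Agent.Lib.Helper28.O73C.Defs

/-!
Project O73C (S5514), piece CF: the shape check `fuChk` implies flag-unitriangularity (helper13).
-/

set_option autoImplicit false
set_option maxHeartbeats 1600000
set_option linter.unusedSimpArgs false
set_option linter.unusedTactic false
set_option linter.unreachableTactic false

namespace Cfsg.Agent.Lib.Helper28.O73C

open Cfsg.Agent.Lib.Helper12.O73 Matrix

theorem h13_toMat_apply (m : M7) (i j : I7) : m.toMat i j = (m.col j).toVec i := rfl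

theorem h13_toVec_e0 (a : V7) (u : Unit) : a.toVec (Sum.inl u) = (a.a0 : K) := rfl
theorem h13_toVec_x1 (a : V7) : a.toVec (Sum.inr (Sum.inl 0)) = (a.a1 : K) := rfl
theorem h13_toVec_x2 (a : V7) : a.toVec (Sum.inr (Sum.inl 1)) = (a.a2 : K) := rfl
theorem h13_toVec_x3 (a : V7) : a.toVec (Sum.inr (Sum.inl 2)) = (a.a3 : K) := rfl
theorem h13_toVec_y1 (a : V7) : a.toVec (Sum.inr (Sum.inr 0)) = (a.a4 : K) := rfl
theorem h13_toVec_y2 (a : V7) : a.toVec (Sum.inr (Sum.inr 1)) = (a.a5 : K) := rfl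
theorem h13_toVec_y3 (a : V7) : a.toVec (Sum.inr (Sum.inr 2)) = (a.a6 : K) := rfl

theorem h13_col_e0 (m : M7) (u : Unit) : m.col (Sum.inl u) = m.c0 := rfl
theorem h13_col_x1 (m : M7) : m.col (Sum.inr (Sum.inl 0)) = m.c1 := rfl
theorem h13_col_x2 (m : M7) : m.col (Sum.inr (Sum.inl 1)) = m.c2 := rfl
theorem h13_col_x3 (m : M7) : m.col (Sum.inr (Sum.inl 2)) = m.c3 := rfl
theorem h13_col_y1 (m : M7) : m.col (Sum.inr (Sum.inr 0)) = m.c4 := rfl
theorem h13_col_y2 (m : M7) : m.col (Sum.inr (Sum.inr 1)) = m.c5 := rfl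
theorem h13_col_y3 (m : M7) : m.col (Sum.inr (Sum.inr 2)) = m.c6 := rfl

theorem isFU_of_fuChk {g : GO} {m : M7} (hg : Rep g m) (h : fuChk m = true) : IsFU g := by
  simp only [fuChk, Bool.and_eq_true, decide_eq_true_eq] at h
  obtain ⟨⟨⟨⟨⟨⟨⟨⟨⟨⟨⟨⟨⟨⟨⟨⟨⟨⟨⟨⟨⟨⟨⟨⟨⟨⟨⟨h1, h2⟩, h3⟩, h4⟩, h5⟩, h6⟩, h7⟩, h8⟩, h9⟩, h10⟩, h11⟩, h12⟩, h13⟩,
    h14⟩, h15⟩, h16⟩, h17⟩, h18⟩, h19⟩, h20⟩, h21⟩, h22⟩, h23⟩, h24⟩, h25⟩, h26⟩, h27⟩, h28⟩ := h
  unfold Rep at hg
  refine ⟨?_, ?_⟩
  · intro i j hij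
    rw [hg, h13_toMat_apply]
    rcases i with ⟨⟩ | i | i <;> rcases j with ⟨⟩ | j | j
    · (exfalso; revert hij; simp [rk]; done)
    · fin_cases j <;> first
        | (exfalso; revert hij; simp [rk]; done)
        | simp [h13_toVec_e0, h13_col_x1, h13_col_x2, h13_col_x3, *]
    · fin_cases j <;> first
        | (exfalso; revert hij; simp [rk]; done)
        | simp [h13_toVec_e0, h13_col_y1, h13_col_y2, h13_col_y3, *]
    · fin_cases i <;> first
        | (exfalso; revert hij; simp [rk]; done)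
        | simp [h13_toVec_x1, h13_toVec_x2, h13_toVec_x3, h13_col_e0, *]
    · fin_cases i <;> fin_cases j <;> first
        | (exfalso; revert hij; simp [rk]; done)
        | simp [h13_toVec_x1, h13_toVec_x2, h13_toVec_x3, h13_col_x1, h13_col_x2, h13_col_x3, *]
    · fin_cases i <;> fin_cases j <;> first
        | (exfalso; revert hij; simp [rk]; done)
        | simp [h13_toVec_x1, h13_toVec_x2, h13_toVec_x3, h13_col_y1, h13_col_y2, h13_col_y3, *]
    · fin_cases i <;> first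
        | (exfalso; revert hij; simp [rk]; done)
        | simp [h13_toVec_y1, h13_toVec_y2, h13_toVec_y3, h13_col_e0, *]
    · fin_cases i <;> fin_cases j <;> first
        | (exfalso; revert hij; simp [rk]; done)
        | simp [h13_toVec_y1, h13_toVec_y2, h13_toVec_y3, h13_col_x1, h13_col_x2, h13_col_x3, *]
    · fin_cases i <;> fin_cases j <;> first
        | (exfalso; revert hij; simp [rk]; done)
        | simp [h13_toVec_y1, h13_toVec_y2, h13_toVec_y3, h13_col_y1, h13_col_y2, h13_col_y3, *]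
  · intro i
    rw [hg, h13_toMat_apply]
    rcases i with ⟨⟩ | i | i
    · simp [h13_toVec_e0, h13_col_e0, *]
    · fin_cases i <;>
        simp [h13_toVec_x1, h13_toVec_x2, h13_toVec_x3, h13_col_x1, h13_col_x2, h13_col_x3, *]
    · fin_cases i <;>
        simp [h13_toVec_y1, h13_toVec_y2, h13_toVec_y3, h13_col_y1, h13_col_y2, h13_col_y3, *]

end Cfsg.Agent.Lib.Helper28.O73C
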