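import Cfsg.Agent.Lib.Helper28.O73C.Defs
import Cfsg.Agent.Lib.Helper22.O73CCA
import Cfsg.Agent.Lib.Helper16.SpinA
import Cfsg.Agent.Lib.Helper16.OA25

/-!
Project O73C (S5514), piece CI: an encoded matrix passing `isoChk` is an isometry (helper13).
-/

set_option autoImplicit false
set_option maxHeartbeats 1600000

namespace Cfsg.Agent.Lib.Helper28.O73C

open Cfsg.Agent.Lib.Helper12.O73 Matrix

/-- the quadratic form as a `QuadraticForm` -/
noncomputable abbrev h13_Q : QuadraticForm K (I7 → K) := Cfsg.Agent.Lib.Helper16.qfOdd 3 K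

theorem h13_Q_coe : ⇑h13_Q = Cfsg.quadFormOdd 3 K := rfl

theorem h13_off (X Y : V7) (a b : ℕ) (h : bV X Y = bV (bas a) (bas b)) :
    QuadraticMap.polar (Cfsg.quadFormOdd 3 K) X.toVec Y.toVec =
      QuadraticMap.polar (Cfsg.quadFormOdd 3 K) (bas a).toVec (bas b).toVec := by
  rw [← bV_spec, ← bV_spec, h]

theorem h13_off' (X Y : V7) (a b : ℕ) (h : bV Y X = bV (bas b) (bas a)) :
    QuadraticMap.polar (Cfsg.quadFormOdd 3 K) X.toVec Y.toVec =
      QuadraticMap.polar (Cfsg.quadFormOdd 3 K) (bas a).toVec (bas b).toVec := by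
  rw [QuadraticMap.polar_comm, QuadraticMap.polar_comm _ (bas a).toVec]
  exact h13_off Y X b a h

theorem h13_diag (X : V7) (a : ℕ) (h : qV X = qV (bas a)) :
    QuadraticMap.polar (Cfsg.quadFormOdd 3 K) X.toVec X.toVec =
      QuadraticMap.polar (Cfsg.quadFormOdd 3 K) (bas a).toVec (bas a).toVec := by
  have h1 := QuadraticMap.polar_self h13_Q X.toVec
  have h2 := QuadraticMap.polar_self h13_Q (bas a).toVec
  rw [h13_Q_coe] at h1 h2
  rw [h1, h2, ← qV_spec, ← qV_spec, h]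

theorem h13_mulVec_single (m : M7) (j : I7) : m.toMat *ᵥ Pi.single j 1 = (m.col j).toVec := by
  rw [Matrix.mulVec_single_one]
  rfl

/-- the Gram matrix of the columns is the Gram matrix of the standard basis -/
theorem h13_gram (m : M7) (h : isoChk m = true) (i j : I7) :
    QuadraticMap.polar (Cfsg.quadFormOdd 3 K) (m.col i).toVec (m.col j).toVec =
      QuadraticMap.polar (Cfsg.quadFormOdd 3 K) (Pi.single i 1) (Pi.single j 1) := by
  simp only [isoChk, Bool.and_eq_true, decide_eq_true_eq] at h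
  obtain ⟨⟨⟨⟨⟨⟨⟨⟨⟨⟨⟨⟨⟨⟨⟨⟨⟨⟨⟨⟨⟨⟨⟨⟨⟨⟨⟨q0, q1⟩, q2⟩, q3⟩, q4⟩, q5⟩, q6⟩, b01⟩, b02⟩, b03⟩, b04⟩, b05⟩, b06⟩, b12⟩, b13⟩, b14⟩, b15⟩, b16⟩, b23⟩, b24⟩, b25⟩, b26⟩, b34⟩, b35⟩, b36⟩, b45⟩, b46⟩, b56⟩ := h
  have e6 : (bas 6).toVec = Pi.single (.inr (.inr 2)) 1 := h22_bas_6 0
  revert j
  revert i
  refine h22_I7_cases ?_ ?_ ?_ ?_ ?_ ?_ ?_ <;> refine h22_I7_cases ?_ ?_ ?_ ?_ ?_ ?_ ?_ <;>
    simp only [h22_col_0, h22_col_1, h22_col_2, h22_col_3, h22_col_4, h22_col_5, h22_col_6,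
      ← h22_bas_0, ← h22_bas_1, ← h22_bas_2, ← h22_bas_3, ← h22_bas_4, ← h22_bas_5, ← e6]
  · exact h13_diag m.c0 0 (q0.trans (by decide))
  · exact h13_off m.c0 m.c1 0 1 (b01.trans (by decide))
  · exact h13_off m.c0 m.c2 0 2 (b02.trans (by decide))
  · exact h13_off m.c0 m.c3 0 3 (b03.trans (by decide))
  · exact h13_off m.c0 m.c4 0 4 (b04.trans (by decide))
  · exact h13_off m.c0 m.c5 0 5 (b05.trans (by decide))
  · exact h13_off m.c0 m.c6 0 6 (b06.trans (by decide))
  · exact h13_off' m.c1 m.c0 1 0 (b01.trans (by decide))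
  · exact h13_diag m.c1 1 (q1.trans (by decide))
  · exact h13_off m.c1 m.c2 1 2 (b12.trans (by decide))
  · exact h13_off m.c1 m.c3 1 3 (b13.trans (by decide))
  · exact h13_off m.c1 m.c4 1 4 (b14.trans (by decide))
  · exact h13_off m.c1 m.c5 1 5 (b15.trans (by decide))
  · exact h13_off m.c1 m.c6 1 6 (b16.trans (by decide))
  · exact h13_off' m.c2 m.c0 2 0 (b02.trans (by decide))
  · exact h13_off' m.c2 m.c1 2 1 (b12.trans (by decide))
  · exact h13_diag m.c2 2 (q2.trans (by decide))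
  · exact h13_off m.c2 m.c3 2 3 (b23.trans (by decide))
  · exact h13_off m.c2 m.c4 2 4 (b24.trans (by decide))
  · exact h13_off m.c2 m.c5 2 5 (b25.trans (by decide))
  · exact h13_off m.c2 m.c6 2 6 (b26.trans (by decide))
  · exact h13_off' m.c3 m.c0 3 0 (b03.trans (by decide))
  · exact h13_off' m.c3 m.c1 3 1 (b13.trans (by decide))
  · exact h13_off' m.c3 m.c2 3 2 (b23.trans (by decide))
  · exact h13_diag m.c3 3 (q3.trans (by decide))
  · exact h13_off m.c3 m.c4 3 4 (b34.trans (by decide))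
  · exact h13_off m.c3 m.c5 3 5 (b35.trans (by decide))
  · exact h13_off m.c3 m.c6 3 6 (b36.trans (by decide))
  · exact h13_off' m.c4 m.c0 4 0 (b04.trans (by decide))
  · exact h13_off' m.c4 m.c1 4 1 (b14.trans (by decide))
  · exact h13_off' m.c4 m.c2 4 2 (b24.trans (by decide))
  · exact h13_off' m.c4 m.c3 4 3 (b34.trans (by decide))
  · exact h13_diag m.c4 4 (q4.trans (by decide))
  · exact h13_off m.c4 m.c5 4 5 (b45.trans (by decide))
  · exact h13_off m.c4 m.c6 4 6 (b46.trans (by decide))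
  · exact h13_off' m.c5 m.c0 5 0 (b05.trans (by decide))
  · exact h13_off' m.c5 m.c1 5 1 (b15.trans (by decide))
  · exact h13_off' m.c5 m.c2 5 2 (b25.trans (by decide))
  · exact h13_off' m.c5 m.c3 5 3 (b35.trans (by decide))
  · exact h13_off' m.c5 m.c4 5 4 (b45.trans (by decide))
  · exact h13_diag m.c5 5 (q5.trans (by decide))
  · exact h13_off m.c5 m.c6 5 6 (b56.trans (by decide))
  · exact h13_off' m.c6 m.c0 6 0 (b06.trans (by decide))
  · exact h13_off' m.c6 m.c1 6 1 (b16.trans (by decide))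
  · exact h13_off' m.c6 m.c2 6 2 (b26.trans (by decide))
  · exact h13_off' m.c6 m.c3 6 3 (b36.trans (by decide))
  · exact h13_off' m.c6 m.c4 6 4 (b46.trans (by decide))
  · exact h13_off' m.c6 m.c5 6 5 (b56.trans (by decide))
  · exact h13_diag m.c6 6 (q6.trans (by decide))

theorem h13_polar_pres (m : M7) (h : isoChk m = true) (v w : I7 → K) :
    QuadraticMap.polar (Cfsg.quadFormOdd 3 K) (m.toMat *ᵥ v) (m.toMat *ᵥ w) =
      QuadraticMap.polar (Cfsg.quadFormOdd 3 K) v w := by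
  have key : (QuadraticMap.polarBilin h13_Q).compl₁₂ (Matrix.toLin' m.toMat) (Matrix.toLin' m.toMat) =
      QuadraticMap.polarBilin h13_Q := by
    apply LinearMap.BilinForm.ext_basis (Pi.basisFun K I7)
    intro i j
    rw [LinearMap.compl₁₂_apply, Matrix.toLin'_apply, Matrix.toLin'_apply, Pi.basisFun_apply,
      Pi.basisFun_apply, h13_mulVec_single, h13_mulVec_single, QuadraticMap.polarBilin_apply_apply,
      QuadraticMap.polarBilin_apply_apply, h13_Q_coe]
    exact h13_gram m h i j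
  have := congrArg (fun B => B v w) key
  simp only [LinearMap.compl₁₂_apply, Matrix.toLin'_apply, QuadraticMap.polarBilin_apply_apply,
    h13_Q_coe] at this
  exact this

theorem h13_four : (2 : K) * 2 = 1 := by decide

theorem h13_Q_pres (m : M7) (h : isoChk m = true) (v : I7 → K) :
    Cfsg.quadFormOdd 3 K (m.toMat *ᵥ v) = Cfsg.quadFormOdd 3 K v := by
  have h1 := QuadraticMap.polar_self h13_Q (m.toMat *ᵥ v)
  have h2 := QuadraticMap.polar_self h13_Q v
  rw [h13_Q_coe] at h1 h2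
  have h3 := h13_polar_pres m h v v
  rw [h1, h2, nsmul_eq_mul, nsmul_eq_mul] at h3
  have h4 : (2 : K) * ((2 : K) * Cfsg.quadFormOdd 3 K (m.toMat *ᵥ v)) =
      (2 : K) * ((2 : K) * Cfsg.quadFormOdd 3 K v) := by
    have := congrArg (fun x => (2 : K) * x) h3
    simpa using this
  rwa [← mul_assoc, ← mul_assoc, h13_four, one_mul, one_mul] at h4

theorem h13_isUnit (m : M7) (h : isoChk m = true) : IsUnit m.toMat := by
  rw [← Matrix.mulVec_injective_iff_isUnit]
  intro v w hvw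
  have h2 : (2 : K) ≠ 0 := by decide
  have hnd := Cfsg.Agent.Lib.Helper16.OA.qfOdd_nondeg (F := K) 3 h2
  have hz : v - w = 0 := by
    apply hnd.1
    intro y
    rw [QuadraticMap.polarBilin_apply_apply]
    have := h13_polar_pres m h (v - w) y
    rw [Matrix.mulVec_sub, hvw, sub_self] at this
    show QuadraticMap.polar (Cfsg.quadFormOdd 3 K) (v - w) y = 0
    rw [← this]
    exact QuadraticMap.polar_zero_left h13_Q _
  exact sub_eq_zero.1 hz

theorem exists_rep (m : M7) (h : isoChk m = true) : ∃ g : GO, Rep g m := by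
  have hu := h13_isUnit m h
  refine ⟨⟨hu.unit, ?_⟩, ?_⟩
  · rw [Cfsg.Agent.Lib.Helper16.mem_iso_iff]
    intro x
    exact h13_Q_pres m h x
  · rfl

end Cfsg.Agent.Lib.Helper28.O73C
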