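import Cfsg.Agent.Lib.Helper28.O73C.Defs
import Cfsg.Agent.Lib.Helper22.O73CCA
import Cfsg.Agent.Lib.Helper16.SpinA

/-!
Project O73C (S5514), piece CR: encoded isometries (helper13).
-/

set_option autoImplicit false

namespace Cfsg.Agent.Lib.Helper28.O73C

open Cfsg.Agent.Lib.Helper12.O73 Matrix

theorem h13_mat_one : (1 : GO).mat = 1 := rfl

theorem h13_mat_mul (g h : GO) : (g * h).mat = g.mat * h.mat := rfl

theorem h13_mat_inv_mul (g : GO) : (g⁻¹).mat * g.mat = 1 := by
  rw [← h13_mat_mul, inv_mul_cancel, h13_mat_one]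

theorem h13_mat_mul_inv (g : GO) : g.mat * (g⁻¹).mat = 1 := by
  rw [← h13_mat_mul, mul_inv_cancel, h13_mat_one]

theorem rep_one : Rep 1 one7 := by
  unfold Rep
  rw [h13_mat_one, toMat_one7]

theorem rep_mul {g h : GO} {m n : M7} (hg : Rep g m) (hh : Rep h n) : Rep (g * h) (mm m n) := by
  unfold Rep at *
  rw [h13_mat_mul, hg, hh, toMat_mm]

theorem rep_ext {g h : GO} {m : M7} (hg : Rep g m) (hh : Rep h m) : g = h := by
  unfold Rep at *
  exact Subtype.ext (Units.ext (hg.trans hh.symm))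

theorem rep_inv {g : GO} {m n : M7} (hg : Rep g m) (h : mm m n = one7) : Rep g⁻¹ n := by
  unfold Rep at *
  have h1 : g.mat * n.toMat = 1 := by
    rw [hg, ← toMat_mm, h, toMat_one7]
  calc (g⁻¹).mat = (g⁻¹).mat * (g.mat * n.toMat) := by rw [h1, mul_one]
    _ = ((g⁻¹).mat * g.mat) * n.toMat := by rw [mul_assoc]
    _ = n.toMat := by rw [h13_mat_inv_mul, one_mul]

theorem rep_mulVec {g : GO} {m : M7} (hg : Rep g m) (a : V7) :
    g.mat *ᵥ a.toVec = (mv m a).toVec := by
  unfold Rep at hg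
  rw [hg, toVec_mv]

theorem rep_unique {g : GO} {m n : M7} (hm : Rep g m) (hn : Rep g n) (h1 : m.red = true)
    (h2 : n.red = true) : m = n := by
  unfold Rep at *
  exact toMat_inj m n h1 h2 (hm.symm.trans hn)

end Cfsg.Agent.Lib.Helper28.O73C
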