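import Mathlib
import Cfsg.Agent.Lib.Helper13.O983.Defs
import Cfsg.Agent.Lib.Helper10.BHPB
import Cfsg.Agent.Lib.helper23.BRCLS
import Cfsg.Agent.Lib.helper23.BRCARDY
import Cfsg.Agent.Lib.helper23.BRDIV
import Cfsg.Agent.Lib.helper23.BRCONG
import Cfsg.Agent.Lib.helper23.BRPERF
import Cfsg.Agent.Lib.helper23.BRSQ
import Cfsg.Agent.Lib.helper2.CharInt
import Cfsg.Agent.Lib.helper2.CharNat
import Cfsg.Agent.Lib.Helper25.CharLinear

/-!
# Project O983 (S0983), tool GB (leader): the principal `p`-block of a perfect group with `|P| = p`,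
`1 < q = |N_G(P) : C_G(P)|`, `q + 1 < p`, with the arithmetic of its degrees (generalisation of `Helper13/O459BLOCKcore.lean`).
-/

set_option autoImplicit false
set_option linter.unusedVariables false
set_option linter.unusedSectionVars false
set_option linter.style.haveILetI false

namespace Cfsg.Agent.Lib.Helper13.O983

open Classical
open Cfsg.Agent.Lib.helper7 Cfsg.Agent.Lib.helper7.BR Cfsg.Agent.Lib.Helper25 Cfsg.Agent.Lib.helper2
open Cfsg.Agent.Lib.helper15.BH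

universe u

variable {G : Type u} [Group G] [Fintype G] {p : ℕ} [Fact p.Prime]

/-- the degree of an irreducible character, as a natural number -/
noncomputable def o983gbDeg (χ : Cfsg.IrrCharacter G) : ℕ := Classical.choose (irr_degree_dvd_card χ)

theorem o983gbDeg_spec (χ : Cfsg.IrrCharacter G) :
    0 < o983gbDeg χ ∧ (χ : G → ℂ) 1 = (o983gbDeg χ : ℂ) :=
  ⟨(Classical.choose_spec (irr_degree_dvd_card χ)).1, (Classical.choose_spec (irr_degree_dvd_card χ)).2.1⟩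

/-- there is a non-trivial element in `P` -/
theorem o983gb_exists (P : Sylow p G) (hP : Nat.card ↥(P : Subgroup G) = p) :
    ∃ x : G, x ∈ (P : Subgroup G) ∧ x ≠ 1 := by
  have hp : p.Prime := Fact.out
  by_contra hcon
  push Not at hcon
  have : Nat.card ↥(P : Subgroup G) ≤ 1 := by
    rw [Nat.card_eq_fintype_card, Fintype.card_le_one_iff]
    intro a b
    apply Subtype.ext
    rw [hcon a a.2, hcon b b.2]
  have := hp.one_lt
  omega

/-- GB (BLKGEN) -/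
theorem blk_gen (hperf : commutator G = ⊤) (P : Sylow p G) (hP : Nat.card ↥(P : Subgroup G) = p) (q t : ℕ)
    (hq : (cen P).relIndex (nrm P) = q) (h1 : 1 < q) (h2 : q + 1 < p) (hqt : q * t = p - 1) :
    ∃ (X Y : Finset (Cfsg.IrrCharacter G)) (a : Cfsg.IrrCharacter G → ℤ) (ε : ℤ)
      (D : Cfsg.IrrCharacter G → ℕ) (z : ℕ),
      X.card = q ∧ Y.card = t ∧ Disjoint X Y ∧ trivIrr G ∈ X ∧ D (trivIrr G) = 1 ∧ a (trivIrr G) = 1 ∧
      (∀ χ ∈ X, (a χ = 1 ∨ a χ = -1) ∧ (∀ g : G, p ∣ orderOf g → (χ : G → ℂ) g = (a χ : ℂ)) ∧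
        (χ : G → ℂ) 1 = (D χ : ℂ) ∧ D χ ∣ (cen P).index ∧ (p : ℤ) ∣ (D χ : ℤ) - a χ ∧
        (χ ≠ trivIrr G → 2 ≤ D χ)) ∧
      (ε = 1 ∨ ε = -1) ∧ (∀ η ∈ Y, (η : G → ℂ) 1 = (z : ℂ)) ∧ z ∣ (cen P).index ∧
      (p : ℤ) ∣ (z : ℤ) - ε * (q : ℤ) ∧ ε * (z : ℤ) = ∑ χ ∈ X, a χ * (D χ : ℤ) ∧
      ∑ χ ∈ X, (D χ) ^ 2 + t * z ^ 2 ≤ Nat.card G ∧
      (∀ g : G, p ∣ orderOf g → ∑ η ∈ Y, (η : G → ℂ) g = -(ε : ℂ)) := by
  obtain ⟨X, Y, a, ε, hXcard, hYne, htrivX, hXa, hε, hYsum, hYval, hYdeg⟩ :=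
    pb_values (p := p) P hP q hq h1 h2
  obtain ⟨x₀, hx₀, hx₀1⟩ := o983gb_exists P hP
  have hsing : ∀ x ∈ (P : Subgroup G), x ≠ 1 → p ∣ orderOf x := fun x hx hx1 =>
    dvd_orderOf_of_mem P x hx hx1
  have hXval : ∀ χ ∈ X, ∀ x ∈ (P : Subgroup G), x ≠ 1 → (χ : G → ℂ) x = (a χ : ℂ) :=
    fun χ hχ x hx hx1 => (hXa χ hχ).2 x (hsing x hx hx1)
  have hYval' : ∀ x ∈ (P : Subgroup G), x ≠ 1 → ∑ η ∈ Y, (η : G → ℂ) x = -(ε : ℂ) :=
    fun x hx hx1 => hYval x (hsing x hx hx1)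
  have hatriv : a (trivIrr G) = 1 := by
    have := hXval (trivIrr G) htrivX x₀ hx₀ hx₀1
    rw [trivIrr_apply] at this
    have h' : ((1 : ℤ) : ℂ) = ((a (trivIrr G) : ℤ) : ℂ) := by rw [← this]; simp
    exact_mod_cast h'.symm
  have hdtriv : o983gbDeg (trivIrr G) = 1 := by
    have := (o983gbDeg_spec (trivIrr G)).2
    rw [trivIrr_apply] at this
    exact_mod_cast this.symm
  obtain ⟨η₀, hη₀⟩ := hYne
  set z := o983gbDeg η₀ with hz
  have hzall : ∀ η ∈ Y, (η : G → ℂ) 1 = (z : ℂ) := by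
    intro η hη
    have h1 := hYdeg η hη
    have h2 := hYdeg η₀ hη₀
    rw [← h2] at h1
    have hε0 : (ε : ℂ) ≠ 0 := by
      rcases hε with h | h <;> rw [h] <;> norm_num
    have := mul_left_cancel₀ hε0 h1
    rw [this, (o983gbDeg_spec η₀).2]
  have hdisjXY : ∀ χ ∈ X, χ ∉ Y := by
    intro χ hχ hχY
    exact not_const_of_sum P hP (χ : G → ℂ) (a χ) (hXa χ hχ).1 (hXval χ hχ) ε hε q h2
      (hYsum χ hχY)
  have hdisj : Disjoint X Y := by
    rw [Finset.disjoint_left]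
    exact hdisjXY
  have hq0 : 0 < q := by omega
  have hcardY : Y.card = t := by
    have := card_Y_mul P hP Y ε hε q hYsum hYval'
    have h18 : Y.card * q = q * t := by rw [this, hqt]
    rw [mul_comm] at h18
    exact Nat.eq_of_mul_eq_mul_left hq0 h18
  have hdvdX : ∀ χ ∈ X, o983gbDeg χ ∣ (cen P).index := by
    intro χ hχ
    exact deg_dvd_of_pm_one P hP χ (a χ) (hXa χ hχ).1 x₀ hx₀ hx₀1 (hXval χ hχ x₀ hx₀ hx₀1) _
      (o983gbDeg_spec χ).2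
  have hcongX : ∀ χ ∈ X, (p : ℤ) ∣ (o983gbDeg χ : ℤ) - a χ := by
    intro χ hχ
    exact deg_congr_of_const P hP (χ : G → ℂ) (isCharacter_of_irr χ) (a χ) (hXval χ hχ) _
      (o983gbDeg_spec χ).2
  have hgeX : ∀ χ ∈ X, χ ≠ trivIrr G → 2 ≤ o983gbDeg χ := by
    intro χ hχ hne
    obtain ⟨d, hd2, hd⟩ := deg_ge_two hperf χ hne
    have := (o983gbDeg_spec χ).2
    rw [hd] at this
    have : d = o983gbDeg χ := by exact_mod_cast this
    omega
  have hzdvd : z ∣ (cen P).index :=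
    exc_deg_dvd P hP Y z hzall ε hε x₀ hx₀ hx₀1 (hYval' x₀ hx₀ hx₀1)
  have hzcong : (p : ℤ) ∣ (z : ℤ) - ε * (q : ℤ) :=
    deg_congr_of_sum P hP (η₀ : G → ℂ) (isCharacter_of_irr η₀) ε q z (hzall η₀ hη₀) (hYsum η₀ hη₀)
  have hdeg : ε * (z : ℤ) = ∑ χ ∈ X, a χ * (o983gbDeg χ : ℤ) := by
    have h1 := hYdeg η₀ hη₀
    rw [hzall η₀ hη₀] at h1
    have h2 : ∑ χ ∈ X, (a χ : ℂ) * (χ : G → ℂ) 1 =
        ((∑ χ ∈ X, a χ * (o983gbDeg χ : ℤ) : ℤ) : ℂ) := by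
      push_cast
      refine Finset.sum_congr rfl fun χ _ => ?_
      rw [(o983gbDeg_spec χ).2]
    rw [h2] at h1
    exact_mod_cast h1
  have hsq : ∑ χ ∈ X, (o983gbDeg χ) ^ 2 + t * z ^ 2 ≤ Nat.card G := by
    have h1 := sum_sq_le (X ∪ Y) o983gbDeg (fun χ _ => (o983gbDeg_spec χ).2)
    rw [Finset.sum_union hdisj] at h1
    have h2 : ∑ χ ∈ Y, (o983gbDeg χ) ^ 2 = t * z ^ 2 := by
      rw [Finset.sum_congr rfl (g := fun _ => z ^ 2), Finset.sum_const, hcardY, smul_eq_mul]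
      intro η hη
      have := (o983gbDeg_spec η).2
      rw [hzall η hη] at this
      have : z = o983gbDeg η := by exact_mod_cast this
      rw [this]
    rw [h2] at h1
    exact h1
  refine ⟨X, Y, a, ε, o983gbDeg, z, hXcard, hcardY, hdisj, htrivX, hdtriv, hatriv, ?_, hε, hzall, hzdvd,
    hzcong, hdeg, hsq, hYval⟩
  intro χ hχ
  exact ⟨(hXa χ hχ).1, (hXa χ hχ).2, (o983gbDeg_spec χ).2, hdvdX χ hχ, hcongX χ hχ, hgeX χ hχ⟩

end Cfsg.Agent.Lib.Helper13.O983
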