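import Mathlib
import Cfsg.Prelude.Def_GeometricClasses
import Cfsg.Agent.Lib.Helper27.ASC.Defs
import Cfsg.Agent.Lib.helper23.ASCO.Defs
import Cfsg.Agent.Lib.Lead.Reindex
import Cfsg.Agent.Lib.Helper25.O9.Defs
import Cfsg.Agent.Lib.Helper13.O9FLDcore
import Cfsg.Agent.Lib.Helper13.O9CENT

set_option autoImplicit false
set_option linter.unusedVariables false
set_option linter.unusedSectionVars false

/-!
# Project O9 (S5835), piece FLD : `Ω` normalises no extension field (core `o9fld_core` + CENT)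
-/

namespace Cfsg.Agent.Lib.Helper25.O9

open Cfsg Cfsg.Geo Cfsg.Agent.Lib.Helper27.ASC Cfsg.Agent.Lib.helper23.ASCO
open scoped MatrixGroups Matrix

variable {n : ℕ} {F : Type*} [Field F] [Fintype F]

/-- FLD : `Ω` normalises no extension field. -/
theorem omega_not_le_field (hn : 7 ≤ n) (h2 : (2 : F) ≠ 0) (Q : QuadraticForm F (Fin n → F))
    (hQ : (QuadraticMap.polarBilin Q).Nondegenerate) {d : ℕ} (hd : 2 ≤ d)
    (K : Subalgebra F (Matrix (Fin n) (Fin n) F)) (hK : IsFieldSubalgebra d K) :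
    ¬ omegaGL (⇑Q) ≤ subalgebraNormalizer K :=
  o9fld_core hn Q hQ hd K hK (fun k hk => omega_cent_scalar hn h2 Q hQ k hk)

end Cfsg.Agent.Lib.Helper25.O9
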