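import Mathlib
import Cfsg.Agent.Lib.Helper16.O9H.Defs
import Cfsg.Agent.Lib.Helper26.SO8C5

set_option autoImplicit false
set_option linter.unusedVariables false
set_option linter.unusedSectionVars false

/-!
# O9H row APLUS1 (`plus_alg1`), project O9H (designer helper16), written by helper13.
-/

namespace Cfsg.Agent.Lib.Helper16.O9H

open Matrix Polynomial Module

variable {ι : Type} [Fintype ι] [DecidableEq ι] {F : Type*} [Field F]

/-- the value of the reverse at `1` -/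
theorem o9haplus1_eval_one_reverse (f : F[X]) : f.reverse.eval 1 = f.eval 1 := by
  let _ : Invertible (1 : F) := invertibleOne
  have h := Polynomial.eval₂_reverse_mul_pow (RingHom.id F) (1 : F) f
  rw [invOf_one, one_pow, mul_one] at h
  exact h

/-- two monic irreducible polynomials one of which divides the other are equal -/
theorem o9haplus1_eq_of_dvd (f g : F[X]) (hf : Irreducible f) (hg : Irreducible g) (hmf : f.Monic)
    (hmg : g.Monic) (h : f ∣ g) : f = g :=
  Polynomial.eq_of_monic_of_associated hmf hmg (hf.associated_of_dvd hg h)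

/-- APLUS1, verbatim. -/
theorem plus_alg1 (f₁ f₂ : F[X]) (hf₁ : Irreducible f₁) (hm₁ : f₁.Monic) (hm₂ : f₂.Monic)
    (hrev : f₁.reverse = C (f₁.coeff 0) * f₂) (hne : f₁ ≠ f₂) :
    f₁.coeff 0 ≠ 0 ∧ Irreducible f₂ ∧ f₂.natDegree = f₁.natDegree ∧ IsCoprime f₁ f₂ ∧
      (f₁ * f₂).eval 1 ≠ 0 := by
  have hc : f₁.coeff 0 ≠ 0 := by
    intro h0
    rw [h0, C_0, zero_mul] at hrev
    exact hf₁.ne_zero (Polynomial.reverse_eq_zero.mp hrev)
  obtain ⟨hrr, hirr⟩ := Cfsg.Agent.Lib.Helper19.SO8.reverse_irreducible f₁ hf₁ hc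
  have hf₂ : f₂ = C (f₁.coeff 0)⁻¹ * f₁.reverse := by
    rw [hrev, ← mul_assoc, ← C_mul, inv_mul_cancel₀ hc, C_1, one_mul]
  have hunit : IsUnit (C (f₁.coeff 0)⁻¹ : F[X]) :=
    Polynomial.isUnit_C.mpr (isUnit_iff_ne_zero.mpr (inv_ne_zero hc))
  have hirr₂ : Irreducible f₂ := by
    rw [hf₂]
    exact (irreducible_isUnit_mul hunit).mpr hirr
  have hdeg : f₂.natDegree = f₁.natDegree := by
    have h1 : (f₁.reverse).natDegree = f₂.natDegree := by
      rw [hrev, natDegree_C_mul hc]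
    have h2 : f₁.natTrailingDegree = 0 := by
      apply Nat.eq_zero_of_le_zero
      exact Polynomial.natTrailingDegree_le_of_ne_zero hc
    rw [← h1, Polynomial.reverse_natDegree, h2, Nat.sub_zero]
  have hcop : IsCoprime f₁ f₂ := by
    rw [hf₁.coprime_iff_not_dvd]
    intro hd
    exact hne (o9haplus1_eq_of_dvd f₁ f₂ hf₁ hirr₂ hm₁ hm₂ hd)
  have he1 : f₁.eval 1 ≠ 0 := by
    intro h0
    have hd : (X - C (1 : F)) ∣ f₁ := Polynomial.dvd_iff_isRoot.mpr h0
    have heq : X - C (1 : F) = f₁ :=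
      o9haplus1_eq_of_dvd _ _ (Polynomial.irreducible_X_sub_C 1) hf₁ (monic_X_sub_C 1) hm₁ hd
    -- then `f₂` also vanishes at `1`, hence `f₂ = X - C 1 = f₁`
    have h2 : f₂.eval 1 = 0 := by
      have h3 : (f₁.reverse).eval 1 = 0 := by rw [o9haplus1_eval_one_reverse, h0]
      rw [hrev, eval_mul, eval_C] at h3
      exact (mul_eq_zero.mp h3).resolve_left hc
    have hd2 : (X - C (1 : F)) ∣ f₂ := Polynomial.dvd_iff_isRoot.mpr h2
    have heq2 : X - C (1 : F) = f₂ :=
      o9haplus1_eq_of_dvd _ _ (Polynomial.irreducible_X_sub_C 1) hirr₂ (monic_X_sub_C 1) hm₂ hd2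
    exact hne (heq.symm.trans heq2)
  have he2 : f₂.eval 1 ≠ 0 := by
    intro h0
    apply he1
    have h3 : (f₁.reverse).eval 1 = 0 := by
      rw [hrev, eval_mul, h0, mul_zero]
    rwa [o9haplus1_eval_one_reverse] at h3
  refine ⟨hc, hirr₂, hdeg, hcop, ?_⟩
  rw [eval_mul]
  exact mul_ne_zero he1 he2

end Cfsg.Agent.Lib.Helper16.O9H
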