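import Mathlib
import Cfsg.Agent.Lib.Helper16.O9H.Defs

set_option autoImplicit false
set_option linter.unusedVariables false
set_option linter.unusedSectionVars false

/-!
# O9H row KUNIP (`unip_pow`), project O9H (designer helper16), written by helper13.
-/

namespace Cfsg.Agent.Lib.Helper16.O9H

open Matrix Polynomial Module

variable {ι : Type} [Fintype ι] [DecidableEq ι] {F : Type*} [Field F]

/-- evaluation of `X ^ n - 1` at `linOf g` (own copy of the statement of KPOW). -/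
theorem o9hkunip_aeval_pow_sub (g : GL ι F) (n : ℕ) (x : ι → F) :
    aeval (linOf g) (X ^ n - 1 : F[X]) x = ((g ^ n : GL ι F) : Matrix ι ι F) *ᵥ x - x := by
  rw [map_sub, map_pow, aeval_X, map_one, LinearMap.sub_apply, Module.End.one_apply]
  congr 1
  rw [Units.val_pow_eq_pow_val, ← Matrix.toLin'_apply, Matrix.toLin'_pow]

/-- KUNIP, verbatim. -/
theorem unip_pow {p : ℕ} [Fact p.Prime] [CharP F p] (g : GL ι F) (a t : ℕ) (hat : a ≤ p ^ t)
    (x : ι → F) (hx : x ∈ kerP g ((X - 1) ^ a)) :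
    ((g ^ (p ^ t) : GL ι F) : Matrix ι ι F) *ᵥ x = x := by
  have hx0 : aeval (linOf g) ((X - 1 : F[X]) ^ a) x = 0 := hx
  have h1 : aeval (linOf g) ((X - 1 : F[X]) ^ (p ^ t)) x = 0 := by
    have : (X - 1 : F[X]) ^ (p ^ t) = (X - 1) ^ (p ^ t - a) * (X - 1) ^ a := by
      rw [← pow_add]; congr 1; omega
    rw [this, map_mul, Module.End.mul_apply, hx0, map_zero]
  have h2 : ((X - 1 : F[X]) ^ (p ^ t)) = X ^ (p ^ t) - 1 := by
    rw [sub_pow_char_pow, one_pow]
  rw [h2, o9hkunip_aeval_pow_sub] at h1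
  exact sub_eq_zero.mp h1

end Cfsg.Agent.Lib.Helper16.O9H
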