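import Mathlib
import Cfsg.Agent.Lib.Helper13.O9LASMBcore
import Cfsg.Agent.Lib.helper17.O9LUNIPV
import Cfsg.Agent.Lib.Helper1.O9LSUMR
import Cfsg.Agent.Lib.Helper1.O9LSQ
import Cfsg.Agent.Lib.Helper1.O9LSUMN
import Cfsg.Agent.Lib.helper15.O9LPIECES
import Cfsg.Agent.Lib.Lead.O9LARITH

set_option autoImplicit false
set_option linter.unusedVariables false

/-!
# O9L row ASMB (`asm_b`), project O9L (designer helper1), written by helper13: the verbatim row
(`o9lasmb_core` applied to the landed rows UNIPV, SUMV, SQ, PIECES, SUMN, ARITH).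
-/

namespace Cfsg.Agent.Lib.Helper1.O9L

open Matrix Module Cfsg.Agent.Lib.Helper13.OTS Cfsg.Agent.Lib.Helper16

/-- ASMB (same statement as `asm_b`; the verbatim row was landed by helper1 in `Helper1/O9LASMBC.lean`, so this copy carries its own name). -/
theorem asm_b_h13 {F : Type*} [Field F] [Fintype F] (p : ℕ) [Fact p.Prime] [CharP F p] (hp2 : p ≠ 2) (hF : Odd (Fintype.card F)) (a b : F)
    (hab : Aniso a b) (n : ℕ)
    (hn : 2 * n = Fintype.card F ^ 3 - 1 ∨ 2 * n = Fintype.card F ^ 3 + 1 ∨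
      2 * n = (Fintype.card F ^ 2 + 1) * (Fintype.card F - 1) ∨
      2 * n = (Fintype.card F ^ 2 + 1) * (Fintype.card F + 1) ∨ n = Fintype.card F ^ 2 - 1) :
    OmV F 4 (-1) n :=
  o9lasmb_core p hp2 hF a b hab n hn (fun Qs d s hs hd => omv_triv Qs d s hs hd) omv_sum omr_sq
    omn_plus omn_minus omn_sum o9l_arith

end Cfsg.Agent.Lib.Helper1.O9L
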