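import Mathlib
import Cfsg.Agent.Lib.Helper1.O9L.Defs
import Cfsg.Agent.Lib.Helper18.OmegaOdd

set_option autoImplicit false
set_option linter.unusedVariables false

/-!
# O9L row UNIPV (`omv_triv`, `omv_unip`), project O9L (designer helper1): second copy by helper13,
own names `o9lunipv_h13_triv`, `o9lunipv_h13_unip` (the latter from the statement of `unip_std`).
-/

namespace Cfsg.Agent.Lib.Helper1.O9L

open Matrix Module Cfsg.Agent.Lib.Helper13.OTS

theorem o9lunipv_h13_geoS_one {ι : Type} [Fintype ι] [DecidableEq ι] {F : Type*} [Field F] (k : ℕ) :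
    geoS (1 : GL ι F) k = (k : F) • (1 : Matrix ι ι F) := by
  unfold geoS
  simp only [one_pow, Units.val_one, Finset.sum_const, Finset.card_range]
  rw [Nat.cast_smul_eq_nsmul]

theorem o9lunipv_h13_triv {F : Type*} [Field F] [Fintype F] {ι : Type} [Fintype ι] [DecidableEq ι]
    (Qs : QuadraticForm F (ι → F)) (d : ℕ) (s : ℤ) (hs : QStd Qs d s) (hd : 1 ≤ d) : OmV F d s 1 := by
  refine ⟨ι, inferInstance, inferInstance, Qs, hs, 1, Subgroup.one_mem _, orderOf_one, ?_⟩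
  have hne : Nonempty ι := by
    apply Fintype.card_pos_iff.mp
    rw [hs.card]; omega
  obtain ⟨i⟩ := hne
  rw [show (((1 : ↥(Cfsg.isometryGroup F (⇑Qs))) : GL ι F)) = 1 from rfl, o9lunipv_h13_geoS_one]
  intro h
  have := congrFun (congrFun h i) i
  simp at this

theorem o9lunipv_h13_two_ne {F : Type*} [Field F] (p : ℕ) [Fact p.Prime] [CharP F p] (hp2 : p ≠ 2) :
    (2 : F) ≠ 0 := by
  intro h
  have h1 : ((2 : ℕ) : F) = 0 := by exact_mod_cast h
  have h2 : p ∣ 2 := (CharP.cast_eq_zero_iff F p 2).mp h1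
  exact hp2 ((Nat.prime_dvd_prime_iff_eq Fact.out Nat.prime_two).mp h2)

/-- `omv_unip` from the statement of `unip_std` (UNIPSTD). -/
theorem o9lunipv_h13_unip {F : Type*} [Field F] [Fintype F] (p : ℕ) [Fact p.Prime] [CharP F p] (hp2 : p ≠ 2)
    {ι : Type} [Fintype ι] [DecidableEq ι] (Qs : QuadraticForm F (ι → F)) (d : ℕ) (s : ℤ) (hs : QStd Qs d s)
    (hd : 2 * d = p + 1)
    (Hstd : ∃ g : ↥(Cfsg.isometryGroup F (⇑Qs)), g ^ p = 1 ∧ geoS (g : GL ι F) p ≠ 0) : OmV F d s p := by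
  obtain ⟨g, hgp, hgeo⟩ := Hstd
  have hpp : p.Prime := Fact.out
  have h2 : (2 : F) ≠ 0 := o9lunipv_h13_two_ne p hp2
  have hg1 : g ≠ 1 := by
    intro h
    apply hgeo
    rw [h, show (((1 : ↥(Cfsg.isometryGroup F (⇑Qs))) : GL ι F)) = 1 from rfl, o9lunipv_h13_geoS_one,
      CharP.cast_eq_zero F p, zero_smul]
  have hord : orderOf g = p := orderOf_eq_prime hgp hg1
  have hodd : Odd p := hpp.odd_of_ne_two hp2
  have hgp' : (g : GL ι F) ^ p = 1 := by
    rw [← SubgroupClass.coe_pow, hgp]; rfl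
  have hmem := Cfsg.Agent.Lib.Helper18.OmegaOdd.omegaodd_mem h2 Qs hs.nd (g : GL ι F) g.2 p hodd hgp'
  obtain ⟨y, hy, hyg⟩ := hmem
  have hyg' : y = g := Subtype.ext hyg
  refine ⟨ι, inferInstance, inferInstance, Qs, hs, g, hyg' ▸ hy, hord, hgeo⟩

end Cfsg.Agent.Lib.Helper1.O9L
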