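import Mathlib
import Cfsg.Agent.Lib.helper17.OMP.Defs
import Cfsg.Agent.Lib.Helper22.CTATVAPI
import Cfsg.Agent.Lib.Helper28.CTD.Defs
import Cfsg.Agent.Lib.Helper13.OMPE3

/-!
# Project OMP (designer helper17), row E2 (helper13): the Weyl word `wE i j`: inverse, square, `wn`.
-/

set_option autoImplicit false

namespace Cfsg.Agent.Lib.helper17.OMP

open Matrix Cfsg.Agent.Lib.helper14.CTE Cfsg.Agent.Lib.helper14.CTA Cfsg.Agent.Lib.helper17.SLN
  Cfsg.Agent.Lib.Helper28.CTD

universe u v w

section E

variable {F : Type u} [Field F] {ι : Type w} [Fintype ι] [DecidableEq ι]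

/-- the matrix of the Weyl word `x_ij(c) x_ji(-c) x_ij(c)`, `c = ±1` (`c * c = 1`). -/
theorem ompe2_word (i j : ι) (hij : i ≠ j) (c : F) (hc : c * c = 1) :
    ((1 + Matrix.single i j c) * (1 + Matrix.single j i (-c)) * (1 + Matrix.single i j c) : Matrix ι ι F) =
      1 - Matrix.single i i 1 - Matrix.single j j 1 + Matrix.single i j c - Matrix.single j i c := by
  have hji : j ≠ i := hij.symm
  simp only [mul_add, add_mul, mul_one, one_mul, single_mul_single_same,
      single_mul_single_of_ne _ _ _ _ hij.symm, add_zero]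
  ext k l
  simp only [Matrix.add_apply, Matrix.sub_apply, Matrix.one_apply, Matrix.single_apply]
  simp only [@eq_comm _ i k, @eq_comm _ j k, @eq_comm _ i l, @eq_comm _ j l]
  have hc' : c * -c = -1 := by rw [mul_neg, hc]
  have hc'' : -c * c = -1 := by rw [neg_mul, hc]
  by_cases hki : k = i <;> by_cases hkj : k = j <;> by_cases hli : l = i <;> by_cases hlj : l = j <;>
      by_cases hkl : k = l <;> simp_all

theorem ompe2_wE_coe (i j : ι) (hij : i ≠ j) :
    ((wE i j : Matrix.SpecialLinearGroup ι F) : Matrix ι ι F) =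
      1 - Matrix.single i i 1 - Matrix.single j j 1 + Matrix.single i j 1 - Matrix.single j i 1 := by
  rw [← ompe2_word i j hij 1 (one_mul 1)]
  unfold wE
  simp only [Matrix.SpecialLinearGroup.coe_mul, tv_coe hij, tv_coe hij.symm, Matrix.transvection]

theorem ompe2_wn_coe (i j : ι) (hij : i ≠ j) :
    ((wn i j : Matrix.SpecialLinearGroup ι F) : Matrix ι ι F) =
      1 - Matrix.single i i 1 - Matrix.single j j 1 + Matrix.single i j (-1) - Matrix.single j i (-1) := by
  rw [← ompe2_word i j hij (-1) (by ring)]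
  unfold wn
  simp only [Matrix.SpecialLinearGroup.coe_mul, tv_coe hij, tv_coe hij.symm, Matrix.transvection, neg_neg]

theorem wn_eq_wE (i j : ι) (hij : i ≠ j) : (wn i j : Matrix.SpecialLinearGroup ι F) = wE j i := by
  apply Subtype.ext
  rw [ompe2_wn_coe i j hij, ompe2_wE_coe j i hij.symm]
  ext k l
  simp only [Matrix.add_apply, Matrix.sub_apply, Matrix.one_apply, Matrix.single_apply]
  split_ifs <;> ring

theorem wE_inv (i j : ι) (hij : i ≠ j) : (wE i j : Matrix.SpecialLinearGroup ι F)⁻¹ = wE j i := by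
  rw [← wn_eq_wE i j hij]
  unfold wE wn
  rw [_root_.mul_inv_rev, _root_.mul_inv_rev, tv_inv, tv_inv, neg_neg, mul_assoc]

theorem wE_mul_self (i j : ι) (hij : i ≠ j) : (wE i j : Matrix.SpecialLinearGroup ι F) * wE i j = hm i j := by
  apply Subtype.ext
  unfold hm
  rw [Matrix.SpecialLinearGroup.coe_mul, ompe2_wE_coe i j hij, hE_coe i j hij (-1) (neg_ne_zero.mpr one_ne_zero)]
  have hji : j ≠ i := hij.symm
  simp only [mul_add, add_mul, mul_sub, sub_mul, mul_one, one_mul, single_mul_single_same,
      single_mul_single_of_ne _ _ _ _ hij, single_mul_single_of_ne _ _ _ _ hij.symm]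
  ext k l
  simp only [Matrix.add_apply, Matrix.sub_apply, Matrix.one_apply, Matrix.single_apply, Matrix.diagonal_apply,
    Matrix.zero_apply]
  simp only [@eq_comm _ i k, @eq_comm _ j k, @eq_comm _ i l, @eq_comm _ j l]
  by_cases hki : k = i <;> by_cases hkj : k = j <;> by_cases hli : l = i <;> by_cases hlj : l = j <;>
      by_cases hkl : k = l <;> simp_all

end E

end Cfsg.Agent.Lib.helper17.OMP
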