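import Mathlib
import Cfsg.Agent.Lib.Helper19.ORE.Defs
import Cfsg.Agent.Lib.Helper13.OREA3

/-!
# Project ORE (S2444, designer helper19), row B2 (`block_lu`): core with the two needed
instances of B1 (`sylvester`) as hypotheses.
-/

set_option autoImplicit false

namespace Cfsg.Agent.Lib.Helper19.ORE

open Polynomial Module

universe u v w v₁ v₂ v₃ v₄

section General
variable {F : Type u} [Field F]

/-- `aeval` commutes with conjugation by a linear equivalence. -/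
theorem oreb2_aeval_conj {V : Type v} {W : Type w} [AddCommGroup V] [Module F V]
    [AddCommGroup W] [Module F W] (e : V ≃ₗ[F] W) (f : V →ₗ[F] V) (p : F[X]) :
    aeval (e.conjAlgEquiv F f) p = e.conjAlgEquiv F (aeval f p) :=
  aeval_algHom_apply (e.conjAlgEquiv F) f p

/-- `SolP` transported along coordinates. -/
theorem oreb2_solP_transport {V : Type v} {W : Type w} [AddCommGroup V] [Module F V]
    [AddCommGroup W] [Module F W] (e : V ≃ₗ[F] W) (g : V ≃ₗ[F] V) (G : W ≃ₗ[F] W)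
    (hG : ∀ w, G w = e (g (e.symm w))) {D E : Fˣ} {p : F[X]} (hs : SolP G D E p) :
    SolP g D E p := by
  obtain ⟨A', y', h1, hD, hE, hp⟩ := hs
  refine ⟨(e.trans A').trans e.symm, (e.trans y').trans e.symm, ?_, ?_, ?_, ?_⟩
  · apply LinearEquiv.ext
    intro v
    have h2 := LinearEquiv.congr_fun h1 (e v)
    simp only [LinearEquiv.mul_apply] at h2
    rw [hG, LinearEquiv.symm_apply_apply] at h2
    have hinv : ∀ x, ((e.trans y').trans e.symm)⁻¹ x = e.symm (y'⁻¹ (e x)) := by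
      intro x
      rfl
    simp only [LinearEquiv.mul_apply, hinv, LinearEquiv.trans_apply,
      LinearEquiv.apply_symm_apply]
    rw [h2]
  · have := LinearEquiv.det_conj A' e.symm
    rw [LinearEquiv.symm_symm] at this
    rw [this, hD]
  · have := LinearEquiv.det_conj y' e.symm
    rw [LinearEquiv.symm_symm] at this
    rw [this, hE]
  · have hA : (((e.trans A').trans e.symm : V ≃ₗ[F] V) : V →ₗ[F] V) =
        e.symm.conjAlgEquiv F (A' : W →ₗ[F] W) := by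
      apply LinearMap.ext
      intro x
      simp [LinearEquiv.conjAlgEquiv_apply]
    rw [hA, oreb2_aeval_conj, hp, map_zero]

/-- lower shear `(x₁, x₂) ↦ (x₁, x₂ + X x₁)` -/
noncomputable def oreb2Lower {X₁ : Type v₁} {X₂ : Type v₂} [AddCommGroup X₁] [Module F X₁]
    [AddCommGroup X₂] [Module F X₂] (X : X₁ →ₗ[F] X₂) : (X₁ × X₂) ≃ₗ[F] (X₁ × X₂) :=
  (LinearEquiv.refl F X₁).skewProd (LinearEquiv.refl F X₂) X

/-- upper shear `(x₁, x₂) ↦ (x₁ + Y x₂, x₂)` -/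
noncomputable def oreb2Upper {X₁ : Type v₁} {X₂ : Type v₂} [AddCommGroup X₁] [Module F X₁]
    [AddCommGroup X₂] [Module F X₂] (Y : X₂ →ₗ[F] X₁) : (X₁ × X₂) ≃ₗ[F] (X₁ × X₂) :=
  ((LinearEquiv.prodComm F X₁ X₂).trans
    ((LinearEquiv.refl F X₂).skewProd (LinearEquiv.refl F X₁) Y)).trans
    (LinearEquiv.prodComm F X₂ X₁)

section shear
variable {X₁ : Type v₁} {X₂ : Type v₂} [AddCommGroup X₁] [Module F X₁]
    [AddCommGroup X₂] [Module F X₂]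

theorem oreb2Lower_apply (X : X₁ →ₗ[F] X₂) (x₁ : X₁) (x₂ : X₂) :
    oreb2Lower X (x₁, x₂) = (x₁, x₂ + X x₁) := by
  simp [oreb2Lower]

theorem oreb2Lower_inv_apply (X : X₁ →ₗ[F] X₂) (x₁ : X₁) (x₂ : X₂) :
    (oreb2Lower X)⁻¹ (x₁, x₂) = (x₁, x₂ - X x₁) := by
  rw [LinearEquiv.coe_inv]
  simp [oreb2Lower]

theorem oreb2Upper_apply (Y : X₂ →ₗ[F] X₁) (x₁ : X₁) (x₂ : X₂) :
    oreb2Upper Y (x₁, x₂) = (x₁ + Y x₂, x₂) := by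
  simp [oreb2Upper]

theorem oreb2Lower_det [FiniteDimensional F X₁] [FiniteDimensional F X₂] (X : X₁ →ₗ[F] X₂) :
    LinearEquiv.det (oreb2Lower X) = 1 := by
  apply Units.ext
  rw [LinearEquiv.coe_det, Units.val_one]
  have : ((oreb2Lower X : (X₁ × X₂) ≃ₗ[F] (X₁ × X₂)) : (X₁ × X₂) →ₗ[F] (X₁ × X₂)) =
      (LinearMap.id : X₁ × X₂ →ₗ[F] X₁ × X₂) +
        (LinearMap.inr F X₁ X₂ ∘ₗ X) ∘ₗ LinearMap.fst F X₁ X₂ := by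
    apply LinearMap.ext
    rintro ⟨x₁, x₂⟩
    simp [oreb2Lower_apply]
  rw [this, orea3_det_lower]

theorem oreb2Upper_det [FiniteDimensional F X₁] [FiniteDimensional F X₂] (Y : X₂ →ₗ[F] X₁) :
    LinearEquiv.det (oreb2Upper Y) = 1 := by
  apply Units.ext
  rw [LinearEquiv.coe_det, Units.val_one]
  have : ((oreb2Upper Y : (X₁ × X₂) ≃ₗ[F] (X₁ × X₂)) : (X₁ × X₂) →ₗ[F] (X₁ × X₂)) =
      (LinearMap.id : X₁ × X₂ →ₗ[F] X₁ × X₂) +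
        (LinearMap.inl F X₁ X₂ ∘ₗ Y) ∘ₗ LinearMap.snd F X₁ X₂ := by
    apply LinearMap.ext
    rintro ⟨x₁, x₂⟩
    simp [oreb2Upper_apply]
  rw [this, orea3_det_upper]

/-- `aeval` of a block diagonal map vanishes if it vanishes on both blocks. -/
theorem oreb2_aeval_prodMap (A₁ : X₁ →ₗ[F] X₁) (A₂ : X₂ →ₗ[F] X₂) (q : F[X])
    (h₁ : aeval A₁ q = 0) (h₂ : aeval A₂ q = 0) :
    aeval (LinearMap.prodMap A₁ A₂) q = 0 := by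
  have h : LinearMap.prodMap A₁ A₂ = LinearMap.prodMapAlgHom F X₁ X₂ (A₁, A₂) := rfl
  rw [h, aeval_algHom_apply, aeval_prod_apply, h₁, h₂]
  exact map_zero _

end shear

/-- **B2 on a product**: the construction in the coordinates of the `Split`. -/
theorem oreb2_prod {X₁ : Type v₁} {X₂ : Type v₂} [AddCommGroup X₁] [Module F X₁]
    [AddCommGroup X₂] [Module F X₂] [FiniteDimensional F X₁] [FiniteDimensional F X₂]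
    (G : (X₁ × X₂) ≃ₗ[F] (X₁ × X₂)) (g₁ : X₁ ≃ₗ[F] X₁) (g₂ : X₂ ≃ₗ[F] X₂)
    (b : X₂ →ₗ[F] X₁) (c : X₁ →ₗ[F] X₂)
    (hG : ∀ x₁ x₂, G (x₁, x₂) = (g₁ x₁ + b x₂, c x₁ + (g₂ x₂ + c (g₁.symm (b x₂)))))
    {D₁ E₁ D₂ E₂ : Fˣ} {p₁ p₂ : F[X]} (h₁ : SolP g₁ D₁ E₁ p₁) (h₂ : SolP g₂ D₂ E₂ p₂)
    (hp : IsCoprime p₁ p₂)
    (hS₁ : ∀ (A₁ : X₁ →ₗ[F] X₁) (A₂ : X₂ →ₗ[F] X₂) (q₁ q₂ : F[X]), IsCoprime q₁ q₂ →
      aeval A₁ q₁ = 0 → aeval A₂ q₂ = 0 → ∀ C : X₁ →ₗ[F] X₂,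
        ∃ X : X₁ →ₗ[F] X₂, A₂ ∘ₗ X - X ∘ₗ A₁ = C)
    (hS₂ : ∀ (A₁ : X₂ →ₗ[F] X₂) (A₂ : X₁ →ₗ[F] X₁) (q₁ q₂ : F[X]), IsCoprime q₁ q₂ →
      aeval A₁ q₁ = 0 → aeval A₂ q₂ = 0 → ∀ C : X₂ →ₗ[F] X₁,
        ∃ X : X₂ →ₗ[F] X₁, A₂ ∘ₗ X - X ∘ₗ A₁ = C) :
    SolP G (D₁ * D₂) (E₁ * E₂) (p₁ * p₂) := by
  obtain ⟨A₁, y₁, e₁, hD₁, hE₁, hp₁⟩ := h₁
  obtain ⟨A₂, y₂, e₂, hD₂, hE₂, hp₂⟩ := h₂
  -- `p_i (B_i) = 0` for `B_i = A_i g_i = y_i A_i y_i⁻¹`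
  have hB₁ : aeval ((A₁ * g₁ : X₁ ≃ₗ[F] X₁) : X₁ →ₗ[F] X₁) p₁ = 0 := by
    have : ((A₁ * g₁ : X₁ ≃ₗ[F] X₁) : X₁ →ₗ[F] X₁) =
        y₁.conjAlgEquiv F (A₁ : X₁ →ₗ[F] X₁) := by
      rw [e₁]
      apply LinearMap.ext
      intro x
      simp [LinearEquiv.conjAlgEquiv_apply, LinearEquiv.coe_inv]
    rw [this, oreb2_aeval_conj, hp₁, map_zero]
  have hB₂ : aeval ((A₂ * g₂ : X₂ ≃ₗ[F] X₂) : X₂ →ₗ[F] X₂) p₂ = 0 := by
    have : ((A₂ * g₂ : X₂ ≃ₗ[F] X₂) : X₂ →ₗ[F] X₂) =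
        y₂.conjAlgEquiv F (A₂ : X₂ →ₗ[F] X₂) := by
      rw [e₂]
      apply LinearMap.ext
      intro x
      simp [LinearEquiv.conjAlgEquiv_apply, LinearEquiv.coe_inv]
    rw [this, oreb2_aeval_conj, hp₂, map_zero]
  -- the two Sylvester equations
  obtain ⟨X, hX⟩ := hS₁ (A₁ : X₁ →ₗ[F] X₁) (A₂ : X₂ →ₗ[F] X₂) p₁ p₂ hp hp₁ hp₂
    ((A₂ : X₂ →ₗ[F] X₂) ∘ₗ c ∘ₗ (g₁.symm : X₁ →ₗ[F] X₁))
  obtain ⟨Y, hY⟩ := hS₂ ((A₂ * g₂ : X₂ ≃ₗ[F] X₂) : X₂ →ₗ[F] X₂)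
    ((A₁ * g₁ : X₁ ≃ₗ[F] X₁) : X₁ →ₗ[F] X₁) p₂ p₁ hp.symm hB₂ hB₁
    (-((A₁ : X₁ →ₗ[F] X₁) ∘ₗ b))
  have hX' : ∀ x, A₂ (X x) - X (A₁ x) = A₂ (c (g₁.symm x)) := by
    intro x
    have := LinearMap.congr_fun hX x
    simpa using this
  have hY' : ∀ x, A₁ (g₁ (Y x)) - Y (A₂ (g₂ x)) = -(A₁ (b x)) := by
    intro x
    have := LinearMap.congr_fun hY x
    simpa using this
  -- the solution
  set Pe := oreb2Lower X with hPe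
  set Qe := oreb2Upper Y with hQe
  set Ad : (X₁ × X₂) ≃ₗ[F] (X₁ × X₂) := A₁.prodCongr A₂ with hAd
  set yd : (X₁ × X₂) ≃ₗ[F] (X₁ × X₂) := y₁.prodCongr y₂ with hyd
  set Bd : (X₁ × X₂) ≃ₗ[F] (X₁ × X₂) := (A₁ * g₁).prodCongr (A₂ * g₂) with hBd
  have hBd' : yd * Ad * yd⁻¹ = Bd := by
    apply LinearEquiv.ext
    rintro ⟨x₁, x₂⟩
    simp only [LinearEquiv.mul_apply, hAd, hyd, hBd, LinearEquiv.prodCongr_apply, e₁, e₂]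
    rfl
  have hkey : Pe * Ad * Pe⁻¹ * G * Qe = Qe * Bd := by
    apply LinearEquiv.ext
    rintro ⟨x₁, x₂⟩
    simp only [LinearEquiv.mul_apply, hQe, hPe, oreb2Upper_apply, hG, oreb2Lower_inv_apply,
      hAd, hBd, LinearEquiv.prodCongr_apply, oreb2Lower_apply]
    ext
    · simp only [map_add]
      have := hY' x₂
      rw [sub_eq_iff_eq_add] at this
      rw [add_assoc, this]
      abel
    · simp only [map_add, map_sub, LinearEquiv.symm_apply_apply]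
      have h3 := hX' (g₁ x₁ + g₁ (Y x₂) + b x₂)
      simp only [map_add, LinearEquiv.symm_apply_apply] at h3
      rw [sub_eq_iff_eq_add] at h3
      rw [h3]
      abel
  have hmain : Pe * Ad * Pe⁻¹ * G = Qe * yd * Pe⁻¹ * (Pe * Ad * Pe⁻¹) * (Qe * yd * Pe⁻¹)⁻¹ := by
    have h4 : Pe * Ad * Pe⁻¹ * G = Qe * Bd * Qe⁻¹ := by
      rw [← hkey]; group
    rw [h4, ← hBd']; group
  refine ⟨Pe * Ad * Pe⁻¹, Qe * yd * Pe⁻¹, hmain, ?_, ?_, ?_⟩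
  · rw [map_mul, map_mul, map_inv, mul_comm, ← mul_assoc, inv_mul_cancel, one_mul, hAd]
    have : LinearEquiv.det (A₁.prodCongr A₂) = LinearEquiv.det A₁ * LinearEquiv.det A₂ := by
      apply Units.ext
      rw [Units.val_mul, LinearEquiv.coe_det, LinearEquiv.coe_det, LinearEquiv.coe_det]
      exact LinearMap.det_prodMap (A₁ : X₁ →ₗ[F] X₁) (A₂ : X₂ →ₗ[F] X₂)
    rw [this, hD₁, hD₂]
  · rw [map_mul, map_mul, map_inv, hPe, hQe, oreb2Lower_det, oreb2Upper_det, one_mul, inv_one,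
      mul_one, hyd]
    have : LinearEquiv.det (y₁.prodCongr y₂) = LinearEquiv.det y₁ * LinearEquiv.det y₂ := by
      apply Units.ext
      rw [Units.val_mul, LinearEquiv.coe_det, LinearEquiv.coe_det, LinearEquiv.coe_det]
      exact LinearMap.det_prodMap (y₁ : X₁ →ₗ[F] X₁) (y₂ : X₂ →ₗ[F] X₂)
    rw [this, hE₁, hE₂]
  · have hA : ((Pe * Ad * Pe⁻¹ : (X₁ × X₂) ≃ₗ[F] (X₁ × X₂)) : (X₁ × X₂) →ₗ[F] (X₁ × X₂)) =
        Pe.conjAlgEquiv F (LinearMap.prodMap (A₁ : X₁ →ₗ[F] X₁) (A₂ : X₂ →ₗ[F] X₂)) := by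
      apply LinearMap.ext
      intro x
      simp [LinearEquiv.conjAlgEquiv_apply, LinearEquiv.coe_inv, hAd]
    rw [hA, oreb2_aeval_conj, oreb2_aeval_prodMap, map_zero]
    · rw [map_mul, hp₁, zero_mul]
    · rw [map_mul, hp₂, mul_zero]

/-- **B2 core**: `block_lu` from two instances of `sylvester`. -/
theorem oreb2_core {V : Type v} {X₁ : Type v₁} {X₂ : Type v₂} [AddCommGroup V] [Module F V]
    [AddCommGroup X₁] [Module F X₁] [AddCommGroup X₂] [Module F X₂]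
    [FiniteDimensional F V] [FiniteDimensional F X₁] [FiniteDimensional F X₂]
    {g : V ≃ₗ[F] V} {g₁ : X₁ ≃ₗ[F] X₁} {g₂ : X₂ ≃ₗ[F] X₂} (h : Split g g₁ g₂)
    {D₁ E₁ D₂ E₂ : Fˣ} {p₁ p₂ : F[X]} (h₁ : SolP g₁ D₁ E₁ p₁) (h₂ : SolP g₂ D₂ E₂ p₂)
    (hp : IsCoprime p₁ p₂)
    (hS₁ : ∀ (A₁ : X₁ →ₗ[F] X₁) (A₂ : X₂ →ₗ[F] X₂) (q₁ q₂ : F[X]), IsCoprime q₁ q₂ →
      aeval A₁ q₁ = 0 → aeval A₂ q₂ = 0 → ∀ C : X₁ →ₗ[F] X₂,
        ∃ X : X₁ →ₗ[F] X₂, A₂ ∘ₗ X - X ∘ₗ A₁ = C)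
    (hS₂ : ∀ (A₁ : X₂ →ₗ[F] X₂) (A₂ : X₁ →ₗ[F] X₁) (q₁ q₂ : F[X]), IsCoprime q₁ q₂ →
      aeval A₁ q₁ = 0 → aeval A₂ q₂ = 0 → ∀ C : X₂ →ₗ[F] X₁,
        ∃ X : X₂ →ₗ[F] X₁, A₂ ∘ₗ X - X ∘ₗ A₁ = C) :
    SolP g (D₁ * D₂) (E₁ * E₂) (p₁ * p₂) := by
  obtain ⟨e, b, c, he⟩ := h
  apply oreb2_solP_transport e g ((e.symm.trans g).trans e) (fun w => rfl)
  apply oreb2_prod _ g₁ g₂ b c _ h₁ h₂ hp hS₁ hS₂
  intro x₁ x₂
  exact he x₁ x₂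

end General

end Cfsg.Agent.Lib.Helper19.ORE
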