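import Mathlib
import Cfsg.Agent.Lib.Helper19.ORE.Defs
import Cfsg.Agent.Lib.Helper13.OREB2core
import Cfsg.Agent.Lib.Helper11.OREB1

/-!
# Project ORE (S2444, designer helper19), row B2 (`block_lu`), verbatim.
-/

set_option autoImplicit false

namespace Cfsg.Agent.Lib.Helper19.ORE

open Polynomial Module

universe u v w v₁ v₂ v₃ v₄

section General
variable {F : Type u} [Field F]

/-- **B2** (block LU assembly). -/
theorem block_lu {V : Type v} {X₁ : Type v₁} {X₂ : Type v₂} [AddCommGroup V] [Module F V]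
    [AddCommGroup X₁] [Module F X₁] [AddCommGroup X₂] [Module F X₂]
    [FiniteDimensional F V] [FiniteDimensional F X₁] [FiniteDimensional F X₂]
    {g : V ≃ₗ[F] V} {g₁ : X₁ ≃ₗ[F] X₁} {g₂ : X₂ ≃ₗ[F] X₂} (h : Split g g₁ g₂)
    {D₁ E₁ D₂ E₂ : Fˣ} {p₁ p₂ : F[X]} (h₁ : SolP g₁ D₁ E₁ p₁) (h₂ : SolP g₂ D₂ E₂ p₂)
    (hp : IsCoprime p₁ p₂) : SolP g (D₁ * D₂) (E₁ * E₂) (p₁ * p₂) :=
  oreb2_core h h₁ h₂ hp
    (fun A₁ A₂ q₁ q₂ hq k₁ k₂ C => sylvester A₁ A₂ q₁ q₂ hq k₁ k₂ C)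
    (fun A₁ A₂ q₁ q₂ hq k₁ k₂ C => sylvester A₁ A₂ q₁ q₂ hq k₁ k₂ C)

end General

end Cfsg.Agent.Lib.Helper19.ORE
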