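import Mathlib
import Cfsg.Agent.Lib.Helper13.OTS.Defs
import Cfsg.Agent.Lib.Helper21.OTSPERPCOUNT
import Cfsg.Agent.Lib.Helper11.S5955C1

/-!
# Project OTS (designer helper13), row COUNT (`q_ts_count`), verbatim: the number of totally singular `m`-spaces of a
standard quadratic space of dimension `2d` and type `ε`, all characteristics.  Port of `Helper13/S5972COUNTcore.lean`
(singular frames; extensions of a frame counted by PERPCOUNT; fibres of `span` are the bases of an `m`-space).
-/

set_option autoImplicit false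
set_option linter.unusedVariables false

namespace Cfsg.Agent.Lib.Helper13.OTS

open Polynomial Module Cfsg.Agent.Lib.Helper13.S5955 Cfsg.Agent.Lib.helper15.S5972

/-- singular frames of `Qs` -/
def otscount_Fr {F : Type*} [Field F] {ι : Type} [Fintype ι] [DecidableEq ι]
    (Qs : QuadraticForm F (ι → F)) (k : ℕ) : Set (Fin k → (ι → F)) :=
  {f | LinearIndependent F f ∧ (∀ i, Qs (f i) = 0) ∧ ∀ i j, QuadraticMap.polar Qs (f i) (f j) = 0}

/-- vectors orthogonal to the frame are orthogonal to its span -/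
theorem otscount_orth_span {F : Type*} [Field F] {ι : Type} [Fintype ι] [DecidableEq ι]
    (Qs : QuadraticForm F (ι → F)) {k : ℕ} (s : Fin k → (ι → F)) (w : ι → F)
    (h : ∀ i, QuadraticMap.polar Qs (s i) w = 0) :
    ∀ u ∈ Submodule.span F (Set.range s), QuadraticMap.polar Qs u w = 0 := by
  intro u hu
  induction hu using Submodule.span_induction with
  | mem x hx =>
    obtain ⟨i, rfl⟩ := hx
    exact h i
  | zero => simp
  | add a b _ _ ha hb => rw [QuadraticMap.polar_add_left, ha, hb, add_zero]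
  | smul c a _ ha => rw [QuadraticMap.polar_smul_left, ha, smul_zero]

/-- the span of a singular frame is totally isotropic for the polar form -/
theorem otscount_iso_span {F : Type*} [Field F] {ι : Type} [Fintype ι] [DecidableEq ι]
    (Qs : QuadraticForm F (ι → F)) {k : ℕ} (s : Fin k → (ι → F))
    (hs : ∀ i j, QuadraticMap.polar Qs (s i) (s j) = 0) :
    ∀ u ∈ Submodule.span F (Set.range s), ∀ v ∈ Submodule.span F (Set.range s),
      QuadraticMap.polar Qs u v = 0 := by
  intro u hu v hv
  apply otscount_orth_span Qs s v _ u hu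
  intro i
  rw [QuadraticMap.polar_comm]
  exact otscount_orth_span Qs s (s i) (fun j => hs j i) v hv

/-- the span of a singular frame is totally singular -/
theorem otscount_ts_span {F : Type*} [Field F] {ι : Type} [Fintype ι] [DecidableEq ι]
    (Qs : QuadraticForm F (ι → F)) {k : ℕ} (s : Fin k → (ι → F)) (hs0 : ∀ i, Qs (s i) = 0)
    (hs : ∀ i j, QuadraticMap.polar Qs (s i) (s j) = 0) :
    ∀ u ∈ Submodule.span F (Set.range s), Qs u = 0 := by
  have hiso := otscount_iso_span Qs s hs
  intro u hu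
  induction hu using Submodule.span_induction with
  | mem x hx =>
    obtain ⟨i, rfl⟩ := hx
    exact hs0 i
  | zero => simp
  | add a b ha' hb' ha hb =>
    rw [QuadraticMap.map_add Qs a b, ha, hb, hiso a ha' b hb']; simp
  | smul c a _ ha => rw [QuadraticMap.map_smul, ha, smul_zero]

/-- vectors extending a singular frame -/
def otscount_Ext {F : Type*} [Field F] {ι : Type} [Fintype ι] [DecidableEq ι]
    (Qs : QuadraticForm F (ι → F)) {k : ℕ} (s : Fin k → (ι → F)) : Set (ι → F) :=
  {w | (∀ i, QuadraticMap.polar Qs (s i) w = 0) ∧ Qs w = 0 ∧ w ∉ Submodule.span F (Set.range s)}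

/-- frames of length `k+1` are frames of length `k` with an extension vector -/
def otscount_frEquiv {F : Type*} [Field F] {ι : Type} [Fintype ι] [DecidableEq ι]
    (Qs : QuadraticForm F (ι → F)) (k : ℕ) :
    ↥(otscount_Fr Qs (k + 1)) ≃
      Σ s : ↥(otscount_Fr Qs k), ↥(otscount_Ext Qs (s : Fin k → (ι → F))) where
  toFun f := ⟨⟨Fin.tail f.1, (linearIndependent_finSucc.mp f.2.1).1, fun i => f.2.2.1 _,
      fun i j => f.2.2.2 _ _⟩,
    ⟨f.1 0, fun i => f.2.2.2 _ _, f.2.2.1 _, (linearIndependent_finSucc.mp f.2.1).2⟩⟩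
  invFun x := ⟨Fin.cons x.2.1 x.1.1, linearIndependent_finCons.mpr ⟨x.1.2.1, x.2.2.2.2⟩, by
    intro i
    refine Fin.cases ?_ (fun i' => ?_) i
    · simp only [Fin.cons_zero]; exact x.2.2.2.1
    · simp only [Fin.cons_succ]; exact x.1.2.2.1 i', by
    intro i j
    refine Fin.cases ?_ (fun i' => ?_) i <;> refine Fin.cases ?_ (fun j' => ?_) j
    · simp only [Fin.cons_zero]
      rw [QuadraticMap.polar_self, x.2.2.2.1, smul_zero]
    · simp only [Fin.cons_zero, Fin.cons_succ]
      rw [QuadraticMap.polar_comm]; exact x.2.2.1 j'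
    · simp only [Fin.cons_zero, Fin.cons_succ]
      exact x.2.2.1 i'
    · simp only [Fin.cons_succ]
      exact x.1.2.2.2 i' j'⟩
  left_inv f := by
    apply Subtype.ext
    simp only [Fin.cons_self_tail]
  right_inv := fun ⟨_, _⟩ => rfl

theorem otscount_card_Ext {F : Type*} [Field F] [Fintype F] {ι : Type} [Fintype ι] [DecidableEq ι]
    (Qs : QuadraticForm F (ι → F)) (d : ℕ) (ε : ℤ) (hs : QStd Qs d ε) {k : ℕ} (hk : k + 1 ≤ d)
    (s : Fin k → (ι → F)) (hsF : s ∈ otscount_Fr Qs k) :
    ((otscount_Ext Qs s).ncard : ℤ) = (Fintype.card F : ℤ) ^ k *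
      (((Fintype.card F : ℤ) ^ (d - k) - ε) * ((Fintype.card F : ℤ) ^ (d - 1 - k) + ε)) := by
  classical
  set W : Submodule F (ι → F) := Submodule.span F (Set.range s) with hW
  have hU : Module.finrank F W = k := by
    rw [hW, finrank_span_eq_card hsF.1, Fintype.card_fin]
  have hWti := otscount_iso_span Qs s hsF.2.2
  have hWts : ∀ w ∈ W, Qs w = 0 := otscount_ts_span Qs s hsF.2.1 hsF.2.2
  set A : Set (ι → F) := {v | Qs v = 0 ∧ ∀ w ∈ W, QuadraticMap.polar Qs w v = 0} with hA
  have hle : (W : Set (ι → F)) ⊆ A := by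
    intro x hx
    exact ⟨hWts x hx, fun w hw => hWti w hw x hx⟩
  have hset : otscount_Ext Qs s = A \ (W : Set (ι → F)) := by
    ext w
    simp only [otscount_Ext, hA, Set.mem_ofPred_eq, Set.mem_sdiff, SetLike.mem_coe]
    constructor
    · rintro ⟨h1, h3, h4⟩
      exact ⟨⟨h3, otscount_orth_span Qs s w h1⟩, h4⟩
    · rintro ⟨⟨h1, h3⟩, h4⟩
      exact ⟨fun i => h3 _ (Submodule.subset_span ⟨i, rfl⟩), h1, h4⟩
  have e1 := q_perp_count Qs d ε hs k (by omega) W hU hWts
  have e2 : Nat.card ↥(W : Set (ι → F)) = Fintype.card F ^ k := by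
    rw [SetLike.coe_sort_coe, Nat.card_eq_fintype_card, Module.card_eq_pow_finrank (K := F), hU]
  have hAW : (W : Set (ι → F)).ncard ≤ A.ncard := Set.ncard_le_ncard hle (Set.toFinite _)
  rw [hset, Set.ncard_sdiff hle (Set.toFinite _), Nat.cast_sub hAW, ← Nat.card_coe_set_eq A,
    ← Nat.card_coe_set_eq (W : Set (ι → F)), e2]
  have hq0 : (Fintype.card F : ℤ) ≠ 0 := by
    have : 0 < Fintype.card F := Fintype.card_pos
    exact_mod_cast this.ne'
  apply mul_left_cancel₀ hq0
  have e1' : (Fintype.card F : ℤ) * (Nat.card ↥A : ℤ) = _ := e1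
  rw [mul_sub, e1']
  have hε2 : ε * ε = 1 := by
    rcases hs.eps with h | h <;> rw [h] <;> norm_num
  have h1 : 2 * (d - k) = (d - 1 - k) + (d - 1 - k) + 2 := by omega
  have h2 : d - k + 1 = (d - 1 - k) + 2 := by omega
  have h3 : d - k = (d - 1 - k) + 1 := by omega
  rw [h1, h2, h3]
  push_cast
  simp only [pow_add, pow_one]
  generalize (Fintype.card F : ℤ) ^ k = X
  generalize (Fintype.card F : ℤ) ^ (d - 1 - k) = Y
  generalize (Fintype.card F : ℤ) = q
  linear_combination (q * X) * hε2

theorem otscount_card_Fr {F : Type*} [Field F] [Fintype F] {ι : Type} [Fintype ι] [DecidableEq ι]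
    (Qs : QuadraticForm F (ι → F)) (d : ℕ) (ε : ℤ) (hs : QStd Qs d ε) (k : ℕ) (hk : k ≤ d) :
    ((otscount_Fr Qs k).ncard : ℤ) =
      ∏ i ∈ Finset.range k, ((Fintype.card F : ℤ) ^ i *
        (((Fintype.card F : ℤ) ^ (d - i) - ε) * ((Fintype.card F : ℤ) ^ (d - 1 - i) + ε))) := by
  classical
  induction k with
  | zero =>
    rw [Finset.prod_range_zero]
    have : otscount_Fr Qs 0 = {fun i => Fin.elim0 i} := by
      ext f
      simp only [otscount_Fr, Set.mem_ofPred_eq, Set.mem_singleton_iff]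
      constructor
      · intro _; funext i; exact Fin.elim0 i
      · intro _
        exact ⟨linearIndependent_empty_type, fun i => Fin.elim0 i, fun i => Fin.elim0 i⟩
    rw [this, Set.ncard_singleton]; rfl
  | succ k ih =>
    rw [Finset.prod_range_succ, ← ih (by omega), ← Nat.card_coe_set_eq,
      Nat.card_congr (otscount_frEquiv Qs k), Nat.card_sigma]
    have : ∀ s : ↥(otscount_Fr Qs k),
        (Nat.card ↥(otscount_Ext Qs (s : Fin k → (ι → F))) : ℤ) =
        (Fintype.card F : ℤ) ^ k *
          (((Fintype.card F : ℤ) ^ (d - k) - ε) * ((Fintype.card F : ℤ) ^ (d - 1 - k) + ε)) := by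
      intro s
      rw [Nat.card_coe_set_eq, otscount_card_Ext Qs d ε hs (by omega) _ s.2]
    push_cast
    simp only [this]
    rw [Finset.sum_const, nsmul_eq_mul, Finset.card_univ, ← Nat.card_eq_fintype_card,
      Nat.card_coe_set_eq]

/-- the number of bases of a `k`-dimensional subspace -/
theorem otscount_card_frames {F : Type*} [Field F] [Fintype F] {ι : Type} [Fintype ι] [DecidableEq ι]
    {k : ℕ} (W : Submodule F (ι → F)) (hWk : Module.finrank F W = k) :
    ({f : Fin k → (ι → F) |
        LinearIndependent F f ∧ Submodule.span F (Set.range f) = W}).ncard =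
      ∏ i : Fin k, (Fintype.card F ^ k - Fintype.card F ^ (i : ℕ)) := by
  have h1 := card_linearIndependent (K := F) (V := W) (k := k) (by rw [hWk])
  rw [hWk] at h1
  rw [← h1, ← Nat.card_coe_set_eq]
  apply Nat.card_congr
  refine
    { toFun := fun f => ⟨fun i => ⟨f.1 i, by
          have h0 : Submodule.span F (Set.range f.1) ≤ W := le_of_eq f.2.2
          exact h0 (Submodule.subset_span ⟨i, rfl⟩)⟩, ?_⟩
      invFun := fun s => ⟨fun i => (s.1 i : ι → F), ?_, ?_⟩
      left_inv := fun f => rfl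
      right_inv := fun s => rfl }
  · apply LinearIndependent.of_comp W.subtype
    exact f.2.1
  · exact s.2.map' W.subtype (Submodule.ker_subtype W)
  · have h2 : Submodule.span F (Set.range s.1) = ⊤ := by
      apply LinearIndependent.span_eq_top_of_card_eq_finrank' s.2
      rw [Fintype.card_fin, hWk]
    have h3 : Set.range (fun i => (s.1 i : ι → F)) =
        W.subtype '' Set.range s.1 := by
      rw [← Set.range_comp]; rfl
    rw [h3, Submodule.span_image, h2, Submodule.map_subtype_top]

/-- the span of a frame, as a point of `TSq` -/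
noncomputable def otscount_spanMap {F : Type*} [Field F] {ι : Type} [Fintype ι] [DecidableEq ι]
    (Qs : QuadraticForm F (ι → F)) (m : ℕ) (f : ↥(otscount_Fr Qs m)) : TSq Qs m :=
  ⟨Submodule.span F (Set.range f.1), by
    rw [finrank_span_eq_card f.2.1, Fintype.card_fin],
    otscount_ts_span Qs f.1 f.2.2.1 f.2.2.2⟩

/-- a totally singular subspace is totally isotropic for the polar form -/
theorem otscount_polar_of_ts {F : Type*} [Field F] {ι : Type} [Fintype ι] [DecidableEq ι]
    (Qs : QuadraticForm F (ι → F)) (W : Submodule F (ι → F)) (hW : ∀ w ∈ W, Qs w = 0)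
    (u v : ι → F) (hu : u ∈ W) (hv : v ∈ W) : QuadraticMap.polar Qs u v = 0 := by
  unfold QuadraticMap.polar
  rw [hW _ (W.add_mem hu hv), hW u hu, hW v hv]; ring

/-- the fibre of the span map over `W` is the set of bases of `W` -/
noncomputable def otscount_fibreEquiv {F : Type*} [Field F] {ι : Type} [Fintype ι] [DecidableEq ι]
    (Qs : QuadraticForm F (ι → F)) (m : ℕ) (W : TSq Qs m) :
    {f : ↥(otscount_Fr Qs m) // otscount_spanMap Qs m f = W} ≃
      ↥({f : Fin m → (ι → F) |
        LinearIndependent F f ∧ Submodule.span F (Set.range f) = W.1}) where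
  toFun f := ⟨f.1.1, f.1.2.1, congrArg Subtype.val f.2⟩
  invFun f := ⟨⟨f.1, f.2.1, fun i => W.2.2 _ ((le_of_eq f.2.2) (Submodule.subset_span ⟨i, rfl⟩)),
      fun i j => otscount_polar_of_ts Qs W.1 W.2.2 _ _
        ((le_of_eq f.2.2) (Submodule.subset_span ⟨i, rfl⟩))
        ((le_of_eq f.2.2) (Submodule.subset_span ⟨j, rfl⟩))⟩, Subtype.ext f.2.2⟩
  left_inv _ := rfl
  right_inv _ := rfl

theorem otscount_card_Fr' {F : Type*} [Field F] [Fintype F] {ι : Type} [Fintype ι] [DecidableEq ι]
    (Qs : QuadraticForm F (ι → F)) (m : ℕ) :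
    (otscount_Fr Qs m).ncard =
      Nat.card (TSq Qs m) * ∏ i : Fin m, (Fintype.card F ^ m - Fintype.card F ^ (i : ℕ)) := by
  classical
  have hfin : Finite (TSq Qs m) := inferInstance
  let _ : Fintype (TSq Qs m) := Fintype.ofFinite _
  rw [← Nat.card_coe_set_eq,
    Nat.card_congr (Equiv.sigmaFiberEquiv (otscount_spanMap Qs m)).symm, Nat.card_sigma]
  have : ∀ W : TSq Qs m,
      Nat.card {f : ↥(otscount_Fr Qs m) // otscount_spanMap Qs m f = W} =
        ∏ i : Fin m, (Fintype.card F ^ m - Fintype.card F ^ (i : ℕ)) := by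
    intro W
    rw [Nat.card_congr (otscount_fibreEquiv Qs m W), Nat.card_coe_set_eq,
      otscount_card_frames W.1 W.2.1]
  simp only [this]
  rw [Finset.sum_const, smul_eq_mul, Finset.card_univ, ← Nat.card_eq_fintype_card]

/-- COUNT [L]: the number of totally singular `m`-spaces. -/
theorem q_ts_count {F : Type*} [Field F] [Fintype F] {ι : Type} [Fintype ι] [DecidableEq ι]
    (Qs : QuadraticForm F (ι → F)) (d : ℕ) (ε : ℤ) (hs : QStd Qs d ε) (m : ℕ) (hm : m + 1 ≤ d) :
    (Nat.card (TSq Qs m) : ℤ) * ∏ j ∈ Finset.range m, ((Fintype.card F : ℤ) ^ (j + 1) - 1) =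
      ∏ j ∈ Finset.range m, (((Fintype.card F : ℤ) ^ (d - j) - ε) *
        ((Fintype.card F : ℤ) ^ (d - 1 - j) + ε)) := by
  have h1 := congrArg (fun n : ℕ => (n : ℤ)) (otscount_card_Fr' (F := F) Qs m)
  rw [otscount_card_Fr Qs d ε hs m (by omega), s5955c1_arith2, Finset.prod_mul_distrib] at h1
  push_cast at h1
  have hq1 : ∀ j : ℕ, ((Fintype.card F ^ (j + 1) - 1 : ℕ) : ℤ) = (Fintype.card F : ℤ) ^ (j + 1) - 1 := by
    intro j
    have : 1 ≤ Fintype.card F ^ (j + 1) := Nat.one_le_pow _ _ Fintype.card_pos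
    rw [Nat.cast_sub this]; push_cast; ring
  simp only [hq1] at h1
  have hQ : (∏ i ∈ Finset.range m, (Fintype.card F : ℤ) ^ i) ≠ 0 := by
    apply Finset.prod_ne_zero_iff.mpr
    intro i _
    have : 0 < Fintype.card F := Fintype.card_pos
    exact pow_ne_zero _ (by exact_mod_cast this.ne')
  apply mul_left_cancel₀ hQ
  rw [h1]; ring

end Cfsg.Agent.Lib.Helper13.OTS
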