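import Mathlib
import Cfsg.Agent.Lib.Helper13.OTS.Defs
import Cfsg.Agent.Lib.Helper24.S5972SPLIT
import Cfsg.Agent.Lib.helper17.OTSQOCTX

/-!
# Project OTS (designer helper13), row NECABS, core: the assembly of the necessity direction for odd `r ≠ p`
(twin of `s5972necabs_core`), with the statements of HJARITH, ARITHEX, ARITHN and the instances of TYTOP, MAXEL, DISTEL, NECDIM, FIXTY,
WITTLE as hypotheses.
-/

set_option autoImplicit false
set_option linter.unusedVariables false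

namespace Cfsg.Agent.Lib.Helper13.OTS

open Polynomial Module Cfsg.Agent.Lib.Helper13.S5955 Cfsg.Agent.Lib.helper15.S5972

/-- the statement of HJARITH -/
def OtsHJArith : Prop :=
  ∀ (q r d m i : ℕ) (ε : ℤ) [Fact r.Prime], r ≠ 2 → (ε = 1 ∨ ε = -1) → i = orderOf (q : ZMod r) →
    m + 1 ≤ d → HJ q r d m ε → HJi i d m ε

/-- the statement of ARITHEX -/
def OtsArithEx : Prop :=
  ∀ (i c d m : ℕ) (ε : ℤ), 1 ≤ i → (c = if Even i then i else 2 * i) → (ε = 1 ∨ ε = -1) →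
    m + 1 ≤ d → HJi i d m ε →
    c + FMin i c d ε ≤ 2 * d ∧ c ∣ 2 * d - FMin i c d ε ∧ Even (FMin i c d ε) ∧
      (FMin i c d ε = 0 → ε = SCy i (2 * d))

/-- the statement of ARITHN -/
def OtsArithN : Prop :=
  ∀ (i c d m t : ℕ) (ε : ℤ), 1 ≤ i → (c = if Even i then i else 2 * i) → (ε = 1 ∨ ε = -1) →
    1 ≤ m → m + 1 ≤ d → HJi i d m ε →
    (∃ w1 s : ℕ, m = w1 + s * i ∧ 2 * (s * i) ≤ 2 * d - FMin i c d ε ∧
      (2 * w1 : ℤ) + (1 - ε * SCy i (2 * d - FMin i c d ε)) ≤ FMin i c d ε) →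
    (Even i →
      (2 * m : ℤ) + (1 - ε * SCy i (i * min t ((2 * d - FMin i c d ε) / i))) ≤
        2 * d - i * min t ((2 * d - FMin i c d ε) / i)) →
    TSC i c d m t ε

/-- NECABS core. -/
theorem otsnecabs_core {F : Type*} [Field F] [Fintype F] {p : ℕ} [Fact p.Prime] [CharP F p]
    {ι : Type} [Fintype ι] [DecidableEq ι] (Qs : QuadraticForm F (ι → F)) (d : ℕ) (ε : ℤ)
    (hs : QStd Qs d ε) (r : ℕ) [Fact r.Prime] (hrp : r ≠ p) (hr2 : r ≠ 2) (m i c : ℕ)
    (hi : i = orderOf ((Fintype.card F : ℕ) : ZMod r)) (hc : c = if Even i then i else 2 * i)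
    (hm1 : 1 ≤ m) (hm : m + 1 ≤ d) (hj : HJ (Fintype.card F) r d m ε)
    (hall : ∀ y : Module.End F (ι → F), QCtx r Qs y → y ≠ 1 → QTd Qs y m)
    (hhj : OtsHJArith) (hex : OtsArithEx) (harn : OtsArithN)
    (htop : QTy Qs (⊤ : Submodule F (ι → F)) ε ∧ finrank F (ι → F) = 2 * d ∧
      (∀ u, (∀ v, QuadraticMap.polar Qs u v = 0) → u = 0))
    (hmaxel : c + FMin i c d ε ≤ 2 * d →
      ∃ y : Module.End F (ι → F), QCtx r Qs y ∧ y ≠ 1 ∧ finrank F (fixS y) = FMin i c d ε)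
    (hdistel : Even i → i + FMin i i d ε ≤ 2 * d →
      ∃ y : Module.End F (ι → F), QCtx r Qs y ∧ y ≠ 1 ∧
        finrank F (fixS y) + i * min ((r - 1) / i) ((2 * d - FMin i i d ε) / i) = 2 * d ∧
        ∀ W : Submodule F (ι → F), SInv y W → QTS Qs W → W ≤ fixS y)
    (hnecdim : ∀ y : Module.End F (ι → F), QCtx r Qs y → ∀ W : Submodule F (ι → F), SInv y W →
      QTS Qs W → ∃ (s : ℕ) (T : Submodule F (ι → F)), T ≤ fixS y ∧ QTS Qs T ∧
        finrank F W = finrank F T + s * orderOf ((Fintype.card F : ℕ) : ZMod r) ∧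
        2 * (s * orderOf ((Fintype.card F : ℕ) : ZMod r)) ≤ finrank F (cycS r y))
    (hfixty : ∀ y : Module.End F (ι → F), QCtx r Qs y →
      Even (finrank F (fixS y)) ∧ Even (finrank F (cycS r y)) ∧
        QTy Qs (cycS r y) (SCy i (finrank F (cycS r y))) ∧
        QTy Qs (fixS y) (ε * SCy i (finrank F (cycS r y))))
    (hwittle : ∀ (N : Submodule F (ι → F)), SND (qB Qs) N → Even (finrank F N) → ∀ s : ℤ,
      QTy Qs N s → (s = 1 ∨ s = -1) → ∀ T : Submodule F (ι → F), T ≤ N → QTS Qs T →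
      (2 * finrank F T : ℤ) + (1 - s) ≤ finrank F N) :
    TSC i c d m ((r - 1) / i) ε := by
  have hε := hs.eps
  have hipos : 0 < i := by
    rw [hi]
    exact Cfsg.Agent.Lib.Helper24.el_ord_pos (F := F) (p := p) r hrp
  have hji : HJi i d m ε := hhj (Fintype.card F) r d m i ε hr2 hε hi hm hj
  obtain ⟨hex1, -, -, -⟩ := hex i c d m ε hipos hc hε hm hji
  have hscy : ∀ g : ℕ, ε * SCy i g = 1 ∨ ε * SCy i g = -1 := by
    intro g
    have h2 : SCy i g = 1 ∨ SCy i g = -1 := by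
      unfold SCy
      split_ifs
      · exact Or.inl rfl
      · exact Or.inr rfl
    rcases hε with h1 | h1 <;> rcases h2 with h2 | h2 <;> rw [h1, h2] <;> norm_num
  have hsplit : ∀ y : Module.End F (ι → F), QCtx r Qs y →
      SND (qB Qs) (fixS y) ∧ finrank F (fixS y) + finrank F (cycS r y) = 2 * d := by
    intro y hy
    obtain ⟨-, hcompl, hfnd, -⟩ := o_split hrp (q_octx hy)
    exact ⟨hfnd, by rw [Submodule.finrank_add_eq_of_isCompl hcompl, htop.2.1]⟩
  apply harn i c d m ((r - 1) / i) ε hipos hc hε hm1 hm hji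
  · obtain ⟨y, hy, hy1, hfix⟩ := hmaxel hex1
    obtain ⟨W, hWinv, hWts, hWdim⟩ := hall y hy hy1
    obtain ⟨s, T, hTf, hTts, hWeq, hcyc⟩ := hnecdim y hy W hWinv hWts
    obtain ⟨hfnd, hsum⟩ := hsplit y hy
    obtain ⟨hfe, -, -, hfty⟩ := hfixty y hy
    have hcycdim : finrank F (cycS r y) = 2 * d - FMin i c d ε := by omega
    refine ⟨finrank F T, s, ?_, ?_, ?_⟩
    · rw [← hWdim, hWeq, hi]
    · rw [← hcycdim, hi]; exact hcyc
    · have := hwittle (fixS y) hfnd hfe _ hfty (hscy _) T hTf hTts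
      rw [hcycdim, hfix] at this
      exact this
  · intro hie
    have hci : c = i := by rw [hc, if_pos hie]
    rw [hci] at hex1 ⊢
    obtain ⟨y, hy, hy1, hdim, hsub⟩ := hdistel hie hex1
    obtain ⟨W, hWinv, hWts, hWdim⟩ := hall y hy hy1
    obtain ⟨hfnd, hsum⟩ := hsplit y hy
    obtain ⟨hfe, -, -, hfty⟩ := hfixty y hy
    have hWle := hsub W hWinv hWts
    have hcycdim : finrank F (cycS r y) =
        i * min ((r - 1) / i) ((2 * d - FMin i i d ε) / i) := by omega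
    have := hwittle (fixS y) hfnd hfe _ hfty (hscy _) W hWle hWts
    rw [hcycdim, hWdim] at this
    have h3 : (finrank F (fixS y) : ℤ) =
        2 * d - i * min ((r - 1) / i) ((2 * d - FMin i i d ε) / i) := by
      have h4 : ((finrank F (fixS y) : ℕ) : ℤ) +
          (i : ℤ) * ((min ((r - 1) / i) ((2 * d - FMin i i d ε) / i) : ℕ) : ℤ) = 2 * (d : ℤ) := by
        have h5 := congrArg (fun n : ℕ => (n : ℤ)) hdim
        simp only [Nat.cast_add, Nat.cast_mul, Nat.cast_ofNat] at h5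
        exact h5
      linarith
    rw [h3] at this
    exact this

end Cfsg.Agent.Lib.Helper13.OTS
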