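import Mathlib
import Cfsg.Agent.Lib.Helper13.OTSNECABScore
import Cfsg.Agent.Lib.Helper13.OTSMAXEL
import Cfsg.Agent.Lib.Helper27.OTSHJARITH
import Cfsg.Agent.Lib.Helper20.OTSARITHN
import Cfsg.Agent.Lib.Helper16.OTSTYTOP
import Cfsg.Agent.Lib.helper15.OTSNECDIM
import Cfsg.Agent.Lib.Helper21.OTSFIXTY
import Cfsg.Agent.Lib.Helper21.OTSWITT
import Cfsg.Agent.Lib.Helper29.OTSARITHEXh29

/-!
# Project OTS (designer helper13), row NECABS (`q_nec_abs`), verbatim.
-/

set_option autoImplicit false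
set_option linter.unusedVariables false

namespace Cfsg.Agent.Lib.Helper13.OTS

open Polynomial Module Cfsg.Agent.Lib.Helper13.S5955 Cfsg.Agent.Lib.helper15.S5972

/-- NECABS [L] (twin of helper13's S5972 `o_nec_abs`). -/
theorem q_nec_abs {F : Type*} [Field F] [Fintype F] {p : ℕ} [Fact p.Prime] [CharP F p]
    {ι : Type} [Fintype ι] [DecidableEq ι] (Qs : QuadraticForm F (ι → F)) (d : ℕ) (ε : ℤ)
    (hs : QStd Qs d ε) (r : ℕ) [Fact r.Prime] (hrp : r ≠ p) (hr2 : r ≠ 2) (m i c : ℕ)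
    (hi : i = orderOf ((Fintype.card F : ℕ) : ZMod r)) (hc : c = if Even i then i else 2 * i)
    (hm1 : 1 ≤ m) (hm : m + 1 ≤ d) (hj : HJ (Fintype.card F) r d m ε)
    (hall : ∀ y : Module.End F (ι → F), QCtx r Qs y → y ≠ 1 → QTd Qs y m) :
    TSC i c d m ((r - 1) / i) ε := by
  have htop := q_ty_top Qs d ε hs
  apply otsnecabs_core Qs d ε hs r hrp hr2 m i c hi hc hm1 hm hj hall
  · intro q r d m i ε _ hr2 hε hi hm hj
    exact q_hj_arith q r d m i ε hr2 hε hi hm hj
  · intro i c d m ε hi hc hε hm hj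
    exact otsarithex_h29 i c d m ε hi hc hε hm hj
  · intro i c d m t ε hi hc hε hm1 hm hj hmax hdist
    exact q_arith_nec i c d m t ε hi hc hε hm1 hm hj hmax hdist
  · exact htop
  · intro hex
    exact q_maxel Qs d ε hs r hrp hr2 i c hi hc hex
  · intro hie hex
    exact q_distel Qs d ε hs r hrp hr2 i hi hie hex
  · intro y hy W hW hWs
    exact q_nec_dim hrp hy W hW hWs
  · intro y hy
    exact q_fix_ty hrp hr2 hy d htop.2.1 ε hs.eps htop.1 i hi
  · intro N hN hev s hs' hs1 T hT hTs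
    exact q_witt_le Qs N hN hev s hs' hs1 T hT hTs

end Cfsg.Agent.Lib.Helper13.OTS
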