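import Mathlib
import Cfsg.Agent.Lib.helper15.S5972.Defs
import Cfsg.Agent.Lib.Helper24.S5972SPLIT
import Cfsg.Agent.Lib.Helper24.S5972LAG
import Cfsg.Agent.Lib.helper15.S5972ARITH
import Cfsg.Agent.Lib.Helper5.S5955T6

/-!
# Project S5972 (designer helper15), row SUFFABS, core: the assembly of the sufficiency direction
(twin of S5955 T13, helper18's `s5955h18_suff_abs_core`), with the instance of TISUB (Witt index of the
fixed space) as a hypothesis.
-/

set_option autoImplicit false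
set_option linter.unusedVariables false

namespace Cfsg.Agent.Lib.helper15.S5972

open Polynomial Module Cfsg.Agent.Lib.Helper13.S5955

/-- the sum of two mutually orthogonal t.i. subspaces of a symmetric form is t.i. -/
theorem s5972suffabs_sti_sup {F : Type*} [Field F] {V : Type*} [AddCommGroup V] [Module F V]
    {B : LinearMap.BilinForm F V} (hsymm : ∀ u v, B u v = B v u) (U T : Submodule F V)
    (hU : STI B U) (hT : STI B T) (hUT : ∀ u ∈ U, ∀ t ∈ T, B u t = 0) : STI B (U ⊔ T) := by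
  intro a ha b hb
  obtain ⟨u, hu, t, ht, rfl⟩ := Submodule.mem_sup.mp ha
  obtain ⟨u', hu', t', ht', rfl⟩ := Submodule.mem_sup.mp hb
  simp only [map_add, LinearMap.add_apply, hU u hu u' hu', hUT u hu t' ht',
    hT t ht t' ht', hsymm t u', hUT u' hu' t ht, add_zero]

/-- the order of `|F|` modulo `r` divides `r - 1` -/
theorem s5972suffabs_ord_dvd {F : Type*} [Field F] [Fintype F] {p : ℕ} [hp : Fact p.Prime]
    [CharP F p] (r : ℕ) [hr : Fact r.Prime] (hrp : r ≠ p) :
    orderOf ((Fintype.card F : ℕ) : ZMod r) ∣ r - 1 := by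
  apply orderOf_dvd_of_pow_eq_one
  apply ZMod.pow_card_sub_one_eq_one
  intro h0
  rw [ZMod.natCast_eq_zero_iff] at h0
  obtain ⟨n, _, hn⟩ := FiniteField.card F p
  rw [hn] at h0
  exact hrp ((Nat.prime_dvd_prime_iff_eq hr.out hp.out).mp (hr.out.dvd_of_dvd_pow h0))

/-- SUFFABS core: `hti` is the instance of TISUB for `N = fixS x`. -/
theorem s5972suffabs_core {F : Type*} [Field F] [Fintype F] {p : ℕ} [Fact p.Prime] [CharP F p]
    {V : Type*} [AddCommGroup V] [Module F V] [FiniteDimensional F V]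
    {r : ℕ} [Fact r.Prime] (hrp : r ≠ p) (hr2 : r ≠ 2) {B : LinearMap.BilinForm F V}
    {x : Module.End F V} (h : OCtx r B x) (d m : ℕ) (hV : finrank F V = 2 * d + 1) (hm : m ≤ d)
    (i c : ℕ) (hi : i = orderOf ((Fintype.card F : ℕ) : ZMod r))
    (hc : c = if Even i then i else 2 * i)
    (h1 : 2 * (m % i) < (2 * d + 1) % c)
    (h2' : Odd i ∨ (r - 1) / i + 2 * (m / i) ≤ (2 * d + 1) / i)
    (hti : ∀ j : ℕ, 2 * j + 1 ≤ finrank F (fixS x) →
      ∃ T : Submodule F V, T ≤ fixS x ∧ STI B T ∧ finrank F T = j) :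
    TId B x m := by
  obtain ⟨horth, hcompl, hfnd, hcnd⟩ := o_split hrp h
  obtain ⟨hce, T, hTc, hT, hTti, hTdim⟩ := o_lag hrp hr2 h
  rw [← hi] at hTdim
  have hipos : 0 < i := hi ▸ Cfsg.Agent.Lib.Helper24.el_ord_pos (F := F) r hrp
  have hcyc0 : cyclotomic r F ≠ 0 := cyclotomic_ne_zero r F
  have hdeg : ∀ P : F[X], Irreducible P → P ∣ cyclotomic r F → P.natDegree = i := by
    intro P hP hPd
    rw [hi]
    exact Cfsg.Agent.Lib.Helper24.el_cyc_deg r hrp P hP hPd
  have hkill : ∀ u ∈ cycS r x, aeval x (cyclotomic r F) u = 0 := fun u hu => hu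
  have hidvd : i ∣ finrank F (cycS r x) :=
    Cfsg.Agent.Lib.Helper24.el_dvd_dim x (cycS r x) (Cfsg.Agent.Lib.Helper24.el_inv_ker x _)
      (cyclotomic r F) hcyc0 hkill i hipos hdeg
  have hit : i ∣ finrank F T :=
    Cfsg.Agent.Lib.Helper24.el_dvd_dim x T hT (cyclotomic r F) hcyc0
      (fun u hu => hkill u (hTc hu)) i hipos hdeg
  have hir : i ∣ r - 1 := hi ▸ s5972suffabs_ord_dvd (F := F) r hrp
  have hsum : finrank F (fixS x) + finrank F (cycS r x) = 2 * d + 1 := by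
    rw [Submodule.finrank_add_eq_of_isCompl hcompl, hV]
  have hhalf := ti_le_half B (cycS r x) T hcnd hTc hTti
  obtain ⟨w1, s, hw1, hs, hm'⟩ := o_arith_suff i c d m _ _ _ r hipos hc hm hsum hce hidvd hit hir
    hhalf hTdim h1 h2'
  obtain ⟨Y, hYT, hY, hYdim⟩ := Cfsg.Agent.Lib.Helper24.el_exists_dim x T hT (cyclotomic r F) hcyc0
    (fun u hu => hkill u (hTc hu)) i hdeg s hs
  obtain ⟨T1, hT1f, hT1ti, hT1dim⟩ := hti w1 hw1
  have hT1 : SInv x T1 := Cfsg.Agent.Lib.Helper24.el_inv_of_le_fix x T1 hT1f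
  refine ⟨T1 ⊔ Y, Cfsg.Agent.Lib.Helper24.el_inv_sup hT1 hY, ?_, ?_⟩
  · apply s5972suffabs_sti_sup h.symm T1 Y hT1ti (fun u hu v hv => hTti u (hYT hu) v (hYT hv))
    intro u hu t ht
    exact horth u (hT1f hu) t (hTc (hYT ht))
  · have hdisj : Disjoint T1 Y := hcompl.disjoint.mono hT1f (hYT.trans hTc)
    have h1 := Submodule.finrank_sup_add_finrank_inf_eq T1 Y
    rw [disjoint_iff.mp hdisj, finrank_bot, add_zero] at h1
    rw [h1, hT1dim, hYdim, hm']

end Cfsg.Agent.Lib.helper15.S5972
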