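import Mathlib
import Cfsg.Agent.Lib.Helper13.OTS.Defs
import Cfsg.Agent.Lib.Helper24.S5972SPLIT
import Cfsg.Agent.Lib.Helper24.S5972LAG
import Cfsg.Agent.Lib.helper23.ONECYCLADDER
import Cfsg.Agent.Lib.Helper5.S5955T6
import Cfsg.Agent.Lib.helper17.OTSQOCTX
import Cfsg.Agent.Lib.helper15.OTSTSOFTI
import Cfsg.Agent.Lib.Helper13.S5972SUFFABScore

/-!
# Project OTS (designer helper13), row SUFFABS, core: the assembly of the sufficiency direction for odd `r ≠ p`
(twin of `s5972suffabs_core`), with the instances of FIXTY, ARITHS and WITT as hypotheses.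
-/

set_option autoImplicit false
set_option linter.unusedVariables false

namespace Cfsg.Agent.Lib.Helper13.OTS

open Polynomial Module Cfsg.Agent.Lib.Helper13.S5955 Cfsg.Agent.Lib.helper15.S5972

/-- `SCy` is a sign -/
theorem otssuffabs_scy (i g : ℕ) : SCy i g = 1 ∨ SCy i g = -1 := by
  unfold SCy
  split_ifs
  · exact Or.inl rfl
  · exact Or.inr rfl

/-- the sum of two mutually orthogonal totally singular subspaces is totally singular -/
theorem otssuffabs_qts_sup {F : Type*} [Field F] {V : Type*} [AddCommGroup V] [Module F V]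
    (Q : QuadraticForm F V) (U T : Submodule F V) (hU : QTS Q U) (hT : QTS Q T)
    (hUT : ∀ u ∈ U, ∀ t ∈ T, QuadraticMap.polar Q u t = 0) : QTS Q (U ⊔ T) := by
  intro a ha
  obtain ⟨u, hu, t, ht, rfl⟩ := Submodule.mem_sup.mp ha
  rw [QuadraticMap.map_add Q u t, hU u hu, hT t ht, hUT u hu t ht]; simp

/-- the statement of ARITHS -/
def OtsArithS : Prop :=
  ∀ (i c d m f g tdim r : ℕ) (ε sf : ℤ), 1 ≤ i → (c = if Even i then i else 2 * i) → m + 1 ≤ d →
    (ε = 1 ∨ ε = -1) → f + g = 2 * d → c ∣ g → i ∣ tdim → i ∣ r - 1 → 2 * tdim ≤ g →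
    ((Odd i ∧ 2 * tdim = g) ∨ (Even i ∧ g ≤ 2 * tdim + (r - 1))) →
    sf = ε * SCy i g → (f = 0 → sf = 1) → TSC i c d m ((r - 1) / i) ε →
    ∃ w1 s : ℕ, (2 * w1 : ℤ) + (1 - sf) ≤ f ∧ s * i ≤ tdim ∧ m = w1 + s * i

/-- SUFFABS core: `hfixty` is the instance of FIXTY, `harith` the statement of ARITHS, `hwitt` the instance of WITT for `N = fixS x`. -/
theorem otssuffabs_core {F : Type*} [Field F] [Fintype F] {p : ℕ} [Fact p.Prime] [CharP F p]
    {V : Type*} [AddCommGroup V] [Module F V] [FiniteDimensional F V]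
    {r : ℕ} [Fact r.Prime] (hrp : r ≠ p) (hr2 : r ≠ 2) {Q : QuadraticForm F V} {x : Module.End F V}
    (h : QCtx r Q x) (d m : ℕ) (hV : finrank F V = 2 * d) (hm : m + 1 ≤ d) (ε : ℤ)
    (hε : ε = 1 ∨ ε = -1) (hty : QTy Q ⊤ ε) (i c : ℕ)
    (hi : i = orderOf ((Fintype.card F : ℕ) : ZMod r)) (hc : c = if Even i then i else 2 * i)
    (hC : TSC i c d m ((r - 1) / i) ε)
    (hfixty : Even (finrank F (fixS x)) ∧ Even (finrank F (cycS r x)) ∧
      QTy Q (cycS r x) (SCy i (finrank F (cycS r x))) ∧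
      QTy Q (fixS x) (ε * SCy i (finrank F (cycS r x))))
    (harith : OtsArithS)
    (hwitt : ∀ s : ℤ, QTy Q (fixS x) s → (s = 1 ∨ s = -1) → ∀ j : ℕ,
      (2 * j : ℤ) + (1 - s) ≤ finrank F (fixS x) →
      ∃ T : Submodule F V, T ≤ fixS x ∧ QTS Q T ∧ finrank F T = j) :
    QTd Q x m := by
  have hO : OCtx r (qB Q) x := q_octx h
  obtain ⟨horth, hcompl, hfnd, hcnd⟩ := o_split hrp hO
  obtain ⟨hce, T, hTc, hT, hTti, hTdim⟩ := o_lag hrp hr2 hO
  rw [← hi] at hTdim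
  have hipos : 0 < i := hi ▸ Cfsg.Agent.Lib.Helper24.el_ord_pos (F := F) r hrp
  have hcyc0 : cyclotomic r F ≠ 0 := cyclotomic_ne_zero r F
  have hdeg : ∀ P : F[X], Irreducible P → P ∣ cyclotomic r F → P.natDegree = i := by
    intro P hP hPd
    rw [hi]
    exact Cfsg.Agent.Lib.Helper24.el_cyc_deg r hrp P hP hPd
  have hkill : ∀ u ∈ cycS r x, aeval x (cyclotomic r F) u = 0 := fun u hu => hu
  have hcinv : SInv x (cycS r x) := Cfsg.Agent.Lib.Helper24.el_inv_ker x _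
  have hit : i ∣ finrank F T :=
    Cfsg.Agent.Lib.Helper24.el_dvd_dim x T hT (cyclotomic r F) hcyc0
      (fun u hu => hkill u (hTc hu)) i hipos hdeg
  have hcg : c ∣ finrank F (cycS r x) :=
    Cfsg.Agent.Lib.Helper18.ONE.o_cyc_nd_dvd hrp hr2 hO i c hi hc (cycS r x) hcinv le_rfl hcnd
  have hir : i ∣ r - 1 := hi ▸ s5972suffabs_ord_dvd (F := F) r hrp
  have hsum : finrank F (fixS x) + finrank F (cycS r x) = 2 * d := by
    rw [Submodule.finrank_add_eq_of_isCompl hcompl, hV]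
  have hhalf := ti_le_half (qB Q) (cycS r x) T hcnd hTc hTti
  have hsf1 : ε * SCy i (finrank F (cycS r x)) = 1 ∨ ε * SCy i (finrank F (cycS r x)) = -1 := by
    rcases hε with h1 | h1 <;> rcases otssuffabs_scy i (finrank F (cycS r x)) with h2 | h2 <;>
      rw [h1, h2] <;> norm_num
  have hf0 : finrank F (fixS x) = 0 → ε * SCy i (finrank F (cycS r x)) = 1 := by
    intro h0
    have hbot : fixS x = ⊥ := Submodule.finrank_eq_zero.mp h0
    have h4 := hfixty.2.2.2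
    rw [hbot] at h4
    exact (q_ty_bot Q _).mp h4
  obtain ⟨w1, s, hw1, hs, hm'⟩ := harith i c d m _ _ _ r ε _ hipos hc hm hε hsum hcg hit hir
    hhalf hTdim rfl hf0 hC
  obtain ⟨Y, hYT, hY, hYdim⟩ := Cfsg.Agent.Lib.Helper24.el_exists_dim x T hT (cyclotomic r F) hcyc0
    (fun u hu => hkill u (hTc hu)) i hdeg s hs
  obtain ⟨T1, hT1f, hT1ts, hT1dim⟩ := hwitt _ hfixty.2.2.2 hsf1 w1 hw1
  have hT1 : SInv x T1 := Cfsg.Agent.Lib.Helper24.el_inv_of_le_fix x T1 hT1f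
  have hTts : QTS Q T := q_ts_of_ti hrp h T hTc hT hTti
  refine ⟨T1 ⊔ Y, Cfsg.Agent.Lib.Helper24.el_inv_sup hT1 hY, ?_, ?_⟩
  · apply otssuffabs_qts_sup Q T1 Y hT1ts (fun u hu => hTts u (hYT hu))
    intro u hu t ht
    exact horth u (hT1f hu) t (hTc (hYT ht))
  · have hdisj : Disjoint T1 Y := hcompl.disjoint.mono hT1f (hYT.trans hTc)
    have h1 := Submodule.finrank_sup_add_finrank_inf_eq T1 Y
    rw [disjoint_iff.mp hdisj, finrank_bot, add_zero] at h1
    rw [h1, hT1dim, hYdim, hm']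

end Cfsg.Agent.Lib.Helper13.OTS
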