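import Mathlib
import Cfsg.Agent.Lib.Helper13.OTSSUFFABScore
import Cfsg.Agent.Lib.Helper21.OTSFIXTY
import Cfsg.Agent.Lib.Helper21.OTSWITT
import Cfsg.Agent.Lib.Helper25.OTSARITHS

/-!
# Project OTS (designer helper13), row SUFFABS (`q_suff_abs`), verbatim.
-/

set_option autoImplicit false
set_option linter.unusedVariables false

namespace Cfsg.Agent.Lib.Helper13.OTS

open Polynomial Module Cfsg.Agent.Lib.Helper13.S5955 Cfsg.Agent.Lib.helper15.S5972

/-- SUFFABS [L] (twin of helper13's S5972 `o_suff_abs`). -/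
theorem q_suff_abs {F : Type*} [Field F] [Fintype F] {p : ℕ} [Fact p.Prime] [CharP F p]
    {V : Type*} [AddCommGroup V] [Module F V] [FiniteDimensional F V]
    {r : ℕ} [Fact r.Prime] (hrp : r ≠ p) (hr2 : r ≠ 2) {Q : QuadraticForm F V} {x : Module.End F V}
    (h : QCtx r Q x) (d m : ℕ) (hV : finrank F V = 2 * d) (hm : m + 1 ≤ d) (ε : ℤ)
    (hε : ε = 1 ∨ ε = -1) (hty : QTy Q ⊤ ε) (i c : ℕ)
    (hi : i = orderOf ((Fintype.card F : ℕ) : ZMod r)) (hc : c = if Even i then i else 2 * i)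
    (hC : TSC i c d m ((r - 1) / i) ε) : QTd Q x m := by
  have hO : OCtx r (qB Q) x := q_octx h
  obtain ⟨-, -, hfnd, -⟩ := o_split hrp hO
  have hfix := q_fix_ty hrp hr2 h d hV ε hε hty i hi
  exact otssuffabs_core hrp hr2 h d m hV hm ε hε hty i c hi hc hC hfix
    (fun i c d m f g tdim r ε sf hi hc hm hε hsum hcg hit hir hT2 hT hsf hf0 hC =>
      q_arith_suff i c d m f g tdim r ε sf hi hc hm hε hsum hcg hit hir hT2 hT hsf hf0 hC)
    (fun s hs hs1 j hj => q_witt Q (fixS x) hfnd hfix.1 s hs hs1 j hj)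

end Cfsg.Agent.Lib.Helper13.OTS
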