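import Mathlib
import Cfsg.Agent.Lib.Helper13.OTS.Defs

set_option autoImplicit false

/-!
# Project OTS, rows TSC73 + TSC87 (helper13): the frozen right-hand sides of S5973 / S5987 for odd `r` are `TSC … 1` / `TSC … (-1)`.
-/

namespace Cfsg.Agent.Lib.Helper13.OTS

/-- TSC73: the frozen right-hand side of S5973 for odd `r`. -/
theorem tsc_iff_73 (i c d m r : ℕ) (hc : c = if Even i then i else 2 * i) :
    TSC i c d m ((r - 1) / i) 1 ↔
      ((Odd i ∧ i ≤ m ∧ 2 * (m % i) ≤ (2 * d) % c) ∨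
       (Even i ∧ i ≤ m ∧ (r - 1) / i + 2 * (m / i) ≤ (2 * d) / i ∧
         ((2 * (m % i) ≤ i ∧ (2 * d) % c = 0 ∧ Odd ((2 * d) / i) ∧ (r - 1) / i + 2 * (m / i) < (2 * d) / i) ∨
          (2 * (m % i) ≤ (2 * d) % c ∧ Even ((2 * d) / i)) ∨
          (2 * (m % i) < (2 * d) % c ∧ Odd ((2 * d) / i))))) := by
  unfold TSC
  have h1 : ((1 : ℤ) = -1) ↔ False := by norm_num
  simp only [h1, false_and, or_false, true_and, true_iff]
  tauto

/-- TSC87: the frozen right-hand side of S5987 for odd `r`. -/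
theorem tsc_iff_87 (i c d m r : ℕ) (hc : c = if Even i then i else 2 * i) :
    TSC i c d m ((r - 1) / i) (-1) ↔
      ((Odd i ∧ i ≤ m ∧ ((2 * d) % c = 0 ∨ 2 * (m % i) < (2 * d) % c)) ∨
       (Even i ∧ i ≤ m ∧ (r - 1) / i + 2 * (m / i) ≤ (2 * d) / i ∧
         ((2 * (m % i) ≤ i ∧ (2 * d) % c = 0 ∧ Even ((2 * d) / i) ∧ (r - 1) / i + 2 * (m / i) < (2 * d) / i) ∨
          (2 * (m % i) ≤ (2 * d) % c ∧ Odd ((2 * d) / i)) ∨
          (2 * (m % i) < (2 * d) % c ∧ Even ((2 * d) / i))))) := by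
  unfold TSC
  have h1 : ((-1 : ℤ) = 1) ↔ False := by norm_num
  simp only [h1, false_and, false_or, true_and, false_iff, Nat.not_odd_iff_even, Nat.not_even_iff_odd]
  tauto

end Cfsg.Agent.Lib.Helper13.OTS
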