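import Mathlib
import Cfsg.Agent.Lib.Helper13.OTS.Defs
import Cfsg.Agent.Lib.Helper27.OTSNEGEVEN
import Cfsg.Agent.Lib.helper14.ODNEXPLUSEVEN

/-!
# Project OTS (designer helper13), row TWONECP, core: `ε = 1`, necessity for `r = 2` on the standard plus space; the statement of TWONEC
(for `Qs = qfPlus d F`) enters as a hypothesis; helper1's ODN row `odn_ex_plus_even` (helper14) and NEGEVEN (helper27) are cited.
-/

set_option autoImplicit false
set_option linter.unusedVariables false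

namespace Cfsg.Agent.Lib.Helper13.OTS

open Polynomial Module Cfsg.Agent.Lib.Helper13.S5955 Cfsg.Agent.Lib.helper15.S5972

theorem otstwonecp_core {F : Type*} [Field F] [Fintype F] {p : ℕ} [Fact p.Prime] [CharP F p]
    (hp2 : p ≠ 2) (d : ℕ) (hd : 4 ≤ d) (m : ℕ) (hm1 : 1 ≤ m) (hm : m + 1 ≤ d)
    (htwonec : Fintype.card F % 4 = 3 →
      ∃ x : GL (Fin d ⊕ Fin d) F, x ∈ Cfsg.Geo.omegaGL (Cfsg.quadFormPlus d F) ∧ x ^ 2 = 1 ∧
        (∀ z : F, (x : Matrix (Fin d ⊕ Fin d) (Fin d ⊕ Fin d) F) ≠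
          z • (1 : Matrix (Fin d ⊕ Fin d) (Fin d ⊕ Fin d) F)) ∧
        ¬ ∃ W : Submodule F (Fin d ⊕ Fin d → F), finrank F W = d - 1 ∧
          (∀ w ∈ W, Cfsg.quadFormPlus d F w = 0) ∧
          W.map (Matrix.toLin' (x : Matrix (Fin d ⊕ Fin d) (Fin d ⊕ Fin d) F)) ≤ W)
    (hall : ∀ x : GL (Fin d ⊕ Fin d) F, x ∈ Cfsg.Geo.omegaGL (Cfsg.quadFormPlus d F) →
      (∃ z : F, ((x ^ 2 : GL (Fin d ⊕ Fin d) F) : Matrix (Fin d ⊕ Fin d) (Fin d ⊕ Fin d) F) =
        z • (1 : Matrix (Fin d ⊕ Fin d) (Fin d ⊕ Fin d) F)) →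
      (∀ z : F, (x : Matrix (Fin d ⊕ Fin d) (Fin d ⊕ Fin d) F) ≠
        z • (1 : Matrix (Fin d ⊕ Fin d) (Fin d ⊕ Fin d) F)) →
      ∃ W : Submodule F (Fin d ⊕ Fin d → F), finrank F W = m ∧
        (∀ w ∈ W, Cfsg.quadFormPlus d F w = 0) ∧
        W.map (Matrix.toLin' (x : Matrix (Fin d ⊕ Fin d) (Fin d ⊕ Fin d) F)) ≤ W) :
    Fintype.card F % 4 = 1 ∨
      (Fintype.card F % 4 = 3 ∧ m + 2 ≤ d ∧ (Even m ∨ (2 * d) % 4 = 2)) := by
  classical
  have hppr : p.Prime := Fact.out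
  -- `q` is odd
  have hqodd : Odd (Fintype.card F) := by
    obtain ⟨n, _, hn⟩ := FiniteField.card F p
    rw [hn]
    exact (hppr.odd_of_ne_two hp2).pow
  have h2 : (2 : F) ≠ 0 := by
    apply Ring.two_ne_zero
    intro h
    have := FiniteField.even_card_iff_char_two.mp h
    rcases hqodd with ⟨k, hk⟩
    omega
  have hq4 : Fintype.card F % 4 = 1 ∨ Fintype.card F % 4 = 3 := by
    rcases hqodd with ⟨k, hk⟩
    omega
  rcases hq4 with hq1 | hq3
  · exact Or.inl hq1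
  · right
    refine ⟨hq3, ?_, ?_⟩
    · -- `m ≠ d - 1`
      by_contra hcon
      have hmd : m = d - 1 := by omega
      obtain ⟨x, hxΩ, hx2, hns, hno⟩ := htwonec hq3
      apply hno
      obtain ⟨W, hWm, hWs, hWinv⟩ := hall x hxΩ ⟨1, by rw [hx2, one_smul]; rfl⟩ hns
      exact ⟨W, by rw [hWm, hmd], hWs, hWinv⟩
    · by_contra hcon
      push Not at hcon
      obtain ⟨hm', hd4⟩ := hcon
      have hdev : Even d := by
        rcases Nat.even_or_odd d with h | h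
        · exact h
        · exfalso
          rcases h with ⟨k, hk⟩
          omega
      have hns : ¬ IsSquare (-1 : F) := by
        rw [FiniteField.isSquare_neg_one_iff]
        omega
      obtain ⟨x, hxΩ, hxx⟩ := Cfsg.Agent.Lib.Helper1.ODN.odn_ex_plus_even h2 d hdev
      have hsq : ((x ^ 2 : GL (Fin d ⊕ Fin d) F) : Matrix (Fin d ⊕ Fin d) (Fin d ⊕ Fin d) F) =
          (-1 : F) • (1 : Matrix (Fin d ⊕ Fin d) (Fin d ⊕ Fin d) F) := by
        rw [sq, Units.val_mul, hxx, neg_smul, one_smul]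
      have hd0 : 0 < d := by omega
      have hnsc : ∀ z : F, (x : Matrix (Fin d ⊕ Fin d) (Fin d ⊕ Fin d) F) ≠
          z • (1 : Matrix (Fin d ⊕ Fin d) (Fin d ⊕ Fin d) F) := by
        intro z hz
        apply hns
        refine ⟨z, ?_⟩
        rw [hz] at hxx
        have h1 := congrFun (congrFun hxx (Sum.inl ⟨0, hd0⟩)) (Sum.inl ⟨0, hd0⟩)
        simp only [Matrix.mul_smul, Matrix.smul_apply, Matrix.one_apply_eq,
          smul_eq_mul, mul_one, Matrix.neg_apply] at h1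
        exact h1.symm
      obtain ⟨W, hWm, -, hWinv⟩ := hall x hxΩ ⟨-1, hsq⟩ hnsc
      have hxv : ∀ v, Matrix.toLin' (x : Matrix (Fin d ⊕ Fin d) (Fin d ⊕ Fin d) F)
          (Matrix.toLin' (x : Matrix (Fin d ⊕ Fin d) (Fin d ⊕ Fin d) F) v) = -v := by
        intro v
        rw [Matrix.toLin'_apply, Matrix.toLin'_apply, Matrix.mulVec_mulVec, hxx, Matrix.neg_mulVec,
          Matrix.one_mulVec]
      have hS : SInv (Matrix.toLin' (x : Matrix (Fin d ⊕ Fin d) (Fin d ⊕ Fin d) F)) W := by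
        intro w hw
        exact hWinv (Submodule.mem_map_of_mem hw)
      have := q_neg_even hns _ hxv W hS
      rw [hWm] at this
      exact hm' this

end Cfsg.Agent.Lib.Helper13.OTS
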