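import Mathlib
import Cfsg.Agent.Lib.Helper13.OTS.Defs
import Cfsg.Agent.Lib.Helper16.SpinE3
import Cfsg.Agent.Lib.Helper16.OCount1
import Cfsg.Agent.Lib.helper6.Quad
import Cfsg.Agent.Lib.helper17.ONENDPERPS
import Cfsg.Agent.Lib.helper17.OTSQOCTX
import Cfsg.Agent.Lib.helper17.OTSTYSUM
import Cfsg.Agent.Lib.Helper21.OTSTYCLASS
import Cfsg.Agent.Lib.Helper21.OTSWITT

/-!
# Project OTS (designer helper13), row TWONEC, core: `q ≡ 3 (mod 4)`, `ε = 1`: from two orthogonal vectors `u₁, u₂` with `Qs u₁ = Qs u₂ = 1`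
(and a non-zero vector `w₀` orthogonal to both) the element `x = r_{u₁} r_{u₂} ∈ Ω`, `x² = 1`, not scalar, without invariant
totally singular `(d-1)`-space.  (An invariant t.s. `W` is orthogonal to the anisotropic plane `P = ⟨u₁, u₂⟩`; `P^⊥` has type `-1`
(TYCLASS, TYSUM, TYUNIQ) and dimension `2d - 2`, so its Witt index is `d - 2` (WITTLE).)
-/

set_option autoImplicit false
set_option linter.unusedVariables false

namespace Cfsg.Agent.Lib.Helper13.OTS

open Polynomial Module Cfsg.Agent.Lib.Helper13.S5955 Cfsg.Agent.Lib.helper15.S5972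

theorem otstwonec_sumsq {F : Type*} [Field F] [Fintype F] (hq : Fintype.card F % 4 = 3)
    (a b : F) (hab : a * a + b * b = 0) : a = 0 ∧ b = 0 := by
  have hns : ¬ IsSquare (-1 : F) := by
    rw [FiniteField.isSquare_neg_one_iff]
    omega
  by_cases hb : b = 0
  · subst hb
    rw [mul_zero, add_zero] at hab
    exact ⟨mul_self_eq_zero.mp hab, rfl⟩
  · exfalso
    apply hns
    refine ⟨a / b, ?_⟩
    field_simp
    linear_combination -hab

/-- the type of the whole standard space, read on `⊤` -/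
theorem otstwonec_top {F : Type*} [Field F] [Fintype F] {ι : Type} [Fintype ι] [DecidableEq ι]
    (Qs : QuadraticForm F (ι → F)) (d : ℕ) (ε : ℤ) (hs : QStd Qs d ε) :
    QTy Qs (⊤ : Submodule F (ι → F)) ε ∧ finrank F (ι → F) = 2 * d := by
  have hV : finrank F (ι → F) = 2 * d := by
    rw [Module.finrank_fintype_fun_eq_card, hs.card]
  refine ⟨?_, hV⟩
  unfold QTy
  rw [finrank_top, hV, show 2 * d / 2 = d by omega]
  exact (Cfsg.Agent.Lib.Helper16.OSemi.isType_congr
    (Submodule.topEquiv (R := F) (M := ι → F)).toEquiv (⇑Qs) _ (fun w => rfl) d ε).mp hs.ty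

theorem otstwonec_core {F : Type*} [Field F] [Fintype F] (hq : Fintype.card F % 4 = 3) {ι : Type}
    [Fintype ι] [DecidableEq ι] (Qs : QuadraticForm F (ι → F)) (d : ℕ) (hs : QStd Qs d 1) (hd : 2 ≤ d)
    (u₁ u₂ w₀ : ι → F) (hQ1 : Qs u₁ = 1) (hQ2 : Qs u₂ = 1) (h12 : QuadraticMap.polar Qs u₁ u₂ = 0)
    (hw0 : w₀ ≠ 0) (hw1 : QuadraticMap.polar Qs u₁ w₀ = 0) (hw2 : QuadraticMap.polar Qs u₂ w₀ = 0) :
    ∃ x : GL ι F, x ∈ Cfsg.Geo.omegaGL (⇑Qs) ∧ x ^ 2 = 1 ∧
      (∀ z : F, (x : Matrix ι ι F) ≠ z • (1 : Matrix ι ι F)) ∧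
      ¬ ∃ W : Submodule F (ι → F), finrank F W = d - 1 ∧ (∀ w ∈ W, Qs w = 0) ∧
        W.map (Matrix.toLin' (x : Matrix ι ι F)) ≤ W := by
  classical
  have hoddq : Odd (Fintype.card F) := by
    rw [Nat.odd_iff]
    omega
  have h2 : (2 : F) ≠ 0 := Cfsg.Agent.Lib.Helper16.OSemi.two_ne_zero_of_odd_card hoddq
  have hp : ∀ a b, qB Qs a b = QuadraticMap.polar (⇑Qs) a b := fun _ _ => rfl
  have hsymm : ∀ u v, qB Qs u v = qB Qs v u := fun u v => QuadraticMap.polar_comm _ _ _
  have b11 : qB Qs u₁ u₁ = 2 := by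
    rw [hp, QuadraticMap.polar_self, hQ1, nsmul_eq_mul, mul_one]; norm_num
  have b22 : qB Qs u₂ u₂ = 2 := by
    rw [hp, QuadraticMap.polar_self, hQ2, nsmul_eq_mul, mul_one]; norm_num
  have b12 : qB Qs u₁ u₂ = 0 := h12
  have b21 : qB Qs u₂ u₁ = 0 := by rw [hsymm, b12]
  have hQsum : ∀ a b : F, Qs (a • u₁ + b • u₂) = a * a + b * b := by
    intro a b
    rw [QuadraticMap.map_add Qs, QuadraticMap.map_smul, QuadraticMap.map_smul, hQ1, hQ2,
      QuadraticMap.polar_smul_left, QuadraticMap.polar_smul_right, h12]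
    simp
  have hQab : ∀ a b : F, Qs (a • u₁ + b • u₂) = 0 → a = 0 ∧ b = 0 := by
    intro a b hab
    rw [hQsum] at hab
    exact otstwonec_sumsq hq a b hab
  have hvs : ∀ v ∈ [u₁, u₂], Qs v ≠ 0 := by
    intro v hv
    simp only [List.mem_cons, List.mem_nil_iff, or_false] at hv
    rcases hv with rfl | rfl
    · rw [hQ1]; exact one_ne_zero
    · rw [hQ2]; exact one_ne_zero
  have hmem := Cfsg.Agent.Lib.Helper16.master_backward h2 Qs [u₁, u₂] hvs ⟨1, rfl⟩
    (by
      simp only [List.map_cons, List.map_nil, List.prod_cons, List.prod_nil, hQ1, hQ2, mul_one]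
      exact ⟨1, (mul_one 1).symm⟩)
  obtain ⟨g, hg⟩ : ∃ g : ↥(Cfsg.isometryGroup F ⇑Qs),
      g = ([u₁, u₂].map (Cfsg.Agent.Lib.Helper16.reflG' Qs)).prod := ⟨_, rfl⟩
  rw [← hg] at hmem
  have hgcoe : (((g : GL ι F)) : Matrix ι ι F) =
      Cfsg.reflectionMatrix (⇑Qs) u₁ * Cfsg.reflectionMatrix (⇑Qs) u₂ := by
    rw [hg, Cfsg.Agent.Lib.Helper16.prod_reflG'_coe Qs [u₁, u₂] hvs]
    simp only [List.map_cons, List.map_nil, List.prod_cons, List.prod_nil, mul_one]
  have hX : ∀ w, Matrix.toLin' (((g : GL ι F)) : Matrix ι ι F) w =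
      w - qB Qs u₂ w • u₂ - qB Qs u₁ w • u₁ := by
    intro w
    rw [Matrix.toLin'_apply, hgcoe, ← Matrix.mulVec_mulVec,
      Cfsg.Agent.Lib.helper6.reflectionMatrix_mulVec, Cfsg.Agent.Lib.helper6.reflectionMatrix_mulVec,
      ← hp, ← hp, hQ1, hQ2, inv_one, one_mul, one_mul, map_sub, map_smul, b12, smul_zero, sub_zero]
  have hXX : ∀ w, Matrix.toLin' (((g : GL ι F)) : Matrix ι ι F)
      (Matrix.toLin' (((g : GL ι F)) : Matrix ι ι F) w) = w := by
    intro w
    rw [hX, hX w]
    simp only [map_sub, map_smul, smul_eq_mul, b11, b12, b21, b22]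
    module
  have hu1 : u₁ ≠ 0 := by
    intro h0
    rw [h0, map_zero] at hQ1
    exact zero_ne_one hQ1
  refine ⟨(g : GL ι F), ?_, ?_, ?_, ?_⟩
  · exact Subgroup.mem_map.mpr ⟨g, hmem, rfl⟩
  · apply Units.ext
    rw [Units.val_pow_eq_pow_val, Units.val_one]
    apply Matrix.toLin'.injective
    apply LinearMap.ext
    intro w
    rw [pow_two, Matrix.toLin'_mul, LinearMap.comp_apply, hXX, Matrix.toLin'_one,
      LinearMap.id_apply]
  · intro z hz
    have h3 := hX u₁
    have h4 := hX w₀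
    rw [hz] at h3 h4
    rw [Matrix.toLin'_apply, Matrix.smul_mulVec, Matrix.one_mulVec, b21, b11, zero_smul,
      sub_zero] at h3
    rw [Matrix.toLin'_apply, Matrix.smul_mulVec, Matrix.one_mulVec, hp, hp, hw1, hw2, zero_smul,
      zero_smul, sub_zero, sub_zero] at h4
    have hz1 : z = 1 := by
      have h5 : (z - 1) • w₀ = 0 := by rw [sub_smul, one_smul, h4, sub_self]
      rcases smul_eq_zero.mp h5 with h6 | h6
      · exact sub_eq_zero.mp h6
      · exact absurd h6 hw0
    have hzm : z = -1 := by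
      have h5 : (z + 1) • u₁ = 0 := by
        rw [add_smul, one_smul, h3]
        module
      rcases smul_eq_zero.mp h5 with h6 | h6
      · exact eq_neg_of_add_eq_zero_left h6
      · exact absurd h6 hu1
    apply h2
    have : (1 : F) = -1 := hz1.symm.trans hzm
    linear_combination this
  · rintro ⟨W, hWd, hWs, hWinv⟩
    have hperp : ∀ w ∈ W, qB Qs u₁ w = 0 ∧ qB Qs u₂ w = 0 := by
      intro w hw
      have hxw : Matrix.toLin' (((g : GL ι F)) : Matrix ι ι F) w ∈ W := hWinv ⟨w, hw, rfl⟩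
      have hdiff : qB Qs u₁ w • u₁ + qB Qs u₂ w • u₂ ∈ W := by
        have := W.sub_mem hw hxw
        rw [hX] at this
        convert this using 1
        module
      exact hQab _ _ (hWs _ hdiff)
    set P : Submodule F (ι → F) := Submodule.span F {u₁, u₂} with hP
    have hPnd : SND (qB Qs) P := by
      intro u hu hall
      obtain ⟨a, b, rfl⟩ := Submodule.mem_span_pair.mp hu
      have e1 := hall u₁ (Submodule.subset_span (by simp))
      have e2 := hall u₂ (Submodule.subset_span (by simp))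
      simp only [map_add, map_smul, LinearMap.add_apply, LinearMap.smul_apply, smul_eq_mul, b11,
        b12, b21, b22, mul_zero, add_zero, zero_add] at e1 e2
      rw [(mul_eq_zero.mp e1).resolve_right h2, (mul_eq_zero.mp e2).resolve_right h2, zero_smul,
        zero_smul, add_zero]
    have hli : LinearIndependent F ![u₁, u₂] := by
      rw [LinearIndependent.pair_iff]
      intro s t hst
      have e1 : qB Qs u₁ (s • u₁ + t • u₂) = 0 := by rw [hst, map_zero]
      have e2 : qB Qs u₂ (s • u₁ + t • u₂) = 0 := by rw [hst, map_zero]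
      simp only [map_add, map_smul, smul_eq_mul, b11, b12, b21, b22, mul_zero, add_zero,
        zero_add] at e1 e2
      exact ⟨(mul_eq_zero.mp e1).resolve_right h2, (mul_eq_zero.mp e2).resolve_right h2⟩
    have hPdim : finrank F P = 2 := by
      have := finrank_span_eq_card hli
      rw [Fintype.card_fin] at this
      have hr : Set.range ![u₁, u₂] = {u₁, u₂} := by
        ext v
        simp
        exact or_comm
      rw [hr] at this
      exact this
    obtain ⟨hty, hV⟩ := otstwonec_top Qs d 1 hs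
    have hndtop : SND (qB Qs) (⊤ : Submodule F (ι → F)) :=
      fun u _ hu => hs.nd.1 u (fun v => hu v trivial)
    obtain ⟨hdisj, hsup, hNnd, hPN, hNdim⟩ :=
      Cfsg.Agent.Lib.Helper18.ONE.nd_perp_symm (qB Qs) hsymm ⊤ P hndtop le_top hPnd
    set N : Submodule F (ι → F) := ⊤ ⊓ (qB Qs).orthogonal P with hN
    rw [finrank_top, hV, hPdim] at hNdim
    have hNev : Even (finrank F N) := ⟨d - 1, by omega⟩
    have hPev : Even (finrank F P) := ⟨1, by omega⟩
    -- the type of `P` is `-1`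
    have hPty : QTy Qs P (-1) := by
      rcases q_ty_class Qs P hPnd hPev with ⟨⟨U, hUP, hUs, hUdim⟩, -⟩ | ⟨-, h, -⟩
      · exfalso
        have hU1 : finrank F U = 1 := by omega
        obtain ⟨v, hv, hv0⟩ : ∃ v ∈ U, v ≠ 0 := by
          apply Submodule.exists_mem_ne_zero_of_ne_bot
          intro hbot
          rw [hbot, finrank_bot] at hU1
          omega
        obtain ⟨a, b, rfl⟩ := Submodule.mem_span_pair.mp (hUP hv)
        obtain ⟨ha, hb⟩ := hQab a b (hUs _ hv)
        apply hv0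
        rw [ha, hb, zero_smul, zero_smul, add_zero]
      · exact h
    -- the type of `N` is `-1`
    have hNty : QTy Qs N (-1) := by
      rcases q_ty_class Qs N hNnd hNev with ⟨-, h⟩ | ⟨-, h, -⟩
      · exfalso
        have h3 := q_ty_sum Qs P N hPnd hNnd hPN hPev hNev (-1) 1 hPty h
        rw [hsup] at h3
        exact q_ty_uniq Qs ⊤ hty (by simpa using h3)
      · exact h
    have hWN : W ≤ N := by
      intro w hw
      refine ⟨trivial, ?_⟩
      show w ∈ (qB Qs).orthogonal P
      rw [LinearMap.BilinForm.mem_orthogonal_iff]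
      intro n hn
      obtain ⟨a, b, rfl⟩ := Submodule.mem_span_pair.mp hn
      show qB Qs (a • u₁ + b • u₂) w = 0
      rw [map_add, LinearMap.add_apply, map_smul, map_smul, LinearMap.smul_apply,
        LinearMap.smul_apply, (hperp w hw).1, (hperp w hw).2, smul_zero, smul_zero, add_zero]
    have h5 := q_witt_le Qs N hNnd hNev (-1) hNty (Or.inr rfl) W hWN hWs
    rw [hWd] at h5
    have h6 : ((d - 1 : ℕ) : ℤ) = (d : ℤ) - 1 := by
      rw [Nat.cast_sub (by omega)]; simp
    have h7 : (finrank F N : ℤ) = 2 * (d : ℤ) - 2 := by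
      have : finrank F N = 2 * d - 2 := by omega
      rw [this, Nat.cast_sub (by omega)]; simp
    rw [h6, h7] at h5
    omega

end Cfsg.Agent.Lib.Helper13.OTS
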