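import Mathlib
import Cfsg.Agent.Lib.Helper13.OTSTWONECcore
import Cfsg.Agent.Lib.Helper16.SpinG
import Cfsg.Agent.Lib.Helper21.OTSISOSTD

/-!
# Project OTS (designer helper13), row TWONEC: the explicit vectors on the standard plus space, and the transport to a general standard
space `Qs` of type `1` (ISOSTD).  `hstd` is the statement of STDP (`q_std_plus`).
-/

set_option autoImplicit false
set_option linter.unusedVariables false

namespace Cfsg.Agent.Lib.Helper13.OTS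

open Polynomial Module Cfsg.Agent.Lib.Helper13.S5955 Cfsg.Agent.Lib.helper15.S5972

/-- explicit vectors of the standard plus space: `u₁ = e₀ + f₀`, `u₂ = e₁ + f₁`, `w₀ = e₀ - f₀` -/
theorem otstwonec_vec {F : Type*} [Field F] (d : ℕ) (hd : 2 ≤ d) (h2 : (2 : F) ≠ 0) :
    ∃ u₁ u₂ w₀ : Fin d ⊕ Fin d → F, Cfsg.quadFormPlus d F u₁ = 1 ∧ Cfsg.quadFormPlus d F u₂ = 1 ∧
      QuadraticMap.polar (Cfsg.quadFormPlus d F) u₁ u₂ = 0 ∧ w₀ ≠ 0 ∧
      QuadraticMap.polar (Cfsg.quadFormPlus d F) u₁ w₀ = 0 ∧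
      QuadraticMap.polar (Cfsg.quadFormPlus d F) u₂ w₀ = 0 := by
  classical
  let i0 : Fin d := ⟨0, by omega⟩
  let i1 : Fin d := ⟨1, by omega⟩
  have h01 : i0 ≠ i1 := by
    intro h
    have := congrArg Fin.val h
    simp [i0, i1] at this
  refine ⟨Pi.single (Sum.inl i0) 1 + Pi.single (Sum.inr i0) 1,
    Pi.single (Sum.inl i1) 1 + Pi.single (Sum.inr i1) 1,
    Pi.single (Sum.inl i0) 1 - Pi.single (Sum.inr i0) 1, ?_, ?_, ?_, ?_, ?_, ?_⟩
  · unfold Cfsg.quadFormPlus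
    simp [Pi.single_apply, Finset.sum_ite_eq']
  · unfold Cfsg.quadFormPlus
    simp [Pi.single_apply, Finset.sum_ite_eq']
  · rw [Cfsg.Agent.Lib.Helper16.polar_plus]
    simp [Pi.single_apply, Finset.sum_ite_eq', h01, h01.symm, Finset.sum_add_distrib]
  · intro h
    have := congrFun h (Sum.inl i0)
    simp [Pi.single_apply] at this
  · rw [Cfsg.Agent.Lib.Helper16.polar_plus]
    simp [Pi.single_apply, Finset.sum_ite_eq', Finset.sum_add_distrib]
  · rw [Cfsg.Agent.Lib.Helper16.polar_plus]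
    simp [Pi.single_apply, Finset.sum_ite_eq', h01, h01.symm, Finset.sum_add_distrib]

/-- TWONEC for a general standard space of type `1`, with the statement of STDP as a hypothesis -/
theorem otstwonec_gen {F : Type*} [Field F] [Fintype F] (hq : Fintype.card F % 4 = 3) {ι : Type}
    [Fintype ι] [DecidableEq ι] (Qs : QuadraticForm F (ι → F)) (d : ℕ) (hs : QStd Qs d 1) (hd : 2 ≤ d)
    (hstd : QStd (Cfsg.Agent.Lib.Helper16.qfPlus d F) d 1) :
    ∃ x : GL ι F, x ∈ Cfsg.Geo.omegaGL (⇑Qs) ∧ x ^ 2 = 1 ∧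
      (∀ z : F, (x : Matrix ι ι F) ≠ z • (1 : Matrix ι ι F)) ∧
      ¬ ∃ W : Submodule F (ι → F), finrank F W = d - 1 ∧ (∀ w ∈ W, Qs w = 0) ∧
        W.map (Matrix.toLin' (x : Matrix ι ι F)) ≤ W := by
  classical
  have hoddq : Odd (Fintype.card F) := by
    rw [Nat.odd_iff]
    omega
  have h2 : (2 : F) ≠ 0 := Cfsg.Agent.Lib.Helper16.OSemi.two_ne_zero_of_odd_card hoddq
  obtain ⟨u₁, u₂, w₀, hQ1, hQ2, h12, hw0, hw1, hw2⟩ := otstwonec_vec (F := F) d hd h2
  obtain ⟨hty, hV⟩ := otstwonec_top (Cfsg.Agent.Lib.Helper16.qfPlus d F) d 1 hstd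
  obtain ⟨ψ, hψ⟩ := q_iso_std Qs d 1 hs (Cfsg.Agent.Lib.Helper16.qfPlus d F)
    (fun u hu => hstd.nd.1 u hu) hV hty
  have hQψ : ∀ v : Fin d ⊕ Fin d → F, Qs (ψ.symm v) = Cfsg.quadFormPlus d F v := by
    intro v
    have := hψ (ψ.symm v)
    rw [LinearEquiv.apply_symm_apply] at this
    exact this.symm
  have hpψ : ∀ u v : Fin d ⊕ Fin d → F, QuadraticMap.polar Qs (ψ.symm u) (ψ.symm v) =
      QuadraticMap.polar (Cfsg.quadFormPlus d F) u v := by
    intro u v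
    unfold QuadraticMap.polar
    rw [← map_add, hQψ, hQψ, hQψ]
  apply otstwonec_core hq Qs d hs hd (ψ.symm u₁) (ψ.symm u₂) (ψ.symm w₀)
  · rw [hQψ, hQ1]
  · rw [hQψ, hQ2]
  · rw [hpψ, h12]
  · intro h
    apply hw0
    have := congrArg ψ h
    rwa [LinearEquiv.apply_symm_apply, map_zero] at this
  · rw [hpψ, hw1]
  · rw [hpψ, hw2]

end Cfsg.Agent.Lib.Helper13.OTS
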