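import Mathlib
import Cfsg.Agent.Lib.Helper13.OTSTWONECgen
import Cfsg.Agent.Lib.Helper13.OTSTWONECPcore
import Cfsg.Agent.Lib.helper4.OTSSTDP

/-!
# Project OTS (designer helper13), rows TWONEC (`q_two_nec_plus`) and TWONECP (`q_two_nec_plus_std`), verbatim.
-/

set_option autoImplicit false
set_option linter.unusedVariables false

namespace Cfsg.Agent.Lib.Helper13.OTS

open Polynomial Module Cfsg.Agent.Lib.Helper13.S5955 Cfsg.Agent.Lib.helper15.S5972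

/-- TWONEC [M-L] (twin of helper24's S5972 `o_two_nec`). -/
theorem q_two_nec_plus {F : Type*} [Field F] [Fintype F] (hq : Fintype.card F % 4 = 3) {ι : Type} [Fintype ι]
    [DecidableEq ι] (Qs : QuadraticForm F (ι → F)) (d : ℕ) (hs : QStd Qs d 1) (hd : 2 ≤ d) :
    ∃ x : GL ι F, x ∈ Cfsg.Geo.omegaGL (⇑Qs) ∧ x ^ 2 = 1 ∧
      (∀ z : F, (x : Matrix ι ι F) ≠ z • (1 : Matrix ι ι F)) ∧
      ¬ ∃ W : Submodule F (ι → F), finrank F W = d - 1 ∧ (∀ w ∈ W, Qs w = 0) ∧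
        W.map (Matrix.toLin' (x : Matrix ι ι F)) ≤ W :=
  otstwonec_gen hq Qs d hs hd (q_std_plus d)

/-- TWONECP [M-L]: `ε = 1`, necessity for `r = 2` on the standard plus space. -/
theorem q_two_nec_plus_std {F : Type*} [Field F] [Fintype F] {p : ℕ} [Fact p.Prime] [CharP F p]
    (hp2 : p ≠ 2) (d : ℕ) (hd : 4 ≤ d) (m : ℕ) (hm1 : 1 ≤ m) (hm : m + 1 ≤ d)
    (hall : ∀ x : GL (Fin d ⊕ Fin d) F, x ∈ Cfsg.Geo.omegaGL (Cfsg.quadFormPlus d F) →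
      (∃ z : F, ((x ^ 2 : GL (Fin d ⊕ Fin d) F) : Matrix (Fin d ⊕ Fin d) (Fin d ⊕ Fin d) F) =
        z • (1 : Matrix (Fin d ⊕ Fin d) (Fin d ⊕ Fin d) F)) →
      (∀ z : F, (x : Matrix (Fin d ⊕ Fin d) (Fin d ⊕ Fin d) F) ≠
        z • (1 : Matrix (Fin d ⊕ Fin d) (Fin d ⊕ Fin d) F)) →
      ∃ W : Submodule F (Fin d ⊕ Fin d → F), finrank F W = m ∧
        (∀ w ∈ W, Cfsg.quadFormPlus d F w = 0) ∧
        W.map (Matrix.toLin' (x : Matrix (Fin d ⊕ Fin d) (Fin d ⊕ Fin d) F)) ≤ W) :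
    Fintype.card F % 4 = 1 ∨
      (Fintype.card F % 4 = 3 ∧ m + 2 ≤ d ∧ (Even m ∨ (2 * d) % 4 = 2)) :=
  otstwonecp_core hp2 d hd m hm1 hm
    (fun hq => q_two_nec_plus hq (Cfsg.Agent.Lib.Helper16.qfPlus d F) d (q_std_plus d) (by omega)) hall

end Cfsg.Agent.Lib.Helper13.OTS
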