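import Mathlib
import Cfsg.Agent.Lib.helper23.P4S.DefsC
import Cfsg.Agent.Lib.Helper22.P4CSL7
import Cfsg.Agent.Lib.Helper29.P4CNORM

set_option autoImplicit false
set_option linter.unusedVariables false

/-!
# P4C row OUT7 (`exists_outer_plus`), project P4C (designer helper23): second copy by helper13 (own name `p4cout7_h13`).
`b ∈ E` of order `q + 1`, `s ^ (q + 1) = b + b⁻¹ + 2` (NORM), `A = !![0, 1; -1, s]`, `B = A * A^φ = !![-1, s^q; -s, s^(q+1) - 1]`
has the eigenvectors `(s^q, 1 + b)`, `(s^q, 1 + b⁻¹)` over `E` itself, so `B ^ k = 1 ↔ b ^ k = 1`.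
-/

namespace Cfsg.Agent.Lib.helper23.P4S

open Matrix

/-- the abstract matrix computation: `B P = P D`. -/
theorem p4cout7_h13_conj {E : Type*} [Field E] (b bi s sq : E) (hr : b * bi = 1)
    (hs : s * sq = b + bi + 2) :
    (!![-1, sq; -s, -1 + s * sq] : Matrix (Fin 2) (Fin 2) E) * !![sq, sq; 1 + b, 1 + bi] =
      !![sq, sq; 1 + b, 1 + bi] * Matrix.diagonal ![b, bi] := by
  ext i j
  fin_cases i <;> fin_cases j
  · simp [Matrix.mul_apply, Fin.sum_univ_two]; ring
  · simp [Matrix.mul_apply, Fin.sum_univ_two]; ring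
  · simp [Matrix.mul_apply, Fin.sum_univ_two]; linear_combination b * hs + hr
  · simp [Matrix.mul_apply, Fin.sum_univ_two]; linear_combination bi * hs + hr

/-- powers: `B ^ k * P = P * D ^ k`. -/
theorem p4cout7_h13_pow {E : Type*} [Field E] (B P D : Matrix (Fin 2) (Fin 2) E) (h : B * P = P * D)
    (k : ℕ) : B ^ k * P = P * D ^ k := by
  induction k with
  | zero => simp
  | succ k ih => rw [pow_succ, mul_assoc, h, ← mul_assoc, ih, mul_assoc, ← pow_succ]

/-- the order of a `2 × 2` matrix with two distinct eigenvalues `b`, `b⁻¹` in the field. -/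
theorem p4cout7_h13_order {E : Type*} [Field E] (B : Matrix.SpecialLinearGroup (Fin 2) E)
    (P : Matrix (Fin 2) (Fin 2) E) (hP : IsUnit P.det) (bu : Eˣ)
    (h : B.1 * P = P * Matrix.diagonal ![(bu : E), ((bu⁻¹ : Eˣ) : E)]) : orderOf B = orderOf bu := by
  have hPu : IsUnit P := (Matrix.isUnit_iff_isUnit_det P).mpr hP
  rw [orderOf_eq_orderOf_iff]
  intro k
  have hk := p4cout7_h13_pow B.1 P _ h k
  have hD : (Matrix.diagonal ![(bu : E), ((bu⁻¹ : Eˣ) : E)]) ^ k =
      Matrix.diagonal ![((bu ^ k : Eˣ) : E), (((bu ^ k)⁻¹ : Eˣ) : E)] := by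
    rw [Matrix.diagonal_pow]
    congr 1
    funext i
    fin_cases i
    · simp
    · simp
  rw [hD] at hk
  have hB : B ^ k = 1 ↔ (B.1) ^ k = 1 := by
    rw [← Matrix.SpecialLinearGroup.coe_pow]
    constructor
    · intro h1; rw [h1]; rfl
    · intro h1; exact Subtype.ext h1
  rw [hB]
  constructor
  · intro h1
    rw [h1, one_mul] at hk
    have h2 : P * 1 = P * Matrix.diagonal ![((bu ^ k : Eˣ) : E), (((bu ^ k)⁻¹ : Eˣ) : E)] := by
      rw [mul_one]; exact hk
    have h3 := hPu.mul_left_cancel h2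
    have h4 := congrFun (congrFun h3 0) 0
    simp at h4
    exact Units.ext h4.symm
  · intro h1
    rw [h1] at hk
    have h2 : Matrix.diagonal ![((1 : Eˣ) : E), (((1 : Eˣ)⁻¹ : Eˣ) : E)] = (1 : Matrix (Fin 2) (Fin 2) E) := by
      ext i j
      fin_cases i <;> fin_cases j <;> simp
    rw [h2, mul_one] at hk
    have h3 : B.1 ^ k * P = 1 * P := by rw [one_mul]; exact hk
    exact hPu.mul_right_cancel h3

/-- OUT7, own name (exact statement of `exists_outer_plus`). -/
theorem p4cout7_h13 {E : Type} [Field E] [Fintype E] (p : ℕ) [Fact p.Prime] [CharP E p] (hp : p ≠ 2) (n : ℕ) (hn : 1 ≤ n)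
    (hE : Fintype.card E = p ^ (2 * n)) :
    ∃ A : Matrix.SpecialLinearGroup (Fin 2) E,
      orderOf (A * Matrix.SpecialLinearGroup.map (frq E p n) A) = p ^ n + 1 ∧
        (A * Matrix.SpecialLinearGroup.map (frq E p n) A).1.trace ^ 2 ≠ 4 := by
  have hpp : p.Prime := Fact.out
  set q := p ^ n with hq
  have hp3 : 3 ≤ p := by
    have := hpp.two_le
    omega
  have hq3 : 3 ≤ q := le_trans hp3 (by
    calc p = p ^ 1 := (pow_one p).symm
      _ ≤ p ^ n := Nat.pow_le_pow_right (by omega) hn)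
  have hE' : Fintype.card E = q ^ 2 := by rw [hE, hq, ← pow_mul']
  have hdvd : q + 1 ∣ Fintype.card E - 1 := by
    rw [hE']
    refine ⟨q - 1, ?_⟩
    have : q ^ 2 - 1 = (q + 1) * (q - 1) := by
      zify [show 1 ≤ q by omega, show 1 ≤ q ^ 2 from Nat.one_le_pow _ _ (by omega)]
      ring
    exact this
  obtain ⟨bu, hbu⟩ := p4csl7_exists_unit (E := E) (q + 1) hdvd
  set b : E := (bu : E) with hb
  set bi : E := ((bu⁻¹ : Eˣ) : E) with hbi
  have hr : b * bi = 1 := by rw [hb, hbi, ← Units.val_mul, mul_inv_cancel, Units.val_one]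
  have hbpow : b ^ (q + 1) = 1 := by
    rw [hb, ← Units.val_pow_eq_pow_val, ← hbu, pow_orderOf_eq_one, Units.val_one]
  have hbipow : bi ^ (q + 1) = 1 := by
    rw [hbi, ← Units.val_pow_eq_pow_val, inv_pow, ← hbu, pow_orderOf_eq_one, inv_one, Units.val_one]
  -- `b ^ q = bi`, `bi ^ q = b`
  have hbq : b ^ q = bi := by
    have h1 : b ^ q * b = 1 := by rw [← pow_succ, hbpow]
    calc b ^ q = b ^ q * (b * bi) := by rw [hr, mul_one]
      _ = (b ^ q * b) * bi := by ring
      _ = bi := by rw [h1, one_mul]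
  have hbiq : bi ^ q = b := by
    have h1 : bi ^ q * bi = 1 := by rw [← pow_succ, hbipow]
    calc bi ^ q = bi ^ q * (bi * b) := by rw [mul_comm bi b, hr, mul_one]
      _ = (bi ^ q * bi) * b := by ring
      _ = b := by rw [h1, one_mul]
  -- `c = b + bi + 2` is fixed by the `q`-Frobenius
  have hc : (b + bi + 2) ^ q = b + bi + 2 := by
    have h1 : frq E p n (b + bi + 2) = (b + bi + 2) ^ q := frq_apply E p n _
    rw [← h1, map_add, map_add, frq_apply, frq_apply, hbq, hbiq, map_ofNat]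
    ring
  obtain ⟨s, hs⟩ := norm_surj q (by omega) hE' (b + bi + 2) hc
  have hs' : s * s ^ q = b + bi + 2 := by rw [← hs, pow_succ]; ring
  -- `b ≠ bi`
  have hbne : b ≠ bi := by
    intro h
    have h1 : b ^ 2 = 1 := by rw [pow_two]; nth_rewrite 2 [h]; exact hr
    have h2 : bu ^ 2 = 1 := Units.ext (by rw [Units.val_pow_eq_pow_val, Units.val_one]; exact h1)
    have h3 : orderOf bu ∣ 2 := orderOf_dvd_of_pow_eq_one h2
    rw [hbu] at h3
    have := Nat.le_of_dvd (by norm_num) h3
    omega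
  -- `s ≠ 0`
  have hs0 : s ≠ 0 := by
    intro h0
    rw [h0, zero_mul] at hs'
    -- `b + bi + 2 = 0` gives `(b + 1)^2 = 0`
    have h1 : (b + 1) ^ 2 = 0 := by linear_combination (-b) * hs' - hr
    have h2 : b = -1 := by
      have := pow_eq_zero_iff (two_ne_zero) |>.mp h1
      linear_combination this
    have h3 : bi = -1 := by
      have : b * bi = 1 := hr
      rw [h2] at this
      linear_combination -this
    exact hbne (h2.trans h3.symm)
  have hsq0 : s ^ q ≠ 0 := pow_ne_zero _ hs0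
  -- the matrices
  let A : Matrix.SpecialLinearGroup (Fin 2) E := ⟨!![0, 1; -1, s], by simp [Matrix.det_fin_two]⟩
  have hAφ : (Matrix.SpecialLinearGroup.map (frq E p n) A).1 = !![0, 1; -1, s ^ q] := by
    rw [Matrix.SpecialLinearGroup.map_apply_coe]
    have hfs : frq E p n s = s ^ q := frq_apply E p n s
    ext i j
    fin_cases i <;> fin_cases j
    · simp [A]
    · simp [A]
    · simp [A]
    · simp [A, hfs]
  have hB : (A * Matrix.SpecialLinearGroup.map (frq E p n) A).1 = !![-1, s ^ q; -s, -1 + s * s ^ q] := by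
    rw [Matrix.SpecialLinearGroup.coe_mul, hAφ]
    ext i j
    fin_cases i <;> fin_cases j <;> simp [A, Matrix.mul_apply, Fin.sum_univ_two]
  refine ⟨A, ?_, ?_⟩
  · have hconj := p4cout7_h13_conj b bi s (s ^ q) hr hs'
    have hPdet : IsUnit (!![s ^ q, s ^ q; 1 + b, 1 + bi] : Matrix (Fin 2) (Fin 2) E).det := by
      rw [Matrix.det_fin_two_of, isUnit_iff_ne_zero]
      intro h0
      have h1 : s ^ q * (bi - b) = 0 := by linear_combination h0
      rcases mul_eq_zero.mp h1 with h | h
      · exact hsq0 h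
      · exact hbne (sub_eq_zero.mp h).symm
    have := p4cout7_h13_order (A * Matrix.SpecialLinearGroup.map (frq E p n) A) _ hPdet bu
      (by rw [hB]; exact hconj)
    rw [this, hbu]
  · rw [hB, Matrix.trace_fin_two_of]
    intro h4
    apply hbne
    have h5 : (b - bi) ^ 2 = 0 := by
      have : (-1 + (-1 + s * s ^ q)) ^ 2 = 4 := h4
      rw [hs'] at this
      linear_combination this - 4 * hr
    exact sub_eq_zero.mp (pow_eq_zero_iff (two_ne_zero) |>.mp h5)

end Cfsg.Agent.Lib.helper23.P4S
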