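import Mathlib
import Cfsg.Agent.Lib.helper23.P4S.DefsC

set_option autoImplicit false
set_option linter.unusedVariables false

/-!
# P4C row R3 (`rho2M_uni`), project P4C (designer helper23), written by helper13.
-/

namespace Cfsg.Agent.Lib.helper23.P4S

open Matrix
open scoped Kronecker

/-- ring lemma: commuting square-zero elements `P`, `Q`: `ν = P + Q + P Q` has `ν² = 2 P Q`, `ν³ = 0`. -/
theorem p4cr3_ring {R : Type*} [Ring R] (P Q : R) (hPQ : Q * P = P * Q) (hPP : P * P = 0)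
    (hQQ : Q * Q = 0) :
    (P + Q + P * Q) ^ 2 = P * Q + P * Q ∧ (P + Q + P * Q) ^ 3 = 0 := by
  have h1 : P * (P * Q) = 0 := by rw [← mul_assoc, hPP, zero_mul]
  have h2 : Q * (P * Q) = 0 := by rw [← mul_assoc, hPQ, mul_assoc, hQQ, mul_zero]
  have h3 : (P * Q) * P = 0 := by rw [mul_assoc, hPQ, h1]
  have h4 : (P * Q) * Q = 0 := by rw [mul_assoc, hQQ, mul_zero]
  have h5 : (P * Q) * (P * Q) = 0 := by rw [mul_assoc, h2, mul_zero]
  have e2 : (P + Q + P * Q) * (P + Q + P * Q) = P * Q + P * Q := by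
    have : (P + Q + P * Q) * (P + Q + P * Q) =
        P * P + P * Q + P * (P * Q) + (Q * P + Q * Q + Q * (P * Q)) +
          ((P * Q) * P + (P * Q) * Q + (P * Q) * (P * Q)) := by noncomm_ring
    rw [this, hPP, h1, hPQ, hQQ, h2, h3, h4, h5]
    abel
  refine ⟨by rw [pow_two, e2], ?_⟩
  rw [pow_succ, pow_two, e2]
  have : (P * Q + P * Q) * (P + Q + P * Q) =
      ((P * Q) * P + (P * Q) * Q + (P * Q) * (P * Q)) +
        ((P * Q) * P + (P * Q) * Q + (P * Q) * (P * Q)) := by noncomm_ring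
  rw [this, h3, h4, h5]
  abel

/-- the Kronecker core: `N² = 0 = N'²` gives `((1+N) ⊗ (1+N') - 1)³ = 0` and the square is `2 (N ⊗ N')`. -/
theorem p4cr3_kron {E : Type*} [CommRing E] (N N' : Matrix (Fin 2) (Fin 2) E) (hN : N * N = 0)
    (hN' : N' * N' = 0) :
    (((1 + N) ⊗ₖ (1 + N')) - 1) ^ 2 = N ⊗ₖ N' + N ⊗ₖ N' ∧ (((1 + N) ⊗ₖ (1 + N')) - 1) ^ 3 = 0 := by
  set P : Matrix (Fin 2 × Fin 2) (Fin 2 × Fin 2) E := N ⊗ₖ (1 : Matrix (Fin 2) (Fin 2) E) with hP
  set Q : Matrix (Fin 2 × Fin 2) (Fin 2 × Fin 2) E := (1 : Matrix (Fin 2) (Fin 2) E) ⊗ₖ N' with hQ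
  have hPQ' : P * Q = N ⊗ₖ N' := by
    rw [hP, hQ, ← Matrix.mul_kronecker_mul, mul_one, one_mul]
  have hQP : Q * P = P * Q := by
    rw [hPQ', hP, hQ, ← Matrix.mul_kronecker_mul, mul_one, one_mul]
  have hPP : P * P = 0 := by
    rw [hP, ← Matrix.mul_kronecker_mul, hN, Matrix.zero_kronecker]
  have hQQ : Q * Q = 0 := by
    rw [hQ, ← Matrix.mul_kronecker_mul, hN', Matrix.kronecker_zero]
  have hν : ((1 + N) ⊗ₖ (1 + N')) - 1 = P + Q + P * Q := by
    rw [hPQ', Matrix.add_kronecker, Matrix.kronecker_add, Matrix.kronecker_add,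
      Matrix.one_kronecker_one]
    abel
  rw [hν, ← hPQ']
  exact p4cr3_ring P Q hQP hPP hQQ

/-- Cayley–Hamilton for `2 × 2` matrices of determinant `1`. -/
theorem p4cr3_ch {E : Type*} [CommRing E] (A : Matrix (Fin 2) (Fin 2) E) (hdet : A.det = 1) :
    A * A - A.trace • A + 1 = 0 := by
  rw [Matrix.det_fin_two] at hdet
  ext i j
  fin_cases i <;> fin_cases j <;>
    simp [Matrix.mul_apply, Fin.sum_univ_two, Matrix.trace_fin_two] <;>
    first | ring1 | linear_combination -hdet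

/-- `(-A) ⊗ (-B) = A ⊗ B` -/
theorem p4cr3_neg_kron_neg {E : Type*} [CommRing E] (A B : Matrix (Fin 2) (Fin 2) E) :
    (-A) ⊗ₖ (-B) = A ⊗ₖ B := by
  ext ⟨i, j⟩ ⟨k, l⟩
  simp [Matrix.kroneckerMap_apply]

/-- R3, verbatim. -/
theorem rho2M_uni {E : Type} [Field E] (φ : E →+* E) (A : Matrix (Fin 2) (Fin 2) E) (hdet : A.det = 1)
    (htr : A.trace ^ 2 = 4) :
    (rho2M φ A - 1) ^ 3 = 0 ∧ ((2 : E) = 0 → (rho2M φ A - 1) ^ 2 = 0) := by
  have hch := p4cr3_ch A hdet
  -- `A = 1 + N` or `A = -(1 + N)` with `N * N = 0`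
  have hcase : ∃ N : Matrix (Fin 2) (Fin 2) E, N * N = 0 ∧ (A = 1 + N ∨ A = -(1 + N)) := by
    by_cases h2 : (2 : E) = 0
    · -- characteristic 2: trace 0
      have ht : A.trace = 0 := by
        have h4 : (4 : E) = 0 := by
          have : (4 : E) = 2 * 2 := by norm_num
          rw [this, h2, zero_mul]
        rw [h4] at htr
        exact pow_eq_zero_iff (two_ne_zero) |>.mp htr
      rw [ht, zero_smul, sub_zero] at hch
      refine ⟨A - 1, ?_, Or.inl (by abel)⟩
      have h2A : A + A = 0 := by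
        have : A + A = (2 : E) • A := by rw [two_smul]
        rw [this, h2, zero_smul]
      have h11 : (1 : Matrix (Fin 2) (Fin 2) E) + 1 = 0 := by
        have : (1 : Matrix (Fin 2) (Fin 2) E) + 1 = (2 : E) • 1 := by rw [two_smul]
        rw [this, h2, zero_smul]
      have : (A - 1) * (A - 1) = (A * A + 1) - (A + A) := by noncomm_ring
      rw [this, hch, h2A, sub_zero]
    · -- `tr A = ± 2`
      have hfac : (A.trace - 2) * (A.trace + 2) = 0 := by linear_combination htr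
      rcases mul_eq_zero.mp hfac with h | h
      · have ht : A.trace = 2 := by linear_combination h
        rw [ht] at hch
        refine ⟨A - 1, ?_, Or.inl (by abel)⟩
        have : (A - 1) * (A - 1) = A * A - (2 : E) • A + 1 := by
          rw [two_smul]; noncomm_ring
        rw [this, hch]
      · have ht : A.trace = -2 := by linear_combination h
        rw [ht] at hch
        refine ⟨-A - 1, ?_, Or.inr (by abel)⟩
        have : (-A - 1) * (-A - 1) = A * A - (-2 : E) • A + 1 := by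
          rw [neg_smul, two_smul]; noncomm_ring
        rw [this, hch]
  obtain ⟨N, hN, hA⟩ := hcase
  have hN' : N.map φ * N.map φ = 0 := by
    rw [← Matrix.map_mul, hN, Matrix.map_zero _ (map_zero φ)]
  have hrho : rho2M φ A = (1 + N) ⊗ₖ (1 + N.map φ) := by
    unfold rho2M
    rcases hA with hA | hA
    · rw [hA, Matrix.map_add _ (map_add φ), Matrix.map_one φ (map_zero φ) (map_one φ)]
    · rw [hA, Matrix.map_neg _ (map_neg φ), Matrix.map_add _ (map_add φ),
        Matrix.map_one φ (map_zero φ) (map_one φ), p4cr3_neg_kron_neg]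
  obtain ⟨h2, h3⟩ := p4cr3_kron N (N.map φ) hN hN'
  rw [hrho]
  refine ⟨h3, fun h20 => ?_⟩
  rw [h2]
  have : N ⊗ₖ N.map φ + N ⊗ₖ N.map φ = (2 : E) • (N ⊗ₖ N.map φ) := by rw [two_smul]
  rw [this, h20, zero_smul]

end Cfsg.Agent.Lib.helper23.P4S
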