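import Mathlib
import Cfsg.Agent.Lib.helper23.P4V.Defs

set_option autoImplicit false

/-!
# P4V rows C3A (`sym_solve`) and C3AT (`sym_solveT`), second copies by helper13 (explicit Cramer solution).
-/

namespace Cfsg.Agent.Lib.helper23.P4V

open Matrix

universe u

section Field

variable {F : Type u} [Field F]

/-- the common determinant `(1 - ν)(τ - ν - 1)(τ + ν + 1)` is nonzero for good parameters. -/
theorem p4vc3a_h13_det_ne (τ ν : F) (hG : Good τ ν) :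
    (ν + 1) * (ν ^ 2 + τ ^ 2 - 1) - 2 * ν * τ ^ 2 ≠ 0 := by
  obtain ⟨_, hν1, hirr⟩ := hG
  have h1 := hirr 1
  have h2 := hirr (-1)
  have e : (ν + 1) * (ν ^ 2 + τ ^ 2 - 1) - 2 * ν * τ ^ 2 =
      (ν - 1) * ((1 : F) ^ 2 - τ * 1 + ν) * ((-1 : F) ^ 2 - τ * (-1) + ν) := by ring
  rw [e]
  exact mul_ne_zero (mul_ne_zero (sub_ne_zero.mpr hν1) h1) h2

omit [Field F] in
/-- a symmetric `2 × 2` matrix in coordinates. -/
theorem p4vc3a_h13_sym_eta (s : M2 F) (hs : sᵀ = s) : s = !![s 0 0, s 0 1; s 0 1, s 1 1] := by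
  have h10 : s 1 0 = s 0 1 := by
    have := congrFun (congrFun hs 0) 1
    simpa [Matrix.transpose_apply] using this
  ext i j
  fin_cases i <;> fin_cases j <;> simp [h10]

omit [Field F] in
theorem p4vc3a_h13_sym_of (a b c : F) : (!![a, b; b, c] : M2 F)ᵀ = !![a, b; b, c] := by
  ext i j
  fin_cases i <;> fin_cases j <;> simp [Matrix.transpose_apply]

theorem p4vc3a_h13_cmpT (τ ν : F) : (cmp τ ν)ᵀ = !![0, 1; -ν, τ] := by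
  ext i j
  fin_cases i <;> fin_cases j <;> simp [cmp, Matrix.transpose_apply]

theorem p4vc3a_h13_formula (τ ν r₁ r₂ r₃ : F) :
    cmp τ ν * !![r₁, r₂; r₂, r₃] * (cmp τ ν)ᵀ - !![r₁, r₂; r₂, r₃] =
      !![ν ^ 2 * r₃ - r₁, -(ν + 1) * r₂ - ν * τ * r₃;
         -(ν + 1) * r₂ - ν * τ * r₃, r₁ + 2 * τ * r₂ + (τ ^ 2 - 1) * r₃] := by
  rw [p4vc3a_h13_cmpT, cmp, Matrix.mul_fin_two, Matrix.mul_fin_two]
  ext i j
  fin_cases i <;> fin_cases j <;> simp <;> ring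

theorem p4vc3a_h13_formulaT (τ ν r₁ r₂ r₃ : F) :
    (cmp τ ν)ᵀ * !![r₁, r₂; r₂, r₃] * cmp τ ν - !![r₁, r₂; r₂, r₃] =
      !![r₃ - r₁, -(ν + 1) * r₂ + τ * r₃;
         -(ν + 1) * r₂ + τ * r₃, ν ^ 2 * r₁ - 2 * ν * τ * r₂ + (τ ^ 2 - 1) * r₃] := by
  rw [p4vc3a_h13_cmpT, cmp, Matrix.mul_fin_two, Matrix.mul_fin_two]
  ext i j
  fin_cases i <;> fin_cases j <;> simp <;> ring

/-- own copy of C3A. -/
theorem p4vc3a_h13_sym_solve (τ ν : F) (hG : Good τ ν) (s : M2 F) (hs : sᵀ = s) :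
    ∃ r : M2 F, rᵀ = r ∧ cmp τ ν * r * (cmp τ ν)ᵀ - r = s := by
  have hD := p4vc3a_h13_det_ne τ ν hG
  set D : F := (ν + 1) * (ν ^ 2 + τ ^ 2 - 1) - 2 * ν * τ ^ 2 with hDdef
  set s₁ := s 0 0
  set s₂ := s 0 1
  set s₃ := s 1 1
  set r₃ : F := ((ν + 1) * (s₁ + s₃) + 2 * τ * s₂) / D with hr₃
  set r₂ : F := (-s₂ * (ν ^ 2 + τ ^ 2 - 1) - ν * τ * (s₁ + s₃)) / D with hr₂
  refine ⟨!![ν ^ 2 * r₃ - s₁, r₂; r₂, r₃], p4vc3a_h13_sym_of _ _ _, ?_⟩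
  rw [p4vc3a_h13_formula, p4vc3a_h13_sym_eta s hs]
  have e1 : ν ^ 2 * r₃ - (ν ^ 2 * r₃ - s₁) = s₁ := by ring
  have e2 : -(ν + 1) * r₂ - ν * τ * r₃ = s₂ := by
    rw [hr₂, hr₃]
    field_simp
    rw [hDdef]
    ring
  have e3 : ν ^ 2 * r₃ - s₁ + 2 * τ * r₂ + (τ ^ 2 - 1) * r₃ = s₃ := by
    rw [hr₂, hr₃]
    field_simp
    rw [hDdef]
    ring
  rw [e1, e2, e3]

/-- own copy of C3AT. -/
theorem p4vc3a_h13_sym_solveT (τ ν : F) (hG : Good τ ν) (s : M2 F) (hs : sᵀ = s) :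
    ∃ r : M2 F, rᵀ = r ∧ (cmp τ ν)ᵀ * r * cmp τ ν - r = s := by
  have hD := p4vc3a_h13_det_ne τ ν hG
  set D : F := (ν + 1) * (ν ^ 2 + τ ^ 2 - 1) - 2 * ν * τ ^ 2 with hDdef
  set s₁ := s 0 0
  set s₂ := s 0 1
  set s₃ := s 1 1
  set r₃ : F := ((ν + 1) * (s₃ + ν ^ 2 * s₁) - 2 * ν * τ * s₂) / D with hr₃
  set r₂ : F := (-s₂ * (ν ^ 2 + τ ^ 2 - 1) + τ * (s₃ + ν ^ 2 * s₁)) / D with hr₂
  refine ⟨!![r₃ - s₁, r₂; r₂, r₃], p4vc3a_h13_sym_of _ _ _, ?_⟩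
  rw [p4vc3a_h13_formulaT, p4vc3a_h13_sym_eta s hs]
  have e1 : r₃ - (r₃ - s₁) = s₁ := by ring
  have e2 : -(ν + 1) * r₂ + τ * r₃ = s₂ := by
    rw [hr₂, hr₃]
    field_simp
    rw [hDdef]
    ring
  have e3 : ν ^ 2 * (r₃ - s₁) - 2 * ν * τ * r₂ + (τ ^ 2 - 1) * r₃ = s₃ := by
    rw [hr₂, hr₃]
    field_simp
    rw [hDdef]
    ring
  rw [e1, e2, e3]

end Field

end Cfsg.Agent.Lib.helper23.P4V
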