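import Mathlib
import Cfsg.Agent.Lib.helper23.P4V.Defs
import Cfsg.Agent.Lib.Helper13.P4VC3Ah13

set_option autoImplicit false

namespace Cfsg.Agent.Lib.helper23.P4V

open Matrix

universe u

section Field

variable {F : Type u} [Field F]

/-- **C3A** [H].  With `r = !![r₁, r₂; r₂, r₃]`: `A r Aᵀ - r = !![ν² r₃ - r₁, -(ν+1) r₂ - ντ r₃; ·,
r₁ + 2τ r₂ + (τ²-1) r₃]`, a linear system of determinant `(1-ν)(τ-ν-1)(τ+ν+1) ≠ 0` (`Good`: `ν ≠ 1`, no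
root at `t = 1`, `t = -1`); solve by Cramer. -/
theorem sym_solve (τ ν : F) (hG : Good τ ν) (s : M2 F) (hs : sᵀ = s) :
    ∃ r : M2 F, rᵀ = r ∧ cmp τ ν * r * (cmp τ ν)ᵀ - r = s :=
  p4vc3a_h13_sym_solve τ ν hG s hs

/-- **C3AT** [H].  `Aᵀ r A - r = !![r₃ - r₁, -(ν+1) r₂ + τ r₃; ·, ν² r₁ - 2ντ r₂ + (τ²-1) r₃]`, the same
determinant. -/
theorem sym_solveT (τ ν : F) (hG : Good τ ν) (s : M2 F) (hs : sᵀ = s) :
    ∃ r : M2 F, rᵀ = r ∧ (cmp τ ν)ᵀ * r * cmp τ ν - r = s :=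
  p4vc3a_h13_sym_solveT τ ν hG s hs

end Field

end Cfsg.Agent.Lib.helper23.P4V
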