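import Mathlib
import Cfsg.Agent.Lib.helper23.P4V.Defs

set_option autoImplicit false

/-!
# P4V row I2 (`caseI_nz`): core on the statements of OM2 (`om_mulVec`), OM3 (`om_nondeg`), FR3 (`frame_expand`).
-/

namespace Cfsg.Agent.Lib.helper23.P4V

open Matrix

universe u

section Field

variable {F : Type u} [Field F]

theorem p4vi2_om_add_left (u u' v : V F) : om (u + u') v = om u v + om u' v := by
  unfold om
  simp only [Pi.add_apply]
  ring

theorem p4vi2_om_smul_left (c : F) (u v : V F) : om (c • u) v = c * om u v := by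
  unfold om
  simp only [Pi.smul_apply, smul_eq_mul]
  ring

theorem p4vi2_om_smul_right (c : F) (u v : V F) : om u (c • v) = c * om u v := by
  unfold om
  simp only [Pi.smul_apply, smul_eq_mul]
  ring

theorem p4vi2_om_swap (u v : V F) : om v u = -om u v := by
  unfold om
  ring

theorem p4vi2_om_zero_left (v : V F) : om 0 v = 0 := by
  unfold om
  simp

/-- I2 with the statements of OM2, OM3, FR3 as hypotheses. -/
theorem p4vi2_core (g : M4 F) (v e₂ f₂ : V F)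
    (hφ : om v (g *ᵥ v) ≠ 0) (hfr : IsFrame v e₂ ((om v (g *ᵥ v))⁻¹ • (g *ᵥ v)) f₂)
    (hOM2 : ∀ u w : V F, om (g *ᵥ u) (g *ᵥ w) = om u w)
    (hOM3 : ∀ u : V F, u ≠ 0 → ∃ w : V F, om u w = 1)
    (hFR3 : ∀ u : V F, u = om u ((om v (g *ᵥ v))⁻¹ • (g *ᵥ v)) • v + om u f₂ • e₂ - om u v •
      ((om v (g *ᵥ v))⁻¹ • (g *ᵥ v)) - om u e₂ • f₂) :
    om (g *ᵥ e₂) e₂ ≠ 0 ∨ om (g *ᵥ e₂) f₂ ≠ 0 := by
  by_contra hcon
  push Not at hcon
  obtain ⟨h1, h2⟩ := hcon
  obtain ⟨a1, a2, a3, a4, a5, a6⟩ := hfr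
  set φ := om v (g *ᵥ v) with hφdef
  -- the `v`-coefficient of `g e₂`
  have hc1 : om (g *ᵥ e₂) (φ⁻¹ • (g *ᵥ v)) = 0 := by
    rw [p4vi2_om_smul_right, hOM2, p4vi2_om_swap, a1, neg_zero, mul_zero]
  have hexp := hFR3 (g *ᵥ e₂)
  rw [hc1, h1, h2, zero_smul, zero_smul, zero_smul, zero_add, sub_zero] at hexp
  -- `g (e₂ + c • v) = 0`
  set c : F := om (g *ᵥ e₂) v * φ⁻¹ with hc
  have hg0 : g *ᵥ (e₂ + c • v) = 0 := by
    rw [Matrix.mulVec_add, Matrix.mulVec_smul, hexp, hc, smul_smul, zero_sub, neg_add_cancel]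
  -- so `e₂ + c • v = 0`
  have hw0 : e₂ + c • v = 0 := by
    by_contra hne
    obtain ⟨w, hw⟩ := hOM3 _ hne
    have := hOM2 (e₂ + c • v) w
    rw [hg0, p4vi2_om_zero_left, hw] at this
    exact zero_ne_one this
  -- contradiction with `om (e₂ + c • v) f₂ = 1`
  have h3 : om (e₂ + c • v) f₂ = 1 := by
    rw [p4vi2_om_add_left, p4vi2_om_smul_left, a4, a5, mul_zero, add_zero]
  rw [hw0, p4vi2_om_zero_left] at h3
  exact zero_ne_one h3

end Field

end Cfsg.Agent.Lib.helper23.P4V
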