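import Mathlib
import Cfsg.Prelude.Def_Classical
import Cfsg.Agent.Lib.helper23.P4V.Defs
import Cfsg.Agent.Lib.Helper20.P4VOM2
import Cfsg.Agent.Lib.Helper9.P4VOM3
import Cfsg.Agent.Lib.Helper20.P4VFR3x
import Cfsg.Agent.Lib.Helper13.P4VI2core

/-!
# P4V row I2 (helper13): `caseI_nz`, verbatim.

One-liner over `p4vi2_core` (Helper13/P4VI2core) with OM2 `om_mulVec` (Helper20/P4VOM2),
OM3 `om_nondeg` (Helper9/P4VOM3) and the FR3 spare `p4vfr3_h20_frame_expand` (Helper20/P4VFR3x).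
-/

set_option autoImplicit false

namespace Cfsg.Agent.Lib.helper23.P4V

open Matrix

universe u

section Field

variable {F : Type u} [Field F]

/-- **I2**. -/
theorem caseI_nz (g : M4 F) (hg : g ∈ Matrix.symplecticGroup (Fin 2) F) (v e₂ f₂ : V F)
    (hφ : om v (g *ᵥ v) ≠ 0) (hfr : IsFrame v e₂ ((om v (g *ᵥ v))⁻¹ • (g *ᵥ v)) f₂) :
    om (g *ᵥ e₂) e₂ ≠ 0 ∨ om (g *ᵥ e₂) f₂ ≠ 0 :=
  p4vi2_core g v e₂ f₂ hφ hfr (fun u w => om_mulVec g hg u w) om_nondeg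
    (fun u => p4vfr3_h20_frame_expand _ _ _ _ hfr u)

end Field

end Cfsg.Agent.Lib.helper23.P4V
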