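import Mathlib
import Cfsg.Agent.Lib.helper23.P4V.Defs

set_option autoImplicit false

namespace Cfsg.Agent.Lib.helper23.P4V

open Matrix

universe u

section Field

variable {F : Type u} [Field F]

/-- a field with at least three elements has an element outside `{0, ν}`. -/
theorem p4vi3a_exists_ne [Fintype F] (h3 : 3 ≤ Fintype.card F) (ν : F) : ∃ y : F, y ≠ 0 ∧ y ≠ ν := by
  classical
  by_contra h
  push Not at h
  have hsub : (Finset.univ : Finset F) ⊆ ({0, ν} : Finset F) := by
    intro y _
    by_cases hy : y = 0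
    · simp [hy]
    · simp [h y hy]
  have h1 := Finset.card_le_card hsub
  have h2 : ({0, ν} : Finset F).card ≤ 2 := Finset.card_le_two
  rw [Finset.card_univ] at h1
  omega

/-- an upper triangular matrix with different diagonal entries, determinant `ν²`, trace `≠ 2ν`. -/
theorem p4vi3a_insig_tri (ν x y b : F) (hdet : x * y = ν ^ 2) (htr : x + y ≠ 2 * ν)
    (hns : x ≠ y ∨ b ≠ 0) : InSig ν !![x, b; 0, y] := by
  right
  refine ⟨?_, ?_, ?_⟩
  · rw [Matrix.det_fin_two_of, mul_zero, sub_zero, hdet]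
  · rw [Matrix.trace_fin_two_of]
    exact htr
  · rintro ⟨c, hc⟩
    have h00 := congrFun (congrFun hc 0) 0
    have h11 := congrFun (congrFun hc 1) 1
    have h01 := congrFun (congrFun hc 0) 1
    simp at h00 h11 h01
    rcases hns with h | h
    · exact h (h00.trans h11.symm)
    · exact h h01

/-- **I3A** [H] (pure algebra, `κ ≠ 0`).  Take `s₁₂ = 0`; then the matrix is `!![x, -x η/φ; 0, y]` with
`x = -φ s₁₁` and `y = α + s₂₂ κ` free.  `η = 0`: `x = y = ν` (the scalar `ν`).  `η ≠ 0`, `2 ≠ 0`:
`x = y = -ν` (not scalar, trace `-2ν ≠ 2ν`).  `η ≠ 0`, `2 = 0`: `y ∉ {0, ν}` (`3 ≤ |F|`), `x = ν²/y ≠ y`. -/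
theorem caseI_algA [Fintype F] (h3 : 3 ≤ Fintype.card F) (ν : F) (hν : ν ≠ 0) (φ η κ α : F)
    (hφ : φ ≠ 0) (hκ : κ ≠ 0) :
    ∃ s₁₁ s₁₂ s₂₂ : F,
      InSig ν !![-φ * s₁₁, s₁₁ * η + s₁₂ * κ; -φ * s₁₂, α + s₁₂ * η + s₂₂ * κ] := by
  -- general shape with `s₁₂ = 0`
  have key : ∀ x y : F, InSig ν !![x, (-x / φ) * η; 0, y] →
      ∃ s₁₁ s₁₂ s₂₂ : F,
        InSig ν !![-φ * s₁₁, s₁₁ * η + s₁₂ * κ; -φ * s₁₂, α + s₁₂ * η + s₂₂ * κ] := by
    intro x y h
    refine ⟨-x / φ, 0, (y - α) / κ, ?_⟩
    have e1 : -φ * (-x / φ) = x := by field_simp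
    have e2 : -x / φ * η + 0 * κ = (-x / φ) * η := by ring
    have e3 : -φ * 0 = (0 : F) := by ring
    have e4 : α + 0 * η + (y - α) / κ * κ = y := by field_simp; ring
    rw [e1, e2, e3, e4]
    exact h
  by_cases hη : η = 0
  · -- the scalar `ν`
    apply key ν ν
    left
    rw [hη, mul_zero]
    ext i j
    fin_cases i <;> fin_cases j <;> simp
  · by_cases h2 : (2 : F) = 0
    · obtain ⟨y, hy0, hyν⟩ := p4vi3a_exists_ne h3 ν
      apply key (ν ^ 2 / y) y
      have hxy : ν ^ 2 / y ≠ y := by
        intro h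
        have h4 : ν ^ 2 = y * y := by
          field_simp at h
          linear_combination h
        have h5 : (y - ν) ^ 2 = 0 := by
          linear_combination (-1 : F) * h4 + (ν ^ 2 - y * ν) * h2
        have h6 : y - ν = 0 := by
          exact pow_eq_zero_iff (two_ne_zero) |>.mp h5
        exact hyν (sub_eq_zero.mp h6)
      apply p4vi3a_insig_tri
      · field_simp
      · rw [h2, zero_mul]
        intro h
        apply hxy
        have : ν ^ 2 / y = -y := by linear_combination h
        rw [this]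
        linear_combination (-y) * h2
      · exact Or.inl hxy
    · apply key (-ν) (-ν)
      apply p4vi3a_insig_tri
      · ring
      · intro h
        have h4 : (2 : F) * (2 * ν) = 0 := by linear_combination -h
        rcases mul_eq_zero.mp h4 with h5 | h5
        · exact h2 h5
        · rcases mul_eq_zero.mp h5 with h6 | h6
          · exact h2 h6
          · exact hν h6
      · right
        have : - -ν / φ * η = ν / φ * η := by ring
        rw [this]
        exact mul_ne_zero (div_ne_zero hν hφ) hη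

end Field

end Cfsg.Agent.Lib.helper23.P4V
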