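import Mathlib
import Cfsg.Prelude.Def_Classical
import Cfsg.Agent.S0279
import Cfsg.Agent.S2412
import Cfsg.Agent.Lib.Helper21.PresQuot
import Cfsg.Agent.Lib.Helper21.SAPTietze

/-!
# PSU block END (helper13, for helper27's S2291)

* the centre of `SU_n(q)` is cyclic (central elements are scalar, `S0279.central_is_scalar`; a finite group embedded in `Fˣ` is cyclic);
* END: a presentation of `SU_n(q)` on `k` generators with `r` relators gives a presentation of `PSU_n(q)` on `2` generators
  with at most `r + 3` relators (`+1`: a generator of the centre, `Helper21.PresQuot.quot_central`; `+2`: Tietze,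
  `Helper21.SAPT.change_gens_pair` with the generating pair of the landed S2412);
* `psu_s2291`: the frozen statement S2291 from a bounded presentation of `SU_n(q)` with at most `77` relators
  (any number of generators).
-/

set_option autoImplicit false

namespace Cfsg.Agent.Lib.Helper13.PSUEND

universe u

section END

variable {F : Type u} [Field F] [Fintype F]

/-- the top left entry, as a monoid hom on the centre of `SU_n(q)` into `Fˣ`: stated as an injective map into `F`
through scalar matrices. -/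
theorem center_scalar {q n : ℕ} (hF : Fintype.card F = q ^ 2) (hn : 2 ≤ n)
    (A : Cfsg.SU n F q) (hA : A ∈ Subgroup.center (Cfsg.SU n F q)) :
    ∃ l : F, ((A : Matrix.SpecialLinearGroup (Fin n) F) : Matrix (Fin n) (Fin n) F) =
      Matrix.scalar (Fin n) l := by
  apply Cfsg.Agent.S0279.central_is_scalar hF hn
  intro B hB
  have h := (Subgroup.mem_center_iff.mp hA ⟨B, hB⟩).symm
  exact congrArg Subtype.val h

/-- END1  the centre of `SU_n(q)` is cyclic. -/
theorem center_isCyclic {q n : ℕ} (hF : Fintype.card F = q ^ 2) (hn : 2 ≤ n) :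
    IsCyclic (Subgroup.center (Cfsg.SU n F q)) := by
  classical
  have h0 : 0 < n := by omega
  let i0 : Fin n := ⟨0, h0⟩
  -- the hom `A ↦ A i0 i0` into `F` (as a monoid hom)
  let f : Subgroup.center (Cfsg.SU n F q) →* F :=
    { toFun := fun A => ((A : Cfsg.SU n F q) : Matrix.SpecialLinearGroup (Fin n) F).1 i0 i0
      map_one' := by
        show ((1 : Matrix.SpecialLinearGroup (Fin n) F) : Matrix (Fin n) (Fin n) F) i0 i0 = 1
        simp
      map_mul' := by
        intro A B
        obtain ⟨a, ha⟩ := center_scalar hF hn A.1 A.2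
        obtain ⟨b, hb⟩ := center_scalar hF hn B.1 B.2
        show (((A : Cfsg.SU n F q) : Matrix.SpecialLinearGroup (Fin n) F).1 *
          ((B : Cfsg.SU n F q) : Matrix.SpecialLinearGroup (Fin n) F).1) i0 i0 =
          ((A : Cfsg.SU n F q) : Matrix.SpecialLinearGroup (Fin n) F).1 i0 i0 *
          ((B : Cfsg.SU n F q) : Matrix.SpecialLinearGroup (Fin n) F).1 i0 i0
        have ha' : ((A : Cfsg.SU n F q) : Matrix.SpecialLinearGroup (Fin n) F).1 = Matrix.scalar (Fin n) a := ha
        have hb' : ((B : Cfsg.SU n F q) : Matrix.SpecialLinearGroup (Fin n) F).1 = Matrix.scalar (Fin n) b := hb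
        rw [ha', hb', ← map_mul]
        simp [Matrix.scalar_apply] }
  have hf : Function.Injective f := by
    intro A B hAB
    obtain ⟨a, ha⟩ := center_scalar hF hn A.1 A.2
    obtain ⟨b, hb⟩ := center_scalar hF hn B.1 B.2
    have ha' : ((A : Cfsg.SU n F q) : Matrix.SpecialLinearGroup (Fin n) F).1 = Matrix.scalar (Fin n) a := ha
    have hb' : ((B : Cfsg.SU n F q) : Matrix.SpecialLinearGroup (Fin n) F).1 = Matrix.scalar (Fin n) b := hb
    have h1 : ((A : Cfsg.SU n F q) : Matrix.SpecialLinearGroup (Fin n) F).1 i0 i0 =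
        ((B : Cfsg.SU n F q) : Matrix.SpecialLinearGroup (Fin n) F).1 i0 i0 := hAB
    rw [ha', hb'] at h1
    simp [Matrix.scalar_apply] at h1
    apply Subtype.ext
    apply Subtype.ext
    apply Subtype.ext
    show ((A : Cfsg.SU n F q) : Matrix.SpecialLinearGroup (Fin n) F).1 =
      ((B : Cfsg.SU n F q) : Matrix.SpecialLinearGroup (Fin n) F).1
    rw [ha', hb', h1]
  exact isCyclic_of_subgroup_isDomain f hf

/-- END2  `SU_n(q)` on `k` generators with `|R|` relators gives `PSU_n(q)` on `k` generators with `|R| + 1` relators. -/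
theorem psu_pres {q n : ℕ} (hF : Fintype.card F = q ^ 2) (hn : 2 ≤ n) {k : ℕ} (R : Finset (FreeGroup (Fin k)))
    (e : PresentedGroup (↑R : Set (FreeGroup (Fin k))) ≃* Cfsg.SU n F q) :
    ∃ rels : Finset (FreeGroup (Fin k)), rels.card ≤ R.card + 1 ∧
      Nonempty (PresentedGroup (↑rels : Set (FreeGroup (Fin k))) ≃* Cfsg.PSU n F q) := by
  haveI := center_isCyclic (F := F) hF hn
  obtain ⟨g, hg⟩ := IsCyclic.exists_generator (α := Subgroup.center (Cfsg.SU n F q))
  have hZ : Subgroup.center (Cfsg.SU n F q) = Subgroup.zpowers (g : Cfsg.SU n F q) := by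
    apply le_antisymm
    · intro x hx
      obtain ⟨j, hj⟩ := Subgroup.mem_zpowers_iff.mp (hg ⟨x, hx⟩)
      refine Subgroup.mem_zpowers_iff.mpr ⟨j, ?_⟩
      have := congrArg Subtype.val hj
      simpa using this
    · rw [Subgroup.zpowers_le]
      exact g.2
  obtain ⟨rels, hc, e', _⟩ := Cfsg.Agent.Lib.Helper21.PresQuot.quot_central R e
    (g : Cfsg.SU n F q) g.2 (Subgroup.center (Cfsg.SU n F q)) hZ
  exact ⟨rels, hc, ⟨e'⟩⟩

/-- END3  any bounded presentation of `PSU_n(q)` can be rewritten on two generators with two more relators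
(Tietze + the generating pair of the landed S2412). -/
theorem psu_two_gen {q n : ℕ} (hF : Fintype.card F = q ^ 2) (hn : 3 ≤ n) (h32 : ¬ (n = 3 ∧ q = 2)) {k : ℕ}
    (R : Finset (FreeGroup (Fin k)))
    (e : PresentedGroup (↑R : Set (FreeGroup (Fin k))) ≃* Cfsg.PSU n F q) :
    ∃ rels : Finset (FreeGroup (Fin 2)), rels.card ≤ R.card + 2 ∧
      Nonempty (PresentedGroup (↑rels : Set (FreeGroup (Fin 2))) ≃* Cfsg.PSU n F q) := by
  obtain ⟨a, b, hab⟩ := Cfsg.Agent.S2412.twoGen_surj (QuotientGroup.mk' (Subgroup.center (Cfsg.SU n F q)))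
    (QuotientGroup.mk'_surjective _) (Cfsg.Agent.S2412.su_twoGen hF n hn h32)
  obtain ⟨rels, hc, e', _⟩ := Cfsg.Agent.Lib.Helper21.SAPT.change_gens_pair R e a b hab
  exact ⟨rels, hc, ⟨e'⟩⟩

/-- END4  `SU_n(q)` on `k` generators with `|R|` relators gives `PSU_n(q)` on `2` generators with `|R| + 3` relators. -/
theorem psu_two_gen_of_su {q n : ℕ} (hF : Fintype.card F = q ^ 2) (hn : 3 ≤ n) (h32 : ¬ (n = 3 ∧ q = 2)) {k : ℕ}
    (R : Finset (FreeGroup (Fin k)))
    (e : PresentedGroup (↑R : Set (FreeGroup (Fin k))) ≃* Cfsg.SU n F q) :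
    ∃ rels : Finset (FreeGroup (Fin 2)), rels.card ≤ R.card + 3 ∧
      Nonempty (PresentedGroup (↑rels : Set (FreeGroup (Fin 2))) ≃* Cfsg.PSU n F q) := by
  obtain ⟨R1, h1, ⟨e1⟩⟩ := psu_pres hF (by omega) R e
  obtain ⟨R2, h2, he2⟩ := psu_two_gen hF hn h32 R1 e1
  exact ⟨R2, by omega, he2⟩

/-- END5 = the frozen S2291, from a presentation of `SU_n(q)` with at most `77` relators (any number of generators). -/
theorem psu_s2291 (q n : ℕ) (hF : Fintype.card F = q ^ 2) (hn : 3 ≤ n) (h32 : ¬ (n = 3 ∧ q = 2))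
    (hSU : ∃ (k : ℕ) (R : Finset (FreeGroup (Fin k))), R.card ≤ 77 ∧
      Nonempty (PresentedGroup (↑R : Set (FreeGroup (Fin k))) ≃* Cfsg.SU n F q)) :
    ∃ rels : Finset (FreeGroup (Fin 2)), rels.card ≤ 80 ∧
      Nonempty (PresentedGroup (↑rels : Set (FreeGroup (Fin 2))) ≃* Cfsg.PSU n F q) := by
  obtain ⟨k, R, hR, ⟨e⟩⟩ := hSU
  obtain ⟨rels, hc, he⟩ := psu_two_gen_of_su hF hn h32 R e
  exact ⟨rels, by omega, he⟩

/-- END6  variant: directly from a presentation of `PSU_n(q)` with at most `78` relators (for the small cases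
`(3,3)`, `(3,5)`, or if the centre is killed earlier). -/
theorem psu_s2291_of_psu (q n : ℕ) (hF : Fintype.card F = q ^ 2) (hn : 3 ≤ n) (h32 : ¬ (n = 3 ∧ q = 2))
    (hPSU : ∃ (k : ℕ) (R : Finset (FreeGroup (Fin k))), R.card ≤ 78 ∧
      Nonempty (PresentedGroup (↑R : Set (FreeGroup (Fin k))) ≃* Cfsg.PSU n F q)) :
    ∃ rels : Finset (FreeGroup (Fin 2)), rels.card ≤ 80 ∧
      Nonempty (PresentedGroup (↑rels : Set (FreeGroup (Fin 2))) ≃* Cfsg.PSU n F q) := by
  obtain ⟨k, R, hR, ⟨e⟩⟩ := hPSU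
  obtain ⟨rels, hc, he⟩ := psu_two_gen hF hn h32 R e
  exact ⟨rels, by omega, he⟩

end END

end Cfsg.Agent.Lib.Helper13.PSUEND
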