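import Mathlib
import Cfsg.Prelude.Def_Classical
import Cfsg.Agent.Lib.Helper13.PSUEND

/-!
# Project PSU (S2291, designer helper27): block END, `psu_of_su` VERBATIM vs `Helper27/STU/Skel0.lean.txt`
(a wrapper of `Cfsg.Agent.Lib.Helper13.PSUEND.psu_two_gen_of_su`).  The module deliberately imports only `PSUEND`
(no `STU.Defs`), so that the final file can import it with anything.
-/

set_option autoImplicit false

namespace Cfsg.Agent.Lib.Helper27.STU

/-- END  centre of `SU_n(q)` cyclic (`PresQuot.quot_central`, +1), `PSU_n(q)` is 2-generated (landed S2412), `change_gens_pair` (+2). -/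
theorem psu_of_su {F : Type*} [Field F] [Fintype F] {q : ℕ} (hF : Fintype.card F = q ^ 2) (n : ℕ) (hn : 3 ≤ n)
    (h32 : ¬ (n = 3 ∧ q = 2)) (k : ℕ) (R : Finset (FreeGroup (Fin k)))
    (e : PresentedGroup (↑R : Set (FreeGroup (Fin k))) ≃* ↥(Cfsg.SU n F q)) :
    ∃ rels : Finset (FreeGroup (Fin 2)), rels.card ≤ R.card + 3 ∧
      Nonempty (PresentedGroup (↑rels : Set (FreeGroup (Fin 2))) ≃* Cfsg.PSU n F q) :=
  Cfsg.Agent.Lib.Helper13.PSUEND.psu_two_gen_of_su hF hn h32 R e

end Cfsg.Agent.Lib.Helper27.STU
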