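import Cfsg.Agent.S1963
import Cfsg.Agent.Lib.Helper13.PairCtl

set_option autoImplicit false

namespace Cfsg.Agent.Lib.Helper13

variable {G : Type*} [Group G]

/-- The generating set `N(W(P)) ∪ C(V(P))`. -/
def pairGen (W V : Subgroup G → Subgroup G) (S : Subgroup G) : Set G :=
  ((Subgroup.normalizer ((W S : Subgroup G) : Set G) : Subgroup G) : Set G) ∪
    ((Subgroup.centralizer ((V S : Subgroup G) : Set G) : Subgroup G) : Set G)

theorem pairGen_inv {W V : Subgroup G → Subgroup G} {S : Subgroup G} :
    ∀ x ∈ pairGen W V S, x⁻¹ ∈ pairGen W V S := by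
  intro x hx
  rcases hx with hx | hx
  · exact Or.inl (Subgroup.inv_mem _ hx)
  · exact Or.inr (Subgroup.inv_mem _ hx)

section

variable [Finite G] {p : ℕ} [Fact p.Prime] (P : Sylow p G)
    (hPne : (P : Subgroup G) ≠ ⊥) {W V : Subgroup G → Subgroup G}
    (hW : Cfsg.IsConjugacyFunctor p W) (hV : Cfsg.IsConjugacyFunctor p V)
    (hWZ : ∀ H : Subgroup G, IsPGroup p ↥H → H ⊓ Subgroup.centralizer ((H : Subgroup G) : Set G) ≤ W H)
    (hVmono : ∀ H K : Subgroup G, IsPGroup p ↥H → IsPGroup p ↥K → H ≠ ⊥ → K ≠ ⊥ →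
      H ⊓ Subgroup.centralizer ((H : Subgroup G) : Set G) ≤
        K ⊓ Subgroup.centralizer ((K : Subgroup G) : Set G) → V H ≤ V K)
    (hloc : ∀ H : Subgroup G, (P : Subgroup G) ⊓ Subgroup.centralizer (((P : Subgroup G) : Subgroup G) : Set G) ≤ H →
      H ≤ (P : Subgroup G) → LocalPair p W V H)

include hPne hW hV hWZ hVmono hloc in
theorem pair_key (R : Subgroup G) (hRS : R ≤ (P : Subgroup G))
    (ih : ∀ R' : Subgroup G, R' ≤ (P : Subgroup G) → Nat.card ↥R < Nat.card ↥R' →
        ∀ g : G, rc R' g ≤ (P : Subgroup G) → GChain (P : Subgroup G) (pairGen W V (P : Subgroup G)) (R' : Set G) g) :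
    ∃ U : Subgroup G, U ≤ (P : Subgroup G) ∧ (∃ c : G, rc R c = U) ∧
        ¬ p ∣ ((P : Subgroup G) ⊓ Subgroup.normalizer ((U : Subgroup G) : Set G)).relIndex
          (Subgroup.normalizer ((U : Subgroup G) : Set G)) ∧
        ∀ m ∈ Subgroup.normalizer ((U : Subgroup G) : Set G),
          GChain (P : Subgroup G) (pairGen W V (P : Subgroup G)) (U : Set G) m := by
  have hSp : IsPGroup p ↥(P : Subgroup G) := P.isPGroup'
  obtain ⟨g₀, hwp⟩ := Cfsg.Agent.S1963.result P W hW R hRS
  obtain ⟨U, hUdef⟩ : ∃ U : Subgroup G, U = R.map (MulAut.conj g₀).toMonoidHom := ⟨_, rfl⟩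
  rw [← hUdef] at hwp
  have hUS : U ≤ (P : Subgroup G) := hwp.1
  have hcardU : Nat.card ↥U = Nat.card ↥R := by rw [hUdef, card_cj]
  have hsyl : ¬ p ∣ ((P : Subgroup G) ⊓ Subgroup.normalizer ((U : Subgroup G) : Set G)).relIndex
          (Subgroup.normalizer ((U : Subgroup G) : Set G)) := hwp.2 0
  refine ⟨U, hUS, ⟨g₀⁻¹, by rw [rc_def, inv_inv, hUdef]⟩, hsyl, ?_⟩
  intro m hm
  obtain ⟨c, hc, y, hyU, hyH, hmcy⟩ := frattini_centralizer hSp hsyl m hm
  have hUc : rcs (U : Set G) c = (U : Set G) := rcs_of_mem_centralizer hc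
  have h1 : GChain (P : Subgroup G) (pairGen W V (P : Subgroup G)) (U : Set G) c :=
    GChain.single (Or.inr hc) (by rw [hUc]; exact hUS)
  have h2 : GChain (P : Subgroup G) (pairGen W V (P : Subgroup G)) (U : Set G) y := by
    by_cases hHU : U ⊔ ((P : Subgroup G) ⊓ Subgroup.centralizer (U : Set G)) = U
    · -- `Z(P) ≤ U`: climb the tower
      have hDU : (P : Subgroup G) ⊓ Subgroup.centralizer (U : Set G) ≤ U :=
        le_sup_right.trans hHU.le
      have hZU : (P : Subgroup G) ⊓ Subgroup.centralizer (((P : Subgroup G) : Subgroup G) : Set G) ≤ U := by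
        refine le_trans ?_ hDU
        exact inf_le_inf_left _ (Subgroup.centralizer_le hUS)
      have hUne : U ≠ ⊥ := by
        intro hbot
        apply hPne
        rw [eq_bot_iff]
        intro z hz
        have : z ∈ (P : Subgroup G) ⊓ Subgroup.centralizer (U : Set G) := by
          refine Subgroup.mem_inf.mpr ⟨hz, ?_⟩
          rw [hbot, Subgroup.mem_centralizer_iff]
          intro h hh
          have hh' : h = 1 := hh
          rw [hh']; simp
        have := hDU this
        rwa [hbot] at this
      exact pair_tower_climb hSp hPne hW hV hWZ hVmono hloc hwp hZU hUne y hyU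
    · -- a larger subgroup: use the induction hypothesis
      have hHS : U ⊔ ((P : Subgroup G) ⊓ Subgroup.centralizer (U : Set G)) ≤ (P : Subgroup G) :=
        sup_le hUS inf_le_left
      have hlt : Nat.card ↥R <
          Nat.card ↥(U ⊔ ((P : Subgroup G) ⊓ Subgroup.centralizer (U : Set G)) : Subgroup G) := by
        rw [← hcardU]
        by_contra hle
        push Not at hle
        exact hHU (Subgroup.eq_of_le_of_card_ge le_sup_left hle).symm
      have := ih _ hHS hlt y (by rw [rc_of_mem_normalizer hyH]; exact hHS)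
      exact this.mono (show (U : Set G) ⊆ _ from SetLike.coe_subset_coe.mpr le_sup_left)
  rw [hmcy]
  apply h1.append
  rw [hUc]
  exact h2

include hPne hW hV hWZ hVmono hloc in
/-- Local control of strong fusion by the pair `(W, V)` in all `N_G(H)`, `Z(P) ≤ H ≤ P`, gives global
control: every conjugation of a subgroup of `P` into `P` is a chain through `N(W(P))`, `C(V(P))` and
centralizers, staying inside `P`. -/
theorem pair_global (R : Subgroup G) (hR : R ≤ (P : Subgroup G)) (g : G)
    (hg : rc R g ≤ (P : Subgroup G)) :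
    GChain (P : Subgroup G) (pairGen W V (P : Subgroup G)) (R : Set G) g := by
  have hSp : IsPGroup p ↥(P : Subgroup G) := P.isPGroup'
  have hmono : ∀ (R R' : Subgroup G) (g : G), R' ≤ R →
      GChain (P : Subgroup G) (pairGen W V (P : Subgroup G)) (R : Set G) g →
      GChain (P : Subgroup G) (pairGen W V (P : Subgroup G)) (R' : Set G) g := by
    intro R R' g hRR' h
    exact h.mono hRR'
  have happ : ∀ (R : Subgroup G) (g k : G),
      GChain (P : Subgroup G) (pairGen W V (P : Subgroup G)) (R : Set G) g →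
      GChain (P : Subgroup G) (pairGen W V (P : Subgroup G)) ((rc R g : Subgroup G) : Set G) k →
      GChain (P : Subgroup G) (pairGen W V (P : Subgroup G)) (R : Set G) (g * k) := by
    intro R g k h1 h2
    rw [coe_rc] at h2
    exact h1.append h2
  have hrev : ∀ (R : Subgroup G) (g : G), R ≤ (P : Subgroup G) → rc R g ≤ (P : Subgroup G) →
      GChain (P : Subgroup G) (pairGen W V (P : Subgroup G)) (R : Set G) g →
      GChain (P : Subgroup G) (pairGen W V (P : Subgroup G)) ((rc R g : Subgroup G) : Set G) g⁻¹ := by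
    intro R g hRS _ h
    have := h.reverse pairGen_inv hRS
    rwa [← coe_rc] at this
  have htop : ∀ g ∈ Subgroup.normalizer (((P : Subgroup G) : Subgroup G) : Set G),
      GChain (P : Subgroup G) (pairGen W V (P : Subgroup G)) (((P : Subgroup G) : Subgroup G) : Set G) g := by
    intro g hgN
    refine GChain.single (Or.inl ?_) ?_
    · exact Or.inl (normalizer_le_normalizer_functor hW hSp hgN)
    · rw [← coe_rc, rc_of_mem_normalizer hgN]
  exact alperin_induction P
    (fun R g => GChain (P : Subgroup G) (pairGen W V (P : Subgroup G)) (R : Set G) g)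
    hmono happ hrev htop
    (fun R hRS _ ih => pair_key P hPne hW hV hWZ hVmono hloc R hRS ih)
    (Nat.card ↥(P : Subgroup G)) R hR (Nat.sub_le _ _) g hg

end

end Cfsg.Agent.Lib.Helper13
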