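import Cfsg.Agent.S1963
import Cfsg.Agent.Lib.Helper13.PairCtl
import Cfsg.Agent.Lib.Helper13.TransferCtl

set_option autoImplicit false

namespace Cfsg.Agent.Lib.Helper13

open scoped commutatorElement

variable {G : Type*} [Group G]

/-- Local control of transfer by the pair `(W, V)` in `N_G(H)`, in the form used in the statements. -/
def LocalPairT (p : ℕ) (W V : Subgroup G → Subgroup G) (H : Subgroup G) : Prop :=
  ∃ Q : Subgroup G, Q ≤ Subgroup.normalizer ((H : Subgroup G) : Set G) ∧ IsPGroup p ↥Q ∧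
    ¬ p ∣ (Q).relIndex (Subgroup.normalizer ((H : Subgroup G) : Set G)) ∧
    ∀ x : G, x ∈ Q ⊓ ⁅Subgroup.normalizer ((H : Subgroup G) : Set G),
        Subgroup.normalizer ((H : Subgroup G) : Set G)⁆ ↔
      ∃ a ∈ Q ⊓ ⁅Subgroup.normalizer ((H : Subgroup G) : Set G) ⊓
            Subgroup.normalizer ((W Q : Subgroup G) : Set G),
          Subgroup.normalizer ((H : Subgroup G) : Set G) ⊓
            Subgroup.normalizer ((W Q : Subgroup G) : Set G)⁆,
        ∃ b ∈ Q ⊓ ⁅Subgroup.normalizer ((H : Subgroup G) : Set G) ⊓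
              Subgroup.centralizer ((V Q : Subgroup G) : Set G),
            Subgroup.normalizer ((H : Subgroup G) : Set G) ⊓
              Subgroup.centralizer ((V Q : Subgroup G) : Set G)⁆, x = a * b

section

variable [Finite G] {p : ℕ} [Fact p.Prime] {W V : Subgroup G → Subgroup G}

/-- The local transfer factorization holds for every Sylow `p`-subgroup of `N_G(H)`. -/
theorem localPairT_of_sylow (hW : Cfsg.IsConjugacyFunctor p W) (hV : Cfsg.IsConjugacyFunctor p V)
    {H : Subgroup G} (h : LocalPairT p W V H) {Q₁ : Subgroup G}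
    (hQ₁H : Q₁ ≤ Subgroup.normalizer (H : Set G)) (hQ₁p : IsPGroup p ↥Q₁)
    (hQ₁i : ¬ p ∣ Q₁.relIndex (Subgroup.normalizer (H : Set G))) :
    ∀ x ∈ Q₁ ⊓ ⁅Subgroup.normalizer (H : Set G), Subgroup.normalizer (H : Set G)⁆,
      ∃ a ∈ Q₁ ⊓ ⁅Subgroup.normalizer (H : Set G) ⊓ Subgroup.normalizer ((W Q₁ : Subgroup G) : Set G),
          Subgroup.normalizer (H : Set G) ⊓ Subgroup.normalizer ((W Q₁ : Subgroup G) : Set G)⁆,
        ∃ b ∈ Q₁ ⊓ ⁅Subgroup.normalizer (H : Set G) ⊓ Subgroup.centralizer ((V Q₁ : Subgroup G) : Set G),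
            Subgroup.normalizer (H : Set G) ⊓ Subgroup.centralizer ((V Q₁ : Subgroup G) : Set G)⁆,
          x = a * b := by
  obtain ⟨Q, hQH, hQp, hQi, hprop⟩ := h
  obtain ⟨k, hkH, hle⟩ := exists_mem_cj_le_of_relIndex (p := p) hQ₁H hQ₁p hQ₁i hQH hQp
  have hLk : (Subgroup.normalizer (H : Set G)).map (MulAut.conj k).toMonoidHom =
      Subgroup.normalizer (H : Set G) := cj_self_of_mem hkH
  have hQQ₁ : Q.map (MulAut.conj k).toMonoidHom = Q₁ := by
    apply eq_of_le_of_not_dvd_relIndex (p := p) hle hQ₁H hQ₁p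
    rw [← hLk, relIndex_cj]
    exact hQi
  intro x hx
  have hx1 : k⁻¹ * x * k ∈ Q := by
    have := (Subgroup.mem_inf.mp hx).1
    rwa [← hQQ₁, mem_cj] at this
  have hx2 : k⁻¹ * x * k ∈ ⁅Subgroup.normalizer (H : Set G), Subgroup.normalizer (H : Set G)⁆ := by
    have := (Subgroup.mem_inf.mp hx).2
    have e : ⁅Subgroup.normalizer (H : Set G), Subgroup.normalizer (H : Set G)⁆ =
        (⁅Subgroup.normalizer (H : Set G), Subgroup.normalizer (H : Set G)⁆).map
          (MulAut.conj k).toMonoidHom := by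
      rw [Subgroup.map_commutator, hLk]
    rw [e, mem_cj] at this
    exact this
  obtain ⟨a, ha, b, hb, hab⟩ := (hprop _).mp (Subgroup.mem_inf.mpr ⟨hx1, hx2⟩)
  refine ⟨k * a * k⁻¹, ?_, k * b * k⁻¹, ?_, ?_⟩
  · refine Subgroup.mem_inf.mpr ⟨?_, ?_⟩
    · rw [← hQQ₁]; exact cj_mem (Subgroup.mem_inf.mp ha).1
    · have e : ⁅Subgroup.normalizer (H : Set G) ⊓ Subgroup.normalizer ((W Q₁ : Subgroup G) : Set G),
          Subgroup.normalizer (H : Set G) ⊓ Subgroup.normalizer ((W Q₁ : Subgroup G) : Set G)⁆ =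
          (⁅Subgroup.normalizer (H : Set G) ⊓ Subgroup.normalizer ((W Q : Subgroup G) : Set G),
            Subgroup.normalizer (H : Set G) ⊓ Subgroup.normalizer ((W Q : Subgroup G) : Set G)⁆).map
            (MulAut.conj k).toMonoidHom := by
        rw [Subgroup.map_commutator, cj_inf, hLk, ← normalizer_cj, ← (hW Q hQp).2.2 k, hQQ₁]
      rw [e]
      exact cj_mem (Subgroup.mem_inf.mp ha).2
  · refine Subgroup.mem_inf.mpr ⟨?_, ?_⟩
    · rw [← hQQ₁]; exact cj_mem (Subgroup.mem_inf.mp hb).1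
    · have e : ⁅Subgroup.normalizer (H : Set G) ⊓ Subgroup.centralizer ((V Q₁ : Subgroup G) : Set G),
          Subgroup.normalizer (H : Set G) ⊓ Subgroup.centralizer ((V Q₁ : Subgroup G) : Set G)⁆ =
          (⁅Subgroup.normalizer (H : Set G) ⊓ Subgroup.centralizer ((V Q : Subgroup G) : Set G),
            Subgroup.normalizer (H : Set G) ⊓ Subgroup.centralizer ((V Q : Subgroup G) : Set G)⁆).map
            (MulAut.conj k).toMonoidHom := by
        rw [Subgroup.map_commutator, cj_inf, hLk, ← centralizer_cj, ← (hV Q hQp).2.2 k, hQQ₁]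
      rw [e]
      exact cj_mem (Subgroup.mem_inf.mp hb).2
  · have : x = k * (k⁻¹ * x * k) * k⁻¹ := by group
    rw [this, hab]
    group

variable {S : Subgroup G}

/-- Climbing the tower of a well-placed subgroup containing `Z(S)`, for transfer. -/
theorem pairT_tower_climb (hS : IsPGroup p ↥S) (hSne : S ≠ ⊥)
    (hW : Cfsg.IsConjugacyFunctor p W) (hV : Cfsg.IsConjugacyFunctor p V)
    (hWZ : ∀ H : Subgroup G, IsPGroup p ↥H → H ⊓ Subgroup.centralizer ((H : Subgroup G) : Set G) ≤ W H)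
    (hVmono : ∀ H K : Subgroup G, IsPGroup p ↥H → IsPGroup p ↥K → H ≠ ⊥ → K ≠ ⊥ →
      H ⊓ Subgroup.centralizer ((H : Subgroup G) : Set G) ≤
        K ⊓ Subgroup.centralizer ((K : Subgroup G) : Set G) → V H ≤ V K)
    (hloc : ∀ H : Subgroup G, S ⊓ Subgroup.centralizer (S : Set G) ≤ H → H ≤ S → LocalPairT p W V H)
    {U : Subgroup G} (hU : Cfsg.IsWellPlaced p W S U)
    (hZU : S ⊓ Subgroup.centralizer (S : Set G) ≤ U) (hUne : U ≠ ⊥) :
    S ⊓ ⁅Subgroup.normalizer (U : Set G), Subgroup.normalizer (U : Set G)⁆ ≤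
      (S ⊓ ⁅Subgroup.normalizer ((W S : Subgroup G) : Set G),
        Subgroup.normalizer ((W S : Subgroup G) : Set G)⁆) ⊔
      (S ⊓ ⁅Subgroup.centralizer ((V S : Subgroup G) : Set G),
        Subgroup.centralizer ((V S : Subgroup G) : Set G)⁆) := by
  have hUS := hU.1
  have step : ∀ j : ℕ, S ⊓ ⁅Subgroup.normalizer ((Cfsg.functorTower W S U j : Subgroup G) : Set G),
        Subgroup.normalizer ((Cfsg.functorTower W S U j : Subgroup G) : Set G)⁆ ≤
      (S ⊓ ⁅Subgroup.normalizer ((Cfsg.functorTower W S U (j + 1) : Subgroup G) : Set G),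
        Subgroup.normalizer ((Cfsg.functorTower W S U (j + 1) : Subgroup G) : Set G)⁆) ⊔
      (S ⊓ ⁅Subgroup.centralizer ((V S : Subgroup G) : Set G),
        Subgroup.centralizer ((V S : Subgroup G) : Set G)⁆) := by
    intro j x hx
    have hxS := (Subgroup.mem_inf.mp hx).1
    have hxL' := (Subgroup.mem_inf.mp hx).2
    have hxL : x ∈ Subgroup.normalizer ((Cfsg.functorTower W S U j : Subgroup G) : Set G) :=
      Subgroup.commutator_le_self _ hxL'
    have hQjp : IsPGroup p ↥(S ⊓ Subgroup.normalizer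
        ((Cfsg.functorTower W S U j : Subgroup G) : Set G)) := hS.to_le inf_le_left
    have hl := hloc (Cfsg.functorTower W S U j)
      (center_le_tower hW hS hWZ hUS hZU j) (tower_le hW hS hUS j)
    obtain ⟨a, ha, b, hb, hab⟩ := localPairT_of_sylow hW hV hl
      (inf_le_right : S ⊓ Subgroup.normalizer
        ((Cfsg.functorTower W S U j : Subgroup G) : Set G) ≤ _) hQjp (hU.2 j) x
      (Subgroup.mem_inf.mpr ⟨Subgroup.mem_inf.mpr ⟨hxS, hxL⟩, hxL'⟩)
    rw [hab]
    apply Subgroup.mul_mem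
    · apply Subgroup.mem_sup_left
      refine Subgroup.mem_inf.mpr ⟨(Subgroup.mem_inf.mp (Subgroup.mem_inf.mp ha).1).1, ?_⟩
      rw [tower_succ]
      exact Subgroup.commutator_mono inf_le_right inf_le_right (Subgroup.mem_inf.mp ha).2
    · apply Subgroup.mem_sup_right
      refine Subgroup.mem_inf.mpr ⟨(Subgroup.mem_inf.mp (Subgroup.mem_inf.mp hb).1).1, ?_⟩
      have hne : S ⊓ Subgroup.normalizer ((Cfsg.functorTower W S U j : Subgroup G) : Set G) ≠ ⊥ := by
        intro hbot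
        apply tower_ne_bot hW hS hUS hUne j
        have : Cfsg.functorTower W S U j ≤
            S ⊓ Subgroup.normalizer ((Cfsg.functorTower W S U j : Subgroup G) : Set G) :=
          le_inf (tower_le hW hS hUS j) Subgroup.le_normalizer
        rw [hbot] at this
        exact le_bot_iff.mp this
      have hVV := hVmono S _ hS hQjp hSne hne (center_le_tower_normalizer hW hS hUS j)
      have hCC : Subgroup.normalizer ((Cfsg.functorTower W S U j : Subgroup G) : Set G) ⊓
          Subgroup.centralizer ((V (S ⊓ Subgroup.normalizer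
            ((Cfsg.functorTower W S U j : Subgroup G) : Set G)) : Subgroup G) : Set G) ≤
          Subgroup.centralizer ((V S : Subgroup G) : Set G) :=
        inf_le_right.trans (Subgroup.centralizer_le hVV)
      exact Subgroup.commutator_mono hCC hCC (Subgroup.mem_inf.mp hb).2
  have key : ∀ j : ℕ, S ⊓ ⁅Subgroup.normalizer (U : Set G), Subgroup.normalizer (U : Set G)⁆ ≤
      (S ⊓ ⁅Subgroup.normalizer ((Cfsg.functorTower W S U j : Subgroup G) : Set G),
        Subgroup.normalizer ((Cfsg.functorTower W S U j : Subgroup G) : Set G)⁆) ⊔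
      (S ⊓ ⁅Subgroup.centralizer ((V S : Subgroup G) : Set G),
        Subgroup.centralizer ((V S : Subgroup G) : Set G)⁆) := by
    intro j
    induction j with
    | zero => exact le_sup_left
    | succ j ih => exact ih.trans (sup_le (step j) le_sup_right)
  have hfin := key (Nat.card ↥S + 1)
  rw [tower_eq_functor_top hW hS U] at hfin
  exact hfin

end

section Global

variable [Finite G] {p : ℕ} [Fact p.Prime] (P : Sylow p G)
    (hPne : (P : Subgroup G) ≠ ⊥) {W V : Subgroup G → Subgroup G}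
    (hW : Cfsg.IsConjugacyFunctor p W) (hV : Cfsg.IsConjugacyFunctor p V)
    (hWZ : ∀ H : Subgroup G, IsPGroup p ↥H → H ⊓ Subgroup.centralizer ((H : Subgroup G) : Set G) ≤ W H)
    (hVmono : ∀ H K : Subgroup G, IsPGroup p ↥H → IsPGroup p ↥K → H ≠ ⊥ → K ≠ ⊥ →
      H ⊓ Subgroup.centralizer ((H : Subgroup G) : Set G) ≤
        K ⊓ Subgroup.centralizer ((K : Subgroup G) : Set G) → V H ≤ V K)
    (hloc : ∀ H : Subgroup G, (P : Subgroup G) ⊓ Subgroup.centralizer (((P : Subgroup G) : Subgroup G) : Set G) ≤ H →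
      H ≤ (P : Subgroup G) → LocalPairT p W V H)

/-- The target subgroup `(P ∩ N(W(P))') (P ∩ C(V(P))')`. -/
def pairD (W V : Subgroup G → Subgroup G) (S : Subgroup G) : Subgroup G :=
  (S ⊓ ⁅Subgroup.normalizer ((W S : Subgroup G) : Set G),
        Subgroup.normalizer ((W S : Subgroup G) : Set G)⁆) ⊔
      (S ⊓ ⁅Subgroup.centralizer ((V S : Subgroup G) : Set G),
        Subgroup.centralizer ((V S : Subgroup G) : Set G)⁆)

include hPne hW hV hWZ hVmono hloc in
theorem pairT_key (R : Subgroup G) (hRS : R ≤ (P : Subgroup G))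
    (ih : ∀ R' : Subgroup G, R' ≤ (P : Subgroup G) → Nat.card ↥R < Nat.card ↥R' →
        ∀ g : G, rc R' g ≤ (P : Subgroup G) →
          ∀ a ∈ R', a⁻¹ * (g⁻¹ * a * g) ∈ pairD W V (P : Subgroup G)) :
    ∃ U : Subgroup G, U ≤ (P : Subgroup G) ∧ (∃ c : G, rc R c = U) ∧
        ¬ p ∣ ((P : Subgroup G) ⊓ Subgroup.normalizer ((U : Subgroup G) : Set G)).relIndex
          (Subgroup.normalizer ((U : Subgroup G) : Set G)) ∧
        ∀ m ∈ Subgroup.normalizer ((U : Subgroup G) : Set G),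
          ∀ a ∈ U, a⁻¹ * (m⁻¹ * a * m) ∈ pairD W V (P : Subgroup G) := by
  have hSp : IsPGroup p ↥(P : Subgroup G) := P.isPGroup'
  obtain ⟨g₀, hwp⟩ := Cfsg.Agent.S1963.result P W hW R hRS
  obtain ⟨U, hUdef⟩ : ∃ U : Subgroup G, U = R.map (MulAut.conj g₀).toMonoidHom := ⟨_, rfl⟩
  rw [← hUdef] at hwp
  have hUS : U ≤ (P : Subgroup G) := hwp.1
  have hcardU : Nat.card ↥U = Nat.card ↥R := by rw [hUdef, card_cj]
  have hsyl : ¬ p ∣ ((P : Subgroup G) ⊓ Subgroup.normalizer ((U : Subgroup G) : Set G)).relIndex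
          (Subgroup.normalizer ((U : Subgroup G) : Set G)) := hwp.2 0
  refine ⟨U, hUS, ⟨g₀⁻¹, by rw [rc_def, inv_inv, hUdef]⟩, hsyl, ?_⟩
  intro m hm a ha
  obtain ⟨c, hc, y, hyU, hyH, hmcy⟩ := frattini_centralizer hSp hsyl m hm
  have hca : c⁻¹ * a * c = a := by
    have := Subgroup.mem_centralizer_iff.mp hc a ha
    rw [mul_assoc, this]; group
  have e : a⁻¹ * (m⁻¹ * a * m) = a⁻¹ * (y⁻¹ * a * y) := by
    rw [hmcy]
    have : (c * y)⁻¹ * a * (c * y) = y⁻¹ * (c⁻¹ * a * c) * y := by group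
    rw [this, hca]
  rw [e]
  by_cases hHU : U ⊔ ((P : Subgroup G) ⊓ Subgroup.centralizer (U : Set G)) = U
  · have hDU : (P : Subgroup G) ⊓ Subgroup.centralizer (U : Set G) ≤ U :=
      le_sup_right.trans hHU.le
    have hZU : (P : Subgroup G) ⊓ Subgroup.centralizer (((P : Subgroup G) : Subgroup G) : Set G) ≤ U := by
      refine le_trans ?_ hDU
      exact inf_le_inf_left _ (Subgroup.centralizer_le hUS)
    have hUne : U ≠ ⊥ := by
      intro hbot
      apply hPne
      rw [eq_bot_iff]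
      intro z hz
      have : z ∈ (P : Subgroup G) ⊓ Subgroup.centralizer (U : Set G) := by
        refine Subgroup.mem_inf.mpr ⟨hz, ?_⟩
        rw [hbot, Subgroup.mem_centralizer_iff]
        intro h hh
        have hh' : h = 1 := hh
        rw [hh']; simp
      have := hDU this
      rwa [hbot] at this
    apply pairT_tower_climb hSp hPne hW hV hWZ hVmono hloc hwp hZU hUne
    have hya : y⁻¹ * a * y ∈ U := by
      have := (Subgroup.mem_normalizer_iff.mp (Subgroup.inv_mem _ hyU) a).mp ha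
      rwa [inv_inv] at this
    refine Subgroup.mem_inf.mpr ⟨hUS (U.mul_mem (U.inv_mem ha) hya), ?_⟩
    have e2 : a⁻¹ * (y⁻¹ * a * y) = ⁅a⁻¹, y⁻¹⁆ := by
      rw [commutatorElement_def]; group
    rw [e2]
    exact Subgroup.commutator_mem_commutator
      (Subgroup.inv_mem _ (Subgroup.le_normalizer ha)) (Subgroup.inv_mem _ hyU)
  · have hHS : U ⊔ ((P : Subgroup G) ⊓ Subgroup.centralizer (U : Set G)) ≤ (P : Subgroup G) :=
      sup_le hUS inf_le_left
    have hlt : Nat.card ↥R <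
        Nat.card ↥(U ⊔ ((P : Subgroup G) ⊓ Subgroup.centralizer (U : Set G)) : Subgroup G) := by
      rw [← hcardU]
      by_contra hle
      push Not at hle
      exact hHU (Subgroup.eq_of_le_of_card_ge le_sup_left hle).symm
    exact ih _ hHS hlt y (by rw [rc_of_mem_normalizer hyH]; exact hHS) a
      ((le_sup_left : U ≤ _) ha)

include hPne hW hV hWZ hVmono hloc in
/-- Local control of transfer by the pair `(W, V)` gives `P ∩ G' ≤ (P ∩ N(W(P))')(P ∩ C(V(P))')`. -/
theorem pairT_global :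
    (P : Subgroup G) ⊓ ⁅(⊤ : Subgroup G), ⊤⁆ ≤ pairD W V (P : Subgroup G) := by
  have hSp : IsPGroup p ↥(P : Subgroup G) := P.isPGroup'
  have hmono : ∀ (R R' : Subgroup G) (g : G), R' ≤ R →
      (∀ a ∈ R, a⁻¹ * (g⁻¹ * a * g) ∈ pairD W V (P : Subgroup G)) →
      (∀ a ∈ R', a⁻¹ * (g⁻¹ * a * g) ∈ pairD W V (P : Subgroup G)) := by
    intro R R' g hRR' h a ha
    exact h a (hRR' ha)
  have happ : ∀ (R : Subgroup G) (g k : G),
      (∀ a ∈ R, a⁻¹ * (g⁻¹ * a * g) ∈ pairD W V (P : Subgroup G)) →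
      (∀ a ∈ rc R g, a⁻¹ * (k⁻¹ * a * k) ∈ pairD W V (P : Subgroup G)) →
      (∀ a ∈ R, a⁻¹ * ((g * k)⁻¹ * a * (g * k)) ∈ pairD W V (P : Subgroup G)) := by
    intro R g k h1 h2 a ha
    have e : a⁻¹ * ((g * k)⁻¹ * a * (g * k)) =
        (a⁻¹ * (g⁻¹ * a * g)) * ((g⁻¹ * a * g)⁻¹ * (k⁻¹ * (g⁻¹ * a * g) * k)) := by group
    rw [e]
    exact Subgroup.mul_mem _ (h1 a ha) (h2 _ (rc_mem ha))
  have hrev : ∀ (R : Subgroup G) (g : G), R ≤ (P : Subgroup G) → rc R g ≤ (P : Subgroup G) →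
      (∀ a ∈ R, a⁻¹ * (g⁻¹ * a * g) ∈ pairD W V (P : Subgroup G)) →
      (∀ a ∈ rc R g, a⁻¹ * (g⁻¹⁻¹ * a * g⁻¹) ∈ pairD W V (P : Subgroup G)) := by
    intro R g _ _ h b hb
    rw [mem_rc] at hb
    have := h _ hb
    have e : b⁻¹ * (g⁻¹⁻¹ * b * g⁻¹) =
        ((g * b * g⁻¹)⁻¹ * (g⁻¹ * (g * b * g⁻¹) * g))⁻¹ := by group
    rw [e]
    exact Subgroup.inv_mem _ this
  have htop : ∀ g ∈ Subgroup.normalizer (((P : Subgroup G) : Subgroup G) : Set G),
      ∀ a ∈ (P : Subgroup G), a⁻¹ * (g⁻¹ * a * g) ∈ pairD W V (P : Subgroup G) := by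
    intro g hgN a ha
    apply Subgroup.mem_sup_left
    have hga : g⁻¹ * a * g ∈ (P : Subgroup G) := by
      have := (Subgroup.mem_normalizer_iff.mp (Subgroup.inv_mem _ hgN) a).mp ha
      rwa [inv_inv] at this
    refine Subgroup.mem_inf.mpr ⟨Subgroup.mul_mem _ (Subgroup.inv_mem _ ha) hga, ?_⟩
    have e2 : a⁻¹ * (g⁻¹ * a * g) = ⁅a⁻¹, g⁻¹⁆ := by
      rw [commutatorElement_def]; group
    rw [e2]
    have hNN := normalizer_le_normalizer_functor hW hSp
    exact Subgroup.commutator_mem_commutator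
      (Subgroup.inv_mem _ (hNN (Subgroup.le_normalizer ha))) (Subgroup.inv_mem _ (hNN hgN))
  have hall := alperin_induction P
    (fun R g => ∀ a ∈ R, a⁻¹ * (g⁻¹ * a * g) ∈ pairD W V (P : Subgroup G))
    hmono happ hrev htop
    (fun R hRS _ ih => pairT_key P hPne hW hV hWZ hVmono hloc R hRS ih)
    (Nat.card ↥(P : Subgroup G))
  apply sylow_inf_commutator_le
  intro x hx u hg
  have hux : u * x * u⁻¹ ∈ (P : Subgroup G) := by
    have h1 : u * x * u⁻¹ = (x⁻¹ * (x * u * x⁻¹ * u⁻¹))⁻¹ := by group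
    rw [h1]
    exact Subgroup.inv_mem _ (Subgroup.mul_mem _ (Subgroup.inv_mem _ hx) hg)
  have hRS : Subgroup.zpowers x ≤ (P : Subgroup G) := by
    rw [Subgroup.zpowers_le]; exact hx
  have hrc : rc (Subgroup.zpowers x) u⁻¹ ≤ (P : Subgroup G) := by
    intro y hy
    rw [mem_rc, Subgroup.mem_zpowers_iff] at hy
    obtain ⟨n, hn⟩ := hy
    have : y = (u * x * u⁻¹) ^ n := by
      rw [conj_zpow, hn]; group
    rw [this]
    exact Subgroup.zpow_mem _ hux n
  have := hall (Subgroup.zpowers x) hRS (Nat.sub_le _ _) u⁻¹ hrc x⁻¹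
    (Subgroup.inv_mem _ (Subgroup.mem_zpowers x))
  have e : x⁻¹⁻¹ * (u⁻¹⁻¹ * x⁻¹ * u⁻¹) = x * u * x⁻¹ * u⁻¹ := by group
  rw [e] at this
  exact this

end Global

end Cfsg.Agent.Lib.Helper13
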