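import Mathlib
import Cfsg.Agent.Lib.helper7.R1.Defs

set_option autoImplicit false

namespace Cfsg.Agent.Lib.Helper13.R1

open Cfsg.Agent.Lib.helper7 Cfsg.Agent.Lib.helper7.Br
open scoped ComplexConjugate

variable {F A : Type*} [Field F] [Ring A] [Algebra F A]

/-- the column decomposition `A ≃ (A u₀₀)^(n+1)`, `a ↦ (a u_{j0})_j`. -/
noncomputable def md5equiv {n : ℕ} (u : Fin (n + 1) → Fin (n + 1) → A) (hu : IsMatUnits u) :
    A ≃ₗ[F] (Fin (n + 1) → ↥(LinearMap.range (LinearMap.mulRight F (u 0 0)))) where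
  toFun a j := ⟨a * u j 0, ⟨a * u j 0, by
    rw [LinearMap.mulRight_apply, mul_assoc, hu.1 j 0 0 0, if_pos rfl]⟩⟩
  map_add' a b := by
    funext j
    apply Subtype.ext
    simp [add_mul]
  map_smul' c a := by
    funext j
    apply Subtype.ext
    simp
  invFun f := ∑ j, (f j : A) * u 0 j
  left_inv a := by
    simp only
    have : ∀ j, a * u j 0 * u 0 j = a * u j j := by
      intro j
      rw [mul_assoc, hu.1 j 0 0 j, if_pos rfl]
    simp only [this]
    rw [← Finset.mul_sum, hu.2, mul_one]
  right_inv f := by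
    funext j
    apply Subtype.ext
    simp only
    rw [Finset.sum_mul]
    have h1 : ∀ k, (f k : A) * u 0 k * u j 0 = if k = j then (f k : A) * u 0 0 else 0 := by
      intro k
      rw [mul_assoc, hu.1 0 k j 0]
      split_ifs <;> simp
    simp only [h1, Finset.sum_ite_eq', Finset.mem_univ, if_true]
    obtain ⟨y, hy⟩ := (f j).2
    rw [LinearMap.mulRight_apply] at hy
    rw [← hy, mul_assoc, hu.1 0 0 0 0, if_pos rfl]

theorem matUnits_finrank_col [FiniteDimensional F A] {n : ℕ} (u : Fin (n + 1) → Fin (n + 1) → A)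
    (hu : IsMatUnits u) :
    Module.finrank F A =
      (n + 1) * Module.finrank F ↥(LinearMap.range (LinearMap.mulRight F (u 0 0))) := by
  rw [LinearEquiv.finrank_eq (md5equiv u hu), Module.finrank_pi_fintype]
  simp

end Cfsg.Agent.Lib.Helper13.R1
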