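import Mathlib
import Cfsg.Agent.Lib.Helper28.REEPB
import Cfsg.Agent.Lib.Helper27.REEPE
import Cfsg.Agent.Lib.helper4.REEG4H
import Cfsg.Agent.Lib.Helper13.REEG4Icore

/-!
# Project REE, row G4E (`D_basic`), second-writer copy of helper13 (own names).
-/

set_option autoImplicit false

namespace Cfsg.Agent.Lib.helper7.REE

open Matrix Cfsg.Agent.Lib.helper8

universe u v

section P

variable {K : Type v} [Field K] [Fintype K] {m : ℕ}

/-- an element `y` of `SO₂` with `y * y = 1` is `1` or `-1` -/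
theorem reeg4e_h13_order_two (hK : Fintype.card K = qq m) (y : SpecialLinearGroup (Fin 2) K)
    (hy : y ∈ so2 K) (hyy : y * y = 1) : y = 1 ∨ y = -1 := by
  obtain ⟨hy1, hy2⟩ := hy
  obtain ⟨o00, o01, o10, o11⟩ := reepb_one_apply (K := K)
  have h2 := reepb_two_ne hK
  have hdet := h8sl_det y
  have e00 := congrArg (fun x : SpecialLinearGroup (Fin 2) K => x 0 0) hyy
  have e10 := congrArg (fun x : SpecialLinearGroup (Fin 2) K => x 1 0) hyy
  simp only [reepb_mul_apply, o00, o10] at e00 e10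
  rw [hy2] at e00
  rw [← hy1] at e10 hdet
  rw [hy2] at hdet
  -- c = y 0 0, e = y 1 0 : c^2 - e^2 = 1, 2 c e = 0, c^2 + e^2 = 1
  have he : y 1 0 = 0 := by
    have h4 : (2 : K) * (y 1 0 * y 1 0) = 0 := by linear_combination hdet - e00
    rcases mul_eq_zero.1 h4 with h | h
    · exact absurd h h2
    · exact mul_self_eq_zero.1 h
  have hc : y 0 0 * y 0 0 = 1 := by
    rw [he] at hdet
    linear_combination hdet
  rcases mul_self_eq_one_iff.1 hc with h | h
  · left
    apply h8sl_ext <;> simp only [o00, o01, o10, o11]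
    · exact h
    · rw [hy2, he]; ring
    · exact he
    · rw [← hy1, h]
  · right
    apply h8sl_ext <;> simp only [reepb_neg_apply, o00, o01, o10, o11]
    · exact h
    · rw [hy2, he]
    · rw [he, neg_zero]
    · rw [← hy1, h]

omit [Fintype K] in
theorem reeg4e_h13_neg_one_mem : (-1 : SpecialLinearGroup (Fin 2) K) ∈ so2 K := by
  obtain ⟨o00, o01, o10, o11⟩ := reepb_one_apply (K := K)
  refine ⟨?_, ?_⟩
  · simp only [reepb_neg_apply, o00, o11]
  · simp only [reepb_neg_apply, o01, o10, neg_zero]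

end P

namespace ReeAx

variable {G : Type u} [Group G] [Finite G] {K : Type v} [Field K] [Fintype K] {m : ℕ}

/-- the kernel of `ψ` on `SO₂` has order 2 -/
theorem reeg4e_h13_ker (R : ReeAx G K m) :
    Nat.card (R.psi.domRestrict (so2 K)).ker = 2 := by
  have hne : (-1 : SpecialLinearGroup (Fin 2) K) ≠ 1 := (sl2_basic R.hK).2.1
  let x : so2 K := ⟨-1, reeg4e_h13_neg_one_mem⟩
  have hx : x ∈ (R.psi.domRestrict (so2 K)).ker := by
    rw [MonoidHom.mem_ker]
    show R.psi (-1) = 1
    exact R.psi_neg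
  have hxb : x ∉ (⊥ : Subgroup (so2 K)) := by
    rw [Subgroup.mem_bot]
    intro h
    exact hne (congrArg Subtype.val h)
  have hdec : ∀ b ∈ (R.psi.domRestrict (so2 K)).ker, b ∈ (⊥ : Subgroup (so2 K)) ∨
      ∃ a ∈ (⊥ : Subgroup (so2 K)), b = x * a := by
    intro b hb
    rw [MonoidHom.mem_ker] at hb
    have hb' : R.psi b.1 = 1 := hb
    rcases R.psi_ker b.1 hb' with h | h
    · left
      rw [Subgroup.mem_bot]
      exact Subtype.ext h
    · right
      refine ⟨1, one_mem _, ?_⟩
      rw [mul_one]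
      exact Subtype.ext h
  rw [reeg4i_card_pair ⊥ (R.psi.domRestrict (so2 K)).ker x bot_le hx hxb hdec]
  simp

/-- G4E (second-writer copy). -/
theorem D_basic_h13 (R : ReeAx G K m) :
    IsCyclic R.D ∧ 2 * Nat.card R.D = qq m + 1 ∧ R.n0 ∈ R.D ∧ R.D ≤ R.L ∧
    (∀ d ∈ R.D, d * d = 1 → d = 1 ∨ d = R.n0) ∧
    (∀ d ∈ R.D, R.t * d = d * R.t) ∧ R.t ∉ R.D := by
  obtain ⟨hcyc, hcard, -⟩ := so2_props R.hK
  have hDrange : (R.psi.domRestrict (so2 K)).range = R.D := by
    unfold ReeAx.D
    exact MonoidHom.domRestrict_range (K := so2 K) R.psi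
  have hpsinegW : R.psi (-h8slW) = R.n0 := by
    have : (-h8slW : SpecialLinearGroup (Fin 2) K) = (-1) * h8slW := by
      rw [neg_mul, one_mul]
    rw [this, map_mul, R.psi_neg, one_mul, R.psi_W]
  refine ⟨?_, ?_, R.reeg4h_n0_mem_D, ?_, ?_, ?_, ?_⟩
  · have := hcyc
    rw [← hDrange]
    exact isCyclic_of_surjective (R.psi.domRestrict (so2 K)).rangeRestrict
      (MonoidHom.rangeRestrict_surjective _)
  · have h1 := Subgroup.card_mul_index (R.psi.domRestrict (so2 K)).ker
    rw [Subgroup.index_ker, R.reeg4e_h13_ker, hDrange, hcard] at h1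
    exact h1
  · unfold ReeAx.D ReeAx.L
    exact Subgroup.map_le_range _ _
  · rintro d ⟨g, hg, rfl⟩ hdd
    rw [← map_mul] at hdd
    rcases R.psi_ker _ hdd with h | h
    · left
      rcases reeg4e_h13_order_two R.hK g hg h with h' | h'
      · rw [h', map_one]
      · rw [h', R.psi_neg]
    · right
      rcases reepb_order_four R.hK g hg h with h' | h'
      · rw [h', R.psi_W]
      · rw [h', hpsinegW]
  · rintro d ⟨g, -, rfl⟩
    exact R.psi_comm g
  · rintro ⟨g, -, hg⟩
    exact R.psi_ne_t g hg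

end ReeAx

end Cfsg.Agent.Lib.helper7.REE
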