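import Mathlib
import Cfsg.Agent.Lib.Helper28.REEPC
import Cfsg.Agent.Lib.Helper13.REEG4Eh13

/-!
# Project RES (designer lead), row INVL (`invol_L`), verbatim.
-/

set_option autoImplicit false
set_option linter.unusedVariables false
set_option linter.unusedSectionVars false

namespace Cfsg.Agent.Lib.Lead.RES

open Matrix Cfsg.Agent.Lib.helper8 Cfsg.Agent.Lib.helper7.REE

universe u v

section P

variable {K : Type v} [Field K] [Fintype K] {m : ℕ}

/-- an element of `SL₂(K)` with `g * g = 1` is `± 1` (`2 ≠ 0`) -/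
theorem resinvl_sq_one (hK : Fintype.card K = qq m) (g : SpecialLinearGroup (Fin 2) K)
    (hgg : g * g = 1) : g = 1 ∨ g = -1 := by
  have h2 := reepb_two_ne hK
  have hinv : g⁻¹ = g := inv_eq_of_mul_eq_one_left hgg
  obtain ⟨i00, i01, i10, i11⟩ := reepb_inv_apply g
  rw [hinv] at i00 i01 i10 i11
  have h01 : g 0 1 = 0 := by
    have h4 : (2 : K) * g 0 1 = 0 := by linear_combination i01
    rcases mul_eq_zero.1 h4 with h | h
    · exact absurd h h2
    · exact h
  have h10 : g 1 0 = 0 := by
    have h4 : (2 : K) * g 1 0 = 0 := by linear_combination i10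
    rcases mul_eq_zero.1 h4 with h | h
    · exact absurd h h2
    · exact h
  have hso : g ∈ so2 K := ⟨i00, by rw [h01, h10, neg_zero]⟩
  exact reeg4e_h13_order_two hK g hso hgg

/-- an element of `SL₂(K)` with `g * g = -1` is conjugate to `± W` -/
theorem resinvl_sq_neg_one (hK : Fintype.card K = qq m) (g : SpecialLinearGroup (Fin 2) K)
    (hgg : g * g = -1) :
    ∃ x : SpecialLinearGroup (Fin 2) K, x * g * x⁻¹ = h8slW ∨ x * g * x⁻¹ = -h8slW := by
  have h2 := reepb_two_ne hK
  obtain ⟨o00, o01, o10, o11⟩ := reepb_one_apply (K := K)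
  have hne : (1 : K) ≠ -1 := by
    intro h
    apply h2
    linear_combination h
  have hconj : ∀ x : SpecialLinearGroup (Fin 2) K, (x * g * x⁻¹) * (x * g * x⁻¹) = -1 := by
    intro x
    calc (x * g * x⁻¹) * (x * g * x⁻¹) = x * (g * g) * x⁻¹ := by
          simp only [mul_assoc, inv_mul_cancel_left]
      _ = -1 := by
          rw [hgg, mul_neg, mul_one, neg_mul, mul_inv_cancel]
  rcases sl2_trichotomy hK g with ⟨x, s, h | h⟩ | ⟨x, s, hs, h⟩ | ⟨x, h⟩
  · exfalso
    have h1 := hconj x
    rw [h] at h1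
    obtain ⟨u00, u01, u10, u11⟩ := reepb_U_apply s
    have e00 := congrArg (fun y : SpecialLinearGroup (Fin 2) K => y 0 0) h1
    simp only [reepb_mul_apply, reepb_neg_apply, u00, u01, u10, u11, o00] at e00
    apply hne
    linear_combination e00
  · exfalso
    have h1 := hconj x
    rw [h] at h1
    obtain ⟨u00, u01, u10, u11⟩ := reepb_U_apply s
    have e00 := congrArg (fun y : SpecialLinearGroup (Fin 2) K => y 0 0) h1
    simp only [reepb_mul_apply, reepb_neg_apply, u00, u01, u10, u11, o00] at e00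
    apply hne
    linear_combination e00
  · exfalso
    have h1 := hconj x
    rw [h] at h1
    obtain ⟨d00, d01, d10, d11⟩ := reepb_D_apply s hs
    have e00 := congrArg (fun y : SpecialLinearGroup (Fin 2) K => y 0 0) h1
    simp only [reepb_mul_apply, reepb_neg_apply, d00, d01, d10, d11, o00] at e00
    apply reepb_nonsq hK s
    linear_combination e00
  · exact ⟨x, reepb_order_four hK _ h (hconj x)⟩

end P

variable {G : Type u} [Group G] [Finite G] {K : Type v} [Field K] [Fintype K] {m : ℕ}

theorem invol_L (R : ReeAx G K m) (l : G) (hl : l ∈ R.L) (h2 : l * l = 1) (h1 : l ≠ 1) :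
    ∃ c ∈ R.L, c * l * c⁻¹ = R.n0 := by
  obtain ⟨g, rfl⟩ := hl
  rw [← map_mul] at h2
  rcases R.psi_ker _ h2 with h | h
  · exfalso
    apply h1
    rcases resinvl_sq_one R.hK g h with h' | h'
    · rw [h', map_one]
    · rw [h', R.psi_neg]
  · obtain ⟨x, hx⟩ := resinvl_sq_neg_one R.hK g h
    refine ⟨R.psi x, ⟨x, rfl⟩, ?_⟩
    rw [← map_inv, ← map_mul, ← map_mul]
    rcases hx with hx | hx
    · rw [hx, R.psi_W]
    · rw [hx]
      have : (-h8slW : SpecialLinearGroup (Fin 2) K) = (-1) * h8slW := by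
        rw [neg_mul, one_mul]
      rw [this, map_mul, R.psi_neg, one_mul, R.psi_W]

end Cfsg.Agent.Lib.Lead.RES
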