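import Mathlib
import Cfsg.Agent.Lib.Helper13.RESINVL
import Cfsg.Agent.Lib.helper8.REEG4A
import Cfsg.Agent.Lib.helper4.REEG4H

/-!
# Project RES (designer lead), row V4 (`four_conj`), verbatim.
-/

set_option autoImplicit false
set_option linter.unusedVariables false
set_option linter.unusedSectionVars false

namespace Cfsg.Agent.Lib.Lead.RES

open Matrix Cfsg.Agent.Lib.helper8 Cfsg.Agent.Lib.helper7.REE

universe u v

/-- a group of exponent 2 is abelian (elementwise form) -/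
theorem resv4_comm {G : Type u} [Group G] (x y : G) (hx : x * x = 1) (hy : y * y = 1)
    (hxy : x * y * (x * y) = 1) : x * y = y * x := by
  have hxi : x⁻¹ = x := inv_eq_of_mul_eq_one_left hx
  have hyi : y⁻¹ = y := inv_eq_of_mul_eq_one_left hy
  have hxyi : (x * y)⁻¹ = x * y := inv_eq_of_mul_eq_one_left hxy
  calc x * y = (x * y)⁻¹ := hxyi.symm
    _ = y⁻¹ * x⁻¹ := _root_.mul_inv_rev x y
    _ = y * x := by rw [hxi, hyi]

/-- a subgroup of order 4 has an element outside `{1, a}` -/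
theorem resv4_third {G : Type u} [Group G] (Q : Subgroup G) (hcard : Nat.card Q = 4) (a : G) :
    ∃ b ∈ Q, b ≠ 1 ∧ b ≠ a := by
  by_contra hcon
  push Not at hcon
  have hsub : (Q : Set G) ⊆ {1, a} := by
    intro b hb
    by_cases h1 : b = 1
    · exact Or.inl h1
    · exact Or.inr (hcon b hb h1)
  have hfin : ({1, a} : Set G).Finite := Set.toFinite _
  have h1 : (Q : Set G).ncard ≤ ({1, a} : Set G).ncard := Set.ncard_le_ncard hsub hfin
  have h2 : ({1, a} : Set G).ncard ≤ 2 := by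
    have := Set.ncard_insert_le (1 : G) ({a} : Set G)
    rw [Set.ncard_singleton] at this
    exact this
  have h3 : (Q : Set G).ncard = 4 := by
    rw [← hcard]
    exact (Nat.card_coe_set_eq (Q : Set G)).symm
  omega

variable {G : Type u} [Group G] [Finite G] {K : Type v} [Field K] [Fintype K] {m : ℕ}

theorem four_conj (R : ReeAx G K m) (Q : Subgroup G) (hcard : Nat.card Q = 4)
    (hexp : ∀ x ∈ Q, x * x = 1) : ∃ g : G, ∀ x : G, x ∈ Q ↔ g * x * g⁻¹ ∈ R.V := by
  obtain ⟨hCt, htL, -, -, hn0L, hLt, -⟩ := R.L_basic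
  -- an involution `a` of `Q`
  obtain ⟨a, haQ, ha1, -⟩ := resv4_third Q hcard 1
  obtain ⟨h, hh⟩ := R.invol_conj a ha1 (hexp a haQ)
  -- a third element `b`
  obtain ⟨b, hbQ, hb1, hba⟩ := resv4_third Q hcard a
  have hab : a * b = b * a :=
    resv4_comm a b (hexp a haQ) (hexp b hbQ) (hexp _ (mul_mem haQ hbQ))
  have hta : R.t = h⁻¹ * a * h := by
    rw [← hh]; simp only [mul_assoc, inv_mul_cancel_left, inv_mul_cancel, mul_one]
  -- `b' = h⁻¹ b h` commutes with `t`
  have hcomm : R.t * (h⁻¹ * b * h) = (h⁻¹ * b * h) * R.t := by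
    rw [hta]
    calc h⁻¹ * a * h * (h⁻¹ * b * h) = h⁻¹ * (a * b) * h := by
          simp only [mul_assoc, mul_inv_cancel_left]
      _ = h⁻¹ * (b * a) * h := by rw [hab]
      _ = h⁻¹ * b * h * (h⁻¹ * a * h) := by
          simp only [mul_assoc, mul_inv_cancel_left]
  -- an involution `e` of `Q` with `h⁻¹ e h ∈ L`
  have hex : ∃ e ∈ Q, e ≠ 1 ∧ h⁻¹ * e * h ∈ R.L := by
    rcases (hCt _).1 hcomm with hl | ⟨l, hl, hbl⟩
    · exact ⟨b, hbQ, hb1, hl⟩
    · refine ⟨a * b, mul_mem haQ hbQ, ?_, ?_⟩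
      · intro h1
        apply hba
        have : b = a⁻¹ := eq_inv_of_mul_eq_one_right h1
        rw [this]
        exact inv_eq_of_mul_eq_one_left (hexp a haQ)
      · have : h⁻¹ * (a * b) * h = R.t * (h⁻¹ * b * h) := by
          rw [hta]; simp only [mul_assoc, mul_inv_cancel_left]
        rw [this, hbl, ← mul_assoc, R.t_sq, one_mul]
        exact hl
  obtain ⟨e, heQ, he1, heL⟩ := hex
  have hee : (h⁻¹ * e * h) * (h⁻¹ * e * h) = 1 := by
    calc (h⁻¹ * e * h) * (h⁻¹ * e * h) = h⁻¹ * (e * e) * h := by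
          simp only [mul_assoc, mul_inv_cancel_left]
      _ = 1 := by rw [hexp e heQ, mul_one, inv_mul_cancel]
  have hene : h⁻¹ * e * h ≠ 1 := by
    intro h1
    apply he1
    have : e = h * (h⁻¹ * e * h) * h⁻¹ := by
      simp only [mul_assoc, mul_inv_cancel_left, mul_inv_cancel, mul_one]
    rw [this, h1, mul_one, mul_inv_cancel]
  obtain ⟨c, hcL, hc⟩ := invol_L R _ heL hee hene
  have hct : c * R.t * c⁻¹ = R.t := by
    rw [← hLt c hcL, mul_inv_cancel_right]
  -- the conjugating element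
  refine ⟨c * h⁻¹, ?_⟩
  have hinj : Function.Injective (MulAut.conj (c * h⁻¹)).toMonoidHom :=
    (MulAut.conj (c * h⁻¹)).injective
  have hVle : R.V ≤ Q.map (MulAut.conj (c * h⁻¹)).toMonoidHom := by
    unfold ReeAx.V
    rw [Subgroup.closure_le]
    intro v hv
    rcases hv with rfl | rfl
    · refine ⟨a, haQ, ?_⟩
      show c * h⁻¹ * a * (c * h⁻¹)⁻¹ = R.t
      rw [← hct, hta]
      simp only [mul_assoc, _root_.mul_inv_rev, inv_inv]
    · refine ⟨e, heQ, ?_⟩
      show c * h⁻¹ * e * (c * h⁻¹)⁻¹ = R.n0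
      rw [← hc]
      simp only [mul_assoc, _root_.mul_inv_rev, inv_inv]
  have hVcard : Nat.card R.V = 4 := R.V_basic.2.1
  have hQcard : Nat.card (Q.map (MulAut.conj (c * h⁻¹)).toMonoidHom) = 4 := by
    rw [Subgroup.card_map_of_injective hinj, hcard]
  have hVeq : R.V = Q.map (MulAut.conj (c * h⁻¹)).toMonoidHom :=
    Subgroup.eq_of_le_of_card_ge hVle (by rw [hVcard, hQcard])
  intro x
  rw [hVeq]
  have : c * h⁻¹ * x * (c * h⁻¹)⁻¹ = (MulAut.conj (c * h⁻¹)).toMonoidHom x := rfl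
  rw [this, Subgroup.mem_map_iff_mem hinj]

end Cfsg.Agent.Lib.Lead.RES
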