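import Mathlib
import Cfsg.Agent.Lib.Helper19.U3P.Defs
import Cfsg.Agent.Lib.Helper9.SLPB3

/-!
# U3P row B8 (helper13): `commute_of_deg_le`, verbatim.  Extras `u3pb8_*`.
-/

set_option autoImplicit false

namespace Cfsg.Agent.Lib.Helper19.U3P

open Cfsg.Agent.Lib.helper17.SLP
open Polynomial

universe u v

/-- conjugating a commuting pair -/
theorem u3pb8_commute_conj {G : Type*} [Group G] (g a b : G) (i : ℤ) (hab : Commute a b) :
    Commute (g ^ i * a * g ^ (-i)) (g ^ i * b * g ^ (-i)) := by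
  have := hab.map (MulAut.conj (g ^ i)).toMonoidHom
  have e : ∀ x, (MulAut.conj (g ^ i)).toMonoidHom x = g ^ i * x * g ^ (-i) := by
    intro x; rw [zpow_neg]; rfl
  rwa [e, e] at this

/-- a subgroup generated by finitely many pairwise commuting elements of order dividing `p` is
commutative and finite. -/
theorem u3pb8_closure_finite {G : Type*} [Group G] (p : ℕ) (hp : 0 < p) (S : Set G) (hS : S.Finite)
    (hcomm : ∀ x ∈ S, ∀ y ∈ S, x * y = y * x) (hpow : ∀ x ∈ S, x ^ p = 1) :
    (∀ x ∈ Subgroup.closure S, ∀ y ∈ Subgroup.closure S, Commute x y) ∧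
      ((Subgroup.closure S : Subgroup G) : Set G).Finite := by
  have hc := Subgroup.isMulCommutative_closure hcomm
  have hcommV : ∀ x ∈ Subgroup.closure S, ∀ y ∈ Subgroup.closure S, Commute x y := by
    intro x hx y hy
    have := hc.is_comm.comm (⟨x, hx⟩ : Subgroup.closure S) ⟨y, hy⟩
    exact congrArg Subtype.val this
  refine ⟨hcommV, ?_⟩
  -- every element has `p`-th power one
  have hpowV : ∀ x ∈ Subgroup.closure S, x ^ p = 1 := by
    intro x hx
    induction hx using Subgroup.closure_induction with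
    | mem y hy => exact hpow y hy
    | one => exact one_pow _
    | mul x y hx hy ihx ihy =>
      rw [(hcommV x hx y hy).mul_pow, ihx, ihy, one_mul]
    | inv x _ ihx => rw [inv_pow, ihx, inv_one]
  let _ : CommGroup (Subgroup.closure S) :=
    { (inferInstance : Group (Subgroup.closure S)) with
      mul_comm := fun a b => Subtype.ext (hcommV a.1 a.2 b.1 b.2).eq }
  have : Group.FG (Subgroup.closure S) := by
    rw [Group.fg_iff_subgroup_fg]
    exact ⟨hS.toFinset, by rw [Set.Finite.coe_toFinset]⟩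
  have htors : IsMulTorsion (Subgroup.closure S) := by
    intro g
    rw [isOfFinOrder_iff_pow_eq_one]
    refine ⟨p, hp, ?_⟩
    apply Subtype.ext
    rw [Subgroup.coe_pow]
    exact hpowV g.1 g.2
  have hfin : Finite (Subgroup.closure S) := CommGroup.finite_of_fg_isMulTorsion _ htors
  exact Set.toFinite _

/-- B8 [M]  generalises SLP B3. -/
theorem commute_of_deg_le {G : Type*} [Group G] (p : ℕ) [Fact p.Prime] (u h : G) (m : (ZMod p)[X])
    (hm : m.Monic) (hdeg1 : 1 ≤ m.natDegree) (a1 : u ^ p = 1)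
    (a2 : ∀ j : ℕ, 1 ≤ j → j < m.natDegree → Commute u (cj h u j)) (a3 : pw p h u 1 m = 1) :
    ∀ j : ℤ, Commute u (cj h u j) := by
  classical
  have hp : p.Prime := Fact.out
  have : Fact (1 < p) := ⟨hp.one_lt⟩
  set n := m.natDegree with hn
  have hvp : ∀ j : ℕ, cj h u (j : ℤ) ^ p = 1 := by
    intro j
    rw [← cj_pow, a1]; simp [cj]
  -- the generators commute
  have hcomm_le : ∀ i j : ℕ, i ≤ j → j < n → Commute (cj h u (i : ℤ)) (cj h u (j : ℤ)) := by
    intro i j hij hj
    rcases Nat.eq_or_lt_of_le hij with rfl | hlt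
    · exact Commute.refl _
    · have h1 : Commute u (cj h u ((j - i : ℕ) : ℤ)) := a2 (j - i) (by omega) (by omega)
      have h2 := u3pb8_commute_conj h u (cj h u ((j - i : ℕ) : ℤ)) (i : ℤ) h1
      rw [conj_cj] at h2
      have e : (i : ℤ) + ((j - i : ℕ) : ℤ) = (j : ℤ) := by
        rw [Nat.cast_sub hij]; ring
      rw [e] at h2
      exact h2
  have hcomm_all : ∀ i j : ℕ, i < n → j < n → Commute (cj h u (i : ℤ)) (cj h u (j : ℤ)) := by
    intro i j hi hj
    rcases le_total i j with hij | hij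
    · exact hcomm_le i j hij hj
    · exact (hcomm_le j i hij hi).symm
  set S : Set G := Set.range (fun j : Fin n => cj h u ((j : ℕ) : ℤ)) with hS
  have hSfin : S.Finite := Set.finite_range _
  obtain ⟨hcommV, hfin⟩ := u3pb8_closure_finite p hp.pos S hSfin
    (by
      rintro _ ⟨i, rfl⟩ _ ⟨j, rfl⟩
      exact (hcomm_all i j i.2 j.2).eq)
    (by
      rintro _ ⟨i, rfl⟩
      exact hvp i)
  set V : Subgroup G := Subgroup.closure S with hV
  have hvV : ∀ j : ℕ, j < n → cj h u (j : ℤ) ∈ V := fun j hj =>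
    Subgroup.subset_closure ⟨⟨j, hj⟩, rfl⟩
  have huV : u ∈ V := by
    have := hvV 0 (by omega)
    rwa [Nat.cast_zero, cj_zero] at this
  -- `cj h u n ∈ V` from `a3`
  have hc : m.coeff n = 1 := hm.coeff_natDegree
  have hvn : cj h u (n : ℤ) ∈ V := by
    have e : pw p h u 1 m =
        ((List.range n).map fun j : ℕ => cj h u (1 * (j : ℤ)) ^ (m.coeff j).val).prod *
          cj h u (n : ℤ) := by
      unfold pw
      rw [← hn, List.range_succ, List.map_append, List.prod_append]
      simp [hc, ZMod.val_one]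
    rw [e] at a3
    have hmem : ((List.range n).map fun j : ℕ => cj h u (1 * (j : ℤ)) ^ (m.coeff j).val).prod ∈ V := by
      apply Subgroup.list_prod_mem
      intro x hx
      rw [List.mem_map] at hx
      obtain ⟨j, hj, rfl⟩ := hx
      rw [List.mem_range] at hj
      rw [one_mul]
      exact V.pow_mem (hvV j hj) _
    have : cj h u (n : ℤ) =
        (((List.range n).map fun j : ℕ => cj h u (1 * (j : ℤ)) ^ (m.coeff j).val).prod)⁻¹ :=
      eq_inv_of_mul_eq_one_right a3
    rw [this]
    exact V.inv_mem hmem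
  -- `h V h⁻¹ ≤ V`
  have hstep : ∀ j : ℕ, h * cj h u (j : ℤ) * h⁻¹ = cj h u ((j + 1 : ℕ) : ℤ) := by
    intro j
    have := conj_cj h u (j : ℤ) 1
    rw [zpow_one, zpow_neg, zpow_one] at this
    rw [this]; congr 1; push_cast; ring
  have hconj : ∀ x ∈ V, h * x * h⁻¹ ∈ V := by
    intro x hx
    have hmap : V.map (MulAut.conj h).toMonoidHom ≤ V := by
      rw [hV, MonoidHom.map_closure, Subgroup.closure_le]
      rintro _ ⟨y, ⟨j, rfl⟩, rfl⟩
      show h * cj h u ((j : ℕ) : ℤ) * h⁻¹ ∈ V
      rw [hstep]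
      rcases Nat.lt_or_ge ((j : ℕ) + 1) n with hlt | hge
      · exact hvV _ hlt
      · have : (j : ℕ) + 1 = n := by have := j.2; omega
        rw [this]; exact hvn
    exact hmap ⟨x, hx, rfl⟩
  intro j
  exact hcommV u huV _ (slpb3_mem_of_conj_le h u V hfin huV hconj j)

end Cfsg.Agent.Lib.Helper19.U3P
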