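import Mathlib
import Cfsg.Agent.Lib.Helper19.U3P.Defs
import Cfsg.Agent.Lib.Helper19.U3PB6
import Cfsg.Agent.Lib.Helper19.U3PB7
import Cfsg.Agent.Lib.helper8.SLPB2
import Cfsg.Agent.Lib.Helper13.U3PB8

/-!
# U3P row B9 (helper13): `card_ext_Q`, verbatim.  Extras `u3pb9_*`.
-/

set_option autoImplicit false

namespace Cfsg.Agent.Lib.Helper19.U3P

open Cfsg.Agent.Lib.helper17.SLP
open Polynomial

universe u v

/-- the word of the constant polynomial `1` -/
theorem u3pb9_pw_one {G : Type*} [Group G] (p : ℕ) [Fact p.Prime] (h u : G) (l : ℤ) :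
    pw p h u l (1 : (ZMod p)[X]) = u := by
  have hp : p.Prime := Fact.out
  have : Fact (1 < p) := ⟨hp.one_lt⟩
  unfold pw
  simp [cj_zero, ZMod.val_one]

/-- B9 [M] -/
theorem card_ext_Q {F : Type*} [Field F] [Fintype F] (p : ℕ) [Fact p.Prime] [Algebra (ZMod p) F]
    {G : Type*} [Group G] (u h : G) (hgen : Subgroup.closure ({u, h} : Set G) = ⊤) (Z : Subgroup G)
    [Z.Normal] [Finite Z] (N : ℕ) (hN0 : 0 < N) (hN : h ^ N = 1) (lam : F) (hlam : lam ≠ 0)
    (hsurj : Function.Surjective (fun f : (ZMod p)[X] => aeval lam f))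
    (a1 : u ^ p ∈ Z)
    (a2 : ∀ j : ℕ, 1 ≤ j → j < (minpoly (ZMod p) lam).natDegree → cm u (cj h u j) ∈ Z)
    (a3 : pw p h u 1 (minpoly (ZMod p) lam) ∈ Z) :
    Finite G ∧ Nat.card G ≤ Nat.card Z * (Fintype.card F * N) := by
  classical
  set π : G →* G ⧸ Z := QuotientGroup.mk' Z with hπ
  have hker : ∀ g : G, g ∈ Z → π g = 1 := by
    intro g hg
    exact (QuotientGroup.eq_one_iff g).mpr hg
  have hint : IsIntegral (ZMod p) lam := Algebra.IsIntegral.isIntegral lam
  have b1 : (π u) ^ p = 1 := by rw [← map_pow]; exact hker _ a1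
  have b2 : ∀ j : ℕ, 1 ≤ j → j < (minpoly (ZMod p) lam).natDegree →
      Commute (π u) (cj (π h) (π u) j) := by
    intro j h1 h2
    rw [← cm_eq_one_iff, ← map_cj, ← map_cm]; exact hker _ (a2 j h1 h2)
  have b3 : pw p (π h) (π u) 1 (minpoly (ZMod p) lam) = 1 := by
    rw [← map_pw]; exact hker _ a3
  have hcomm : ∀ j : ℤ, Commute (π u) (cj (π h) (π u) j) :=
    commute_of_deg_le p (π u) (π h) (minpoly (ZMod p) lam) (minpoly.monic hint)
      (minpoly.natDegree_pos hint) b1 b2 b3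
  obtain ⟨x, hadd, hconj, hx⟩ := exists_x_of_commute p (π h) (π u) lam hsurj b1 hcomm b3
  have hx1 : x 1 = π u := by
    have := hx 1
    rw [map_one, u3pb9_pw_one] at this
    exact this
  have hgenQ := u3pb7_gen_quot Z u h hgen
  have hNQ : (π h) ^ N = 1 := by rw [← map_pow, hN, map_one]
  have hQ := card_le_of_x_h (π u) (π h) hgenQ x hadd lam hlam hconj hx1 N hN0 hNQ
  exact u3pb7_card_ext Z _ hQ

end Cfsg.Agent.Lib.Helper19.U3P
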