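import Mathlib
import Cfsg.Prelude.Def_Classical
import Cfsg.Agent.Lib.Helper13.PSUEND
import Cfsg.Agent.S2289
import Cfsg.Agent.Lib.Helper12.PSU3S.U33
import Cfsg.Agent.Lib.Helper12.PSU3S.U35

/-!
# S2291: the final assembly as a core (helper13, for helper27's project PSU)

`s2291_core` = the frozen S2291 from the statement of `glue_main` (`SU_n(q)`, `n ≥ 4`, on any number of generators with at most 77 relators).
`n = 3`: `q = 3, 5` are helper12's `PSU3S.U33.main`, `PSU3S.U35.main`; the other `q` come from the landed S2289 (`PSU₃(q)`: 3 generators, at most 24 relators)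
and `psu_s2291_of_psu`.  `n ≥ 4`: `psu_s2291`.
-/

set_option autoImplicit false

namespace Cfsg.Agent.Lib.Helper13.PSUEND

universe u

/-- the frozen S2291 from the statement of `glue_main` -/
theorem s2291_core {F : Type u} [Field F] [Fintype F] (q n : ℕ) (hF : Fintype.card F = q ^ 2) (hn : 3 ≤ n)
    (h32 : ¬ (n = 3 ∧ q = 2))
    (hglue : 4 ≤ n → ∃ (k : ℕ) (R : Finset (FreeGroup (Fin k))), R.card ≤ 77 ∧
      Nonempty (PresentedGroup (↑R : Set (FreeGroup (Fin k))) ≃* ↥(Cfsg.SU n F q))) :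
    ∃ rels : Finset (FreeGroup (Fin 2)), rels.card ≤ 80 ∧
      Nonempty (PresentedGroup (↑rels : Set (FreeGroup (Fin 2))) ≃* Cfsg.PSU n F q) := by
  rcases Nat.lt_or_ge 3 n with h4 | h3
  · exact psu_s2291 q n hF hn h32 (hglue h4)
  · have hn3 : n = 3 := by omega
    subst hn3
    have hq2 : q ≠ 2 := fun h => h32 ⟨rfl, h⟩
    by_cases hq3 : q = 3
    · subst hq3
      exact Cfsg.Agent.Lib.Helper12.PSU3S.U33.main hF
    · by_cases hq5 : q = 5
      · subst hq5
        exact Cfsg.Agent.Lib.Helper12.PSU3S.U35.main hF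
      · obtain ⟨R, hR, he⟩ := (Cfsg.Agent.S2289.result (F := F) q hF hq2 hq3 hq5).2
        exact psu_s2291_of_psu q 3 hF le_rfl h32 ⟨3, R, by omega, he⟩

end Cfsg.Agent.Lib.Helper13.PSUEND
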