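import Mathlib
import Cfsg.Agent.Lib.Helper20.S3571.Defs

set_option autoImplicit false

namespace Cfsg.Agent.Lib.Helper20.S3571
open Equiv

/-- BR1: a nontrivial normal subgroup of a faithful primitive group is transitive. -/
theorem transitive_of_normal {G Ω : Type*} [Group G] [MulAction G Ω] [FaithfulSMul G Ω]
    (hprim : MulAction.IsPreprimitive G Ω) (T : Subgroup G) (hT : T.Normal) (hT1 : T ≠ ⊥) :
    MulAction.IsPretransitive ↥T Ω := by
  haveI := hprim
  haveI := hT
  haveI : MulAction.IsQuasiPreprimitive G Ω := MulAction.IsPreprimitive.isQuasiPreprimitive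
  apply MulAction.IsQuasiPreprimitive.isPretransitive_of_normal (G := G) (X := Ω) (N := T)
  intro hfix
  apply hT1
  rw [Subgroup.eq_bot_iff_forall]
  intro t ht
  apply FaithfulSMul.eq_of_smul_eq_smul (α := Ω)
  intro x
  have hx : x ∈ MulAction.fixedPoints (↥T) Ω := by rw [hfix]; exact Set.mem_univ x
  have := hx ⟨t, ht⟩
  simpa using this

end Cfsg.Agent.Lib.Helper20.S3571
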