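import Mathlib

/-!
Piece P-B of helper3's plan for S3797: the fibre count for the squaring map on a proper
`A`-invariant subgroup `Q` containing all involutions.
-/

namespace Cfsg.Agent.Lib.Helper13.S3797PB

theorem arith_key (n a φ : ℕ) (hn : 1 ≤ n) (ha : a + 1 ≤ 3 * n)
    (heq : 2 ^ a = 2 ^ n + (2 ^ n - 1) * φ) (hφ : 1 ≤ φ) : φ = 2 ^ n := by
  have h2n : 2 ≤ 2 ^ n := by
    have : 2 ^ 1 ≤ 2 ^ n := Nat.pow_le_pow_right (by norm_num) hn
    simpa using this
  have hN : 1 ≤ 2 ^ n - 1 := by omega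
  have han : n < a := by
    by_contra hcon
    push_neg at hcon
    have h1 : 2 ^ a ≤ 2 ^ n := Nat.pow_le_pow_right (by norm_num) hcon
    have h2 : (2 ^ n - 1) * 1 ≤ (2 ^ n - 1) * φ := Nat.mul_le_mul_left _ hφ
    omega
  obtain ⟨m, rfl⟩ : ∃ m, a = n + m := ⟨a - n, by omega⟩
  have hm1 : 1 ≤ m := by omega
  have hm2 : m < 2 * n := by omega
  have h2m : 1 ≤ 2 ^ m := Nat.one_le_two_pow
  have e1 : 2 ^ n * (2 ^ m - 1) = (2 ^ n - 1) * φ := by
    rw [pow_add] at heq
    rw [Nat.mul_sub, mul_one]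
    omega
  have hdvd : (2 ^ n - 1) ∣ (2 ^ m - 1) := by
    have hcop : Nat.Coprime (2 ^ n - 1) (2 ^ n) := by
      have h := (Nat.coprime_self_add_right (m := 2 ^ n - 1) (n := 1)).mpr (Nat.coprime_one_right _)
      have h3 : 2 ^ n - 1 + 1 = 2 ^ n := by omega
      rwa [h3] at h
    exact hcop.dvd_of_dvd_mul_left ⟨φ, e1⟩
  have hmod : (2 ^ m - 1) % (2 ^ n - 1) = 0 := Nat.mod_eq_zero_of_dvd hdvd
  rw [Nat.pow_sub_one_mod_pow_sub_one] at hmod
  have hmn : m % n = 0 := by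
    by_contra h
    have : 2 ^ 1 ≤ 2 ^ (m % n) :=
      Nat.pow_le_pow_right (by norm_num) (Nat.one_le_iff_ne_zero.mpr h)
    omega
  have hmeq : m = n := by
    obtain ⟨c, hc⟩ := Nat.dvd_of_mod_eq_zero hmn
    have hc1 : c = 1 := by
      rcases c with _ | _ | c
      · omega
      · rfl
      · exfalso; nlinarith
    subst hc1; omega
  subst hmeq
  have h0 : 0 < 2 ^ m - 1 := by omega
  have h4 : (2 ^ m - 1) * φ = (2 ^ m - 1) * 2 ^ m := by rw [← e1, mul_comm]
  exact Nat.eq_of_mul_eq_mul_left h0 h4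

theorem sq_inj_mod {S : Type*} [Group S] [Finite S]
    (hcent : ∀ x : S, x ^ 2 = 1 → ∀ y : S, x * y = y * x)
    (hsq : ∀ x : S, (x ^ 2) ^ 2 = 1)
    (hbound : Nat.card S ≤ (Nat.card {x : S // x ^ 2 = 1}) ^ 3)
    (A : Subgroup (MulAut S))
    (htr : ∀ x y : S, x ≠ 1 → x ^ 2 = 1 → y ≠ 1 → y ^ 2 = 1 → ∃ a ∈ A, a x = y)
    (Q : Subgroup S) (hQA : ∀ a ∈ A, ∀ x ∈ Q, a x ∈ Q) (hWQ : ∀ x : S, x ^ 2 = 1 → x ∈ Q)
    (hQ : Q ≠ ⊤) :
    ∀ x ∈ Q, ∀ y ∈ Q, x ^ 2 = y ^ 2 → (x⁻¹ * y) ^ 2 = 1 := by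
  classical
  haveI : Fintype S := Fintype.ofFinite S
  intro x hxQ y hyQ hxy
  have hWmul : ∀ u v : S, u ^ 2 = 1 → v ^ 2 = 1 → (u * v) ^ 2 = 1 := by
    intro u v hu hv
    have hc : Commute u v := hcent u hu v
    rw [hc.mul_pow, hu, hv, one_mul]
  have hWinv : ∀ u : S, u ^ 2 = 1 → (u⁻¹) ^ 2 = 1 := by
    intro u hu; rw [inv_pow, hu, inv_one]
  by_cases hw : x ^ 2 = 1
  · have hy : y ^ 2 = 1 := hxy ▸ hw
    exact hWmul _ _ (hWinv x hw) hy
  · obtain ⟨w, hwdef⟩ : ∃ w, w = x ^ 2 := ⟨_, rfl⟩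
    have hw1 : w ≠ 1 := by rw [hwdef]; exact hw
    have hw2 : w ^ 2 = 1 := by rw [hwdef]; exact hsq x
    have hyw : y ^ 2 = w := by rw [hwdef, hxy]
    have hxw : x ^ 2 = w := hwdef.symm
    -- 2-group structure
    have hS2 : IsPGroup 2 S := by
      intro g
      refine ⟨2, ?_⟩
      have h := hsq g
      rw [← pow_mul] at h
      exact h
    let W : Subgroup S :=
      { carrier := {u | u ^ 2 = 1}
        mul_mem' := fun {u v} hu hv => hWmul u v hu hv
        one_mem' := one_pow 2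
        inv_mem' := fun {u} hu => hWinv u hu }
    obtain ⟨s, hs⟩ := IsPGroup.iff_card.mp hS2
    obtain ⟨a, ha⟩ := IsPGroup.iff_card.mp (hS2.to_subgroup Q)
    obtain ⟨n, hn⟩ := IsPGroup.iff_card.mp (hS2.to_subgroup W)
    have hWcard : Nat.card {u : S // u ^ 2 = 1} = 2 ^ n := by
      rw [← hn]; rfl
    -- finsets
    obtain ⟨Wf, hWf⟩ : ∃ Wf : Finset S, Wf = Finset.univ.filter (fun u : S => u ^ 2 = 1) :=
      ⟨_, rfl⟩
    obtain ⟨Qf, hQf⟩ : ∃ Qf : Finset S, Qf = Finset.univ.filter (fun u : S => u ∈ Q) :=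
      ⟨_, rfl⟩
    have hmemW : ∀ u, u ∈ Wf ↔ u ^ 2 = 1 := by intro u; simp [hWf]
    have hmemQ : ∀ u, u ∈ Qf ↔ u ∈ Q := by intro u; simp [hQf]
    have hWfcard : Wf.card = 2 ^ n := by
      rw [← hWcard]; exact (Nat.subtype_card Wf hmemW).symm
    have hQfcard : Qf.card = 2 ^ a := by
      rw [← ha]; exact (Nat.subtype_card Qf hmemQ).symm
    -- bound
    have hs3 : s ≤ 3 * n := by
      rw [hs, hWcard, ← pow_mul] at hbound
      have := (Nat.pow_le_pow_iff_right (by norm_num : 1 < 2)).mp hbound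
      omega
    have has : a + 1 ≤ s := by
      have hidx := Subgroup.card_mul_index Q
      have hne1 : Q.index ≠ 1 := fun h => hQ (Subgroup.index_eq_one.mp h)
      have hne0 : Q.index ≠ 0 := Subgroup.index_ne_zero_of_finite
      have h2 : 2 ≤ Q.index := by omega
      have h3 : 2 ^ a * 2 ≤ 2 ^ s := by
        rw [← hs, ← hidx, ha]
        exact Nat.mul_le_mul_left _ h2
      rw [← pow_succ] at h3
      exact (Nat.pow_le_pow_iff_right (by norm_num : 1 < 2)).mp h3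
    have hn1 : 1 ≤ n := by
      by_contra hcon
      have hn0 : n = 0 := by omega
      rw [hn0, pow_zero] at hWfcard
      have h1W : (1 : S) ∈ Wf := (hmemW 1).mpr (one_pow 2)
      have hwW : w ∈ Wf := (hmemW w).mpr hw2
      exact hw1 (Finset.card_le_one.mp hWfcard.le w hwW 1 h1W)
    -- fibres
    have hfib : Qf.card = ∑ v ∈ Wf, (Qf.filter (fun u => u ^ 2 = v)).card := by
      apply Finset.card_eq_sum_card_fiberwise
      intro u _
      exact (hmemW _).mpr (hsq u)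
    have h1W : (1 : S) ∈ Wf := (hmemW 1).mpr (one_pow 2)
    have hF1 : (Qf.filter (fun u => u ^ 2 = 1)) = Wf := by
      ext u
      simp only [Finset.mem_filter, hmemW, hmemQ]
      exact ⟨fun h => h.2, fun h => ⟨hWQ u h, h⟩⟩
    have hle : ∀ v v' : S, v ≠ 1 → v ^ 2 = 1 → v' ≠ 1 → v' ^ 2 = 1 →
        (Qf.filter (fun u => u ^ 2 = v)).card ≤ (Qf.filter (fun u => u ^ 2 = v')).card := by
      intro v v' hv1 hv2 hv1' hv2'
      obtain ⟨α, hαA, hα⟩ := htr v v' hv1 hv2 hv1' hv2'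
      apply Finset.card_le_card_of_injOn (fun u => α u)
      · intro u hu
        simp only [Finset.mem_coe, Finset.mem_filter, hmemQ] at hu ⊢
        refine ⟨hQA α hαA u hu.1, ?_⟩
        rw [← map_pow, hu.2, hα]
      · intro u _ u' _ h
        exact α.injective h
    have hconst : ∀ v ∈ Wf.erase 1,
        (Qf.filter (fun u => u ^ 2 = v)).card = (Qf.filter (fun u => u ^ 2 = w)).card := by
      intro v hv
      rw [Finset.mem_erase, hmemW] at hv
      exact le_antisymm (hle v w hv.1 hv.2 hw1 hw2) (hle w v hw1 hw2 hv.1 hv.2)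
    have hsum : Qf.card = Wf.card + (Wf.card - 1) * (Qf.filter (fun u => u ^ 2 = w)).card := by
      rw [hfib, ← Finset.add_sum_erase Wf _ h1W, hF1, Finset.sum_const_nat hconst,
        Finset.card_erase_of_mem h1W]
    have hφ1 : 1 ≤ (Qf.filter (fun u => u ^ 2 = w)).card := by
      apply Finset.card_pos.mpr
      exact ⟨x, by simp only [Finset.mem_filter, hmemQ]; exact ⟨hxQ, hxw⟩⟩
    rw [hQfcard, hWfcard] at hsum
    have hφ := arith_key n a _ hn1 (by omega) hsum hφ1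
    -- coset argument
    have himg : Wf.image (fun u => x * u) ⊆ Qf.filter (fun u => u ^ 2 = w) := by
      intro z hz
      rw [Finset.mem_image] at hz
      obtain ⟨u, hu, rfl⟩ := hz
      rw [hmemW] at hu
      simp only [Finset.mem_filter, hmemQ]
      refine ⟨Q.mul_mem hxQ (hWQ u hu), ?_⟩
      have hc : Commute x u := (hcent u hu x).symm
      rw [hc.mul_pow, hu, mul_one, hxw]
    have himgcard : (Wf.image (fun u => x * u)).card = Wf.card :=
      Finset.card_image_of_injective _ (mul_right_injective x)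
    have heqf : Wf.image (fun u => x * u) = Qf.filter (fun u => u ^ 2 = w) := by
      apply Finset.eq_of_subset_of_card_le himg
      rw [himgcard, hWfcard, hφ]
    have hyF : y ∈ Qf.filter (fun u => u ^ 2 = w) := by
      simp only [Finset.mem_filter, hmemQ]; exact ⟨hyQ, hyw⟩
    rw [← heqf, Finset.mem_image] at hyF
    obtain ⟨u, hu, hxu⟩ := hyF
    rw [hmemW] at hu
    have : x⁻¹ * y = u := by rw [← hxu]; group
    rw [this]; exact hu

end Cfsg.Agent.Lib.Helper13.S3797PB
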