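import Mathlib

/-!
Piece P-C of helper3's plan for S3797: an element of odd order normalizing an abelian
2-subgroup `Q` and centralizing the involutions of `Q` centralizes `Q`.
-/

namespace Cfsg.Agent.Lib.Helper13.S3797PC

theorem conj_pow_of_conj_eq {X : Type*} [Group X] (k x w : X)
    (hkw : k * w = w * k) (hkx : k * x * k⁻¹ = w * x) :
    ∀ j : ℕ, k ^ j * x * (k ^ j)⁻¹ = w ^ j * x := by
  intro j
  induction j with
  | zero => simp
  | succ j ih =>
    have hkwj : k * w ^ j = w ^ j * k := by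
      have : Commute k (w ^ j) := (show Commute k w from hkw).pow_right j
      exact this
    calc k ^ (j + 1) * x * (k ^ (j + 1))⁻¹
        = k * (k ^ j * x * (k ^ j)⁻¹) * k⁻¹ := by
          rw [pow_succ']; group
      _ = k * (w ^ j * x) * k⁻¹ := by rw [ih]
      _ = (k * w ^ j) * x * k⁻¹ := by group
      _ = w ^ j * (k * x * k⁻¹) := by rw [hkwj]; group
      _ = w ^ j * (w * x) := by rw [hkx]
      _ = w ^ (j + 1) * x := by rw [pow_succ]; group

theorem cent_of_cent_invol {X : Type*} [Group X] [Finite X] (Q : Subgroup X) (hQ2 : IsPGroup 2 Q)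
    (hQab : ∀ x ∈ Q, ∀ y ∈ Q, x * y = y * x) (k : X) (hk : Odd (orderOf k))
    (hkQ : ∀ x ∈ Q, k * x * k⁻¹ ∈ Q) (hkW : ∀ x ∈ Q, x ^ 2 = 1 → k * x = x * k) :
    ∀ x ∈ Q, k * x = x * k := by
  have key : ∀ n : ℕ, ∀ x ∈ Q, x ^ (2 ^ n) = 1 → k * x = x * k := by
    intro n
    induction n with
    | zero =>
      intro x _ hx
      have : x = 1 := by simpa using hx
      subst this; simp
    | succ n ih =>
      intro x hxQ hx
      have hx2Q : x ^ 2 ∈ Q := Q.pow_mem hxQ 2
      have hx2 : (x ^ 2) ^ (2 ^ n) = 1 := by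
        rw [← pow_mul, ← pow_succ']; exact hx
      have hkx2 : k * x ^ 2 = x ^ 2 * k := ih _ hx2Q hx2
      obtain ⟨c, hc⟩ : ∃ c, c = k * x * k⁻¹ := ⟨_, rfl⟩
      have hcQ : c ∈ Q := hc ▸ hkQ x hxQ
      have hxi : x⁻¹ ∈ Q := Q.inv_mem hxQ
      obtain ⟨w, hw⟩ : ∃ w, w = c * x⁻¹ := ⟨_, rfl⟩
      have hwQ : w ∈ Q := hw ▸ Q.mul_mem hcQ hxi
      have hcomm : Commute c x⁻¹ := hQab c hcQ x⁻¹ hxi
      have hc2 : c ^ 2 = x ^ 2 := by
        have : c ^ 2 = k * x ^ 2 * k⁻¹ := by rw [hc, pow_two, pow_two]; group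
        rw [this, hkx2]; group
      have hw2 : w ^ 2 = 1 := by
        rw [hw, hcomm.mul_pow, hc2, inv_pow, mul_inv_cancel]
      have hkw : k * w = w * k := hkW w hwQ hw2
      have hkx : k * x * k⁻¹ = w * x := by rw [hw, hc]; group
      have hpow := conj_pow_of_conj_eq k x w hkw hkx (orderOf k)
      rw [pow_orderOf_eq_one] at hpow
      have hwj : w ^ orderOf k = 1 := by
        have : x = w ^ orderOf k * x := by simpa using hpow
        have h2 : w ^ orderOf k * x = 1 * x := by rw [one_mul]; exact this.symm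
        exact mul_right_cancel h2
      have hw1 : w = 1 := by
        obtain ⟨m, hm⟩ := hk
        rw [hm, pow_succ, pow_mul, hw2, one_pow, one_mul] at hwj
        exact hwj
      have : c = x := by
        have : c * x⁻¹ = 1 := hw ▸ hw1
        exact mul_inv_eq_one.mp this
      rw [hc] at this
      calc k * x = k * x * k⁻¹ * k := by group
        _ = x * k := by rw [this]
  intro x hxQ
  obtain ⟨n, hn⟩ := hQ2 ⟨x, hxQ⟩
  have : x ^ (2 ^ n) = 1 := by
    have := congrArg Subtype.val hn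
    simpa using this
  exact key n x hxQ this

end Cfsg.Agent.Lib.Helper13.S3797PC
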