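import Mathlib

/-!
# Fixed-point-free action of `S₃`: `R' ≤ [R, x]` (piece P1 of helper1's plan for S4305), part A

Elementary lemmas: roots in groups of coprime order, bimultiplicativity of commutators in groups of
class two, lifting of fixed points through a central invariant subgroup by averaging.
-/

set_option autoImplicit false

namespace Cfsg.Agent.Lib.Helper13.S3Cl2

open scoped commutatorElement

variable {Y : Type*} [Group Y]

theorem mem_of_pow_mem [Finite Y] (H : Subgroup Y) {y : Y} {m : ℕ}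
    (hm : (Nat.card Y).Coprime m) (h : y ^ m ∈ H) : y ∈ H := by
  have h2 : (y ^ m) ^ ((Nat.card Y).gcdB m) = y := (powCoprime hm).left_inv y
  rw [← h2]
  exact H.zpow_mem h _

theorem coprime_two_of_six {n : ℕ} (h : n.Coprime 6) : n.Coprime 2 :=
  Nat.Coprime.coprime_dvd_right (by norm_num : 2 ∣ 6) h

theorem coprime_three_of_six {n : ℕ} (h : n.Coprime 6) : n.Coprime 3 :=
  Nat.Coprime.coprime_dvd_right (by norm_num : 3 ∣ 6) h

section ClassTwo

variable (hcl : ∀ a b c : Y, ⁅a, b⁆ * c = c * ⁅a, b⁆)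
include hcl

theorem comm_mul_left (a b c : Y) : ⁅a * b, c⁆ = ⁅a, c⁆ * ⁅b, c⁆ := by
  have e : ⁅a * b, c⁆ = a * ⁅b, c⁆ * a⁻¹ * ⁅a, c⁆ := by
    simp only [commutatorElement_def]; group
  rw [e, ← hcl b c a, mul_inv_cancel_right, hcl b c]

theorem comm_mul_right (a b c : Y) : ⁅a, b * c⁆ = ⁅a, b⁆ * ⁅a, c⁆ := by
  have e : ⁅a, b * c⁆ = ⁅a, b⁆ * (b * ⁅a, c⁆ * b⁻¹) := by
    simp only [commutatorElement_def]; group
  rw [e, ← hcl a c b, mul_inv_cancel_right]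

theorem comm_inv_left (a c : Y) : ⁅a⁻¹, c⁆ = ⁅a, c⁆⁻¹ := by
  have h1 := comm_mul_left hcl a⁻¹ a c
  rw [inv_mul_cancel, commutatorElement_one_left] at h1
  exact eq_inv_of_mul_eq_one_left h1.symm

theorem comm_inv_right (a c : Y) : ⁅a, c⁻¹⁆ = ⁅a, c⁆⁻¹ := by
  have h1 := comm_mul_right hcl a c⁻¹ c
  rw [inv_mul_cancel, commutatorElement_one_right] at h1
  exact eq_inv_of_mul_eq_one_left h1.symm

end ClassTwo

/-- Lifting of fixed points through a central invariant subgroup, by averaging over the six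
elements `φ^i ξ^j`. -/
theorem central_fixed_lift [Finite Y] (φ ξ : Y ≃* Y)
    (hφ : ∀ y, φ (φ (φ y)) = y) (hξ : ∀ y, ξ (ξ y) = y)
    (hξφ : ∀ y, ξ (φ y) = φ (φ (ξ y)))
    (hcop : (Nat.card Y).Coprime 6)
    (hfix : ∀ y, φ y = y → ξ y = y → y = 1)
    (Z : Subgroup Y) (hZc : ∀ z ∈ Z, ∀ g : Y, z * g = g * z)
    (hZφ : ∀ z ∈ Z, φ z ∈ Z) (hZξ : ∀ z ∈ Z, ξ z ∈ Z)
    {y : Y} (h1 : y⁻¹ * φ y ∈ Z) (h2 : y⁻¹ * ξ y ∈ Z) : y ∈ Z := by
  have : Z.Normal := ⟨fun z hz g => by rw [← hZc z hz g, mul_inv_cancel_right]; exact hz⟩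
  have hπ : ∀ u v : Y, (QuotientGroup.mk' Z) u = (QuotientGroup.mk' Z) v ↔ u⁻¹ * v ∈ Z :=
    fun u v => QuotientGroup.eq
  have hπ1 : ∀ z ∈ Z, (QuotientGroup.mk' Z) z = 1 := fun z hz =>
    (QuotientGroup.eq_one_iff z).mpr hz
  -- invariance of the class of `y`
  have hQφ : ∀ u : Y, (QuotientGroup.mk' Z) u = (QuotientGroup.mk' Z) y →
      (QuotientGroup.mk' Z) (φ u) = (QuotientGroup.mk' Z) y := by
    intro u hu
    have hz : y⁻¹ * u ∈ Z := (hπ y u).mp hu.symm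
    have e : φ u = φ y * φ (y⁻¹ * u) := by rw [← map_mul, mul_inv_cancel_left]
    rw [e, map_mul, hπ1 _ (hZφ _ hz), mul_one]
    exact ((hπ y (φ y)).mpr h1).symm
  have hQξ : ∀ u : Y, (QuotientGroup.mk' Z) u = (QuotientGroup.mk' Z) y →
      (QuotientGroup.mk' Z) (ξ u) = (QuotientGroup.mk' Z) y := by
    intro u hu
    have hz : y⁻¹ * u ∈ Z := (hπ y u).mp hu.symm
    have e : ξ u = ξ y * ξ (y⁻¹ * u) := by rw [← map_mul, mul_inv_cancel_left]
    rw [e, map_mul, hπ1 _ (hZξ _ hz), mul_one]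
    exact ((hπ y (ξ y)).mpr h2).symm
  have C : ∀ u v : Y, (QuotientGroup.mk' Z) u = (QuotientGroup.mk' Z) y →
      (QuotientGroup.mk' Z) v = (QuotientGroup.mk' Z) y → Commute u v := by
    intro u v hu hv
    have hw : u⁻¹ * v ∈ Z := (hπ u v).mp (hu.trans hv.symm)
    have e : v = u * (u⁻¹ * v) := by rw [mul_inv_cancel_left]
    change u * v = v * u
    rw [e, mul_assoc u (u⁻¹ * v) u, hZc _ hw u]
  -- the six elements
  have q0 : (QuotientGroup.mk' Z) y = (QuotientGroup.mk' Z) y := rfl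
  have q1 := hQφ _ q0
  have q2 := hQφ _ q1
  have r0 := hQξ _ q0
  have r1 := hQφ _ r0
  have r2 := hQφ _ r1
  set u₁ := φ y with hu₁
  set u₂ := φ (φ y) with hu₂
  set w₀ := ξ y with hw₀
  set w₁ := φ (ξ y) with hw₁
  set w₂ := φ (φ (ξ y)) with hw₂
  have hP : y * u₁ * u₂ * (w₀ * w₁ * w₂) = 1 := by
    apply hfix
    · -- φ-invariance
      rw [map_mul, map_mul, map_mul, map_mul, map_mul]
      have e1 : φ u₂ = y := hφ y
      have e2 : φ w₂ = w₀ := hφ (ξ y)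
      have e3 : φ y = u₁ := rfl
      have e4 : φ u₁ = u₂ := rfl
      have e5 : φ w₀ = w₁ := rfl
      have e6 : φ w₁ = w₂ := rfl
      rw [e1, e2, e3, e4, e5, e6]
      have c1 : u₁ * u₂ * y = y * u₁ * u₂ := by
        rw [((C u₁ y q1 q0).mul_left (C u₂ y q2 q0)).eq, mul_assoc]
      have c2 : w₁ * w₂ * w₀ = w₀ * w₁ * w₂ := by
        rw [((C w₁ w₀ r1 r0).mul_left (C w₂ w₀ r2 r0)).eq, mul_assoc]
      rw [c1, c2]
    · -- ξ-invariance
      rw [map_mul, map_mul, map_mul, map_mul, map_mul]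
      have e0 : ξ y = w₀ := rfl
      have e1 : ξ u₁ = w₂ := hξφ y
      have e2 : ξ u₂ = w₁ := by
        rw [hu₂, hξφ (φ y), hξφ y, hφ (φ (ξ y))]
      have e3 : ξ w₀ = y := hξ y
      have e4 : ξ w₁ = u₂ := by
        rw [hw₁, hξφ (ξ y), hξ y]
      have e5 : ξ w₂ = u₁ := by
        rw [hw₂, hξφ (φ (ξ y)), hξφ (ξ y), hξ y, hφ (φ y)]
      rw [e0, e1, e2, e3, e4, e5]
      have c1 : w₀ * w₂ * w₁ = w₀ * w₁ * w₂ := by
        rw [mul_assoc, (C w₂ w₁ r2 r1).eq, ← mul_assoc]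
      have c2 : y * u₂ * u₁ = y * u₁ * u₂ := by
        rw [mul_assoc, (C u₂ u₁ q2 q1).eq, ← mul_assoc]
      rw [c1, c2]
      have cw : ∀ w : Y, (QuotientGroup.mk' Z) w = (QuotientGroup.mk' Z) y →
          Commute w (y * u₁ * u₂) := fun w hw =>
        ((C w y hw q0).mul_right (C w u₁ hw q1)).mul_right (C w u₂ hw q2)
      exact (((cw w₀ r0).mul_left (cw w₁ r1)).mul_left (cw w₂ r2)).eq
  have h6 : (QuotientGroup.mk' Z) (y ^ 6) = 1 := by
    have := congrArg (QuotientGroup.mk' Z) hP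
    rw [map_mul, map_mul, map_mul, map_mul, map_mul, q1, q2, r0, r1, r2, map_one] at this
    rw [map_pow]
    rw [← this]
    simp only [pow_succ, pow_zero, one_mul, mul_assoc]
  have h7 : y ^ 6 ∈ Z := (QuotientGroup.eq_one_iff _).mp h6
  exact mem_of_pow_mem Z hcop h7

end Cfsg.Agent.Lib.Helper13.S3Cl2
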