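import Mathlib
import Cfsg.Agent.Lib.Helper13.S3Cl2A

/-!
# Fixed-point-free action of `S₃`: `R' ≤ [R, x]` (piece P1 of helper1's plan for S4305), part B

The case of groups of class at most two.
-/

set_option autoImplicit false

namespace Cfsg.Agent.Lib.Helper13.S3Cl2

open scoped commutatorElement
open scoped IsMulCommutative

variable {Y : Type*} [Group Y]

theorem exists_sqrt_of_odd {q : Y} (hodd : Odd (orderOf q)) :
    ∃ k : ℕ, q ^ k * q ^ k = q := by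
  obtain ⟨m, hm⟩ := hodd
  refine ⟨m + 1, ?_⟩
  rw [← pow_add]
  have : m + 1 + (m + 1) = orderOf q + 1 := by omega
  rw [this, pow_succ, pow_orderOf_eq_one, one_mul]

/-- a pure identity in commutative groups -/
theorem comm_identity {C : Type*} [CommGroup C] (c00 c01 c02 c11 c12 c21 c22 : C)
    (E2 : c01 * c11 * c21 = 1) (E3 : c02 * c12 * c22 = 1) (E4 : c00 * c01 * c02 = 1)
    (E7 : c00 * c11 * c22 = 1) :
    c11 * c12⁻¹ * (c21⁻¹ * c22) * (c00 * c00 * c00) = 1 := by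
  have h21 : c21⁻¹ = c01 * c11 := by
    rw [inv_eq_iff_eq_inv]
    exact eq_inv_of_mul_eq_one_right E2
  have h12 : c12⁻¹ = c02 * c22 := by
    rw [inv_eq_iff_eq_inv, eq_inv_iff_mul_eq_one]
    rw [← E3]
    ac_rfl
  rw [h21, h12]
  have : c11 * (c02 * c22) * (c01 * c11 * c22) * (c00 * c00 * c00) =
      (c00 * c11 * c22) * (c00 * c11 * c22) * (c00 * c01 * c02) := by ac_rfl
  rw [this, E7, E4]
  simp

section

variable [Finite Y] (φ ξ : Y ≃* Y)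
  (hcl : ∀ a b c : Y, ⁅a, b⁆ * c = c * ⁅a, b⁆)
  (hφ : ∀ y, φ (φ (φ y)) = y) (hξ : ∀ y, ξ (ξ y) = y)
  (hξφ : ∀ y, ξ (φ y) = φ (φ (ξ y)))
  (hcop : (Nat.card Y).Coprime 6)
  (hfix : ∀ y, φ y = y → ξ y = y → y = 1)
  (N : Subgroup Y) [N.Normal] (hN : ∀ u : Y, u⁻¹ * ξ u ∈ N)

include hξ hcop hN in
theorem exists_fixed_mul (u : Y) : ∃ c v : Y, ξ c = c ∧ v ∈ N ∧ u = c * v := by
  set w := u⁻¹ * ξ u with hw
  have hwN : w ∈ N := hN u
  have hξw : ξ w = w⁻¹ := by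
    rw [hw, map_mul, map_inv, hξ, mul_inv_rev, inv_inv]
  have hodd : Odd (orderOf w) := by
    have h1 : orderOf w ∣ Nat.card Y := orderOf_dvd_natCard w
    have h2 : (Nat.card Y).Coprime 2 := coprime_two_of_six hcop
    exact (Nat.Coprime.coprime_dvd_left h1 h2).odd_of_right
  obtain ⟨k, hk⟩ := exists_sqrt_of_odd hodd
  have hξv : ξ (w ^ k) = (w ^ k)⁻¹ := by rw [map_pow, hξw, inv_pow]
  have hξu : ξ u = u * w := by rw [hw, mul_inv_cancel_left]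
  refine ⟨u * w ^ k, (w ^ k)⁻¹, ?_, N.inv_mem (N.pow_mem hwN k), ?_⟩
  · rw [map_mul, hξv, hξu]
    calc u * w * (w ^ k)⁻¹ = u * (w ^ k * w ^ k) * (w ^ k)⁻¹ := by rw [hk]
      _ = u * w ^ k := by group
  · group

include hcl hξ hcop hN in
theorem comm_mem_of_fixed (H : ∀ a b : Y, ξ a = a → ξ b = b → ⁅a, b⁆ ∈ N) (u u' : Y) :
    ⁅u, u'⁆ ∈ N := by
  obtain ⟨c, v, hc, hv, rfl⟩ := exists_fixed_mul ξ hξ hcop N hN u
  obtain ⟨c', v', hc', hv', rfl⟩ := exists_fixed_mul ξ hξ hcop N hN u'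
  rw [comm_mul_left hcl, comm_mul_right hcl, comm_mul_right hcl]
  have h1 : ⁅c, v'⁆ ∈ N := by
    rw [commutatorElement_def]
    exact N.mul_mem (Subgroup.Normal.conj_mem inferInstance v' hv' c) (N.inv_mem hv')
  have h2 : ⁅v, c'⁆ ∈ N := by
    rw [commutatorElement_def, mul_assoc, mul_assoc]
    refine N.mul_mem hv ?_
    rw [← mul_assoc]
    exact Subgroup.Normal.conj_mem inferInstance v⁻¹ (N.inv_mem hv) c'
  have h3 : ⁅v, v'⁆ ∈ N := by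
    rw [commutatorElement_def]
    exact N.mul_mem (N.mul_mem (N.mul_mem hv hv') (N.inv_mem hv)) (N.inv_mem hv')
  exact N.mul_mem (N.mul_mem (H c c' hc hc') h1) (N.mul_mem h2 h3)

include hφ hξφ in
theorem xi_phi_phi (y : Y) : ξ (φ (φ y)) = φ (ξ y) := by
  rw [hξφ (φ y), hξφ y, hφ (φ (ξ y))]

include hcl in
theorem comm_mem_center (a b : Y) : ⁅a, b⁆ ∈ Subgroup.center Y := by
  rw [Subgroup.mem_center_iff]
  intro g
  exact (hcl a b g).symm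

omit [Finite Y] in
theorem map_mem_center (θ : Y ≃* Y) {z : Y} (hz : z ∈ Subgroup.center Y) :
    θ z ∈ Subgroup.center Y := by
  rw [Subgroup.mem_center_iff] at hz ⊢
  intro g
  have h1 := hz (θ.symm g)
  have h2 := congrArg θ h1
  rwa [map_mul, map_mul, MulEquiv.apply_symm_apply] at h2

include hcl hφ hξ hξφ hcop hfix in
/-- for `a` fixed by `ξ`, the product `a · φ a · φ² a` is central -/
theorem norm_mem_center {a : Y} (ha : ξ a = a) : a * φ a * φ (φ a) ∈ Subgroup.center Y := by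
  apply central_fixed_lift φ ξ hφ hξ hξφ hcop hfix (Subgroup.center Y)
    (fun z hz g => ((Subgroup.mem_center_iff.mp hz) g).symm)
    (fun z hz => map_mem_center φ hz) (fun z hz => map_mem_center ξ hz)
  · rw [map_mul, map_mul, hφ a]
    have e : (a * φ a * φ (φ a))⁻¹ * (φ a * φ (φ a) * a) = ⁅(a * φ a * φ (φ a))⁻¹, a⁻¹⁆ := by
      simp only [commutatorElement_def]; group
    rw [e]
    exact comm_mem_center hcl _ _
  · rw [map_mul, map_mul, ha, hξφ a, ha, xi_phi_phi φ ξ hφ hξφ a, ha]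
    have e : (a * φ a * φ (φ a))⁻¹ * (a * φ (φ a) * φ a) = ⁅(φ (φ a))⁻¹, (φ a)⁻¹⁆ := by
      simp only [commutatorElement_def]; group
    rw [e]
    exact comm_mem_center hcl _ _

include hcl hφ hξ hξφ hcop hfix in
theorem rel_left {a : Y} (ha : ξ a = a) (g : Y) : ⁅a, g⁆ * ⁅φ a, g⁆ * ⁅φ (φ a), g⁆ = 1 := by
  rw [← comm_mul_left hcl, ← comm_mul_left hcl, commutatorElement_eq_one_iff_mul_comm]
  exact ((Subgroup.mem_center_iff.mp (norm_mem_center φ ξ hcl hφ hξ hξφ hcop hfix ha)) g).symm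

include hcl hφ hξ hξφ hcop hfix in
theorem rel_right {b : Y} (hb : ξ b = b) (g : Y) : ⁅g, b⁆ * ⁅g, φ b⁆ * ⁅g, φ (φ b)⁆ = 1 := by
  rw [← comm_mul_right hcl, ← comm_mul_right hcl, commutatorElement_eq_one_iff_mul_comm]
  exact (Subgroup.mem_center_iff.mp (norm_mem_center φ ξ hcl hφ hξ hξφ hcop hfix hb)) g

include hcl hφ hξφ hfix in
theorem rel_diag {a b : Y} (ha : ξ a = a) (hb : ξ b = b) :
    ⁅a, b⁆ * ⁅φ a, φ b⁆ * ⁅φ (φ a), φ (φ b)⁆ = 1 := by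
  apply hfix
  · rw [map_mul, map_mul, map_commutatorElement, map_commutatorElement, map_commutatorElement,
      hφ a, hφ b]
    rw [← hcl a b (⁅φ a, φ b⁆ * ⁅φ (φ a), φ (φ b)⁆), mul_assoc]
  · rw [map_mul, map_mul, map_commutatorElement, map_commutatorElement, map_commutatorElement,
      ha, hb, hξφ a, hξφ b, ha, hb, xi_phi_phi φ ξ hφ hξφ a, xi_phi_phi φ ξ hφ hξφ b, ha, hb]
    rw [mul_assoc, hcl (φ (φ a)) (φ (φ b)), ← mul_assoc]

include hcl hφ hξ hξφ hcop hfix hN in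
theorem comm_mem_fixed {a b : Y} (ha : ξ a = a) (hb : ξ b = b) : ⁅a, b⁆ ∈ N := by
  -- α := φ a * (φ² a)⁻¹ ∈ N
  have hαβ : ∀ c : Y, ξ c = c → φ c * (φ (φ c))⁻¹ ∈ N := by
    intro c hc
    have h1 := hN (φ c * (φ (φ c))⁻¹)
    rw [map_mul, map_inv, hξφ c, hc, xi_phi_phi φ ξ hφ hξφ c, hc] at h1
    have e : (φ c * (φ (φ c))⁻¹)⁻¹ * (φ (φ c) * (φ c)⁻¹) = ((φ c * (φ (φ c))⁻¹)⁻¹) ^ 2 := by
      rw [pow_two, mul_inv_rev, inv_inv]
    rw [e] at h1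
    have h2 := mem_of_pow_mem N (coprime_two_of_six hcop) h1
    have h3 := N.inv_mem h2
    rwa [inv_inv] at h3
  have hα := hαβ a ha
  have hβ := hαβ b hb
  have hcomm : ⁅φ a * (φ (φ a))⁻¹, φ b * (φ (φ b))⁻¹⁆ ∈ N := by
    rw [commutatorElement_def]
    exact N.mul_mem (N.mul_mem (N.mul_mem hα hβ) (N.inv_mem hα)) (N.inv_mem hβ)
  rw [comm_mul_left hcl, comm_mul_right hcl, comm_mul_right hcl, comm_inv_right hcl,
    comm_inv_left hcl, comm_inv_left hcl, comm_inv_right hcl] at hcomm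
  -- the relations, in the centre
  have E2 := rel_left φ ξ hcl hφ hξ hξφ hcop hfix ha (φ b)
  have E3 := rel_left φ ξ hcl hφ hξ hξφ hcop hfix ha (φ (φ b))
  have E4 := rel_right φ ξ hcl hφ hξ hξφ hcop hfix hb a
  have E7 := rel_diag φ ξ hcl hφ hξφ hfix ha hb
  have key := comm_identity
    (⟨⁅a, b⁆, comm_mem_center hcl _ _⟩ : Subgroup.center Y)
    ⟨⁅a, φ b⁆, comm_mem_center hcl _ _⟩ ⟨⁅a, φ (φ b)⁆, comm_mem_center hcl _ _⟩
    ⟨⁅φ a, φ b⁆, comm_mem_center hcl _ _⟩ ⟨⁅φ a, φ (φ b)⁆, comm_mem_center hcl _ _⟩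
    ⟨⁅φ (φ a), φ b⁆, comm_mem_center hcl _ _⟩ ⟨⁅φ (φ a), φ (φ b)⁆, comm_mem_center hcl _ _⟩
    (by apply Subtype.ext; exact E2) (by apply Subtype.ext; exact E3)
    (by apply Subtype.ext; exact E4) (by apply Subtype.ext; exact E7)
  have key' : ⁅φ a, φ b⁆ * ⁅φ a, φ (φ b)⁆⁻¹ * (⁅φ (φ a), φ b⁆⁻¹ * ⁅φ (φ a), φ (φ b)⁆) *
      (⁅a, b⁆ * ⁅a, b⁆ * ⁅a, b⁆) = 1 := congrArg Subtype.val key
  rw [inv_inv] at hcomm
  -- so `⁅a, b⁆ ^ 3 ∈ N`
  have h3 : ⁅a, b⁆ ^ 3 ∈ N := by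
    have e : ⁅a, b⁆ ^ 3 = (⁅φ a, φ b⁆ * ⁅φ a, φ (φ b)⁆⁻¹ *
        (⁅φ (φ a), φ b⁆⁻¹ * ⁅φ (φ a), φ (φ b)⁆))⁻¹ := by
      rw [pow_succ, pow_succ, pow_one]
      exact eq_inv_of_mul_eq_one_right key'
    rw [e]
    exact N.inv_mem hcomm
  exact mem_of_pow_mem N (coprime_three_of_six hcop) h3

include hcl hφ hξ hξφ hcop hfix hN in
/-- the class two case -/
theorem class_two_core (u u' : Y) : ⁅u, u'⁆ ∈ N :=
  comm_mem_of_fixed ξ hcl hξ hcop N hN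
    (fun _ _ ha hb => comm_mem_fixed φ ξ hcl hφ hξ hξφ hcop hfix N hN ha hb) u u'

end

end Cfsg.Agent.Lib.Helper13.S3Cl2
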