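import Mathlib
import Cfsg.Agent.Lib.Helper13.S3Cl2B

/-!
# Fixed-point-free action of `S₃`: `R' ≤ [R, x]` (piece P1 of helper1's plan for S4305), part C

Induction on the order through central quotients: the statement for nilpotent groups, in the
form with two automorphisms of a group.
-/

set_option autoImplicit false

universe u

namespace Cfsg.Agent.Lib.Helper13.S3Cl2

open scoped commutatorElement

/-- the hypotheses on the pair of automorphisms -/
structure S3Act {Y : Type*} [Group Y] (φ ξ : Y ≃* Y) : Prop where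
  hφ : ∀ y, φ (φ (φ y)) = y
  hξ : ∀ y, ξ (ξ y) = y
  hξφ : ∀ y, ξ (φ y) = φ (φ (ξ y))
  hfix : ∀ y, φ y = y → ξ y = y → y = 1

section Quot

variable {Y : Type*} [Group Y] [Finite Y] (φ ξ : Y ≃* Y) (hA : S3Act φ ξ)
  (hcop : (Nat.card Y).Coprime 6)
  (Z : Subgroup Y) [Z.Normal] (hZc : ∀ z ∈ Z, ∀ g : Y, z * g = g * z)
  (hZφ : Z.map (φ : Y →* Y) = Z) (hZξ : Z.map (ξ : Y →* Y) = Z)

include hA hcop hZc in
/-- the induced action on a central quotient is again fixed point free -/
theorem s3Act_quotient :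
    S3Act (QuotientGroup.congr Z Z φ hZφ) (QuotientGroup.congr Z Z ξ hZξ) := by
  refine ⟨?_, ?_, ?_, ?_⟩
  · intro y
    induction y using QuotientGroup.induction_on with
    | H y => simp only [QuotientGroup.congr_mk, hA.hφ y]
  · intro y
    induction y using QuotientGroup.induction_on with
    | H y => simp only [QuotientGroup.congr_mk, hA.hξ y]
  · intro y
    induction y using QuotientGroup.induction_on with
    | H y => simp only [QuotientGroup.congr_mk, hA.hξφ y]
  · intro y
    induction y using QuotientGroup.induction_on with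
    | H y =>
      intro h1 h2
      simp only [QuotientGroup.congr_mk] at h1 h2
      have h1' : y⁻¹ * φ y ∈ Z := QuotientGroup.eq.mp h1.symm
      have h2' : y⁻¹ * ξ y ∈ Z := QuotientGroup.eq.mp h2.symm
      have hZφ' : ∀ z ∈ Z, φ z ∈ Z := by
        intro z hz
        rw [← hZφ]
        exact Subgroup.mem_map_of_mem _ hz
      have hZξ' : ∀ z ∈ Z, ξ z ∈ Z := by
        intro z hz
        rw [← hZξ]
        exact Subgroup.mem_map_of_mem _ hz
      have := central_fixed_lift φ ξ hA.hφ hA.hξ hA.hξφ hcop hA.hfix Z hZc hZφ' hZξ' h1' h2'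
      exact (QuotientGroup.eq_one_iff y).mpr this

end Quot

/-- commutators of a group of class at most two are central -/
theorem central_of_lcs_two {Y : Type*} [Group Y]
    (h2 : (⊤ : Subgroup Y).lowerCentralSeries 2 = ⊥) (a b c : Y) : ⁅a, b⁆ * c = c * ⁅a, b⁆ := by
  have h : ⁅⁅a, b⁆, c⁆ ∈ (⊤ : Subgroup Y).lowerCentralSeries 2 :=
    Subgroup.commutator_mem_commutator
      (Subgroup.commutator_mem_commutator (Subgroup.mem_top a) (Subgroup.mem_top b))
      (Subgroup.mem_top c)
  rw [h2, Subgroup.mem_bot, commutatorElement_eq_one_iff_mul_comm] at h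
  exact h

/-- if `N` is normal, `Z` central, and every commutator lies in `N Z`, then `γ₃ ≤ N` -/
theorem lcs_two_le {Y : Type*} [Group Y] (N : Subgroup Y) [N.Normal] (Z : Subgroup Y)
    (hZc : ∀ z ∈ Z, ∀ g : Y, z * g = g * z)
    (h : ∀ a b : Y, ∃ n ∈ N, ∃ z ∈ Z, ⁅a, b⁆ = n * z) :
    (⊤ : Subgroup Y).lowerCentralSeries 2 ≤ N := by
  have key : ∀ p ∈ (⊤ : Subgroup Y).lowerCentralSeries 1, ∀ g : Y, ⁅p, g⁆ ∈ N := by
    intro p hp
    change p ∈ ⁅(⊤ : Subgroup Y), (⊤ : Subgroup Y)⁆ at hp
    rw [Subgroup.commutator_def] at hp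
    induction hp using Subgroup.closure_induction with
    | mem x hx =>
      obtain ⟨a, -, b, -, rfl⟩ := hx
      intro g
      obtain ⟨n, hn, z, hz, e⟩ := h a b
      rw [e]
      have e2 : ⁅n * z, g⁆ = n * ⁅z, g⁆ * n⁻¹ * ⁅n, g⁆ := by
        simp only [commutatorElement_def]; group
      have e3 : ⁅z, g⁆ = 1 := by
        rw [commutatorElement_eq_one_iff_mul_comm]
        exact hZc z hz g
      rw [e2, e3, mul_one, mul_inv_cancel, one_mul, commutatorElement_def, mul_assoc, mul_assoc]
      refine N.mul_mem hn ?_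
      rw [← mul_assoc]
      exact Subgroup.Normal.conj_mem inferInstance n⁻¹ (N.inv_mem hn) g
    | one =>
      intro g
      rw [commutatorElement_one_left]
      exact N.one_mem
    | mul x y _ _ hx hy =>
      intro g
      have e : ⁅x * y, g⁆ = x * ⁅y, g⁆ * x⁻¹ * ⁅x, g⁆ := by
        simp only [commutatorElement_def]; group
      rw [e]
      exact N.mul_mem (Subgroup.Normal.conj_mem inferInstance _ (hy g) x) (hx g)
    | inv x _ hx =>
      intro g
      have e : ⁅x⁻¹, g⁆ = x⁻¹ * (⁅x, g⁆)⁻¹ * x⁻¹⁻¹ := by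
        simp only [commutatorElement_def]; group
      rw [e]
      exact Subgroup.Normal.conj_mem inferInstance _ (N.inv_mem (hx g)) x⁻¹
  change ⁅(⊤ : Subgroup Y).lowerCentralSeries 1, (⊤ : Subgroup Y)⁆ ≤ N
  rw [Subgroup.commutator_le]
  intro p hp g _
  exact key p hp g

theorem nilpotent_aux (n : ℕ) : ∀ (Y : Type u) [Group Y] [Finite Y], Nat.card Y = n →
    Group.IsNilpotent Y → ∀ (φ ξ : Y ≃* Y), S3Act φ ξ → (Nat.card Y).Coprime 6 →
    ∀ (N : Subgroup Y) [N.Normal], (∀ u : Y, u⁻¹ * ξ u ∈ N) → ∀ a b : Y, ⁅a, b⁆ ∈ N := by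
  induction n using Nat.strong_induction_on with
  | _ n ih =>
    intro Y _ _ hcard hnil φ ξ hA hcop N _ hN
    by_cases h2 : (⊤ : Subgroup Y).lowerCentralSeries 2 = ⊥
    · exact class_two_core φ ξ (central_of_lcs_two h2) hA.hφ hA.hξ hA.hξφ hcop hA.hfix N hN
    · have hex : ∃ m, (⊤ : Subgroup Y).lowerCentralSeries m = ⊥ :=
        Subgroup.nilpotent_iff_lowerCentralSeries.mp hnil
      classical
      have hc := Nat.find_spec hex
      have hmin := fun m (hm : m < Nat.find hex) => Nat.find_min hex hm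
      have hc3 : 3 ≤ Nat.find hex := by
        by_contra hlt
        push_neg at hlt
        apply h2
        have := (⊤ : Subgroup Y).lowerCentralSeries_antitone (show Nat.find hex ≤ 2 by omega)
        rw [hc] at this
        exact le_bot_iff.mp this
      obtain ⟨k, hk⟩ : ∃ k, Nat.find hex = k + 1 := ⟨Nat.find hex - 1, by omega⟩
      have hk2 : 2 ≤ k := by omega
      have hZne : (⊤ : Subgroup Y).lowerCentralSeries k ≠ ⊥ := hmin k (by omega)
      have hZbot : ⁅(⊤ : Subgroup Y).lowerCentralSeries k, (⊤ : Subgroup Y)⁆ = ⊥ := by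
        rw [hk] at hc
        exact hc
      have hZc : ∀ z ∈ (⊤ : Subgroup Y).lowerCentralSeries k, ∀ g : Y, z * g = g * z := by
        intro z hz g
        have : ⁅z, g⁆ ∈ ⁅(⊤ : Subgroup Y).lowerCentralSeries k, (⊤ : Subgroup Y)⁆ :=
          Subgroup.commutator_mem_commutator hz (Subgroup.mem_top g)
        rw [hZbot, Subgroup.mem_bot, commutatorElement_eq_one_iff_mul_comm] at this
        exact this
      have hZle : (⊤ : Subgroup Y).lowerCentralSeries k ≤ (⊤ : Subgroup Y).lowerCentralSeries 2 :=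
        (⊤ : Subgroup Y).lowerCentralSeries_antitone hk2
      have hchar : ((⊤ : Subgroup Y).lowerCentralSeries k).Characteristic := inferInstance
      have hZφ : ((⊤ : Subgroup Y).lowerCentralSeries k).map (φ : Y →* Y) =
          (⊤ : Subgroup Y).lowerCentralSeries k :=
        (Subgroup.characteristic_iff_map_eq.mp hchar) φ
      have hZξ : ((⊤ : Subgroup Y).lowerCentralSeries k).map (ξ : Y →* Y) =
          (⊤ : Subgroup Y).lowerCentralSeries k :=
        (Subgroup.characteristic_iff_map_eq.mp hchar) ξ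
      -- the quotient
      have hA' := s3Act_quotient φ ξ hA hcop _ hZc hZφ hZξ
      have hcard' : Nat.card (Y ⧸ (⊤ : Subgroup Y).lowerCentralSeries k) < n := by
        have h1 := Subgroup.card_eq_card_quotient_mul_card_subgroup
          ((⊤ : Subgroup Y).lowerCentralSeries k)
        have h3 : 1 < Nat.card ((⊤ : Subgroup Y).lowerCentralSeries k) :=
          (Subgroup.one_lt_card_iff_ne_bot _).mpr hZne
        have h4 : 0 < Nat.card (Y ⧸ (⊤ : Subgroup Y).lowerCentralSeries k) := Nat.card_pos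
        rw [← hcard, h1]
        nlinarith
      have hcop' : (Nat.card (Y ⧸ (⊤ : Subgroup Y).lowerCentralSeries k)).Coprime 6 :=
        Nat.Coprime.coprime_dvd_left (Subgroup.card_quotient_dvd_card _) hcop
      have hNbar : ∀ u : Y ⧸ (⊤ : Subgroup Y).lowerCentralSeries k,
          u⁻¹ * (QuotientGroup.congr _ _ ξ hZξ) u ∈
            N.map (QuotientGroup.mk' ((⊤ : Subgroup Y).lowerCentralSeries k)) := by
        intro u
        induction u using QuotientGroup.induction_on with
        | H u =>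
          rw [QuotientGroup.congr_mk]
          exact ⟨u⁻¹ * ξ u, hN u, rfl⟩
      haveI : (N.map (QuotientGroup.mk' ((⊤ : Subgroup Y).lowerCentralSeries k))).Normal :=
        Subgroup.Normal.map inferInstance _ (QuotientGroup.mk'_surjective _)
      have hres := ih _ hcard' (Y ⧸ (⊤ : Subgroup Y).lowerCentralSeries k) rfl inferInstance
        _ _ hA' hcop' (N.map (QuotientGroup.mk' ((⊤ : Subgroup Y).lowerCentralSeries k))) hNbar
      -- pull back
      have hpull : ∀ a b : Y, ∃ n ∈ N, ∃ z ∈ (⊤ : Subgroup Y).lowerCentralSeries k,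
          ⁅a, b⁆ = n * z := by
        intro a b
        have h1 := hres (QuotientGroup.mk a) (QuotientGroup.mk b)
        obtain ⟨m, hm, hmab⟩ := h1
        have h3 : (QuotientGroup.mk' ((⊤ : Subgroup Y).lowerCentralSeries k)) m =
            (QuotientGroup.mk' ((⊤ : Subgroup Y).lowerCentralSeries k)) ⁅a, b⁆ := by
          rw [hmab, map_commutatorElement]
          rfl
        have h4 : m⁻¹ * ⁅a, b⁆ ∈ (⊤ : Subgroup Y).lowerCentralSeries k := QuotientGroup.eq.mp h3
        exact ⟨m, hm, m⁻¹ * ⁅a, b⁆, h4, by rw [mul_inv_cancel_left]⟩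
      have hle := lcs_two_le N _ hZc hpull
      intro a b
      obtain ⟨m, hm, z, hz, e⟩ := hpull a b
      rw [e]
      exact N.mul_mem hm (hle (hZle hz))

/-- **Type form.** A nilpotent group `Y` of order prime to `6` with automorphisms `φ`, `ξ`
(`φ³ = ξ² = 1`, `ξ φ = φ⁻¹ ξ`) without common nontrivial fixed point: every commutator lies in any
normal subgroup containing all `u⁻¹ ξ(u)`. -/
theorem nilpotent_comm_mem {Y : Type u} [Group Y] [Finite Y] (hnil : Group.IsNilpotent Y)
    (φ ξ : Y ≃* Y) (hA : S3Act φ ξ) (hcop : (Nat.card Y).Coprime 6)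
    (N : Subgroup Y) [N.Normal] (hN : ∀ u : Y, u⁻¹ * ξ u ∈ N) (a b : Y) : ⁅a, b⁆ ∈ N :=
  nilpotent_aux (Nat.card Y) Y rfl hnil φ ξ hA hcop N hN a b

end Cfsg.Agent.Lib.Helper13.S3Cl2
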