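import Mathlib
import Cfsg.Agent.Lib.Helper13.S3Cl2C

/-!
# Fixed-point-free action of `S₃`: `R' ≤ [R, x]` (piece P1 of helper1's plan for S4305), part D

The ambient form `s3_class_two`, with the exact statement of `Lib/Helper1/FrobPQ/PLAN.md`.
-/

set_option autoImplicit false

namespace Cfsg.Agent.Lib.Helper13.S3Cl2

open scoped commutatorElement

variable {G : Type*} [Group G]

/-- conjugation by an element of the normalizer, as an automorphism of the subgroup -/
def conjEquiv (R : Subgroup G) (a : G) (ha : a ∈ Subgroup.normalizer (R : Set G)) : R ≃* R where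
  toFun k := ⟨a * k * a⁻¹, (Subgroup.mem_normalizer_iff.mp ha k).mp k.2⟩
  invFun k := ⟨a⁻¹ * k * a, (Subgroup.mem_normalizer_iff''.mp ha k).mp k.2⟩
  left_inv k := by apply Subtype.ext; simp only; group
  right_inv k := by apply Subtype.ext; simp only; group
  map_mul' k l := by apply Subtype.ext; simp only [Subgroup.coe_mul]; group

theorem conjEquiv_coe (R : Subgroup G) (a : G) (ha : a ∈ Subgroup.normalizer (R : Set G)) (k : R) :
    ((conjEquiv R a ha k : R) : G) = a * k * a⁻¹ := rfl

/-- `R` normalizes `⁅R, A⁆` -/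
theorem left_le_normalizer_comm (R A : Subgroup G) :
    R ≤ Subgroup.normalizer ((⁅R, A⁆ : Subgroup G) : Set G) := by
  rw [Subgroup.commutator_def, Subgroup.le_normalizer_closure_iff]
  rintro k' hk' g ⟨k, hk, a, ha, rfl⟩
  have e : k' * ⁅k, a⁆ * k'⁻¹ = ⁅k' * k, a⁆ * ⁅k', a⁆⁻¹ := by
    simp only [commutatorElement_def]; group
  rw [e, ← Subgroup.commutator_def]
  exact Subgroup.mul_mem _ (Subgroup.commutator_mem_commutator (R.mul_mem hk' hk) ha)
    (Subgroup.inv_mem _ (Subgroup.commutator_mem_commutator hk' ha))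

theorem s3_class_two [Finite G] (R : Subgroup G) (f x : G)
    (hfR : f ∈ Subgroup.normalizer (R : Set G)) (hxR : x ∈ Subgroup.normalizer (R : Set G))
    (hf : f ^ 3 = 1) (hx : x ^ 2 = 1) (hxf : x * f * x⁻¹ = f⁻¹)
    (hcop : (Nat.card R).Coprime 6) (hnil : Group.IsNilpotent R)
    (hfix : ∀ y ∈ R, f * y = y * f → x * y = y * x → y = 1) :
    ⁅R, R⁆ ≤ ⁅R, Subgroup.zpowers x⁆ := by
  have hfff : f * f * f = 1 := by rw [← hf, pow_succ, pow_succ, pow_one]
  have hxx : x * x = 1 := by rw [← hx, pow_two]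
  have hxf' : x * f = f * f * x := by
    have h1 : x * f = f⁻¹ * x := by
      have : x * f = (x * f * x⁻¹) * x := by group
      rw [this, hxf]
    have h2 : f⁻¹ = f * f := by
      rw [inv_eq_iff_mul_eq_one]
      rw [← hfff, mul_assoc]
    rw [h1, h2]
  have hA : S3Act (conjEquiv R f hfR) (conjEquiv R x hxR) := by
    refine ⟨?_, ?_, ?_, ?_⟩
    · intro y
      apply Subtype.ext
      simp only [conjEquiv_coe]
      have e : f * (f * (f * (y : G) * f⁻¹) * f⁻¹) * f⁻¹ = (f * f * f) * y * (f * f * f)⁻¹ := by group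
      rw [e, hfff, one_mul, inv_one, mul_one]
    · intro y
      apply Subtype.ext
      simp only [conjEquiv_coe]
      have e : x * (x * (y : G) * x⁻¹) * x⁻¹ = (x * x) * y * (x * x)⁻¹ := by group
      rw [e, hxx, one_mul, inv_one, mul_one]
    · intro y
      apply Subtype.ext
      simp only [conjEquiv_coe]
      have e1 : x * (f * (y : G) * f⁻¹) * x⁻¹ = (x * f) * y * (x * f)⁻¹ := by group
      have e2 : f * (f * (x * (y : G) * x⁻¹) * f⁻¹) * f⁻¹ = (f * f * x) * y * (f * f * x)⁻¹ := by
        group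
      rw [e1, e2, hxf']
    · intro y h1 h2
      have h1' : f * (y : G) * f⁻¹ = y := congrArg Subtype.val h1
      have h2' : x * (y : G) * x⁻¹ = y := congrArg Subtype.val h2
      apply Subtype.ext
      apply hfix y.1 y.2
      · conv_rhs => rw [← h1']
        group
      · conv_rhs => rw [← h2']
        group
  have hcomle : ⁅R, Subgroup.zpowers x⁆ ≤ R := by
    rw [← Subgroup.le_normalizer_iff_commutator_le_left, Subgroup.zpowers_le]
    exact hxR
  haveI : ((⁅R, Subgroup.zpowers x⁆ : Subgroup G).subgroupOf R).Normal :=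
    (Subgroup.normal_subgroupOf_iff_le_normalizer hcomle).mpr (left_le_normalizer_comm R _)
  have hN : ∀ u : R, u⁻¹ * (conjEquiv R x hxR) u ∈
      (⁅R, Subgroup.zpowers x⁆ : Subgroup G).subgroupOf R := by
    intro u
    rw [Subgroup.mem_subgroupOf]
    simp only [Subgroup.coe_mul, Subgroup.coe_inv, conjEquiv_coe]
    have e : (u : G)⁻¹ * (x * (u : G) * x⁻¹) = ⁅(u : G)⁻¹, x⁆ := by
      simp only [commutatorElement_def]; group
    rw [e]
    exact Subgroup.commutator_mem_commutator (R.inv_mem u.2) (Subgroup.mem_zpowers x)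
  have key := nilpotent_comm_mem hnil (conjEquiv R f hfR) (conjEquiv R x hxR) hA hcop _ hN
  rw [Subgroup.commutator_le]
  intro a ha b hb
  have := key ⟨a, ha⟩ ⟨b, hb⟩
  rw [Subgroup.mem_subgroupOf] at this
  exact this

end Cfsg.Agent.Lib.Helper13.S3Cl2
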