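import Mathlib
import Cfsg.Agent.Lib.helper15.S5972.Defs
import Cfsg.Agent.Lib.helper15.S5972STDO
import Cfsg.Agent.Lib.Helper11.S5955C1

/-!
# Project S5972 (designer helper15), row COUNT, core: the number of totally singular `m`-spaces of the
standard `(2d+1)`-space (`q` odd), with the statement of PERPCOUNT as a hypothesis.
Copy of the frame count of `Cfsg.Agent.S0775` / helper11's S5955 C1 for the symmetric form `stdO`.
-/

set_option autoImplicit false
set_option linter.unusedVariables false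

namespace Cfsg.Agent.Lib.helper15.S5972

open Polynomial Module Cfsg.Agent.Lib.Helper13.S5955

/-- the statement of PERPCOUNT -/
def S5972CountPerp (F : Type*) [Field F] [Fintype F] (d : ℕ) : Prop :=
  ∀ (j : ℕ), j ≤ d → ∀ (W : Submodule F (Unit ⊕ (Fin d ⊕ Fin d) → F)),
    Module.finrank F ↥W = j → (∀ w ∈ W, Cfsg.quadFormOdd d F w = 0) →
    Nat.card {v : Unit ⊕ (Fin d ⊕ Fin d) → F //
      Cfsg.quadFormOdd d F v = 0 ∧ ∀ w ∈ W, stdO d F w v = 0} = Fintype.card F ^ (2 * d - j)

/-- isotropic frames of `stdO` (= singular frames, `2 ≠ 0`) -/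
def s5972count_Fr (d : ℕ) (F : Type*) [Field F] (k : ℕ) :
    Set (Fin k → (Unit ⊕ (Fin d ⊕ Fin d) → F)) :=
  {f | LinearIndependent F f ∧ ∀ i j, stdO d F (f i) (f j) = 0}

theorem s5972count_two_ne {F : Type*} [Field F] [Fintype F] (hodd : Odd (Fintype.card F)) :
    (2 : F) ≠ 0 := by
  apply Ring.two_ne_zero
  intro h
  have := FiniteField.even_card_iff_char_two.mp h
  rcases hodd with ⟨k, hk⟩
  omega

/-- vectors orthogonal to the frame are orthogonal to its span -/
theorem s5972count_orth_span {F : Type*} [Field F] {d k : ℕ}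
    (s : Fin k → (Unit ⊕ (Fin d ⊕ Fin d) → F)) (w : Unit ⊕ (Fin d ⊕ Fin d) → F)
    (h : ∀ i, stdO d F (s i) w = 0) :
    ∀ u ∈ Submodule.span F (Set.range s), stdO d F u w = 0 := by
  intro u hu
  induction hu using Submodule.span_induction with
  | mem x hx =>
    obtain ⟨i, rfl⟩ := hx
    exact h i
  | zero => simp
  | add a b _ _ ha hb => rw [map_add, LinearMap.add_apply, ha, hb, add_zero]
  | smul c a _ ha => rw [map_smul, LinearMap.smul_apply, ha, smul_zero]

/-- the span of an isotropic frame is totally isotropic -/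
theorem s5972count_iso_span {F : Type*} [Field F] (h2 : (2 : F) ≠ 0) {d k : ℕ}
    (s : Fin k → (Unit ⊕ (Fin d ⊕ Fin d) → F)) (hs : ∀ i j, stdO d F (s i) (s j) = 0) :
    STI (stdO d F) (Submodule.span F (Set.range s)) := by
  obtain ⟨hsymm, -, -, -⟩ := stdO_facts (F := F) h2 d
  intro u hu v hv
  apply s5972count_orth_span s v _ u hu
  intro i
  rw [hsymm]
  exact s5972count_orth_span s (s i) (fun j => hs j i) v hv

/-- vectors extending an isotropic frame -/
def s5972count_Ext {F : Type*} [Field F] {d k : ℕ}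
    (s : Fin k → (Unit ⊕ (Fin d ⊕ Fin d) → F)) : Set (Unit ⊕ (Fin d ⊕ Fin d) → F) :=
  {w | (∀ i, stdO d F (s i) w = 0) ∧ stdO d F w w = 0 ∧ w ∉ Submodule.span F (Set.range s)}

/-- frames of length `k+1` are frames of length `k` with an extension vector -/
def s5972count_frEquiv {F : Type*} [Field F]
    (d k : ℕ) (hsymm : ∀ u v : Unit ⊕ (Fin d ⊕ Fin d) → F, stdO d F u v = stdO d F v u) :
    ↥(s5972count_Fr d F (k + 1)) ≃
      Σ s : ↥(s5972count_Fr d F k), ↥(s5972count_Ext (s : Fin k → (Unit ⊕ (Fin d ⊕ Fin d) → F))) where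
  toFun f := ⟨⟨Fin.tail f.1, (linearIndependent_finSucc.mp f.2.1).1, fun i j => f.2.2 _ _⟩,
    ⟨f.1 0, fun i => f.2.2 _ _, f.2.2 _ _, (linearIndependent_finSucc.mp f.2.1).2⟩⟩
  invFun x := ⟨Fin.cons x.2.1 x.1.1, linearIndependent_finCons.mpr ⟨x.1.2.1, x.2.2.2.2⟩, by
    intro i j
    refine Fin.cases ?_ (fun i' => ?_) i <;> refine Fin.cases ?_ (fun j' => ?_) j
    · simp only [Fin.cons_zero]; exact x.2.2.2.1
    · simp only [Fin.cons_zero, Fin.cons_succ]
      rw [hsymm]; exact x.2.2.1 j'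
    · simp only [Fin.cons_zero, Fin.cons_succ]
      exact x.2.2.1 i'
    · simp only [Fin.cons_succ]
      exact x.1.2.2 i' j'⟩
  left_inv f := by
    apply Subtype.ext
    simp only [Fin.cons_self_tail]
  right_inv := fun ⟨_, _⟩ => rfl


theorem s5972count_card_Ext {F : Type*} [Field F] [Fintype F] (h2 : (2 : F) ≠ 0) {d k : ℕ}
    (hk : k ≤ d) (hperp : S5972CountPerp F d)
    (s : Fin k → (Unit ⊕ (Fin d ⊕ Fin d) → F)) (hs : s ∈ s5972count_Fr d F k) :
    (s5972count_Ext s).ncard = Fintype.card F ^ (2 * d - k) - Fintype.card F ^ k := by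
  classical
  obtain ⟨hsymm, -, hself, hsti⟩ := stdO_facts (F := F) h2 d
  set W : Submodule F (Unit ⊕ (Fin d ⊕ Fin d) → F) := Submodule.span F (Set.range s) with hW
  have hU : Module.finrank F W = k := by
    rw [hW, finrank_span_eq_card hs.1, Fintype.card_fin]
  have hWti : STI (stdO d F) W := s5972count_iso_span h2 s hs.2
  have hWts : ∀ w ∈ W, Cfsg.quadFormOdd d F w = 0 := (hsti W).mp hWti
  set A : Set (Unit ⊕ (Fin d ⊕ Fin d) → F) :=
    {v | Cfsg.quadFormOdd d F v = 0 ∧ ∀ w ∈ W, stdO d F w v = 0} with hA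
  have hle : (W : Set (Unit ⊕ (Fin d ⊕ Fin d) → F)) ⊆ A := by
    intro x hx
    exact ⟨hWts x hx, fun w hw => hWti w hw x hx⟩
  have hset : s5972count_Ext s = A \ (W : Set (Unit ⊕ (Fin d ⊕ Fin d) → F)) := by
    ext w
    simp only [s5972count_Ext, hA, Set.mem_ofPred_eq, Set.mem_sdiff, SetLike.mem_coe]
    constructor
    · rintro ⟨h1, h3, h4⟩
      refine ⟨⟨?_, s5972count_orth_span s w h1⟩, h4⟩
      have := hself w
      rw [h3] at this
      rcases mul_eq_zero.mp this.symm with h | h
      · exact absurd h h2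
      · exact h
    · rintro ⟨⟨h1, h3⟩, h4⟩
      refine ⟨fun i => h3 _ (Submodule.subset_span ⟨i, rfl⟩), ?_, h4⟩
      rw [hself, h1, mul_zero]
  rw [hset, Set.ncard_sdiff hle (Set.toFinite _), ← Nat.card_coe_set_eq, ← Nat.card_coe_set_eq]
  have e1 : Nat.card ↥A = Fintype.card F ^ (2 * d - k) := hperp k hk W hU hWts
  have e2 : Nat.card ↥(W : Set (Unit ⊕ (Fin d ⊕ Fin d) → F)) = Fintype.card F ^ k := by
    rw [SetLike.coe_sort_coe, Nat.card_eq_fintype_card, Module.card_eq_pow_finrank (K := F), hU]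
  exact congrArg₂ (· - ·) e1 e2

theorem s5972count_card_Fr {F : Type*} [Field F] [Fintype F] (h2 : (2 : F) ≠ 0) (d : ℕ)
    (hperp : S5972CountPerp F d) (k : ℕ) (hk : k ≤ d) :
    (s5972count_Fr d F k).ncard =
      ∏ i ∈ Finset.range k, (Fintype.card F ^ (2 * d - i) - Fintype.card F ^ i) := by
  classical
  obtain ⟨hsymm, -, -, -⟩ := stdO_facts (F := F) h2 d
  induction k with
  | zero =>
    rw [Finset.prod_range_zero]
    have : s5972count_Fr d F 0 = {fun i => Fin.elim0 i} := by
      ext f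
      simp only [s5972count_Fr, Set.mem_ofPred_eq, Set.mem_singleton_iff]
      constructor
      · intro _; funext i; exact Fin.elim0 i
      · intro _
        exact ⟨linearIndependent_empty_type, fun i => Fin.elim0 i⟩
    rw [this, Set.ncard_singleton]
  | succ k ih =>
    rw [Finset.prod_range_succ, ← ih (by omega), ← Nat.card_coe_set_eq,
      Nat.card_congr (s5972count_frEquiv d k hsymm), Nat.card_sigma]
    have : ∀ s : ↥(s5972count_Fr d F k),
        Nat.card ↥(s5972count_Ext (s : Fin k → (Unit ⊕ (Fin d ⊕ Fin d) → F))) =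
        Fintype.card F ^ (2 * d - k) - Fintype.card F ^ k := by
      intro s
      rw [Nat.card_coe_set_eq, s5972count_card_Ext h2 (by omega) hperp _ s.2]
    simp only [this]
    rw [Finset.sum_const, smul_eq_mul, Finset.card_univ, ← Nat.card_eq_fintype_card,
      Nat.card_coe_set_eq]

/-- the number of bases of a `k`-dimensional subspace -/
theorem s5972count_card_frames {F : Type*} [Field F] [Fintype F] {d k : ℕ}
    (W : Submodule F (Unit ⊕ (Fin d ⊕ Fin d) → F)) (hWk : Module.finrank F W = k) :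
    ({f : Fin k → (Unit ⊕ (Fin d ⊕ Fin d) → F) |
        LinearIndependent F f ∧ Submodule.span F (Set.range f) = W}).ncard =
      ∏ i : Fin k, (Fintype.card F ^ k - Fintype.card F ^ (i : ℕ)) := by
  have h1 := card_linearIndependent (K := F) (V := W) (k := k) (by rw [hWk])
  rw [hWk] at h1
  rw [← h1, ← Nat.card_coe_set_eq]
  apply Nat.card_congr
  refine
    { toFun := fun f => ⟨fun i => ⟨f.1 i, by
          have h0 : Submodule.span F (Set.range f.1) ≤ W := le_of_eq f.2.2
          exact h0 (Submodule.subset_span ⟨i, rfl⟩)⟩, ?_⟩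
      invFun := fun s => ⟨fun i => (s.1 i : Unit ⊕ (Fin d ⊕ Fin d) → F), ?_, ?_⟩
      left_inv := fun f => rfl
      right_inv := fun s => rfl }
  · apply LinearIndependent.of_comp W.subtype
    exact f.2.1
  · exact s.2.map' W.subtype (Submodule.ker_subtype W)
  · have h2 : Submodule.span F (Set.range s.1) = ⊤ := by
      apply LinearIndependent.span_eq_top_of_card_eq_finrank' s.2
      rw [Fintype.card_fin, hWk]
    have h3 : Set.range (fun i => (s.1 i : Unit ⊕ (Fin d ⊕ Fin d) → F)) =
        W.subtype '' Set.range s.1 := by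
      rw [← Set.range_comp]; rfl
    rw [h3, Submodule.span_image, h2, Submodule.map_subtype_top]

/-- the span of a frame, as a point of `TSm` -/
noncomputable def s5972count_spanMap {F : Type*} [Field F] (h2 : (2 : F) ≠ 0) (d m : ℕ)
    (f : ↥(s5972count_Fr d F m)) : TSm d m F :=
  ⟨Submodule.span F (Set.range f.1), by
    rw [finrank_span_eq_card f.2.1, Fintype.card_fin],
    ((stdO_facts (F := F) h2 d).2.2.2 _).mp (s5972count_iso_span h2 f.1 f.2.2)⟩

/-- the fibre of the span map over `W` is the set of bases of `W` -/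
noncomputable def s5972count_fibreEquiv {F : Type*} [Field F] (h2 : (2 : F) ≠ 0) (d m : ℕ)
    (W : TSm d m F) :
    {f : ↥(s5972count_Fr d F m) // s5972count_spanMap h2 d m f = W} ≃
      ↥({f : Fin m → (Unit ⊕ (Fin d ⊕ Fin d) → F) |
        LinearIndependent F f ∧ Submodule.span F (Set.range f) = W.1}) where
  toFun f := ⟨f.1.1, f.1.2.1, congrArg Subtype.val f.2⟩
  invFun f := ⟨⟨f.1, f.2.1, fun i j =>
      ((stdO_facts (F := F) h2 d).2.2.2 W.1).mpr W.2.2 _
        ((le_of_eq f.2.2) (Submodule.subset_span ⟨i, rfl⟩))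
        _ ((le_of_eq f.2.2) (Submodule.subset_span ⟨j, rfl⟩))⟩, Subtype.ext f.2.2⟩
  left_inv _ := rfl
  right_inv _ := rfl

theorem s5972count_card_Fr' {F : Type*} [Field F] [Fintype F] (h2 : (2 : F) ≠ 0) (d m : ℕ) :
    (s5972count_Fr d F m).ncard =
      Nat.card (TSm d m F) * ∏ i : Fin m, (Fintype.card F ^ m - Fintype.card F ^ (i : ℕ)) := by
  classical
  have hfin : Finite (TSm d m F) := inferInstance
  let _ : Fintype (TSm d m F) := Fintype.ofFinite _
  rw [← Nat.card_coe_set_eq,
    Nat.card_congr (Equiv.sigmaFiberEquiv (s5972count_spanMap (F := F) h2 d m)).symm, Nat.card_sigma]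
  have : ∀ W : TSm d m F,
      Nat.card {f : ↥(s5972count_Fr d F m) // s5972count_spanMap h2 d m f = W} =
        ∏ i : Fin m, (Fintype.card F ^ m - Fintype.card F ^ (i : ℕ)) := by
    intro W
    rw [Nat.card_congr (s5972count_fibreEquiv h2 d m W), Nat.card_coe_set_eq,
      s5972count_card_frames W.1 W.2.1]
  simp only [this]
  rw [Finset.sum_const, smul_eq_mul, Finset.card_univ, ← Nat.card_eq_fintype_card]

/-- COUNT core -/
theorem s5972count_core {F : Type*} [Field F] [Fintype F] (hodd : Odd (Fintype.card F)) (d m : ℕ)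
    (hm : m ≤ d) (hperp : S5972CountPerp F d) :
    Nat.card (TSm d m F) * ∏ j ∈ Finset.range m, (Fintype.card F ^ (j + 1) - 1) =
      ∏ j ∈ Finset.range m, (Fintype.card F ^ (2 * (d - j)) - 1) := by
  have h2 : (2 : F) ≠ 0 := s5972count_two_ne hodd
  have h1 := s5972count_card_Fr' (F := F) h2 d m
  rw [s5972count_card_Fr h2 d hperp m hm, s5955c1_arith1 _ d m hm, s5955c1_arith2] at h1
  have hQ : 0 < ∏ i ∈ Finset.range m, Fintype.card F ^ i :=
    Finset.prod_pos fun i _ => pow_pos Fintype.card_pos _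
  have h3 : (∏ i ∈ Finset.range m, Fintype.card F ^ i) *
      (Nat.card (TSm d m F) * ∏ j ∈ Finset.range m, (Fintype.card F ^ (j + 1) - 1)) =
      (∏ i ∈ Finset.range m, Fintype.card F ^ i) *
        ∏ j ∈ Finset.range m, (Fintype.card F ^ (2 * (d - j)) - 1) := by
    rw [h1]; ring
  exact Nat.eq_of_mul_eq_mul_left hQ h3

end Cfsg.Agent.Lib.helper15.S5972
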