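import Mathlib
import Cfsg.Agent.Lib.Helper13.S5972COUNTcore
import Cfsg.Agent.Lib.helper15.S5972PERPCOUNT

/-!
# Project S5972 (designer helper15), row COUNT (`ts_count`), verbatim.
-/

set_option autoImplicit false
set_option linter.unusedVariables false

namespace Cfsg.Agent.Lib.helper15.S5972

open Polynomial Module Cfsg.Agent.Lib.Helper13.S5955

/-- COUNT [L] (twin of S5955 C1, Helper11/S5955C1.lean + `Cfsg.Agent.S0775.card_IsoFr` / `card_frames`): singular frames
(`LinearIndependent`, `Q (f a) = 0`, `stdO (f a) (f b) = 0`) number `∏_{j<m} (q^(2d-j) - q^j)` by PERPCOUNT (extensions of a frame spanning `W`: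
singular vectors of `W^⊥` not in `W`); fibres of `span` are the bases of an `m`-space. -/
theorem ts_count {F : Type*} [Field F] [Fintype F] (hodd : Odd (Fintype.card F)) (d m : ℕ)
    (hm : m ≤ d) :
    Nat.card (TSm d m F) * ∏ j ∈ Finset.range m, (Fintype.card F ^ (j + 1) - 1) =
      ∏ j ∈ Finset.range m, (Fintype.card F ^ (2 * (d - j)) - 1) :=
  s5972count_core hodd d m hm (fun j hj W hW hWs => ts_perp_count hodd d j hj W hW hWs)

end Cfsg.Agent.Lib.helper15.S5972
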