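import Mathlib
import Cfsg.Agent.Lib.Helper13.S5972MAXEL
import Cfsg.Agent.Lib.helper15.S5972OS2DIST
import Cfsg.Agent.Lib.Helper1.S5955N11

/-!
# Project S5972 (designer helper15), row DISTEL (`o_distel`), verbatim (twin of S5955 N11).
-/

set_option autoImplicit false
set_option linter.unusedVariables false

namespace Cfsg.Agent.Lib.helper15.S5972

open Polynomial Module Cfsg.Agent.Lib.Helper13.S5955

/-- DISTEL [M-L]: `i` even: an isometry `≠ 1` of order `r` with `min(t, n')` pairwise non-isomorphic irreducible blocks.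
(S5955 `distel` with `2d' = i · min(t, n')`: `fixS y = ⊥` and every t.i. invariant subspace is `⊥`; OS2CTX + OS2DIST with `k = 2d + 1 - 2d'`;
TRANSPORT + TRANSPORTD.) -/
theorem o_distel {F : Type*} [Field F] [Fintype F] {p : ℕ} [Fact p.Prime] [CharP F p]
    (hp2 : p ≠ 2) (r : ℕ) [Fact r.Prime] (hrp : r ≠ p) (hr2 : r ≠ 2) (d i : ℕ)
    (hi : i = orderOf ((Fintype.card F : ℕ) : ZMod r)) (hie : Even i) (hid : i ≤ 2 * d + 1) :
    ∃ y : Module.End F (Unit ⊕ (Fin d ⊕ Fin d) → F), OCtx r (stdO d F) y ∧ y ≠ 1 ∧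
      finrank F (fixS y) + i * min ((r - 1) / i) ((2 * d + 1) / i) = 2 * d + 1 ∧
      ∀ W : Submodule F (Unit ⊕ (Fin d ⊕ Fin d) → F), SInv y W → STI (stdO d F) W → W ≤ fixS y := by
  have hrpr : r.Prime := Fact.out
  have hppr : p.Prime := Fact.out
  have hodd : Odd r := hrpr.odd_of_ne_two hr2
  have hipos : 0 < i := hi ▸ Cfsg.Agent.Lib.Helper24.el_ord_pos (F := F) (p := p) r hrp
  have hrF : ((r : ℕ) : F) ≠ 0 := by
    intro h0
    have := (CharP.cast_eq_zero_iff F p r).mp h0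
    exact hrp ((Nat.prime_dvd_prime_iff_eq hppr hrpr).mp this).symm
  -- `i ∣ r - 1`
  have hnd : ¬ r ∣ Fintype.card F := s5955n10_not_dvd r hrp
  have hir : i ∣ r - 1 := by
    rw [hi]
    have hq0 : ((Fintype.card F : ℕ) : ZMod r) ≠ 0 := by
      rw [Ne, ZMod.natCast_eq_zero_iff]
      exact hnd
    exact orderOf_dvd_of_pow_eq_one (ZMod.pow_card_sub_one_eq_one hq0)
  have ht1 : 1 ≤ (r - 1) / i :=
    Nat.div_pos (Nat.le_of_dvd (Nat.sub_pos_of_lt hrpr.one_lt) hir) hipos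
  have hn1 : 1 ≤ (2 * d + 1) / i := Nat.div_pos hid hipos
  obtain ⟨e, he⟩ : ∃ e, i = 2 * e := by
    obtain ⟨k, hk⟩ := hie
    exact ⟨k, by rw [hk]; ring⟩
  have he1 : 1 ≤ e := by omega
  set A : ℕ := min ((r - 1) / i) ((2 * d + 1) / i) with hA
  have hA1 : 1 ≤ A := le_min ht1 hn1
  have hAn : A ≤ (2 * d + 1) / i := min_le_right _ _
  have hAt : A ≤ (r - 1) / i := min_le_left _ _
  have hiA : i * A ≤ 2 * d + 1 := by
    calc i * A ≤ i * ((2 * d + 1) / i) := Nat.mul_le_mul_left _ hAn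
      _ ≤ 2 * d + 1 := Nat.mul_div_le _ _
  set d' : ℕ := e * A with hd'
  have h2d' : 2 * d' = i * A := by rw [hd', he]; ring
  have hd'1 : 1 ≤ d' := Nat.mul_pos he1 hA1
  have hid' : i ≤ 2 * d' := by
    rw [h2d']
    exact Nat.le_mul_of_pos_right i hA1
  have hdiv : (2 * d') / i = A := by
    rw [h2d']
    exact Nat.mul_div_cancel_left A hipos
  obtain ⟨y', hy', hy'1, hdim', hsub'⟩ := distel (F := F) r hrp hr2 d' i hi hie hid'
  rw [hdiv, min_eq_right hAt, ← h2d'] at hdim'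
  have hfix0 : finrank F (fixS y') = 0 := by omega
  have hfix : fixS y' = ⊥ := Submodule.finrank_eq_zero.mp hfix0
  have hno : ∀ U : Submodule F (Fin d' ⊕ Fin d' → F), SInv y' U → STI (stdB d' F) U → U = ⊥ := by
    intro U hU hUti
    have := hsub' U hU hUti
    rw [hfix] at this
    exact le_bot_iff.mp this
  set k : ℕ := 2 * d + 1 - 2 * d' with hk
  have hhk : 2 * d' + k = 2 * d + 1 := by omega
  obtain ⟨y, hy, hy1, hfd, hall⟩ := s5972maxel_build r d hodd hrpr.one_lt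
    (s5972maxel_T (s5972maxel_two_ne (F := F) hp2) r d) (s5972maxel_TD r d) d' k hd'1 hhk y' hy' hfix
  refine ⟨y, hy, hy1, ?_, hall ?_⟩
  · rw [hfd]
    omega
  · intro W hW hWti
    exact os2_dist r k hodd hrpr.one_lt hrF y' hy' hfix hno W hW hWti

end Cfsg.Agent.Lib.helper15.S5972
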