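import Mathlib
import Cfsg.Agent.Lib.helper15.S5972.Defs
import Cfsg.Agent.Lib.Helper24.S5972SPLIT
import Cfsg.Agent.Lib.Helper5.S5955T6

/-!
# Project S5972 (designer helper15), row NECDIM (`o_nec_dim`): the dimension of a t.i. invariant subspace
(twin of S5955 N1, helper28's `s5955n1_core`).
-/

set_option autoImplicit false
set_option linter.unusedVariables false

namespace Cfsg.Agent.Lib.helper15.S5972

open Polynomial Module Cfsg.Agent.Lib.Helper13.S5955

/-- form-free core: only `x ^ r = 1`, the non-degeneracy of `fixS x` and `ti_le_half` are used. -/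
theorem s5972necdim_core {F : Type*} [Field F] [Fintype F] {p : ℕ} [Fact p.Prime] [CharP F p]
    {V : Type*} [AddCommGroup V] [Module F V] [FiniteDimensional F V]
    {r : ℕ} [Fact r.Prime] (hrp : r ≠ p) {B : LinearMap.BilinForm F V} {x : Module.End F V}
    (hpow : x ^ r = 1)
    (hfixnd : SND B (fixS x))
    (W : Submodule F V) (hW : SInv x W) (hWti : STI B W) :
    ∃ w1 s : ℕ, finrank F W = w1 + s * orderOf ((Fintype.card F : ℕ) : ZMod r) ∧
      2 * w1 ≤ finrank F (fixS x) := by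
  set i := orderOf ((Fintype.card F : ℕ) : ZMod r) with hi
  have hipos : 0 < i := Cfsg.Agent.Lib.Helper24.el_ord_pos (F := F) (p := p) r hrp
  have hQ0 : cyclotomic r F ≠ 0 := cyclotomic_ne_zero r F
  have hdeg : ∀ P : F[X], Irreducible P → P ∣ cyclotomic r F → P.natDegree = i :=
    fun P hP hPd => Cfsg.Agent.Lib.Helper24.el_cyc_deg (F := F) (p := p) r hrp P hP hPd
  have hcop : IsCoprime (X - 1 : F[X]) (cyclotomic r F) :=
    Cfsg.Agent.Lib.Helper24.el_cyc_coprime (F := F) (p := p) r hrp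
  have hkill : aeval x ((X - 1) * cyclotomic r F) = 0 :=
    Cfsg.Agent.Lib.Helper24.el_cyc_kill r x hpow
  have hsplit := Cfsg.Agent.Lib.Helper24.el_split_W x (cyclotomic r F) hcop hkill W hW
  have hW2inv : SInv x (W ⊓ LinearMap.ker (aeval x (cyclotomic r F))) :=
    Cfsg.Agent.Lib.Helper24.el_inv_inf hW (Cfsg.Agent.Lib.Helper24.el_inv_ker x _)
  have hW2kill : ∀ u ∈ W ⊓ LinearMap.ker (aeval x (cyclotomic r F)),
      aeval x (cyclotomic r F) u = 0 := fun u hu => LinearMap.mem_ker.mp hu.2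
  obtain ⟨s, hs⟩ := Cfsg.Agent.Lib.Helper24.el_dvd_dim x _ hW2inv (cyclotomic r F) hQ0 hW2kill i
    hipos hdeg
  have hW1le : W ⊓ LinearMap.ker (aeval x (X - 1 : F[X])) ≤ fixS x := inf_le_right
  have hW1ti : STI B (W ⊓ LinearMap.ker (aeval x (X - 1 : F[X]))) :=
    fun u hu v hv => hWti u hu.1 v hv.1
  have h2 := ti_le_half B (fixS x) _ hfixnd hW1le hW1ti
  refine ⟨finrank F ↥(W ⊓ LinearMap.ker (aeval x (X - 1 : F[X]))), s, ?_, h2⟩
  rw [hsplit, hs, mul_comm]

/-- NECDIM [M] (twin of S5955 N1 `nec_dim`, Helper28/S5955N1core.lean): `el_split_W` + `el_dvd_dim` (`W ⊓ cycS`) + `ti_le_half` in `fixS` (SND by SPLIT). -/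
theorem o_nec_dim {F : Type*} [Field F] [Fintype F] {p : ℕ} [Fact p.Prime] [CharP F p]
    {V : Type*} [AddCommGroup V] [Module F V] [FiniteDimensional F V]
    {r : ℕ} [Fact r.Prime] (hrp : r ≠ p) {B : LinearMap.BilinForm F V} {x : Module.End F V}
    (h : OCtx r B x) (W : Submodule F V) (hW : SInv x W) (hWti : STI B W) :
    ∃ w1 s : ℕ, finrank F W = w1 + s * orderOf ((Fintype.card F : ℕ) : ZMod r) ∧
      2 * w1 ≤ finrank F (fixS x) :=
  s5972necdim_core hrp h.pow (o_split hrp h).2.2.1 W hW hWti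

end Cfsg.Agent.Lib.helper15.S5972
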