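import Mathlib
import Cfsg.Agent.Lib.helper15.S5972.Defs
import Cfsg.Agent.Lib.Helper24.S5972SPLIT
import Cfsg.Agent.Lib.helper15.S5972ARITH
import Cfsg.Agent.Lib.Helper13.S5972NECDIM
import Cfsg.Agent.Lib.Helper5.S5955T6

/-!
# Project S5972 (designer helper15), row NECABS, core: the assembly of the necessity direction
(twin of S5955 N13, helper1's `s5955n13_core`), with the instances of MAXEL and DISTEL as hypotheses.
-/

set_option autoImplicit false
set_option linter.unusedVariables false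

namespace Cfsg.Agent.Lib.helper15.S5972

open Polynomial Module Cfsg.Agent.Lib.Helper13.S5955

theorem s5972necabs_core {F : Type*} [Field F] [Fintype F] {p : ℕ} [Fact p.Prime] [CharP F p]
    (r : ℕ) [Fact r.Prime] (hrp : r ≠ p) (hr2 : r ≠ 2) (d m i c : ℕ)
    (hi : i = orderOf ((Fintype.card F : ℕ) : ZMod r)) (hc : c = if Even i then i else 2 * i)
    (hm1 : 1 ≤ m) (hmd : m ≤ d)
    (hj : ∃ j : ℕ, j < m ∧ r ∣ Fintype.card F ^ (2 * (d - j)) - 1)
    (hall : ∀ y : Module.End F (Unit ⊕ (Fin d ⊕ Fin d) → F), OCtx r (stdO d F) y → y ≠ 1 →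
      TId (stdO d F) y m)
    (hmaxel : c ≤ 2 * d + 1 →
      ∃ y : Module.End F (Unit ⊕ (Fin d ⊕ Fin d) → F), OCtx r (stdO d F) y ∧ y ≠ 1 ∧
        finrank F (fixS y) = (2 * d + 1) % c)
    (hdistel : Even i → i ≤ 2 * d + 1 →
      ∃ y : Module.End F (Unit ⊕ (Fin d ⊕ Fin d) → F), OCtx r (stdO d F) y ∧ y ≠ 1 ∧
        finrank F (fixS y) + i * min ((r - 1) / i) ((2 * d + 1) / i) = 2 * d + 1 ∧
        ∀ W : Submodule F (Unit ⊕ (Fin d ⊕ Fin d) → F), SInv y W → STI (stdO d F) W →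
          W ≤ fixS y) :
    i ≤ m ∧ 2 * (m % i) < (2 * d + 1) % c ∧
      (Odd i ∨ (r - 1) / i + 2 * (m / i) ≤ (2 * d + 1) / i) := by
  have hq1 : 1 ≤ Fintype.card F := Fintype.card_pos
  have hipos : 0 < i := by
    rw [hi]
    exact Cfsg.Agent.Lib.Helper24.el_ord_pos (F := F) (p := p) r hrp
  obtain ⟨j, hjm, hjr⟩ := hj
  have hjd : i ∣ 2 * (d - j) := by
    rw [hi]
    exact (Cfsg.Agent.Lib.Helper24.el_ord_dvd_iff (Fintype.card F) r (2 * (d - j)) hq1).mp hjr
  have hdj : 1 ≤ d - j := by omega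
  have hcd : c ≤ 2 * d := by
    by_cases hie : Even i
    · rw [hc, if_pos hie]
      have := Nat.le_of_dvd (by omega) hjd
      omega
    · rw [hc, if_neg hie]
      have hio : Odd i := Nat.not_even_iff_odd.mp hie
      have hcop : Nat.Coprime i 2 := by
        rw [Nat.coprime_comm, Nat.coprime_two_left]
        exact hio
      have hdvd : i ∣ d - j := hcop.dvd_of_dvd_mul_left hjd
      have := Nat.le_of_dvd (by omega) hdvd
      omega
  apply o_arith_nec i c d m ((r - 1) / i) hipos hc hm1 hmd ⟨j, hjm, hjd⟩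
  · obtain ⟨y, hy, hy1, hfix⟩ := hmaxel (by omega)
    obtain ⟨W, hWinv, hWti, hWdim⟩ := hall y hy hy1
    obtain ⟨w1, s, hWeq, hw1⟩ := o_nec_dim hrp hy W hWinv hWti
    refine ⟨w1, s, ?_, ?_⟩
    · rw [← hWdim, hWeq, hi]
    · rw [← hfix]
      exact hw1
  · intro hie
    have hid : i ≤ 2 * d + 1 := by
      rw [hc, if_pos hie] at hcd
      omega
    obtain ⟨y, hy, hy1, hdim, hsub⟩ := hdistel hie hid
    obtain ⟨W, hWinv, hWti, hWdim⟩ := hall y hy hy1
    obtain ⟨-, -, hfixnd, -⟩ := o_split hrp hy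
    have hWle := hsub W hWinv hWti
    have hhalf := ti_le_half (stdO d F) (fixS y) W hfixnd hWle hWti
    rw [hWdim] at hhalf
    omega

end Cfsg.Agent.Lib.helper15.S5972
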