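import Mathlib
import Cfsg.Agent.Lib.Helper13.S5972NECABScore
import Cfsg.Agent.Lib.Helper13.S5972MAXEL
import Cfsg.Agent.Lib.Helper13.S5972DISTEL

/-!
# Project S5972 (designer helper15), row NECABS (`o_nec_abs`), verbatim (twin of S5955 N13).
-/

set_option autoImplicit false
set_option linter.unusedVariables false

namespace Cfsg.Agent.Lib.helper15.S5972

open Polynomial Module Cfsg.Agent.Lib.Helper13.S5955

/-- NECABS [L] (twin of S5955 N13 `nec_abs`, Helper1/S5955N13core.lean): `hj` gives `i ∣ 2(d-j)` (`orderOf_dvd_of_pow_eq_one`), so `c ≤ 2d`;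
MAXEL + `hall` + NECDIM give `hmax`; DISTEL + `hall` + `ti_le_half` (SND `fixS` by SPLIT) give `hdist`; ARITHN. -/
theorem o_nec_abs {F : Type*} [Field F] [Fintype F] {p : ℕ} [Fact p.Prime] [CharP F p]
    (hp2 : p ≠ 2) (r : ℕ) [Fact r.Prime] (hrp : r ≠ p) (hr2 : r ≠ 2) (d m i c : ℕ)
    (hi : i = orderOf ((Fintype.card F : ℕ) : ZMod r)) (hc : c = if Even i then i else 2 * i)
    (hm1 : 1 ≤ m) (hmd : m ≤ d)
    (hj : ∃ j : ℕ, j < m ∧ r ∣ Fintype.card F ^ (2 * (d - j)) - 1)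
    (hall : ∀ y : Module.End F (Unit ⊕ (Fin d ⊕ Fin d) → F), OCtx r (stdO d F) y → y ≠ 1 →
      TId (stdO d F) y m) :
    i ≤ m ∧ 2 * (m % i) < (2 * d + 1) % c ∧
      (Odd i ∨ (r - 1) / i + 2 * (m / i) ≤ (2 * d + 1) / i) :=
  s5972necabs_core r hrp hr2 d m i c hi hc hm1 hmd hj hall
    (fun hcd => o_maxel hp2 r hrp hr2 d i c hi hc hcd)
    (fun hie hid => o_distel hp2 r hrp hr2 d i hi hie hid)

end Cfsg.Agent.Lib.helper15.S5972
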