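import Mathlib
import Cfsg.Agent.Lib.Helper13.S5972SUFFABScore
import Cfsg.Agent.Lib.helper15.S5972TISUB

/-!
# Project S5972 (designer helper15), row SUFFABS (`o_suff_abs`), verbatim.
-/

set_option autoImplicit false
set_option linter.unusedVariables false

namespace Cfsg.Agent.Lib.helper15.S5972

open Polynomial Module Cfsg.Agent.Lib.Helper13.S5955

/-- SUFFABS [L] (twin of S5955 T13 `suff_abs`, Helper18/S5955T13core.lean): SPLIT; LAG gives `T`; `i ∣ dim cycS`, `i ∣ dim T` (helper24 `el_dvd_dim`),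
`2 dim T ≤ dim cycS` (S5955 `ti_le_half`, form-free); ARITHS gives `w1, s`; `el_exists_dim` inside `T` gives an invariant `Y`, `dim Y = s i`;
TISUB inside `fixS` gives `T1`, `dim T1 = w1` (invariant: `el_inv_of_le_fix`); `W = T1 ⊔ Y`. -/
theorem o_suff_abs {F : Type*} [Field F] [Fintype F] {p : ℕ} [Fact p.Prime] [CharP F p]
    (h2 : (2 : F) ≠ 0) {V : Type*} [AddCommGroup V] [Module F V] [FiniteDimensional F V]
    {r : ℕ} [Fact r.Prime] (hrp : r ≠ p) (hr2 : r ≠ 2) {B : LinearMap.BilinForm F V}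
    {x : Module.End F V} (h : OCtx r B x) (d m : ℕ) (hV : finrank F V = 2 * d + 1) (hm : m ≤ d)
    (i c : ℕ) (hi : i = orderOf ((Fintype.card F : ℕ) : ZMod r))
    (hc : c = if Even i then i else 2 * i)
    (h1 : 2 * (m % i) < (2 * d + 1) % c)
    (h2' : Odd i ∨ (r - 1) / i + 2 * (m / i) ≤ (2 * d + 1) / i) :
    TId B x m :=
  s5972suffabs_core hrp hr2 h d m hV hm i c hi hc h1 h2'
    (fun j hj => o_ti_sub h2 B h.symm (fixS x) (o_split hrp h).2.2.1 j hj)

end Cfsg.Agent.Lib.helper15.S5972
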