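import Mathlib
import Cfsg.Agent.Lib.helper3.S77.Defs
import Cfsg.Agent.Lib.helper3.S77.A1
import Cfsg.Agent.Lib.helper3.S77.A2
import Cfsg.Agent.Lib.helper3.S77.A3
import Cfsg.Agent.Lib.helper3.S77.A4

set_option autoImplicit false

/-! Project S77 (statement S0429), piece B2: the 15 classes with the relation `TAdj` form a
strongly regular graph with parameters `(15, 6, 1, 3)`. -/

namespace Cfsg.Agent.Lib.Helper13.S77

open Cfsg.Agent.Lib.helper3.S77 Finset

universe u

variable {V : Type u} [Fintype V] [DecidableEq V] (G : SimpleGraph V) [DecidableRel G.Adj]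

theorem b2_ff_of_tadj (h : Is77 G) (o : V) {c d : Finset V} (hc : c ∈ clsSet G o)
    (hd : d ∈ clsSet G o) (hT : TAdj G o c d) {y z : V} (hy : y ∈ c) (hz : z ∈ d) :
    ff G o y z = -2 := by
  obtain ⟨_, y', hy', z', hz', h2⟩ := hT
  rw [cls_ff_const G h o hc hd hy hy' hz hz']
  exact h2

theorem b2_ff_of_not_tadj (h : Is77 G) (o : V) {c d : Finset V} (hc : c ∈ clsSet G o)
    (hd : d ∈ clsSet G o) (hcd : c ≠ d) (hT : ¬TAdj G o c d) {y z : V} (hy : y ∈ c)
    (hz : z ∈ d) : ff G o y z = 1 := by
  rcases ff_cases G h o (clsSet_subset G o hc hy) (clsSet_subset G o hd hz) with h4 | h1 | h2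
  · exact absurd h4 (cls_ff_ne_four G h o hc hd hcd hy hz)
  · exact h1
  · exact absurd ⟨hcd, y, hy, z, hz, h2⟩ hT

theorem b2_tadj_symm (o : V) {c d : Finset V} (hT : TAdj G o c d) : TAdj G o d c := by
  obtain ⟨hne, y, hy, z, hz, h2⟩ := hT
  exact ⟨fun hh => hne hh.symm, z, hz, y, hy, by rw [ff_symm G o z y]; exact h2⟩

theorem b2_tadj_irrefl (o : V) (c : Finset V) : ¬TAdj G o c c := fun hT => hT.1 rfl

open Classical in
/-- the value of `F` between two classes -/
theorem b2_ff_eq (h : Is77 G) (o : V) {e c : Finset V} (he : e ∈ clsSet G o)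
    (hc : c ∈ clsSet G o) {w y : V} (hw : w ∈ e) (hy : y ∈ c) :
    ff G o w y = 1 + 3 * (if e = c then 1 else 0) - 3 * (if TAdj G o e c then 1 else 0) := by
  by_cases hec : e = c
  · subst hec
    rw [if_pos rfl, if_neg (b2_tadj_irrefl G o e), cls_ff_four G h o he hw hy]
    norm_num
  · rw [if_neg hec]
    by_cases hT : TAdj G o e c
    · rw [if_pos hT, b2_ff_of_tadj G h o he hc hT hw hy]
      norm_num
    · rw [if_neg hT, b2_ff_of_not_tadj G h o he hc hec hT hw hy]
      norm_num

theorem b2_nonempty (h : Is77 G) (o : V) {c : Finset V} (hc : c ∈ clsSet G o) : c.Nonempty := by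
  rw [← Finset.card_pos, clsSet_card_eq G h o hc]
  norm_num

open Classical in
/-- the quadratic identity on the level of classes -/
theorem b2_sum (h : Is77 G) (o : V) {c d : Finset V} (hc : c ∈ clsSet G o)
    (hd : d ∈ clsSet G o) :
    ∑ e ∈ clsSet G o,
        ((1 : ℤ) + 3 * (if e = c then 1 else 0) - 3 * (if TAdj G o e c then 1 else 0)) *
          (1 + 3 * (if e = d then 1 else 0) - 3 * (if TAdj G o e d then 1 else 0)) =
      12 * (1 + 3 * (if c = d then 1 else 0) - 3 * (if TAdj G o c d then 1 else 0)) := by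
  obtain ⟨y, hy⟩ := b2_nonempty G h o hc
  obtain ⟨z, hz⟩ := b2_nonempty G h o hd
  have hyM := clsSet_subset G o hc hy
  have hzM := clsSet_subset G o hd hz
  have hsq := ff_sq G h o hyM hzM
  have hdis : ((clsSet G o : Finset (Finset V)) : Set (Finset V)).PairwiseDisjoint id :=
    fun e he e' he' hee' => clsSet_disjoint G h o he he' hee'
  rw [← biUnion_clsSet G h o, Finset.sum_biUnion hdis] at hsq
  have hinner : ∀ e ∈ clsSet G o, ∑ w ∈ id e, ff G o w y * ff G o w z =
      4 * (((1 : ℤ) + 3 * (if e = c then 1 else 0) - 3 * (if TAdj G o e c then 1 else 0)) *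
          (1 + 3 * (if e = d then 1 else 0) - 3 * (if TAdj G o e d then 1 else 0))) := by
    intro e he
    have : ∀ w ∈ id e, ff G o w y * ff G o w z =
        (((1 : ℤ) + 3 * (if e = c then 1 else 0) - 3 * (if TAdj G o e c then 1 else 0)) *
          (1 + 3 * (if e = d then 1 else 0) - 3 * (if TAdj G o e d then 1 else 0))) := by
      intro w hw
      rw [b2_ff_eq G h o he hc hw hy, b2_ff_eq G h o he hd hw hz]
    rw [Finset.sum_congr rfl this, Finset.sum_const, id, clsSet_card_eq G h o he]
    simp
  rw [Finset.sum_congr rfl hinner, ← Finset.mul_sum, b2_ff_eq G h o hc hd hy hz] at hsq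
  linarith

open Classical in
/-- the number of classes meeting two given classes, in terms of the degrees -/
theorem b2_expand (h : Is77 G) (o : V) {c d : Finset V} (hc : c ∈ clsSet G o)
    (hd : d ∈ clsSet G o) :
    ∑ e ∈ clsSet G o,
        ((1 : ℤ) + 3 * (if e = c then 1 else 0) - 3 * (if TAdj G o e c then 1 else 0)) *
          (1 + 3 * (if e = d then 1 else 0) - 3 * (if TAdj G o e d then 1 else 0)) =
      21 - 3 * (((clsSet G o).filter (fun e => TAdj G o e c)).card : ℤ)
        - 3 * (((clsSet G o).filter (fun e => TAdj G o e d)).card : ℤ)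
        + 9 * (if c = d then 1 else 0) - 18 * (if TAdj G o c d then 1 else 0)
        + 9 * (((clsSet G o).filter (fun e => TAdj G o e c ∧ TAdj G o e d)).card : ℤ) := by
  have hpt : ∀ e ∈ clsSet G o,
      ((1 : ℤ) + 3 * (if e = c then 1 else 0) - 3 * (if TAdj G o e c then 1 else 0)) *
          (1 + 3 * (if e = d then 1 else 0) - 3 * (if TAdj G o e d then 1 else 0)) =
        1 + 3 * (if e = c then 1 else 0) + 3 * (if e = d then 1 else 0)
          - 3 * (if TAdj G o e c then 1 else 0) - 3 * (if TAdj G o e d then 1 else 0)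
          + 9 * (if e = c then (if c = d then 1 else 0) else 0)
          - 9 * (if e = c then (if TAdj G o c d then 1 else 0) else 0)
          - 9 * (if e = d then (if TAdj G o c d then 1 else 0) else 0)
          + 9 * (if TAdj G o e c ∧ TAdj G o e d then 1 else 0) := by
    intro e _
    by_cases h1 : e = c
    · subst h1
      by_cases h2 : e = d
      · subst h2
        simp [b2_tadj_irrefl G o e]
      · by_cases h3 : TAdj G o e d
        · simp [h2, h3, b2_tadj_irrefl G o e]
        · simp [h2, h3, b2_tadj_irrefl G o e]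
    · by_cases h2 : e = d
      · subst h2
        have hce : c ≠ e := fun hh => h1 hh.symm
        by_cases h3 : TAdj G o e c
        · have h3' := b2_tadj_symm G o h3
          simp [h1, h3, h3', b2_tadj_irrefl G o e]
        · have h3' : ¬TAdj G o c e := fun hh => h3 (b2_tadj_symm G o hh)
          simp [h1, h3, h3', b2_tadj_irrefl G o e]
      · by_cases h3 : TAdj G o e c <;> by_cases h4 : TAdj G o e d <;> simp [h1, h2, h3, h4] <;> ring
  rw [Finset.sum_congr rfl hpt]
  simp only [Finset.sum_add_distrib, Finset.sum_sub_distrib, ← Finset.mul_sum,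
    Finset.sum_ite_eq', Finset.sum_boole, hc, hd, if_true, Finset.sum_const, card_clsSet G h o]
  split_ifs <;> simp <;> ring

open Classical in
theorem b2_deg (h : Is77 G) (o : V) {c : Finset V} (hc : c ∈ clsSet G o) :
    ((clsSet G o).filter (fun e => TAdj G o e c)).card = 6 := by
  have h1 := b2_sum G h o hc hc
  rw [b2_expand G h o hc hc] at h1
  have h2 : ((clsSet G o).filter (fun e => TAdj G o e c ∧ TAdj G o e c)) =
      ((clsSet G o).filter (fun e => TAdj G o e c)) := by
    ext e
    simp
  rw [h2, if_pos rfl, if_neg (b2_tadj_irrefl G o c)] at h1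
  omega

open Classical in
theorem b2_common (h : Is77 G) (o : V) {c d : Finset V} (hc : c ∈ clsSet G o)
    (hd : d ∈ clsSet G o) (hcd : c ≠ d) :
    ((clsSet G o).filter (fun e => TAdj G o e c ∧ TAdj G o e d)).card =
      if TAdj G o c d then 1 else 3 := by
  have h1 := b2_sum G h o hc hd
  rw [b2_expand G h o hc hd, b2_deg G h o hc, b2_deg G h o hd, if_neg hcd] at h1
  split_ifs with hT
  · rw [if_pos hT] at h1
    push_cast at h1
    omega
  · rw [if_neg hT] at h1
    push_cast at h1
    omega

open Classical in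
theorem b2_ncard (o : V) (P : Finset V → Prop) :
    {e : ↥(clsSet G o) | P e.1}.ncard = ((clsSet G o).filter P).card := by
  rw [← Set.ncard_image_of_injective _ Subtype.val_injective]
  have : Subtype.val '' {e : ↥(clsSet G o) | P e.1} = ↑((clsSet G o).filter P) := by
    ext e
    simp only [Set.mem_image, Set.mem_setOf_eq, Finset.coe_filter]
    constructor
    · rintro ⟨⟨e', he'⟩, hP, rfl⟩
      exact ⟨he', hP⟩
    · rintro ⟨he, hP⟩
      exact ⟨⟨e, he⟩, hP, rfl⟩
  rw [this, Set.ncard_coe_finset]

/-! ## Piece B2: the classes form a strongly regular graph with parameters `(15, 6, 1, 3)` -/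

theorem cls_gq (h : Is77 G) (o : V) :
    IsGQ (fun c d : ↥(clsSet G o) => TAdj G o c.1 d.1) := by
  classical
  refine ⟨?_, ?_, ?_, ?_, ?_, ?_⟩
  · rw [Nat.card_eq_fintype_card, Fintype.card_coe, card_clsSet G h o]
  · intro c d hT
    exact b2_tadj_symm G o hT
  · intro c
    exact b2_tadj_irrefl G o c.1
  · intro c
    have := b2_ncard G o (fun e => TAdj G o c.1 e)
    rw [this, ← b2_deg G h o c.2]
    congr 1
    ext e
    simp only [Finset.mem_filter]
    exact and_congr_right (fun _ => ⟨b2_tadj_symm G o, b2_tadj_symm G o⟩)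
  · intro c d hT
    have hcd : c.1 ≠ d.1 := hT.1
    have := b2_ncard G o (fun e => TAdj G o c.1 e ∧ TAdj G o d.1 e)
    have h2 := b2_common G h o c.2 d.2 hcd
    rw [if_pos hT] at h2
    rw [this, ← h2]
    congr 1
    ext e
    simp only [Finset.mem_filter]
    exact and_congr_right (fun _ => and_congr ⟨b2_tadj_symm G o, b2_tadj_symm G o⟩
      ⟨b2_tadj_symm G o, b2_tadj_symm G o⟩)
  · intro c d hne hT
    have hcd : c.1 ≠ d.1 := fun hh => hne (Subtype.ext hh)
    have := b2_ncard G o (fun e => TAdj G o c.1 e ∧ TAdj G o d.1 e)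
    have h2 := b2_common G h o c.2 d.2 hcd
    rw [if_neg hT] at h2
    rw [this, ← h2]
    congr 1
    ext e
    simp only [Finset.mem_filter]
    exact and_congr_right (fun _ => and_congr ⟨b2_tadj_symm G o, b2_tadj_symm G o⟩
      ⟨b2_tadj_symm G o, b2_tadj_symm G o⟩)

end Cfsg.Agent.Lib.Helper13.S77
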