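import Mathlib
import Cfsg.Agent.Lib.helper2.S91Defs

set_option autoImplicit false

namespace Cfsg.Agent.Lib.helper2.S91
open Subgroup

universe u

/-- AM-GM for natural numbers, in product form. -/
theorem star_amgm {ι : Type*} [Fintype ι] (a : ι → ℕ) :
    Fintype.card ι ^ Fintype.card ι * ∏ i, a i ≤ (∑ i, a i) ^ Fintype.card ι := by
  classical
  rcases Nat.eq_zero_or_pos (Fintype.card ι) with h0 | hpos
  · have : IsEmpty ι := Fintype.card_eq_zero_iff.mp h0
    simp
  · set n := Fintype.card ι with hn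
    have hn0 : n ≠ 0 := hpos.ne'
    have key := Real.geom_mean_le_arith_mean (Finset.univ : Finset ι) (fun _ => (1 : ℝ))
      (fun i => (a i : ℝ)) (fun _ _ => zero_le_one) (by
        simp only [Finset.sum_const, Finset.card_univ, nsmul_eq_mul, mul_one]
        exact_mod_cast hpos) (fun i _ => Nat.cast_nonneg _)
    simp only [Real.rpow_one, one_mul, Finset.sum_const, Finset.card_univ, nsmul_eq_mul,
      mul_one] at key
    have hG : (0 : ℝ) ≤ ∏ i, (a i : ℝ) := Finset.prod_nonneg (fun i _ => Nat.cast_nonneg _)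
    have h1 : ((∏ i, (a i : ℝ)) ^ ((n : ℝ)⁻¹)) ^ n ≤ ((∑ i, (a i : ℝ)) / (n : ℝ)) ^ n := by
      apply pow_le_pow_left₀ (Real.rpow_nonneg hG _) key
    rw [Real.rpow_inv_natCast_pow hG hn0, div_pow] at h1
    have hnpos : (0 : ℝ) < (n : ℝ) ^ n := by positivity
    rw [le_div_iff₀ hnpos] at h1
    have h2 : ((n ^ n * ∏ i, a i : ℕ) : ℝ) ≤ (((∑ i, a i) ^ n : ℕ) : ℝ) := by
      push_cast
      linarith
    exact_mod_cast h2

/-- the arithmetic heart of `star`: from the product inequality (in "order" form) and Lagrange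
to the final inequality. -/
theorem star_arith {ι : Type*} [Fintype ι] (p : ℕ) (a c : ι → ℕ) (k m c0 d e : ℕ)
    (hk : 0 < k) (hn : 0 < Fintype.card ι)
    (hac : ∀ u, a u * c u = k) (hm : m * c0 = k) (hd : d * e = k)
    (hP : (∏ u, c u) ^ p * c0 ^ Fintype.card ι ≤
      k ^ Fintype.card ι * e ^ (p * Fintype.card ι)) :
    Fintype.card ι ^ p * d ^ p ≤ (∑ u, a u) ^ p * m := by
  classical
  set n := Fintype.card ι with hn'
  have he : 0 < e := by
    rcases Nat.eq_zero_or_pos e with h | h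
    · rw [h, mul_zero] at hd; omega
    · exact h
  -- index form
  have hXA : ((∏ u, a u) ^ p * m ^ n) * ((∏ u, c u) ^ p * c0 ^ n) = (k ^ n) ^ p * k ^ n := by
    have h1 : (∏ u, a u) * (∏ u, c u) = k ^ n := by
      rw [← Finset.prod_mul_distrib]
      simp only [hac, Finset.prod_const, Finset.card_univ]
      rfl
    calc ((∏ u, a u) ^ p * m ^ n) * ((∏ u, c u) ^ p * c0 ^ n)
        = ((∏ u, a u) * (∏ u, c u)) ^ p * (m * c0) ^ n := by ring
      _ = (k ^ n) ^ p * k ^ n := by rw [h1, hm]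
  have hYB : d ^ (p * n) * (k ^ n * e ^ (p * n)) = (k ^ n) ^ p * k ^ n := by
    calc d ^ (p * n) * (k ^ n * e ^ (p * n)) = (d * e) ^ (p * n) * k ^ n := by ring
      _ = (k ^ n) ^ p * k ^ n := by rw [hd]; ring
  have hB : 0 < k ^ n * e ^ (p * n) := by positivity
  have hidx : d ^ (p * n) ≤ (∏ u, a u) ^ p * m ^ n := by
    have h1 : d ^ (p * n) * (k ^ n * e ^ (p * n)) ≤
        ((∏ u, a u) ^ p * m ^ n) * (k ^ n * e ^ (p * n)) := by
      rw [hYB, ← hXA]
      exact Nat.mul_le_mul_left _ hP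
    exact Nat.le_of_mul_le_mul_right h1 hB
  have hamgm := star_amgm a
  rw [← hn'] at hamgm
  have hfin : (n ^ p * d ^ p) ^ n ≤ ((∑ u, a u) ^ p * m) ^ n := by
    calc (n ^ p * d ^ p) ^ n = (n ^ n) ^ p * d ^ (p * n) := by ring
      _ ≤ (n ^ n) ^ p * ((∏ u, a u) ^ p * m ^ n) := Nat.mul_le_mul_left _ hidx
      _ = (n ^ n * ∏ u, a u) ^ p * m ^ n := by ring
      _ ≤ ((∑ u, a u) ^ n) ^ p * m ^ n :=
          Nat.mul_le_mul_right _ (Nat.pow_le_pow_left hamgm p)
      _ = ((∑ u, a u) ^ p * m) ^ n := by ring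
  exact (Nat.pow_le_pow_iff_left hn.ne').mp hfin

/-- `star` with the product inequality `PIneq` as a hypothesis (pure Lagrange + arithmetic). -/
theorem star_of_pineq {G : Type u} [Group G] [Finite G] (p : ℕ) (K P0 : Subgroup G)
    [Fintype ↥P0] (x : G) (hP : PIneq p K P0 x) :
    Nat.card ↥P0 ^ p * ((K ⊓ centralizer {x} ⊓ centralizer (P0 : Set G)).relIndex K) ^ p ≤
      (∑ u : ↥P0, (K ⊓ centralizer {x * (u : G)}).relIndex K) ^ p *
        (K ⊓ centralizer (P0 : Set G)).relIndex K := by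
  classical
  have hcard : Nat.card ↥P0 = Fintype.card ↥P0 := Nat.card_eq_fintype_card
  have lag : ∀ D : Subgroup G, D ≤ K → D.relIndex K * Nat.card ↥D = Nat.card ↥K := by
    intro D hD
    have h1 := Subgroup.relIndex_mul_relIndex (⊥ : Subgroup G) D K bot_le hD
    rw [Subgroup.relIndex_bot_left, Subgroup.relIndex_bot_left] at h1
    rw [mul_comm]; exact h1
  have hn : 0 < Fintype.card ↥P0 := Fintype.card_pos
  have hk : 0 < Nat.card ↥K := Nat.card_pos
  unfold PIneq at hP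
  rw [hcard] at hP ⊢
  exact star_arith p (fun u : ↥P0 => (K ⊓ centralizer {x * (u : G)}).relIndex K)
    (fun u : ↥P0 => Nat.card ↥(K ⊓ centralizer {x * (u : G)})) (Nat.card ↥K)
    ((K ⊓ centralizer (P0 : Set G)).relIndex K) (Nat.card ↥(K ⊓ centralizer (P0 : Set G)))
    ((K ⊓ centralizer {x} ⊓ centralizer (P0 : Set G)).relIndex K)
    (Nat.card ↥(K ⊓ centralizer {x} ⊓ centralizer (P0 : Set G))) hk hn
    (fun u => lag _ inf_le_left) (lag _ inf_le_left) (lag _ (inf_le_left.trans inf_le_left)) hP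

end Cfsg.Agent.Lib.helper2.S91
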