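import Mathlib
import Cfsg.Agent.Lib.helper2.S91Defs
import Cfsg.Agent.Lib.Helper13.S91STARa
import Cfsg.Agent.Lib.Helper11.S91SYL

set_option autoImplicit false

namespace Cfsg.Agent.Lib.helper2.S91
open Subgroup

universe u

/-- S91-STAR -/
theorem star {G : Type u} [Group G] [Finite G] (p : ℕ) [Fact p.Prime] (K R P0 : Subgroup G)
    [Fintype ↥P0] (hK : (Nat.card K).Coprime p) (hR : IsPGroup p R)
    (hRK : R ≤ normalizer (K : Set G)) (hP0R : P0 ≤ R) (hRP0 : R ≤ normalizer (P0 : Set G))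
    (x : G) (hx : x ∈ R) :
    Nat.card ↥P0 ^ p * ((K ⊓ centralizer {x} ⊓ centralizer (P0 : Set G)).relIndex K) ^ p ≤
      (∑ u : ↥P0, (K ⊓ centralizer {x * (u : G)}).relIndex K) ^ p *
        (K ⊓ centralizer (P0 : Set G)).relIndex K :=
  star_of_pineq p K P0 x (pineq p K R P0 hK hR hRK hP0R hRP0 x hx)

end Cfsg.Agent.Lib.helper2.S91
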