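import Cfsg.Agent.Lib.Helper13.Goldschmidt

set_option autoImplicit false

/-! Conjugation chains with restricted steps (helper13), for the strong form of the
Alperin–Goldschmidt theorem. -/

namespace Cfsg.Agent.Lib.Helper13

variable {G : Type*} [Group G]

/-- Step-by-step conjugation: each step `(T, x)` satisfies `𝓢 T x`, and the current conjugate of `R`
lies in `T`. -/
inductive PChain (𝓢 : Subgroup G → G → Prop) : Subgroup G → G → Prop
  | nil (R : Subgroup G) : PChain 𝓢 R 1
  | cons (R T : Subgroup G) (x g : G) (hS : 𝓢 T x) (hRT : R ≤ T)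
      (h : PChain 𝓢 (rc R x) g) : PChain 𝓢 R (x * g)

namespace PChain

variable {𝓢 : Subgroup G → G → Prop}

theorem mono {R : Subgroup G} {g : G} (h : PChain 𝓢 R g) :
    ∀ {R' : Subgroup G}, R' ≤ R → PChain 𝓢 R' g := by
  induction h with
  | nil R => intro R' _; exact PChain.nil R'
  | cons R T x g hS hRT _ ih =>
    intro R' hR'
    exact PChain.cons R' T x g hS (hR'.trans hRT) (ih (rc_mono hR' x))

theorem single {R T : Subgroup G} {x : G} (hS : 𝓢 T x) (hRT : R ≤ T) : PChain 𝓢 R x := by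
  have := PChain.cons R T x 1 hS hRT (PChain.nil _)
  rwa [mul_one] at this

theorem append {R : Subgroup G} {g : G} (h : PChain 𝓢 R g) :
    ∀ {k : G}, PChain 𝓢 (rc R g) k → PChain 𝓢 R (g * k) := by
  induction h with
  | nil R =>
    intro k hk
    rw [rc_one] at hk
    rw [one_mul]
    exact hk
  | cons R T x g hS hRT _ ih =>
    intro k hk
    rw [mul_assoc]
    apply PChain.cons R T x (g * k) hS hRT
    apply ih
    rwa [rc_rc]

theorem imp {𝓢' : Subgroup G → G → Prop} (himp : ∀ T x, 𝓢 T x → 𝓢' T x) {R : Subgroup G} {g : G}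
    (h : PChain 𝓢 R g) : PChain 𝓢' R g := by
  induction h with
  | nil R => exact PChain.nil R
  | cons R T x g hS hRT _ ih => exact PChain.cons R T x g (himp T x hS) hRT ih

end PChain

/-- `g` is, up to an element centralizing `R`, a restricted chain of conjugations starting at
`R`. -/
def PGood (𝓢 : Subgroup G → G → Prop) (R : Subgroup G) (g : G) : Prop :=
  ∃ c ∈ Subgroup.centralizer (R : Set G), ∃ g' : G, g = c * g' ∧ PChain 𝓢 R g'

namespace PGood

variable {𝓢 : Subgroup G → G → Prop} {R : Subgroup G} {g : G}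

theorem of_chain (h : PChain 𝓢 R g) : PGood 𝓢 R g :=
  ⟨1, one_mem _, g, (one_mul g).symm, h⟩

theorem mono {R' : Subgroup G} (h : PGood 𝓢 R g) (hle : R' ≤ R) : PGood 𝓢 R' g := by
  obtain ⟨c, hc, g', e, hch⟩ := h
  exact ⟨c, Subgroup.centralizer_le hle hc, g', e, hch.mono hle⟩

theorem centralizer_mul {c : G} (hc : c ∈ Subgroup.centralizer (R : Set G))
    (h : PGood 𝓢 R g) : PGood 𝓢 R (c * g) := by
  obtain ⟨c', hc', g', e, hch⟩ := h
  exact ⟨c * c', mul_mem hc hc', g', by rw [e, mul_assoc], hch⟩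

theorem comp {k : G} (h : PGood 𝓢 R g) (h' : PGood 𝓢 (rc R g) k) :
    PGood 𝓢 R (g * k) := by
  obtain ⟨c, hc, g₁, e, hch⟩ := h
  have hrc : rc R g = rc R g₁ := by
    rw [e, ← rc_rc, rc_of_mem_normalizer (Subgroup.centralizer_le_normalizer _ hc)]
  rw [hrc] at h'
  obtain ⟨c', hc', k₁, e', hch'⟩ := h'
  refine ⟨c * (g₁ * c' * g₁⁻¹), mul_mem hc ?_, g₁ * k₁, by rw [e, e']; group, hch.append hch'⟩
  rw [rc_def, centralizer_cj, mem_cj, inv_inv] at hc'
  exact hc'

end PGood

theorem ConjChain.pgood_of_forall {𝓕 : Set (Subgroup G)} {𝓢 : Subgroup G → G → Prop}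
    (h : ∀ T ∈ 𝓕, ∀ x ∈ Subgroup.normalizer (T : Set G), PGood 𝓢 T x)
    {R : Subgroup G} {g : G} (hch : ConjChain 𝓕 R g) : PGood 𝓢 R g := by
  induction hch with
  | nil R => exact PGood.of_chain (PChain.nil R)
  | cons R T x g hT hx hRT _ ih => exact ((h T hT x hx).mono hRT).comp ih

end Cfsg.Agent.Lib.Helper13
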