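import Cfsg.Agent.Lib.Helper13.SAGa

set_option autoImplicit false

/-! Relative strongly `p`-embedded subgroups of normalizers (helper13). -/

namespace Cfsg.Agent.Lib.Helper13

variable {G : Type*} [Group G]

/-- `M` is strongly `p`-embedded in `N_G(T)` relative to `T`. -/
def RelSE (p : ℕ) (T M : Subgroup G) : Prop :=
  T ≤ M ∧ M ≤ Subgroup.normalizer (T : Set G) ∧ M ≠ Subgroup.normalizer (T : Set G) ∧
    p ∣ T.relIndex M ∧
    ∀ g ∈ Subgroup.normalizer (T : Set G), g ∉ M →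
      ¬ p ∣ T.relIndex (M ⊓ M.map (MulAut.conj g).toMonoidHom)

/-- The subgroup of `N` generated by the `N_N(D)` with `T < D ≤ S`. -/
def genNorm (T S N : Subgroup G) : Subgroup G :=
  ⨆ D : {D : Subgroup G // T ≤ D ∧ Nat.card ↥T < Nat.card ↥D ∧ D ≤ S},
    N ⊓ Subgroup.normalizer ((D : Subgroup G) : Set G)

theorem genNorm_le (T S N : Subgroup G) : genNorm T S N ≤ N :=
  iSup_le fun _ => inf_le_left

theorem le_genNorm {T S N D : Subgroup G} (h1 : T ≤ D) (h2 : Nat.card ↥T < Nat.card ↥D)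
    (h3 : D ≤ S) : N ⊓ Subgroup.normalizer (D : Set G) ≤ genNorm T S N :=
  le_iSup (fun D : {D : Subgroup G // T ≤ D ∧ Nat.card ↥T < Nat.card ↥D ∧ D ≤ S} =>
    N ⊓ Subgroup.normalizer ((D : Subgroup G) : Set G)) ⟨D, h1, h2, h3⟩

theorem sag_card_mul_relIndex {A B : Subgroup G} (h : A ≤ B) :
    Nat.card ↥A * A.relIndex B = Nat.card ↥B := by
  have := Subgroup.relIndex_mul_relIndex ⊥ A B bot_le h
  rwa [Subgroup.relIndex_bot_left, Subgroup.relIndex_bot_left] at this

section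

variable [Finite G] {p : ℕ} [Fact p.Prime]

theorem not_dvd_relIndex_of_le {S M N : Subgroup G} (hSM : S ≤ M) (hMN : M ≤ N)
    (h : ¬ p ∣ S.relIndex N) : ¬ p ∣ S.relIndex M := by
  intro hd
  apply h
  rw [← Subgroup.relIndex_mul_relIndex S M N hSM hMN]
  exact dvd_mul_of_dvd_left hd _

theorem mem_genNorm_of_le_inf {T S N : Subgroup G}
    (hN : N = Subgroup.normalizer (T : Set G)) (hS : IsPGroup p ↥S) (hSN : S ≤ N)
    (hSi : ¬ p ∣ S.relIndex N) (hTS : T ≤ S) (hTSc : Nat.card ↥T < Nat.card ↥S) :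
    ∀ (k : ℕ) (U : Subgroup G) (g : G), Nat.card ↥S - Nat.card ↥U < k → g ∈ N → T ≤ U →
      Nat.card ↥T < Nat.card ↥U → IsPGroup p ↥U → U ≤ genNorm T S N →
      U ≤ (genNorm T S N).map (MulAut.conj g).toMonoidHom → g ∈ genNorm T S N := by
  obtain ⟨M, hM⟩ : ∃ M : Subgroup G, M = genNorm T S N := ⟨_, rfl⟩
  rw [← hM]
  have hMN : M ≤ N := hM ▸ genNorm_le T S N
  have hSM : S ≤ M := by
    rw [hM]
    exact (le_inf hSN Subgroup.le_normalizer).trans (le_genNorm hTS hTSc le_rfl)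
  have hSiM : ¬ p ∣ S.relIndex M := not_dvd_relIndex_of_le hSM hMN hSi
  have hcjN : ∀ n ∈ N, ∀ A : Subgroup G, A ≤ N → A.map (MulAut.conj n).toMonoidHom ≤ N := by
    intro n hn A hA
    rintro _ ⟨a, ha, rfl⟩
    exact mul_mem (mul_mem hn (hA ha)) (inv_mem hn)
  have hcjT : ∀ n ∈ N, T.map (MulAut.conj n).toMonoidHom = T := by
    intro n hn
    exact mem_normalizer_iff_cj_eq.mp (hN ▸ hn)
  intro k
  induction k with
  | zero => intro U g h; exact absurd h (Nat.not_lt_zero _)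
  | succ k ih =>
    intro U g hk hgN hTU hTUc hUp hUM hUg
    -- move `U` into `S`
    obtain ⟨m, hm, hmU⟩ := exists_mem_cj_le_of_relIndex hSM hS hSiM hUM hUp
    obtain ⟨U₁, hU₁⟩ : ∃ U₁ : Subgroup G, U₁ = U.map (MulAut.conj m).toMonoidHom := ⟨_, rfl⟩
    rw [← hU₁] at hmU
    have hU₁c : Nat.card ↥U₁ = Nat.card ↥U := by rw [hU₁, card_cj]
    have hU₁p : IsPGroup p ↥U₁ := hU₁ ▸ isPGroup_cj m hUp
    have hTU₁ : T ≤ U₁ := by
      rw [hU₁, ← hcjT m (hMN hm)]
      exact cj_mono hTU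
    have hU₁g : U₁ ≤ M.map (MulAut.conj (m * g)).toMonoidHom := by
      rw [hU₁, ← cj_cj]
      exact cj_mono hUg
    -- move into `S ∩ S^{g₂}`
    have h1 : U₁.map (MulAut.conj (m * g)⁻¹).toMonoidHom ≤ M := by
      rw [cj_le_iff, inv_inv]
      exact hU₁g
    obtain ⟨m', hm', hm'U⟩ := exists_mem_cj_le_of_relIndex hSM hS hSiM h1
      (isPGroup_cj _ hU₁p)
    rw [cj_cj] at hm'U
    obtain ⟨g₂, hg₂⟩ : ∃ g₂ : G, g₂ = m * g * m'⁻¹ := ⟨_, rfl⟩
    have hg₂' : m' * (m * g)⁻¹ = g₂⁻¹ := by rw [hg₂]; group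
    rw [hg₂', cj_le_iff, inv_inv] at hm'U
    have hg₂N : g₂ ∈ N := by
      rw [hg₂]
      exact mul_mem (mul_mem (hMN hm) hgN) (inv_mem (hMN hm'))
    have hback : g₂ ∈ M → g ∈ M := by
      intro h
      have e : g = m⁻¹ * g₂ * m' := by rw [hg₂]; group
      rw [e]
      exact mul_mem (mul_mem (inv_mem hm) h) hm'
    apply hback
    by_cases hUS : U₁ = S
    · -- `g₂` normalizes `S`
      rw [hUS] at hm'U
      have h2 : S.map (MulAut.conj g₂⁻¹).toMonoidHom ≤ S := by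
        rw [cj_le_iff, inv_inv]
        exact hm'U
      have h3 : g₂⁻¹ ∈ Subgroup.normalizer (S : Set G) := mem_normalizer_of_cj_le h2
      have h4 : g₂ ∈ Subgroup.normalizer (S : Set G) := by
        simpa using Subgroup.inv_mem _ h3
      rw [hM]
      exact le_genNorm hTS hTSc le_rfl ⟨hg₂N, h4⟩
    · obtain ⟨S', hS'⟩ : ∃ S' : Subgroup G, S' = S.map (MulAut.conj g₂).toMonoidHom := ⟨_, rfl⟩
      rw [← hS'] at hm'U
      have hS'p : IsPGroup p ↥S' := hS' ▸ isPGroup_cj g₂ hS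
      have hS'c : Nat.card ↥S' = Nat.card ↥S := by rw [hS', card_cj]
      have hU₁lt : Nat.card ↥U₁ < Nat.card ↥S := by
        by_contra hcon
        push Not at hcon
        exact hUS (Subgroup.eq_of_le_of_card_ge hmU hcon)
      have hne : U₁ ≠ S' := by
        intro h
        rw [h, hS'c] at hU₁lt
        exact lt_irrefl _ hU₁lt
      have hlt := card_lt_card_inf_normalizer hS'p hm'U hne
      obtain ⟨U', hU'⟩ : ∃ U' : Subgroup G, U' = S' ⊓ Subgroup.normalizer (U₁ : Set G) :=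
        ⟨_, rfl⟩
      rw [← hU'] at hlt
      have hU'S' : U' ≤ S' := hU' ▸ inf_le_left
      have hU₁U' : U₁ ≤ U' := hU' ▸ le_inf hm'U Subgroup.le_normalizer
      have hS'N : S' ≤ N := hS' ▸ hcjN g₂ hg₂N S hSN
      have hU'c : Nat.card ↥U' ≤ Nat.card ↥S := hS'c ▸ Subgroup.card_le_of_le hU'S'
      apply ih U' g₂ (by omega) hg₂N (hTU₁.trans hU₁U') (by omega) (hS'p.to_le hU'S')
      · rw [hM]
        refine le_trans ?_ (le_genNorm hTU₁ (by omega) hmU)
        rw [hU']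
        exact le_inf (inf_le_left.trans hS'N) inf_le_right
      · exact hU'S'.trans (hS' ▸ cj_mono hSM)

/-- If the subgroup generated by the `N_N(D)`, `T < D ≤ S`, is proper in `N = N_G(T)`, then it is
strongly `p`-embedded relative to `T`. -/
theorem relSE_genNorm {T S N : Subgroup G}
    (hN : N = Subgroup.normalizer (T : Set G)) (hTp : IsPGroup p ↥T) (hS : IsPGroup p ↥S)
    (hSN : S ≤ N) (hSi : ¬ p ∣ S.relIndex N) (hTS : T ≤ S)
    (hTSc : Nat.card ↥T < Nat.card ↥S) (hne : genNorm T S N ≠ N) :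
    RelSE p T (genNorm T S N) := by
  have hSM : S ≤ genNorm T S N :=
    (le_inf hSN Subgroup.le_normalizer).trans (le_genNorm hTS hTSc le_rfl)
  have hTM : T ≤ genNorm T S N := hTS.trans hSM
  have hp : p.Prime := Fact.out
  have hdvd : ∀ {A B : Subgroup G}, A ≤ B → Nat.card ↥A < Nat.card ↥B → IsPGroup p ↥B →
      p ∣ A.relIndex B := by
    intro A B hAB hc hB
    have h1 : A.relIndex B ∣ Nat.card ↥B := Subgroup.relIndex_dvd_card A B
    obtain ⟨n, hn⟩ := IsPGroup.iff_card.mp hB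
    rw [hn] at h1
    obtain ⟨j, -, hj⟩ := (Nat.dvd_prime_pow hp).mp h1
    rcases Nat.eq_zero_or_pos j with rfl | hjpos
    · exfalso
      rw [pow_zero] at hj
      have h2 := sag_card_mul_relIndex hAB
      rw [hj, mul_one] at h2
      omega
    · rw [hj]
      exact dvd_pow_self p hjpos.ne'
  refine ⟨hTM, hN ▸ genNorm_le T S N, hN ▸ hne, ?_, ?_⟩
  · have h1 := hdvd hTS hTSc hS
    rw [← Subgroup.relIndex_mul_relIndex T S _ hTS hSM]
    exact dvd_mul_of_dvd_left h1 _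
  · intro g hg hgM hd
    apply hgM
    rw [← hN] at hg
    have hTg : T ≤ (genNorm T S N).map (MulAut.conj g).toMonoidHom := by
      have h1 : T.map (MulAut.conj g).toMonoidHom = T := mem_normalizer_iff_cj_eq.mp (hN ▸ hg)
      calc T = T.map (MulAut.conj g).toMonoidHom := h1.symm
        _ ≤ _ := cj_mono hTM
    obtain ⟨U, hTU, hUK, hUp, hUi⟩ := exists_sylow_between (p := p) (le_inf hTM hTg) hTp
    have h2 : p ∣ T.relIndex U := by
      rw [← Subgroup.relIndex_mul_relIndex T U _ hTU hUK] at hd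
      rcases (Nat.Prime.dvd_mul hp).mp hd with h | h
      · exact h
      · exact absurd h hUi
    have hTUc : Nat.card ↥T < Nat.card ↥U := by
      have h3 := sag_card_mul_relIndex hTU
      have h4 : 2 ≤ T.relIndex U := by
        have := Nat.le_of_dvd (Nat.pos_of_ne_zero (by
          intro h0
          rw [h0, mul_zero] at h3
          exact (Nat.card_pos (α := ↥U)).ne h3)) h2
        exact le_trans hp.two_le this
      have h5 : 0 < Nat.card ↥T := Nat.card_pos
      nlinarith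
    exact mem_genNorm_of_le_inf hN hS hSN hSi hTS hTSc (Nat.card ↥S - Nat.card ↥U + 1) U g
      (Nat.lt_succ_self _) hg hTU hTUc hUp (hUK.trans inf_le_left) (hUK.trans inf_le_right)

end

end Cfsg.Agent.Lib.Helper13
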