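import Cfsg.Agent.Lib.Helper13.SAGb
import Cfsg.Agent.Lib.Helper13.PResidual
import Cfsg.Agent.Lib.helper17.Op
import Cfsg.Agent.S3056
import Cfsg.Agent.S3058

set_option autoImplicit false

/-! Translation between `N_G(T)/T` and subgroups of `G` containing `T` (helper13). -/

namespace Cfsg.Agent.Lib.Helper13

open Cfsg.Agent.Lib.helper17 (opOf map_pResidual_eq_opOf)

variable {G : Type*} [Group G]

/-- The image in `N_G(T)/T` of a subgroup `Y` of `G`. -/
def qim (T Y : Subgroup G) :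
    Subgroup (↥(Subgroup.normalizer (T : Set G)) ⧸ T.subgroupOf (Subgroup.normalizer (T : Set G))) :=
  (Y.subgroupOf (Subgroup.normalizer (T : Set G))).map
    (QuotientGroup.mk' (T.subgroupOf (Subgroup.normalizer (T : Set G))))

theorem mem_qim {T Y : Subgroup G} (hTY : T ≤ Y) (n : ↥(Subgroup.normalizer (T : Set G))) :
    QuotientGroup.mk' (T.subgroupOf (Subgroup.normalizer (T : Set G))) n ∈ qim T Y ↔
      (n : G) ∈ Y := by
  constructor
  · rintro ⟨y, hy, hyn⟩
    have h1 : y⁻¹ * n ∈ T.subgroupOf (Subgroup.normalizer (T : Set G)) := by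
      rw [← QuotientGroup.eq]
      exact hyn
    have h2 : ((y⁻¹ * n : ↥(Subgroup.normalizer (T : Set G))) : G) ∈ T :=
      Subgroup.mem_subgroupOf.mp h1
    have h3 : (y : G) ∈ Y := Subgroup.mem_subgroupOf.mp hy
    have e : (n : G) = (y : G) * ((y⁻¹ * n : ↥(Subgroup.normalizer (T : Set G))) : G) := by
      simp
    rw [e]
    exact mul_mem h3 (hTY h2)
  · intro h
    exact ⟨n, Subgroup.mem_subgroupOf.mpr h, rfl⟩

theorem card_qim {T Y : Subgroup G} (hYN : Y ≤ Subgroup.normalizer (T : Set G)) :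
    Nat.card ↥(qim T Y) = T.relIndex Y := by
  unfold qim
  rw [← Subgroup.relIndex_ker, QuotientGroup.ker_mk', Subgroup.relIndex_subgroupOf hYN]

theorem qim_inf {T Y Y' : Subgroup G} (hTY : T ≤ Y) (hTY' : T ≤ Y') :
    qim T Y ⊓ qim T Y' = qim T (Y ⊓ Y') := by
  ext q
  obtain ⟨n, rfl⟩ := QuotientGroup.mk'_surjective
    (T.subgroupOf (Subgroup.normalizer (T : Set G))) q
  rw [Subgroup.mem_inf, mem_qim hTY, mem_qim hTY', mem_qim (le_inf hTY hTY'), Subgroup.mem_inf]

theorem qim_conj {T Y : Subgroup G} (hTY : T ≤ Y) (g : ↥(Subgroup.normalizer (T : Set G))) :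
    (qim T Y).map (MulAut.conj
      (QuotientGroup.mk' (T.subgroupOf (Subgroup.normalizer (T : Set G))) g)).toMonoidHom =
      qim T (Y.map (MulAut.conj (g : G)).toMonoidHom) := by
  have hT : T ≤ Y.map (MulAut.conj (g : G)).toMonoidHom := by
    have h1 : T.map (MulAut.conj (g : G)).toMonoidHom = T := mem_normalizer_iff_cj_eq.mp g.2
    calc T = T.map (MulAut.conj (g : G)).toMonoidHom := h1.symm
      _ ≤ _ := cj_mono hTY
  ext q
  obtain ⟨n, rfl⟩ := QuotientGroup.mk'_surjective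
    (T.subgroupOf (Subgroup.normalizer (T : Set G))) q
  rw [mem_cj, ← map_inv, ← map_mul, ← map_mul, mem_qim hTY, mem_qim hT, mem_cj]
  rfl

theorem qim_normal {T Y : Subgroup G}
    (hNY : Subgroup.normalizer (T : Set G) ≤ Subgroup.normalizer (Y : Set G)) :
    (qim T Y).Normal := by
  haveI : (Y.subgroupOf (Subgroup.normalizer (T : Set G))).Normal :=
    Subgroup.normal_subgroupOf_of_le_normalizer hNY
  exact Subgroup.Normal.map inferInstance _ (QuotientGroup.mk'_surjective _)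

section

variable [Finite G] {p : ℕ} [Fact p.Prime]

/-- A relatively strongly `p`-embedded subgroup gives disconnected Sylow `p`-subgroups in
`N_G(T)/T`. -/
theorem not_connected_of_relSE {T M : Subgroup G} (h : RelSE p T M) :
    ¬ Cfsg.IsSylowChainConnected p
      (↥(Subgroup.normalizer (T : Set G)) ⧸ T.subgroupOf (Subgroup.normalizer (T : Set G))) := by
  obtain ⟨hTM, hMN, hne, hd, hse⟩ := h
  apply Cfsg.Agent.S3056.backward (qim T M)
  · intro htop
    apply hne
    apply le_antisymm hMN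
    intro n hn
    have h1 : QuotientGroup.mk' (T.subgroupOf (Subgroup.normalizer (T : Set G))) ⟨n, hn⟩ ∈
        qim T M := by rw [htop]; trivial
    exact (mem_qim hTM ⟨n, hn⟩).mp h1
  · rw [card_qim hMN]
    exact hd
  · intro q hq
    obtain ⟨n, rfl⟩ := QuotientGroup.mk'_surjective
      (T.subgroupOf (Subgroup.normalizer (T : Set G))) q
    have hnM : (n : G) ∉ M := fun h => hq ((mem_qim hTM n).mpr h)
    have hT : T ≤ M.map (MulAut.conj (n : G)).toMonoidHom := by
      have h1 : T.map (MulAut.conj (n : G)).toMonoidHom = T := mem_normalizer_iff_cj_eq.mp n.2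
      calc T = T.map (MulAut.conj (n : G)).toMonoidHom := h1.symm
        _ ≤ _ := cj_mono hTM
    rw [qim_conj hTM, qim_inf hTM hT, card_qim (inf_le_left.trans hMN)]
    exact hse n n.2 hnM

/-- `X` is the smallest subgroup of `N_G(T)` over `T`, normalized by `N_G(T)`, with `p ∣ |X : T|`. -/
def IsMinOver (p : ℕ) (T X : Subgroup G) : Prop :=
  T ≤ X ∧ X ≤ Subgroup.normalizer (T : Set G) ∧
    Subgroup.normalizer (T : Set G) ≤ Subgroup.normalizer (X : Set G) ∧ p ∣ T.relIndex X ∧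
    ∀ Y : Subgroup G, T ≤ Y → Y ≤ Subgroup.normalizer (T : Set G) →
      Subgroup.normalizer (T : Set G) ≤ Subgroup.normalizer (Y : Set G) → p ∣ T.relIndex Y → X ≤ Y

theorem exists_isMinOver {T : Subgroup G}
    (hconn : ¬ Cfsg.IsSylowChainConnected p
      (↥(Subgroup.normalizer (T : Set G)) ⧸ T.subgroupOf (Subgroup.normalizer (T : Set G))))
    (hd : p ∣ T.relIndex (Subgroup.normalizer (T : Set G))) : ∃ X : Subgroup G, IsMinOver p T X := by
  obtain ⟨𝒴, h𝒴⟩ : ∃ 𝒴 : Set (Subgroup G), 𝒴 = {Y | T ≤ Y ∧ Y ≤ Subgroup.normalizer (T : Set G) ∧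
      Subgroup.normalizer (T : Set G) ≤ Subgroup.normalizer (Y : Set G) ∧ p ∣ T.relIndex Y} :=
    ⟨_, rfl⟩
  have hNmem : Subgroup.normalizer (T : Set G) ∈ 𝒴 := by
    rw [h𝒴]
    exact ⟨Subgroup.le_normalizer, le_rfl, Subgroup.le_normalizer, hd⟩
  obtain ⟨X, hX, hmin⟩ := Set.exists_min_image 𝒴 (fun Y => Nat.card ↥Y) (Set.toFinite 𝒴)
    ⟨_, hNmem⟩
  rw [h𝒴] at hX
  obtain ⟨hTX, hXN, hNX, hdX⟩ := hX
  refine ⟨X, hTX, hXN, hNX, hdX, ?_⟩
  intro Y hTY hYN hNY hdY
  have hmem : X ⊓ Y ∈ 𝒴 := by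
    rw [h𝒴]
    refine ⟨le_inf hTX hTY, inf_le_left.trans hXN, ?_, ?_⟩
    · exact (le_inf hNX hNY).trans Subgroup.inf_normalizer_le_normalizer_inf
    · haveI := qim_normal hNX
      haveI := qim_normal hNY
      have h1 := Cfsg.Agent.S3058.result p hconn (qim T X) (qim T Y)
        (by rw [card_qim hXN]; exact hdX) (by rw [card_qim hYN]; exact hdY)
      rwa [qim_inf hTX hTY, card_qim (inf_le_left.trans hXN)] at h1
  have h2 := hmin _ hmem
  have h3 : X ⊓ Y = X := Subgroup.eq_of_le_of_card_ge inf_le_left h2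
  rw [← h3]
  exact inf_le_right

theorem card_lt_of_dvd_relIndex {A B : Subgroup G} (hAB : A ≤ B) (hd : p ∣ A.relIndex B) :
    Nat.card ↥A < Nat.card ↥B := by
  have hp : p.Prime := Fact.out
  have h3 := sag_card_mul_relIndex hAB
  have h4 : 2 ≤ A.relIndex B := by
    have := Nat.le_of_dvd (Nat.pos_of_ne_zero (by
      intro h0
      rw [h0, mul_zero] at h3
      exact (Nat.card_pos (α := ↥B)).ne h3)) hd
    exact le_trans hp.two_le this
  have h5 : 0 < Nat.card ↥A := Nat.card_pos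
  nlinarith

/-- Frattini decomposition of `N_G(T)` along the smallest normal subgroup `X`. -/
theorem exists_opOf_mul {T X S : Subgroup G} (hX : IsMinOver p T X) (hS : IsPGroup p ↥S)
    (hSN : S ≤ Subgroup.normalizer (T : Set G))
    (hSi : ¬ p ∣ S.relIndex (Subgroup.normalizer (T : Set G))) (hTS : T ≤ S) {x : G}
    (hx : x ∈ Subgroup.normalizer (T : Set G)) :
    T ≤ S ⊓ X ∧ Nat.card ↥T < Nat.card ↥(S ⊓ X) ∧
      ∃ x₁ ∈ opOf p X, ∃ n' ∈ Subgroup.normalizer (T : Set G) ⊓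
        Subgroup.normalizer ((S ⊓ X : Subgroup G) : Set G), x = x₁ * n' := by
  obtain ⟨hTX, hXN, hNX, hdX, -⟩ := hX
  have hp : p.Prime := Fact.out
  have hDp : IsPGroup p ↥(S ⊓ X) := hS.to_le inf_le_left
  have hDi : ¬ p ∣ (S ⊓ X).relIndex X := not_dvd_relIndex_inf_of_normal hXN hNX hSi
  have hTD : T ≤ S ⊓ X := le_inf hTS hTX
  refine ⟨hTD, ?_, ?_⟩
  · apply card_lt_of_dvd_relIndex (p := p) hTD
    rw [← Subgroup.relIndex_mul_relIndex T (S ⊓ X) X hTD inf_le_right] at hdX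
    rcases (Nat.Prime.dvd_mul hp).mp hdX with h | h
    · exact h
    · exact absurd h hDi
  · obtain ⟨j, hj, hjx⟩ := exists_mul_mem_normalizer_of_relIndex inf_le_right hDp hDi (hNX hx)
    have hQ : ¬ p ∣ ((S ⊓ X).subgroupOf X).index := hDi
    obtain ⟨q, hq, m, hm, hjqm⟩ := exists_mul_of_sylow_pResidual ((S ⊓ X).subgroupOf X) hQ
      (⟨j, hj⟩ : ↥X)
    have hmO : ((m⁻¹ : ↥X) : G) ∈ opOf p X := by
      rw [← map_pResidual_eq_opOf]
      exact ⟨m⁻¹, inv_mem hm, rfl⟩
    have hqD : (q : G) ∈ S ⊓ X := Subgroup.mem_subgroupOf.mp hq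
    have hjE : j = (q : G) * (m : G) := by
      have := congrArg Subtype.val hjqm
      simpa using this
    refine ⟨((m⁻¹ : ↥X) : G), hmO, (q : G)⁻¹ * (j * x), Subgroup.mem_inf.mpr ⟨?_, ?_⟩, ?_⟩
    · exact mul_mem (inv_mem (hSN (Subgroup.mem_inf.mp hqD).1)) (mul_mem (hXN hj) hx)
    · exact mul_mem (inv_mem (Subgroup.le_normalizer hqD)) hjx
    · rw [hjE]
      simp only [InvMemClass.coe_inv]
      group

end

end Cfsg.Agent.Lib.Helper13
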