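import Cfsg.Agent.Lib.Helper13.SAGc

set_option autoImplicit false

/-! The strong Alperin–Goldschmidt family and the main induction (helper13). -/

namespace Cfsg.Agent.Lib.Helper13

open Cfsg.Agent.Lib.Helper10 (coreOf coreOf_le coreOf_card_coprime coreOf_normalizer_le)
open Cfsg.Agent.Lib.helper17 (opOf opOf_le)

variable {G : Type*} [Group G]

/-- The strong Alperin–Goldschmidt family: fully normalized, centric, `O_{p',p}(N(H)) = H C(H)`,
and `N(H)/H` has a strongly `p`-embedded subgroup. -/
def sagFamily (p : ℕ) (P : Subgroup G) : Set (Subgroup G) :=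
  {H | H ≤ P ∧
    ¬ p ∣ (P ⊓ Subgroup.normalizer (H : Set G)).relIndex (Subgroup.normalizer (H : Set G)) ∧
    P ⊓ Subgroup.centralizer (H : Set G) ≤ H ∧
    ppcOf p (Subgroup.normalizer (H : Set G)) = H ⊔ Subgroup.centralizer (H : Set G) ∧
    ∃ M : Subgroup G, RelSE p H M}

/-- An essential step: `x ∈ O^p(X)`, `X/H` the smallest normal subgroup of `N(H)/H` of order
divisible by `p`. -/
def sagStep (p : ℕ) (P H : Subgroup G) (x : G) : Prop :=
  H ∈ sagFamily p P ∧ ∃ X : Subgroup G, IsMinOver p H X ∧ x ∈ opOf p X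

/-- An essential step or a step in `N_G(P)`. -/
def sagStep' (p : ℕ) (P H : Subgroup G) (x : G) : Prop :=
  sagStep p P H x ∨ (H = P ∧ x ∈ Subgroup.normalizer (P : Set G))

section

variable [Finite G] {p : ℕ} [Fact p.Prime]

theorem sag_of_mem_normalizer (P : Sylow p G) {T : Subgroup G}
    (hT : T ∈ fullyNormalized p (P : Subgroup G))
    (hΨ : ∀ B : Subgroup G, B ≤ (P : Subgroup G) → Nat.card ↥T < Nat.card ↥B → ∀ g : G,
      rc B g ≤ (P : Subgroup G) → PGood (sagStep' p (P : Subgroup G)) B g) :
    ∀ x ∈ Subgroup.normalizer (T : Set G), PGood (sagStep' p (P : Subgroup G)) T x := by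
  intro x hx
  have hTP := hT.1
  have hTfn := hT.2
  have hTp : IsPGroup p ↥T := P.isPGroup'.to_le hTP
  obtain ⟨C, hC⟩ : ∃ C : Subgroup G, C = Subgroup.centralizer (T : Set G) := ⟨_, rfl⟩
  obtain ⟨N, hN⟩ : ∃ N : Subgroup G, N = Subgroup.normalizer (T : Set G) := ⟨_, rfl⟩
  have hCN : C ≤ N := by rw [hC, hN]; exact Subgroup.centralizer_le_normalizer _
  have hNC : N ≤ Subgroup.normalizer (C : Set G) := by
    rw [hC, hN]; exact gs_normalizer_le_normalizer_centralizer T
  have hTN : T ≤ N := hN ▸ Subgroup.le_normalizer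
  have hNT : N ≤ Subgroup.normalizer (T : Set G) := hN ▸ le_rfl
  have hxN : x ∈ N := hN ▸ hx
  rw [← hN] at hTfn
  -- a general reduction step
  have step : ∀ (L S : Subgroup G), L ≤ N → N ≤ Subgroup.normalizer (L : Set G) →
      S = ((P : Subgroup G) ⊓ N) ⊓ L → T ≤ S → ¬ S ≤ T →
      (∀ j ∈ L, ∃ c ∈ Subgroup.centralizer (T : Set G), ∃ s ∈ S, j = c * s) →
      PGood (sagStep' p (P : Subgroup G)) T x := by
    intro L S hLN hNL hS hTS hST hdec
    have hSL : S ≤ L := hS ▸ inf_le_right
    have hSP : S ≤ (P : Subgroup G) := hS ▸ inf_le_left.trans inf_le_left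
    have hSp : IsPGroup p ↥S := P.isPGroup'.to_le hSP
    have hSi : ¬ p ∣ S.relIndex L := by
      rw [hS]; exact not_dvd_relIndex_inf_of_normal hLN hNL hTfn
    obtain ⟨j, hj, hjx⟩ := exists_mul_mem_normalizer_of_relIndex hSL hSp hSi (hNL hxN)
    obtain ⟨c, hc, s, hs, hjcs⟩ := hdec j⁻¹ (inv_mem hj)
    have hy : s * (j * x) ∈ Subgroup.normalizer (S : Set G) :=
      mul_mem (Subgroup.le_normalizer hs) hjx
    have h1 : rc S (s * (j * x)) ≤ (P : Subgroup G) := by
      rw [rc_of_mem_normalizer hy]; exact hSP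
    have h2 := (hΨ S hSP (card_lt_of_not_le hTS hST) _ h1).mono hTS
    have h3 := h2.centralizer_mul hc
    have e : c * (s * (j * x)) = x := by
      calc c * (s * (j * x)) = (c * s) * (j * x) := by group
        _ = j⁻¹ * (j * x) := by rw [hjcs]
        _ = x := by group
    rwa [e] at h3
  by_cases h1 : (P : Subgroup G) ⊓ (T ⊔ C) ≤ T
  · obtain ⟨K, hK⟩ : ∃ K : Subgroup G, K = ppcOf p N := ⟨_, rfl⟩
    by_cases h2 : (P : Subgroup G) ⊓ K ≤ T
    · have hmem : T ∈ gsFamily p (P : Subgroup G) :=
        mem_gsFamily_of P hT (hC ▸ h1) (by rw [← hN, ← hK]; exact h2)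
      by_cases hTeq : T = (P : Subgroup G)
      · exact PGood.of_chain (PChain.single (Or.inr ⟨hTeq, hTeq ▸ hx⟩) le_rfl)
      · -- the essential case analysis
        obtain ⟨S, hS⟩ : ∃ S : Subgroup G, S = (P : Subgroup G) ⊓ N := ⟨_, rfl⟩
        have hSP : S ≤ (P : Subgroup G) := hS ▸ inf_le_left
        have hSN : S ≤ N := hS ▸ inf_le_right
        have hSp : IsPGroup p ↥S := P.isPGroup'.to_le hSP
        have hSi : ¬ p ∣ S.relIndex N := hS ▸ hTfn
        have hTS : T ≤ S := hS ▸ le_inf hTP hTN
        have hTSc : Nat.card ↥T < Nat.card ↥S := by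
          rw [hS, hN]
          exact card_lt_card_inf_normalizer P.isPGroup' hTP hTeq
        by_cases hM : genNorm T S N = N
        · have key : ∀ z ∈ genNorm T S N,
              z ∈ N ∧ PGood (sagStep' p (P : Subgroup G)) T z := by
            intro z hz
            unfold genNorm at hz
            refine Subgroup.iSup_induction _
              (C := fun z => z ∈ N ∧ PGood (sagStep' p (P : Subgroup G)) T z) hz ?_ ?_ ?_
            · rintro ⟨D, hD1, hD2, hD3⟩ z hz
              have hz' : z ∈ N ⊓ Subgroup.normalizer (D : Set G) := hz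
              have hzD : z ∈ Subgroup.normalizer (D : Set G) := (Subgroup.mem_inf.mp hz').2
              refine ⟨(Subgroup.mem_inf.mp hz').1, ?_⟩
              have h3 : rc D z ≤ (P : Subgroup G) := by
                rw [rc_of_mem_normalizer hzD]; exact hD3.trans hSP
              exact (hΨ D (hD3.trans hSP) hD2 z h3).mono hD1
            · exact ⟨one_mem _, PGood.of_chain (PChain.nil T)⟩
            · intro a b ha hb
              refine ⟨mul_mem ha.1 hb.1, ha.2.comp ?_⟩
              rw [rc_of_mem_normalizer (hNT ha.1)]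
              exact hb.2
          exact (key x (by rw [hM]; exact hxN)).2
        · have hSE : RelSE p T (genNorm T S N) :=
            relSE_genNorm hN hTp hSp hSN hSi hTS hTSc hM
          have hfam : T ∈ sagFamily p (P : Subgroup G) := by
            refine ⟨hTP, hT.2, ?_, ?_, ⟨_, hSE⟩⟩
            · rw [← hC]
              exact (inf_le_inf_left _ le_sup_right).trans h1
            · obtain ⟨-, hCK, hOK, hTK, hcomm, -, hsup⟩ := hmem
              rw [← hC]
              apply le_antisymm
              · rw [← hsup]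
                refine sup_le ?_ le_sup_left
                refine le_trans ?_ le_sup_right
                intro o ho
                rw [hC, Subgroup.mem_centralizer_iff]
                intro t ht
                exact (hcomm o ho t ht).symm
              · exact sup_le hTK (hC ▸ hCK)
          have hconn := not_connected_of_relSE hSE
          have hd : p ∣ T.relIndex (Subgroup.normalizer (T : Set G)) := by
            obtain ⟨hTM, hMN, -, hd, -⟩ := hSE
            rw [← Subgroup.relIndex_mul_relIndex T _ _ hTM hMN]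
            exact dvd_mul_of_dvd_left hd _
          obtain ⟨X, hX⟩ := exists_isMinOver hconn hd
          obtain ⟨hTD, hTDc, x₁, hx₁, n', hn', rfl⟩ :=
            exists_opOf_mul hX hSp (hN ▸ hSN) (hN ▸ hSi) hTS hx
          have hx₁N : x₁ ∈ Subgroup.normalizer (T : Set G) := hX.2.1 (opOf_le p X hx₁)
          have g1 : PGood (sagStep' p (P : Subgroup G)) T x₁ :=
            PGood.of_chain (PChain.single (Or.inl ⟨hfam, X, hX, hx₁⟩) le_rfl)
          apply g1.comp
          rw [rc_of_mem_normalizer hx₁N]
          have hn'D : n' ∈ Subgroup.normalizer ((S ⊓ X : Subgroup G) : Set G) :=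
            (Subgroup.mem_inf.mp hn').2
          have hDP : S ⊓ X ≤ (P : Subgroup G) := inf_le_left.trans hSP
          have h3 : rc (S ⊓ X) n' ≤ (P : Subgroup G) := by
            rw [rc_of_mem_normalizer hn'D]; exact hDP
          exact (hΨ (S ⊓ X) hDP hTDc n' h3).mono hTD
    · have hTK : T ≤ K := hK ▸ le_ppcOf hTN hNT hTp
      have hKN : K ≤ N := hK ▸ ppcOf_le p N
      have hNK : N ≤ Subgroup.normalizer (K : Set G) := hK ▸ le_normalizer_ppcOf p N
      apply step K (((P : Subgroup G) ⊓ N) ⊓ K) hKN hNK rfl (le_inf (le_inf hTP hTN) hTK)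
      · intro hle
        apply h2
        exact (le_inf (le_inf inf_le_left (inf_le_right.trans hKN)) inf_le_right).trans hle
      · intro j hj
        have hSi : ¬ p ∣ (((P : Subgroup G) ⊓ N) ⊓ K).relIndex K :=
          not_dvd_relIndex_inf_of_normal hKN hNK hTfn
        have hj' : j ∈ ((P : Subgroup G) ⊓ N) ⊓ K ⊔ coreOf p N := by
          rw [sup_comm]
          have := ppcOf_le_sup (p := p) (N := N) (S := ((P : Subgroup G) ⊓ N) ⊓ K)
            (by rw [← hK]; exact hSi)
          exact this (hK ▸ hj)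
        obtain ⟨o, ho, s, hs, e⟩ := mem_sup_of_le_normalizer'
          ((inf_le_left.trans inf_le_right).trans (le_normalizer_coreOf p N)) hj'
        refine ⟨o, ?_, s, hs, e⟩
        rw [Subgroup.mem_centralizer_iff]
        intro t ht
        exact (comm_coreOf_of_normal_pgroup hTN hNT hTp o ho t ht).symm
  · have hTCN : T ⊔ C ≤ N := sup_le hTN hCN
    have hNTC : N ≤ Subgroup.normalizer ((T ⊔ C : Subgroup G) : Set G) := fun n hn =>
      Subgroup.normalizer_inf_normalizer_le_normalizer_sup T C ⟨hNT hn, hNC hn⟩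
    apply step (T ⊔ C) (((P : Subgroup G) ⊓ N) ⊓ (T ⊔ C)) hTCN hNTC rfl
      (le_inf (le_inf hTP hTN) le_sup_left)
    · intro hle
      apply h1
      exact (le_inf (le_inf inf_le_left (inf_le_right.trans hTCN)) inf_le_right).trans hle
    · intro j hj
      obtain ⟨c, hc, t, ht, e⟩ := mem_sup_of_le_normalizer' (hTN.trans hNC) hj
      exact ⟨c, hC ▸ hc, t, le_inf (le_inf hTP hTN) le_sup_left ht, e⟩

theorem sag_of_le_aux (P : Sylow p G) :
    ∀ (d : ℕ) (A : Subgroup G), A ≤ (P : Subgroup G) →
      Nat.card ↥(P : Subgroup G) - Nat.card ↥A < d → ∀ g : G, rc A g ≤ (P : Subgroup G) →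
      PGood (sagStep' p (P : Subgroup G)) A g := by
  intro d
  induction d with
  | zero => intro A _ h; exact absurd h (Nat.not_lt_zero _)
  | succ d ih =>
    intro A hAP hcard g hg
    have hch := (conjChain_fullyNormalized P A hAP g hg).restrict_card
    apply ConjChain.pgood_of_forall _ hch
    rintro T ⟨hT, hAT⟩ x hx
    exact sag_of_mem_normalizer P hT
      (fun B hBP hTB g' hg' => ih B hBP (by
        have := Subgroup.card_le_of_le hBP
        omega) g' hg') x hx

/-- The strong Alperin–Goldschmidt theorem, with `N_G(P)`-steps still inside the chain. -/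
theorem sag_of_le (P : Sylow p G) (A : Subgroup G) (hAP : A ≤ (P : Subgroup G)) (g : G)
    (hg : rc A g ≤ (P : Subgroup G)) : PGood (sagStep' p (P : Subgroup G)) A g :=
  sag_of_le_aux P _ A hAP (Nat.lt_succ_self _) g hg

end

end Cfsg.Agent.Lib.Helper13
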