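import Mathlib

/-!
# Carmichael's presentation of the alternating groups: the order bound (generic block for project SAP)

For any group `G` and `z : Fin m → G` with `z i ^ 3 = 1` and `(z i * z j) ^ 2 = 1` (`i ≠ j`), the subgroup generated by the
`z i` is finite of order at most `(m + 2)! / 2`.  Induction on `m`; the subgroup `H` generated by the first `m` generators has
at most the `m + 3` left cosets `H`, `t H`, `t⁻¹ H`, `(z i)⁻¹ t H` in the group generated by all `m + 1` (`t` the last one).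
-/

set_option autoImplicit false

namespace Cfsg.Agent.Lib.Helper13.SAPCarm

open Subgroup

variable {G : Type*} [Group G]

/-- `t a t = a⁻¹` from `(a t)² = 1` -/
theorem sap_h13_tat (a t : G) (h : (a * t) ^ 2 = 1) : t * a * t = a⁻¹ := by
  have h' : a * (t * a * t) = 1 := by
    rw [pow_two] at h
    simpa [mul_assoc] using h
  exact eq_inv_of_mul_eq_one_right h'

/-- `a t a = t⁻¹` from `(a t)² = 1` -/
theorem sap_h13_ata (a t : G) (h : (a * t) ^ 2 = 1) : a * t * a = t⁻¹ := by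
  have h' : a * t * a * t = 1 := by
    rw [pow_two] at h
    simpa [mul_assoc] using h
  exact eq_inv_of_mul_eq_one_left h'

/-- `t⁻¹ t⁻¹ = t` from `t³ = 1` -/
theorem sap_h13_inv_inv (t : G) (h : t ^ 3 = 1) : t⁻¹ * t⁻¹ = t := by
  calc t⁻¹ * t⁻¹ = t⁻¹ * t⁻¹ * t ^ 3 := by rw [h, mul_one]
    _ = t := by group

/-- `t t = t⁻¹` from `t³ = 1` -/
theorem sap_h13_sq (t : G) (h : t ^ 3 = 1) : t * t = t⁻¹ := by
  have h' : t * t * t = 1 := by rw [← h, pow_succ, pow_two]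
  calc t * t = (t * t * t) * t⁻¹ := by group
    _ = t⁻¹ := by rw [h', one_mul]

/-- `(t a)² = 1` from `(a t)² = 1` -/
theorem sap_h13_swap (a t : G) (h : (a * t) ^ 2 = 1) : (t * a) ^ 2 = 1 := by
  have h' : a * t * (a * t) = 1 := by rw [← pow_two]; exact h
  rw [pow_two]
  calc t * a * (t * a) = a⁻¹ * (a * t * (a * t)) * a := by group
    _ = 1 := by rw [h']; group

/-- `a t = t⁻¹ a⁻¹` -/
theorem sap_h13_at (a t : G) (h : (a * t) ^ 2 = 1) : a * t = t⁻¹ * a⁻¹ := by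
  have := sap_h13_ata a t h
  calc a * t = a * t * a * a⁻¹ := by group
    _ = t⁻¹ * a⁻¹ := by rw [this]

/-- identity (I1): `t⁻¹ a t a⁻¹ t = a⁻¹` -/
theorem sap_h13_I1 (a t : G) (ha : a ^ 3 = 1) (ht : t ^ 3 = 1) (h : (a * t) ^ 2 = 1) :
    t⁻¹ * a * t * a⁻¹ * t = a⁻¹ := by
  calc t⁻¹ * a * t * a⁻¹ * t = t⁻¹ * (a * t) * a⁻¹ * t := by group
    _ = t⁻¹ * (t⁻¹ * a⁻¹) * a⁻¹ * t := by rw [sap_h13_at a t h]
    _ = (t⁻¹ * t⁻¹) * (a⁻¹ * a⁻¹) * t := by group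
    _ = t * a * t := by rw [sap_h13_inv_inv t ht, sap_h13_inv_inv a ha]
    _ = a⁻¹ := sap_h13_tat a t h

/-- identity (I3): `t⁻¹ a a t⁻¹ = a` -/
theorem sap_h13_I3 (a t : G) (ha : a ^ 3 = 1) (h : (a * t) ^ 2 = 1) :
    t⁻¹ * a * a * t⁻¹ = a := by
  calc t⁻¹ * a * a * t⁻¹ = t⁻¹ * (a * a) * t⁻¹ := by group
    _ = t⁻¹ * a⁻¹ * t⁻¹ := by rw [sap_h13_sq a ha]
    _ = (t * a * t)⁻¹ := by group
    _ = a := by rw [sap_h13_tat a t h, inv_inv]

/-- identity (I5): `t⁻¹ a b a⁻¹ t = b a⁻¹` -/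
theorem sap_h13_I5 (a b t : G) (ha : a ^ 3 = 1) (ht : t ^ 3 = 1)
    (hab : (a * b) ^ 2 = 1) (hat : (a * t) ^ 2 = 1) (hbt : (b * t) ^ 2 = 1) :
    t⁻¹ * a * b * a⁻¹ * t = b * a⁻¹ := by
  have e1 : a * b = b⁻¹ * a⁻¹ := sap_h13_at a b hab
  have e2 : t⁻¹ * a * t = t * a⁻¹ := by
    calc t⁻¹ * a * t = t⁻¹ * (a * t) := by group
      _ = t⁻¹ * (t⁻¹ * a⁻¹) := by rw [sap_h13_at a t hat]
      _ = (t⁻¹ * t⁻¹) * a⁻¹ := by group
      _ = t * a⁻¹ := by rw [sap_h13_inv_inv t ht]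
  have e3 : t⁻¹ * b * t = t * b⁻¹ := by
    calc t⁻¹ * b * t = t⁻¹ * (b * t) := by group
      _ = t⁻¹ * (t⁻¹ * b⁻¹) := by rw [sap_h13_at b t hbt]
      _ = (t⁻¹ * t⁻¹) * b⁻¹ := by group
      _ = t * b⁻¹ := by rw [sap_h13_inv_inv t ht]
  calc t⁻¹ * a * b * a⁻¹ * t = t⁻¹ * (a * b) * a⁻¹ * t := by group
    _ = t⁻¹ * (b⁻¹ * a⁻¹) * a⁻¹ * t := by rw [e1]
    _ = t⁻¹ * b⁻¹ * (a⁻¹ * a⁻¹) * t := by group
    _ = t⁻¹ * b⁻¹ * a * t := by rw [sap_h13_inv_inv a ha]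
    _ = (t⁻¹ * b * t)⁻¹ * (t⁻¹ * a * t) := by group
    _ = (t * b⁻¹)⁻¹ * (t * a⁻¹) := by rw [e2, e3]
    _ = b * a⁻¹ := by group

/-- the coset representatives -/
def sap_h13_rep {m : ℕ} (z : Fin (m + 1) → G) : Fin 3 ⊕ Fin m → G
  | Sum.inl 0 => 1
  | Sum.inl 1 => z (Fin.last m)
  | Sum.inl 2 => (z (Fin.last m))⁻¹
  | Sum.inr i => (z i.castSucc)⁻¹ * z (Fin.last m)

/-- the table property of an element `s`: left multiplication by `s` permutes the cosets `ρ x H` -/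
def sap_h13_Tab {m : ℕ} (z : Fin (m + 1) → G) (H : Subgroup G) (s : G) : Prop :=
  ∀ x : Fin 3 ⊕ Fin m, ∃ y : Fin 3 ⊕ Fin m, (sap_h13_rep z y)⁻¹ * s * sap_h13_rep z x ∈ H

theorem sap_h13_Tab_mul {m : ℕ} (z : Fin (m + 1) → G) (H : Subgroup G) (s s' : G)
    (hs : sap_h13_Tab z H s) (hs' : sap_h13_Tab z H s') : sap_h13_Tab z H (s * s') := by
  intro x
  obtain ⟨y, hy⟩ := hs' x
  obtain ⟨w, hw⟩ := hs y
  refine ⟨w, ?_⟩
  have : (sap_h13_rep z w)⁻¹ * (s * s') * sap_h13_rep z x =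
      ((sap_h13_rep z w)⁻¹ * s * sap_h13_rep z y) * ((sap_h13_rep z y)⁻¹ * s' * sap_h13_rep z x) := by
    group
  rw [this]
  exact H.mul_mem hw hy

/-- the table for the last generator -/
theorem sap_h13_Tab_last {m : ℕ} (z : Fin (m + 1) → G) (h3 : ∀ i, z i ^ 3 = 1)
    (h2 : ∀ i j, i ≠ j → (z i * z j) ^ 2 = 1) :
    sap_h13_Tab z (closure (Set.range fun i : Fin m => z i.castSucc)) (z (Fin.last m)) := by
  set t := z (Fin.last m) with ht
  set H := closure (Set.range fun i : Fin m => z i.castSucc) with hH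
  have hzH : ∀ i : Fin m, z i.castSucc ∈ H := fun i => subset_closure ⟨i, rfl⟩
  intro x
  match x with
  | Sum.inl 0 =>
    refine ⟨Sum.inl 1, ?_⟩
    show t⁻¹ * t * 1 ∈ H
    rw [mul_one, inv_mul_cancel]
    exact H.one_mem
  | Sum.inl 1 =>
    refine ⟨Sum.inl 2, ?_⟩
    show (t⁻¹)⁻¹ * t * t ∈ H
    have : (t⁻¹)⁻¹ * t * t = t ^ 3 := by rw [inv_inv, pow_succ, pow_two]
    rw [this, h3]
    exact H.one_mem
  | Sum.inl 2 =>
    refine ⟨Sum.inl 0, ?_⟩
    show (1 : G)⁻¹ * t * t⁻¹ ∈ H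
    have : (1 : G)⁻¹ * t * t⁻¹ = 1 := by group
    rw [this]
    exact H.one_mem
  | Sum.inr i =>
    refine ⟨Sum.inr i, ?_⟩
    show ((z i.castSucc)⁻¹ * t)⁻¹ * t * ((z i.castSucc)⁻¹ * t) ∈ H
    have hne : i.castSucc ≠ Fin.last m := Fin.castSucc_ne_last i
    have : ((z i.castSucc)⁻¹ * t)⁻¹ * t * ((z i.castSucc)⁻¹ * t) =
        t⁻¹ * z i.castSucc * t * (z i.castSucc)⁻¹ * t := by group
    rw [this, sap_h13_I1 _ _ (h3 _) (h3 _) (h2 _ _ hne)]
    exact H.inv_mem (hzH i)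

/-- the table for the other generators -/
theorem sap_h13_Tab_cast {m : ℕ} (z : Fin (m + 1) → G) (h3 : ∀ i, z i ^ 3 = 1)
    (h2 : ∀ i j, i ≠ j → (z i * z j) ^ 2 = 1) (j : Fin m) :
    sap_h13_Tab z (closure (Set.range fun i : Fin m => z i.castSucc)) (z j.castSucc) := by
  set t := z (Fin.last m) with ht
  set H := closure (Set.range fun i : Fin m => z i.castSucc) with hH
  have hzH : ∀ i : Fin m, z i.castSucc ∈ H := fun i => subset_closure ⟨i, rfl⟩
  have hne : ∀ i : Fin m, i.castSucc ≠ Fin.last m := fun i => Fin.castSucc_ne_last i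
  intro x
  match x with
  | Sum.inl 0 =>
    refine ⟨Sum.inl 0, ?_⟩
    show (1 : G)⁻¹ * z j.castSucc * 1 ∈ H
    rw [inv_one, one_mul, mul_one]
    exact hzH j
  | Sum.inl 1 =>
    refine ⟨Sum.inl 2, ?_⟩
    show (t⁻¹)⁻¹ * z j.castSucc * t ∈ H
    rw [inv_inv, sap_h13_tat _ _ (h2 _ _ (hne j))]
    exact H.inv_mem (hzH j)
  | Sum.inl 2 =>
    refine ⟨Sum.inr j, ?_⟩
    show ((z j.castSucc)⁻¹ * t)⁻¹ * z j.castSucc * t⁻¹ ∈ H
    have : ((z j.castSucc)⁻¹ * t)⁻¹ * z j.castSucc * t⁻¹ = t⁻¹ * z j.castSucc * z j.castSucc * t⁻¹ := by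
      group
    rw [this, sap_h13_I3 _ _ (h3 _) (h2 _ _ (hne j))]
    exact hzH j
  | Sum.inr i =>
    by_cases hij : i = j
    · subst hij
      refine ⟨Sum.inl 1, ?_⟩
      show t⁻¹ * z i.castSucc * ((z i.castSucc)⁻¹ * t) ∈ H
      have : t⁻¹ * z i.castSucc * ((z i.castSucc)⁻¹ * t) = 1 := by group
      rw [this]
      exact H.one_mem
    · refine ⟨Sum.inr i, ?_⟩
      show ((z i.castSucc)⁻¹ * t)⁻¹ * z j.castSucc * ((z i.castSucc)⁻¹ * t) ∈ H
      have hne' : i.castSucc ≠ j.castSucc := fun h => hij (Fin.castSucc_injective m h)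
      have : ((z i.castSucc)⁻¹ * t)⁻¹ * z j.castSucc * ((z i.castSucc)⁻¹ * t) =
          t⁻¹ * z i.castSucc * z j.castSucc * (z i.castSucc)⁻¹ * t := by group
      rw [this, sap_h13_I5 _ _ _ (h3 _) (h3 _) (h2 _ _ hne') (h2 _ _ (hne i)) (h2 _ _ (hne j))]
      exact H.mul_mem (hzH j) (H.inv_mem (hzH i))

/-- every element of the group generated by all `z i` lies in one of the `m + 3` cosets -/
theorem sap_h13_cover {m : ℕ} (z : Fin (m + 1) → G) (h3 : ∀ i, z i ^ 3 = 1)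
    (h2 : ∀ i j, i ≠ j → (z i * z j) ^ 2 = 1) (g : G) (hg : g ∈ closure (Set.range z)) :
    ∃ x : Fin 3 ⊕ Fin m, (sap_h13_rep z x)⁻¹ * g ∈ closure (Set.range fun i : Fin m => z i.castSucc) := by
  set H := closure (Set.range fun i : Fin m => z i.castSucc) with hH
  have hgen : ∀ i : Fin (m + 1), sap_h13_Tab z H (z i) := by
    intro i
    refine Fin.lastCases ?_ (fun j => ?_) i
    · exact sap_h13_Tab_last z h3 h2
    · exact sap_h13_Tab_cast z h3 h2 j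
  have hgeninv : ∀ i : Fin (m + 1), sap_h13_Tab z H (z i)⁻¹ := by
    intro i
    rw [← sap_h13_sq _ (h3 i)]
    exact sap_h13_Tab_mul z H _ _ (hgen i) (hgen i)
  induction hg using Subgroup.closure_induction_left with
  | one =>
    refine ⟨Sum.inl 0, ?_⟩
    show (1 : G)⁻¹ * 1 ∈ H
    rw [inv_one, one_mul]
    exact H.one_mem
  | mul_left s hs y hy ih =>
    obtain ⟨i, rfl⟩ := hs
    obtain ⟨x, hx⟩ := ih
    obtain ⟨w, hw⟩ := hgen i x
    refine ⟨w, ?_⟩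
    have : (sap_h13_rep z w)⁻¹ * (z i * y) =
        ((sap_h13_rep z w)⁻¹ * z i * sap_h13_rep z x) * ((sap_h13_rep z x)⁻¹ * y) := by group
    rw [this]
    exact H.mul_mem hw hx
  | inv_mul_cancel s hs y hy ih =>
    obtain ⟨i, rfl⟩ := hs
    obtain ⟨x, hx⟩ := ih
    obtain ⟨w, hw⟩ := hgeninv i x
    refine ⟨w, ?_⟩
    have : (sap_h13_rep z w)⁻¹ * ((z i)⁻¹ * y) =
        ((sap_h13_rep z w)⁻¹ * (z i)⁻¹ * sap_h13_rep z x) * ((sap_h13_rep z x)⁻¹ * y) := by group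
    rw [this]
    exact H.mul_mem hw hx

/-- **Carmichael's bound**: the group generated by `m` elements with `z i ^ 3 = 1`, `(z i * z j) ^ 2 = 1` is finite of
order at most `(m + 2)! / 2` (stated as `2 * card ≤ (m + 2)!`). -/
theorem sap_h13_carmichael (m : ℕ) (z : Fin m → G) (h3 : ∀ i, z i ^ 3 = 1)
    (h2 : ∀ i j, i ≠ j → (z i * z j) ^ 2 = 1) :
    Finite ↥(closure (Set.range z)) ∧ 2 * Nat.card ↥(closure (Set.range z)) ≤ (m + 2).factorial := by
  induction m with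
  | zero =>
    have : Set.range z = ∅ := Set.range_eq_empty z
    rw [this, Subgroup.closure_empty]
    refine ⟨inferInstance, ?_⟩
    simp
  | succ m ih =>
    set H := closure (Set.range fun i : Fin m => z i.castSucc) with hH
    obtain ⟨hfin, hcard⟩ := ih (fun i => z i.castSucc) (fun i => h3 _)
      (fun i j hij => h2 _ _ (fun h => hij (Fin.castSucc_injective m h)))
    set K := closure (Set.range z) with hK
    let f : (Fin 3 ⊕ Fin m) × ↥H → G := fun p => sap_h13_rep z p.1 * p.2.1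
    have hsub : (K : Set G) ⊆ Set.range f := by
      intro g hg
      obtain ⟨x, hx⟩ := sap_h13_cover z h3 h2 g hg
      refine ⟨(x, ⟨_, hx⟩), ?_⟩
      show sap_h13_rep z x * ((sap_h13_rep z x)⁻¹ * g) = g
      group
    have hKfin : (K : Set G).Finite := (Set.finite_range f).subset hsub
    have hKf : Finite ↥K := hKfin.to_subtype
    refine ⟨hKf, ?_⟩
    have h1 : Nat.card ↥K ≤ Nat.card ((Fin 3 ⊕ Fin m) × ↥H) := by
      have : Nat.card ↥K = (K : Set G).ncard := rfl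
      rw [this]
      calc (K : Set G).ncard ≤ (Set.range f).ncard := Set.ncard_le_ncard hsub (Set.finite_range f)
        _ = (f '' Set.univ).ncard := by rw [Set.image_univ]
        _ ≤ (Set.univ : Set ((Fin 3 ⊕ Fin m) × ↥H)).ncard := Set.ncard_image_le Set.finite_univ
        _ = Nat.card ((Fin 3 ⊕ Fin m) × ↥H) := Set.ncard_univ _
    have h2' : Nat.card ((Fin 3 ⊕ Fin m) × ↥H) = (m + 3) * Nat.card ↥H := by
      rw [Nat.card_prod, Nat.card_eq_fintype_card, Fintype.card_sum, Fintype.card_fin, Fintype.card_fin]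
      ring
    have h3' : (m + 1 + 2).factorial = (m + 3) * (m + 2).factorial := by
      rw [show m + 1 + 2 = (m + 2) + 1 by ring, Nat.factorial_succ]
    rw [h3']
    calc 2 * Nat.card ↥K ≤ 2 * ((m + 3) * Nat.card ↥H) := by
          rw [← h2']; exact Nat.mul_le_mul_left 2 h1
      _ = (m + 3) * (2 * Nat.card ↥H) := by ring
      _ ≤ (m + 3) * (m + 2).factorial := Nat.mul_le_mul_left _ hcard

end Cfsg.Agent.Lib.Helper13.SAPCarm
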