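/-
SDM row U6, abstract core (helper13): if a `p`-subgroup `U ≤ B` has the fixed point property
`(∀ u ∈ U, g⁻¹ u g ∈ B) → g ∈ B`, then `p ∤ [G : B]`.
-/
import Mathlib

set_option autoImplicit false

namespace Cfsg.Agent.Lib.Helper18.QBN

theorem sdmu6_smul_coe {G : Type*} [Group G] (U B : Subgroup G) (u : U) (g : G) :
    u • (g : G ⧸ B) = (((u : G) * g : G) : G ⧸ B) := rfl

theorem sdmu6_core {G : Type*} [Group G] [Finite G] (p : ℕ) [Fact p.Prime] (B U : Subgroup G)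
    (hUB : U ≤ B) (hU : IsPGroup p ↥U)
    (hfix : ∀ g : G, (∀ u ∈ U, g⁻¹ * u * g ∈ B) → g ∈ B) : ¬ p ∣ B.index := by
  intro hdvd
  have ha : ((1 : G) : G ⧸ B) ∈ MulAction.fixedPoints ↥U (G ⧸ B) := by
    intro u
    rw [sdmu6_smul_coe, QuotientGroup.eq, mul_one, mul_one]
    exact B.inv_mem (hUB u.2)
  rw [Subgroup.index_eq_card] at hdvd
  obtain ⟨b, hb, hab⟩ := hU.exists_fixed_point_of_prime_dvd_card_of_fixed_point (G ⧸ B) hdvd ha
  apply hab
  induction b using QuotientGroup.induction_on with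
  | H g =>
    rw [QuotientGroup.eq, inv_one, one_mul]
    apply hfix
    intro u hu
    have h1 := hb ⟨u⁻¹, U.inv_mem hu⟩
    rw [sdmu6_smul_coe, QuotientGroup.eq] at h1
    have e : g⁻¹ * u * g = ((u⁻¹ : G) * g)⁻¹ * g := by group
    rw [e]
    exact h1

end Cfsg.Agent.Lib.Helper18.QBN
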