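import Mathlib
import Cfsg.Prelude.Def_Classical
import Cfsg.Agent.Lib.Helper13.SDMsmallA

/-!
`Ω⁻_2`: the commutator subgroup of the isometry group of an anisotropic binary quadratic form
`z₁² + a z₁ z₂ + b z₂²` over a finite field is commutative (it consists of "rotations", the
multiplications by elements of the quadratic extension).
-/

set_option autoImplicit false

namespace Cfsg.Agent.Lib.Helper13.SDM

open Matrix

variable {F : Type*} [Field F]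

abbrev J2 : Type := (Fin 0 ⊕ Fin 0) ⊕ Fin 2

/-- rotation shape: multiplication by `x + y (-ω)` -/
def IsRt (a b : F) (M : Matrix J2 J2 F) : Prop :=
  M (Sum.inr 1) (Sum.inr 1) = M (Sum.inr 0) (Sum.inr 0) + a * M (Sum.inr 1) (Sum.inr 0) ∧
    M (Sum.inr 0) (Sum.inr 1) = - b * M (Sum.inr 1) (Sum.inr 0)

/-- reflection shape: a rotation times the conjugation -/
def IsRf (a b : F) (M : Matrix J2 J2 F) : Prop :=
  M (Sum.inr 1) (Sum.inr 1) = - M (Sum.inr 0) (Sum.inr 0) ∧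
    M (Sum.inr 0) (Sum.inr 1) = a * M (Sum.inr 0) (Sum.inr 0) + b * M (Sum.inr 1) (Sum.inr 0)

theorem mul_applyJ (M N : Matrix J2 J2 F) (i j : J2) :
    (M * N) i j = M i (Sum.inr 0) * N (Sum.inr 0) j + M i (Sum.inr 1) * N (Sum.inr 1) j := by
  rw [Matrix.mul_apply, Fintype.sum_sum_type, Fin.sum_univ_two]
  simp

theorem mulVec_applyJ (M : Matrix J2 J2 F) (v : J2 → F) (i : J2) :
    (M *ᵥ v) i = M i (Sum.inr 0) * v (Sum.inr 0) + M i (Sum.inr 1) * v (Sum.inr 1) := by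
  rw [Matrix.mulVec, dotProduct, Fintype.sum_sum_type, Fin.sum_univ_two]
  simp

theorem qm0_apply (a b : F) (v : J2 → F) :
    Cfsg.quadFormMinus 0 F a b v =
      v (Sum.inr 0) ^ 2 + a * v (Sum.inr 0) * v (Sum.inr 1) + b * v (Sum.inr 1) ^ 2 := by
  unfold Cfsg.quadFormMinus
  simp

variable {a b : F}

theorem isRt_mul {M N : Matrix J2 J2 F} (hM : IsRt a b M) (hN : IsRt a b N) : IsRt a b (M * N) := by
  obtain ⟨h1, h2⟩ := hM
  obtain ⟨h3, h4⟩ := hN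
  constructor
  · rw [mul_applyJ, mul_applyJ, mul_applyJ, h1, h2, h3, h4]; ring
  · rw [mul_applyJ, mul_applyJ, h1, h2, h3, h4]; ring

theorem isRf_mul_RF {M N : Matrix J2 J2 F} (hM : IsRt a b M) (hN : IsRf a b N) : IsRf a b (M * N) := by
  obtain ⟨h1, h2⟩ := hM
  obtain ⟨h3, h4⟩ := hN
  constructor
  · rw [mul_applyJ, mul_applyJ, h1, h2, h3, h4]; ring
  · rw [mul_applyJ, mul_applyJ, mul_applyJ, h1, h2, h3, h4]; ring

theorem isRf_mul_FR {M N : Matrix J2 J2 F} (hM : IsRf a b M) (hN : IsRt a b N) : IsRf a b (M * N) := by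
  obtain ⟨h1, h2⟩ := hM
  obtain ⟨h3, h4⟩ := hN
  constructor
  · rw [mul_applyJ, mul_applyJ, h1, h2, h3, h4]; ring
  · rw [mul_applyJ, mul_applyJ, mul_applyJ, h1, h2, h3, h4]; ring

theorem isRt_mul_FF {M N : Matrix J2 J2 F} (hM : IsRf a b M) (hN : IsRf a b N) : IsRt a b (M * N) := by
  obtain ⟨h1, h2⟩ := hM
  obtain ⟨h3, h4⟩ := hN
  constructor
  · rw [mul_applyJ, mul_applyJ, mul_applyJ, h1, h2, h3, h4]; ring
  · rw [mul_applyJ, mul_applyJ, h1, h2, h3, h4]; ring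

theorem rt_comm {M N : Matrix J2 J2 F} (hM : IsRt a b M) (hN : IsRt a b N) : M * N = N * M := by
  obtain ⟨h1, h2⟩ := hM
  obtain ⟨h3, h4⟩ := hN
  ext i j
  rw [mul_applyJ, mul_applyJ]
  rcases i with i | i
  · rcases i with i | i <;> exact Fin.elim0 i
  rcases j with j | j
  · rcases j with j | j <;> exact Fin.elim0 j
  fin_cases i <;> fin_cases j
  · show M (Sum.inr 0) (Sum.inr 0) * N (Sum.inr 0) (Sum.inr 0) + M (Sum.inr 0) (Sum.inr 1) * N (Sum.inr 1) (Sum.inr 0) =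
      N (Sum.inr 0) (Sum.inr 0) * M (Sum.inr 0) (Sum.inr 0) + N (Sum.inr 0) (Sum.inr 1) * M (Sum.inr 1) (Sum.inr 0)
    rw [h2, h4]; ring
  · show M (Sum.inr 0) (Sum.inr 0) * N (Sum.inr 0) (Sum.inr 1) + M (Sum.inr 0) (Sum.inr 1) * N (Sum.inr 1) (Sum.inr 1) =
      N (Sum.inr 0) (Sum.inr 0) * M (Sum.inr 0) (Sum.inr 1) + N (Sum.inr 0) (Sum.inr 1) * M (Sum.inr 1) (Sum.inr 1)
    rw [h1, h2, h3, h4]; ring
  · show M (Sum.inr 1) (Sum.inr 0) * N (Sum.inr 0) (Sum.inr 0) + M (Sum.inr 1) (Sum.inr 1) * N (Sum.inr 1) (Sum.inr 0) =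
      N (Sum.inr 1) (Sum.inr 0) * M (Sum.inr 0) (Sum.inr 0) + N (Sum.inr 1) (Sum.inr 1) * M (Sum.inr 1) (Sum.inr 0)
    rw [h1, h3]; ring
  · show M (Sum.inr 1) (Sum.inr 0) * N (Sum.inr 0) (Sum.inr 1) + M (Sum.inr 1) (Sum.inr 1) * N (Sum.inr 1) (Sum.inr 1) =
      N (Sum.inr 1) (Sum.inr 0) * M (Sum.inr 0) (Sum.inr 1) + N (Sum.inr 1) (Sum.inr 1) * M (Sum.inr 1) (Sum.inr 1)
    rw [h1, h2, h3, h4]; ring

end Cfsg.Agent.Lib.Helper13.SDM
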