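import Mathlib
import Cfsg.Prelude.Def_Classical
import Cfsg.Agent.Lib.Helper13.SDMsmallC

/-!
Every isometry of an anisotropic binary quadratic form over a finite field is a rotation or a
reflection; `Ω⁻_2` is commutative; S2549 for `m = 0`.
-/

set_option autoImplicit false

namespace Cfsg.Agent.Lib.Helper13.SDM

open Matrix

variable {F : Type*} [Field F]

theorem disc_ne {a b : F}
    (hab : ∀ z₁ z₂ : F, z₁ ^ 2 + a * z₁ * z₂ + b * z₂ ^ 2 = 0 → z₁ = 0 ∧ z₂ = 0)
    (h2 : (2 : F) ≠ 0) : a ^ 2 - 4 * b ≠ 0 := by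
  intro h
  have := (hab (-a) 2 (by linear_combination (-1 : F) * h)).2
  exact h2 this

theorem a_ne_of_two [Fintype F] {a b : F}
    (hab : ∀ z₁ z₂ : F, z₁ ^ 2 + a * z₁ * z₂ + b * z₂ ^ 2 = 0 → z₁ = 0 ∧ z₂ = 0)
    (h2 : (2 : F) = 0) : a ≠ 0 := by
  intro ha
  have hch : ringChar F = 2 := CharP.ringChar_of_prime_eq_zero Nat.prime_two (by exact_mod_cast h2)
  obtain ⟨c, hc⟩ := FiniteField.isSquare_of_char_two hch b
  have := (hab c 1 (by rw [ha, hc]; linear_combination (c * c) * h2)).2
  exact one_ne_zero this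

theorem fix_cases [Fintype F] {a b : F}
    (hab : ∀ z₁ z₂ : F, z₁ ^ 2 + a * z₁ * z₂ + b * z₂ ^ 2 = 0 → z₁ = 0 ∧ z₂ = 0)
    (s t : F) (hE2 : s ^ 2 + a * s * t + b * t ^ 2 = b) (hE3 : 2 * s + a * t = a) :
    (s = 0 ∧ t = 1) ∨ (s = a ∧ t = -1) := by
  by_cases h2 : (2 : F) = 0
  · have ha := a_ne_of_two hab h2
    have ht : t = 1 := by
      have h1 : a * (t - 1) = 0 := by linear_combination hE3 - s * h2
      rcases mul_eq_zero.1 h1 with h | h
      · exact absurd h ha
      · exact sub_eq_zero.1 h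
    subst ht
    have hs : s * (s + a) = 0 := by linear_combination hE2
    rcases mul_eq_zero.1 hs with h | h
    · exact Or.inl ⟨h, rfl⟩
    · right
      refine ⟨by linear_combination h - a * h2, by linear_combination h2⟩
  · have hd := disc_ne hab h2
    have key : (1 - t) * (1 + t) * (a ^ 2 - 4 * b) = 0 := by
      linear_combination 4 * hE2 - (2 * s + a * t - a + 2 * a) * hE3
    rcases mul_eq_zero.1 key with h | h
    · rcases mul_eq_zero.1 h with h | h
      · have ht : t = 1 := by linear_combination (-1 : F) * h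
        subst ht
        left
        refine ⟨?_, rfl⟩
        have : 2 * s = 0 := by linear_combination hE3
        rcases mul_eq_zero.1 this with h' | h'
        · exact absurd h' h2
        · exact h'
      · have ht : t = -1 := by linear_combination h
        subst ht
        right
        refine ⟨?_, rfl⟩
        have : 2 * (s - a) = 0 := by linear_combination hE3
        rcases mul_eq_zero.1 this with h' | h'
        · exact absurd h' h2
        · exact sub_eq_zero.1 h'
    · exact absurd h hd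

/-- every isometry is a rotation or a reflection -/
theorem iso_shapeJ [Fintype F] {a b : F}
    (hab : ∀ z₁ z₂ : F, z₁ ^ 2 + a * z₁ * z₂ + b * z₂ ^ 2 = 0 → z₁ = 0 ∧ z₂ = 0)
    (g : GL J2 F) (hg : g ∈ Cfsg.isometryGroup F (Cfsg.quadFormMinus 0 F a b)) :
    IsRt a b (g : Matrix J2 J2 F) ∨ IsRf a b (g : Matrix J2 J2 F) := by
  have h : ∀ v : J2 → F, Cfsg.quadFormMinus 0 F a b ((g : Matrix J2 J2 F) *ᵥ v) =
      Cfsg.quadFormMinus 0 F a b v := fun v => hg v v
  set x := (g : Matrix J2 J2 F) (Sum.inr 0) (Sum.inr 0) with hx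
  set y := (g : Matrix J2 J2 F) (Sum.inr 1) (Sum.inr 0) with hy
  set s := (g : Matrix J2 J2 F) (Sum.inr 0) (Sum.inr 1) with hs
  set t := (g : Matrix J2 J2 F) (Sum.inr 1) (Sum.inr 1) with ht
  have hE1 : x ^ 2 + a * x * y + b * y ^ 2 = 1 := by
    have := h (fun i => Sum.elim (fun _ => (0 : F)) (fun k => if k = 0 then 1 else 0) i)
    rw [qm0_apply, qm0_apply, mulVec_applyJ, mulVec_applyJ] at this
    simpa using this
  have hE2 : s ^ 2 + a * s * t + b * t ^ 2 = b := by
    have := h (fun i => Sum.elim (fun _ => (0 : F)) (fun k => if k = 0 then 0 else 1) i)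
    rw [qm0_apply, qm0_apply, mulVec_applyJ, mulVec_applyJ] at this
    simpa using this
  have hE12 : (x + s) ^ 2 + a * (x + s) * (y + t) + b * (y + t) ^ 2 = 1 + a + b := by
    have := h (fun i => Sum.elim (fun _ => (0 : F)) (fun _ => 1) i)
    rw [qm0_apply, qm0_apply, mulVec_applyJ, mulVec_applyJ] at this
    simpa using this
  have hE3 : 2 * x * s + a * (x * t + y * s) + 2 * b * y * t = a := by
    linear_combination hE12 - hE1 - hE2
  have hE2' : ((x + a * y) * s + b * y * t) ^ 2 + a * ((x + a * y) * s + b * y * t) * (-y * s + x * t) +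
      b * (-y * s + x * t) ^ 2 = b := by
    linear_combination (s ^ 2 + a * s * t + b * t ^ 2) * hE1 + hE2
  have hE3' : 2 * ((x + a * y) * s + b * y * t) + a * (-y * s + x * t) = a := by
    linear_combination hE3
  rcases fix_cases hab _ _ hE2' hE3' with ⟨h1, h2⟩ | ⟨h1, h2⟩
  · left
    constructor
    · show t = x + a * y
      linear_combination (-t) * hE1 + y * h1 + (x + a * y) * h2
    · show s = - b * y
      linear_combination (-s) * hE1 + x * h1 - b * y * h2
  · right
    constructor
    · show t = - x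
      linear_combination (-t) * hE1 + y * h1 + (x + a * y) * h2
    · show s = a * x + b * y
      linear_combination (-s) * hE1 + x * h1 - b * y * h2

theorem not_isRf_one [Fintype F] {a b : F}
    (hab : ∀ z₁ z₂ : F, z₁ ^ 2 + a * z₁ * z₂ + b * z₂ ^ 2 = 0 → z₁ = 0 ∧ z₂ = 0) :
    ¬ IsRf a b (1 : Matrix J2 J2 F) := by
  rintro ⟨h1, h2⟩
  simp at h1 h2
  have h2' : (2 : F) = 0 := by linear_combination h1
  exact a_ne_of_two hab h2' h2.symm

end Cfsg.Agent.Lib.Helper13.SDM
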