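import Mathlib
import Cfsg.Prelude.Def_Classical
import Cfsg.Agent.Lib.Helper13.SDMsmallD

/-!
`Ω⁻_2` is commutative; S2549 for `m = 0`.
-/

set_option autoImplicit false

namespace Cfsg.Agent.Lib.Helper13.SDM

open Matrix

variable {F : Type*} [Field F] [Fintype F] {a b : F}

theorem gl_mul_inv_valJ (g : GL J2 F) :
    (g : Matrix J2 J2 F) * ((g⁻¹ : GL J2 F) : Matrix J2 J2 F) = 1 := by
  rw [← Units.val_mul, mul_inv_cancel, Units.val_one]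

theorem inv_shape_Rt
    (hab : ∀ z₁ z₂ : F, z₁ ^ 2 + a * z₁ * z₂ + b * z₂ ^ 2 = 0 → z₁ = 0 ∧ z₂ = 0)
    (g : GL J2 F) (hg : g ∈ Cfsg.isometryGroup F (Cfsg.quadFormMinus 0 F a b))
    (h : IsRt a b (g : Matrix J2 J2 F)) : IsRt a b ((g⁻¹ : GL J2 F) : Matrix J2 J2 F) := by
  rcases iso_shapeJ hab g⁻¹ (Subgroup.inv_mem _ hg) with h' | h'
  · exact h'
  · exfalso
    have := isRf_mul_RF h h'
    rw [gl_mul_inv_valJ] at this
    exact not_isRf_one hab this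

theorem inv_shape_Rf
    (hab : ∀ z₁ z₂ : F, z₁ ^ 2 + a * z₁ * z₂ + b * z₂ ^ 2 = 0 → z₁ = 0 ∧ z₂ = 0)
    (g : GL J2 F) (hg : g ∈ Cfsg.isometryGroup F (Cfsg.quadFormMinus 0 F a b))
    (h : IsRf a b (g : Matrix J2 J2 F)) : IsRf a b ((g⁻¹ : GL J2 F) : Matrix J2 J2 F) := by
  rcases iso_shapeJ hab g⁻¹ (Subgroup.inv_mem _ hg) with h' | h'
  · exfalso
    have := isRf_mul_FR h h'
    rw [gl_mul_inv_valJ] at this
    exact not_isRf_one hab this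
  · exact h'

/-- the subgroup of rotations -/
def rotSub (hab : ∀ z₁ z₂ : F, z₁ ^ 2 + a * z₁ * z₂ + b * z₂ ^ 2 = 0 → z₁ = 0 ∧ z₂ = 0) :
    Subgroup ↥(Cfsg.isometryGroup F (Cfsg.quadFormMinus 0 F a b)) where
  carrier := {g | IsRt a b ((g : GL J2 F) : Matrix J2 J2 F)}
  mul_mem' := by
    intro x y hx hy
    show IsRt a b (((x * y : ↥(Cfsg.isometryGroup F (Cfsg.quadFormMinus 0 F a b))) : GL J2 F) :
      Matrix J2 J2 F)
    rw [Subgroup.coe_mul, Units.val_mul]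
    exact isRt_mul hx hy
  one_mem' := by
    show IsRt a b (((1 : ↥(Cfsg.isometryGroup F (Cfsg.quadFormMinus 0 F a b))) : GL J2 F) :
      Matrix J2 J2 F)
    rw [Subgroup.coe_one, Units.val_one]
    constructor <;> simp
  inv_mem' := by
    intro x hx
    show IsRt a b (((x⁻¹ : ↥(Cfsg.isometryGroup F (Cfsg.quadFormMinus 0 F a b))) : GL J2 F) :
      Matrix J2 J2 F)
    rw [Subgroup.coe_inv]
    exact inv_shape_Rt hab x.1 x.2 hx

theorem comm_le_rot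
    (hab : ∀ z₁ z₂ : F, z₁ ^ 2 + a * z₁ * z₂ + b * z₂ ^ 2 = 0 → z₁ = 0 ∧ z₂ = 0) :
    commutator ↥(Cfsg.isometryGroup F (Cfsg.quadFormMinus 0 F a b)) ≤ rotSub hab := by
  rw [commutator_def, Subgroup.commutator_le]
  intro g _ h _
  show IsRt a b (((g * h * g⁻¹ * h⁻¹ : ↥(Cfsg.isometryGroup F (Cfsg.quadFormMinus 0 F a b))) :
    GL J2 F) : Matrix J2 J2 F)
  rw [Subgroup.coe_mul, Subgroup.coe_mul, Subgroup.coe_mul, Subgroup.coe_inv,
    Subgroup.coe_inv, Units.val_mul, Units.val_mul, Units.val_mul]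
  rcases iso_shapeJ hab g.1 g.2 with hg | hg <;> rcases iso_shapeJ hab h.1 h.2 with hh | hh
  · exact isRt_mul (isRt_mul (isRt_mul hg hh) (inv_shape_Rt hab g.1 g.2 hg))
      (inv_shape_Rt hab h.1 h.2 hh)
  · exact isRt_mul_FF (isRf_mul_FR (isRf_mul_RF hg hh) (inv_shape_Rt hab g.1 g.2 hg))
      (inv_shape_Rf hab h.1 h.2 hh)
  · exact isRt_mul (isRt_mul_FF (isRf_mul_FR hg hh) (inv_shape_Rf hab g.1 g.2 hg))
      (inv_shape_Rt hab h.1 h.2 hh)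
  · exact isRt_mul_FF (isRf_mul_RF (isRt_mul_FF hg hh) (inv_shape_Rf hab g.1 g.2 hg))
      (inv_shape_Rf hab h.1 h.2 hh)

/-- `Ω⁻_2(F)` is commutative -/
theorem omega_minus_zero_comm
    (hab : ∀ z₁ z₂ : F, z₁ ^ 2 + a * z₁ * z₂ + b * z₂ ^ 2 = 0 → z₁ = 0 ∧ z₂ = 0)
    (x y : Cfsg.Omega F (Cfsg.quadFormMinus 0 F a b)) : x * y = y * x := by
  have hx : IsRt a b (((x : ↥(Cfsg.isometryGroup F (Cfsg.quadFormMinus 0 F a b))) : GL J2 F) :
      Matrix J2 J2 F) := comm_le_rot hab x.2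
  have hy : IsRt a b (((y : ↥(Cfsg.isometryGroup F (Cfsg.quadFormMinus 0 F a b))) : GL J2 F) :
      Matrix J2 J2 F) := comm_le_rot hab y.2
  apply Subtype.ext
  apply Subtype.ext
  apply Units.ext
  show ((((x * y : Cfsg.Omega F (Cfsg.quadFormMinus 0 F a b)) :
    ↥(Cfsg.isometryGroup F (Cfsg.quadFormMinus 0 F a b))) : GL J2 F) : Matrix J2 J2 F) = _
  rw [Subgroup.coe_mul, Subgroup.coe_mul, Subgroup.coe_mul, Subgroup.coe_mul, Units.val_mul,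
    Units.val_mul]
  exact rt_comm hx hy

/-- S2549 for `m = 0` -/
theorem sdm_minus_zero (p : ℕ) [Fact p.Prime]
    (hab : ∀ z₁ z₂ : F, z₁ ^ 2 + a * z₁ * z₂ + b * z₂ ^ 2 = 0 → z₁ = 0 ∧ z₂ = 0) :
    ∃ χ : Cfsg.POmega F (Cfsg.quadFormMinus 0 F a b) → ℂ,
      Cfsg.IsIrrCharacter (Cfsg.POmega F (Cfsg.quadFormMinus 0 F a b)) χ ∧
      ∀ P : Sylow p (Cfsg.POmega F (Cfsg.quadFormMinus 0 F a b)), χ 1 = Nat.card P ∧
        ∀ x : Cfsg.POmega F (Cfsg.quadFormMinus 0 F a b), x ∈ P → x ≠ 1 → χ x = 0 :=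
  sdm_of_comm _ p (omega_minus_zero_comm hab)

end Cfsg.Agent.Lib.Helper13.SDM
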