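import Cfsg.Agent.Lib.Helper1.SLK.Defs
import Cfsg.Agent.Lib.Helper13.SLKA8core
import Cfsg.Agent.Lib.helper2.SLKA7core
import Cfsg.Agent.Lib.Helper10.SLKA3
import Cfsg.Agent.Lib.Helper10.SLKD5
import Cfsg.Agent.Lib.helper4.SLKD3

/-!
# SLK row A8 (`slFib_ncard_le`), verbatim vs `Helper1/SLK/Skel.lean.txt`.

`slka8_core` on the A7 conclusion, taken from helper2's `slka7_core` with the landed A3 (`det_conj_dmul`, Helper10),
D3 (`norm_quot_pow`, helper4), D5 (`exists_norm_eq`, Helper10).
-/

set_option autoImplicit false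

namespace Cfsg.Agent.Lib.Helper1.SLK

open Polynomial
open Cfsg.Agent.Lib.Helper29.GLK

universe u

/-- the statement of A7, own name (from helper2's core and the landed A3 D3 D5) -/
theorem slka8_exists_commute_det_pow {F : Type u} [Field F] [Fintype F] [DecidableEq F] {n : ℕ}
    (x : Matrix.GeneralLinearGroup (Fin n) F) (G : ℕ → F[X]) (h : IsInv x G)
    (i : Fin n) (hi : (G i).natDegree ≠ 0) (c : Fˣ) :
    ∃ h : Matrix.GeneralLinearGroup (Fin n) F,
      Commute h x ∧ Matrix.GeneralLinearGroup.det h = c ^ ((i : ℕ) + 1) :=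
  slka7_core x (fun g a hg Φ => det_conj_dmul x g a hg Φ)
    (fun p a hp e => norm_quot_pow p a hp e) (fun p hp c => exists_norm_eq p hp c) G h i hi c

/-- A8 [M]. -/
theorem slFib_ncard_le {F : Type u} [Field F] [Fintype F] [DecidableEq F] {n : ℕ}
    (x : Matrix.SpecialLinearGroup (Fin n) F) (G : ℕ → F[X])
    (h : IsInv (Matrix.SpecialLinearGroup.toGL x) G) :
    (slFib x).ncard ≤ tg (Fintype.card F) (fun i : Fin n => G i) :=
  slka8_core x G (fun i hi c => slka8_exists_commute_det_pow _ G h i hi c)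

end Cfsg.Agent.Lib.Helper1.SLK
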