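import Mathlib

set_option autoImplicit false

namespace Cfsg.Agent.Lib.helper15.SLM

/-- E1 : generic exclusion of `b = N_m - 1`, `K = N_m = (q^m - 1)/(q - 1)` -/
theorem arith_generic (q K : ℕ) (hq : 2 ≤ q) (hK : q * q + q + 1 ≤ K) :
    ¬ (q * K - 1 ∣ (q * K + 1) * ((q - 1) * K) * (K - 2)) := by
  intro h
  have hK2 : 2 ≤ K := by nlinarith
  have hqK : 1 ≤ q * K := by nlinarith
  have hq1 : 1 ≤ q := by omega
  have hz : ((q * K - 1 : ℕ) : ℤ) ∣ (((q * K + 1) * ((q - 1) * K) * (K - 2) : ℕ) : ℤ) :=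
    Int.natCast_dvd_natCast.2 h
  push_cast [Nat.cast_sub hqK, Nat.cast_sub hK2, Nat.cast_sub hq1] at hz
  have h1 : ((q:ℤ) * K - 1) ∣
      (q:ℤ) ^ 2 * (((q:ℤ) * K + 1) * (((q:ℤ) - 1) * K) * ((K:ℤ) - 2)) := Dvd.dvd.mul_left hz _
  have h2 : ((q:ℤ) * K - 1) ∣ 2 * ((q:ℤ) - 1) * (2 * q - 1) := by
    have : 2 * ((q:ℤ) - 1) * (2 * q - 1) =
        ((q:ℤ) * K - 1) * (((q:ℤ) - 1) * ((q * K) ^ 2 + (2 - 2 * q) * (q * K) + (2 - 4 * q))) -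
          (q:ℤ) ^ 2 * (((q:ℤ) * K + 1) * (((q:ℤ) - 1) * K) * ((K:ℤ) - 2)) := by ring
    rw [this]
    exact dvd_sub (dvd_mul_right _ _) h1
  have hqz : (2:ℤ) ≤ q := by exact_mod_cast hq
  have hKz : (q:ℤ) * q + q + 1 ≤ K := by exact_mod_cast hK
  have hpos : (0:ℤ) < 2 * ((q:ℤ) - 1) * (2 * q - 1) := by
    have h1 : (0:ℤ) < (q:ℤ) - 1 := by linarith
    have h2 : (0:ℤ) < 2 * (q:ℤ) - 1 := by linarith
    positivity
  have h3 := Int.le_of_dvd hpos h2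
  have h4 : (q:ℤ) * ((q:ℤ) * q + q + 1) ≤ q * K := by
    apply mul_le_mul_of_nonneg_left hKz (by linarith)
  have h5 : (0:ℤ) ≤ ((q:ℤ) - 2) * ((q:ℤ) ^ 2 - q + 5) := by
    apply mul_nonneg (by linarith)
    nlinarith
  nlinarith

end Cfsg.Agent.Lib.helper15.SLM
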