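import Mathlib

set_option autoImplicit false

namespace Cfsg.Agent.Lib.helper15.SLM

/-- `10` is not a prime power -/
theorem h13_not_isPrimePow_ten : ¬ IsPrimePow 10 := by
  intro hq
  rw [isPrimePow_iff_unique_prime_dvd] at hq
  obtain ⟨p, -, huniq⟩ := hq
  have e2 := huniq 2 ⟨Nat.prime_two, by norm_num⟩
  have e5 := huniq 5 ⟨by norm_num, by norm_num⟩
  omega

/-- the case `b = q - 1` : `(q + 2) ∣ 12` -/
theorem h13_arith_three_a (q : ℕ) (h3 : 3 ≤ q)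
    (hdvd : q ^ 2 - 1 + (q - 1) ∣ ((q ^ 3 - 1) * (q + 1)) * (q - 1 - 1)) : q + 2 ∣ 12 := by
  have hq2 : 1 ≤ q ^ 2 := Nat.one_le_pow _ _ (by omega)
  have hq3 : 1 ≤ q ^ 3 := Nat.one_le_pow _ _ (by omega)
  have hq1 : 1 ≤ q := by omega
  have hq11 : 1 ≤ q - 1 := by omega
  have hz : ((q ^ 2 - 1 + (q - 1) : ℕ) : ℤ) ∣ ((((q ^ 3 - 1) * (q + 1)) * (q - 1 - 1) : ℕ) : ℤ) :=
    Int.natCast_dvd_natCast.2 hdvd
  push_cast [Nat.cast_sub hq2, Nat.cast_sub hq3, Nat.cast_sub hq1, Nat.cast_sub hq11] at hz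
  have hne : ((q:ℤ) - 1) ≠ 0 := by
    have : (3:ℤ) ≤ q := by exact_mod_cast h3
    intro h; linarith
  have h1 : ((q:ℤ) - 1) * ((q:ℤ) + 2) ∣
      ((q:ℤ) - 1) * (((q:ℤ) ^ 2 + q + 1) * ((q:ℤ) + 1) * ((q:ℤ) - 2)) := by
    have e1 : ((q:ℤ) - 1) * ((q:ℤ) + 2) = (q:ℤ) ^ 2 - 1 + ((q:ℤ) - 1) := by ring
    have e2 : ((q:ℤ) - 1) * (((q:ℤ) ^ 2 + q + 1) * ((q:ℤ) + 1) * ((q:ℤ) - 2)) =
        ((q:ℤ) ^ 3 - 1) * ((q:ℤ) + 1) * ((q:ℤ) - 1 - 1) := by ring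
    rw [e1, e2]
    exact hz
  have h2 : ((q:ℤ) + 2) ∣ (((q:ℤ) ^ 2 + q + 1) * ((q:ℤ) + 1) * ((q:ℤ) - 2)) :=
    (mul_dvd_mul_iff_left hne).1 h1
  have h3' : ((q:ℤ) + 2) ∣ 12 := by
    have : (12:ℤ) = (((q:ℤ) ^ 2 + q + 1) * ((q:ℤ) + 1) * ((q:ℤ) - 2)) -
        ((q:ℤ) + 2) * ((q:ℤ) ^ 3 - 2 * q ^ 2 + 2 * q - 7) := by ring
    rw [this]
    exact dvd_sub h2 (dvd_mul_right _ _)
  exact_mod_cast h3'

/-- the case `b = q` -/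
theorem h13_arith_three_b (q : ℕ) (h3 : 3 ≤ q)
    (hdvd : q ^ 2 - 1 + q ∣ ((q ^ 3 - 1) * (q + 1)) * (q - 1)) : False := by
  have hq2 : 1 ≤ q ^ 2 := Nat.one_le_pow _ _ (by omega)
  have hq3 : 1 ≤ q ^ 3 := Nat.one_le_pow _ _ (by omega)
  have hq1 : 1 ≤ q := by omega
  have hz : ((q ^ 2 - 1 + q : ℕ) : ℤ) ∣ ((((q ^ 3 - 1) * (q + 1)) * (q - 1) : ℕ) : ℤ) :=
    Int.natCast_dvd_natCast.2 hdvd
  push_cast [Nat.cast_sub hq2, Nat.cast_sub hq3, Nat.cast_sub hq1] at hz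
  have hqz : (3:ℤ) ≤ q := by exact_mod_cast h3
  have h2 : ((q:ℤ) ^ 2 - 1 + q) ∣ 4 * (q:ℤ) - 2 := by
    have : 4 * (q:ℤ) - 2 = ((q:ℤ) ^ 3 - 1) * ((q:ℤ) + 1) * ((q:ℤ) - 1) -
        ((q:ℤ) ^ 2 - 1 + q) * ((q:ℤ) ^ 3 - q ^ 2 + q - 3) := by ring
    rw [this]
    exact dvd_sub hz (dvd_mul_right _ _)
  have h4 := Int.le_of_dvd (by linarith) h2
  nlinarith

/-- E2 : rank 3 -/
theorem arith_three (q b : ℕ) (hq : IsPrimePow q) (hq2 : q ≠ 2) (hq4 : q ≠ 4) (hb : q - 1 ≤ b)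
    (hdvd : q ^ 2 - 1 + b ∣ ((q ^ 3 - 1) * (q ^ 2 - 1) / (q - 1)) * (b - 1)) : q + 1 ≤ b := by
  have h2 : 2 ≤ q := hq.two_le
  have h3 : 3 ≤ q := by omega
  have h10 : q ≠ 10 := by
    rintro rfl
    exact h13_not_isPrimePow_ten hq
  have hdiv : (q ^ 3 - 1) * (q ^ 2 - 1) / (q - 1) = (q ^ 3 - 1) * (q + 1) := by
    apply Nat.div_eq_of_eq_mul_left (by omega)
    have : q ^ 2 - 1 = (q + 1) * (q - 1) := by
      obtain ⟨r, rfl⟩ : ∃ r, q = r + 1 := ⟨q - 1, by omega⟩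
      have : (r + 1) ^ 2 - 1 = (r + 1 + 1) * r := by
        apply Nat.sub_eq_of_eq_add
        ring
      simpa using this
    rw [this]
    ring
  rw [hdiv] at hdvd
  by_contra hlt
  have hcases : b = q - 1 ∨ b = q := by omega
  rcases hcases with rfl | rfl
  · have h12 := h13_arith_three_a q h3 hdvd
    have hle := Nat.le_of_dvd (by norm_num) h12
    have hq10 : q ≤ 10 := by omega
    interval_cases q <;> omega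
  · exact h13_arith_three_b b h3 hdvd

end Cfsg.Agent.Lib.helper15.SLM
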