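import Cfsg.Agent.Lib.helper15.SLM.Defs
import Cfsg.Agent.Lib.Helper25.SLMA1
import Cfsg.Agent.Lib.Helper25.SLMA5
import Cfsg.Agent.Lib.Helper24.SLMA4
import Cfsg.Agent.Lib.Helper24.SLMA9
import Cfsg.Agent.Lib.Helper24.SLMA10
import Cfsg.Agent.Lib.Helper13.SLMC4
import Cfsg.Agent.Lib.Helper20.SLMB5
import Cfsg.Agent.Lib.Helper27.SLMA8

set_option autoImplicit false
set_option linter.unusedSectionVars false
set_option linter.unusedVariables false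

/-! Project SLM (S2332), piece F1: the second thin step with the free torus. -/

namespace Cfsg.Agent.Lib.helper15.SLM

open Matrix

section mats

variable {F : Type*} [Field F] [DecidableEq F]
  {κ' : Type*} [Fintype κ'] [DecidableEq κ']

/-- the element `diag(1, B)` of the general linear group -/
noncomputable def h13_gd (B : Matrix κ' κ' F) (hB : B.det ≠ 0) : GL (Unit ⊕ κ') F :=
  Matrix.GeneralLinearGroup.mkOfDetNeZero (dMat 1 B) (by rw [dMat_det, one_mul]; exact hB)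

theorem h13_gd_coe (B : Matrix κ' κ' F) (hB : B.det ≠ 0) :
    ((h13_gd B hB : GL (Unit ⊕ κ') F) : Matrix (Unit ⊕ κ') (Unit ⊕ κ') F) = dMat 1 B := rfl

/-- the first-row unipotents of the Levi factor, as elements of the general linear group -/
noncomputable def h13_xi (u : κ' → F) : GL (Unit ⊕ κ') F :=
  SpecialLinearGroup.toGL (xQ u)

theorem h13_xi_coe (u : κ' → F) :
    ((h13_xi u : GL (Unit ⊕ κ') F) : Matrix (Unit ⊕ κ') (Unit ⊕ κ') F) = xMat u := rfl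

theorem h13_xi_add (u u' : κ' → F) : (h13_xi (u + u') : GL (Unit ⊕ κ') F) = h13_xi u * h13_xi u' := by
  unfold h13_xi
  rw [xQ_add, map_mul]

/-- `diag(1, B)` normalises the first-row unipotents -/
theorem h13_gd_xi (B : Matrix κ' κ' F) (hB : B.det ≠ 0) (u : κ' → F) :
    h13_gd B hB * h13_xi u = h13_xi ((B⁻¹)ᵀ *ᵥ u) * h13_gd B hB := by
  apply Units.ext
  show dMat 1 B * xMat u = xMat ((B⁻¹)ᵀ *ᵥ u) * dMat 1 B
  apply dMat_mul_xMat
  rw [Matrix.mulVec_transpose, Matrix.vecMul_vecMul,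
    Matrix.nonsing_inv_mul B (isUnit_iff_ne_zero.2 hB),
    Matrix.vecMul_one, one_smul]

theorem h13_det_invT (B : Matrix κ' κ' F) (hB : B.det ≠ 0) : IsUnit ((B⁻¹)ᵀ).det := by
  rw [Matrix.det_transpose, isUnit_iff_ne_zero]
  intro h
  have h1 : B.det * (B⁻¹).det = 1 := by
    rw [← Matrix.det_mul,
      Matrix.mul_nonsing_inv B (isUnit_iff_ne_zero.2 hB),
      Matrix.det_one]
  rw [h, mul_zero] at h1
  exact zero_ne_one h1

theorem h13_vecMul_invT (B : Matrix κ' κ' F) (hB : B.det ≠ 0) (w : κ' → F) (hw : B *ᵥ w = w) :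
    w ᵥ* (B⁻¹)ᵀ = w := by
  rw [Matrix.vecMul_transpose]
  conv_lhs => rw [← hw]
  rw [Matrix.mulVec_mulVec,
    Matrix.nonsing_inv_mul B (isUnit_iff_ne_zero.2 hB),
    Matrix.one_mulVec]

theorem h13_tvMat_inv (y η : κ' → F) (h : η ⬝ᵥ y = 0) : (tvMat y η)⁻¹ = tvMat y (-η) := by
  apply Matrix.inv_eq_right_inv
  rw [tvMat_mul y η (-η) h, add_neg_cancel, tvMat_zero_right]

/-- the fixed covectors of the contragredient of a transvection -/
theorem h13_fix_iff (y η : κ' → F) (h : η ⬝ᵥ y = 0) (hy : y ≠ 0) (w : κ' → F) :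
    w ᵥ* ((tvMat y η)⁻¹)ᵀ = w ↔ η ⬝ᵥ w = 0 := by
  rw [Matrix.vecMul_transpose, h13_tvMat_inv y η h, tvMat_mulVec, neg_dotProduct]
  constructor
  · intro h1
    have h2 : (-(η ⬝ᵥ w)) • y = 0 := by
      have := congrArg (fun z => z - w) h1
      simpa using this
    rcases smul_eq_zero.1 h2 with h3 | h3
    · exact neg_eq_zero.1 h3
    · exact absurd h3 hy
  · intro h1
    rw [h1, neg_zero, zero_smul, add_zero]

theorem h13_gd_mul (B B' : Matrix κ' κ' F) (hB : B.det ≠ 0) (hB' : B'.det ≠ 0) :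
    h13_gd B hB * h13_gd B' hB' =
      h13_gd (B * B') (by rw [Matrix.det_mul]; exact mul_ne_zero hB hB') := by
  apply Units.ext
  show dMat 1 B * dMat 1 B' = dMat 1 (B * B')
  rw [dMat_mul, one_mul]

theorem h13_gd_congr (B B' : Matrix κ' κ' F) (hB : B.det ≠ 0) (hB' : B'.det ≠ 0) (h : B = B') :
    h13_gd B hB = h13_gd B' hB' := by
  subst h
  rfl

end mats

section reps

variable {F : Type*} [Field F] [Fintype F] [DecidableEq F]
  {κ' : Type*} [Fintype κ'] [DecidableEq κ']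
  {V : Type*} [AddCommGroup V] [Module ℂ V] [FiniteDimensional ℂ V]

/-- the Levi normalises the radical (explicit form) -/
theorem h13_dGL_normalizes {κ : Type*} [Fintype κ] [DecidableEq κ] (A : GL κ F) (u : κ → F) :
    ∃ u', (dGL A : SpecialLinearGroup (Unit ⊕ κ) F) * xQ u = xQ u' * dGL A := by
  refine ⟨(((A : Matrix κ κ F).det)⁻¹ • u) ᵥ* ((A⁻¹ : GL κ F) : Matrix κ κ F), ?_⟩
  have hd : ((A : Matrix κ κ F).det)⁻¹ * (A : Matrix κ κ F).det = 1 :=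
    inv_mul_cancel₀ ((Matrix.isUnit_iff_isUnit_det _).1 A.isUnit).ne_zero
  show dL ((A : Matrix κ κ F).det)⁻¹ (A : Matrix κ κ F) hd * xQ u =
    xQ _ * dL ((A : Matrix κ κ F).det)⁻¹ (A : Matrix κ κ F) hd
  apply dL_mul_xQ
  rw [Matrix.vecMul_vecMul, ← Units.val_mul, inv_mul_cancel, Units.val_one, Matrix.vecMul_one]

/-- the representation of the Levi factor `GL` on the fixed space of the radical -/
noncomputable def h13_sig (ρ : Representation ℂ (SpecialLinearGroup (Unit ⊕ (Unit ⊕ κ')) F) V) :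
    Representation ℂ (GL (Unit ⊕ κ') F) ↥(fixSp ρ (xQ : ((Unit ⊕ κ') → F) → _)) :=
  resFix ρ xQ dGL h13_dGL_normalizes

theorem h13_sig_char (χ₀ : AddChar F ℂ) (hχ₀ : χ₀.IsPrimitive)
    (ρ : Representation ℂ (SpecialLinearGroup (Unit ⊕ (Unit ⊕ κ')) F) V)
    (A : GL (Unit ⊕ κ') F) :
    (h13_sig ρ).character A = LinearMap.trace ℂ V (ρ (dGL A) * eIdem χ₀ ρ xQ 0) :=
  resFix_character χ₀ hχ₀ ρ xQ xQ_add dGL h13_dGL_normalizes A

theorem h13_sig_char_toGL (χ₀ : AddChar F ℂ) (hχ₀ : χ₀.IsPrimitive)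
    (ρ : Representation ℂ (SpecialLinearGroup (Unit ⊕ (Unit ⊕ κ')) F) V)
    (A : SpecialLinearGroup (Unit ⊕ κ') F) :
    (h13_sig ρ).character (SpecialLinearGroup.toGL A) =
      LinearMap.trace ℂ V (ρ (dSL A) * eIdem χ₀ ρ xQ 0) :=
  h13_sig_char χ₀ hχ₀ ρ _

theorem h13_elim_dot (a b : F) (y η : κ' → F) :
    (Sum.elim (fun _ : Unit => a) η) ⬝ᵥ (Sum.elim (fun _ : Unit => b) y) = a * b + η ⬝ᵥ y := by
  simp [dotProduct, Fintype.sum_sum_type]

theorem h13_elim_ne_zero (a : F) (y : κ' → F) (hy : y ≠ 0) :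
    (Sum.elim (fun _ : Unit => a) y : Unit ⊕ κ' → F) ≠ 0 := by
  intro h
  apply hy
  funext i
  have := congrFun h (Sum.inr i)
  simpa using this

/-- the character of the Levi representation on `diag(1, transvection)` -/
theorem h13_sig_char_tv (q m' : ℕ) (χ₀ : AddChar F ℂ) (hχ₀ : χ₀.IsPrimitive)
    (ρ : Representation ℂ (SpecialLinearGroup (Unit ⊕ (Unit ⊕ κ')) F) V) (b : ℕ)
    (htr : ∀ (y η : Unit ⊕ κ' → F) (h : η ⬝ᵥ y = 0), y ≠ 0 → η ≠ 0 →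
      LinearMap.trace ℂ V (ρ (dSL (tv y η h)) * eIdem χ₀ ρ xQ 0) = (b : ℂ) - (q : ℂ) ^ m')
    (y η : κ' → F) (h : η ⬝ᵥ y = 0) (hy : y ≠ 0) (hη : η ≠ 0) :
    (h13_sig ρ).character (h13_gd (tvMat y η) (by rw [tvMat_det y η h]; exact one_ne_zero)) =
      (b : ℂ) - (q : ℂ) ^ m' := by
  have h' : (Sum.elim (fun _ : Unit => (0:F)) η) ⬝ᵥ (Sum.elim (fun _ : Unit => (0:F)) y) = 0 := by
    rw [h13_elim_dot, h, mul_zero, add_zero]
  have e : h13_gd (tvMat y η) (by rw [tvMat_det y η h]; exact one_ne_zero) =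
      SpecialLinearGroup.toGL (tv (Sum.elim (fun _ : Unit => (0:F)) y)
        (Sum.elim (fun _ : Unit => (0:F)) η) h') := by
    apply Units.ext
    show dMat 1 (tvMat y η) = tvMat _ _
    exact dMat_tvMat y η
  rw [e, h13_sig_char_toGL χ₀ hχ₀]
  exact htr _ _ h' (h13_elim_ne_zero 0 y hy) (h13_elim_ne_zero 0 η hη)

/-- the character of the Levi representation on the first-row unipotents -/
theorem h13_sig_char_xi (q m' : ℕ) (χ₀ : AddChar F ℂ) (hχ₀ : χ₀.IsPrimitive)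
    (ρ : Representation ℂ (SpecialLinearGroup (Unit ⊕ (Unit ⊕ κ')) F) V) (b : ℕ)
    (htr : ∀ (y η : Unit ⊕ κ' → F) (h : η ⬝ᵥ y = 0), y ≠ 0 → η ≠ 0 →
      LinearMap.trace ℂ V (ρ (dSL (tv y η h)) * eIdem χ₀ ρ xQ 0) = (b : ℂ) - (q : ℂ) ^ m')
    (u : κ' → F) (hu : u ≠ 0) :
    (h13_sig ρ).character (h13_xi u) = (b : ℂ) - (q : ℂ) ^ m' := by
  have h' : (Sum.elim (fun _ : Unit => (0:F)) u) ⬝ᵥ
      (Sum.elim (fun _ : Unit => (1:F)) (fun _ : κ' => (0:F))) = 0 := by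
    rw [h13_elim_dot, zero_mul, zero_add]
    simp [dotProduct]
  have e : (h13_xi u : GL (Unit ⊕ κ') F) =
      SpecialLinearGroup.toGL (tv (Sum.elim (fun _ : Unit => (1:F)) (fun _ : κ' => (0:F)))
        (Sum.elim (fun _ : Unit => (0:F)) u) h') := by
    apply Units.ext
    show xMat u = tvMat _ _
    exact xMat_eq_tvMat u
  rw [e, h13_sig_char_toGL χ₀ hχ₀]
  refine htr _ _ h' ?_ (h13_elim_ne_zero 0 u hu)
  intro h0
  have := congrFun h0 (Sum.inl ())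
  simp at this

/-- the trace of `diag(1, transvection)` on the second-level fixed space -/
theorem h13_level1_trace (q m' : ℕ) (hq : Fintype.card F = q) (hq2 : 2 < q)
    (hm' : Fintype.card κ' = m') (hm2 : 2 ≤ m')
    (χ₀ : AddChar F ℂ) (hχ₀ : χ₀.IsPrimitive)
    (ρ : Representation ℂ (SpecialLinearGroup (Unit ⊕ (Unit ⊕ κ')) F) V) (b : ℕ)
    (hb : Module.finrank ℂ (fixSp ρ xQ) = b)
    (htr : ∀ (y η : Unit ⊕ κ' → F) (h : η ⬝ᵥ y = 0), y ≠ 0 → η ≠ 0 →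
      LinearMap.trace ℂ V (ρ (dSL (tv y η h)) * eIdem χ₀ ρ xQ 0) = (b : ℂ) - (q : ℂ) ^ m')
    (y η : κ' → F) (h : η ⬝ᵥ y = 0) (hy : y ≠ 0) (hη : η ≠ 0) :
    LinearMap.trace ℂ _ ((h13_sig ρ) (h13_gd (tvMat y η)
        (by rw [tvMat_det y η h]; exact one_ne_zero)) *
      eIdem χ₀ (h13_sig ρ) (h13_xi : (κ' → F) → _) 0) =
      (b : ℂ) - (q : ℂ) ^ m' - ((q : ℂ) ^ (m' - 1) - 1) := by
  classical
  have hdet : (tvMat y η).det ≠ 0 := by rw [tvMat_det y η h]; exact one_ne_zero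
  have hcχ : ∀ u : κ' → F, u ≠ 0 →
      (h13_sig ρ).character (h13_xi u) = (b : ℂ) - (q : ℂ) ^ m' :=
    fun u hu => h13_sig_char_xi q m' χ₀ hχ₀ ρ b htr u hu
  have hthin : (Module.finrank ℂ ↥(fixSp ρ (xQ : ((Unit ⊕ κ') → F) → _)) : ℂ) -
      ((b : ℂ) - (q : ℂ) ^ m') = (Fintype.card F : ℂ) ^ Fintype.card κ' := by
    rw [hb, hq, hm']
    ring
  have hts := thin_step χ₀ hχ₀ (h13_sig ρ) (h13_xi : (κ' → F) → _) h13_xi_add
    ((b : ℂ) - (q : ℂ) ^ m') hcχ hthin (h13_gd (tvMat y η) hdet) (((tvMat y η)⁻¹)ᵀ)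
    (h13_det_invT _ hdet) (h13_gd_xi _ hdet) ?_
  · rw [h13_sig_char_tv q m' χ₀ hχ₀ ρ b htr y η h hy hη] at hts
    have hcard : (Finset.univ.filter
        (fun w : κ' → F => w ≠ 0 ∧ w ᵥ* ((tvMat y η)⁻¹)ᵀ = w)).card = q ^ (m' - 1) - 1 := by
      rw [← card_hyperplane q m' hq hm' η hη]
      congr 1
      ext w
      simp only [Finset.mem_filter, Finset.mem_univ, true_and]
      rw [h13_fix_iff y η h hy]
    rw [hcard] at hts
    have h1 : 1 ≤ q ^ (m' - 1) := Nat.one_le_pow _ _ (by omega)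
    rw [Nat.cast_sub h1] at hts
    push_cast at hts
    linear_combination -hts
  · intro w hw hwM
    have hηw : η ⬝ᵥ w = 0 := (h13_fix_iff y η h hy w).1 hwM
    obtain ⟨B₁, B₂, hB₁, hB₂, hB₁w, hB₂w, hcomm⟩ :=
      comm_expr_GL (by rw [hq]; exact hq2) y η w hy hη h hηw
    refine ⟨h13_gd B₁ hB₁, h13_gd B₂ hB₂, (B₁⁻¹)ᵀ, (B₂⁻¹)ᵀ, h13_det_invT _ hB₁,
      h13_det_invT _ hB₂, h13_gd_xi _ hB₁, h13_gd_xi _ hB₂, h13_vecMul_invT _ hB₁ w hB₁w,
      h13_vecMul_invT _ hB₂ w hB₂w, ?_⟩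
    have e : h13_gd (tvMat y η) hdet * h13_gd B₂ hB₂ * h13_gd B₁ hB₁ =
        h13_gd B₁ hB₁ * h13_gd B₂ hB₂ := by
      apply Units.ext
      show dMat 1 (tvMat y η) * dMat 1 B₂ * dMat 1 B₁ = dMat 1 B₁ * dMat 1 B₂
      rw [dMat_mul, dMat_mul, dMat_mul, hcomm]
      simp
    have e2 : h13_gd (tvMat y η) hdet =
        (h13_gd B₁ hB₁ * h13_gd B₂ hB₂) * (h13_gd B₂ hB₂ * h13_gd B₁ hB₁)⁻¹ := by
      rw [← e]
      group
    rw [e2]
    group

/-- F1 : second level bound with the free torus, `q > 2` (used for (4,4) and (5,3)) -/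
theorem level1_bound (q m' : ℕ) (hq : Fintype.card F = q) (hq2 : 2 < q)
    (hm' : Fintype.card κ' = m') (hm2 : 2 ≤ m')
    (χ₀ : AddChar F ℂ) (hχ₀ : χ₀.IsPrimitive)
    (ρ : Representation ℂ (SpecialLinearGroup (Unit ⊕ (Unit ⊕ κ')) F) V) (b : ℕ)
    (hb : Module.finrank ℂ (fixSp ρ xQ) = b)
    (htr : ∀ (y η : Unit ⊕ κ' → F) (h : η ⬝ᵥ y = 0), y ≠ 0 → η ≠ 0 →
      LinearMap.trace ℂ V (ρ (dSL (tv y η h)) * eIdem χ₀ ρ xQ 0) = (b : ℂ) - (q : ℂ) ^ m') :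
    (q ^ m' - 1) + (q - 1) * q ^ (m' - 2) ≤ b := by
  classical
  have hcχ : ∀ u : κ' → F, u ≠ 0 →
      (h13_sig ρ).character (h13_xi u) = (b : ℂ) - (q : ℂ) ^ m' :=
    fun u hu => h13_sig_char_xi q m' χ₀ hχ₀ ρ b htr u hu
  obtain ⟨-, hA4b⟩ := mult_of_const χ₀ hχ₀ (h13_sig ρ) (h13_xi : (κ' → F) → _) h13_xi_add
    ((b : ℂ) - (q : ℂ) ^ m') hcχ
  set b' := Module.finrank ℂ ↥(fixSp (h13_sig ρ) (h13_xi : (κ' → F) → _)) with hb'
  have hqpos : (q:ℂ) ^ m' ≠ 0 := by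
    have : (q:ℂ) ≠ 0 := by exact_mod_cast (by omega : q ≠ 0)
    exact pow_ne_zero _ this
  have hbb : (b' : ℂ) = (b:ℂ) - (q:ℂ) ^ m' + 1 := by
    rw [hb, hq, hm'] at hA4b
    have : (b' : ℂ) * (q:ℂ) ^ m' = ((b:ℂ) - (q:ℂ) ^ m' + 1) * (q:ℂ) ^ m' := by
      rw [hA4b]
      ring
    exact mul_right_cancel₀ hqpos this
  have hbbN : b' + q ^ m' = b + 1 := by
    have : ((b' + q ^ m' : ℕ) : ℂ) = ((b + 1 : ℕ) : ℂ) := by
      push_cast
      rw [hbb]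
      ring
    exact_mod_cast this
  obtain ⟨i, j, hij⟩ : ∃ i j : κ', i ≠ j :=
    Fintype.exists_pair_of_one_lt_card (by omega)
  have hy : (Pi.single i 1 : κ' → F) ≠ 0 := by
    intro h
    have := congrFun h i
    simp at this
  have hη : (Pi.single j 1 : κ' → F) ≠ 0 := by
    intro h
    have := congrFun h j
    simp at this
  have h0 : (Pi.single j 1 : κ' → F) ⬝ᵥ (Pi.single i 1 : κ' → F) = 0 := by
    rw [single_dotProduct, Pi.single_eq_of_ne hij.symm, mul_zero]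
  have ha0 : ∀ a : F, (a • (Pi.single j 1 : κ' → F)) ⬝ᵥ (Pi.single i 1 : κ' → F) = 0 := by
    intro a
    rw [smul_dotProduct, h0, smul_zero]
  have hdet : ∀ a : F, (tvMat (Pi.single i 1 : κ' → F) (a • (Pi.single j 1 : κ' → F))).det ≠ 0 := by
    intro a
    rw [tvMat_det _ _ (ha0 a)]
    exact one_ne_zero
  have hidem : eIdem χ₀ (h13_sig ρ) (h13_xi : (κ' → F) → _) 0 *
      eIdem χ₀ (h13_sig ρ) (h13_xi : (κ' → F) → _) 0 =
      eIdem χ₀ (h13_sig ρ) (h13_xi : (κ' → F) → _) 0 := by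
    rw [eIdem_mul_self χ₀ hχ₀ (h13_sig ρ) (h13_xi : (κ' → F) → _) h13_xi_add 0 0, if_pos rfl]
  have hlbl := lbl (h13_sig ρ)
    (fun a : F => h13_gd (tvMat (Pi.single i 1 : κ' → F) (a • (Pi.single j 1 : κ' → F))) (hdet a))
    ?_ (eIdem χ₀ (h13_sig ρ) (h13_xi : (κ' → F) → _) 0) hidem ?_ b' (m' - 2) ?_ ?_
  · rw [hq] at hlbl
    have h1 : 1 ≤ q ^ m' := Nat.one_le_pow _ _ (by omega)
    omega
  · intro a a'
    rw [h13_gd_mul]
    apply h13_gd_congr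
    rw [tvMat_mul _ _ _ (ha0 a), add_smul]
  · intro a
    have := eIdem_conj χ₀ (h13_sig ρ) (h13_xi : (κ' → F) → _)
      (h13_gd (tvMat (Pi.single i 1 : κ' → F) (a • (Pi.single j 1 : κ' → F))) (hdet a))
      (((tvMat (Pi.single i 1 : κ' → F) (a • (Pi.single j 1 : κ' → F)))⁻¹)ᵀ)
      (h13_det_invT _ (hdet a)) (h13_gd_xi _ (hdet a)) 0
    rwa [Matrix.zero_vecMul] at this
  · rw [trace_eIdem_eq_finrank χ₀ hχ₀ (h13_sig ρ) (h13_xi : (κ' → F) → _) h13_xi_add 0,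
      range_eIdem_zero χ₀ (h13_sig ρ) (h13_xi : (κ' → F) → _) h13_xi_add]
  · intro a ha
    have := h13_level1_trace q m' hq hq2 hm' hm2 χ₀ hχ₀ ρ b hb htr (Pi.single i 1 : κ' → F)
      (a • (Pi.single j 1 : κ' → F)) (ha0 a) hy (smul_ne_zero ha hη)
    rw [this, hbb, hq]
    have : m' - 2 + 1 = m' - 1 := by omega
    rw [this]
    ring

end reps

end Cfsg.Agent.Lib.helper15.SLM
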