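import Cfsg.Agent.Lib.helper17.SLN.Defs

/-!
# SLN M6: the block embedding of `hM s` is diagonal.  (helper13; extras `slnm6_*`.)
-/

set_option autoImplicit false

namespace Cfsg.Agent.Lib.helper17.SLN

open Cfsg.Agent.Lib.helper17.SLP

universe u v w v'

section M

open Matrix

variable {F : Type u} [Field F] {ι : Type w} [Fintype ι] [DecidableEq ι]

omit [Fintype ι] in
/-- entries of the block embedding -/
theorem slnm6_rhoM_apply (f : Fin 2 → ι) (M : Matrix (Fin 2) (Fin 2) F) (k l : ι) :
    rhoM f M k l = (1 : Matrix ι ι F) k l +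
      ∑ b : Fin 2, (∑ a : Fin 2, (if k = f a then (1 : F) else 0) * (M - 1) a b) *
        (if l = f b then (1 : F) else 0) := by
  unfold rhoM
  rw [Matrix.add_apply, Matrix.mul_apply]
  congr 1

/-- M6 [S-M]  as M5: `hM s - 1 = single 0 0 (s - 1) + single 1 1 (s⁻¹ - 1)`; compare entrywise with the diagonal matrix (`Matrix.diagonal_apply`; cases `k = i`, `k = j`, else). -/
theorem rhoF_hM (i j : ι) (hij : i ≠ j) (s : Fˣ) :
    ((rhoF (pr i j) (pr_injective hij) (hM s) : Matrix.SpecialLinearGroup ι F) : Matrix ι ι F) =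
      Matrix.diagonal (fun k => if k = i then (s : F) else if k = j then ((s⁻¹ : Fˣ) : F) else 1) := by
  rw [rhoF_coe]
  ext k l
  rw [slnm6_rhoM_apply, Fin.sum_univ_two, Fin.sum_univ_two, Fin.sum_univ_two]
  have e0 : pr i j 0 = i := rfl
  have e1 : pr i j 1 = j := rfl
  have h00 : ((hM s : Matrix.SpecialLinearGroup (Fin 2) F).1 - 1) 0 0 = (s : F) - 1 := by
    simp [hM]
  have h01 : ((hM s : Matrix.SpecialLinearGroup (Fin 2) F).1 - 1) 0 1 = 0 := by
    simp [hM]
  have h10 : ((hM s : Matrix.SpecialLinearGroup (Fin 2) F).1 - 1) 1 0 = 0 := by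
    simp [hM]
  have h11 : ((hM s : Matrix.SpecialLinearGroup (Fin 2) F).1 - 1) 1 1 = ((s⁻¹ : Fˣ) : F) - 1 := by
    simp [hM]
  rw [e0, e1, h00, h01, h10, h11]
  by_cases hkl : k = l
  · subst hkl
    rw [Matrix.one_apply_eq, Matrix.diagonal_apply_eq]
    by_cases hki : k = i
    · subst hki
      simp [hij]
    · by_cases hkj : k = j
      · subst hkj
        simp [hki]
      · simp [hki, hkj]
  · rw [Matrix.one_apply_ne hkl, Matrix.diagonal_apply_ne _ hkl]
    by_cases hki : k = i
    · subst hki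
      have hlk : ¬ l = k := fun h => hkl h.symm
      simp [hij, hlk]
    · by_cases hkj : k = j
      · subst hkj
        have hlk : ¬ l = k := fun h => hkl h.symm
        simp [hki, hlk]
      · simp [hki, hkj]

end M

end Cfsg.Agent.Lib.helper17.SLN
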