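import Cfsg.Agent.Lib.helper17.SLN.Defs

/-!
# SLN M7: block embeddings on disjoint coordinate pairs commute.  (helper13; extras `slnm7_*`.)
-/

set_option autoImplicit false

namespace Cfsg.Agent.Lib.helper17.SLN

open Cfsg.Agent.Lib.helper17.SLP

universe u v w v'

section M

open Matrix

variable {F : Type u} [Field F] {ι : Type w} [Fintype ι] [DecidableEq ι]

/-- disjoint ranges: `(incl f)ᵀ * incl g = 0` -/
theorem slnm7_incl_tr_mul_zero (f g : Fin 2 → ι) (hfg : ∀ a b, f a ≠ g b) :
    (incl F f)ᵀ * incl F g = 0 := by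
  ext a b
  simp only [Matrix.mul_apply, Matrix.transpose_apply, incl, Matrix.of_apply, Matrix.zero_apply]
  apply Finset.sum_eq_zero
  intro i _
  by_cases h1 : i = f a
  · have h2 : i ≠ g b := fun h => hfg a b (h1.symm.trans h)
    simp [h2]
  · simp [h1]

/-- the product of two block embeddings on disjoint coordinate pairs -/
theorem slnm7_rhoM_mul_disj (f g : Fin 2 → ι) (hfg : ∀ a b, f a ≠ g b)
    (M N : Matrix (Fin 2) (Fin 2) F) :
    rhoM f M * rhoM g N =
      1 + incl F f * (M - 1) * (incl F f)ᵀ + incl F g * (N - 1) * (incl F g)ᵀ := by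
  unfold rhoM
  have h := slnm7_incl_tr_mul_zero (F := F) f g hfg
  have e : incl F f * (M - 1) * (incl F f)ᵀ * (incl F g * (N - 1) * (incl F g)ᵀ) = 0 := by
    calc incl F f * (M - 1) * (incl F f)ᵀ * (incl F g * (N - 1) * (incl F g)ᵀ)
        = incl F f * (M - 1) * ((incl F f)ᵀ * incl F g) * (N - 1) * (incl F g)ᵀ := by
          simp only [Matrix.mul_assoc]
      _ = 0 := by rw [h]; simp
  rw [mul_add, add_mul, add_mul, one_mul, mul_one, one_mul, e, add_zero]

/-- M7 [S-M]  If the ranges of `f g` are disjoint then `(incl f)ᵀ * incl g = 0` (entrywise), so `(1 + C A Cᵀ)(1 + D B Dᵀ) = 1 + C A Cᵀ + D B Dᵀ` = the product in the other order (also `(incl g)ᵀ * incl f = 0`). -/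
theorem rhoF_disj (f g : Fin 2 → ι) (hf : Function.Injective f) (hg : Function.Injective g)
    (hfg : ∀ a b, f a ≠ g b) (m m' : Matrix.SpecialLinearGroup (Fin 2) F) :
    Commute (rhoF f hf m : Matrix.SpecialLinearGroup ι F) (rhoF g hg m') := by
  apply Subtype.ext
  show rhoM f m.1 * rhoM g m'.1 = rhoM g m'.1 * rhoM f m.1
  rw [slnm7_rhoM_mul_disj f g hfg, slnm7_rhoM_mul_disj g f (fun a b h => hfg b a h.symm)]
  abel

end M

end Cfsg.Agent.Lib.helper17.SLN
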