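import Mathlib
import Cfsg.Prelude.Def_HallClasses
import Cfsg.Agent.Lib.Helper18.SNA.Defs

/-!
Project SNA (S2222), piece A5: subgroups of odd index in `A₅` are pronormal.
Generic lemmas: Sylow subgroups are pronormal (`a5_sylow_pronormal`), maximal subgroups are pronormal
(`a5_max_pronormal`), subgroups of prime index are maximal (`a5_prime_index_max`), a proper subgroup of a
finite simple group has `|G| ∣ index!` (`a5_simple_index_bound`).
-/

set_option autoImplicit false

namespace Cfsg.Agent.Lib.Helper13.SNA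

open Cfsg.Agent.Lib.Helper18.SNA Equiv

theorem a5_mem_map_conj {G : Type*} [Group G] (H : Subgroup G) (g y : G) :
    y ∈ H.map (MulAut.conj g).toMonoidHom ↔ g⁻¹ * y * g ∈ H := by
  rw [Subgroup.mem_map]
  constructor
  · rintro ⟨h, hh, rfl⟩
    have : g⁻¹ * ((MulAut.conj g).toMonoidHom h) * g = h := by
      simp [MulAut.conj_apply, mul_assoc]
    rwa [this]
  · intro h
    refine ⟨g⁻¹ * y * g, h, ?_⟩
    simp [MulAut.conj_apply, mul_assoc]

theorem a5_sylow_pronormal {G : Type*} [Group G] [Finite G] (p : ℕ) [Fact p.Prime]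
    (H : Subgroup G) (hp : IsPGroup p H) (hidx : ¬ p ∣ H.index) : Cfsg.IsPronormal H := by
  intro g
  set Hg := H.map (MulAut.conj g).toMonoidHom with hHg
  have h1 : H ≤ H ⊔ Hg := le_sup_left
  have h2 : Hg ≤ H ⊔ Hg := le_sup_right
  have hpHg : IsPGroup p Hg := hp.map _
  have hidxg : ¬ p ∣ Hg.index := by
    have : Hg.index = H.index := Subgroup.index_map_equiv H (MulAut.conj g)
    rwa [this]
  set P : Sylow p G := hp.toSylow hidx with hP
  set Q : Sylow p G := hpHg.toSylow hidxg with hQ
  have hPc : (P : Subgroup G) = H := IsPGroup.toSylow_coe hp hidx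
  have hQc : (Q : Subgroup G) = Hg := IsPGroup.toSylow_coe hpHg hidxg
  have h1' : (P : Subgroup G) ≤ H ⊔ Hg := hPc.le.trans h1
  have h2' : (Q : Subgroup G) ≤ H ⊔ Hg := hQc.le.trans h2
  obtain ⟨k, hk⟩ := MulAction.exists_smul_eq (↥(H ⊔ Hg)) (P.subtype h1') (Q.subtype h2')
  refine ⟨(k : G), k.2, ?_⟩
  have hk' : ((k • P.subtype h1' : Sylow p ↥(H ⊔ Hg)) : Subgroup ↥(H ⊔ Hg)) =
      ((Q.subtype h2' : Sylow p ↥(H ⊔ Hg)) : Subgroup ↥(H ⊔ Hg)) := by rw [hk]
  rw [Sylow.coe_subgroup_smul, Sylow.coe_subtype, Sylow.coe_subtype, hPc, hQc] at hk'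
  ext y
  rw [a5_mem_map_conj H (k : G) y]
  constructor
  · intro hy
    have hyK : y ∈ H ⊔ Hg := h2 hy
    have h3 : (⟨y, hyK⟩ : ↥(H ⊔ Hg)) ∈ Hg.subgroupOf (H ⊔ Hg) := Subgroup.mem_subgroupOf.mpr hy
    rw [← hk', Subgroup.mem_pointwise_smul_iff_inv_smul_mem, MulAut.smul_def,
      MulAut.conj_inv_apply, Subgroup.mem_subgroupOf] at h3
    simpa using h3
  · intro hy
    have hyK : y ∈ H ⊔ Hg := by
      have : y = (k : G) * ((k : G)⁻¹ * y * k) * (k : G)⁻¹ := by group
      rw [this]
      exact (H ⊔ Hg).mul_mem ((H ⊔ Hg).mul_mem k.2 (h1 hy)) ((H ⊔ Hg).inv_mem k.2)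
    have h3 : (⟨y, hyK⟩ : ↥(H ⊔ Hg)) ∈ Hg.subgroupOf (H ⊔ Hg) := by
      rw [← hk', Subgroup.mem_pointwise_smul_iff_inv_smul_mem, MulAut.smul_def,
        MulAut.conj_inv_apply, Subgroup.mem_subgroupOf]
      simpa using hy
    exact Subgroup.mem_subgroupOf.mp h3

theorem a5_max_pronormal {G : Type*} [Group G] [Finite G]
    (H : Subgroup G) (hmax : ∀ K : Subgroup G, H ≤ K → K = H ∨ K = ⊤) : Cfsg.IsPronormal H := by
  intro g
  rcases hmax (H ⊔ H.map (MulAut.conj g).toMonoidHom) le_sup_left with h | h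
  · refine ⟨1, Subgroup.one_mem _, ?_⟩
    have hle : H.map (MulAut.conj g).toMonoidHom ≤ H := by
      have : H.map (MulAut.conj g).toMonoidHom ≤ H ⊔ H.map (MulAut.conj g).toMonoidHom :=
        le_sup_right
      rwa [h] at this
    have hcard : Nat.card (H.map (MulAut.conj g).toMonoidHom) = Nat.card H :=
      Subgroup.card_map_of_injective (MulAut.conj g).injective
    have heq : H.map (MulAut.conj g).toMonoidHom = H :=
      Subgroup.eq_of_le_of_card_ge hle hcard.ge
    rw [heq, map_one]
    ext y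
    simp
  · exact ⟨g, by rw [h]; exact Subgroup.mem_top g, rfl⟩

theorem a5_prime_index_max {G : Type*} [Group G] [Finite G]
    (H : Subgroup G) (hp : H.index.Prime) : ∀ K : Subgroup G, H ≤ K → K = H ∨ K = ⊤ := by
  intro K hK
  have hdvd : K.index ∣ H.index := Subgroup.index_dvd_of_le hK
  rcases (Nat.dvd_prime hp).mp hdvd with h | h
  · right
    exact Subgroup.index_eq_one.mp h
  · left
    have h1 := Subgroup.relIndex_mul_index hK
    rw [h] at h1
    have h0 : H.index ≠ 0 := hp.ne_zero
    have h2 : H.relIndex K = 1 := by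
      have : H.relIndex K * H.index = 1 * H.index := by rw [h1, one_mul]
      exact Nat.eq_of_mul_eq_mul_right (Nat.pos_of_ne_zero h0) this
    exact le_antisymm (Subgroup.relIndex_eq_one.mp h2) hK

theorem a5_simple_index_bound {G : Type*} [Group G] [Finite G] [IsSimpleGroup G]
    (H : Subgroup G) (hH : H ≠ ⊤) : Nat.card G ∣ (H.index).factorial := by
  classical
  have hcore : H.normalCore = ⊥ := by
    rcases (H.normalCore_normal).eq_bot_or_eq_top with h | h
    · exact h
    · exfalso
      apply hH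
      have : H.normalCore ≤ H := Subgroup.normalCore_le H
      rw [h] at this
      exact top_le_iff.mp this
  have hinj : Function.Injective (MulAction.toPermHom G (G ⧸ H)) := by
    rw [← MonoidHom.ker_eq_bot_iff, ← Subgroup.normalCore_eq_ker, hcore]
  have h1 := Subgroup.card_dvd_of_injective _ hinj
  have : Fintype (G ⧸ H) := Fintype.ofFinite _
  rw [Nat.card_eq_fintype_card (α := Equiv.Perm (G ⧸ H)), Fintype.card_perm,
    ← Nat.card_eq_fintype_card, ← Subgroup.index_eq_card] at h1
  exact h1

theorem a5_card : Nat.card (alternatingGroup (Fin 5)) = 60 := by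
  have h := two_mul_card_alternatingGroup (α := Fin 5)
  rw [Fintype.card_perm, Fintype.card_fin] at h
  rw [Nat.card_eq_fintype_card]
  have : Nat.factorial 5 = 120 := by decide
  omega

/-! ## A5 -/
theorem alt5_pronormal (H : Subgroup (alternatingGroup (Fin 5))) (hH : Odd H.index) :
    Cfsg.IsPronormal H := by
  have hcard := a5_card
  have hdvd : H.index ∣ 60 := by
    rw [← hcard]
    exact H.index_dvd_card
  have hmul : Nat.card H * H.index = 60 := by
    rw [← hcard]
    exact H.card_mul_index
  have hmem : H.index ∈ Nat.divisors 60 := Nat.mem_divisors.mpr ⟨hdvd, by norm_num⟩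
  have hd : Nat.divisors 60 = {1, 2, 3, 4, 5, 6, 10, 12, 15, 20, 30, 60} := by decide
  rw [hd] at hmem
  simp only [Finset.mem_insert, Finset.mem_singleton] at hmem
  rcases hmem with h | h | h | h | h | h | h | h | h | h | h | h
  · -- index 1
    apply a5_max_pronormal
    intro K hK
    right
    have hH1 : H = ⊤ := Subgroup.index_eq_one.mp h
    rw [hH1] at hK
    exact top_le_iff.mp hK
  · rw [h] at hH
    exact absurd hH (by decide)
  · -- index 3 is impossible
    exfalso
    have : IsSimpleGroup (alternatingGroup (Fin 5)) :=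
      alternatingGroup.isSimpleGroup (by simp)
    have hne : H ≠ ⊤ := by
      intro hH1
      rw [Subgroup.index_eq_one.mpr hH1] at h
      omega
    have h1 := a5_simple_index_bound H hne
    rw [h, hcard] at h1
    revert h1
    decide
  · rw [h] at hH
    exact absurd hH (by decide)
  · -- index 5 : maximal
    apply a5_max_pronormal
    apply a5_prime_index_max
    rw [h]
    norm_num
  · rw [h] at hH
    exact absurd hH (by decide)
  · rw [h] at hH
    exact absurd hH (by decide)
  · rw [h] at hH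
    exact absurd hH (by decide)
  · -- index 15 : Sylow 2-subgroup
    have : Fact (Nat.Prime 2) := ⟨Nat.prime_two⟩
    rw [h] at hmul
    have h4 : Nat.card H = 2 ^ 2 := by omega
    apply a5_sylow_pronormal 2 H (IsPGroup.of_card h4)
    rw [h]
    decide
  · rw [h] at hH
    exact absurd hH (by decide)
  · rw [h] at hH
    exact absurd hH (by decide)
  · rw [h] at hH
    exact absurd hH (by decide)

end Cfsg.Agent.Lib.Helper13.SNA
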