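import Mathlib
import Cfsg.Agent.Lib.helper3.SPM.Defs
import Cfsg.Agent.Lib.helper3.SPM.Defs2

/-!
# Project SPM (designer helper3, S2292 + S2296), row E4 (`lamC_swap`), VERBATIM vs `helper3/SPM/Skel1.lean.txt`.
-/

set_option autoImplicit false

namespace Cfsg.Agent.Lib.helper3.SPM

open Cfsg.Agent.Lib.helper3.STC Cfsg.Agent.Lib.helper3.STC.Mat Cfsg.Agent.Lib.helper17.SLP

universe u v w v'

section main
variable {F : Type u} [Field F] {ι : Type w} [Fintype ι] [DecidableEq ι] {G : Type v} [Group G]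
  (p : Pts ι) (ν : Equiv.Perm ι →* G) (lam : Sp4 F →* G)

/-- copy of E1 `lamC_apply` -/
theorem spme4_lamC_apply (σ : Equiv.Perm ι) (g : Sp4 F) : lamC ν lam σ g = ν σ * lam g * (ν σ)⁻¹ := rfl

/-- E4 [S]  `H.sw`, `map_mul`. -/
theorem lamC_swap (H : Glue p ν lam) (σ : Equiv.Perm ι) (g : Sp4 F) :
    lamC ν lam (σ * Equiv.swap p.o0 p.o1) g = lamC ν lam σ (swS * g * (swS : Sp4 F)⁻¹) := by
  rw [spme4_lamC_apply, spme4_lamC_apply, map_mul, H.sw, map_mul, map_mul, map_inv, mul_inv_rev]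
  simp only [mul_assoc]

end main

end Cfsg.Agent.Lib.helper3.SPM
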