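import Mathlib
import Cfsg.Agent.Lib.helper3.SPM.Defs
import Cfsg.Agent.Lib.helper3.SPM.Defs2
import Cfsg.Agent.Lib.helper3.SPM.E5h3

/-!
# Project SPM (designer helper3, S2292 + S2296), row E5 (`xr_pair_short`), VERBATIM vs `helper3/SPM/Skel1.lean.txt`.

The proof is helper3's second-writer copy `spme5h3_xr_pair_short` (`helper3/SPM/E5h3.lean`), landed while my box was down;
this file only carries the verbatim name.
-/

set_option autoImplicit false

namespace Cfsg.Agent.Lib.helper3.SPM

open Cfsg.Agent.Lib.helper3.STC Cfsg.Agent.Lib.helper3.STC.Mat Cfsg.Agent.Lib.helper17.SLP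

universe u v w v'

section main
variable {F : Type u} [Field F] {ι : Type w} [Fintype ι] [DecidableEq ι] {G : Type v} [Group G]
  (p : Pts ι) (ν : Equiv.Perm ι →* G) (lam : Sp4 F →* G)

/-- E5 [M]  the short root elements of a pair. -/
theorem xr_pair_short (H : Glue p ν lam) (hS : SpFacts F) {i j : ι} (hij : i ≠ j) {a' b' : Fin 2 ⊕ Fin 2} (hab' : ab a' ≠ ab b') (t : F) :
    lamP p ν lam i j (tm a' b' t) = xr p ν lam (pe2 i j a') (pe2 i j b') t :=
  spme5h3_xr_pair_short p ν lam H hS hij hab' t

end main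

end Cfsg.Agent.Lib.helper3.SPM
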