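import Mathlib
import Cfsg.Prelude.Def_Classical
import Cfsg.Agent.S0246
import Cfsg.Agent.S2411
import Cfsg.Agent.S2293
import Cfsg.Agent.Lib.Helper21.PresQuot
import Cfsg.Agent.Lib.Helper21.SAPTietze

/-!
# SPM blocks GEN2 + END (helper13, for helper3's S2292)

* GEN2 (a generating pair of `PSp_{2m}(F)`) is the landed `Cfsg.Agent.S2411.result`.
* END: a presentation of `Sp_{2m}(F)` on `k` generators with `r` relators gives a presentation of `PSp_{2m}(F)` on `2` generators
  with at most `r + 3` relators (`+1`: the central element `-1`, `Helper21.PresQuot.quot_central`; `+2`: Tietze,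
  `Helper21.SAPTietze.change_gens_pair`); `m = 2` from the landed S2293 (`6` generators, `≤ 36` relators for `PSp_4(F)`).
* `spm_s2292`: the frozen statement S2292 from a bounded presentation of `Sp_{2m}(F)`, `m ≥ 3`, with at most `77` relators
  (any number of generators).
-/

set_option autoImplicit false

namespace Cfsg.Agent.Lib.helper3.SPM

universe u

section END

variable {F : Type u} [Field F] [Fintype F]

/-- END1  the centre of `Sp_{2m}(F)` is generated by `-1`. -/
theorem center_eq_zpowers (m : ℕ) (hm : 1 ≤ m) :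
    Subgroup.center (Matrix.symplecticGroup (Fin m) F) =
      Subgroup.zpowers (Cfsg.Agent.S0246.negOne F m) := by
  apply le_antisymm
  · intro g hg
    rcases Cfsg.Agent.S0246.center_cases hm g hg with rfl | rfl
    · exact Subgroup.one_mem _
    · exact Subgroup.mem_zpowers _
  · rw [Subgroup.zpowers_le]
    exact Cfsg.Agent.S0246.negOne_mem_center

/-- END2  `Sp_{2m}(F)` on `k` generators with `|R|` relators gives `PSp_{2m}(F)` on `k` generators with `|R| + 1` relators. -/
theorem psp_pres (m : ℕ) (hm : 1 ≤ m) {k : ℕ} (R : Finset (FreeGroup (Fin k)))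
    (e : PresentedGroup (↑R : Set (FreeGroup (Fin k))) ≃* Matrix.symplecticGroup (Fin m) F) :
    ∃ rels : Finset (FreeGroup (Fin k)), rels.card ≤ R.card + 1 ∧
      Nonempty (PresentedGroup (↑rels : Set (FreeGroup (Fin k))) ≃* Cfsg.PSp m F) := by
  obtain ⟨rels, hc, e', _⟩ := Cfsg.Agent.Lib.Helper21.PresQuot.quot_central R e
    (Cfsg.Agent.S0246.negOne F m) Cfsg.Agent.S0246.negOne_mem_center
    (Subgroup.center (Matrix.symplecticGroup (Fin m) F)) (center_eq_zpowers m hm)
  exact ⟨rels, hc, ⟨e'⟩⟩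

/-- END3  any bounded presentation of `PSp_{2m}(F)` can be rewritten on two generators with two more relators
(Tietze + the landed S2411). -/
theorem psp_two_gen (m : ℕ) (hm : 2 ≤ m) (hF : m = 2 → 2 < Fintype.card F) {k : ℕ}
    (R : Finset (FreeGroup (Fin k)))
    (e : PresentedGroup (↑R : Set (FreeGroup (Fin k))) ≃* Cfsg.PSp m F) :
    ∃ rels : Finset (FreeGroup (Fin 2)), rels.card ≤ R.card + 2 ∧
      Nonempty (PresentedGroup (↑rels : Set (FreeGroup (Fin 2))) ≃* Cfsg.PSp m F) := by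
  obtain ⟨a, b, hab⟩ := Cfsg.Agent.S2411.result (F := F) m hm hF
  obtain ⟨rels, hc, e', _⟩ := Cfsg.Agent.Lib.Helper21.SAPT.change_gens_pair R e a b hab
  exact ⟨rels, hc, ⟨e'⟩⟩

/-- END4  `Sp_{2m}(F)` on `k` generators with `|R|` relators gives `PSp_{2m}(F)` on `2` generators with `|R| + 3` relators. -/
theorem psp_two_gen_of_sp (m : ℕ) (hm : 2 ≤ m) (hF : m = 2 → 2 < Fintype.card F) {k : ℕ}
    (R : Finset (FreeGroup (Fin k)))
    (e : PresentedGroup (↑R : Set (FreeGroup (Fin k))) ≃* Matrix.symplecticGroup (Fin m) F) :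
    ∃ rels : Finset (FreeGroup (Fin 2)), rels.card ≤ R.card + 3 ∧
      Nonempty (PresentedGroup (↑rels : Set (FreeGroup (Fin 2))) ≃* Cfsg.PSp m F) := by
  obtain ⟨R1, h1, ⟨e1⟩⟩ := psp_pres m (by omega) R e
  obtain ⟨R2, h2, he2⟩ := psp_two_gen m hm hF R1 e1
  exact ⟨R2, by omega, he2⟩

/-- END5  `m = 2`: `PSp_4(F)`, `|F| > 2`, on two generators with at most `38` relators (S2293). -/
theorem psp4_two_gen (hF : 2 < Fintype.card F) :
    ∃ rels : Finset (FreeGroup (Fin 2)), rels.card ≤ 38 ∧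
      Nonempty (PresentedGroup (↑rels : Set (FreeGroup (Fin 2))) ≃* Cfsg.PSp 2 F) := by
  obtain ⟨R, hR, ⟨e⟩⟩ := (Cfsg.Agent.S2293.result (F := F)).2
  obtain ⟨R2, h2, he2⟩ := psp_two_gen 2 le_rfl (fun _ => hF) R e
  exact ⟨R2, by omega, he2⟩

/-- END6 = the frozen S2292, from a presentation of `Sp_{2m}(F)`, `m ≥ 3`, with at most `77` relators. -/
theorem spm_s2292 (m : ℕ) (hm : 2 ≤ m) (h22 : ¬ (m = 2 ∧ Fintype.card F = 2))
    (hSp : 3 ≤ m → ∃ (k : ℕ) (R : Finset (FreeGroup (Fin k))), R.card ≤ 77 ∧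
      Nonempty (PresentedGroup (↑R : Set (FreeGroup (Fin k))) ≃* Matrix.symplecticGroup (Fin m) F)) :
    ∃ rels : Finset (FreeGroup (Fin 2)), rels.card ≤ 80 ∧
      Nonempty (PresentedGroup (↑rels : Set (FreeGroup (Fin 2))) ≃* Cfsg.PSp m F) := by
  have hcard : 1 < Fintype.card F := Fintype.one_lt_card
  rcases Nat.lt_or_ge 2 m with h3 | h2
  · obtain ⟨k, R, hR, ⟨e⟩⟩ := hSp h3
    obtain ⟨rels, hc, he⟩ := psp_two_gen_of_sp m hm (fun h => by omega) R e
    exact ⟨rels, by omega, he⟩
  · have hm2 : m = 2 := by omega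
    subst hm2
    have hF : 2 < Fintype.card F := by
      rcases Nat.lt_or_ge 2 (Fintype.card F) with h | h
      · exact h
      · exact absurd ⟨rfl, by omega⟩ h22
    obtain ⟨rels, hc, he⟩ := psp4_two_gen (F := F) hF
    exact ⟨rels, by omega, he⟩

end END

end Cfsg.Agent.Lib.helper3.SPM
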