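import Mathlib
import Cfsg.Prelude.Def_GeometricClasses
import Cfsg.Agent.Lib.Helper27.ASC.Defs
import Cfsg.Agent.Lib.helper6.Symp
import Cfsg.Agent.S5646
import Cfsg.Agent.S5652

/-!
# Project SPX, piece PR8 : `Sp_2m` (`m ≥ 2`) is contained in no orthogonal similarity group with polar form `sympForm`

`polar Q u u = 2 Q u = 0`, so `2 = 0` (else `Q = 0` and the polar form vanishes).  For a singular `s ≠ 0` the transvection `t_s`
satisfies `Q (t_s x) = Q x + f(x,s)²`; if it is a similarity with multiplier `c` then `(c - 1) Q x = f(x,s)²`, polarising gives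
`(c - 1) f(x,y) = 2 f(x,s) f(y,s) = 0`, so `c = 1` and `f(x,s) = 0` for all `x`.
-/

set_option autoImplicit false
set_option linter.unusedVariables false
set_option linter.unusedSectionVars false

namespace Cfsg.Agent.Lib.helper6.SPX

open Cfsg Cfsg.Geo Cfsg.Agent.Lib.Helper27.ASC
open scoped MatrixGroups Matrix Kronecker

variable {m : ℕ} {F : Type*} [Field F] [Fintype F]

omit [Fintype F] in
/-- the polar form of `Q` being alternating and non-zero forces characteristic two -/
theorem spxpr8_two (hm : 1 ≤ m) (Q : (Fin m ⊕ Fin m → F) → F) (hQ : IsNondegenerateQuadraticForm Q)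
    (hpol : ∀ u v, QuadraticMap.polar Q u v = sympForm m F u v) : (2 : F) = 0 := by
  classical
  by_contra h2
  have hQ0 : ∀ u, Q u = 0 := by
    intro u
    have h1 := hpol u u
    rw [Cfsg.Agent.Lib.helper6.sympForm_self] at h1
    unfold QuadraticMap.polar at h1
    rw [← two_smul F u, hQ.smul] at h1
    have h3 : (2 : F) * Q u = 0 := by linear_combination h1
    rcases mul_eq_zero.mp h3 with h | h
    · exact absurd h h2
    · exact h
  set e : Fin m ⊕ Fin m → F := Pi.single (Sum.inl ⟨0, by omega⟩) 1 with he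
  have he0 : e ≠ 0 := by
    intro h
    have := congrFun h (Sum.inl ⟨0, by omega⟩)
    rw [he] at this
    simp at this
  obtain ⟨x, hx⟩ := Cfsg.Agent.Lib.helper6.sympForm_nondeg m e he0
  apply hx
  rw [← hpol]
  unfold QuadraticMap.polar
  rw [hQ0, hQ0, hQ0]
  ring

/-- PR8 : `Sp_2m`, `m ≥ 2`, is not contained in an orthogonal similarity group. -/
theorem pr_sp_quad (hm : 2 ≤ m) (Q : (Fin m ⊕ Fin m → F) → F) (hQ : IsNondegenerateQuadraticForm Q)
    (hpol : ∀ u v, QuadraticMap.polar Q u v = sympForm m F u v) :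
    ¬ spGL m F ≤ quadSimilarityGroup Q := by
  classical
  intro hle
  have h2 : (2 : F) = 0 := spxpr8_two (by omega) Q hQ hpol
  obtain ⟨s, hs0, hs⟩ := Cfsg.Agent.S5652.exists_singular hQ hpol h2 hm
  obtain ⟨g, hg, hgSp⟩ := Cfsg.Agent.S5646.tsGL (m := m) (F := F) s 1
  obtain ⟨c, hc⟩ := hle hgSp
  -- `Q (t x) = Q x + f(x,s)²`
  have hQt : ∀ x, Q ((g : Matrix (Fin m ⊕ Fin m) (Fin m ⊕ Fin m) F) *ᵥ x) = Q x + (sympForm m F x s) ^ 2 := by
    intro x
    rw [Cfsg.Agent.S5646.ts_apply g s 1 hg x, one_mul]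
    have h1 := hpol x (sympForm m F x s • s)
    unfold QuadraticMap.polar at h1
    rw [Cfsg.Agent.Lib.helper6.sympForm_smul_right, hQ.smul, hs] at h1
    linear_combination h1
  have hkey : ∀ x, ((c : F) - 1) * Q x = (sympForm m F x s) ^ 2 := by
    intro x
    have := hc x
    rw [hQt x] at this
    linear_combination -this
  -- polarise
  have hpz : ∀ x y, ((c : F) - 1) * sympForm m F x y = 0 := by
    intro x y
    rw [← hpol]
    unfold QuadraticMap.polar
    have hx := hkey x
    have hy := hkey y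
    have hxy := hkey (x + y)
    rw [Cfsg.Agent.Lib.helper6.sympForm_add_left] at hxy
    linear_combination hxy - hx - hy + (sympForm m F x s * sympForm m F y s) * h2
  obtain ⟨y, hy⟩ := Cfsg.Agent.Lib.helper6.sympForm_nondeg m s hs0
  have hc1 : (c : F) - 1 = 0 := by
    rcases mul_eq_zero.mp (hpz s y) with h | h
    · exact h
    · exact absurd h hy
  apply hy
  have h3 := hkey y
  rw [hc1, zero_mul] at h3
  have h4 : sympForm m F y s = 0 := by
    have := h3.symm
    exact pow_eq_zero_iff (two_ne_zero) |>.mp this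
  rw [Cfsg.Agent.Lib.helper6.sympForm_swap, h4, neg_zero]

end Cfsg.Agent.Lib.helper6.SPX
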