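import Mathlib
import Cfsg.Agent.Lib.helper14.SQD.Defs

/-!
# SQD row G5 (`sgGrp_good`): the core, with the statements of X11 (`semi_good`), G2, G3, G4a, G4b and
`SqD (levGrp τ)` (= X2 applied to T6) as hypotheses.
-/

set_option autoImplicit false

namespace Cfsg.Agent.Lib.helper14.SQD

open Cfsg Cfsg.Lie Matrix

universe u v

variable {k : ℕ} {F : Type u} [Field F]

/-- elements of the Siegel part are involutions in characteristic 2 -/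
theorem sqdg5_sieg_sq [CharP F 2] (𝒮 : AddSubgroup (Matrix (Fin k) (Fin k) F))
    (x : GL (Fin k ⊕ Fin k) F) (hx : x ∈ siegGrp 𝒮) : x ^ 2 = 1 := by
  unfold siegGrp at hx
  obtain ⟨S, _, rfl⟩ := Subgroup.mem_map.mp hx
  rw [← map_pow]
  have : S ^ 2 = 1 := by
    rw [pow_two]
    apply Multiplicative.toAdd.injective
    rw [toAdd_mul, toAdd_one]
    ext i j
    rw [Matrix.add_apply, Matrix.zero_apply]
    exact CharTwo.add_self_eq_zero _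
  rw [this, map_one]

/-- G5 core. -/
theorem sqdg5_core [Fintype F] [CharP F 2] (τ : F →+* F)
    (𝒮 : AddSubgroup (Matrix (Fin k) (Fin k) F))
    (hX11 : ∀ (N L : Subgroup (GL (Fin k ⊕ Fin k) F)),
      L ≤ Subgroup.normalizer (N : Set (GL (Fin k ⊕ Fin k) F)) → IsPGroup 2 N → IsPGroup 2 L →
      N ⊓ L = ⊥ → (∀ x ∈ N, x ^ 2 ∈ ⁅N ⊔ L, N ⊔ L⁆) → (∀ x ∈ L, x ^ 2 ∈ ⁅N ⊔ L, N ⊔ L⁆) →
      IsPGroup 2 ↥(N ⊔ L) ∧ Nat.card N * Nat.card L ≤ Nat.card ↥(N ⊔ L) ∧ SqD (N ⊔ L))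
    (hG2 : levGrp τ ≤ Subgroup.normalizer
      ((siegGrp 𝒮 : Subgroup (GL (Fin k ⊕ Fin k) F)) : Set (GL (Fin k ⊕ Fin k) F)))
    (hG3 : siegGrp 𝒮 ⊓ levGrp (k := k) τ = ⊥)
    (hG4a : Nat.card (siegGrp 𝒮) = Nat.card 𝒮)
    (hG4b : Nat.card (levGrp (k := k) τ) = Fintype.card F ^ (k * (k - 1) / 2))
    (hSqL : SqD (levGrp (k := k) τ)) :
    IsPGroup 2 ↥(sgGrp τ 𝒮) ∧
      Nat.card 𝒮 * Fintype.card F ^ (k * (k - 1) / 2) ≤ Nat.card ↥(sgGrp τ 𝒮) ∧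
        SqD (sgGrp τ 𝒮) := by
  have hN : IsPGroup 2 (siegGrp 𝒮 : Subgroup (GL (Fin k ⊕ Fin k) F)) := by
    intro x
    refine ⟨1, ?_⟩
    apply Subtype.ext
    have := sqdg5_sieg_sq 𝒮 x.1 x.2
    simpa using this
  have hL : IsPGroup 2 (levGrp (k := k) τ : Subgroup (GL (Fin k ⊕ Fin k) F)) := by
    obtain ⟨n, _, hn⟩ := FiniteField.card F 2
    apply IsPGroup.of_card (n := (n : ℕ) * (k * (k - 1) / 2))
    rw [hG4b, hn, pow_mul]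
  have hN2 : ∀ x ∈ (siegGrp 𝒮 : Subgroup (GL (Fin k ⊕ Fin k) F)),
      x ^ 2 ∈ ⁅siegGrp 𝒮 ⊔ levGrp τ, siegGrp 𝒮 ⊔ levGrp τ⁆ := by
    intro x hx
    rw [sqdg5_sieg_sq 𝒮 x hx]
    exact Subgroup.one_mem _
  have hL2 : ∀ x ∈ (levGrp τ : Subgroup (GL (Fin k ⊕ Fin k) F)),
      x ^ 2 ∈ ⁅siegGrp 𝒮 ⊔ levGrp τ, siegGrp 𝒮 ⊔ levGrp τ⁆ := by
    intro x hx
    exact Subgroup.commutator_mono le_sup_right le_sup_right (hSqL x hx)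
  obtain ⟨h1, h2, h3⟩ := hX11 (siegGrp 𝒮) (levGrp τ) hG2 hN hL hG3 hN2 hL2
  refine ⟨h1, ?_, h3⟩
  rw [hG4a, hG4b] at h2
  exact h2

end Cfsg.Agent.Lib.helper14.SQD
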