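import Mathlib
import Cfsg.Agent.Lib.helper14.SQD.Defs
import Cfsg.Agent.Lib.Helper13.SQDG5core
import Cfsg.Agent.Lib.Helper1.SQDX4
import Cfsg.Agent.Lib.Helper24.SQDG2
import Cfsg.Agent.Lib.Helper16.SQDG3
import Cfsg.Agent.Lib.Helper16.SQDG4core
import Cfsg.Agent.Lib.Helper27.SQDT3
import Cfsg.Agent.Lib.Helper18.SQDX2
import Cfsg.Agent.Lib.Helper28.SQDT6

/-!
# SQD row G5 (`sgGrp_good`), verbatim: the generic Siegel-type group is a 2-group of the expected order in which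
every square is a product of commutators.  From the core `sqdg5_core` and the landed rows X11 (`semi_good`), G2
(`lev_le_normalizer`), G3 (`sieg_inf_lev`), G4a (`card_siegGrp`), G4b (via `card_levGrp_core` and T3 `card_uutGL`),
X2 (`sqd_map`), T6 (`sqd_uutGL`).
-/

set_option autoImplicit false

namespace Cfsg.Agent.Lib.helper14.SQD

open Cfsg Cfsg.Lie Matrix

universe u v

section G
variable {k : ℕ} {F : Type u} [Field F]

/-- G5 [M]. X11 with `N = siegGrp 𝒮`, `L = levGrp τ`: G2, G3; `N` has exponent 2 (`S + S = 0`); `L` is a 2-group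
by its order (G4b, `FiniteField.card F 2`, `IsPGroup.of_card`); squares of `L` lie in `⁅L, L⁆` by T6 and X2
(`Subgroup.commutator_mono`); the cardinalities from G4a, G4b. -/
theorem sgGrp_good [Fintype F] [CharP F 2] (τ : F →+* F) (𝒮 : AddSubgroup (Matrix (Fin k) (Fin k) F))
    (h𝒮 : ∀ A : Matrix (Fin k) (Fin k) F, IsUUT A → ∀ S ∈ 𝒮, A * S * tadj τ A ∈ 𝒮) :
    IsPGroup 2 ↥(sgGrp τ 𝒮) ∧
      Nat.card 𝒮 * Fintype.card F ^ (k * (k - 1) / 2) ≤ Nat.card ↥(sgGrp τ 𝒮) ∧ SqD (sgGrp τ 𝒮) :=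
  sqdg5_core τ 𝒮 (fun N L h1 h2 h3 h4 h5 h6 => semi_good N L h1 h2 h3 h4 h5 h6)
    (lev_le_normalizer τ 𝒮 h𝒮) (sieg_inf_lev τ 𝒮) (card_siegGrp 𝒮)
    (card_levGrp_core (card_uutGL k) τ) (sqd_map (levHom τ) (uutGL k F) sqd_uutGL)

end G

end Cfsg.Agent.Lib.helper14.SQD
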