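import Mathlib
import Cfsg.Prelude.Def_LieTypeChar
import Cfsg.Agent.Lib.helper14.SQD.Defs
import Cfsg.Agent.Lib.helper14.SQD.DefsU
import Cfsg.Agent.Lib.Helper24.SQD.DefsO

/-!
Project SQD = S4625, part O (designer helper24), rows OM2 (`omC_props`) and OM3 (`omC_lev`), verbatim.
Own-name copies of the statements of OM1a / OM1c (`sqdom2_omQ0_add`, `sqdom2_omQ0_neg`) are included, so the file needs only
the definitions.
-/

set_option autoImplicit false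

namespace Cfsg.Agent.Lib.helper14.SQD

open Cfsg Cfsg.Lie Matrix

universe u v

section OM
variable {k : ℕ} {F : Type u} [Field F] (a b : F)

/-- `tadj id A = Aᵀ` -/
theorem sqdom2_tadj_id {m n : Type*} (A : Matrix m n F) : tadj (RingHom.id F) A = Aᵀ := by
  ext i j
  simp [tadj]

/-- own copy of the statement of OM1a -/
theorem sqdom2_omQ0_add [CharP F 2] (z z' : Fin 2 → F) :
    omQ0 a b (z + z') = omQ0 a b z + omQ0 a b z' + z ⬝ᵥ (omG0 a *ᵥ z') := by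
  have h2 : (2 : F) = 0 := CharTwo.two_eq_zero
  simp only [omQ0, omG0, dotProduct, Matrix.mulVec, Fin.sum_univ_two, Pi.add_apply, Matrix.of_apply,
    Matrix.cons_val', Matrix.cons_val_zero, Matrix.cons_val_one, Matrix.empty_val',
    Matrix.cons_val_fin_one]
  linear_combination (z 0 * z' 0 + b * z 1 * z' 1) * h2

/-- own copy of the statement of OM1c -/
theorem sqdom2_omQ0_neg (z : Fin 2 → F) : omQ0 a b (-z) = omQ0 a b z := by
  simp only [omQ0, Pi.neg_apply]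
  ring

/-- `z ⬝ᵥ G₀ *ᵥ z = 0` in characteristic 2 -/
theorem sqdom2_G0_self [CharP F 2] (z : Fin 2 → F) : z ⬝ᵥ (omG0 a *ᵥ z) = 0 := by
  have h2 : (2 : F) = 0 := CharTwo.two_eq_zero
  simp only [omG0, dotProduct, Matrix.mulVec, Fin.sum_univ_two, Matrix.of_apply,
    Matrix.cons_val', Matrix.cons_val_zero, Matrix.cons_val_one, Matrix.empty_val',
    Matrix.cons_val_fin_one]
  linear_combination (a * z 0 * z 1) * h2

/-- `y ⬝ᵥ (Rᵀ * G * R') *ᵥ y = (R *ᵥ y) ⬝ᵥ G *ᵥ (R' *ᵥ y)` -/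
theorem sqdom2_sandwich {d : ℕ} (R R' : Matrix (Fin d) (Fin k) F) (G : Matrix (Fin d) (Fin d) F)
    (y : Fin k → F) : y ⬝ᵥ ((Rᵀ * G * R') *ᵥ y) = (R *ᵥ y) ⬝ᵥ (G *ᵥ (R' *ᵥ y)) := by
  rw [← Matrix.mulVec_mulVec, ← Matrix.mulVec_mulVec, Matrix.dotProduct_mulVec,
    Matrix.vecMul_transpose]

/-- OM2 [M]. With OM1a, OM1c: `y ⬝ᵥ (C + C' + Rᵀ * G₀ * R') *ᵥ y = Q₀ (R y) + Q₀ (R' y) + (R y) ⬝ᵥ G₀ *ᵥ (R' y) = Q₀ ((R + R') y)`
(`Matrix.add_mulVec`, `dotProduct_add`, `Matrix.dotProduct_mulVec`, `Matrix.vecMul_transpose`, `Matrix.mulVec_mulVec`;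
`tadj (RingHom.id F) R = Rᵀ` by `Matrix.map_id`); for the inverse `z ⬝ᵥ G₀ *ᵥ z = 2 * a * z 0 * z 1 = 0` and `-x = x`. -/
theorem omC_props [CharP F 2] :
    omC (k := k) a b 0 0 ∧
    (∀ R C R' C', omC (k := k) a b R C → omC a b R' C' →
      omC a b (R + R') (C + C' + tadj (RingHom.id F) R * omG0 a * R')) ∧
    ∀ R C, omC (k := k) a b R C → omC a b (-R) (-C + tadj (RingHom.id F) R * omG0 a * R) := by
  refine ⟨?_, ?_, ?_⟩
  · intro y
    rw [Matrix.zero_mulVec, Matrix.zero_mulVec, dotProduct_zero]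
    simp [omQ0]
  · intro R C R' C' h h' y
    rw [sqdom2_tadj_id, Matrix.add_mulVec, Matrix.add_mulVec, dotProduct_add, dotProduct_add, h y, h' y,
      sqdom2_sandwich, Matrix.add_mulVec, sqdom2_omQ0_add]
  · intro R C h y
    rw [sqdom2_tadj_id, Matrix.add_mulVec, dotProduct_add, sqdom2_sandwich, sqdom2_G0_self, add_zero,
      Matrix.neg_mulVec, dotProduct_neg, h y, Matrix.neg_mulVec, sqdom2_omQ0_neg]
    exact CharTwo.neg_eq _

/-- OM3 [E-M]. `y ⬝ᵥ (g * C * gᵀ) *ᵥ y = (gᵀ *ᵥ y) ⬝ᵥ C *ᵥ (gᵀ *ᵥ y)` and `(R * gᵀ) *ᵥ y = R *ᵥ (gᵀ *ᵥ y)`. -/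
theorem omC_lev (g : Matrix (Fin k) (Fin k) F) (R : Matrix (Fin 2) (Fin k) F) (C : Matrix (Fin k) (Fin k) F)
    (h : omC a b R C) : omC a b (R * tadj (RingHom.id F) g) (g * C * tadj (RingHom.id F) g) := by
  intro y
  rw [sqdom2_tadj_id]
  have h1 : y ⬝ᵥ ((g * C * gᵀ) *ᵥ y) = (gᵀ *ᵥ y) ⬝ᵥ (C *ᵥ (gᵀ *ᵥ y)) := by
    have := sqdom2_sandwich (gᵀ) (gᵀ) C y
    rw [Matrix.transpose_transpose] at this
    exact this
  rw [h1, h (gᵀ *ᵥ y), Matrix.mulVec_mulVec]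

end OM

end Cfsg.Agent.Lib.helper14.SQD
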