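import Mathlib
import Cfsg.Prelude.Def_LieTypeChar
import Cfsg.Agent.Lib.helper14.SQD.Defs
import Cfsg.Agent.Lib.helper14.SQD.DefsU
import Cfsg.Agent.Lib.Helper24.SQD.DefsO
import Cfsg.Agent.Lib.Helper21.SQDH6
import Cfsg.Agent.Lib.Helper22.SQDH2
import Cfsg.Agent.Lib.Helper13.SQDOM2

/-!
Project SQD = S4625, part O (designer helper24), row OM6 (`omH_sq`) as a second writer: `sqdom6_h13_omH_sq` is the exact
statement of the skeleton under an own name.  Own copies of the statements of OM4a (`sqdom6_h13_omC_std`), OM1b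
(`sqdom6_h13_omN_quad`) and OM6a (`sqdom6_h13_exists_hs_unit`).
-/

set_option autoImplicit false

namespace Cfsg.Agent.Lib.helper14.SQD

open Cfsg Cfsg.Lie Matrix
open scoped commutatorElement

universe u v

section OM
variable {k : ℕ} {F : Type u} [Field F] (a b : F)

/-- own copy of the statement of OM1b -/
theorem sqdom6_h13_omN_quad (z : Fin 2 → F) : z ⬝ᵥ (omN a b *ᵥ z) = omQ0 a b z := by
  simp only [omQ0, omN, dotProduct, Matrix.mulVec, Fin.sum_univ_two, Matrix.of_apply,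
    Matrix.cons_val', Matrix.cons_val_zero, Matrix.cons_val_one, Matrix.empty_val',
    Matrix.cons_val_fin_one]
  ring

/-- own copy of the statement of OM4a -/
theorem sqdom6_h13_omC_std (R : Matrix (Fin 2) (Fin k) F) : omC a b R (Rᵀ * omN a b * R) := by
  intro y
  rw [sqdom2_sandwich, sqdom6_h13_omN_quad]

/-- own copy of the statement of OM6a -/
theorem sqdom6_h13_exists_hs_unit {d : ℕ} (τ : F →+* F) (G₀ : Matrix (Fin d) (Fin d) F)
    (R : Matrix (Fin d) (Fin k) F) (C : Matrix (Fin k) (Fin k) F) :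
    ∃ w : GL ((Fin k ⊕ Fin k) ⊕ Fin d) F,
      (w : Matrix ((Fin k ⊕ Fin k) ⊕ Fin d) ((Fin k ⊕ Fin k) ⊕ Fin d) F) = hsM τ G₀ R C := by
  have h : hsM τ G₀ R C * hsM τ G₀ (-R) (-C + tadj τ R * G₀ * R) = 1 := by
    rw [sqdh6_mul]
    have h1 : R + -R = 0 := add_neg_cancel R
    have h2 : C + (-C + tadj τ R * G₀ * R) + tadj τ R * G₀ * -R = 0 := by
      rw [Matrix.mul_neg]
      abel
    rw [h1, h2, sqdh6_zero]
  exact ⟨⟨hsM τ G₀ R C, hsM τ G₀ (-R) (-C + tadj τ R * G₀ * R), h, _root_.mul_eq_one_comm.mp h⟩, rfl⟩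

/-- the row `0` part of `R` -/
def sqdom6_h13_row0 (R : Matrix (Fin 2) (Fin k) F) : Matrix (Fin 2) (Fin k) F :=
  Matrix.of fun i j => if i = 0 then R i j else 0

/-- the row `1` part of `R` -/
def sqdom6_h13_row1 (R : Matrix (Fin 2) (Fin k) F) : Matrix (Fin 2) (Fin k) F :=
  Matrix.of fun i j => if i = 1 then R i j else 0

/-- `Rᵀ G₀ R = R₀ᵀ G₀ R₁ + R₁ᵀ G₀ R₀` -/
theorem sqdom6_h13_split (R : Matrix (Fin 2) (Fin k) F) :
    Rᵀ * omG0 a * R = (sqdom6_h13_row0 R)ᵀ * omG0 a * sqdom6_h13_row1 R +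
      (sqdom6_h13_row1 R)ᵀ * omG0 a * sqdom6_h13_row0 R := by
  ext i j
  simp only [Matrix.add_apply, Matrix.mul_apply, Fin.sum_univ_two, Matrix.transpose_apply, omG0,
    sqdom6_h13_row0, sqdom6_h13_row1, Matrix.of_apply, Matrix.cons_val', Matrix.cons_val_zero,
    Matrix.cons_val_one, Matrix.empty_val', Matrix.cons_val_fin_one]
  simp
  ring

/-- OM6 [M], second writer: the exact statement of `omH_sq`. -/
theorem sqdom6_h13_omH_sq [CharP F 2] (w : GL ((Fin k ⊕ Fin k) ⊕ Fin 2) F)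
    (hw : w ∈ hsGrp (RingHom.id F) (omG0 a) (omC (k := k) a b)) :
    w ^ 2 ∈ ⁅hsGrp (RingHom.id F) (omG0 a) (omC (k := k) a b),
      hsGrp (RingHom.id F) (omG0 a) (omC (k := k) a b)⁆ := by
  obtain ⟨h0, hmul, hinv⟩ := omC_props (k := k) a b
  obtain ⟨R, C, hRC, hval⟩ := (mem_hsGrp (RingHom.id F) (omG0 a) (omC (k := k) a b) h0 hmul hinv w).mp hw
  set R₀ := sqdom6_h13_row0 R with hR₀
  set R₁ := sqdom6_h13_row1 R with hR₁
  obtain ⟨u₀, hu₀⟩ := sqdom6_h13_exists_hs_unit (RingHom.id F) (omG0 a) R₀ (R₀ᵀ * omN a b * R₀)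
  obtain ⟨u₁, hu₁⟩ := sqdom6_h13_exists_hs_unit (RingHom.id F) (omG0 a) R₁ (R₁ᵀ * omN a b * R₁)
  have hm₀ : u₀ ∈ hsGrp (RingHom.id F) (omG0 a) (omC (k := k) a b) :=
    Subgroup.subset_closure ⟨R₀, _, sqdom6_h13_omC_std a b R₀, hu₀⟩
  have hm₁ : u₁ ∈ hsGrp (RingHom.id F) (omG0 a) (omC (k := k) a b) :=
    Subgroup.subset_closure ⟨R₁, _, sqdom6_h13_omC_std a b R₁, hu₁⟩
  have hcomm := hs_comm (RingHom.id F) (omG0 a) R₀ R₁ _ _ u₀ u₁ hu₀ hu₁
  have heq : w ^ 2 = ⁅u₀, u₁⁆ := by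
    apply Units.ext
    rw [commutatorElement_def, hcomm, pow_two, Units.val_mul, hval, hs_sq]
    congr 1
    rw [sqdom2_tadj_id, sqdom2_tadj_id, sqdom2_tadj_id]
    exact sqdom6_h13_split a R
  rw [heq]
  exact Subgroup.commutator_mem_commutator hm₀ hm₁

end OM

end Cfsg.Agent.Lib.helper14.SQD
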