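import Mathlib
import Cfsg.Prelude.Def_LieTypeChar
import Cfsg.Agent.Lib.helper14.SQD.Defs
import Cfsg.Agent.Lib.helper14.SQD.DefsU
import Cfsg.Agent.Lib.helper15.SQDUE1
import Cfsg.Agent.Lib.Helper25.SQDUE2
import Cfsg.Agent.Lib.Helper22.SQDUO6core

/-!
Project SQD = S4625, row UE4 (`mem_range_psiE`), verbatim: the range of `psiE` is the special unitary group of the
hyperbolic form `[[0, 1], [1, 0]]`.  From helper22's generic range lemma (`sqduo6_rangeE`), UE1 (`mem_su_iff`,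
helper15) and UE2 (`pev_gram`, helper25).
-/

set_option autoImplicit false

namespace Cfsg.Agent.Lib.helper14.SQD

open Cfsg Cfsg.Lie Matrix

section UE
variable {F : Type} [Field F] [Fintype F] [CharP F 2] (e : ℕ) {k : ℕ}

/-- UE4 [M-H]. `w = psiE g` iff `g = reindex (P * w * P⁻¹)`; such a `g` has determinant `det w` and satisfies UE1 iff
`wᵀ * (Pᵀ * P^τ) * w^τ = Pᵀ * P^τ` (UE2; `Matrix.map_mul`, reindexing commutes with transpose, `map`, products). -/
theorem mem_range_psiE (a : F) (ha : a ^ 2 ^ e + a = 1) (w : GL (Fin k ⊕ Fin k) F) :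
    w ∈ (psiE (k := k) (F := F) (2 ^ e) a).range ↔
      (w : Matrix (Fin k ⊕ Fin k) (Fin k ⊕ Fin k) F).det = 1 ∧
      (w : Matrix (Fin k ⊕ Fin k) (Fin k ⊕ Fin k) F)ᵀ * Matrix.fromBlocks 0 1 1 0 *
        (w : Matrix (Fin k ⊕ Fin k) (Fin k ⊕ Fin k) F).map (frobE F e) = Matrix.fromBlocks 0 1 1 0 :=
  sqduo6_rangeE e (fun n g => mem_su_iff e n g) (fun a ha => pev_gram e a ha) a ha w

end UE

end Cfsg.Agent.Lib.helper14.SQD
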