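import Mathlib
import Cfsg.Agent.Lib.helper14.SQD.Defs
import Cfsg.Agent.Lib.Helper28.SQDT1

/-!
# SQD row UE9 (`sgE_center`): the core, for an abstract subgroup `Rg` of `GL (Fin k ⊕ Fin k) F` containing the lower
Siegel elements and the Levi elements of determinant 1 (the conclusion of UE8).
-/

set_option autoImplicit false

namespace Cfsg.Agent.Lib.helper14.SQD

open Cfsg Cfsg.Lie Matrix

universe u v

section
variable {ι : Type*} [Fintype ι] [DecidableEq ι] {F : Type u} [Field F]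

/-- the stabiliser of a vector in `GL` -/
def sqdue9_stab (b : ι → F) : Subgroup (GL ι F) where
  carrier := {g | (g : Matrix ι ι F) *ᵥ b = b}
  mul_mem' := fun {g h} hg hh => by
    show ((g * h : GL ι F) : Matrix ι ι F) *ᵥ b = b
    rw [Units.val_mul, ← Matrix.mulVec_mulVec, show (h : Matrix ι ι F) *ᵥ b = b from hh]
    exact hg
  one_mem' := by
    show ((1 : GL ι F) : Matrix ι ι F) *ᵥ b = b
    rw [Units.val_one, Matrix.one_mulVec]
  inv_mem' := fun {g} hg => by
    show ((g⁻¹ : GL ι F) : Matrix ι ι F) *ᵥ b = b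
    have h1 : (g : Matrix ι ι F) *ᵥ b = b := hg
    calc ((g⁻¹ : GL ι F) : Matrix ι ι F) *ᵥ b
        = ((g⁻¹ : GL ι F) : Matrix ι ι F) *ᵥ ((g : Matrix ι ι F) *ᵥ b) := by rw [h1]
      _ = ((g⁻¹ * g : GL ι F) : Matrix ι ι F) *ᵥ b := by rw [Matrix.mulVec_mulVec, Units.val_mul]
      _ = b := by rw [inv_mul_cancel, Units.val_one, Matrix.one_mulVec]

theorem sqdue9_mem_stab (b : ι → F) (g : GL ι F) :
    g ∈ sqdue9_stab b ↔ (g : Matrix ι ι F) *ᵥ b = b := Iff.rfl

/-- a matrix fixing all standard basis vectors is `1` -/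
theorem sqdue9_eq_one (z : GL ι F) (h : ∀ x : ι, (z : Matrix ι ι F) *ᵥ Pi.single x 1 = Pi.single x 1) :
    z = 1 := by
  apply Units.ext
  rw [Units.val_one]
  ext i x
  have := congrFun (h x) i
  rw [Matrix.mulVec_single_one, Matrix.col_apply] at this
  rw [this, Matrix.one_apply, Pi.single_apply]

end

variable {k : ℕ} {F : Type u} [Field F]

/-- the lower Siegel unit `[[1, 0], [T, 1]]` -/
def sqdue9_low (T : Matrix (Fin k) (Fin k) F) : GL (Fin k ⊕ Fin k) F :=
  ⟨Matrix.fromBlocks 1 0 T 1, Matrix.fromBlocks 1 0 (-T) 1,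
    by rw [Matrix.fromBlocks_multiply]; simp [Matrix.fromBlocks_one],
    by rw [Matrix.fromBlocks_multiply]; simp [Matrix.fromBlocks_one]⟩

theorem sqdue9_low_coe (T : Matrix (Fin k) (Fin k) F) :
    ((sqdue9_low T : GL (Fin k ⊕ Fin k) F) : Matrix (Fin k ⊕ Fin k) (Fin k ⊕ Fin k) F) =
      Matrix.fromBlocks 1 0 T 1 := rfl

/-- `Pi.single (inl j) 1` as `Sum.elim` -/
theorem sqdue9_single_inl (j : Fin k) :
    (Pi.single (Sum.inl j) 1 : Fin k ⊕ Fin k → F) = Sum.elim (Pi.single j 1) 0 := by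
  ext x
  rcases x with x | x
  · rw [Sum.elim_inl, Pi.single_apply, Pi.single_apply]
    simp only [Sum.inl.injEq]
  · simp

theorem sqdue9_single_inr (j : Fin k) :
    (Pi.single (Sum.inr j) 1 : Fin k ⊕ Fin k → F) = Sum.elim (0 : Fin k → F) (Pi.single j 1) := by
  ext x
  rcases x with x | x
  · simp
  · rw [Sum.elim_inr, Pi.single_apply, Pi.single_apply]
    simp only [Sum.inr.injEq]

theorem sqdue9_elim_add (u u' v v' : Fin k → F) :
    (Sum.elim (u + u') (v + v') : Fin k ⊕ Fin k → F) = Sum.elim u v + Sum.elim u' v' := by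
  ext x
  rcases x with x | x <;> rfl

/-- the action of a block matrix on `Sum.elim u 0` -/
theorem sqdue9_blocks_mulVec (A C D : Matrix (Fin k) (Fin k) F) (B : Matrix (Fin k) (Fin k) F)
    (u : Fin k → F) :
    Matrix.fromBlocks A B C D *ᵥ (Sum.elim u 0 : Fin k ⊕ Fin k → F) = Sum.elim (A *ᵥ u) (C *ᵥ u) := by
  rw [Matrix.fromBlocks_mulVec]
  have h1 : (Sum.elim u 0 : Fin k ⊕ Fin k → F) ∘ Sum.inl = u := by ext; rfl
  have h2 : (Sum.elim u 0 : Fin k ⊕ Fin k → F) ∘ Sum.inr = 0 := by ext; rfl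
  rw [h1, h2, Matrix.mulVec_zero, Matrix.mulVec_zero, add_zero, add_zero]

/-- UE9 core. -/
theorem sqdue9_core (τ : F →+* F) (𝒮 : AddSubgroup (Matrix (Fin k) (Fin k) F))
    (Rg : Subgroup (GL (Fin k ⊕ Fin k) F))
    (h1 : ∀ T ∈ hermAdd k τ, ∀ w : GL (Fin k ⊕ Fin k) F,
      (w : Matrix (Fin k ⊕ Fin k) (Fin k ⊕ Fin k) F) = Matrix.fromBlocks 1 0 T 1 → w ∈ Rg)
    (h2 : ∀ g : GL (Fin k) F, (g : Matrix (Fin k) (Fin k) F).det = 1 → levHom τ g ∈ Rg)
    (z : GL (Fin k ⊕ Fin k) F) (hz : z ∈ sgGrp τ 𝒮) (hc : ∀ h ∈ Rg, h * z = z * h) : z = 1 := by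
  rcases k with _ | k
  · exact Subsingleton.elim _ _
  -- `b = e_0`
  set b : Fin (k + 1) ⊕ Fin (k + 1) → F := Pi.single (Sum.inl 0) 1 with hb
  have hbE : b = Sum.elim (Pi.single 0 1) 0 := sqdue9_single_inl 0
  -- Step 1: `sgGrp` fixes `b`
  have hfix : sgGrp τ 𝒮 ≤ sqdue9_stab b := by
    unfold sgGrp
    apply sup_le
    · unfold siegGrp
      rintro x ⟨S, _, rfl⟩
      rw [sqdue9_mem_stab, siegHom_coe, hbE, sqdue9_blocks_mulVec, Matrix.one_mulVec,
        Matrix.zero_mulVec]
    · unfold levGrp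
      rintro x ⟨g, hg, rfl⟩
      have hU : IsUUT (g : Matrix (Fin (k + 1)) (Fin (k + 1)) F) := (mem_uutGL g).mp hg
      rw [sqdue9_mem_stab, levHom_coe, hbE, sqdue9_blocks_mulVec, Matrix.zero_mulVec]
      congr 1
      rw [Matrix.mulVec_single_one]
      ext i
      rw [Matrix.col_apply, Pi.single_apply]
      by_cases hi : i = 0
      · rw [if_pos hi, hi]; exact hU.2 0
      · rw [if_neg hi]
        apply hU.1
        exact Fin.pos_of_ne_zero hi
  have hzb : z.val *ᵥ b = b := hfix hz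
  -- Step 2: `z` fixes `h b` for `h ∈ Rg`
  have hstep : ∀ h ∈ Rg, z.val *ᵥ (h.val *ᵥ b) = h.val *ᵥ b := by
    intro h hh
    have e := hc h hh
    calc z.val *ᵥ (h.val *ᵥ b)
        = (z * h).val *ᵥ b := by rw [Matrix.mulVec_mulVec, Units.val_mul]
      _ = (h * z).val *ᵥ b := by rw [e]
      _ = h.val *ᵥ (z.val *ᵥ b) := by rw [Units.val_mul, Matrix.mulVec_mulVec]
      _ = h.val *ᵥ b := by rw [hzb]
  -- if `z` fixes `b + v` then it fixes `v`
  have hcancel : ∀ v : Fin (k + 1) ⊕ Fin (k + 1) → F,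
      z.val *ᵥ (b + v) = b + v → z.val *ᵥ v = v := by
    intro v hv
    rw [Matrix.mulVec_add, hzb] at hv
    exact add_left_cancel hv
  -- Step 3a: the vectors `e_j`
  have hE : ∀ j : Fin (k + 1), z.val *ᵥ Pi.single (Sum.inl j) 1 = Pi.single (Sum.inl j) 1 := by
    intro j
    by_cases hj : j = 0
    · rw [hj]; exact hzb
    have hdet : (Matrix.transvection j 0 (1 : F)).det = 1 := Matrix.det_transvection_of_ne j 0 hj 1
    set g : GL (Fin (k + 1)) F :=
      Matrix.GeneralLinearGroup.mkOfDetNeZero (Matrix.transvection j 0 (1 : F))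
        (by rw [hdet]; exact one_ne_zero) with hg
    have hgv : (g : Matrix (Fin (k + 1)) (Fin (k + 1)) F) = Matrix.transvection j 0 (1 : F) := rfl
    have hmem := h2 g (by rw [hgv]; exact hdet)
    have hcol : (levHom τ g).val *ᵥ b = b + Pi.single (Sum.inl j) 1 := by
      rw [levHom_coe, hbE, sqdue9_blocks_mulVec, Matrix.zero_mulVec, hgv, sqdue9_single_inl j]
      have : Matrix.transvection j 0 (1 : F) *ᵥ Pi.single 0 1 = Pi.single 0 1 + Pi.single j 1 := by
        rw [Matrix.transvection, Matrix.add_mulVec, Matrix.one_mulVec, Matrix.mulVec_single_one]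
        congr 1
        ext i
        rw [Matrix.col_apply, Matrix.single_apply, Pi.single_apply]
        by_cases hi : i = j
        · rw [if_pos ⟨hi.symm, rfl⟩, if_pos hi]
        · rw [if_neg (fun h => hi h.1.symm), if_neg hi]
      rw [this]
      have h0 : (0 : Fin (k + 1) → F) = 0 + 0 := (add_zero 0).symm
      rw [h0, sqdue9_elim_add, ← h0]
    have := hstep _ hmem
    rw [hcol] at this
    exact hcancel _ this
  -- Step 3b: the vectors `f_j`
  have hF : ∀ j : Fin (k + 1), z.val *ᵥ Pi.single (Sum.inr j) 1 = Pi.single (Sum.inr j) 1 := by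
    intro j
    -- a Hermitian `T` whose column `0` is `e_j`
    set T : Matrix (Fin (k + 1)) (Fin (k + 1)) F :=
      if j = 0 then Matrix.single 0 0 1 else Matrix.single j 0 1 + Matrix.single 0 j 1 with hT
    have hTherm : T ∈ hermAdd (k + 1) τ := by
      show tadj τ T = T
      unfold tadj
      ext i l
      rw [Matrix.transpose_apply, Matrix.map_apply, hT]
      by_cases hj : j = 0
      · rw [if_pos hj, Matrix.single_apply, Matrix.single_apply]
        by_cases h : (0 : Fin (k + 1)) = l ∧ (0 : Fin (k + 1)) = i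
        · rw [if_pos h, if_pos ⟨h.2, h.1⟩, map_one]
        · rw [if_neg h, if_neg (fun h' => h ⟨h'.2, h'.1⟩), map_zero]
      · rw [if_neg hj, Matrix.add_apply, Matrix.add_apply, Matrix.single_apply, Matrix.single_apply,
          Matrix.single_apply, Matrix.single_apply, map_add]
        have e1 : τ (if j = l ∧ (0 : Fin (k + 1)) = i then (1 : F) else 0) =
            if (0 : Fin (k + 1)) = i ∧ j = l then (1 : F) else 0 := by
          by_cases h : j = l ∧ (0 : Fin (k + 1)) = i
          · rw [if_pos h, if_pos ⟨h.2, h.1⟩, map_one]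
          · rw [if_neg h, if_neg (fun h' => h ⟨h'.2, h'.1⟩), map_zero]
        have e2 : τ (if (0 : Fin (k + 1)) = l ∧ j = i then (1 : F) else 0) =
            if j = i ∧ (0 : Fin (k + 1)) = l then (1 : F) else 0 := by
          by_cases h : (0 : Fin (k + 1)) = l ∧ j = i
          · rw [if_pos h, if_pos ⟨h.2, h.1⟩, map_one]
          · rw [if_neg h, if_neg (fun h' => h ⟨h'.2, h'.1⟩), map_zero]
        rw [e1, e2, add_comm]
    have hTcol : T *ᵥ Pi.single 0 1 = Pi.single j 1 := by
      rw [Matrix.mulVec_single_one]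
      ext i
      rw [Matrix.col_apply, Pi.single_apply, hT]
      by_cases hj : j = 0
      · rw [if_pos hj, Matrix.single_apply, hj]
        by_cases hi : i = 0
        · rw [if_pos ⟨hi.symm, rfl⟩, if_pos hi]
        · rw [if_neg (fun h => hi h.1.symm), if_neg hi]
      · rw [if_neg hj, Matrix.add_apply, Matrix.single_apply, Matrix.single_apply,
          if_neg (fun h : (0 : Fin (k + 1)) = i ∧ j = 0 => hj h.2), add_zero]
        by_cases hi : i = j
        · rw [if_pos ⟨hi.symm, rfl⟩, if_pos hi]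
        · rw [if_neg (fun h => hi h.1.symm), if_neg hi]
    have hmem := h1 T hTherm (sqdue9_low T) (sqdue9_low_coe T)
    have hcol : (sqdue9_low T).val *ᵥ b = b + Pi.single (Sum.inr j) 1 := by
      rw [sqdue9_low_coe, hbE, sqdue9_blocks_mulVec, Matrix.one_mulVec, hTcol, sqdue9_single_inr j]
      have h0 : (Pi.single 0 1 : Fin (k + 1) → F) = Pi.single 0 1 + 0 := (add_zero _).symm
      have h1 : (Pi.single j 1 : Fin (k + 1) → F) = 0 + Pi.single j 1 := (zero_add _).symm
      conv_lhs => rw [h0, h1]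
      rw [sqdue9_elim_add]
    have := hstep _ hmem
    rw [hcol] at this
    exact hcancel _ this
  apply sqdue9_eq_one
  intro x
  rcases x with j | j
  · exact hE j
  · exact hF j

end Cfsg.Agent.Lib.helper14.SQD
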