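import Mathlib
import Cfsg.Prelude.Def_LieTypeChar
import Cfsg.Agent.Lib.helper14.SQD.Defs
import Cfsg.Agent.Lib.helper14.SQD.DefsU
import Cfsg.Agent.Lib.Helper13.SQDUE9core
import Cfsg.Agent.Lib.Helper13.SQDUE4
import Cfsg.Agent.Lib.Helper18.SQDUF
import Cfsg.Agent.Lib.Helper20.SQDUE8core

/-!
Project SQD = S4625, row UE9 (`sgE_center`), verbatim: an element of `sgGrp` commuting with the whole range of `psiE`
is `1`.  From the core `sqdue9_core`, helper20's UE8 core (`sqdue8_core`), UE4 (`mem_range_psiE`) and UF2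
(`frobE_frobE`).
-/

set_option autoImplicit false

namespace Cfsg.Agent.Lib.helper14.SQD

open Cfsg Cfsg.Lie Matrix

section UE
variable {F : Type} [Field F] [Fintype F] [CharP F 2] (e : ℕ) {k : ℕ}

/-- the statement of UE8 (`lowE_mem_range`), own name (from helper20's core and UE4) -/
theorem sqdue9_lowE (hF : Fintype.card F = (2 ^ e) ^ 2) (a : F) (ha : a ^ 2 ^ e + a = 1) :
    (∀ T ∈ hermAdd k (frobE F e), ∀ w : GL (Fin k ⊕ Fin k) F,
      (w : Matrix (Fin k ⊕ Fin k) (Fin k ⊕ Fin k) F) = Matrix.fromBlocks 1 0 T 1 →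
        w ∈ (psiE (k := k) (F := F) (2 ^ e) a).range) ∧
    ∀ g : GL (Fin k) F, (g : Matrix (Fin k) (Fin k) F).det = 1 →
      levHom (frobE F e) g ∈ (psiE (k := k) (F := F) (2 ^ e) a).range :=
  sqdue8_core e (fun x => frobE_frobE e hF x) a (fun w => mem_range_psiE e a ha w)

/-- UE9 [M-H]. Every element of `sgGrp` fixes `b = Pi.single (Sum.inl 0) 1` (`k ≥ 1`; first column of an upper
unitriangular matrix).  If `z` commutes with `h` then `z` fixes `h b`.  With UE8: `h = levHom τ (transvection j 0 1)` gives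
`b + e_j`; `h = fromBlocks 1 0 T 1`, `T = single j 0 1 + single 0 j 1` (`j ≠ 0`) gives `b + f_j`, `T = single 0 0 1` gives
`b + f_0`.  So `z` fixes every basis vector: `z = 1`.  (`k = 0`: the group is trivial.) -/
theorem sgE_center (hF : Fintype.card F = (2 ^ e) ^ 2) (a : F) (ha : a ^ 2 ^ e + a = 1)
    (z : GL (Fin k ⊕ Fin k) F) (hz : z ∈ sgGrp (frobE F e) (hermAdd k (frobE F e)))
    (hc : ∀ h ∈ (psiE (k := k) (F := F) (2 ^ e) a).range, h * z = z * h) : z = 1 :=
  sqdue9_core (frobE F e) (hermAdd k (frobE F e)) (psiE (k := k) (F := F) (2 ^ e) a).range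
    (sqdue9_lowE e hF a ha).1 (sqdue9_lowE e hF a ha).2 z hz hc

end UE

end Cfsg.Agent.Lib.helper14.SQD
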