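import Mathlib
import Cfsg.Agent.Lib.helper15.St2
import Cfsg.Agent.Lib.helper7.StA
import Cfsg.Agent.Lib.helper7.StC
import Cfsg.Agent.Lib.helper7.StE
import Cfsg.Agent.Lib.helper3.STC.Defs
import Cfsg.Agent.Lib.helper3.STC.Defs2
import Cfsg.Agent.Lib.helper3.STC.Defs3
import Cfsg.Agent.Lib.Helper13.STCF10core
import Cfsg.Agent.Lib.Helper11.STCF9

/-!
# STC row F10 (helper13): `lemA_all`, verbatim (wrapper of `stcf10_core` on the landed F9 `lemA_long`).
-/

set_option autoImplicit false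

namespace Cfsg.Agent.Lib.helper3.STC

open Cfsg.Agent.Lib.helper15.St2 Cfsg.Agent.Lib.helper7.St

namespace SysC

variable {K : Type*} [Field K] {ι : Type*} {G : Type*} [Group G] (S : SysC K ι G)

section F
variable [DecidableEq ι] (o : ι ⊕ ι)

/-- F10 [S-M]  all root elements on the big cell. -/
theorem lemA_all [Finite K] [Finite ι] (hW : S.HW) (hH : S.HH) {a b : ι ⊕ ι} (hab : a ≠ b) (t : K) {y p : G} (hy : y ∈ S.Yg o)
    (hp : p ∈ S.Phat o) : S.InD o (S.x a b t * (y * p)) :=
  S.stcf10_core o hH (fun s _ _ hy hp => S.lemA_long o hW hH s hy hp) hab t hy hp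

end F

end SysC

end Cfsg.Agent.Lib.helper3.STC
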