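import Mathlib
import Cfsg.Agent.Lib.helper15.St2
import Cfsg.Agent.Lib.helper7.StA
import Cfsg.Agent.Lib.helper7.StC
import Cfsg.Agent.Lib.helper7.StE
import Cfsg.Agent.Lib.helper3.STC.Defs
import Cfsg.Agent.Lib.helper3.STC.Defs2
import Cfsg.Agent.Lib.helper3.STC.Defs3
import Cfsg.Agent.Lib.helper3.STC.Sub
import Cfsg.Agent.Lib.Helper21.STCM.Vec
import Cfsg.Agent.Lib.Helper29.STCJ4

/-!
# STC rows R3 (`M_one M_mul M_x phi_eq_one_of_M M_eq_one_of_phi M_inv_mulVec`) and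
R4 (`XQ_colStab XQ_rowStab`), verbatim vs `helper3/STC/Skel4.lean.txt`.

R4 and three of the R3 statements are one-liners on helper29's own-name copies
(`Helper29.STCJ4`, `Helper29.STCJ4core`).
-/

set_option autoImplicit false

namespace Cfsg.Agent.Lib.helper3.STC

open Cfsg.Agent.Lib.helper15.St2 Cfsg.Agent.Lib.helper7.St Matrix

universe v w

namespace SysC

namespace Rep

variable {K : Type*} [Field K] {ι : Type*} {G : Type*} [Group G] {S : SysC K ι G}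
  {l : Type*} [Fintype l] [DecidableEq l] (R : S.Rep l)

/-- R3 [S]  the matrix `R.M`. -/
theorem M_one : R.M 1 = 1 := R.stcj4_M_one

theorem M_mul (g g' : G) : R.M (g * g') = R.M g * R.M g' := R.stcj4_M_mul g g'

theorem M_x {a b : ι ⊕ ι} (hab : a ≠ b) (t : K) : R.M (S.x a b t) = Tm (Em R.e a) (Em R.e b) t :=
  R.hφ a b hab t

theorem phi_eq_one_of_M {g : G} (h : R.M g = 1) : R.φ g = 1 := by
  apply Subtype.ext
  exact h

theorem M_eq_one_of_phi {g : G} (h : R.φ g = 1) : R.M g = 1 := R.stcj4_M_eq_one_of_phi h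

theorem M_inv_mulVec {g : G} {v v' : l ⊕ l → K} (h : R.M g *ᵥ v = v') : R.M g⁻¹ *ᵥ v' = v := by
  rw [← h, Matrix.mulVec_mulVec, R.stcj4_M_inv_mul, Matrix.one_mulVec]

/-- R4 [S-M] -/
theorem XQ_colStab {Q : ι ⊕ ι → ι ⊕ ι → Prop} {c : l ⊕ l}
    (h : ∀ a b, a ≠ b → Q a b → Em R.e b ≠ c ∧ Em R.e (ng a) ≠ c) :
    ∀ z ∈ S.XQ Q, R.M z *ᵥ ev c = ev c := R.stcj4_XQ_colStab h

theorem XQ_rowStab {Q : ι ⊕ ι → ι ⊕ ι → Prop} {c : l ⊕ l}
    (h : ∀ a b, a ≠ b → Q a b → Em R.e a ≠ c ∧ Em R.e (ng b) ≠ c) :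
    ∀ z ∈ S.XQ Q, ev c ᵥ* R.M z = ev c := R.stcj4_XQ_rowStab h

end Rep

end SysC

end Cfsg.Agent.Lib.helper3.STC
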