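import Mathlib
import Cfsg.Agent.Lib.Helper22.SU4.Defs
import Cfsg.Agent.Lib.helper8.SU4D4

/-!
# Project SU4 (designer helper22), row FIN1 (`TTT_card`), VERBATIM vs `Helper22/SU4/Skel.lean.txt`.
On helper8's `su4d8_hom` / `su4d8_TTT_eq` (row D8).
-/

set_option autoImplicit false

namespace Cfsg.Agent.Lib.Helper22.SU4

open Cfsg.Agent.Lib.helper17.SLP Cfsg.Agent.Lib.helper3.SP4

universe u v w

section FIN

variable {F : Type u} {K : Type u} [Field F] [Field K] [Fintype F] [Fintype K]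

theorem su4fin1_card_dom : Nat.card (Fˣ × Kˣ) = (Fintype.card F - 1) * (Fintype.card K - 1) := by
  rw [Nat.card_prod, Nat.card_units, Nat.card_units, Nat.card_eq_fintype_card, Nat.card_eq_fintype_card]

/-- FIN1 [M] -/
theorem TTT_card {G : Type v} [Group G] (D : Tw F K) (φa : Matrix.SpecialLinearGroup (Fin 2) F →* G)
    (φb : Matrix.SpecialLinearGroup (Fin 2) K →* G) (R : Tor4T D φa φb) :
    Nat.card (TTT φa φb) ≤ (Fintype.card F - 1) * (Fintype.card K - 1) ∧
      ∀ (s₀ : Fˣ) (r₀ : Kˣ), rh φa s₀ * rh φb r₀ = 1 →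
        orderOf ((s₀, r₀) : Fˣ × Kˣ) * Nat.card (TTT φa φb) ≤ (Fintype.card F - 1) * (Fintype.card K - 1) := by
  have hmul : Nat.card (su4d8_hom φa φb R.comm).range * Nat.card (su4d8_hom φa φb R.comm).ker =
      (Fintype.card F - 1) * (Fintype.card K - 1) := by
    rw [← su4fin1_card_dom (F := F) (K := K),
      Subgroup.card_eq_card_quotient_mul_card_subgroup (su4d8_hom φa φb R.comm).ker,
      Nat.card_congr (QuotientGroup.quotientKerEquivRange (su4d8_hom φa φb R.comm)).toEquiv]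
  have hpos : 0 < Nat.card (su4d8_hom φa φb R.comm).ker := Nat.card_pos
  rw [su4d8_TTT_eq φa φb R.comm]
  refine ⟨?_, fun s₀ r₀ h1 => ?_⟩
  · calc Nat.card (su4d8_hom φa φb R.comm).range
        ≤ Nat.card (su4d8_hom φa φb R.comm).range * Nat.card (su4d8_hom φa φb R.comm).ker :=
          Nat.le_mul_of_pos_right _ hpos
      _ = _ := hmul
  · have hmem : ((s₀, r₀) : Fˣ × Kˣ) ∈ (su4d8_hom φa φb R.comm).ker := by
      rw [MonoidHom.mem_ker, su4d8_hom_apply, h1]
    have hle : Subgroup.zpowers ((s₀, r₀) : Fˣ × Kˣ) ≤ (su4d8_hom φa φb R.comm).ker := by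
      rw [Subgroup.zpowers_le]
      exact hmem
    have hker : orderOf ((s₀, r₀) : Fˣ × Kˣ) ≤ Nat.card (su4d8_hom φa φb R.comm).ker := by
      rw [← Nat.card_zpowers]
      exact Subgroup.card_le_of_le hle
    calc orderOf ((s₀, r₀) : Fˣ × Kˣ) * Nat.card (su4d8_hom φa φb R.comm).range
        ≤ Nat.card (su4d8_hom φa φb R.comm).ker * Nat.card (su4d8_hom φa φb R.comm).range :=
          Nat.mul_le_mul_right _ hker
      _ = _ := by rw [mul_comm, hmul]

end FIN

end Cfsg.Agent.Lib.Helper22.SU4
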