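import Mathlib
import Cfsg.Agent.Lib.Helper22.SU4.Defs
import Cfsg.Agent.Lib.helper8.SU4M1
import Cfsg.Agent.Lib.Helper5.SU4M2

/-!
# Project SU4 (designer helper22), row M4 (`hypT_M`), VERBATIM vs `Helper22/SU4/Skel.lean.txt`.
-/

set_option autoImplicit false

namespace Cfsg.Agent.Lib.Helper22.SU4

open Cfsg.Agent.Lib.helper17.SLP Cfsg.Agent.Lib.helper3.SP4

universe u v w

section M

variable {F : Type u} {K : Type u} [Field F] [Field K]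

/-- M4 [S]  deps M1 M2 M3. -/
theorem hypT_M (D : Tw F K) (ζ : Fˣ) (ζ₀ : Kˣ) (hn : D.nmu ζ = ζ₀) : HypT D ζ ζ₀ (rhoAT D) (rhoBT D) := by
  obtain ⟨h1, h2, h3, h4, h5, h6⟩ := hypT_M_torus D ζ ζ₀ hn
  obtain ⟨h7, h8⟩ := hypT_M_weyl D
  obtain ⟨h9, h10, h10b, h11, h12⟩ := hypT_M_comm D ζ
  exact ⟨h1, h2, h3, h4, h5, h6, h7, h8, h9, h10, h10b, h11, h12⟩

end M

end Cfsg.Agent.Lib.Helper22.SU4
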