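import Mathlib
import Cfsg.Agent.Lib.Helper19.SU5.Defs
import Cfsg.Agent.Lib.Helper19.SU5.Defs2
import Cfsg.Agent.Lib.helper3.SU5.Defs
import Cfsg.Agent.Lib.Helper22.SU5B0
import Cfsg.Agent.Lib.Helper22.SU5B0b
import Cfsg.Agent.Lib.Helper22.SU5F4
import Cfsg.Agent.Lib.Helper20.SU5T10
import Cfsg.Agent.Lib.Helper5.SU4T9

/-!
# Project SU5 (designer helper19), part 2, row B3 (helper13), VERBATIM: `tab5_commU`
(`C4 C2 C3 C1` of helper3's `Tab5` from `CommU`).
-/

set_option autoImplicit false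

namespace Cfsg.Agent.Lib.Helper19.SU5

open Cfsg.Agent.Lib.helper17.SLP Cfsg.Agent.Lib.helper3.SP4 Cfsg.Agent.Lib.Helper22.SU4
open Cfsg.Agent.Lib.Helper27.STU (Lam XpM XmM XpS XmS SUm XpU XmU SysU)
open Cfsg.Agent.Lib.helper3.STC (ng sws)
open Cfsg.Agent.Lib.helper3.SU5 (Dat Tab5 Pre)

universe u v w

section B

variable {F : Type u} {K : Type u} [Field F] [Field K] [StarRing F] [Fintype F] [Fintype K] {D : Tw F K}
  {G : Type v} [Group G]

omit [Fintype F] in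
/-- `act (-1)` fixes the elements with `v = 0`. -/
theorem su5b3_act_tr (x : F) : Lam.act (-1) (Lam.tr x : Lam F True) = Lam.tr x := by
  apply Lam.ext
  · simp
  · simp

omit [Fintype F] in
/-- the inverse of `act (-t) ξ`. -/
theorem su5b3_act_inv (t : F) (ξ : Lam F True) :
    (Lam.act (-t) ξ)⁻¹ = Lam.act (-1) (Lam.act (-t) (Lam.bar ξ)) := by
  apply Lam.ext
  · simp
  · simp only [Lam.inv_c, Lam.act_c, Lam.bar_c, star_mul', star_neg, star_star, star_one]
    ring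

/-- the parameter of `C3`. -/
theorem su5b3_tr_eq (hFK : Fintype.card F = Fintype.card K ^ 2) (P : RO D) (t u : F) :
    (Lam.tr ((P.ζ : F) * D.ι (D.tr (t * star (u / P.kap)))) : Lam F True) = Lam.tr (-(t * star u)) := by
  have hκ := su5f4_kap_ne hFK P
  have hs := su5f4_star_kap P
  apply Lam.ext
  · simp
  · simp only [Lam.tr_c]
    rw [D.htr, P.hσ]
    simp only [star_mul', star_add, star_star, star_div₀, star_neg, hs]
    have e : star (P.ζ : F) = (P.ζ : F) - P.kap := by unfold RO.kap; ring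
    rw [e]
    field_simp
    ring

theorem tab5_commU (hFK : Fintype.card F = Fintype.card K ^ 2) (P : RO D)
    (φa : Matrix.SpecialLinearGroup (Fin 2) F →* G) (φb : ↥(SUm F True) →* G) (W : WactU P φa φb)
    (C : CommU P φa φb) :
    (∀ t ξ, (datU P φa φb).xA t * (datU P φa φb).xC ξ = (datU P φa φb).xC ξ * (datU P φa φb).xA t) ∧
      (∀ ξ η, Pre.cm ((datU P φa φb).xB ξ) ((datU P φa φb).xC η) = (datU P φa φb).xD (star ξ.v * η.v)) ∧
      (∀ t u, Pre.cm ((datU P φa φb).xA t) ((datU P φa φb).xD u) = (datU P φa φb).xC (Lam.tr (-(t * star u)))) ∧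
      ∀ ξ t, Pre.cm ((datU P φa φb).xB ξ) ((datU P φa φb).xA t) =
        (datU P φa φb).xD (star ξ.c * t) * (datU P φa φb).xC (Lam.act (-t) (Lam.bar ξ)) := by
  obtain ⟨hxA, -, hxB, -, -, -, -⟩ := dat_dictU P φa φb
  obtain ⟨hxC, hxD⟩ := dat_dict2U P φa φb W
  have hκ := su5f4_kap_ne hFK P
  obtain ⟨-, -, -, -, hcneg, -⟩ := xcd_addT φa (phiL P φb)
  obtain ⟨-, -, -, -, -, -, -, -, hdinv⟩ := yb_mulU φa φb
  refine ⟨fun t ξ => ?_, fun ξ η => ?_, fun t u => ?_, fun ξ t => ?_⟩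
  · rw [hxA, hxC]
    exact (C.ad t _).eq
  · rw [hxB, hxC, hxD]
    show cm (yb φb ξ) (ydU φa φb (Lam.act (-1) η)) = _
    rw [C.bd]
    congr 1
    simp only [Lam.act_v]
    field_simp
  · rw [hxA, hxD, hxC, su5b3_act_tr]
    show cm (rx φa t) (xcU P φa φb (u / P.kap)) = _
    rw [C.ac, su5b3_tr_eq hFK P]
  · rw [hxB, hxA, hxD, hxC]
    show cm (yb φb ξ) (rx φa t) = _
    have h1 : cm (yb φb ξ) (rx φa t) = (cm (rx φa t) (yb φb ξ))⁻¹ := by
      unfold cm
      group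
    rw [h1, C.ab, _root_.mul_inv_rev, ← hdinv, su5b3_act_inv]
    have h2 : (xcU P φa φb (-(P.kap)⁻¹ * (t * star ξ.c)))⁻¹ = xcU P φa φb (star ξ.c * t / P.kap) := by
      have := hcneg (-(P.kap)⁻¹ * (t * star ξ.c))
      unfold xcU
      rw [← this]
      congr 1
      field_simp
    rw [h2]
    exact ((C.cd _ _).eq).symm

end B

end Cfsg.Agent.Lib.Helper19.SU5
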