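import Mathlib
import Cfsg.Agent.Lib.Helper19.SU5.Defs
import Cfsg.Agent.Lib.Helper19.SU5.Defs2
import Cfsg.Agent.Lib.helper3.SU5.Defs
import Cfsg.Agent.Lib.Helper13.SU5B3

/-!
# Project SU5 (designer helper19), part 2, row B4 (helper13), CORE: `Tab5 (datU P φa φb)` from `TorU`, `WactU`, `CommU`
and the statements of B1 `tab5_sqU`, B2 `tab5_weylU` (B3 `tab5_commU` is cited).
-/

set_option autoImplicit false

namespace Cfsg.Agent.Lib.Helper19.SU5

open Cfsg.Agent.Lib.helper17.SLP Cfsg.Agent.Lib.helper3.SP4 Cfsg.Agent.Lib.Helper22.SU4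
open Cfsg.Agent.Lib.Helper27.STU (Lam XpM XmM XpS XmS SUm XpU XmU SysU)
open Cfsg.Agent.Lib.helper3.STC (ng sws)
open Cfsg.Agent.Lib.helper3.SU5 (Dat Tab5 Pre)

universe u v w

section B

variable {F : Type u} {K : Type u} [Field F] [Field K] [StarRing F] [Fintype F] [Fintype K] {D : Tw F K}
  {G : Type v} [Group G]

/-- the core of B4: `hsq` = conclusion of B1 `tab5_sqU`, `hwy` = conclusion of B2 `tab5_weylU`. -/
theorem su5b4_core (hFK : Fintype.card F = Fintype.card K ^ 2) (P : RO D)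
    (φa : Matrix.SpecialLinearGroup (Fin 2) F →* G) (φb : ↥(SUm F True) →* G)
    (W : WactU P φa φb) (C : CommU P φa φb)
    (hsq : (∀ ξ, Cfsg.Agent.Lib.helper15.St2.cj ((datU P φa φb).nA * (datU P φa φb).nA) ((datU P φa φb).xB ξ) = (datU P φa φb).xB (Lam.act (-1) ξ)) ∧
      (∀ ξ, Cfsg.Agent.Lib.helper15.St2.cj ((datU P φa φb).nA * (datU P φa φb).nA) ((datU P φa φb).yB ξ) = (datU P φa φb).yB (Lam.act (-1) ξ)) ∧
      (∀ t, Cfsg.Agent.Lib.helper15.St2.cj ((datU P φa φb).nB * (datU P φa φb).nB) ((datU P φa φb).xA t) =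
        (datU P φa φb).xA (star (datU P φa φb).ξ₀.c / (datU P φa φb).ξ₀.c * t)) ∧
      ∀ t, Cfsg.Agent.Lib.helper15.St2.cj ((datU P φa φb).nB * (datU P φa φb).nB) ((datU P φa φb).yA t) =
        (datU P φa φb).yA ((datU P φa φb).ξ₀.c / star (datU P φa φb).ξ₀.c * t))
    (hwy : (∀ t, Cfsg.Agent.Lib.helper15.St2.cj (datU P φa φb).nA ((datU P φa φb).xD t) = (datU P φa φb).xD (star t)) ∧
      (∀ ξ, Cfsg.Agent.Lib.helper15.St2.cj (datU P φa φb).nB ((datU P φa φb).xC ξ) =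
        (datU P φa φb).xC (Lam.act (-((datU P φa φb).ξ₀.c / star (datU P φa φb).ξ₀.c)) ξ)) ∧
      (datU P φa φb).nA * (datU P φa φb).nB * (datU P φa φb).nA * (datU P φa φb).nB =
        (datU P φa φb).nB * (datU P φa φb).nA * (datU P φa φb).nB * (datU P φa φb).nA) :
    Tab5 (datU P φa φb) := by
  obtain ⟨h1, h2, h3, h4⟩ := hsq
  obtain ⟨h5, h6, h7⟩ := hwy
  obtain ⟨h8, h9, h10, h11⟩ := tab5_commU hFK P φa φb W C
  have hc : (datU P φa φb).ξ₀.c = P.kap := (dat_dictU P φa φb).2.2.2.2.2.2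
  exact ⟨by rw [hc]; exact su5f4_kap_ne hFK P, h1, h2, h3, h4, h5, h6, h7, h8, h9, h10, h11⟩

end B

end Cfsg.Agent.Lib.Helper19.SU5
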