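import Mathlib
import Cfsg.Agent.Lib.Helper19.SU5.Defs
import Cfsg.Agent.Lib.Helper19.SU5.Defs2
import Cfsg.Agent.Lib.helper3.SU5.Defs
import Cfsg.Agent.Lib.Helper9.SU5T5
import Cfsg.Agent.Lib.Helper16.SU5T9
import Cfsg.Agent.Lib.Helper22.SU5W3
import Cfsg.Agent.Lib.helper2.SU5C5
import Cfsg.Agent.Lib.Helper26.SU5B1
import Cfsg.Agent.Lib.Helper16.SU5B2
import Cfsg.Agent.Lib.Helper13.SU5B4core

/-!
# Project SU5 (designer helper19), part 2, row B4 (helper13), VERBATIM: `tab5_of_hypU` : `HypU P φa φb → Tab5 (datU P φa φb)`.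
-/

set_option autoImplicit false

namespace Cfsg.Agent.Lib.Helper19.SU5

open Cfsg.Agent.Lib.helper17.SLP Cfsg.Agent.Lib.helper3.SP4 Cfsg.Agent.Lib.Helper22.SU4
open Cfsg.Agent.Lib.Helper27.STU (Lam XpM XmM XpS XmS SUm XpU XmU SysU)
open Cfsg.Agent.Lib.helper3.STC (ng sws)
open Cfsg.Agent.Lib.helper3.SU5 (Dat Tab5 Pre)

universe u v w

section B

variable {F : Type u} {K : Type u} [Field F] [Field K] [StarRing F] [Fintype F] [Fintype K] {D : Tw F K}
  {G : Type v} [Group G]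

theorem tab5_of_hypU (hFK : Fintype.card F = Fintype.card K ^ 2) (P : RO D)
    (φa : Matrix.SpecialLinearGroup (Fin 2) F →* G) (φb : ↥(SUm F True) →* G) (H : HypU P φa φb) :
    Tab5 (datU P φa φb) := by
  obtain ⟨-, W4, C4⟩ := su4_of_hypU hFK P φa φb H
  have R := torU hFK P φa φb H
  have W := wactU hFK P φa φb H R W4
  have C := commU hFK P φa φb H R W C4
  exact su5b4_core hFK P φa φb W C (tab5_sqU hFK P φa φb R) (tab5_weylU hFK P φa φb H W)

end B

end Cfsg.Agent.Lib.Helper19.SU5
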