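import Mathlib
import Cfsg.Agent.Lib.Helper19.SU5.Defs

/-!
# Project SU5 (designer helper19, tables half), row F5 (helper13), CORE: `card Lam ≤ card F * card K`
from the statement of UF2 `kap_neU` (every skew `c` is `κ ι u`).
-/

set_option autoImplicit false

namespace Cfsg.Agent.Lib.Helper19.SU5

open Cfsg.Agent.Lib.helper17.SLP Cfsg.Agent.Lib.helper3.SP4 Cfsg.Agent.Lib.Helper22.SU4
open Cfsg.Agent.Lib.Helper27.STU (Lam XpM XmM XpS XmS SUm XpU XmU)

universe u v

section F

variable {F : Type u} {K : Type u} [Field F] [Field K] [StarRing F] {D : Tw F K}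

theorem su5f5_finite [Finite F] : Finite (Lam F True) := by
  have hinj : Function.Injective (fun ξ : Lam F True => (ξ.v, ξ.c)) := by
    intro ξ η h
    simp only [Prod.mk.injEq] at h
    exact Lam.ext h.1 h.2
  exact Finite.of_injective _ hinj

open Classical in
/-- a chosen `c` for every `v`. -/
noncomputable def su5f5_c0 (v : F) : F :=
  if h : ∃ ξ : Lam F True, ξ.v = v then h.choose.c else 0

theorem su5f5_skew (ξ : Lam F True) : star (ξ.c - su5f5_c0 ξ.v) = -(ξ.c - su5f5_c0 ξ.v) := by
  have h : ∃ η : Lam F True, η.v = ξ.v := ⟨ξ, rfl⟩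
  have e : su5f5_c0 ξ.v = h.choose.c := by
    unfold su5f5_c0
    rw [dif_pos h]
  have hv := h.choose_spec
  have h1 := ξ.h
  have h2 := h.choose.h
  rw [hv] at h2
  rw [e, star_sub]
  linear_combination h1 - h2

/-- the core of F5: `hk` is the second statement of UF2 `kap_neU`. -/
theorem su5f5_core [Fintype F] [Fintype K] (P : RO D)
    (hk : ∀ c : F, star c = -c → ∃ u : K, c = P.kap * D.ι u) :
    Finite (Lam F True) ∧ Nat.card (Lam F True) ≤ Fintype.card F * Fintype.card K := by
  classical
  refine ⟨su5f5_finite, ?_⟩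
  have hex : ∀ ξ : Lam F True, ∃ u : K, ξ.c - su5f5_c0 ξ.v = P.kap * D.ι u := fun ξ => hk _ (su5f5_skew ξ)
  let f : Lam F True → F × K := fun ξ => (ξ.v, (hex ξ).choose)
  have hinj : Function.Injective f := by
    intro ξ η h
    simp only [f, Prod.mk.injEq] at h
    obtain ⟨hv, hu⟩ := h
    have e1 := (hex ξ).choose_spec
    have e2 := (hex η).choose_spec
    rw [hu, ← e2, hv] at e1
    exact Lam.ext hv (by linear_combination e1)
  have h1 := Nat.card_le_card_of_injective f hinj
  rw [Nat.card_prod, Nat.card_eq_fintype_card (α := F), Nat.card_eq_fintype_card (α := K)] at h1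
  exact h1

end F

end Cfsg.Agent.Lib.Helper19.SU5
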