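import Mathlib
import Cfsg.Agent.Lib.Helper19.SU5.Defs
import Cfsg.Agent.Lib.Helper9.SU5UF1
import Cfsg.Agent.Lib.Helper13.SU5F5core

/-!
# Project SU5 (designer helper19, tables half), row F5 (helper13), VERBATIM: `card_LamU`
(`su5f5_core` on helper9's `kap_neU`).
-/

set_option autoImplicit false

namespace Cfsg.Agent.Lib.Helper19.SU5

open Cfsg.Agent.Lib.helper17.SLP Cfsg.Agent.Lib.helper3.SP4 Cfsg.Agent.Lib.Helper22.SU4
open Cfsg.Agent.Lib.Helper27.STU (Lam XpM XmM XpS XmS SUm XpU XmU)

universe u v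

section F

variable {F : Type u} {K : Type u} [Field F] [Field K] [StarRing F] {D : Tw F K}

theorem card_LamU [Fintype F] [Fintype K] (hFK : Fintype.card F = Fintype.card K ^ 2) (P : RO D) :
    Finite (Lam F True) ∧ Nat.card (Lam F True) ≤ Fintype.card F * Fintype.card K :=
  su5f5_core P (kap_neU hFK P).2

end F

end Cfsg.Agent.Lib.Helper19.SU5
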