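import Mathlib
import Cfsg.Agent.Lib.Helper19.SU5.Defs
import Cfsg.Agent.Lib.Helper27.STUQ1

/-!
# Project SU5 (designer helper19, tables half), row F6 (helper13): `XpU`, `XmU` are multiplicative.
-/

set_option autoImplicit false

namespace Cfsg.Agent.Lib.Helper19.SU5

open Cfsg.Agent.Lib.helper17.SLP Cfsg.Agent.Lib.helper3.SP4 Cfsg.Agent.Lib.Helper22.SU4
open Cfsg.Agent.Lib.Helper27.STU (Lam XpM XmM XpS XmS SUm XpU XmU)

universe u v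

section F

variable {F : Type u} {K : Type u} [Field F] [Field K] [StarRing F] {D : Tw F K}

theorem su5f6_XpU_mul (ξ η : Lam F True) : XpU (ξ * η) = XpU ξ * XpU η := by
  apply Cfsg.Agent.Lib.Helper27.STU.SUm.mat_injective
  rw [Cfsg.Agent.Lib.Helper27.STU.SUm.mat_mul, Cfsg.Agent.Lib.Helper27.STU.SUm.mat_XpU,
    Cfsg.Agent.Lib.Helper27.STU.SUm.mat_XpU, Cfsg.Agent.Lib.Helper27.STU.SUm.mat_XpU,
    Cfsg.Agent.Lib.Helper27.STU.stuq1_XpM_mul]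

theorem su5f6_XmU_mul (ξ η : Lam F True) : XmU (ξ * η) = XmU ξ * XmU η := by
  apply Cfsg.Agent.Lib.Helper27.STU.SUm.mat_injective
  rw [Cfsg.Agent.Lib.Helper27.STU.SUm.mat_mul, Cfsg.Agent.Lib.Helper27.STU.SUm.mat_XmU,
    Cfsg.Agent.Lib.Helper27.STU.SUm.mat_XmU, Cfsg.Agent.Lib.Helper27.STU.SUm.mat_XmU,
    Cfsg.Agent.Lib.Helper27.STU.stuq1_XmM_mul]

theorem su5f6_XpU_one : XpU (1 : Lam F True) = 1 := by
  apply Cfsg.Agent.Lib.Helper27.STU.SUm.mat_injective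
  rw [Cfsg.Agent.Lib.Helper27.STU.SUm.mat_XpU, Cfsg.Agent.Lib.Helper27.STU.SUm.mat_one,
    Cfsg.Agent.Lib.Helper27.STU.stuq1_XpM_one]

theorem su5f6_XmU_one : XmU (1 : Lam F True) = 1 := by
  apply Cfsg.Agent.Lib.Helper27.STU.SUm.mat_injective
  rw [Cfsg.Agent.Lib.Helper27.STU.SUm.mat_XmU, Cfsg.Agent.Lib.Helper27.STU.SUm.mat_one,
    Cfsg.Agent.Lib.Helper27.STU.stuq1_XmM_one]

theorem su5f6_XpU_inv (ξ : Lam F True) : XpU ξ⁻¹ = (XpU ξ)⁻¹ := by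
  apply eq_inv_of_mul_eq_one_left
  rw [← su5f6_XpU_mul, inv_mul_cancel, su5f6_XpU_one]

theorem su5f6_XmU_inv (ξ : Lam F True) : XmU ξ⁻¹ = (XmU ξ)⁻¹ := by
  apply eq_inv_of_mul_eq_one_left
  rw [← su5f6_XmU_mul, inv_mul_cancel, su5f6_XmU_one]

/-- `XpU` as a monoid homomorphism. -/
def su5f6_XpHom : Lam F True →* ↥(SUm F True) where
  toFun := XpU
  map_one' := su5f6_XpU_one
  map_mul' := su5f6_XpU_mul

/-- `XmU` as a monoid homomorphism. -/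
def su5f6_XmHom : Lam F True →* ↥(SUm F True) where
  toFun := XmU
  map_one' := su5f6_XmU_one
  map_mul' := su5f6_XmU_mul

theorem xpu_mulU (ξ η : Lam F True) :
    XpU (ξ * η) = XpU ξ * XpU η ∧ XmU (ξ * η) = XmU ξ * XmU η ∧ XpU (1 : Lam F True) = 1 ∧ XmU (1 : Lam F True) = 1 ∧
      XpU ξ⁻¹ = (XpU ξ)⁻¹ ∧ XmU ξ⁻¹ = (XmU ξ)⁻¹ :=
  ⟨su5f6_XpU_mul ξ η, su5f6_XmU_mul ξ η, su5f6_XpU_one, su5f6_XmU_one, su5f6_XpU_inv ξ, su5f6_XmU_inv ξ⟩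

end F

end Cfsg.Agent.Lib.Helper19.SU5
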