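import Cfsg.Agent.Lib.helper15.SUn.Iso
import Cfsg.Agent.Lib.Helper28.UGen2
import Cfsg.Agent.Lib.Helper28.UHerm
import Cfsg.Agent.S0780

set_option autoImplicit false

namespace Cfsg.Agent.Lib.Helper13.SUnP14

open Matrix Cfsg.Agent.Lib.helper15.SUn Cfsg.Agent.Lib.Helper28.UGen

variable {F : Type*} [Field F] [Fintype F] {n : ℕ} {q : ℕ} {σ : F ≃+* F}

theorem refl_mulVec (hσ : ∀ x, σ x = x ^ q) (g x : Fin n → F) :
    (1 + R σ g g) *ᵥ x = x + Cfsg.hermForm n F q x g • g := by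
  rw [Matrix.add_mulVec, Matrix.one_mulVec, R_mulVec hσ]

theorem refl_iso (hσ : ∀ x, σ x = x ^ q) (hf : Cfsg.Geo.IsUnitaryForm σ (Cfsg.hermForm n F q))
    {g : Fin n → F} (hg : Cfsg.hermForm n F q g g = -2) (x y : Fin n → F) :
    Cfsg.hermForm n F q ((1 + R σ g g) *ᵥ x) ((1 + R σ g g) *ᵥ y) = Cfsg.hermForm n F q x y := by
  rw [refl_mulVec hσ, refl_mulVec hσ]
  simp only [herm_add_left, herm_add_right hσ, herm_smul_left, herm_smul_right hσ, hg]
  rw [← hf.herm g y]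
  ring

theorem refl_det (hσ : ∀ x, σ x = x ^ q) {g : Fin n → F}
    (hg : Cfsg.hermForm n F q g g = -2) : (1 + R σ g g).det = -1 := by
  have h := R_det hσ g g (1 : F)
  rw [one_smul, hg] at h
  rw [h]
  ring

/-- the product of the first `k` reflections -/
def Jp (σ : F ≃+* F) (E Fv : ℕ → Fin n → F) : ℕ → Matrix (Fin n) (Fin n) F
  | 0 => 1
  | k + 1 => Jp σ E Fv k * (1 + R σ (E k - Fv k) (E k - Fv k))

section frame

variable {m : ℕ} {E Fv : ℕ → Fin n → F} {d : Fin n → F}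

theorem gg (hσ : ∀ x, σ x = x ^ q) (fr : Frame q m E Fv d) {i : ℕ} (hi : i < m) :
    Cfsg.hermForm n F q (E i - Fv i) (E i - Fv i) = -2 := by
  simp only [herm_sub_left, herm_sub_right hσ, fr.ee i i hi hi, fr.ff i i hi hi, fr.ef i i hi hi,
    fr.fe i i hi hi, if_true]
  ring

theorem Jp_iso (hσ : ∀ x, σ x = x ^ q) (hf : Cfsg.Geo.IsUnitaryForm σ (Cfsg.hermForm n F q))
    (fr : Frame q m E Fv d) (k : ℕ) (hk : k ≤ m) (x y : Fin n → F) :
    Cfsg.hermForm n F q (Jp σ E Fv k *ᵥ x) (Jp σ E Fv k *ᵥ y) = Cfsg.hermForm n F q x y := by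
  induction k generalizing x y with
  | zero => simp only [Jp, Matrix.one_mulVec]
  | succ k ih =>
    simp only [Jp]
    rw [← Matrix.mulVec_mulVec, ← Matrix.mulVec_mulVec, ih (by omega),
      refl_iso hσ hf (gg hσ fr (show k < m by omega))]

theorem Jp_det (hσ : ∀ x, σ x = x ^ q) (fr : Frame q m E Fv d) (k : ℕ) (hk : k ≤ m) :
    (Jp σ E Fv k).det = (-1) ^ k := by
  induction k with
  | zero => simp only [Jp, Matrix.det_one, pow_zero]
  | succ k ih =>
    simp only [Jp]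
    rw [Matrix.det_mul, ih (by omega), refl_det hσ (gg hσ fr (show k < m by omega)), pow_succ]

theorem Jp_fix (hσ : ∀ x, σ x = x ^ q) (k : ℕ) (x : Fin n → F)
    (hx : ∀ i, i < k → Cfsg.hermForm n F q x (E i - Fv i) = 0) : Jp σ E Fv k *ᵥ x = x := by
  induction k with
  | zero => simp only [Jp, Matrix.one_mulVec]
  | succ k ih =>
    simp only [Jp]
    rw [← Matrix.mulVec_mulVec, refl_mulVec hσ, hx k (by omega), zero_smul, add_zero]
    exact ih (fun i hi => hx i (by omega))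

theorem Jp_E (hσ : ∀ x, σ x = x ^ q) (fr : Frame q m E Fv d) (k : ℕ) (hk : k ≤ m) (i : ℕ)
    (hi : i < k) : Jp σ E Fv k *ᵥ E i = Fv i := by
  induction k with
  | zero => omega
  | succ k ih =>
    simp only [Jp]
    rw [← Matrix.mulVec_mulVec, refl_mulVec hσ]
    have hkm : k < m := by omega
    have him : i < m := by omega
    by_cases hik : i = k
    · subst hik
      have h1 : Cfsg.hermForm n F q (E i) (E i - Fv i) = -1 := by
        rw [herm_sub_right hσ, fr.ee i i him him, fr.ef i i him him, if_pos rfl]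
        ring
      rw [h1]
      have h2 : E i + (-1 : F) • (E i - Fv i) = Fv i := by module
      rw [h2]
      apply Jp_fix hσ
      intro j hj
      have hjm : j < m := by omega
      have hne : i ≠ j := by omega
      rw [herm_sub_right hσ, fr.fe i j him hjm, fr.ff i j him hjm, if_neg hne, sub_zero]
    · have hne : i ≠ k := hik
      have h1 : Cfsg.hermForm n F q (E i) (E k - Fv k) = 0 := by
        rw [herm_sub_right hσ, fr.ee i k him hkm, fr.ef i k him hkm, if_neg hne, sub_zero]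
      rw [h1, zero_smul, add_zero]
      exact ih (by omega) (by omega)

theorem Jp_F (hσ : ∀ x, σ x = x ^ q) (fr : Frame q m E Fv d) (k : ℕ) (hk : k ≤ m) (i : ℕ)
    (hi : i < k) : Jp σ E Fv k *ᵥ Fv i = E i := by
  induction k with
  | zero => omega
  | succ k ih =>
    simp only [Jp]
    rw [← Matrix.mulVec_mulVec, refl_mulVec hσ]
    have hkm : k < m := by omega
    have him : i < m := by omega
    by_cases hik : i = k
    · subst hik
      have h1 : Cfsg.hermForm n F q (Fv i) (E i - Fv i) = 1 := by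
        rw [herm_sub_right hσ, fr.fe i i him him, fr.ff i i him him, if_pos rfl]
        ring
      rw [h1]
      have h2 : Fv i + (1 : F) • (E i - Fv i) = E i := by module
      rw [h2]
      apply Jp_fix hσ
      intro j hj
      have hjm : j < m := by omega
      have hne : i ≠ j := by omega
      rw [herm_sub_right hσ, fr.ee i j him hjm, fr.ef i j him hjm, if_neg hne, sub_zero]
    · have hne : i ≠ k := hik
      have h1 : Cfsg.hermForm n F q (Fv i) (E k - Fv k) = 0 := by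
        rw [herm_sub_right hσ, fr.fe i k him hkm, fr.ff i k him hkm, if_neg hne, sub_zero]
      rw [h1, zero_smul, add_zero]
      exact ih (by omega) (by omega)

theorem Jp_d (hσ : ∀ x, σ x = x ^ q) (fr : Frame q m E Fv d) (k : ℕ) (hk : k ≤ m) :
    Jp σ E Fv k *ᵥ d = d := by
  apply Jp_fix hσ
  intro j hj
  have hjm : j < m := by omega
  rw [herm_sub_right hσ, fr.de j hjm, fr.df j hjm, sub_zero]

theorem frame_ext' (fr : Frame q m E Fv d) {M N : Matrix (Fin n) (Fin n) F}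
    (hE : ∀ i, i < m → M *ᵥ E i = N *ᵥ E i) (hFv : ∀ i, i < m → M *ᵥ Fv i = N *ᵥ Fv i)
    (hd : M *ᵥ d = N *ᵥ d) : M = N := by
  apply mat_ext
  intro x
  rw [fr.span x]
  simp only [Matrix.mulVec_add, Matrix.mulVec_sum, Matrix.mulVec_smul, hd]
  congr 1
  apply Finset.sum_congr rfl
  intro i hi
  rw [Finset.mem_range] at hi
  rw [hE i hi, hFv i hi]

end frame

theorem exists_swap (hF : Fintype.card F = q ^ 2) (hσ : ∀ x, σ x = x ^ q)
    (hf : Cfsg.Geo.IsUnitaryForm σ (Cfsg.hermForm n F q)) {m : ℕ} (hn : n = 2 * m + 1)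
    {E Fv : ℕ → Fin n → F} {d : Fin n → F} (fr : Frame q m E Fv d) :
    ∃ (h : ↥(Cfsg.SU n F q)) (J : Matrix (Fin n) (Fin n) F), J * J = 1 ∧
      (∀ x y, Cfsg.hermForm n F q (J *ᵥ x) (J *ᵥ y) = Cfsg.hermForm n F q x y) ∧
      (∀ i, i < m → J *ᵥ E i = Fv i) ∧ (∀ i, i < m → J *ᵥ Fv i = E i) ∧ J *ᵥ d = d ∧
      ∀ M : Matrix (Fin n) (Fin n) F,
        ((h : Matrix.SpecialLinearGroup (Fin n) F) : Matrix (Fin n) (Fin n) F) * M *
          (((h⁻¹ : ↥(Cfsg.SU n F q)) : Matrix.SpecialLinearGroup (Fin n) F) :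
            Matrix (Fin n) (Fin n) F) = J * M * J := by
  obtain ⟨J, hJ⟩ : ∃ J : Matrix (Fin n) (Fin n) F, J = Jp σ E Fv m := ⟨_, rfl⟩
  have hJE : ∀ i, i < m → J *ᵥ E i = Fv i := fun i hi => by rw [hJ]; exact Jp_E hσ fr m le_rfl i hi
  have hJF : ∀ i, i < m → J *ᵥ Fv i = E i := fun i hi => by rw [hJ]; exact Jp_F hσ fr m le_rfl i hi
  have hJd : J *ᵥ d = d := by rw [hJ]; exact Jp_d hσ fr m le_rfl
  have hJiso : ∀ x y, Cfsg.hermForm n F q (J *ᵥ x) (J *ᵥ y) = Cfsg.hermForm n F q x y := by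
    rw [hJ]; exact Jp_iso hσ hf fr m le_rfl
  have hJdet : J.det = (-1) ^ m := by rw [hJ]; exact Jp_det hσ fr m le_rfl
  have hJJ : J * J = 1 := by
    apply frame_ext' fr
    · intro i hi
      rw [← Matrix.mulVec_mulVec, hJE i hi, hJF i hi, Matrix.one_mulVec]
    · intro i hi
      rw [← Matrix.mulVec_mulVec, hJF i hi, hJE i hi, Matrix.one_mulVec]
    · rw [← Matrix.mulVec_mulVec, hJd, hJd, Matrix.one_mulVec]
  obtain ⟨ε, hε⟩ : ∃ ε : F, ε = (-1) ^ m := ⟨_, rfl⟩
  have hεε : ε * ε = 1 := by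
    rw [hε, ← pow_add, ← two_mul, pow_mul]
    simp
  have hσε : σ ε = ε := by
    rw [hε, map_pow, map_neg, map_one]
  have hdet : (ε • J).det = 1 := by
    rw [Matrix.det_smul, Fintype.card_fin, hJdet, ← hε, hn, pow_succ, pow_mul]
    have : ε ^ 2 = 1 := by rw [pow_two, hεε]
    rw [this, one_pow, one_mul, hεε]
  have hiso : ∀ x y, Cfsg.hermForm n F q ((ε • J) *ᵥ x) ((ε • J) *ᵥ y) =
      Cfsg.hermForm n F q x y := by
    intro x y
    rw [Matrix.smul_mulVec, Matrix.smul_mulVec, herm_smul_left, herm_smul_right hσ, hσε, hJiso,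
      ← mul_assoc, hεε, one_mul]
  have hhh : (mkSU (ε • J) hdet hiso : ↥(Cfsg.SU n F q)) * mkSU (ε • J) hdet hiso = 1 := by
    apply su_ext
    rw [su_coe_mul, coe_mkSU, su_coe_one, Matrix.smul_mul, Matrix.mul_smul, smul_smul, hεε, hJJ,
      one_smul]
  have hinv : (mkSU (ε • J) hdet hiso : ↥(Cfsg.SU n F q))⁻¹ = mkSU (ε • J) hdet hiso :=
    inv_eq_of_mul_eq_one_left hhh
  refine ⟨mkSU (ε • J) hdet hiso, J, hJJ, hJiso, hJE, hJF, hJd, ?_⟩
  intro M
  rw [hinv, coe_mkSU, Matrix.smul_mul, Matrix.smul_mul, Matrix.mul_smul, smul_smul, hεε, one_smul]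

end Cfsg.Agent.Lib.Helper13.SUnP14
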