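import Cfsg.Agent.Lib.helper15.SUn.Iso
import Cfsg.Agent.Lib.Helper28.UGen2
import Cfsg.Agent.Lib.Helper28.UHerm
import Cfsg.Agent.S0780

set_option autoImplicit false

namespace Cfsg.Agent.Lib.Helper13.SUnP15

open Matrix Cfsg.Agent.Lib.helper15.SUn Cfsg.Agent.Lib.Helper28.UGen

variable {F : Type*} [Field F] [Fintype F] {n : ℕ} {q : ℕ} {σ : F ≃+* F}

/-- the torus matrix -/
def torM (σ : F ≃+* F) (e f d : Fin n → F) (κ : F) : Matrix (Fin n) (Fin n) F :=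
  (1 + (κ - 1) • R σ e f) * (1 + ((σ κ)⁻¹ - 1) • R σ f e) * (1 + (σ κ / κ - 1) • R σ d d)

theorem one_add_R_mulVec (hσ : ∀ x, σ x = x ^ q) (k : F) (y z x : Fin n → F) :
    (1 + k • R σ y z) *ᵥ x = x + (k * Cfsg.hermForm n F q x z) • y := by
  rw [Matrix.add_mulVec, Matrix.one_mulVec, Matrix.smul_mulVec, R_mulVec hσ, smul_smul]

theorem torM_mulVec (hσ : ∀ x, σ x = x ^ q) (hf : Cfsg.Geo.IsUnitaryForm σ (Cfsg.hermForm n F q))
    {e f d : Fin n → F} (hff : Cfsg.hermForm n F q f f = 0)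
    (hde : Cfsg.hermForm n F q d e = 0) (hdf : Cfsg.hermForm n F q d f = 0)
    (κ : F) (x : Fin n → F) :
    torM σ e f d κ *ᵥ x = x + ((κ - 1) * Cfsg.hermForm n F q x f) • e +
      (((σ κ)⁻¹ - 1) * Cfsg.hermForm n F q x e) • f +
      ((σ κ / κ - 1) * Cfsg.hermForm n F q x d) • d := by
  unfold torM
  rw [← Matrix.mulVec_mulVec, ← Matrix.mulVec_mulVec]
  rw [one_add_R_mulVec hσ, one_add_R_mulVec hσ, one_add_R_mulVec hσ]
  simp only [herm_add_left, herm_smul_left, hff, hde, hdf, mul_zero, add_zero]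
  abel

theorem torM_det (hσ : ∀ x, σ x = x ^ q)
    {e f d : Fin n → F} (hef : Cfsg.hermForm n F q e f = 1) (hfe : Cfsg.hermForm n F q f e = 1)
    (hdd : Cfsg.hermForm n F q d d = 1) {κ : F} (hκ : κ ≠ 0) :
    (torM σ e f d κ).det = 1 := by
  have hσκ : σ κ ≠ 0 := by
    intro h
    apply hκ
    have := congrArg σ.symm h
    simpa using this
  unfold torM
  rw [Matrix.det_mul, Matrix.det_mul, R_det hσ, R_det hσ, R_det hσ, hef, hfe, hdd]
  field_simp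
  ring

theorem torM_iso (hσ : ∀ x, σ x = x ^ q) (hf : Cfsg.Geo.IsUnitaryForm σ (Cfsg.hermForm n F q))
    {e f d : Fin n → F} (hee : Cfsg.hermForm n F q e e = 0) (hff : Cfsg.hermForm n F q f f = 0)
    (hef : Cfsg.hermForm n F q e f = 1) (hfe : Cfsg.hermForm n F q f e = 1)
    (hdd : Cfsg.hermForm n F q d d = 1)
    (hde : Cfsg.hermForm n F q d e = 0) (hdf : Cfsg.hermForm n F q d f = 0)
    (hed : Cfsg.hermForm n F q e d = 0) (hfd : Cfsg.hermForm n F q f d = 0)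
    {κ : F} (hκ : κ ≠ 0) (x y : Fin n → F) :
    Cfsg.hermForm n F q (torM σ e f d κ *ᵥ x) (torM σ e f d κ *ᵥ y) = Cfsg.hermForm n F q x y := by
  have hσκ : σ κ ≠ 0 := by
    intro h
    apply hκ
    have := congrArg σ.symm h
    simpa using this
  rw [torM_mulVec hσ hf hff hde hdf, torM_mulVec hσ hf hff hde hdf]
  simp only [herm_add_left, herm_add_right hσ, herm_smul_left, herm_smul_right hσ, hee, hff, hef,
    hfe, hdd, hde, hdf, hed, hfd, map_mul, map_sub, map_one, map_inv₀, map_div₀, hf.involutive,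
    mul_zero, add_zero, zero_add, mul_one]
  rw [← hf.herm e y, ← hf.herm f y, ← hf.herm d y]
  field_simp
  ring

theorem exists_torus (hF : Fintype.card F = q ^ 2) (hσ : ∀ x, σ x = x ^ q)
    (hf : Cfsg.Geo.IsUnitaryForm σ (Cfsg.hermForm n F q)) {m : ℕ} (hm : 2 ≤ m)
    {E Fv : ℕ → Fin n → F} {d : Fin n → F} (fr : Frame q m E Fv d) {κ : F} (hκ : κ ≠ 0) :
    ∃ (t : ↥(Cfsg.SU n F q)),
      ((t : Matrix.SpecialLinearGroup (Fin n) F) : Matrix (Fin n) (Fin n) F) *ᵥ E 0 = κ • E 0 ∧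
      ((t : Matrix.SpecialLinearGroup (Fin n) F) : Matrix (Fin n) (Fin n) F) *ᵥ Fv 0 = (σ κ)⁻¹ • Fv 0 ∧
      ((t : Matrix.SpecialLinearGroup (Fin n) F) : Matrix (Fin n) (Fin n) F) *ᵥ d = (σ κ / κ) • d ∧
      (∀ i, 1 ≤ i → i < m →
        ((t : Matrix.SpecialLinearGroup (Fin n) F) : Matrix (Fin n) (Fin n) F) *ᵥ E i = E i) ∧
      (∀ i, 1 ≤ i → i < m →
        ((t : Matrix.SpecialLinearGroup (Fin n) F) : Matrix (Fin n) (Fin n) F) *ᵥ Fv i = Fv i) := by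
  have h0 : 0 < m := by omega
  have hee : Cfsg.hermForm n F q (E 0) (E 0) = 0 := fr.ee 0 0 h0 h0
  have hff : Cfsg.hermForm n F q (Fv 0) (Fv 0) = 0 := fr.ff 0 0 h0 h0
  have hef : Cfsg.hermForm n F q (E 0) (Fv 0) = 1 := by rw [fr.ef 0 0 h0 h0, if_pos rfl]
  have hfe : Cfsg.hermForm n F q (Fv 0) (E 0) = 1 := by rw [fr.fe 0 0 h0 h0, if_pos rfl]
  have hdd := fr.dd
  have hde := fr.de 0 h0
  have hdf := fr.df 0 h0
  have hed := fr.ed 0 h0
  have hfd := fr.fd 0 h0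
  refine ⟨mkSU (torM σ (E 0) (Fv 0) d κ) (torM_det hσ hef hfe hdd hκ)
    (torM_iso hσ hf hee hff hef hfe hdd hde hdf hed hfd hκ), ?_, ?_, ?_, ?_, ?_⟩
  · rw [coe_mkSU, torM_mulVec hσ hf hff hde hdf, hef, hee, hed]
    module
  · rw [coe_mkSU, torM_mulVec hσ hf hff hde hdf, hff, hfe, hfd]
    module
  · rw [coe_mkSU, torM_mulVec hσ hf hff hde hdf, hdf, hde, hdd]
    module
  · intro i hi him
    have hi0 : i ≠ 0 := by omega
    rw [coe_mkSU, torM_mulVec hσ hf hff hde hdf, fr.ef i 0 him h0, if_neg hi0, fr.ee i 0 him h0,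
      fr.ed i him]
    module
  · intro i hi him
    have hi0 : i ≠ 0 := by omega
    rw [coe_mkSU, torM_mulVec hσ hf hff hde hdf, fr.ff i 0 him h0, fr.fe i 0 him h0, if_neg hi0,
      fr.fd i him]
    module

end Cfsg.Agent.Lib.Helper13.SUnP15
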