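import Cfsg.Agent.Lib.helper15.SUn.Iso
import Cfsg.Agent.Lib.Helper28.UGen2
import Cfsg.Agent.Lib.Helper28.UHerm
import Cfsg.Agent.S0780
import Cfsg.Agent.Lib.helper2.SUnP4

set_option autoImplicit false

namespace Cfsg.Agent.Lib.Helper13.SUnP6

open Matrix Cfsg.Agent.Lib.helper15.SUn Cfsg.Agent.Lib.Helper28.UGen

variable {F : Type*} [Field F] [Fintype F] {n : ℕ} {q : ℕ} {σ : F ≃+* F}

/-- the statement of Lemma B at fixed `F n q σ H`. -/
def LemBAt (σ : F ≃+* F) (H : Subgroup ↥(Cfsg.SU n F q)) : Prop :=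
  ∀ {k : ℕ} (a' : Fin k → Fin n → F), Nd (Cfsg.hermForm n F q) a' → k + 5 ≤ n →
    ∀ {e f z0 : Fin n → F}, HP (Cfsg.hermForm n F q) a' e f →
    e ∈ DD σ H → f ∈ DD σ H →
    (∀ v : Fin n → F, Cfsg.hermForm n F q v v = 0 → Perp (Cfsg.hermForm n F q) a' v →
      Cfsg.hermForm n F q v e = 0 → Cfsg.hermForm n F q v f = 0 → v ∈ DD σ H) →
    z0 ≠ 0 → Cfsg.hermForm n F q z0 z0 = 0 →
    Perp (Cfsg.hermForm n F q) a' z0 →
    Cfsg.hermForm n F q z0 e = 0 → Cfsg.hermForm n F q z0 f = 0 →
    z0 + e ∈ DD σ H →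
    ∀ v : Fin n → F, Cfsg.hermForm n F q v v = 0 → Perp (Cfsg.hermForm n F q) a' v →
      v ∈ DD σ H

section

variable {m : ℕ} {E Fv : ℕ → Fin n → F} {d : Fin n → F}

/-- the family `e_0, f_0, …, e_{j-1}, f_{j-1}` is non-degenerate. -/
theorem fam (hσ : ∀ x, σ x = x ^ q) (hf : Cfsg.Geo.IsUnitaryForm σ (Cfsg.hermForm n F q))
    (fr : Frame q m E Fv d) (j : ℕ) (hj : j ≤ m) :
    ∃ (k : ℕ) (a' : Fin k → Fin n → F), k = 2 * j ∧ Nd (Cfsg.hermForm n F q) a' ∧
      ∀ v : Fin n → F, Perp (Cfsg.hermForm n F q) a' v ↔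
        ∀ i, i < j → Cfsg.hermForm n F q v (E i) = 0 ∧ Cfsg.hermForm n F q v (Fv i) = 0 := by
  induction j with
  | zero =>
    refine ⟨0, e0, rfl, nd_e0, ?_⟩
    intro v
    constructor
    · intro _ i hi
      omega
    · intro _
      exact perp_e0 v
  | succ j ih =>
    obtain ⟨k, a', hk, hnd, hperp⟩ := ih (by omega)
    have hjm : j < m := by omega
    have hE : Perp (Cfsg.hermForm n F q) a' (E j) := by
      rw [hperp]
      intro i hi
      have hne : j ≠ i := by omega
      rw [fr.ee j i hjm (by omega), fr.ef j i hjm (by omega), if_neg hne]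
      exact ⟨rfl, rfl⟩
    have hFp : Perp (Cfsg.hermForm n F q) a' (Fv j) := by
      rw [hperp]
      intro i hi
      have hne : j ≠ i := by omega
      rw [fr.fe j i hjm (by omega), fr.ff j i hjm (by omega), if_neg hne]
      exact ⟨rfl, rfl⟩
    have hvu : Cfsg.hermForm n F q (Fv j) (E j) ≠ 0 := by
      rw [fr.fe j j hjm hjm, if_pos rfl]
      exact one_ne_zero
    refine ⟨k + 1 + 1, Fin.cons (E j) (Fin.cons (Fv j) a'), by omega,
      nd_cons2 hf a' hnd (E j) (Fv j) hE hFp (fr.ee j j hjm hjm) (fr.ff j j hjm hjm) hvu, ?_⟩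
    intro v
    rw [perp_cons, perp_cons, hperp]
    constructor
    · rintro ⟨h1, h2, h3⟩ i hi
      by_cases hij : i = j
      · subst hij
        exact ⟨h1, h2⟩
      · exact h3 i (by omega)
    · intro h
      exact ⟨(h j (by omega)).1, (h j (by omega)).2, fun i hi => h i (by omega)⟩

theorem ne_zero_of_herm {x y : Fin n → F} (h : Cfsg.hermForm n F q x y ≠ 0) : x ≠ 0 := by
  intro hx
  apply h
  rw [hx, herm_zero_left]

theorem chain_of (hF : Fintype.card F = q ^ 2) (hσ : ∀ x, σ x = x ^ q)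
    (hf : Cfsg.Geo.IsUnitaryForm σ (Cfsg.hermForm n F q)) {m : ℕ} (hm : 1 ≤ m)
    (hn : n = 2 * m + 1) {E Fv : ℕ → Fin n → F} {d : Fin n → F} (fr : Frame q m E Fv d)
    {H : Subgroup ↥(Cfsg.SU n F q)} (hB : LemBAt σ H)
    (hE : ∀ i, i < m → E i ∈ DD σ H) (hFv : ∀ i, i < m → Fv i ∈ DD σ H)
    {s t : F} (hs : s ≠ 0) (hy : E (m - 1) + s • d + t • Fv (m - 1) ∈ DD σ H)
    {kk : ℕ → F} (hkk : ∀ i, i + 1 < m → kk i ≠ 0)
    (hlink : ∀ i, i + 1 < m → E i + kk i • E (i + 1) ∈ DD σ H) :
    ∀ y : Fin n → F, Cfsg.hermForm n F q y y = 0 → y ∈ DD σ H := by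
  -- C(j)
  have key : ∀ r : ℕ, r ≤ m - 1 → ∀ v : Fin n → F, Cfsg.hermForm n F q v v = 0 →
      (∀ i, i < m - 1 - r → Cfsg.hermForm n F q v (E i) = 0 ∧
        Cfsg.hermForm n F q v (Fv i) = 0) → v ∈ DD σ H := by
    intro r
    induction r with
    | zero =>
      intro _ v hv hperp
      rw [Nat.sub_zero] at hperp
      obtain ⟨k, a', hk, hnd, hP⟩ := fam hσ hf fr (m - 1) (by omega)
      have hm1 : m - 1 < m := by omega
      have hp : HP (Cfsg.hermForm n F q) a' (E (m - 1)) (Fv (m - 1)) := by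
        refine ⟨fr.ee _ _ hm1 hm1, fr.ff _ _ hm1 hm1, ?_, ?_, ?_⟩
        · rw [fr.fe _ _ hm1 hm1, if_pos rfl]
        · rw [hP]
          intro i hi
          have hne : m - 1 ≠ i := by omega
          rw [fr.ee _ i hm1 (by omega), fr.ef _ i hm1 (by omega), if_neg hne]
          exact ⟨rfl, rfl⟩
        · rw [hP]
          intro i hi
          have hne : m - 1 ≠ i := by omega
          rw [fr.fe _ i hm1 (by omega), fr.ff _ i hm1 (by omega), if_neg hne]
          exact ⟨rfl, rfl⟩
      have hya : Perp (Cfsg.hermForm n F q) a' (E (m - 1) + s • d + t • Fv (m - 1)) := by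
        rw [hP]
        intro i hi
        have hne : m - 1 ≠ i := by omega
        have him : i < m := by omega
        simp only [herm_add_left, herm_smul_left, fr.ee _ i hm1 him, fr.ef _ i hm1 him,
          fr.fe _ i hm1 him, fr.ff _ i hm1 him, fr.de i him, fr.df i him, if_neg hne, mul_zero,
          add_zero]
        exact ⟨trivial, trivial⟩
      have h1 : Cfsg.hermForm n F q (E (m - 1) + s • d + t • Fv (m - 1)) (Fv (m - 1)) = 1 := by
        simp only [herm_add_left, herm_smul_left, fr.ef _ _ hm1 hm1, fr.ff _ _ hm1 hm1,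
          fr.df _ hm1, if_true, mul_zero, add_zero]
      have h2 : Cfsg.hermForm n F q (E (m - 1) + s • d + t • Fv (m - 1)) (E (m - 1)) = t := by
        simp only [herm_add_left, herm_smul_left, fr.ee _ _ hm1 hm1, fr.fe _ _ hm1 hm1,
          fr.de _ hm1, if_true, mul_zero, add_zero, zero_add, mul_one]
      have h3 : E (m - 1) + s • d + t • Fv (m - 1) -
          Cfsg.hermForm n F q (E (m - 1) + s • d + t • Fv (m - 1)) (Fv (m - 1)) • E (m - 1) -
          Cfsg.hermForm n F q (E (m - 1) + s • d + t • Fv (m - 1)) (E (m - 1)) • Fv (m - 1) =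
          s • d := by
        rw [h1, h2]
        module
      have hσs : σ s ≠ 0 := by
        intro h
        apply hs
        have := congrArg σ.symm h
        simpa using this
      have hsne : Cfsg.hermForm n F q
          (E (m - 1) + s • d + t • Fv (m - 1) -
            Cfsg.hermForm n F q (E (m - 1) + s • d + t • Fv (m - 1)) (Fv (m - 1)) • E (m - 1) -
            Cfsg.hermForm n F q (E (m - 1) + s • d + t • Fv (m - 1)) (E (m - 1)) • Fv (m - 1))
          (E (m - 1) + s • d + t • Fv (m - 1) -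
            Cfsg.hermForm n F q (E (m - 1) + s • d + t • Fv (m - 1)) (Fv (m - 1)) • E (m - 1) -
            Cfsg.hermForm n F q (E (m - 1) + s • d + t • Fv (m - 1)) (E (m - 1)) • Fv (m - 1)) ≠
          0 := by
        rw [h3, herm_smul_left, herm_smul_right hσ, fr.dd, mul_one]
        exact mul_ne_zero hs hσs
      exact Cfsg.Agent.Lib.helper2.SUnP4.lemA2 hF hσ hf a' hnd (by omega) hp (hE _ hm1)
        (hFv _ hm1) hy hya hsne v hv ((hP v).mpr hperp)
    | succ r ih =>
      intro hr v hv hperp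
      -- j = m - 1 - (r+1), j + 1 = m - 1 - r
      obtain ⟨j, hj⟩ : ∃ j, j = m - 1 - (r + 1) := ⟨_, rfl⟩
      have hj1 : m - 1 - r = j + 1 := by omega
      have hjm : j < m := by omega
      have hj1m : j + 1 < m := by omega
      rw [← hj] at hperp
      obtain ⟨k, a', hk, hnd, hP⟩ := fam hσ hf fr j (by omega)
      have hp : HP (Cfsg.hermForm n F q) a' (E j) (Fv j) := by
        refine ⟨fr.ee _ _ hjm hjm, fr.ff _ _ hjm hjm, ?_, ?_, ?_⟩
        · rw [fr.fe _ _ hjm hjm, if_pos rfl]
        · rw [hP]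
          intro i hi
          have hne : j ≠ i := by omega
          rw [fr.ee _ i hjm (by omega), fr.ef _ i hjm (by omega), if_neg hne]
          exact ⟨rfl, rfl⟩
        · rw [hP]
          intro i hi
          have hne : j ≠ i := by omega
          rw [fr.fe _ i hjm (by omega), fr.ff _ i hjm (by omega), if_neg hne]
          exact ⟨rfl, rfl⟩
      have hY : ∀ v : Fin n → F, Cfsg.hermForm n F q v v = 0 →
          Perp (Cfsg.hermForm n F q) a' v →
          Cfsg.hermForm n F q v (E j) = 0 → Cfsg.hermForm n F q v (Fv j) = 0 → v ∈ DD σ H := by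
        intro v' hv' hpv he hf'
        apply ih (by omega) v' hv'
        rw [hj1]
        intro i hi
        by_cases hij : i = j
        · subst hij
          exact ⟨he, hf'⟩
        · exact (hP v').mp hpv i (by omega)
      have hne1 : j + 1 ≠ j := by omega
      have hz0 : kk j • E (j + 1) ≠ 0 := by
        apply smul_ne_zero (hkk j hj1m)
        apply ne_zero_of_herm (q := q) (y := Fv (j + 1))
        rw [fr.ef _ _ hj1m hj1m, if_pos rfl]
        exact one_ne_zero
      have hz0i : Cfsg.hermForm n F q (kk j • E (j + 1)) (kk j • E (j + 1)) = 0 := by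
        rw [herm_smul_left, herm_smul_right hσ, fr.ee _ _ hj1m hj1m, mul_zero, mul_zero]
      have hz0a : Perp (Cfsg.hermForm n F q) a' (kk j • E (j + 1)) := by
        rw [hP]
        intro i hi
        have hne : j + 1 ≠ i := by omega
        rw [herm_smul_left, herm_smul_left, fr.ee _ i hj1m (by omega),
          fr.ef _ i hj1m (by omega), if_neg hne, mul_zero]
        exact ⟨rfl, rfl⟩
      have hz0e : Cfsg.hermForm n F q (kk j • E (j + 1)) (E j) = 0 := by
        rw [herm_smul_left, fr.ee _ _ hj1m hjm, mul_zero]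
      have hz0f : Cfsg.hermForm n F q (kk j • E (j + 1)) (Fv j) = 0 := by
        rw [herm_smul_left, fr.ef _ _ hj1m hjm, if_neg hne1, mul_zero]
      have hz : kk j • E (j + 1) + E j ∈ DD σ H := by
        rw [add_comm]
        exact hlink j hj1m
      exact hB a' hnd (by omega) hp (hE j hjm) (hFv j hjm) hY hz0 hz0i hz0a hz0e hz0f hz v hv
        ((hP v).mpr hperp)
  intro y hy0
  apply key (m - 1) le_rfl y hy0
  intro i hi
  omega

end

end Cfsg.Agent.Lib.Helper13.SUnP6
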