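import Mathlib

set_option autoImplicit false

/-!
A nilpotent operator given by its action on an ordered family `b 0, …, b L`:
`N (b 0) = 0`, `N (b (k+1)) = c k • b k + (lower terms)`.
-/

namespace Cfsg.Agent.Lib.Helper13.SUnP8b

variable {F : Type*} [Field F] {V : Type*} [AddCommGroup V] [Module F V]

/-- the flag -/
def Wf (b : ℕ → V) (k : ℕ) : Submodule F V := Submodule.span F (b '' {i | i < k})

theorem Wf_mono (b : ℕ → V) {k k' : ℕ} (h : k ≤ k') : Wf (F := F) b k ≤ Wf b k' := by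
  apply Submodule.span_mono
  apply Set.image_mono
  intro i hi
  exact lt_of_lt_of_le hi h

theorem mem_Wf (b : ℕ → V) {i k : ℕ} (h : i < k) : b i ∈ Wf (F := F) b k :=
  Submodule.subset_span ⟨i, h, rfl⟩

theorem Wf_zero (b : ℕ → V) : Wf (F := F) b 0 = ⊥ := by
  unfold Wf
  have : {i : ℕ | i < 0} = ∅ := by
    ext i
    simp
  rw [this, Set.image_empty, Submodule.span_empty]

theorem flag_step (N : V →ₗ[F] V) (b : ℕ → V) (c : ℕ → F) (L : ℕ)
    (h0 : N (b 0) = 0)
    (hstep : ∀ k, k < L → ∃ w ∈ Wf (F := F) b k, N (b (k + 1)) = c k • b k + w)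
    (k : ℕ) (hk : k ≤ L + 1) (x : V) (hx : x ∈ Wf (F := F) b k) : N x ∈ Wf (F := F) b (k - 1) := by
  unfold Wf at hx
  induction hx using Submodule.span_induction with
  | mem y hy =>
    obtain ⟨i, hi, rfl⟩ := hy
    rw [Set.mem_setOf_eq] at hi
    rcases Nat.eq_zero_or_pos i with h | h
    · rw [h, h0]
      exact Submodule.zero_mem _
    · obtain ⟨i', rfl⟩ : ∃ i', i = i' + 1 := ⟨i - 1, by omega⟩
      obtain ⟨w, hw, he⟩ := hstep i' (by omega)
      rw [he]
      apply Wf_mono b (show i' + 1 ≤ k - 1 by omega)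
      exact Submodule.add_mem _ (Submodule.smul_mem _ _ (mem_Wf b (by omega)))
        (Wf_mono b (by omega) hw)
  | zero => rw [map_zero]; exact Submodule.zero_mem _
  | add y z _ _ hy hz => rw [map_add]; exact Submodule.add_mem _ hy hz
  | smul r y _ hy => rw [map_smul]; exact Submodule.smul_mem _ _ hy

theorem flag_pow (N : V →ₗ[F] V) (b : ℕ → V) (c : ℕ → F) (L : ℕ)
    (h0 : N (b 0) = 0)
    (hstep : ∀ k, k < L → ∃ w ∈ Wf (F := F) b k, N (b (k + 1)) = c k • b k + w)
    (j : ℕ) : ∀ (k : ℕ), k ≤ L + 1 → ∀ x : V, x ∈ Wf (F := F) b k →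
      (N ^ j) x ∈ Wf (F := F) b (k - j) := by
  induction j with
  | zero =>
    intro k _ x hx
    rw [pow_zero]
    exact hx
  | succ j ih =>
    intro k hk x hx
    rw [pow_succ, Module.End.mul_apply]
    have h1 := flag_step N b c L h0 hstep k hk x hx
    have h2 := ih (k - 1) (by omega) _ h1
    have : k - 1 - j = k - (j + 1) := by omega
    rw [← this]
    exact h2

theorem flag_nilp (N : V →ₗ[F] V) (b : ℕ → V) (c : ℕ → F) (L : ℕ)
    (h0 : N (b 0) = 0)
    (hstep : ∀ k, k < L → ∃ w ∈ Wf (F := F) b k, N (b (k + 1)) = c k • b k + w)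
    (x : V) (hx : x ∈ Wf (F := F) b (L + 1)) : (N ^ (L + 1)) x = 0 := by
  have h := flag_pow N b c L h0 hstep (L + 1) (L + 1) le_rfl x hx
  rw [Nat.sub_self, Wf_zero, Submodule.mem_bot] at h
  exact h

theorem flag_lead (N : V →ₗ[F] V) (b : ℕ → V) (c : ℕ → F) (L : ℕ)
    (h0 : N (b 0) = 0)
    (hstep : ∀ k, k < L → ∃ w ∈ Wf (F := F) b k, N (b (k + 1)) = c k • b k + w)
    (k : ℕ) (hk : k ≤ L) : (N ^ k) (b k) = (∏ i ∈ Finset.range k, c i) • b 0 := by
  induction k with
  | zero => simp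
  | succ k ih =>
    obtain ⟨w, hw, he⟩ := hstep k (by omega)
    rw [pow_succ, Module.End.mul_apply, he, map_add, map_smul, ih (by omega)]
    have h := flag_pow N b c L h0 hstep k k (by omega) w hw
    rw [Nat.sub_self, Wf_zero, Submodule.mem_bot] at h
    rw [h, add_zero, smul_smul, Finset.prod_range_succ, mul_comm]

end Cfsg.Agent.Lib.Helper13.SUnP8b
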