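import Cfsg.Agent.Lib.helper15.SUn.Iso
import Cfsg.Agent.Lib.Helper13.SUnP8b0

set_option autoImplicit false

namespace Cfsg.Agent.Lib.Helper13.SUnP8b

open Matrix Cfsg.Agent.Lib.helper15.SUn

variable {F : Type*} [Field F] {n : ℕ} {q : ℕ} {σ : F ≃+* F}

section

variable {m : ℕ} {E Fv : ℕ → Fin n → F} {d : Fin n → F}

/-- the ordered frame `e_0 … e_{m-1}, d, f_{m-1} … f_0` -/
def bb (m : ℕ) (E Fv : ℕ → Fin n → F) (d : Fin n → F) (k : ℕ) : Fin n → F :=
  if k < m then E k else if k = m then d else Fv (2 * m - k)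

/-- the leading coefficients -/
def cc (σ : F ≃+* F) (m : ℕ) (al : ℕ → F) (a : F) (k : ℕ) : F :=
  if k + 1 < m then al k else if k + 1 = m then a else if k = m then -σ a
    else -σ (al (2 * m - k - 1))

theorem bb_lt {k : ℕ} (h : k < m) : bb m E Fv d k = E k := by
  unfold bb
  rw [if_pos h]

theorem bb_eq : bb m E Fv d m = d := by
  unfold bb
  rw [if_neg (lt_irrefl m), if_pos rfl]

theorem bb_gt {k : ℕ} (h : m < k) : bb m E Fv d k = Fv (2 * m - k) := by
  unfold bb
  rw [if_neg (by omega), if_neg (by omega)]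

theorem span_top (fr : Frame q m E Fv d) (x : Fin n → F) :
    x ∈ Wf (F := F) (bb m E Fv d) (2 * m + 1) := by
  rw [fr.span x]
  apply Submodule.add_mem
  · apply Submodule.sum_mem
    intro i hi
    rw [Finset.mem_range] at hi
    apply Submodule.add_mem
    · apply Submodule.smul_mem
      have h1 := mem_Wf (F := F) (bb m E Fv d) (show i < 2 * m + 1 by omega)
      rwa [bb_lt hi] at h1
    · apply Submodule.smul_mem
      have h1 := mem_Wf (F := F) (bb m E Fv d) (show 2 * m - i < 2 * m + 1 by omega)
      rw [bb_gt (show m < 2 * m - i by omega)] at h1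
      have h2 : 2 * m - (2 * m - i) = i := by omega
      rwa [h2] at h1
  · apply Submodule.smul_mem
    have h1 := mem_Wf (F := F) (bb m E Fv d) (show m < 2 * m + 1 by omega)
    rwa [bb_eq] at h1

theorem regular_of_action (fr : Frame q m E Fv d) (hm : 1 ≤ m) (hn : n = 2 * m + 1)
    (u : Matrix (Fin n) (Fin n) F) (al : ℕ → F) (a c : F)
    (h_e0 : u *ᵥ E 0 = E 0)
    (h_es : ∀ j, j + 1 < m → u *ᵥ E (j + 1) = E (j + 1) + al j • (u *ᵥ E j))
    (h_d : u *ᵥ d = d + a • (u *ᵥ E (m - 1)))
    (h_fl : u *ᵥ Fv (m - 1) = Fv (m - 1) - σ a • d + c • (u *ᵥ E (m - 1)))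
    (h_f : ∀ j, j + 1 < m → u *ᵥ Fv j = Fv j - σ (al j) • Fv (j + 1))
    (hal : ∀ j, j + 1 < m → al j ≠ 0) (ha : a ≠ 0) :
    IsNilpotent (u - 1) ∧ (u - 1) ^ (n - 1) ≠ 0 := by
  obtain ⟨N, hN⟩ : ∃ N : (Fin n → F) →ₗ[F] (Fin n → F), N = Matrix.toLin' (u - 1) := ⟨_, rfl⟩
  have hNx : ∀ x, N x = u *ᵥ x - x := by
    intro x
    rw [hN, Matrix.toLin'_apply, Matrix.sub_mulVec, Matrix.one_mulVec]
  have hux : ∀ x, u *ᵥ x = x + N x := by
    intro x
    rw [hNx]
    abel
  have hNpow : ∀ k x, (N ^ k) x = ((u - 1) ^ k) *ᵥ x := by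
    intro k x
    rw [hN, ← Matrix.toLin'_pow, Matrix.toLin'_apply]
  have hm0 : 0 < m := by omega
  -- claim A
  have hA : ∀ j, j < m → N (E j) ∈ Wf (F := F) (bb m E Fv d) j := by
    intro j
    induction j with
    | zero =>
      intro _
      rw [hNx, h_e0, sub_self]
      exact Submodule.zero_mem _
    | succ j ih =>
      intro hj
      have h1 : N (E (j + 1)) = al j • (E j + N (E j)) := by
        rw [hNx, h_es j hj, hux]
        abel
      rw [h1]
      apply Submodule.smul_mem
      apply Submodule.add_mem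
      · have h2 := mem_Wf (F := F) (bb m E Fv d) (show j < j + 1 by omega)
        rwa [bb_lt (show j < m by omega)] at h2
      · exact Wf_mono _ (by omega) (ih (by omega))
  have h0 : N (bb m E Fv d 0) = 0 := by
    rw [bb_lt hm0, hNx, h_e0, sub_self]
  have hstep : ∀ k, k < 2 * m → ∃ w ∈ Wf (F := F) (bb m E Fv d) k,
      N (bb m E Fv d (k + 1)) = cc σ m al a k • bb m E Fv d k + w := by
    intro k hk
    by_cases h1 : k + 1 < m
    · refine ⟨al k • N (E k), Submodule.smul_mem _ _ (hA k (by omega)), ?_⟩
      rw [bb_lt h1, bb_lt (show k < m by omega)]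
      unfold cc
      rw [if_pos h1, hNx (E (k + 1)), h_es k h1, hux]
      module
    · by_cases h2 : k + 1 = m
      · refine ⟨a • N (E k), Submodule.smul_mem _ _ (hA k (by omega)), ?_⟩
        have hk1 : m - 1 = k := by omega
        rw [h2, bb_eq, bb_lt (show k < m by omega)]
        unfold cc
        rw [if_neg h1, if_pos h2, hNx d, h_d, hk1, hux]
        module
      · by_cases h3 : k = m
        · subst h3
          refine ⟨c • (E (k - 1) + N (E (k - 1))), ?_, ?_⟩
          · apply Submodule.smul_mem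
            apply Submodule.add_mem
            · have h2 := mem_Wf (F := F) (bb k E Fv d) (show k - 1 < k by omega)
              rwa [bb_lt (show k - 1 < k by omega)] at h2
            · exact Wf_mono _ (by omega) (hA (k - 1) (by omega))
          · have hk1 : 2 * k - (k + 1) = k - 1 := by omega
            rw [bb_gt (show k < k + 1 by omega), hk1, bb_eq]
            unfold cc
            rw [if_neg h1, if_neg h2, if_pos rfl, hNx (Fv (k - 1)), h_fl, hux]
            module
        · have hmk : m < k := by omega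
          refine ⟨0, Submodule.zero_mem _, ?_⟩
          obtain ⟨j, hj⟩ : ∃ j, j = 2 * m - k - 1 := ⟨_, rfl⟩
          have hj1 : 2 * m - (k + 1) = j := by omega
          have hj2 : 2 * m - k = j + 1 := by omega
          rw [bb_gt (show m < k + 1 by omega), bb_gt hmk, hj1, hj2]
          unfold cc
          rw [if_neg h1, if_neg h2, if_neg h3, ← hj, hNx (Fv j), h_f j (by omega)]
          module
  constructor
  · refine ⟨2 * m + 1, ?_⟩
    apply mat_ext
    intro x
    rw [← hNpow, Matrix.zero_mulVec]
    exact flag_nilp N _ (cc σ m al a) (2 * m) h0 hstep x (span_top fr x)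
  · intro hzero
    have h1 := flag_lead N _ (cc σ m al a) (2 * m) h0 hstep (2 * m) le_rfl
    have h2 : n - 1 = 2 * m := by omega
    rw [hNpow, ← h2, hzero, Matrix.zero_mulVec, bb_lt hm0] at h1
    have hE0 : E 0 ≠ 0 := by
      intro h
      have := fr.ef 0 0 hm0 hm0
      rw [h, herm_zero_left, if_pos rfl] at this
      exact zero_ne_one this
    have hprod : (∏ i ∈ Finset.range (n - 1), cc σ m al a i) ≠ 0 := by
      rw [Finset.prod_ne_zero_iff]
      intro i hi
      rw [Finset.mem_range] at hi
      have hσa : σ a ≠ 0 := by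
        intro h
        apply ha
        have := congrArg σ.symm h
        simpa using this
      unfold cc
      split_ifs with g1 g2 g3
      · exact hal i g1
      · exact ha
      · exact neg_ne_zero.mpr hσa
      · apply neg_ne_zero.mpr
        intro h
        apply hal (2 * m - i - 1) (by omega)
        have := congrArg σ.symm h
        simpa using this
    exact (smul_ne_zero hprod hE0) h1.symm

end

end Cfsg.Agent.Lib.Helper13.SUnP8b
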