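import Cfsg.Agent.Lib.helper15.SUn.Iso
import Cfsg.Agent.Lib.Helper28.UGen2
import Cfsg.Agent.Lib.Helper28.UHerm
import Cfsg.Agent.S0780
import Cfsg.Agent.Lib.helper15.SUn.UAct
import Cfsg.Agent.Lib.Helper13.SUnP8b1

set_option autoImplicit false

namespace Cfsg.Agent.Lib.Helper13.SUnP8b

open Matrix Cfsg.Agent.Lib.helper15.SUn Cfsg.Agent.Lib.Helper28.UGen

variable {F : Type*} [Field F] [Fintype F] {n : ℕ} {q : ℕ} {σ : F ≃+* F}

section P8
variable {m : ℕ} {E Fv : ℕ → Fin n → F} {d : Fin n → F}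

theorem frame_ext (fr : Frame q m E Fv d) {M N : Matrix (Fin n) (Fin n) F}
    (hE : ∀ i, i < m → M *ᵥ E i = N *ᵥ E i) (hFv : ∀ i, i < m → M *ᵥ Fv i = N *ᵥ Fv i)
    (hd : M *ᵥ d = N *ᵥ d) : M = N := by
  apply mat_ext
  intro x
  rw [fr.span x]
  simp only [Matrix.mulVec_add, Matrix.mulVec_sum, Matrix.mulVec_smul, hd]
  congr 1
  apply Finset.sum_congr rfl
  intro i hi
  rw [Finset.mem_range] at hi
  rw [hE i hi, hFv i hi]

theorem uM_regular (hF : Fintype.card F = q ^ 2) (hσ : ∀ x, σ x = x ^ q)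
    (hf : Cfsg.Geo.IsUnitaryForm σ (Cfsg.hermForm n F q))
    (fr : Frame q m E Fv d) (hm : 1 ≤ m) (hn : n = 2 * m + 1) (al : ℕ → F) {a c : F}
    (hal : ∀ j, j + 1 < m → al j ≠ 0) (ha : a ≠ 0) (hc : c + σ c + a * σ a = 0) :
    IsNilpotent (uM σ m E Fv d al a c - 1) ∧ (uM σ m E Fv d al a c - 1) ^ (n - 1) ≠ 0 :=
  regular_of_action (σ := σ) fr hm hn (uM σ m E Fv d al a c) al a c
    (uM_e_zero hσ hf fr hm al a c)
    (fun j hj => uM_e_succ hσ hf fr hm al a c j hj)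
    (uM_d hσ hf fr hm al a c)
    (uM_f_last hσ hf fr hm al a c)
    (fun j hj => uM_f hσ hf fr hm al a c j hj)
    hal ha

end P8

end Cfsg.Agent.Lib.Helper13.SUnP8b
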