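import Cfsg.Agent.Lib.helper15.SUn.Iso
import Cfsg.Agent.Lib.Helper28.UGen2
import Cfsg.Agent.Lib.Helper28.UHerm
import Cfsg.Agent.S0780

set_option autoImplicit false

namespace Cfsg.Agent.Lib.Helper13.SUnP9

open Matrix Cfsg.Agent.Lib.helper15.SUn Cfsg.Agent.Lib.Helper28.UGen

variable {F : Type*} [Field F] [Fintype F] {n : ℕ} {q : ℕ} {σ : F ≃+* F}

theorem herm_swap_zero (hf : Cfsg.Geo.IsUnitaryForm σ (Cfsg.hermForm n F q)) {x y : Fin n → F}
    (h : Cfsg.hermForm n F q x y = 0) : Cfsg.hermForm n F q y x = 0 := by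
  rw [hf.herm, h, map_zero]

/-- the square of `Eh (p + b e₁) w c * Eh p w c`, without any characteristic assumption. -/
theorem sq_aux (hσ : ∀ x, σ x = x ^ q) (hf : Cfsg.Geo.IsUnitaryForm σ (Cfsg.hermForm n F q))
    (h2 : (2 : F) = 0) {e1 p w : Fin n → F} {b c : F}
    (he1 : Cfsg.hermForm n F q e1 e1 = 0)
    (hp : Cfsg.hermForm n F q p p = 0) (hwp : Cfsg.hermForm n F q w p = 0)
    (hpe1 : Cfsg.hermForm n F q p e1 = 0)
    (hwe1 : Cfsg.hermForm n F q w e1 = 0) (x : Fin n → F) :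
    (Eh σ (p + b • e1) w c * Eh σ p w c) *ᵥ ((Eh σ (p + b • e1) w c * Eh σ p w c) *ᵥ x) =
      TV σ e1 (b * σ b * Cfsg.hermForm n F q w w) *ᵥ x := by
  have hpw := herm_swap_zero hf hwp
  have he1p := herm_swap_zero hf hpe1
  have he1w := herm_swap_zero hf hwe1
  rw [← Matrix.mulVec_mulVec, ← Matrix.mulVec_mulVec]
  rw [Eh_mulVec hσ p w c x]
  rw [Eh_mulVec hσ (p + b • e1) w c]
  rw [Eh_mulVec hσ p w c]
  rw [Eh_mulVec hσ (p + b • e1) w c]
  rw [TV_mulVec hσ]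
  simp only [herm_add_left, herm_sub_left, herm_add_right hσ, herm_smul_left,
    herm_smul_right hσ, he1, hp, hwp, hpw, hpe1, he1p, hwe1, he1w, mul_zero, zero_mul, add_zero,
    zero_add, sub_zero]
  funext i
  simp only [Pi.add_apply, Pi.sub_apply, Pi.smul_apply, smul_eq_mul]
  linear_combination (Cfsg.hermForm n F q x w * p i * 2 + Cfsg.hermForm n F q x w * b * e1 i +
    p i * Cfsg.hermForm n F q x p * c * 2 -
    p i * Cfsg.hermForm n F q x p * Cfsg.hermForm n F q w w * 3 +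
    p i * c * σ b * Cfsg.hermForm n F q x e1 -
    p i * Cfsg.hermForm n F q w w * σ b * Cfsg.hermForm n F q x e1 -
    Cfsg.hermForm n F q x p * w i * 2 +
    Cfsg.hermForm n F q x p * c * b * e1 i -
    Cfsg.hermForm n F q x p * Cfsg.hermForm n F q w w * b * e1 i * 2 -
    w i * σ b * Cfsg.hermForm n F q x e1 +
    c * b * e1 i * σ b * Cfsg.hermForm n F q x e1 -
    Cfsg.hermForm n F q w w * b * e1 i * σ b * Cfsg.hermForm n F q x e1) * h2

theorem stage0_even (hσ : ∀ x, σ x = x ^ q) (hf : Cfsg.Geo.IsUnitaryForm σ (Cfsg.hermForm n F q))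
    (h2 : (2 : F) = 0) {e1 f2 p w : Fin n → F} {b c : F}
    (he1 : Cfsg.hermForm n F q e1 e1 = 0) (hf2 : Cfsg.hermForm n F q f2 f2 = 0)
    (he1f2 : Cfsg.hermForm n F q e1 f2 = 0)
    (hp : Cfsg.hermForm n F q p p = 0) (hwp : Cfsg.hermForm n F q w p = 0)
    (hc : c + σ c + Cfsg.hermForm n F q w w = 0)
    (hpe1 : Cfsg.hermForm n F q p e1 = 0) (hpf2 : Cfsg.hermForm n F q p f2 = 1)
    (hwe1 : Cfsg.hermForm n F q w e1 = 0) (hwf2 : Cfsg.hermForm n F q w f2 = 0) :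
    (Sg σ e1 f2 b * Eh σ p w c) ^ 4 = TV σ e1 (b * σ b * Cfsg.hermForm n F q w w) := by
  have hAA : Sg σ e1 f2 b * Sg σ e1 f2 b = 1 := by
    rw [Sg_mul hσ hf he1 hf2 he1f2]
    have : b + b = 0 := by linear_combination b * h2
    rw [this, Sg_zero]
  have hiso : ∀ x y, Cfsg.hermForm n F q (Sg σ e1 f2 b *ᵥ x) (Sg σ e1 f2 b *ᵥ y) =
      Cfsg.hermForm n F q x y := Sg_iso hσ hf he1 hf2 he1f2 b
  have hAp : Sg σ e1 f2 b *ᵥ p = p + b • e1 := by
    rw [Sg_mulVec hσ, hpf2, hpe1, mul_one, mul_zero, zero_smul, sub_zero]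
  have hAw : Sg σ e1 f2 b *ᵥ w = w := by
    rw [Sg_mulVec hσ, hwf2, hwe1, mul_zero, mul_zero, zero_smul, zero_smul, add_zero, sub_zero]
  have hconj : Sg σ e1 f2 b * Eh σ p w c * Sg σ e1 f2 b = Eh σ (p + b • e1) w c := by
    rw [conj_Eh hσ hAA hiso, hAp, hAw]
  have hsq : (Sg σ e1 f2 b * Eh σ p w c) ^ 2 = Eh σ (p + b • e1) w c * Eh σ p w c := by
    rw [pow_two, ← hconj]
    simp only [Matrix.mul_assoc]
  have h4 : (Sg σ e1 f2 b * Eh σ p w c) ^ 4 =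
      ((Sg σ e1 f2 b * Eh σ p w c) ^ 2) * ((Sg σ e1 f2 b * Eh σ p w c) ^ 2) := by
    rw [← pow_add]
  rw [h4, hsq]
  apply mat_ext
  intro x
  rw [← Matrix.mulVec_mulVec]
  exact sq_aux hσ hf h2 he1 hp hwp hpe1 hwe1 x

end Cfsg.Agent.Lib.Helper13.SUnP9
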