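import Mathlib
import Cfsg.Prelude.Def_ConjugacyFunctors
import Cfsg.Prelude.Def_Solvable
import Cfsg.Agent.Lib.Helper13.FamilyFusion
import Cfsg.Agent.Lib.Helper13.NPCFunctor

set_option autoImplicit false

/-! Sections and families of isomorphism-invariant functors: generic section predicate, extra
`Reach` API (reverse, ambient subgroup, images under injective homomorphisms) (helper13). -/

namespace Cfsg.Agent.Lib.Helper13

universe u

section SecAllDef

/-- `Pr` holds for every (finite) section of `G`. -/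
def SecAll (Pr : ∀ (Q : Type u) [Group Q], Prop) (G : Type u) [Group G] : Prop :=
  ∀ (Q : Type u) [Group Q] [Finite Q],
    (∃ (K : Subgroup G) (f : ↥K →* Q), Function.Surjective f) → Pr Q

variable {Pr : ∀ (Q : Type u) [Group Q], Prop}

theorem secAll_subgroup {G : Type u} [Group G] (h : SecAll Pr G) (N : Subgroup G) :
    SecAll Pr ↥N := by
  intro Q _ _ ⟨K, f, hf⟩
  apply h Q
  refine ⟨K.map N.subtype,
    f.comp (K.equivMapOfInjective N.subtype N.subtype_injective).symm.toMonoidHom, ?_⟩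
  exact hf.comp (K.equivMapOfInjective N.subtype N.subtype_injective).symm.surjective

theorem secAll_quotient {G : Type u} [Group G] (h : SecAll Pr G) (M : Subgroup G) [M.Normal] :
    SecAll Pr (G ⧸ M) := by
  intro Q _ _ ⟨K, f, hf⟩
  apply h Q
  refine ⟨K.comap (QuotientGroup.mk' M), f.comp ((QuotientGroup.mk' M).subgroupComap K), ?_⟩
  exact hf.comp (MonoidHom.subgroupComap_surjective_of_surjective _ K
    (QuotientGroup.mk'_surjective M))

theorem secAll_self {G : Type u} [Group G] [Finite G] (h : SecAll Pr G) : Pr G := by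
  apply h G
  exact ⟨⊤, (Subgroup.topEquiv : (⊤ : Subgroup G) ≃* G).toMonoidHom,
    (Subgroup.topEquiv : (⊤ : Subgroup G) ≃* G).surjective⟩

theorem secAll_of_sections {G : Type u} [Group G] [Finite G]
    (hequiv : ∀ (Q₁ Q₂ : Type u) [Group Q₁] [Group Q₂] [Finite Q₁], (Q₁ ≃* Q₂) → Pr Q₁ → Pr Q₂)
    (hloc : ∀ (K R : Subgroup G) [hR : (R.subgroupOf K).Normal], Pr (↥K ⧸ R.subgroupOf K)) :
    SecAll Pr G := by
  intro Q _ _ ⟨K, f, hf⟩
  have hR : ((f.ker.map K.subtype).subgroupOf K) = f.ker :=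
    Subgroup.comap_map_eq_self_of_injective K.subtype_injective f.ker
  have : ((f.ker.map K.subtype).subgroupOf K).Normal := by rw [hR]; infer_instance
  have h1 := hloc K (f.ker.map K.subtype)
  have e : (↥K ⧸ (f.ker.map K.subtype).subgroupOf K) ≃* Q :=
    (QuotientGroup.quotientMulEquivOfEq hR).trans (QuotientGroup.quotientKerEquivOfSurjective f hf)
  exact hequiv _ _ e h1

end SecAllDef

section ReachExtra

variable {G : Type*} [Group G] {𝓦 : Set (Subgroup G → Subgroup G)} {H H' T : Subgroup G}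
  {A : Set G} {c : G}

theorem FReach.mono_ambient (hHH' : H ≤ H') (h : FReach 𝓦 H T A c) : FReach 𝓦 H' T A c := by
  induction h with
  | one hA => exact FReach.one hA
  | step c y W hW hy hc hA ih =>
    exact FReach.step c y W hW
      (Subgroup.mem_inf.mpr ⟨hHH' (Subgroup.mem_inf.mp hy).1, (Subgroup.mem_inf.mp hy).2⟩) ih hA

theorem Reach.mono_ambient {h : G} (hHH' : H ≤ H') (hr : Reach 𝓦 H T A h) : Reach 𝓦 H' T A h := by
  obtain ⟨c, hc, hca⟩ := hr
  exact ⟨c, hc.mono_ambient hHH', hca⟩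

/-- Reversal of a chain. -/
theorem FReach.reverse (h : FReach 𝓦 H T A c) :
    FReach 𝓦 H T ((fun a => c * a * c⁻¹) '' A) c⁻¹ := by
  induction h with
  | one hA =>
    have hset : (fun a => (1 : G) * a * 1⁻¹) '' A = A := by
      ext x
      simp
    rw [hset, inv_one]
    exact FReach.one hA
  | step c y W hW hy hc hA ih =>
    have hy' : y⁻¹ ∈ H ⊓ Subgroup.normalizer ((W T : Subgroup G) : Set G) := Subgroup.inv_mem _ hy
    have hsub : (fun a => y * c * a * (y * c)⁻¹) '' A ⊆ (T : Set G) := by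
      rintro _ ⟨a, ha, rfl⟩
      exact hA a ha
    have h1 : FReach 𝓦 H T ((fun a => y * c * a * (y * c)⁻¹) '' A) y⁻¹ := by
      apply FReach.single hW hy' hsub
      rintro _ ⟨a, ha, rfl⟩
      have e : y⁻¹ * (y * c * a * (y * c)⁻¹) * y⁻¹⁻¹ = c * a * c⁻¹ := by group
      rw [e]
      exact hc.conj_mem a ha
    have h2 := h1.comp ih (by
      rintro _ ⟨a, ha, rfl⟩
      refine ⟨a, ha, ?_⟩
      show c * a * c⁻¹ = y⁻¹ * (y * c * a * (y * c)⁻¹) * y⁻¹⁻¹
      group)
    have e : (y * c)⁻¹ = c⁻¹ * y⁻¹ := by group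
    rw [← e] at h2
    exact h2

theorem Reach.reverse {h : G} (hr : Reach 𝓦 H T A h) :
    Reach 𝓦 H T ((fun a => h * a * h⁻¹) '' A) h⁻¹ := by
  obtain ⟨c, hc, hca⟩ := hr
  have hset : (fun a => h * a * h⁻¹) '' A = (fun a => c * a * c⁻¹) '' A := by
    ext x
    constructor
    · rintro ⟨a, ha, rfl⟩
      exact ⟨a, ha, hca a ha⟩
    · rintro ⟨a, ha, rfl⟩
      exact ⟨a, ha, (hca a ha).symm⟩
  rw [hset]
  refine ⟨c⁻¹, hc.reverse, ?_⟩
  rintro _ ⟨a, ha, rfl⟩
  have e1 : c⁻¹ * (c * a * c⁻¹) * c⁻¹⁻¹ = a := by group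
  have e2 : h⁻¹ * (c * a * c⁻¹) * h⁻¹⁻¹ = a := by
    rw [hca a ha]; group
  rw [e1, e2]

end ReachExtra

end Cfsg.Agent.Lib.Helper13
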