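import Cfsg.Agent.Lib.Helper13.SecFusA
import Cfsg.Agent.Lib.Helper13.SectionFunctor

set_option autoImplicit false

/-! Families of isomorphism-invariant functors: the induced families of conjugacy functors,
transport along injective homomorphisms (helper13). -/

namespace Cfsg.Agent.Lib.Helper13

universe u

section Defs

/-- The family of conjugacy functors on `Γ` induced by a set of functors on groups. -/
def indFam (𝓦 : Set (∀ (Q : Type u) [Group Q], Subgroup Q)) (Γ : Type u) [Group Γ] :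
    Set (Subgroup Γ → Subgroup Γ) :=
  (fun W => Cfsg.inducedFunctor (G := Γ) W) '' 𝓦

/-- The induced family controls strong fusion in `Γ`. -/
def FCS (p : ℕ) (𝓦 : Set (∀ (Q : Type u) [Group Q], Subgroup Q)) (Γ : Type u) [Group Γ] : Prop :=
  Cfsg.FamilyControlsStrongFusionIn p (indFam 𝓦 Γ) ⊤

/-- The hypothesis on constrained sections. -/
def HypC (p : ℕ) (𝓦 : Set (∀ (Q : Type u) [Group Q], Subgroup Q)) (Q : Type u) [Group Q] : Prop :=
  Subgroup.centralizer ((Cfsg.pCore p Q : Subgroup Q) : Set Q) ≤ Cfsg.pCore p Q → FCS p 𝓦 Q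

end Defs

section Transport

variable {p : ℕ} [Fact p.Prime] {𝓦 : Set (∀ (Q : Type u) [Group Q], Subgroup Q)}

theorem indFam_isConjugacyFunctor (h𝓦 : ∀ W ∈ 𝓦, Cfsg.IsCharPFunctor.{u} p W)
    (Γ : Type u) [Group Γ] [Finite Γ] :
    ∀ V ∈ indFam 𝓦 Γ, Cfsg.IsConjugacyFunctor p V := by
  rintro _ ⟨W, hW, rfl⟩
  exact inducedFunctor_isConjugacyFunctor W (h𝓦 W hW)

theorem FReach.map_injective (h𝓦 : ∀ W ∈ 𝓦, Cfsg.IsCharPFunctor.{u} p W)
    {Γ' G : Type u} [Group Γ'] [Group G] [Finite Γ'] (f : Γ' →* G) (hf : Function.Injective f)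
    {T' : Subgroup Γ'} (hT' : IsPGroup p ↥T') {A' : Set Γ'} {c' : Γ'}
    (h : FReach (indFam 𝓦 Γ') ⊤ T' A' c') :
    FReach (indFam 𝓦 G) f.range (T'.map f) (f '' A') (f c') := by
  induction h with
  | one hA =>
    rw [map_one]
    apply FReach.one
    rintro _ ⟨a, ha, rfl⟩
    exact ⟨a, hA ha, rfl⟩
  | step c y V hV hy hc hA ih =>
    obtain ⟨W, hW, rfl⟩ := hV
    rw [map_mul]
    refine FReach.step (f c) (f y) (Cfsg.inducedFunctor (G := G) W) ⟨W, hW, rfl⟩ ?_ ih ?_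
    · refine Subgroup.mem_inf.mpr ⟨⟨y, rfl⟩, ?_⟩
      have hinj : ∀ t ∈ T', f t = 1 → t = 1 := by
        intro t _ h1
        exact hf (by rw [h1, map_one])
      rw [inducedFunctor_map_hom W (h𝓦 W hW) f T' hT' hinj]
      apply Subgroup.le_normalizer_map f
      exact ⟨y, (Subgroup.mem_inf.mp hy).2, rfl⟩
    · rintro _ ⟨a, ha, rfl⟩
      have := hA a ha
      refine ⟨_, this, ?_⟩
      simp only [map_mul, map_inv]

theorem Reach.map_injective (h𝓦 : ∀ W ∈ 𝓦, Cfsg.IsCharPFunctor.{u} p W)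
    {Γ' G : Type u} [Group Γ'] [Group G] [Finite Γ'] (f : Γ' →* G) (hf : Function.Injective f)
    {T' : Subgroup Γ'} (hT' : IsPGroup p ↥T') {A' : Set Γ'} {h' : Γ'}
    (h : Reach (indFam 𝓦 Γ') ⊤ T' A' h') :
    Reach (indFam 𝓦 G) f.range (T'.map f) (f '' A') (f h') := by
  obtain ⟨c, hc, hca⟩ := h
  refine ⟨f c, FReach.map_injective h𝓦 f hf hT' hc, ?_⟩
  rintro _ ⟨a, ha, rfl⟩
  have := congrArg f (hca a ha)
  simpa only [map_mul, map_inv] using this

/-- Control in a group (as a type) gives control in its image under an injective homomorphism. -/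
theorem fcs_range_of_injective (h𝓦 : ∀ W ∈ 𝓦, Cfsg.IsCharPFunctor.{u} p W)
    {Γ' G : Type u} [Group Γ'] [Group G] [Finite Γ'] (f : Γ' →* G) (hf : Function.Injective f)
    (h : FCS p 𝓦 Γ') :
    Cfsg.FamilyControlsStrongFusionIn p (indFam 𝓦 G) f.range := by
  obtain ⟨T', -, hT'p, hT'i, hT'⟩ := familyControlsStrongFusionIn_iff.mp h
  rw [familyControlsStrongFusionIn_iff]
  refine ⟨T'.map f, Subgroup.map_le_range f T', hT'p.map f, ?_, ?_⟩
  · rw [MonoidHom.range_eq_map, Subgroup.relIndex_map_map_of_injective _ _ hf]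
    exact hT'i
  · rintro A _ ⟨h', rfl⟩ hA hhA
    have hA' : f ⁻¹' A ⊆ (T' : Set Γ') := by
      intro a' ha'
      obtain ⟨t, ht, hta⟩ := hA ha'
      rw [← hf hta]; exact ht
    have himg : f '' (f ⁻¹' A) = A := by
      apply Set.image_preimage_eq_of_subset
      intro a ha
      obtain ⟨t, _, hta⟩ := hA ha
      exact ⟨t, hta⟩
    have hhA' : (fun a => h' * a * h'⁻¹) '' (f ⁻¹' A) ⊆ (T' : Set Γ') := by
      rintro _ ⟨a', ha', rfl⟩
      obtain ⟨t, ht, hta⟩ := hhA ⟨f a', ha', rfl⟩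
      have e : f t = f (h' * a' * h'⁻¹) := by
        rw [hta]; simp only [map_mul, map_inv]
      show h' * a' * h'⁻¹ ∈ (T' : Set Γ')
      rw [← hf e]; exact ht
    have h1 := Reach.map_injective h𝓦 f hf hT'p (hT' _ h' (Subgroup.mem_top _) hA' hhA')
    rwa [himg] at h1

theorem fcs_subgroup_of_type (h𝓦 : ∀ W ∈ 𝓦, Cfsg.IsCharPFunctor.{u} p W)
    {G : Type u} [Group G] [Finite G] (N : Subgroup G) (h : FCS p 𝓦 ↥N) :
    Cfsg.FamilyControlsStrongFusionIn p (indFam 𝓦 G) N := by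
  have := fcs_range_of_injective h𝓦 N.subtype N.subtype_injective h
  rwa [Subgroup.range_subtype] at this

theorem fcs_of_equiv (h𝓦 : ∀ W ∈ 𝓦, Cfsg.IsCharPFunctor.{u} p W)
    {Q₁ Q₂ : Type u} [Group Q₁] [Group Q₂] [Finite Q₁] (e : Q₁ ≃* Q₂) (h : FCS p 𝓦 Q₁) :
    FCS p 𝓦 Q₂ := by
  have := fcs_range_of_injective h𝓦 e.toMonoidHom e.injective h
  rwa [MonoidHom.range_eq_top.mpr e.surjective] at this

theorem hypC_of_equiv (h𝓦 : ∀ W ∈ 𝓦, Cfsg.IsCharPFunctor.{u} p W)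
    (Q₁ Q₂ : Type u) [Group Q₁] [Group Q₂] [Finite Q₁] (e : Q₁ ≃* Q₂) (h : HypC p 𝓦 Q₁) :
    HypC p 𝓦 Q₂ := by
  intro hc₂
  apply fcs_of_equiv h𝓦 e
  apply h
  have hO : (Cfsg.pCore p Q₁).map e.toMonoidHom = Cfsg.pCore p Q₂ := pCore_map_equiv e
  intro x hx
  have h1 : e x ∈ Subgroup.centralizer ((Cfsg.pCore p Q₂ : Subgroup Q₂) : Set Q₂) := by
    rw [Subgroup.mem_centralizer_iff]
    intro y hy
    rw [SetLike.mem_coe, ← hO] at hy
    obtain ⟨y', hy', rfl⟩ := hy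
    have := Subgroup.mem_centralizer_iff.mp hx y' hy'
    show e y' * e x = e x * e y'
    rw [← map_mul, ← map_mul, this]
  have h2 := hc₂ h1
  rw [← hO] at h2
  obtain ⟨x', hx', hxx'⟩ := h2
  have : x' = x := e.injective hxx'
  rw [← this]; exact hx'

end Transport

end Cfsg.Agent.Lib.Helper13
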