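import Cfsg.Agent.Lib.Helper13.SecFusC
import Cfsg.Agent.Lib.Helper13.NPStable
import Cfsg.Agent.Lib.Helper13.FusionLift
import Cfsg.Agent.Lib.Helper18.SylowIn

set_option autoImplicit false

/-! Elements acting trivially on `H/Q` when all `p'`-elements centralize `Q` (helper13). -/

namespace Cfsg.Agent.Lib.Helper13

universe u

section FN

variable {G : Type*} [Group G] [Finite G] {p : ℕ} [Fact p.Prime]

theorem normalizer_le_normalizer_centralizer' (H : Subgroup G) :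
    Subgroup.normalizer (H : Set G) ≤
      Subgroup.normalizer ((Subgroup.centralizer (H : Set G) : Subgroup G) : Set G) := by
  intro n hn
  apply mem_normalizer_of_cj_le
  rintro _ ⟨c, hc, rfl⟩
  exact fl_conj_mem_centralizer_of_mem_normalizer hn hc

/-- If all `p'`-elements centralize the normal `p`-subgroup `Q`, `H` is fully normalized in the Sylow
subgroup `S` and `y ∈ N(H)` acts trivially on `H` modulo `Q`, then `y ∈ S C(H)`. -/
theorem fn_factor (S : Sylow p G) (Q : Subgroup G) [Q.Normal] (hQ : IsPGroup p ↥Q)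
    (hp' : ∀ g : G, (orderOf g).Coprime p → g ∈ Subgroup.centralizer (Q : Set G))
    (H : Subgroup G)
    (hfn : ¬ p ∣ ((S : Subgroup G) ⊓ Subgroup.normalizer (H : Set G)).relIndex
      (Subgroup.normalizer (H : Set G)))
    {y : G} (hyN : y ∈ Subgroup.normalizer (H : Set G))
    (hyQ : ∀ x ∈ H, y * x * y⁻¹ * x⁻¹ ∈ Q) :
    ∃ s ∈ (S : Subgroup G), ∃ c ∈ Subgroup.centralizer (H : Set G), y = s * c := by
  have hp : p.Prime := Fact.out
  obtain ⟨Y, hY⟩ : ∃ Y : Subgroup G,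
      Y = Subgroup.normalizer (H : Set G) ⊓ Cfsg.sectionKernel H Q := ⟨_, rfl⟩
  have hYN : Y ≤ Subgroup.normalizer (H : Set G) := hY ▸ inf_le_left
  have hmemY : ∀ z : G, z ∈ Y ↔ z ∈ Subgroup.normalizer (H : Set G) ∧
      ∀ t ∈ H, z * t * z⁻¹ * t⁻¹ ∈ Q := by
    intro z
    rw [hY, Subgroup.mem_inf, mem_sectionKernel_iff]
  have hyY : y ∈ Y := (hmemY y).mpr ⟨hyN, hyQ⟩
  have hCY : Subgroup.centralizer (H : Set G) ≤ Y := by
    intro c hc
    rw [hmemY]
    refine ⟨Subgroup.centralizer_le_normalizer _ hc, ?_⟩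
    intro t ht
    have h1 : t * c = c * t := Subgroup.mem_centralizer_iff.mp hc t ht
    have e : c * t * c⁻¹ * t⁻¹ = 1 := by
      rw [← h1]; group
    rw [e]; exact Subgroup.one_mem _
  have hNY : Subgroup.normalizer (H : Set G) ≤ Subgroup.normalizer (Y : Set G) := by
    intro n hn
    apply mem_normalizer_of_cj_le
    rintro _ ⟨z, hz, rfl⟩
    obtain ⟨hz1, hz2⟩ := (hmemY z).mp hz
    rw [hmemY]
    refine ⟨Subgroup.mul_mem _ (Subgroup.mul_mem _ hn hz1) (Subgroup.inv_mem _ hn), ?_⟩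
    intro t ht
    have ht' : n⁻¹ * t * n ∈ H := by
      have := (Subgroup.mem_normalizer_iff.mp (Subgroup.inv_mem _ hn) t).mp ht
      simpa using this
    have h1 := hz2 _ ht'
    have e : (MulAut.conj n).toMonoidHom z * t * ((MulAut.conj n).toMonoidHom z)⁻¹ * t⁻¹ =
        n * (z * (n⁻¹ * t * n) * z⁻¹ * (n⁻¹ * t * n)⁻¹) * n⁻¹ := by
      simp only [MulEquiv.coe_toMonoidHom, MulAut.conj_apply]
      group
    rw [e]
    exact ‹Q.Normal›.conj_mem _ h1 n
  have hNC := normalizer_le_normalizer_centralizer' H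
  have hpow : ∀ z ∈ Y, ∃ k : ℕ, z ^ p ^ k ∈ Subgroup.centralizer (H : Set G) := by
    intro z hz
    have hn0 : orderOf z ≠ 0 := (orderOf_pos z).ne'
    obtain ⟨k, m, hm, hn⟩ := Nat.exists_eq_pow_mul_and_not_dvd hn0 p hp.ne_one
    refine ⟨k, ?_⟩
    obtain ⟨w, hw⟩ : ∃ w, w = z ^ p ^ k := ⟨_, rfl⟩
    rw [← hw]
    have hwm : w ^ m = 1 := by
      rw [hw, ← pow_mul, ← hn, pow_orderOf_eq_one]
    have hcop : (orderOf w).Coprime p :=
      Nat.Coprime.coprime_dvd_left (orderOf_dvd_of_pow_eq_one hwm)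
        ((Nat.Prime.coprime_iff_not_dvd hp).mpr hm).symm
    have hwY : w ∈ Y := hw ▸ Subgroup.pow_mem _ hz _
    have hw0 := hp' w hcop
    have hwT := ((hmemY w).mp hwY).2
    have h1 := pow_card_mem_centralizer hw0 hwT
    obtain ⟨j, hj⟩ := IsPGroup.iff_card.mp hQ
    have hcop2 : (Nat.card ↥Q).Coprime (orderOf w) := by
      rw [hj]
      exact Nat.Coprime.pow_left j hcop.symm
    obtain ⟨m', hm'⟩ := exists_pow_eq_self_of_coprime hcop2
    rw [← hm']
    exact Subgroup.pow_mem _ h1 _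
  obtain ⟨T, hT⟩ : ∃ T : Subgroup G, T = (S : Subgroup G) ⊓ Subgroup.normalizer (H : Set G) :=
    ⟨_, rfl⟩
  rw [← hT] at hfn
  have hTN : T ≤ Subgroup.normalizer (H : Set G) := hT ▸ inf_le_right
  have hTS : T ≤ (S : Subgroup G) := hT ▸ inf_le_left
  have hTY : ¬ p ∣ (T ⊓ Y).relIndex Y := by
    rw [Subgroup.inf_relIndex_right,
      ← Cfsg.Agent.Lib.Helper18.relIndex_sup_of_le_normalizer T Y (hTN.trans hNY)]
    intro hd
    have h1 := Subgroup.relIndex_mul_relIndex T (T ⊔ Y) (Subgroup.normalizer (H : Set G))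
      le_sup_left (sup_le hTN hYN)
    exact hfn (hd.trans (Dvd.intro _ h1))
  obtain ⟨X, hX⟩ : ∃ X : Subgroup G, X = (T ⊓ Y) ⊔ Subgroup.centralizer (H : Set G) := ⟨_, rfl⟩
  have hXi : ¬ p ∣ X.relIndex Y := by
    intro hd
    exact hTY (hd.trans (Subgroup.relIndex_dvd_of_le_left Y (hX ▸ le_sup_left : T ⊓ Y ≤ X)))
  have hYX : Y ≤ X :=
    le_of_pow_mem_of_not_dvd_relIndex (hX ▸ le_sup_right) (hYN.trans hNC) hpow hXi
  have hyX := hYX hyY
  rw [hX] at hyX
  obtain ⟨a, ha, b, hb, rfl⟩ :=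
    mem_sup_of_le_normalizer ((inf_le_left.trans hTN).trans hNC) hyX
  exact ⟨a, hTS (Subgroup.mem_inf.mp ha).1, b, hb, rfl⟩

end FN

end Cfsg.Agent.Lib.Helper13
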