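import Cfsg.Agent.Lib.Helper13.SecFusD

set_option autoImplicit false

/-! Lifting family control of strong fusion through the quotient by a normal `p`-subgroup `Q`
centralized by all `p'`-elements (helper13). -/

namespace Cfsg.Agent.Lib.Helper13

universe u

section Star

variable {G : Type*} [Group G] [Finite G] {p : ℕ} [Fact p.Prime]
  {𝓥 : Set (Subgroup G → Subgroup G)}

theorem coe_cj_eq_image (g : G) (H : Subgroup G) :
    ((H.map (MulAut.conj g).toMonoidHom : Subgroup G) : Set G) =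
      (fun a => g * a * g⁻¹) '' (H : Set G) := by
  ext x
  constructor
  · rintro ⟨a, ha, rfl⟩
    exact ⟨a, ha, rfl⟩
  · rintro ⟨a, ha, rfl⟩
    exact ⟨a, ha, rfl⟩

theorem reach_star (S : Sylow p G) (Q : Subgroup G) [Q.Normal] (hQ : IsPGroup p ↥Q)
    (hp' : ∀ g : G, (orderOf g).Coprime p → g ∈ Subgroup.centralizer (Q : Set G))
    (hS : ∀ (A : Set G) (s : G), s ∈ (S : Subgroup G) → A ⊆ ((S : Subgroup G) : Set G) →
      Reach 𝓥 ⊤ (S : Subgroup G) A s)
    (H' : Subgroup G) (hQH' : Q ≤ H') (hH'S : H' ≤ (S : Subgroup G))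
    (ih : ∀ H₂ : Subgroup G, Q ≤ H₂ → H₂ ≤ (S : Subgroup G) → Nat.card ↥H' < Nat.card ↥H₂ →
      ∀ x : G, H₂.map (MulAut.conj x).toMonoidHom ≤ (S : Subgroup G) →
        Reach 𝓥 ⊤ (S : Subgroup G) (H₂ : Set G) x)
    {y : G} (hyN : y ∈ Subgroup.normalizer (H' : Set G))
    (hyQ : ∀ x ∈ H', y * x * y⁻¹ * x⁻¹ ∈ Q) :
    Reach 𝓥 ⊤ (S : Subgroup G) (H' : Set G) y := by
  by_cases hne : H' = (S : Subgroup G)
  · have hfn : ¬ p ∣ ((S : Subgroup G) ⊓ Subgroup.normalizer (H' : Set G)).relIndex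
        (Subgroup.normalizer (H' : Set G)) := by
      rw [hne, inf_eq_left.mpr Subgroup.le_normalizer]
      intro hd
      exact S.not_dvd_index (hd.trans (Subgroup.relIndex_dvd_index_of_le Subgroup.le_normalizer))
    obtain ⟨s, hs, c, hc, rfl⟩ := fn_factor S Q hQ hp' H' hfn hyN hyQ
    apply (hS (H' : Set G) s hs hH'S).congr
    intro a ha
    have h1 : a * c = c * a := Subgroup.mem_centralizer_iff.mp hc a ha
    have e : s * c * a * (s * c)⁻¹ = s * (c * a) * c⁻¹ * s⁻¹ := by group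
    rw [e, ← h1]
    group
  · obtain ⟨v, hv1, hv2⟩ := exists_cj_fullyNormalized S H'
    have hlt := card_lt_card_inf_normalizer S.isPGroup' hH'S hne
    have hQT : Q ≤ (S : Subgroup G) ⊓ Subgroup.normalizer (H' : Set G) :=
      le_inf (hQH'.trans hH'S) (hQH'.trans Subgroup.le_normalizer)
    have r0 := ih _ hQT inf_le_left hlt v hv1
    have hH'T : H' ≤ (S : Subgroup G) ⊓ Subgroup.normalizer (H' : Set G) :=
      le_inf hH'S Subgroup.le_normalizer
    have r1 : Reach 𝓥 ⊤ (S : Subgroup G) (H' : Set G) v := r0.mono hH'T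
    obtain ⟨H'', hH''⟩ : ∃ H'' : Subgroup G, H'' = H'.map (MulAut.conj v).toMonoidHom := ⟨_, rfl⟩
    rw [← hH''] at hv2
    have hH''S : H'' ≤ (S : Subgroup G) := by
      rw [hH'']
      exact (cj_mono hH'T).trans hv1
    have hy''N : v * y * v⁻¹ ∈ Subgroup.normalizer (H'' : Set G) := by
      rw [hH'', normalizer_cj]
      exact ⟨y, hyN, rfl⟩
    have hy''Q : ∀ x ∈ H'', (v * y * v⁻¹) * x * (v * y * v⁻¹)⁻¹ * x⁻¹ ∈ Q := by
      intro x hx
      rw [hH''] at hx
      obtain ⟨x', hx', rfl⟩ := hx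
      have h1 := hyQ x' hx'
      have e : (v * y * v⁻¹) * (MulAut.conj v).toMonoidHom x' * (v * y * v⁻¹)⁻¹ *
          ((MulAut.conj v).toMonoidHom x')⁻¹ = v * (y * x' * y⁻¹ * x'⁻¹) * v⁻¹ := by
        simp only [MulEquiv.coe_toMonoidHom, MulAut.conj_apply]
        group
      rw [e]
      exact ‹Q.Normal›.conj_mem _ h1 v
    obtain ⟨s, hs, c, hc, hsc⟩ := fn_factor S Q hQ hp' H'' hv2 hy''N hy''Q
    have r2 : Reach 𝓥 ⊤ (S : Subgroup G) (H'' : Set G) (v * y * v⁻¹) := by
      apply (hS (H'' : Set G) s hs hH''S).congr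
      intro a ha
      have h1 : a * c = c * a := Subgroup.mem_centralizer_iff.mp hc a ha
      rw [hsc]
      have e : s * c * a * (s * c)⁻¹ = s * (c * a) * c⁻¹ * s⁻¹ := by group
      rw [e, ← h1]
      group
    have r3 : Reach 𝓥 ⊤ (S : Subgroup G) (H'' : Set G) v⁻¹ := by
      have := r1.reverse
      rwa [← coe_cj_eq_image, ← hH''] at this
    have r12 := r1.comp r2 (by
      intro a ha
      rw [hH'']
      exact ⟨a, ha, rfl⟩)
    have r123 := r12.comp r3 (by
      intro a ha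
      have ha' : v * a * v⁻¹ ∈ H'' := by
        rw [hH'']
        exact ⟨a, ha, rfl⟩
      have := (Subgroup.mem_normalizer_iff.mp hy''N _).mp ha'
      have e : v * y * v⁻¹ * v * a * (v * y * v⁻¹ * v)⁻¹ =
          v * y * v⁻¹ * (v * a * v⁻¹) * (v * y * v⁻¹)⁻¹ := by group
      rw [e]
      exact this)
    have e : v⁻¹ * (v * y * v⁻¹ * v) = y := by group
    rwa [e] at r123

end Star

end Cfsg.Agent.Lib.Helper13
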