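import Cfsg.Agent.Lib.Helper13.SecFusE
import Cfsg.Agent.Lib.Helper13.Basic

set_option autoImplicit false

/-! Lifting family control of strong fusion through the quotient by a normal `p`-subgroup `Q`
centralized by all `p'`-elements: the main step (helper13). -/

namespace Cfsg.Agent.Lib.Helper13

universe u

section PCoreLift

variable {p : ℕ} [Fact p.Prime] {𝓦 : Set (∀ (Q : Type u) [Group Q], Subgroup Q)}

theorem comap_map_sylow_of_le {G : Type u} [Group G] (Q : Subgroup G) [Q.Normal] (S : Subgroup G)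
    (hQS : Q ≤ S) : (S.map (QuotientGroup.mk' Q)).comap (QuotientGroup.mk' Q) = S := by
  rw [Subgroup.comap_map_eq, QuotientGroup.ker_mk', sup_eq_left.mpr hQS]

theorem lift_reach_pcore (h𝓦 : ∀ W ∈ 𝓦, Cfsg.IsCharPFunctor.{u} p W)
    {G : Type u} [Group G] [Finite G] (Q : Subgroup G) [Q.Normal] (S : Sylow p G)
    (hQS : Q ≤ (S : Subgroup G))
    (hM : ∀ W ∈ 𝓦, ∀ (A : Set G) (h : G),
      h ∈ Subgroup.normalizer (((Cfsg.inducedFunctor (G := G ⧸ Q) W
        ((S : Subgroup G).map (QuotientGroup.mk' Q))).comap (QuotientGroup.mk' Q) : Subgroup G) : Set G) →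
      A ⊆ ((S : Subgroup G) : Set G) → (fun a => h * a * h⁻¹) '' A ⊆ ((S : Subgroup G) : Set G) →
      Reach (indFam 𝓦 G) ⊤ (S : Subgroup G) A h)
    {A : Set G} (hA : A ⊆ ((S : Subgroup G) : Set G)) {cb : G ⧸ Q}
    (h : FReach (indFam 𝓦 (G ⧸ Q)) ⊤ ((S : Subgroup G).map (QuotientGroup.mk' Q))
      ((QuotientGroup.mk' Q) '' A) cb) :
    ∃ c : G, (QuotientGroup.mk' Q) c = cb ∧ Reach (indFam 𝓦 G) ⊤ (S : Subgroup G) A c := by
  have hcm := comap_map_sylow_of_le Q (S : Subgroup G) hQS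
  induction h with
  | one _ => exact ⟨1, map_one _, Reach.one hA⟩
  | step cb yb V hV hyb hcb hAb ih =>
    obtain ⟨c, hc, hcr⟩ := ih
    obtain ⟨W, hW, rfl⟩ := hV
    obtain ⟨y₁, hy₁⟩ := QuotientGroup.mk'_surjective Q yb
    have hyb2 := (Subgroup.mem_inf.mp hyb).2
    beta_reduce at hyb2
    have hy₁N : y₁ ∈ Subgroup.normalizer (((Cfsg.inducedFunctor (G := G ⧸ Q) W
        ((S : Subgroup G).map (QuotientGroup.mk' Q))).comap (QuotientGroup.mk' Q) : Subgroup G) : Set G) := by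
      rw [← Subgroup.comap_normalizer_eq_of_surjective _ (QuotientGroup.mk'_surjective Q),
        Subgroup.mem_comap, hy₁]
      exact hyb2
    have hH₁ : (fun a => c * a * c⁻¹) '' A ⊆ ((S : Subgroup G) : Set G) := by
      rintro _ ⟨a, ha, rfl⟩
      rw [SetLike.mem_coe, ← hcm, Subgroup.mem_comap]
      have := hcb.conj_mem _ ⟨a, ha, rfl⟩
      rw [← hc] at this
      simpa only [map_mul, map_inv] using this
    have hyH₁ : (fun a => y₁ * a * y₁⁻¹) '' ((fun a => c * a * c⁻¹) '' A) ⊆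
        ((S : Subgroup G) : Set G) := by
      rintro _ ⟨_, ⟨a, ha, rfl⟩, rfl⟩
      rw [SetLike.mem_coe, ← hcm, Subgroup.mem_comap]
      have := hAb _ ⟨a, ha, rfl⟩
      rw [← hc, ← hy₁] at this
      simpa only [map_mul, map_inv, mul_assoc, mul_inv_rev] using this
    have r := hM W hW _ y₁ hy₁N hH₁ hyH₁
    refine ⟨y₁ * c, by rw [map_mul, hy₁, hc], ?_⟩
    exact hcr.comp r (fun a ha => ⟨a, ha, rfl⟩)

/-- The quotient step: `Q` a normal `p`-subgroup centralized by all `p'`-elements. -/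
theorem reach_of_quotient_pcore (h𝓦 : ∀ W ∈ 𝓦, Cfsg.IsCharPFunctor.{u} p W)
    {G : Type u} [Group G] [Finite G] (Q : Subgroup G) [Q.Normal] (hQ : IsPGroup p ↥Q)
    (S : Sylow p G)
    (hp' : ∀ g : G, (orderOf g).Coprime p → g ∈ Subgroup.centralizer (Q : Set G))
    (hquot : FCS p 𝓦 (G ⧸ Q))
    (hS : ∀ (A : Set G) (s : G), s ∈ (S : Subgroup G) → A ⊆ ((S : Subgroup G) : Set G) →
      Reach (indFam 𝓦 G) ⊤ (S : Subgroup G) A s)
    (hM : ∀ W ∈ 𝓦, ∀ (A : Set G) (h : G),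
      h ∈ Subgroup.normalizer (((Cfsg.inducedFunctor (G := G ⧸ Q) W
        ((S : Subgroup G).map (QuotientGroup.mk' Q))).comap (QuotientGroup.mk' Q) : Subgroup G) : Set G) →
      A ⊆ ((S : Subgroup G) : Set G) → (fun a => h * a * h⁻¹) '' A ⊆ ((S : Subgroup G) : Set G) →
      Reach (indFam 𝓦 G) ⊤ (S : Subgroup G) A h) :
    ∀ (A : Set G) (h : G), A ⊆ ((S : Subgroup G) : Set G) →
      (fun a => h * a * h⁻¹) '' A ⊆ ((S : Subgroup G) : Set G) →
      Reach (indFam 𝓦 G) ⊤ (S : Subgroup G) A h := by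
  have hQS : Q ≤ (S : Subgroup G) := normal_pgroup_le_sylow Q hQ S
  have hSbp : IsPGroup p ↥((S : Subgroup G).map (QuotientGroup.mk' Q)) := S.isPGroup'.map _
  have hSbi : ¬ p ∣ ((S : Subgroup G).map (QuotientGroup.mk' Q)).relIndex ⊤ := by
    rw [Subgroup.relIndex_top_right]
    intro hd
    exact S.not_dvd_index
      (hd.trans (Subgroup.index_map_dvd (S : Subgroup G) (QuotientGroup.mk'_surjective Q)))
  have hRb := family_fusion_of_sylow (indFam_isConjugacyFunctor h𝓦 (G ⧸ Q)) hquot le_top hSbp hSbi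
  have key : ∀ (k : ℕ) (H : Subgroup G), Q ≤ H → H ≤ (S : Subgroup G) →
      Nat.card ↥(S : Subgroup G) - Nat.card ↥H = k →
      ∀ x : G, H.map (MulAut.conj x).toMonoidHom ≤ (S : Subgroup G) →
        Reach (indFam 𝓦 G) ⊤ (S : Subgroup G) (H : Set G) x := by
    intro k
    induction k using Nat.strong_induction_on with
    | _ k ih =>
    intro H hQH hHS hk x hx
    have hAb : (QuotientGroup.mk' Q) '' (H : Set G) ⊆
        (((S : Subgroup G).map (QuotientGroup.mk' Q) : Subgroup (G ⧸ Q)) : Set (G ⧸ Q)) := by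
      rintro _ ⟨a, ha, rfl⟩
      exact ⟨a, hHS ha, rfl⟩
    have hhAb : (fun a => (QuotientGroup.mk' Q) x * a * ((QuotientGroup.mk' Q) x)⁻¹) ''
        ((QuotientGroup.mk' Q) '' (H : Set G)) ⊆
        (((S : Subgroup G).map (QuotientGroup.mk' Q) : Subgroup (G ⧸ Q)) : Set (G ⧸ Q)) := by
      rintro _ ⟨_, ⟨a, ha, rfl⟩, rfl⟩
      refine ⟨x * a * x⁻¹, hx ⟨a, ha, rfl⟩, ?_⟩
      simp only [map_mul, map_inv]
    obtain ⟨cb, hcb, hagree⟩ := hRb _ ((QuotientGroup.mk' Q) x) (Subgroup.mem_top _) hAb hhAb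
    obtain ⟨c, hc, hcr⟩ := lift_reach_pcore h𝓦 Q S hQS hM hHS hcb
    have hcm := comap_map_sylow_of_le Q (S : Subgroup G) hQS
    obtain ⟨H', hH'⟩ : ∃ H' : Subgroup G, H' = H.map (MulAut.conj c).toMonoidHom := ⟨_, rfl⟩
    have hH'S : H' ≤ (S : Subgroup G) := by
      rw [hH']
      rintro _ ⟨a, ha, rfl⟩
      rw [← hcm, Subgroup.mem_comap]
      have := hcb.conj_mem _ ⟨a, ha, rfl⟩
      rw [← hc] at this
      simpa only [MulEquiv.coe_toMonoidHom, MulAut.conj_apply, map_mul, map_inv] using this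
    have hQH' : Q ≤ H' := by
      rw [hH', ← cj_normal_eq Q c]
      exact cj_mono hQH
    have hcard : Nat.card ↥H' = Nat.card ↥H := by rw [hH', card_cj]
    have hyQ : ∀ x' ∈ H', (x * c⁻¹) * x' * (x * c⁻¹)⁻¹ * x'⁻¹ ∈ Q := by
      intro x' hx'
      rw [hH'] at hx'
      obtain ⟨a, ha, rfl⟩ := hx'
      rw [← QuotientGroup.eq_one_iff]
      have h1 := hagree _ ⟨a, ha, rfl⟩
      rw [← hc] at h1
      have e : (x * c⁻¹) * (MulAut.conj c).toMonoidHom a * (x * c⁻¹)⁻¹ *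
          ((MulAut.conj c).toMonoidHom a)⁻¹ = (x * a * x⁻¹) * (c * a * c⁻¹)⁻¹ := by
        simp only [MulEquiv.coe_toMonoidHom, MulAut.conj_apply]
        group
      rw [e]
      have h2 : ((QuotientGroup.mk' Q) ((x * a * x⁻¹) * (c * a * c⁻¹)⁻¹)) = 1 := by
        simp only [map_mul, map_inv] at h1 ⊢
        rw [← h1]
        group
      exact h2
    have hyN : x * c⁻¹ ∈ Subgroup.normalizer (H' : Set G) := by
      apply mem_normalizer_of_cj_le
      rintro _ ⟨x', hx', rfl⟩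
      have h1 := hQH' (hyQ x' hx')
      have e : (MulAut.conj (x * c⁻¹)).toMonoidHom x' =
          ((x * c⁻¹) * x' * (x * c⁻¹)⁻¹ * x'⁻¹) * x' := by
        simp only [MulEquiv.coe_toMonoidHom, MulAut.conj_apply]
        group
      rw [e]
      exact Subgroup.mul_mem _ h1 hx'
    have hstar := reach_star S Q hQ hp' hS H' hQH' hH'S (by
      intro H₂ hQH₂ hH₂S hlt x₂ hx₂
      have hle : Nat.card ↥H₂ ≤ Nat.card ↥(S : Subgroup G) := Subgroup.card_le_of_le hH₂S
      have hle' : Nat.card ↥H ≤ Nat.card ↥(S : Subgroup G) := Subgroup.card_le_of_le hHS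
      rw [hcard] at hlt
      exact ih (Nat.card ↥(S : Subgroup G) - Nat.card ↥H₂) (by omega) H₂ hQH₂ hH₂S rfl x₂ hx₂)
      hyN hyQ
    have r := hcr.comp hstar (by
      intro a ha
      rw [hH']
      exact ⟨a, ha, rfl⟩)
    have e : x * c⁻¹ * c = x := by group
    rwa [e] at r
  intro A h hA hhA
  obtain ⟨H, hH⟩ : ∃ H : Subgroup G, H = Subgroup.closure A ⊔ Q := ⟨_, rfl⟩
  have hAH : A ⊆ (H : Set G) := by
    intro a ha
    rw [hH]
    exact (le_sup_left : Subgroup.closure A ≤ _) (Subgroup.subset_closure ha)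
  have hHS : H ≤ (S : Subgroup G) := by
    rw [hH]
    exact sup_le ((Subgroup.closure_le _).mpr hA) hQS
  have hHx : H.map (MulAut.conj h).toMonoidHom ≤ (S : Subgroup G) := by
    rw [hH, Subgroup.map_sup, cj_normal_eq Q h]
    refine sup_le ?_ hQS
    rw [MonoidHom.map_closure, Subgroup.closure_le]
    rintro _ ⟨a, ha, rfl⟩
    exact hhA ⟨a, ha, rfl⟩
  exact (key _ H (hH ▸ le_sup_right) hHS rfl h hHx).mono hAH

end PCoreLift

end Cfsg.Agent.Lib.Helper13
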