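import Cfsg.Agent.Lib.Helper13.SecFusF
import Cfsg.Agent.Lib.helper17.SylowNormal

set_option autoImplicit false

/-! Combining control in `S C` and in `N(S ∩ C)` for a normal subgroup `C` (helper13). -/

namespace Cfsg.Agent.Lib.Helper13

section TwoSubgroups

variable {G : Type*} [Group G] [Finite G] {p : ℕ} [Fact p.Prime]
  {𝓥 : Set (Subgroup G → Subgroup G)}

theorem reach_of_two_subgroups (S : Sylow p G) (C : Subgroup G) [C.Normal]
    (h₁ : ∀ (A : Set G) (h : G), h ∈ (S : Subgroup G) ⊔ C → A ⊆ ((S : Subgroup G) : Set G) →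
      (fun a => h * a * h⁻¹) '' A ⊆ ((S : Subgroup G) : Set G) → Reach 𝓥 ⊤ (S : Subgroup G) A h)
    (h₂ : ∀ (A : Set G) (h : G),
      h ∈ Subgroup.normalizer ((((S : Subgroup G) ⊓ C : Subgroup G)) : Set G) →
      A ⊆ ((S : Subgroup G) : Set G) →
      (fun a => h * a * h⁻¹) '' A ⊆ ((S : Subgroup G) : Set G) → Reach 𝓥 ⊤ (S : Subgroup G) A h) :
    ∀ (A : Set G) (h : G), A ⊆ ((S : Subgroup G) : Set G) →
      (fun a => h * a * h⁻¹) '' A ⊆ ((S : Subgroup G) : Set G) →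
      Reach 𝓥 ⊤ (S : Subgroup G) A h := by
  have hp : p.Prime := Fact.out
  obtain ⟨R, hR⟩ : ∃ R : Subgroup G, R = (S : Subgroup G) ⊓ C := ⟨_, rfl⟩
  rw [← hR] at h₂
  have hRS : R ≤ (S : Subgroup G) := hR ▸ inf_le_left
  have hRC : R ≤ C := hR ▸ inf_le_right
  have hRi : ¬ p ∣ R.relIndex C := by
    rw [hR, Subgroup.inf_relIndex_right]
    exact Cfsg.Agent.Lib.helper17.not_dvd_relIndex_of_normal S C
  have key : ∀ (k : ℕ) (H : Subgroup G), H ≤ (S : Subgroup G) →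
      Nat.card ↥(S : Subgroup G) - Nat.card ↥H = k →
      ∀ x : G, H.map (MulAut.conj x).toMonoidHom ≤ (S : Subgroup G) →
        Reach 𝓥 ⊤ (S : Subgroup G) (H : Set G) x := by
    intro k
    induction k using Nat.strong_induction_on with
    | _ k ih =>
    intro H hHS hk x hx
    obtain ⟨Hx, hHx⟩ : ∃ Hx : Subgroup G, Hx = H.map (MulAut.conj x).toMonoidHom := ⟨_, rfl⟩
    rw [← hHx] at hx
    obtain ⟨P₁, hP₁⟩ : ∃ P₁ : Subgroup G, P₁ = R ⊔ Hx := ⟨_, rfl⟩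
    obtain ⟨P₂, hP₂⟩ : ∃ P₂ : Subgroup G, P₂ = (R ⊔ H).map (MulAut.conj x).toMonoidHom := ⟨_, rfl⟩
    have hP₁S : P₁ ≤ (S : Subgroup G) := hP₁ ▸ sup_le hRS hx
    have hP₁p : IsPGroup p ↥P₁ := S.isPGroup'.to_le hP₁S
    have hP₂p : IsPGroup p ↥P₂ := hP₂ ▸ isPGroup_cj x (S.isPGroup'.to_le (sup_le hRS hHS))
    have hP₁L : P₁ ≤ Hx ⊔ C := hP₁ ▸ sup_le (hRC.trans le_sup_right) le_sup_left
    have hP₂L : P₂ ≤ Hx ⊔ C := by
      rw [hP₂, Subgroup.map_sup, ← hHx]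
      refine sup_le ?_ le_sup_left
      have := cj_mono (g := x) hRC
      rw [cj_normal_eq C x] at this
      exact this.trans le_sup_right
    have hP₁i : ¬ p ∣ P₁.relIndex (Hx ⊔ C) := by
      have e : Hx ⊔ C = P₁ ⊔ C := by
        rw [hP₁]
        apply le_antisymm
        · exact sup_le ((le_sup_right : Hx ≤ R ⊔ Hx).trans le_sup_left) le_sup_right
        · exact sup_le (sup_le (hRC.trans le_sup_right) le_sup_left) le_sup_right
      rw [e, Cfsg.Agent.Lib.Helper18.relIndex_sup_of_normal, ← Subgroup.inf_relIndex_right]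
      intro hd
      have hle : R ≤ P₁ ⊓ C := le_inf (hP₁ ▸ le_sup_left) hRC
      exact hRi (hd.trans (Subgroup.relIndex_dvd_of_le_left C hle))
    obtain ⟨k', hk'L, hk'⟩ := exists_mem_cj_le_of_relIndex (p := p) hP₁L hP₁p hP₁i hP₂L hP₂p
    have hHxC : Hx ≤ Subgroup.normalizer (C : Set G) := by
      rw [Subgroup.normalizer_eq_top]; exact le_top
    obtain ⟨c₀, hc₀, h₀, hh₀, rfl⟩ := mem_sup_of_le_normalizer' hHxC hk'L
    have hHxP₂ : Hx ≤ P₂ := by
      rw [hP₂, hHx]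
      exact cj_mono le_sup_right
    have hc₀P₂ : P₂.map (MulAut.conj c₀).toMonoidHom ≤ (S : Subgroup G) := by
      rintro _ ⟨b, hb, rfl⟩
      have hb' : h₀⁻¹ * b * h₀ ∈ P₂ :=
        Subgroup.mul_mem _ (Subgroup.mul_mem _ (Subgroup.inv_mem _ (hHxP₂ hh₀)) hb) (hHxP₂ hh₀)
      have := hP₁S (hk' ⟨_, hb', rfl⟩)
      have e : (MulAut.conj (c₀ * h₀)).toMonoidHom (h₀⁻¹ * b * h₀) =
          (MulAut.conj c₀).toMonoidHom b := by
        simp only [MulEquiv.coe_toMonoidHom, MulAut.conj_apply]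
        group
      rwa [e] at this
    have hn₁ : (R ⊔ H).map (MulAut.conj (c₀ * x)).toMonoidHom ≤ (S : Subgroup G) := by
      rw [← cj_cj, ← hP₂]
      exact hc₀P₂
    have r1 : Reach 𝓥 ⊤ (S : Subgroup G) (H : Set G) (c₀ * x) := by
      by_cases hRH : R ≤ H
      · have hn₁R : c₀ * x ∈ Subgroup.normalizer (R : Set G) := by
          apply mem_normalizer_of_cj_le
          have h1 : R.map (MulAut.conj (c₀ * x)).toMonoidHom ≤ (S : Subgroup G) :=
            (cj_mono le_sup_left).trans hn₁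
          have h2 : R.map (MulAut.conj (c₀ * x)).toMonoidHom ≤ C := by
            have := cj_mono (g := c₀ * x) hRC
            rwa [cj_normal_eq C] at this
          rw [hR]
          exact le_inf (hR ▸ h1) (hR ▸ h2)
        apply h₂ (H : Set G) (c₀ * x) hn₁R hHS
        rintro _ ⟨a, ha, rfl⟩
        exact hn₁ ⟨a, (le_sup_right : H ≤ R ⊔ H) ha, rfl⟩
      · have hlt : Nat.card ↥H < Nat.card ↥(R ⊔ H) :=
          card_lt_of_not_le le_sup_right (fun hle => hRH (le_sup_left.trans hle))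
        have hle : Nat.card ↥(R ⊔ H) ≤ Nat.card ↥(S : Subgroup G) :=
          Subgroup.card_le_of_le (sup_le hRS hHS)
        have := ih (Nat.card ↥(S : Subgroup G) - Nat.card ↥(R ⊔ H)) (by omega) (R ⊔ H)
          (sup_le hRS hHS) rfl (c₀ * x) hn₁
        exact this.mono (le_sup_right : H ≤ R ⊔ H)
    have hc₀' : c₀⁻¹ ∈ (S : Subgroup G) ⊔ C := (le_sup_right : C ≤ _) (Subgroup.inv_mem _ hc₀)
    have r2 : Reach 𝓥 ⊤ (S : Subgroup G)
        ((fun a => (c₀ * x) * a * (c₀ * x)⁻¹) '' (H : Set G)) c₀⁻¹ := by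
      apply h₁ _ c₀⁻¹ hc₀'
      · rintro _ ⟨a, ha, rfl⟩
        exact hn₁ ⟨a, (le_sup_right : H ≤ R ⊔ H) ha, rfl⟩
      · rintro _ ⟨_, ⟨a, ha, rfl⟩, rfl⟩
        have : x * a * x⁻¹ ∈ (S : Subgroup G) := hx (hHx ▸ ⟨a, ha, rfl⟩)
        have e : c₀⁻¹ * ((c₀ * x) * a * (c₀ * x)⁻¹) * c₀⁻¹⁻¹ = x * a * x⁻¹ := by group
        show c₀⁻¹ * ((c₀ * x) * a * (c₀ * x)⁻¹) * c₀⁻¹⁻¹ ∈ (S : Subgroup G)
        rw [e]; exact this
    have r := r1.comp r2 (fun a ha => ⟨a, ha, rfl⟩)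
    have e : c₀⁻¹ * (c₀ * x) = x := by group
    rwa [e] at r
  intro A h hA hhA
  have hHS : Subgroup.closure A ≤ (S : Subgroup G) := (Subgroup.closure_le _).mpr hA
  have hHx : (Subgroup.closure A).map (MulAut.conj h).toMonoidHom ≤ (S : Subgroup G) := by
    rw [MonoidHom.map_closure, Subgroup.closure_le]
    rintro _ ⟨a, ha, rfl⟩
    exact hhA ⟨a, ha, rfl⟩
  exact (key _ _ hHS rfl h hHx).mono Subgroup.subset_closure

end TwoSubgroups

end Cfsg.Agent.Lib.Helper13
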