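import Cfsg.Agent.Lib.Helper13.SecFusG
import Cfsg.Agent.Lib.Helper13.CentralSylow
import Cfsg.Agent.Lib.Helper13.CoatomSylow
import Cfsg.Agent.Lib.Helper10.ExtLayer
import Cfsg.Agent.S1959

set_option autoImplicit false

/-! The main induction: a family of isomorphism-invariant functors controlling strong fusion in all
constrained sections controls strong fusion (helper13). -/

namespace Cfsg.Agent.Lib.Helper13

universe u

section Aux

variable {G : Type*} [Group G] [Finite G] {p : ℕ} [Fact p.Prime]

/-- With `O_{p'}(G) = 1`: if `S ∩ C(Q) ≤ Q` for a normal `p`-subgroup `Q`, then `C(Q) ≤ Q`. -/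
theorem centralizer_le_of_sylow_inf_le (Q : Subgroup G) [Q.Normal]
    (hO : Cfsg.pPrimeCore p G = ⊥) (S : Sylow p G)
    (hle : (S : Subgroup G) ⊓ Subgroup.centralizer (Q : Set G) ≤ Q) :
    Subgroup.centralizer (Q : Set G) ≤ Q := by
  obtain ⟨C, hC⟩ : ∃ C : Subgroup G, C = Subgroup.centralizer (Q : Set G) := ⟨_, rfl⟩
  rw [← hC] at hle ⊢
  haveI hCn : C.Normal := by rw [hC]; exact Subgroup.normal_centralizer
  have hRc : ((Cfsg.Agent.Lib.helper17.sylowInfNormal S C : Sylow p ↥C) : Subgroup ↥C) ≤
      Subgroup.center ↥C := by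
    intro r hr
    rw [Cfsg.Agent.Lib.helper17.sylowInfNormal_coe, Subgroup.mem_subgroupOf] at hr
    rw [Subgroup.mem_center_iff]
    intro c
    apply Subtype.ext
    rw [Subgroup.coe_mul, Subgroup.coe_mul]
    have h1 : (r : G) ∈ Q := hle (Subgroup.mem_inf.mpr ⟨hr, r.2⟩)
    have h2 : (c : G) ∈ Subgroup.centralizer (Q : Set G) := by
      rw [← hC]; exact c.2
    exact ((Subgroup.mem_centralizer_iff.mp h2) _ h1).symm
  have hcore : Cfsg.Agent.Lib.Helper10.coreOf p C = ⊥ := by
    rw [eq_bot_iff, ← hO]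
    apply Cfsg.Agent.Lib.Helper1.le_pPrimeCore _ (Cfsg.Agent.Lib.Helper10.coreOf_card_coprime p C)
    rw [← Subgroup.normalizer_eq_top_iff, eq_top_iff]
    have h1 := Cfsg.Agent.Lib.Helper10.coreOf_normalizer_le p C
    rwa [Subgroup.normalizer_eq_top_iff.mpr hCn] at h1
  intro c hc
  obtain ⟨t, ht, r, hr, hcr⟩ := exists_mul_of_central_sylow
    (Cfsg.Agent.Lib.helper17.sylowInfNormal S C) hRc ⟨c, hc⟩
  have ht1 : (t : G) = 1 := by
    have : (t : G) ∈ Cfsg.Agent.Lib.Helper10.coreOf p C := ⟨t, ht, rfl⟩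
    rw [hcore] at this
    exact Subgroup.mem_bot.mp this
  rw [Cfsg.Agent.Lib.helper17.sylowInfNormal_coe, Subgroup.mem_subgroupOf] at hr
  have hc' : c = (r : G) := by
    have := congrArg Subtype.val hcr
    rw [Subgroup.coe_mul, ht1, one_mul] at this
    exact this
  rw [hc']
  exact hle (Subgroup.mem_inf.mpr ⟨hr, r.2⟩)

theorem card_quotient_lt_of_ne_bot (M : Subgroup G) [M.Normal] (hM : M ≠ ⊥) :
    Nat.card (G ⧸ M) < Nat.card G := by
  have h1 := Subgroup.card_eq_card_quotient_mul_card_subgroup M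
  have h2 : 1 < Nat.card ↥M := M.one_lt_card_iff_ne_bot.mpr hM
  have h3 : 0 < Nat.card (G ⧸ M) := Nat.card_pos
  rw [h1]
  nlinarith

theorem card_subgroup_lt_of_ne_top (N : Subgroup G) (hN : N ≠ ⊤) : Nat.card ↥N < Nat.card G := by
  have h1 : Nat.card ↥N < Nat.card ↥(⊤ : Subgroup G) :=
    card_lt_of_not_le le_top (fun h => hN (eq_top_iff.mpr h))
  rwa [Subgroup.card_top] at h1

theorem mem_normalizer_inf_of_mem {H K : Subgroup G} {g : G}
    (hH : g ∈ Subgroup.normalizer (H : Set G)) (hK : g ∈ Subgroup.normalizer (K : Set G)) :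
    g ∈ Subgroup.normalizer ((H ⊓ K : Subgroup G) : Set G) := by
  apply mem_normalizer_of_cj_le
  apply le_inf
  · have := cj_mono (g := g) (inf_le_left : H ⊓ K ≤ H)
    rwa [mem_normalizer_iff_cj_eq.mp hH] at this
  · have := cj_mono (g := g) (inf_le_right : H ⊓ K ≤ K)
    rwa [mem_normalizer_iff_cj_eq.mp hK] at this

end Aux

section Main

variable {p : ℕ} [Fact p.Prime] {𝓦 : Set (∀ (Q : Type u) [Group Q], Subgroup Q)}

theorem sec_main (h𝓦 : ∀ W ∈ 𝓦, Cfsg.IsCharPFunctor.{u} p W) :
    ∀ (n : ℕ) (Γ : Type u) [Group Γ] [Finite Γ], Nat.card Γ = n →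
      SecAll (HypC p 𝓦) Γ → FCS p 𝓦 Γ := by
  intro n
  induction n using Nat.strong_induction_on with
  | _ n ih =>
  intro Γ _ _ hcard hsec
  have hp : p.Prime := Fact.out
  have ihsub : ∀ N : Subgroup Γ, N ≠ ⊤ → FCS p 𝓦 ↥N := fun N hN =>
    ih (Nat.card ↥N) (hcard ▸ card_subgroup_lt_of_ne_top N hN) ↥N rfl (secAll_subgroup hsec N)
  have ihquot : ∀ (M : Subgroup Γ) [M.Normal], M ≠ ⊥ → FCS p 𝓦 (Γ ⧸ M) := fun M _ hM =>
    ih (Nat.card (Γ ⧸ M)) (hcard ▸ card_quotient_lt_of_ne_bot M hM) (Γ ⧸ M) rfl
      (secAll_quotient hsec M)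
  obtain ⟨S⟩ : Nonempty (Sylow p Γ) := inferInstance
  have hconj := indFam_isConjugacyFunctor h𝓦 Γ
  have reach_in_sub : ∀ N : Subgroup Γ, N ≠ ⊤ → (S : Subgroup Γ) ≤ N →
      ∀ (A : Set Γ) (h : Γ), h ∈ N → A ⊆ ((S : Subgroup Γ) : Set Γ) →
        (fun a => h * a * h⁻¹) '' A ⊆ ((S : Subgroup Γ) : Set Γ) →
        Reach (indFam 𝓦 Γ) ⊤ (S : Subgroup Γ) A h := by
    intro N hN hSN A h hh hA hhA
    have h1 := fcs_subgroup_of_type h𝓦 N (ihsub N hN)
    have hSi : ¬ p ∣ (S : Subgroup Γ).relIndex N := fun hd =>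
      S.not_dvd_index (hd.trans (Subgroup.relIndex_dvd_index_of_le hSN))
    exact (family_fusion_of_sylow hconj h1 hSN S.isPGroup' hSi A h hh hA hhA).mono_ambient le_top
  have package : (∀ (A : Set Γ) (h : Γ), A ⊆ ((S : Subgroup Γ) : Set Γ) →
      (fun a => h * a * h⁻¹) '' A ⊆ ((S : Subgroup Γ) : Set Γ) →
      Reach (indFam 𝓦 Γ) ⊤ (S : Subgroup Γ) A h) → FCS p 𝓦 Γ := by
    intro hall
    unfold FCS
    rw [familyControlsStrongFusionIn_iff]
    refine ⟨S, le_top, S.isPGroup', ?_, fun A h _ hA hhA => hall A h hA hhA⟩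
    rw [Subgroup.relIndex_top_right]; exact S.not_dvd_index
  by_cases hQ : Cfsg.pCore p Γ = ⊥
  · apply Cfsg.Agent.S1959.result S (indFam 𝓦 Γ) hconj
    intro T hTS hTne _
    have hne : Subgroup.normalizer (T : Set Γ) ≠ ⊤ := by
      intro htop
      have hTn : T.Normal := Subgroup.normalizer_eq_top_iff.mp htop
      have := Cfsg.Agent.Lib.Helper1.le_pCore hTn (S.isPGroup'.to_le hTS)
      rw [hQ] at this
      exact hTne (le_bot_iff.mp this)
    exact fcs_subgroup_of_type h𝓦 _ (ihsub _ hne)
  · obtain ⟨Q, hQdef⟩ : ∃ Q : Subgroup Γ, Q = Cfsg.pCore p Γ := ⟨_, rfl⟩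
    rw [← hQdef] at hQ
    haveI hQn : Q.Normal := hQdef ▸ pCore_normal' p
    have hQp : IsPGroup p ↥Q := hQdef ▸ pCore_isPGroup
    have hle_Q : ∀ R : Subgroup Γ, R.Normal → IsPGroup p ↥R → R ≤ Q := fun R hRn hRp =>
      hQdef ▸ Cfsg.Agent.Lib.Helper1.le_pCore hRn hRp
    by_cases hC : Subgroup.centralizer (Q : Set Γ) ≤ Q
    · rw [hQdef] at hC
      exact secAll_self hsec hC
    · by_cases hD : Cfsg.pPrimeCore p Γ = ⊥
      swap
      · haveI : (Cfsg.pPrimeCore p Γ).Normal := pPrimeCore_normal' p
        exact fcs_of_quotient_pprime h𝓦 (Cfsg.pPrimeCore p Γ)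
          (Cfsg.Agent.Lib.Helper1.pPrimeCore_card_coprime p) (ihquot _ hD)
      · obtain ⟨C, hCdef⟩ : ∃ C : Subgroup Γ, C = Subgroup.centralizer (Q : Set Γ) := ⟨_, rfl⟩
        haveI hCn : C.Normal := by rw [hCdef]; exact Subgroup.normal_centralizer
        have hSC : ¬ (S : Subgroup Γ) ⊓ C ≤ Q := by
          intro hle
          rw [hCdef] at hle
          exact hC (centralizer_le_of_sylow_inf_le Q hD S hle)
        have hRN : Subgroup.normalizer ((((S : Subgroup Γ) ⊓ C : Subgroup Γ)) : Set Γ) ≠ ⊤ := by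
          intro htop
          have hRn := Subgroup.normalizer_eq_top_iff.mp htop
          exact hSC (hle_Q _ hRn (S.isPGroup'.to_le inf_le_left))
        have hSNC : (S : Subgroup Γ) ≤
            Subgroup.normalizer ((((S : Subgroup Γ) ⊓ C : Subgroup Γ)) : Set Γ) := by
          intro s hs
          apply mem_normalizer_inf_of_mem (Subgroup.le_normalizer hs)
          rw [Subgroup.normalizer_eq_top_iff.mpr hCn]
          exact Subgroup.mem_top _
        by_cases hX : (S : Subgroup Γ) ⊔ C = ⊤
        swap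
        · apply package
          exact reach_of_two_subgroups S C
            (fun A h hh hA hhA => reach_in_sub _ hX le_sup_left A h hh hA hhA)
            (fun A h hh hA hhA => reach_in_sub _ hRN hSNC A h hh hA hhA)
        · have hp' : ∀ g : Γ, (orderOf g).Coprime p →
              g ∈ Subgroup.centralizer (Q : Set Γ) := by
            intro g hg
            rw [← hCdef]
            have hgtop : g ∈ (S : Subgroup Γ) ⊔ C := by rw [hX]; exact Subgroup.mem_top _
            have hSCn : (S : Subgroup Γ) ≤ Subgroup.normalizer (C : Set Γ) := by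
              rw [Subgroup.normalizer_eq_top_iff.mpr hCn]; exact le_top
            obtain ⟨s, hs, c, hc, rfl⟩ := mem_sup_of_le_normalizer hSCn hgtop
            obtain ⟨k, hk⟩ := (IsPGroup.iff_orderOf.mp S.isPGroup') ⟨s, hs⟩
            have hsk : s ^ p ^ k = 1 := by
              have h1 : (⟨s, hs⟩ : ↥(S : Subgroup Γ)) ^ p ^ k = 1 := by
                rw [← hk]; exact pow_orderOf_eq_one _
              have := congrArg Subtype.val h1
              simpa using this
            have hc1 : (QuotientGroup.mk' C) c = 1 := (QuotientGroup.eq_one_iff c).mpr hc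
            have e1 : (QuotientGroup.mk' C) (s * c) = (QuotientGroup.mk' C) s := by
              rw [map_mul, hc1, mul_one]
            have h1 : ((QuotientGroup.mk' C) s) ^ orderOf (s * c) = 1 := by
              rw [← e1, ← map_pow, pow_orderOf_eq_one, map_one]
            have h2 : ((QuotientGroup.mk' C) s) ^ p ^ k = 1 := by
              rw [← map_pow, hsk, map_one]
            have h3 := eq_one_of_pow_eq_one_of_coprime h1 h2 (Nat.Coprime.pow_right k hg)
            have hsC : s ∈ C := (QuotientGroup.eq_one_iff s).mp h3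
            exact Subgroup.mul_mem _ hsC hc
          have hSne : (S : Subgroup Γ) ≠ ⊤ := by
            intro htop
            apply hSC
            have hSn : (S : Subgroup Γ).Normal := by rw [htop]; infer_instance
            exact inf_le_left.trans (hle_Q _ hSn S.isPGroup')
          have hS : ∀ (A : Set Γ) (s : Γ), s ∈ (S : Subgroup Γ) →
              A ⊆ ((S : Subgroup Γ) : Set Γ) → Reach (indFam 𝓦 Γ) ⊤ (S : Subgroup Γ) A s := by
            intro A s hs hA
            apply reach_in_sub _ hSne le_rfl A s hs hA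
            rintro _ ⟨a, ha, rfl⟩
            exact Subgroup.mul_mem _ (Subgroup.mul_mem _ hs (hA ha)) (Subgroup.inv_mem _ hs)
          have hQS : Q ≤ (S : Subgroup Γ) := normal_pgroup_le_sylow Q hQp S
          have hSbp : IsPGroup p ↥((S : Subgroup Γ).map (QuotientGroup.mk' Q)) :=
            S.isPGroup'.map _
          have hM : ∀ W ∈ 𝓦, ∀ (A : Set Γ) (h : Γ),
              h ∈ Subgroup.normalizer (((Cfsg.inducedFunctor (G := Γ ⧸ Q) W
                ((S : Subgroup Γ).map (QuotientGroup.mk' Q))).comap (QuotientGroup.mk' Q) :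
                  Subgroup Γ) : Set Γ) →
              A ⊆ ((S : Subgroup Γ) : Set Γ) →
              (fun a => h * a * h⁻¹) '' A ⊆ ((S : Subgroup Γ) : Set Γ) →
              Reach (indFam 𝓦 Γ) ⊤ (S : Subgroup Γ) A h := by
            intro W hW
            obtain ⟨Vb, hVb⟩ : ∃ Vb, Vb = Cfsg.inducedFunctor (G := Γ ⧸ Q) W
                ((S : Subgroup Γ).map (QuotientGroup.mk' Q)) := ⟨_, rfl⟩
            rw [← hVb]
            have hVble : Vb ≤ (S : Subgroup Γ).map (QuotientGroup.mk' Q) :=
              hVb ▸ inducedFunctor_le W _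
            have hcm := comap_map_sylow_of_le Q (S : Subgroup Γ) hQS
            have hVS : Vb.comap (QuotientGroup.mk' Q) ≤ (S : Subgroup Γ) := by
              rw [← hcm]
              exact Subgroup.comap_mono hVble
            have hne : Subgroup.normalizer ((Vb.comap (QuotientGroup.mk' Q) : Subgroup Γ) : Set Γ) ≠
                ⊤ := by
              intro htop
              have hVn := Subgroup.normalizer_eq_top_iff.mp htop
              have h1 := hle_Q _ hVn (S.isPGroup'.to_le hVS)
              have h2 : Vb ≤ ⊥ := by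
                rw [← Subgroup.map_comap_eq_self_of_surjective (QuotientGroup.mk'_surjective Q) Vb]
                refine (Subgroup.map_mono h1).trans ?_
                rw [QuotientGroup.map_mk'_self]
              have hSb : (S : Subgroup Γ).map (QuotientGroup.mk' Q) = ⊥ := by
                by_contra hne'
                have := ((inducedFunctor_isConjugacyFunctor (G := Γ ⧸ Q) W (h𝓦 W hW)) _ hSbp).2.1 hne'
                rw [← hVb] at this
                exact this (le_bot_iff.mp h2)
              apply hSC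
              refine inf_le_left.trans ?_
              intro s hs
              have h3 : (QuotientGroup.mk' Q) s ∈ (S : Subgroup Γ).map (QuotientGroup.mk' Q) :=
                ⟨s, hs, rfl⟩
              rw [hSb, Subgroup.mem_bot] at h3
              exact (QuotientGroup.eq_one_iff s).mp h3
            have hSle : (S : Subgroup Γ) ≤
                Subgroup.normalizer ((Vb.comap (QuotientGroup.mk' Q) : Subgroup Γ) : Set Γ) := by
              rw [← Subgroup.comap_normalizer_eq_of_surjective _ (QuotientGroup.mk'_surjective Q)]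
              intro s hs
              rw [Subgroup.mem_comap, hVb]
              apply sylow_le_normalizer_induced h𝓦 hSbp hW
              exact ⟨s, hs, rfl⟩
            intro A h hh hA hhA
            exact reach_in_sub _ hne hSle A h hh hA hhA
          apply package
          exact reach_of_quotient_pcore h𝓦 Q hQp S hp' (ihquot Q hQ) hS hM

end Main

end Cfsg.Agent.Lib.Helper13
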