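import Cfsg.Agent.Lib.Helper13.SecFusG
import Cfsg.Agent.Lib.Helper13.TransferCtl

set_option autoImplicit false

/-! A generic form of the two-subgroups lemma (`S C` and `N(S ∩ C)` for a normal subgroup `C`),
and its focal-subgroup version (helper13). -/

namespace Cfsg.Agent.Lib.Helper13

section TwoSubgroupsGeneric

variable {G : Type*} [Group G] [Finite G] {p : ℕ} [Fact p.Prime]

/-- Generic two-subgroups lemma: a property of pairs `(H, x)` with `H, H^x ≤ S`, monotone in `H`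
and closed under composition, holds for all pairs as soon as it holds for `x ∈ S C` and for
`x ∈ N(S ∩ C)`. -/
theorem two_subgroups_generic (S : Sylow p G) (C : Subgroup G) [C.Normal]
    (Pr : Subgroup G → G → Prop)
    (hmono : ∀ (H K : Subgroup G) (x : G), H ≤ K → Pr K x → Pr H x)
    (hcomp : ∀ (H : Subgroup G) (y z : G), Pr H y →
      Pr (H.map (MulAut.conj y).toMonoidHom) z → Pr H (z * y))
    (h₁ : ∀ (H : Subgroup G) (x : G), x ∈ (S : Subgroup G) ⊔ C → H ≤ (S : Subgroup G) →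
      H.map (MulAut.conj x).toMonoidHom ≤ (S : Subgroup G) → Pr H x)
    (h₂ : ∀ (H : Subgroup G) (x : G),
      x ∈ Subgroup.normalizer ((((S : Subgroup G) ⊓ C : Subgroup G)) : Set G) →
      H ≤ (S : Subgroup G) → H.map (MulAut.conj x).toMonoidHom ≤ (S : Subgroup G) → Pr H x) :
    ∀ (H : Subgroup G) (x : G), H ≤ (S : Subgroup G) →
      H.map (MulAut.conj x).toMonoidHom ≤ (S : Subgroup G) → Pr H x := by
  have hp : p.Prime := Fact.out
  obtain ⟨R, hR⟩ : ∃ R : Subgroup G, R = (S : Subgroup G) ⊓ C := ⟨_, rfl⟩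
  rw [← hR] at h₂
  have hRS : R ≤ (S : Subgroup G) := hR ▸ inf_le_left
  have hRC : R ≤ C := hR ▸ inf_le_right
  have hRi : ¬ p ∣ R.relIndex C := by
    rw [hR, Subgroup.inf_relIndex_right]
    exact Cfsg.Agent.Lib.helper17.not_dvd_relIndex_of_normal S C
  have key : ∀ (k : ℕ) (H : Subgroup G), H ≤ (S : Subgroup G) →
      Nat.card ↥(S : Subgroup G) - Nat.card ↥H = k →
      ∀ x : G, H.map (MulAut.conj x).toMonoidHom ≤ (S : Subgroup G) → Pr H x := by
    intro k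
    induction k using Nat.strong_induction_on with
    | _ k ih =>
    intro H hHS hk x hx
    obtain ⟨Hx, hHx⟩ : ∃ Hx : Subgroup G, Hx = H.map (MulAut.conj x).toMonoidHom := ⟨_, rfl⟩
    rw [← hHx] at hx
    obtain ⟨P₁, hP₁⟩ : ∃ P₁ : Subgroup G, P₁ = R ⊔ Hx := ⟨_, rfl⟩
    obtain ⟨P₂, hP₂⟩ : ∃ P₂ : Subgroup G, P₂ = (R ⊔ H).map (MulAut.conj x).toMonoidHom := ⟨_, rfl⟩
    have hP₁S : P₁ ≤ (S : Subgroup G) := hP₁ ▸ sup_le hRS hx
    have hP₁p : IsPGroup p ↥P₁ := S.isPGroup'.to_le hP₁S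
    have hP₂p : IsPGroup p ↥P₂ := hP₂ ▸ isPGroup_cj x (S.isPGroup'.to_le (sup_le hRS hHS))
    have hP₁L : P₁ ≤ Hx ⊔ C := hP₁ ▸ sup_le (hRC.trans le_sup_right) le_sup_left
    have hP₂L : P₂ ≤ Hx ⊔ C := by
      rw [hP₂, Subgroup.map_sup, ← hHx]
      refine sup_le ?_ le_sup_left
      have := cj_mono (g := x) hRC
      rw [cj_normal_eq C x] at this
      exact this.trans le_sup_right
    have hP₁i : ¬ p ∣ P₁.relIndex (Hx ⊔ C) := by
      have e : Hx ⊔ C = P₁ ⊔ C := by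
        rw [hP₁]
        apply le_antisymm
        · exact sup_le ((le_sup_right : Hx ≤ R ⊔ Hx).trans le_sup_left) le_sup_right
        · exact sup_le (sup_le (hRC.trans le_sup_right) le_sup_left) le_sup_right
      rw [e, Cfsg.Agent.Lib.Helper18.relIndex_sup_of_normal, ← Subgroup.inf_relIndex_right]
      intro hd
      have hle : R ≤ P₁ ⊓ C := le_inf (hP₁ ▸ le_sup_left) hRC
      exact hRi (hd.trans (Subgroup.relIndex_dvd_of_le_left C hle))
    obtain ⟨k', hk'L, hk'⟩ := exists_mem_cj_le_of_relIndex (p := p) hP₁L hP₁p hP₁i hP₂L hP₂p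
    have hHxC : Hx ≤ Subgroup.normalizer (C : Set G) := by
      rw [Subgroup.normalizer_eq_top]; exact le_top
    obtain ⟨c₀, hc₀, h₀, hh₀, rfl⟩ := mem_sup_of_le_normalizer' hHxC hk'L
    have hHxP₂ : Hx ≤ P₂ := by
      rw [hP₂, hHx]
      exact cj_mono le_sup_right
    have hc₀P₂ : P₂.map (MulAut.conj c₀).toMonoidHom ≤ (S : Subgroup G) := by
      rintro _ ⟨b, hb, rfl⟩
      have hb' : h₀⁻¹ * b * h₀ ∈ P₂ :=
        Subgroup.mul_mem _ (Subgroup.mul_mem _ (Subgroup.inv_mem _ (hHxP₂ hh₀)) hb) (hHxP₂ hh₀)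
      have := hP₁S (hk' ⟨_, hb', rfl⟩)
      have e : (MulAut.conj (c₀ * h₀)).toMonoidHom (h₀⁻¹ * b * h₀) =
          (MulAut.conj c₀).toMonoidHom b := by
        simp only [MulEquiv.coe_toMonoidHom, MulAut.conj_apply]
        group
      rwa [e] at this
    have hn₁ : (R ⊔ H).map (MulAut.conj (c₀ * x)).toMonoidHom ≤ (S : Subgroup G) := by
      rw [← cj_cj, ← hP₂]
      exact hc₀P₂
    have hHn₁ : H.map (MulAut.conj (c₀ * x)).toMonoidHom ≤ (S : Subgroup G) :=
      (cj_mono le_sup_right).trans hn₁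
    have r1 : Pr H (c₀ * x) := by
      by_cases hRH : R ≤ H
      · have hn₁R : c₀ * x ∈ Subgroup.normalizer (R : Set G) := by
          apply mem_normalizer_of_cj_le
          have h1 : R.map (MulAut.conj (c₀ * x)).toMonoidHom ≤ (S : Subgroup G) :=
            (cj_mono le_sup_left).trans hn₁
          have h2 : R.map (MulAut.conj (c₀ * x)).toMonoidHom ≤ C := by
            have := cj_mono (g := c₀ * x) hRC
            rwa [cj_normal_eq C] at this
          rw [hR]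
          exact le_inf (hR ▸ h1) (hR ▸ h2)
        exact h₂ H (c₀ * x) hn₁R hHS hHn₁
      · have hlt : Nat.card ↥H < Nat.card ↥(R ⊔ H) :=
          card_lt_of_not_le le_sup_right (fun hle => hRH (le_sup_left.trans hle))
        have hle : Nat.card ↥(R ⊔ H) ≤ Nat.card ↥(S : Subgroup G) :=
          Subgroup.card_le_of_le (sup_le hRS hHS)
        have := ih (Nat.card ↥(S : Subgroup G) - Nat.card ↥(R ⊔ H)) (by omega) (R ⊔ H)
          (sup_le hRS hHS) rfl (c₀ * x) hn₁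
        exact hmono _ _ _ (le_sup_right : H ≤ R ⊔ H) this
    have hc₀' : c₀⁻¹ ∈ (S : Subgroup G) ⊔ C := (le_sup_right : C ≤ _) (Subgroup.inv_mem _ hc₀)
    have r2 : Pr (H.map (MulAut.conj (c₀ * x)).toMonoidHom) c₀⁻¹ := by
      apply h₁ _ c₀⁻¹ hc₀' hHn₁
      rw [cj_cj]
      have e : c₀⁻¹ * (c₀ * x) = x := by group
      rw [e, ← hHx]
      exact hx
    have r := hcomp H (c₀ * x) c₀⁻¹ r1 r2
    have e : c₀⁻¹ * (c₀ * x) = x := by group
    rwa [e] at r
  intro H x hHS hHx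
  exact key _ H hHS rfl x hHx

end TwoSubgroupsGeneric

section FocalTwo

variable {G : Type*} [Group G] [Finite G] {p : ℕ} [Fact p.Prime]

open scoped commutatorElement

/-- Focal version of the two-subgroups lemma: for `C` normal, `S ∩ G'` is generated by
`S ∩ (S C)'` and `S ∩ N(S ∩ C)'`. -/
theorem focal_two_subgroups (S : Sylow p G) (C : Subgroup G) [C.Normal] :
    (S : Subgroup G) ⊓ ⁅(⊤ : Subgroup G), ⊤⁆ ≤
      ((S : Subgroup G) ⊓ ⁅(S : Subgroup G) ⊔ C, (S : Subgroup G) ⊔ C⁆) ⊔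
      ((S : Subgroup G) ⊓
        ⁅Subgroup.normalizer ((((S : Subgroup G) ⊓ C : Subgroup G)) : Set G),
          Subgroup.normalizer ((((S : Subgroup G) ⊓ C : Subgroup G)) : Set G)⁆) := by
  obtain ⟨E, hE⟩ : ∃ E : Subgroup G, E = ((S : Subgroup G) ⊓ ⁅(S : Subgroup G) ⊔ C, (S : Subgroup G) ⊔ C⁆) ⊔
      ((S : Subgroup G) ⊓
        ⁅Subgroup.normalizer ((((S : Subgroup G) ⊓ C : Subgroup G)) : Set G),
          Subgroup.normalizer ((((S : Subgroup G) ⊓ C : Subgroup G)) : Set G)⁆) := ⟨_, rfl⟩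
  rw [← hE]
  have hSN : (S : Subgroup G) ≤
      Subgroup.normalizer ((((S : Subgroup G) ⊓ C : Subgroup G)) : Set G) := by
    intro s hs
    apply mem_normalizer_of_cj_le
    apply le_inf
    · have := cj_mono (g := s) (inf_le_left : (S : Subgroup G) ⊓ C ≤ (S : Subgroup G))
      rwa [cj_self_of_mem hs] at this
    · have := cj_mono (g := s) (inf_le_right : (S : Subgroup G) ⊓ C ≤ C)
      rwa [cj_normal_eq C s] at this
  have hloc : ∀ (X : Subgroup G), (S : Subgroup G) ≤ X → (S : Subgroup G) ⊓ ⁅X, X⁆ ≤ E →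
      ∀ (H : Subgroup G) (x : G), x ∈ X → H ≤ (S : Subgroup G) →
      H.map (MulAut.conj x).toMonoidHom ≤ (S : Subgroup G) →
      ∀ a ∈ H, a⁻¹ * (x * a * x⁻¹) ∈ E := by
    intro X hSX hXE H x hx hHS hHx a ha
    apply hXE
    refine Subgroup.mem_inf.mpr ⟨?_, ?_⟩
    · exact Subgroup.mul_mem _ (Subgroup.inv_mem _ (hHS ha)) (hHx (cj_mem ha))
    · have e : a⁻¹ * (x * a * x⁻¹) = ⁅a⁻¹, x⁆ := by
        rw [commutatorElement_def]; group
      rw [e]
      exact Subgroup.commutator_mem_commutator (Subgroup.inv_mem _ (hSX (hHS ha))) hx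
  have main := two_subgroups_generic S C (fun H x => ∀ a ∈ H, a⁻¹ * (x * a * x⁻¹) ∈ E)
    (fun H K x hHK h a ha => h a (hHK ha))
    (by
      intro H y z h1 h2 a ha
      have h3 := h2 (y * a * y⁻¹) (cj_mem ha)
      have e : a⁻¹ * (z * y * a * (z * y)⁻¹) =
          (a⁻¹ * (y * a * y⁻¹)) * ((y * a * y⁻¹)⁻¹ * (z * (y * a * y⁻¹) * z⁻¹)) := by group
      rw [e]
      exact Subgroup.mul_mem _ (h1 a ha) h3)
    (hloc _ le_sup_left (hE ▸ le_sup_left))
    (hloc _ hSN (hE ▸ le_sup_right))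
  apply sylow_inf_commutator_le
  intro x hx u hg
  have hux : u * x⁻¹ * u⁻¹ ∈ (S : Subgroup G) := by
    have h1 : u * x⁻¹ * u⁻¹ = x⁻¹ * (x * u * x⁻¹ * u⁻¹) := by group
    rw [h1]
    exact Subgroup.mul_mem _ (Subgroup.inv_mem _ hx) hg
  have hRS : Subgroup.zpowers x⁻¹ ≤ (S : Subgroup G) := by
    rw [Subgroup.zpowers_le]; exact Subgroup.inv_mem _ hx
  have hRu : (Subgroup.zpowers x⁻¹).map (MulAut.conj u).toMonoidHom ≤ (S : Subgroup G) := by
    rw [MonoidHom.map_zpowers, Subgroup.zpowers_le]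
    simpa using hux
  have := main (Subgroup.zpowers x⁻¹) u hRS hRu x⁻¹ (Subgroup.mem_zpowers _)
  have e : x⁻¹⁻¹ * (u * x⁻¹ * u⁻¹) = x * u * x⁻¹ * u⁻¹ := by group
  rwa [e] at this

end FocalTwo

end Cfsg.Agent.Lib.Helper13
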