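import Cfsg.Agent.Lib.Helper13.SecTrA
import Cfsg.Agent.Lib.Helper13.CoatomSylow
import Cfsg.Agent.Lib.Helper9.Transfer

set_option autoImplicit false

/-! Transfer into `S/S'` when `G = S C` with `C` centralizing a subgroup `Q ≤ S` (helper13). -/

namespace Cfsg.Agent.Lib.Helper13

section TransferSC

variable {G : Type*} [Group G] [Finite G] {p : ℕ} [Fact p.Prime]

open scoped commutatorElement

/-- If `G = S C` with `C` normal and centralizing `Q ≤ S`, then `Q ∩ G' ≤ S'`. -/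
theorem inf_commutator_le_of_sup_centralizer (S : Sylow p G) (Q : Subgroup G)
    (hQS : Q ≤ (S : Subgroup G)) (C : Subgroup G) [C.Normal]
    (hC : C ≤ Subgroup.centralizer (Q : Set G)) (hX : (S : Subgroup G) ⊔ C = ⊤) :
    Q ⊓ ⁅(⊤ : Subgroup G), ⊤⁆ ≤ ⁅(S : Subgroup G), (S : Subgroup G)⁆ := by
  have hp : p.Prime := Fact.out
  intro q hq
  have hqQ := (Subgroup.mem_inf.mp hq).1
  have hqc := (Subgroup.mem_inf.mp hq).2
  have hKn : ((⁅(S : Subgroup G), (S : Subgroup G)⁆).subgroupOf (S : Subgroup G)).Normal := by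
    have e : (⁅(S : Subgroup G), (S : Subgroup G)⁆).subgroupOf (S : Subgroup G) =
        _root_.commutator ↥(S : Subgroup G) := by
      rw [← Subgroup.map_subtype_commutator, Subgroup.subgroupOf,
        Subgroup.comap_map_eq_self_of_injective (Subgroup.subtype_injective _)]
    rw [e]
    infer_instance
  have hab : ∀ x ∈ (S : Subgroup G), ∀ y ∈ (S : Subgroup G),
      x * y * x⁻¹ * y⁻¹ ∈ ⁅(S : Subgroup G), (S : Subgroup G)⁆ := by
    intro x hx y hy
    rw [← commutatorElement_def]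
    exact Subgroup.commutator_mem_commutator hx hy
  have hSCn : (S : Subgroup G) ≤ Subgroup.normalizer (C : Set G) := by
    rw [Subgroup.normalizer_eq_top]; exact le_top
  have hctrl : ∀ (k : ℕ) (a : G), a⁻¹ * q ^ k * a ∈ (S : Subgroup G) →
      (a⁻¹ * q ^ k * a) * (q ^ k)⁻¹ ∈ ⁅(S : Subgroup G), (S : Subgroup G)⁆ := by
    intro k a _
    have ha : a ∈ (S : Subgroup G) ⊔ C := by rw [hX]; exact Subgroup.mem_top _
    obtain ⟨c, hc, s, hs, rfl⟩ := mem_sup_of_le_normalizer' hSCn ha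
    have hqk : q ^ k ∈ Q := Subgroup.pow_mem _ hqQ k
    have hcq : c⁻¹ * q ^ k * c = q ^ k := by
      have := (Subgroup.mem_centralizer_iff.mp (hC hc)) _ hqk
      rw [mul_assoc, this]; group
    have e : (c * s)⁻¹ * q ^ k * (c * s) * (q ^ k)⁻¹ = ⁅s⁻¹, q ^ k⁆ := by
      rw [commutatorElement_def]
      have : (c * s)⁻¹ * q ^ k * (c * s) = s⁻¹ * (c⁻¹ * q ^ k * c) * s := by group
      rw [this, hcq]
      group
    rw [e]
    exact Subgroup.commutator_mem_commutator (Subgroup.inv_mem _ hs) (hQS hqk)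
  obtain ⟨A, _, f, ϕ, -, hϕ, hf⟩ := Cfsg.Agent.Lib.Helper9.exists_transfer_hom_of_ctrl
    (S : Subgroup G) ⁅(S : Subgroup G), (S : Subgroup G)⁆ hKn hab q (hQS hqQ) hctrl
  have hf1 : f q = 1 := Abelianization.commutator_subset_ker f hqc
  rw [hf1] at hf
  obtain ⟨k, hk⟩ := (IsPGroup.iff_orderOf.mp S.isPGroup') ⟨q, hQS hqQ⟩
  have h2 : ϕ ⟨q, hQS hqQ⟩ ^ p ^ k = 1 := by
    rw [← map_pow, ← hk, pow_orderOf_eq_one, map_one]
  have hcop : Nat.Coprime (S : Subgroup G).index (p ^ k) := by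
    apply Nat.Coprime.pow_right
    exact ((Nat.Prime.coprime_iff_not_dvd hp).mpr S.not_dvd_index).symm
  have h3 := eq_one_of_pow_eq_one_of_coprime hf.symm h2 hcop
  exact (hϕ _).mp h3

end TransferSC

end Cfsg.Agent.Lib.Helper13
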