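import Cfsg.Agent.Lib.Helper13.SecTrB
import Cfsg.Agent.Lib.Helper13.SecFusF

set_option autoImplicit false

/-! The focal target of a family of isomorphism-invariant functors, transport to subgroups
(helper13). -/

namespace Cfsg.Agent.Lib.Helper13

universe u

section Defs

/-- The relative focal target `⟨T ∩ (N_M(W(T)))' : W ∈ 𝓦⟩`. -/
def focIn (𝓦 : Set (∀ (Q : Type u) [Group Q], Subgroup Q)) {Γ : Type u} [Group Γ]
    (M T : Subgroup Γ) : Subgroup Γ :=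
  ⨆ W ∈ 𝓦, T ⊓ ⁅M ⊓ Subgroup.normalizer ((Cfsg.inducedFunctor (G := Γ) W T : Subgroup Γ) : Set Γ),
    M ⊓ Subgroup.normalizer ((Cfsg.inducedFunctor (G := Γ) W T : Subgroup Γ) : Set Γ)⁆

/-- The focal target `⟨T ∩ (N(W(T)))' : W ∈ 𝓦⟩`. -/
def focD (𝓦 : Set (∀ (Q : Type u) [Group Q], Subgroup Q)) {Γ : Type u} [Group Γ]
    (T : Subgroup Γ) : Subgroup Γ :=
  ⨆ W ∈ 𝓦, T ⊓ ⁅Subgroup.normalizer ((Cfsg.inducedFunctor (G := Γ) W T : Subgroup Γ) : Set Γ),
    Subgroup.normalizer ((Cfsg.inducedFunctor (G := Γ) W T : Subgroup Γ) : Set Γ)⁆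

/-- The induced family controls transfer in `Γ`, with respect to every Sylow `p`-subgroup. -/
def FT (p : ℕ) (𝓦 : Set (∀ (Q : Type u) [Group Q], Subgroup Q)) (Γ : Type u) [Group Γ] : Prop :=
  ∀ T : Subgroup Γ, IsPGroup p ↥T → ¬ p ∣ T.index → T ⊓ _root_.commutator Γ ≤ focD 𝓦 T

/-- The hypothesis on constrained sections. -/
def HypT (p : ℕ) (𝓦 : Set (∀ (Q : Type u) [Group Q], Subgroup Q)) (Γ : Type u) [Group Γ] : Prop :=
  Subgroup.centralizer ((Cfsg.pCore p Γ : Subgroup Γ) : Set Γ) ≤ Cfsg.pCore p Γ →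
    ∀ T : Subgroup Γ, IsPGroup p ↥T → ¬ p ∣ T.index →
      Cfsg.pCore p Γ ⊓ _root_.commutator Γ ≤ focD 𝓦 T

end Defs

section Basic

variable {𝓦 : Set (∀ (Q : Type u) [Group Q], Subgroup Q)} {Γ : Type u} [Group Γ]

theorem familyTarget_eq_focIn (M T : Subgroup Γ) :
    (⨆ V ∈ indFam 𝓦 Γ, T ⊓ ⁅M ⊓ Subgroup.normalizer ((V T : Subgroup Γ) : Set Γ),
      M ⊓ Subgroup.normalizer ((V T : Subgroup Γ) : Set Γ)⁆) = focIn 𝓦 M T := by
  unfold indFam focIn
  rw [iSup_image]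

theorem focIn_top (T : Subgroup Γ) : focIn 𝓦 ⊤ T = focD 𝓦 T := by
  unfold focIn focD
  simp only [top_inf_eq]

theorem focIn_le_focD (M T : Subgroup Γ) : focIn 𝓦 M T ≤ focD 𝓦 T := by
  unfold focIn focD
  apply iSup₂_mono
  intro W _
  exact inf_le_inf_left _ (Subgroup.commutator_mono inf_le_right inf_le_right)

theorem focIn_le (M T : Subgroup Γ) : focIn 𝓦 M T ≤ T ⊓ ⁅M, M⁆ := by
  unfold focIn
  apply iSup₂_le
  intro W _
  exact inf_le_inf_left _ (Subgroup.commutator_mono inf_le_left inf_le_left)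

theorem focD_le (T : Subgroup Γ) : focD 𝓦 T ≤ T ⊓ _root_.commutator Γ := by
  rw [← focIn_top]
  exact focIn_le ⊤ T

end Basic

section Transport

variable {p : ℕ} [Fact p.Prime] {𝓦 : Set (∀ (Q : Type u) [Group Q], Subgroup Q)}

/-- Transport of the focal target along a homomorphism that is injective on `T'`. -/
theorem focD_map_le (h𝓦 : ∀ W ∈ 𝓦, Cfsg.IsCharPFunctor.{u} p W)
    {Γ' G : Type u} [Group Γ'] [Group G] [Finite Γ'] (f : Γ' →* G)
    {T' : Subgroup Γ'} (hT' : IsPGroup p ↥T') (hinj : ∀ t ∈ T', f t = 1 → t = 1) :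
    (focD 𝓦 T').map f ≤ focIn 𝓦 f.range (T'.map f) := by
  unfold focD focIn
  rw [Subgroup.map_iSup]
  apply iSup_mono
  intro W
  rw [Subgroup.map_iSup]
  apply iSup_mono'
  intro hW
  refine ⟨hW, ?_⟩
  refine (Subgroup.map_inf_le _ _ f).trans (inf_le_inf_left _ ?_)
  rw [Subgroup.map_commutator]
  have hle : (Subgroup.normalizer
      ((Cfsg.inducedFunctor (G := Γ') W T' : Subgroup Γ') : Set Γ')).map f ≤
      f.range ⊓ Subgroup.normalizer
        ((Cfsg.inducedFunctor (G := G) W (T'.map f) : Subgroup G) : Set G) := by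
    apply le_inf
    · rintro _ ⟨y, -, rfl⟩
      exact ⟨y, rfl⟩
    · rw [inducedFunctor_map_hom W (h𝓦 W hW) f T' hT' hinj]
      exact Subgroup.le_normalizer_map f
  exact Subgroup.commutator_mono hle hle

/-- Control of transfer in a subgroup `M` (as a group) gives the relative statement in the ambient
group. -/
theorem inf_commutator_le_focIn_of_ft (h𝓦 : ∀ W ∈ 𝓦, Cfsg.IsCharPFunctor.{u} p W)
    {Γ : Type u} [Group Γ] [Finite Γ] (M : Subgroup Γ) (hM : FT p 𝓦 ↥M)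
    {T : Subgroup Γ} (hTM : T ≤ M) (hTp : IsPGroup p ↥T) (hTi : ¬ p ∣ T.relIndex M) :
    T ⊓ ⁅M, M⁆ ≤ focIn 𝓦 M T := by
  have h1 := hM (T.subgroupOf M) hTp.comap_subtype hTi
  have h2 := focD_map_le h𝓦 M.subtype (T' := T.subgroupOf M) hTp.comap_subtype
    (fun t _ ht => by
      apply Subtype.ext
      simpa using ht)
  rw [Subgroup.range_subtype, Subgroup.subgroupOf_map_subtype, inf_eq_left.mpr hTM] at h2
  refine le_trans ?_ h2
  intro x hx
  have hxT := (Subgroup.mem_inf.mp hx).1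
  have hxc := (Subgroup.mem_inf.mp hx).2
  rw [← Subgroup.map_subtype_commutator] at hxc
  obtain ⟨y, hy, rfl⟩ := hxc
  refine ⟨y, h1 (Subgroup.mem_inf.mpr ⟨?_, hy⟩), rfl⟩
  rw [Subgroup.mem_subgroupOf]
  exact hxT

theorem inf_commutator_le_focD_of_ft (h𝓦 : ∀ W ∈ 𝓦, Cfsg.IsCharPFunctor.{u} p W)
    {Γ : Type u} [Group Γ] [Finite Γ] (M : Subgroup Γ) (hM : FT p 𝓦 ↥M)
    {T : Subgroup Γ} (hTM : T ≤ M) (hTp : IsPGroup p ↥T) (hTi : ¬ p ∣ T.index) :
    T ⊓ ⁅M, M⁆ ≤ focD 𝓦 T := by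
  have hTi' : ¬ p ∣ T.relIndex M := fun hd =>
    hTi (hd.trans (Subgroup.relIndex_dvd_index_of_le hTM))
  exact (inf_commutator_le_focIn_of_ft h𝓦 M hM hTM hTp hTi').trans (focIn_le_focD M T)

end Transport

section AbelianQuot

variable {G : Type*} [Group G]

/-- If `t d ∈ N'` with `t, d ∈ N` of coprime orders then `t ∈ N'`. -/
theorem mem_commutator_of_mul_mem_of_coprime (N : Subgroup G) {t d : G} (ht : t ∈ N) (hd : d ∈ N)
    (htd : t * d ∈ ⁅N, N⁆) {a b : ℕ} (hta : t ^ a = 1) (hdb : d ^ b = 1) (hab : Nat.Coprime a b) :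
    t ∈ ⁅N, N⁆ := by
  rw [← Subgroup.map_subtype_commutator] at htd ⊢
  obtain ⟨y, hy, hyv⟩ := htd
  have hy' : y = ⟨t, ht⟩ * ⟨d, hd⟩ := by
    apply Subtype.ext
    exact hyv
  have h1 : Abelianization.of y = 1 := by
    rw [← MonoidHom.mem_ker, Abelianization.ker_of]
    exact hy
  rw [hy', map_mul] at h1
  have h2 : (Abelianization.of (⟨t, ht⟩ : ↥N)) ^ a = 1 := by
    rw [← map_pow]
    have : (⟨t, ht⟩ : ↥N) ^ a = 1 := by
      apply Subtype.ext
      simpa using hta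
    rw [this, map_one]
  have h3 : (Abelianization.of (⟨t, ht⟩ : ↥N)) ^ b = 1 := by
    have h4 : Abelianization.of (⟨t, ht⟩ : ↥N) = (Abelianization.of (⟨d, hd⟩ : ↥N))⁻¹ :=
      eq_inv_of_mul_eq_one_left h1
    rw [h4, inv_pow, ← map_pow]
    have : (⟨d, hd⟩ : ↥N) ^ b = 1 := by
      apply Subtype.ext
      simpa using hdb
    rw [this, map_one, inv_one]
  have h5 := eq_one_of_pow_eq_one_of_coprime h2 h3 hab
  refine ⟨⟨t, ht⟩, ?_, rfl⟩
  rw [← Abelianization.ker_of]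
  exact MonoidHom.mem_ker.mpr h5

end AbelianQuot

end Cfsg.Agent.Lib.Helper13
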