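import Cfsg.Agent.Lib.Helper13.SecTrC
import Cfsg.Agent.Lib.Helper13.SecFusC

set_option autoImplicit false

/-! Lifting control of transfer through quotients by a normal `p'`-subgroup and by a normal
`p`-subgroup (helper13). -/

namespace Cfsg.Agent.Lib.Helper13

universe u

section PPrimeQuot

variable {p : ℕ} [Fact p.Prime] {𝓦 : Set (∀ (Q : Type u) [Group Q], Subgroup Q)}

/-- Control of transfer lifts through the quotient by a normal `p'`-subgroup. -/
theorem ft_of_quotient_pprime (h𝓦 : ∀ W ∈ 𝓦, Cfsg.IsCharPFunctor.{u} p W)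
    {G : Type u} [Group G] [Finite G] (D : Subgroup G) [D.Normal] (hD : (Nat.card D).Coprime p)
    (h : FT p 𝓦 (G ⧸ D)) : FT p 𝓦 G := by
  have hp : p.Prime := Fact.out
  intro T hTp hTi
  have hinj : ∀ t ∈ T, (QuotientGroup.mk' D) t = 1 → t = 1 := by
    intro t ht h1
    have h2 : t ∈ D := (QuotientGroup.eq_one_iff t).mp h1
    exact Cfsg.Agent.Lib.Helper5.h5_eq_one_of_mem_pgroup_of_mem_coprime hTp hD ht h2
  have hTbp : IsPGroup p ↥(T.map (QuotientGroup.mk' D)) := hTp.map _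
  have hTbi : ¬ p ∣ (T.map (QuotientGroup.mk' D)).index := fun hd =>
    hTi (hd.trans (Subgroup.index_map_dvd T (QuotientGroup.mk'_surjective D)))
  have hb := h _ hTbp hTbi
  -- the focal target of the quotient is the image of the focal target
  have hfoc : focD 𝓦 (T.map (QuotientGroup.mk' D)) ≤ (focD 𝓦 T).map (QuotientGroup.mk' D) := by
    unfold focD
    rw [Subgroup.map_iSup]
    apply iSup_mono
    intro W
    rw [Subgroup.map_iSup]
    apply iSup_mono'
    intro hW
    refine ⟨hW, ?_⟩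
    obtain ⟨V, hV⟩ : ∃ V : Subgroup G, V = Cfsg.inducedFunctor (G := G) W T := ⟨_, rfl⟩
    have hVT : V ≤ T := hV ▸ inducedFunctor_le W T
    have hVp : IsPGroup p ↥V := hTp.to_le hVT
    have hTN : T ≤ Subgroup.normalizer (V : Set G) := hV ▸ sylow_le_normalizer_induced h𝓦 hTp hW
    rw [inducedFunctor_map_hom W (h𝓦 W hW) (QuotientGroup.mk' D) T hTp hinj, ← hV]
    have hN := normalizer_map_quotient_le (p := p) D hD V hVp
    intro yb hyb
    have hyT := (Subgroup.mem_inf.mp hyb).1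
    have hyc := Subgroup.commutator_mono hN hN (Subgroup.mem_inf.mp hyb).2
    rw [← Subgroup.map_commutator] at hyc
    obtain ⟨t, ht, rfl⟩ := hyT
    obtain ⟨n, hn, hnt⟩ := hyc
    have hdD : t⁻¹ * n ∈ D := by
      rw [← QuotientGroup.eq_one_iff, QuotientGroup.mk_mul, QuotientGroup.mk_inv]
      have : (QuotientGroup.mk' D) n = (QuotientGroup.mk' D) t := hnt
      rw [QuotientGroup.mk'_apply, QuotientGroup.mk'_apply] at this
      rw [this, inv_mul_cancel]
    have hnN : n ∈ Subgroup.normalizer (V : Set G) := Subgroup.commutator_le_self _ hn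
    have htN : t ∈ Subgroup.normalizer (V : Set G) := hTN ht
    have hdN : t⁻¹ * n ∈ Subgroup.normalizer (V : Set G) :=
      Subgroup.mul_mem _ (Subgroup.inv_mem _ htN) hnN
    have htd : t * (t⁻¹ * n) ∈ ⁅Subgroup.normalizer (V : Set G), Subgroup.normalizer (V : Set G)⁆ := by
      rw [mul_inv_cancel_left]; exact hn
    obtain ⟨k, hk⟩ := (IsPGroup.iff_orderOf.mp hTp) ⟨t, ht⟩
    have htk : t ^ p ^ k = 1 := by
      have h1 : (⟨t, ht⟩ : ↥T) ^ p ^ k = 1 := by
        rw [← hk]; exact pow_orderOf_eq_one _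
      have := congrArg Subtype.val h1
      simpa using this
    have hdm : (t⁻¹ * n) ^ Nat.card ↥D = 1 := by
      have h1 : (⟨t⁻¹ * n, hdD⟩ : ↥D) ^ Nat.card ↥D = 1 := pow_card_eq_one'
      have := congrArg Subtype.val h1
      rwa [Subgroup.coe_pow, Subgroup.coe_one] at this
    have hcop : Nat.Coprime (p ^ k) (Nat.card ↥D) := Nat.Coprime.pow_left k hD.symm
    have := mem_commutator_of_mul_mem_of_coprime _ htN hdN htd htk hdm hcop
    exact ⟨t, Subgroup.mem_inf.mpr ⟨ht, this⟩, rfl⟩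
  intro x hx
  have hxT := (Subgroup.mem_inf.mp hx).1
  have hxc := (Subgroup.mem_inf.mp hx).2
  have hxb : (QuotientGroup.mk' D) x ∈ T.map (QuotientGroup.mk' D) ⊓ _root_.commutator (G ⧸ D) := by
    refine Subgroup.mem_inf.mpr ⟨⟨x, hxT, rfl⟩, ?_⟩
    have h1 : (QuotientGroup.mk' D) x ∈ (_root_.commutator G).map (QuotientGroup.mk' D) :=
      ⟨x, hxc, rfl⟩
    rw [commutator_def, Subgroup.map_commutator] at h1
    rw [commutator_def]
    exact Subgroup.commutator_mono le_top le_top h1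
  obtain ⟨f, hf, hfx⟩ := hfoc (hb hxb)
  have hfT : f ∈ T := (Subgroup.mem_inf.mp (focD_le T hf)).1
  have h1 : (QuotientGroup.mk' D) (f⁻¹ * x) = 1 := by
    rw [map_mul, map_inv, hfx, inv_mul_cancel]
  have h2 := hinj _ (Subgroup.mul_mem _ (Subgroup.inv_mem _ hfT) hxT) h1
  have : x = f := by
    have := inv_mul_eq_one.mp h2
    exact this.symm
  rw [this]
  exact hf

end PPrimeQuot

section PCoreQuot

variable {p : ℕ} [Fact p.Prime] {𝓦 : Set (∀ (Q : Type u) [Group Q], Subgroup Q)}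

omit [Fact p.Prime] in
/-- Control of transfer modulo a normal `p`-subgroup `Q ≤ T`: if the functors control transfer in
`G ⧸ Q` and the commutator subgroups of the normalizers of the preimages of `W(T/Q)` are under
control, then `T ∩ G' ≤ focD T ⊔ Q`. -/
theorem inf_commutator_le_sup_of_quotient
    {G : Type u} [Group G] [Finite G] (Q : Subgroup G) [Q.Normal]
    (h : FT p 𝓦 (G ⧸ Q)) {T : Subgroup G} (hTp : IsPGroup p ↥T) (hTi : ¬ p ∣ T.index)
    (hQT : Q ≤ T)
    (hM : ∀ W ∈ 𝓦, T ⊓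
      ⁅Subgroup.normalizer (((Cfsg.inducedFunctor (G := G ⧸ Q) W
          (T.map (QuotientGroup.mk' Q))).comap (QuotientGroup.mk' Q) : Subgroup G) : Set G),
        Subgroup.normalizer (((Cfsg.inducedFunctor (G := G ⧸ Q) W
          (T.map (QuotientGroup.mk' Q))).comap (QuotientGroup.mk' Q) : Subgroup G) : Set G)⁆ ≤
      focD 𝓦 T) :
    T ⊓ _root_.commutator G ≤ focD 𝓦 T ⊔ Q := by
  have hTbp : IsPGroup p ↥(T.map (QuotientGroup.mk' Q)) := hTp.map _
  have hTbi : ¬ p ∣ (T.map (QuotientGroup.mk' Q)).index := fun hd =>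
    hTi (hd.trans (Subgroup.index_map_dvd T (QuotientGroup.mk'_surjective Q)))
  have hb := h _ hTbp hTbi
  have hsurj := QuotientGroup.mk'_surjective Q
  have hfoc : focD 𝓦 (T.map (QuotientGroup.mk' Q)) ≤ (focD 𝓦 T).map (QuotientGroup.mk' Q) := by
    unfold focD
    apply iSup₂_le
    intro W hW
    have hMW := hM W hW
    obtain ⟨Vb, hVb⟩ : ∃ Vb, Vb = Cfsg.inducedFunctor (G := G ⧸ Q) W
        (T.map (QuotientGroup.mk' Q)) := ⟨_, rfl⟩
    rw [← hVb] at hMW ⊢
    have hNb : Subgroup.normalizer (Vb : Set (G ⧸ Q)) =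
        (Subgroup.normalizer ((Vb.comap (QuotientGroup.mk' Q) : Subgroup G) : Set G)).map
          (QuotientGroup.mk' Q) := by
      rw [← Subgroup.comap_normalizer_eq_of_surjective _ hsurj,
        Subgroup.map_comap_eq_self_of_surjective hsurj]
    intro yb hyb
    have hyT := (Subgroup.mem_inf.mp hyb).1
    have hyc := (Subgroup.mem_inf.mp hyb).2
    rw [hNb, ← Subgroup.map_commutator] at hyc
    obtain ⟨m, hm, rfl⟩ := hyc
    have hmT : m ∈ T := by
      rw [← comap_map_sylow_of_le Q T hQT, Subgroup.mem_comap]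
      exact hyT
    exact ⟨m, hMW (Subgroup.mem_inf.mpr ⟨hmT, hm⟩), rfl⟩
  intro x hx
  have hxT := (Subgroup.mem_inf.mp hx).1
  have hxc := (Subgroup.mem_inf.mp hx).2
  have hxb : (QuotientGroup.mk' Q) x ∈ T.map (QuotientGroup.mk' Q) ⊓ _root_.commutator (G ⧸ Q) := by
    refine Subgroup.mem_inf.mpr ⟨⟨x, hxT, rfl⟩, ?_⟩
    have h1 : (QuotientGroup.mk' Q) x ∈ (_root_.commutator G).map (QuotientGroup.mk' Q) :=
      ⟨x, hxc, rfl⟩
    rw [commutator_def, Subgroup.map_commutator] at h1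
    rw [commutator_def]
    exact Subgroup.commutator_mono le_top le_top h1
  obtain ⟨f, hf, hfx⟩ := hfoc (hb hxb)
  have h1 : (QuotientGroup.mk' Q) (f⁻¹ * x) = 1 := by
    rw [map_mul, map_inv, hfx, inv_mul_cancel]
  have h2 : f⁻¹ * x ∈ Q := (QuotientGroup.eq_one_iff _).mp h1
  have e : x = f * (f⁻¹ * x) := by group
  rw [e]
  exact Subgroup.mul_mem _ ((le_sup_left : focD 𝓦 T ≤ _) hf) ((le_sup_right : Q ≤ _) h2)

end PCoreQuot

end Cfsg.Agent.Lib.Helper13
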