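import Cfsg.Agent.Lib.Helper13.SecTrD
import Cfsg.Agent.Lib.Helper13.SecFusH
import Cfsg.Agent.S1960

set_option autoImplicit false

/-! The main induction for transfer: a family of isomorphism-invariant functors whose focal
targets contain `O_p ∩ G*'` in all constrained sections controls transfer (helper13). -/

namespace Cfsg.Agent.Lib.Helper13

universe u

section MainTr

variable {p : ℕ} [Fact p.Prime] {𝓦 : Set (∀ (Q : Type u) [Group Q], Subgroup Q)}

open scoped commutatorElement

theorem sec_tr_main (h𝓦 : ∀ W ∈ 𝓦, Cfsg.IsCharPFunctor.{u} p W) :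
    ∀ (n : ℕ) (Γ : Type u) [Group Γ] [Finite Γ], Nat.card Γ = n →
      SecAll (HypT p 𝓦) Γ → FT p 𝓦 Γ := by
  intro n
  induction n using Nat.strong_induction_on with
  | _ n ih =>
  intro Γ _ _ hcard hsec
  have hp : p.Prime := Fact.out
  have ihsub : ∀ N : Subgroup Γ, N ≠ ⊤ → FT p 𝓦 ↥N := fun N hN =>
    ih (Nat.card ↥N) (hcard ▸ card_subgroup_lt_of_ne_top N hN) ↥N rfl (secAll_subgroup hsec N)
  have ihquot : ∀ (M : Subgroup Γ) [M.Normal], M ≠ ⊥ → FT p 𝓦 (Γ ⧸ M) := fun M _ hM =>
    ih (Nat.card (Γ ⧸ M)) (hcard ▸ card_quotient_lt_of_ne_bot M hM) (Γ ⧸ M) rfl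
      (secAll_quotient hsec M)
  have hconj := indFam_isConjugacyFunctor h𝓦 Γ
  intro T hTp hTi
  obtain ⟨S, hST⟩ : ∃ S : Sylow p Γ, (S : Subgroup Γ) = T := ⟨hTp.toSylow hTi, hTp.toSylow_coe hTi⟩
  have sub_le : ∀ M : Subgroup Γ, M ≠ ⊤ → T ≤ M → T ⊓ ⁅M, M⁆ ≤ focD 𝓦 T := fun M hM hTM =>
    inf_commutator_le_focD_of_ft h𝓦 M (ihsub M hM) hTM hTp hTi
  by_cases hQ : Cfsg.pCore p Γ = ⊥
  · -- `O_p = 1`: reduce to normalizers of nontrivial `p`-subgroups
    have h1 : Cfsg.FamilyControlsTransferIn p (indFam 𝓦 Γ) ⊤ := by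
      apply Cfsg.Agent.S1960.result S (indFam 𝓦 Γ) hconj
      intro T₁ hT₁S hT₁ne hT₁i
      have hne : Subgroup.normalizer (T₁ : Set Γ) ≠ ⊤ := by
        intro htop
        have hTn : T₁.Normal := Subgroup.normalizer_eq_top_iff.mp htop
        have := Cfsg.Agent.Lib.Helper1.le_pCore hTn (S.isPGroup'.to_le hT₁S)
        rw [hQ] at this
        exact hT₁ne (le_bot_iff.mp this)
      refine ⟨(S : Subgroup Γ) ⊓ Subgroup.normalizer (T₁ : Set Γ), inf_le_right,
        S.isPGroup'.to_le inf_le_left, hT₁i, ?_⟩
      rw [familyTarget_eq_focIn]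
      apply le_antisymm
      · exact inf_commutator_le_focIn_of_ft h𝓦 _ (ihsub _ hne) inf_le_right
          (S.isPGroup'.to_le inf_le_left) hT₁i
      · exact focIn_le _ _
    have hTi' : ¬ p ∣ T.relIndex ⊤ := by rwa [Subgroup.relIndex_top_right]
    have h2 := family_transfer_of_sylow hconj h1 (le_top : T ≤ ⊤) hTp hTi'
    rw [familyTarget_eq_focIn, focIn_top] at h2
    rw [commutator_def, h2]
  · obtain ⟨Q, hQdef⟩ : ∃ Q : Subgroup Γ, Q = Cfsg.pCore p Γ := ⟨_, rfl⟩
    rw [← hQdef] at hQ
    haveI hQn : Q.Normal := hQdef ▸ pCore_normal' p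
    have hQp : IsPGroup p ↥Q := hQdef ▸ pCore_isPGroup
    have hle_Q : ∀ R : Subgroup Γ, R.Normal → IsPGroup p ↥R → R ≤ Q := fun R hRn hRp =>
      hQdef ▸ Cfsg.Agent.Lib.Helper1.le_pCore hRn hRp
    have hQT : Q ≤ T := hST ▸ normal_pgroup_le_sylow Q hQp S
    by_cases hD : Cfsg.pPrimeCore p Γ = ⊥
    swap
    · haveI : (Cfsg.pPrimeCore p Γ).Normal := pPrimeCore_normal' p
      exact ft_of_quotient_pprime h𝓦 (Cfsg.pPrimeCore p Γ)
        (Cfsg.Agent.Lib.Helper1.pPrimeCore_card_coprime p) (ihquot _ hD) T hTp hTi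
    · -- first claim: `T ∩ Γ' ≤ focD T ⊔ Q`
      have claim1 : T ⊓ _root_.commutator Γ ≤ focD 𝓦 T ⊔ Q := by
        by_cases hTQ : T ≤ Q
        · exact inf_le_left.trans (hTQ.trans le_sup_right)
        · have hTbp : IsPGroup p ↥(T.map (QuotientGroup.mk' Q)) := hTp.map _
          apply inf_commutator_le_sup_of_quotient Q (ihquot Q hQ) hTp hTi hQT
          intro W hW
          obtain ⟨Vb, hVb⟩ : ∃ Vb, Vb = Cfsg.inducedFunctor (G := Γ ⧸ Q) W
              (T.map (QuotientGroup.mk' Q)) := ⟨_, rfl⟩
          rw [← hVb]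
          have hVble : Vb ≤ T.map (QuotientGroup.mk' Q) := hVb ▸ inducedFunctor_le W _
          have hcm := comap_map_sylow_of_le Q T hQT
          have hVS : Vb.comap (QuotientGroup.mk' Q) ≤ T := by
            rw [← hcm]
            exact Subgroup.comap_mono hVble
          have hne : Subgroup.normalizer ((Vb.comap (QuotientGroup.mk' Q) : Subgroup Γ) : Set Γ) ≠
              ⊤ := by
            intro htop
            have hVn := Subgroup.normalizer_eq_top_iff.mp htop
            have h1 := hle_Q _ hVn (hTp.to_le hVS)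
            have h2 : Vb ≤ ⊥ := by
              rw [← Subgroup.map_comap_eq_self_of_surjective (QuotientGroup.mk'_surjective Q) Vb]
              refine (Subgroup.map_mono h1).trans ?_
              rw [QuotientGroup.map_mk'_self]
            have hSb : T.map (QuotientGroup.mk' Q) = ⊥ := by
              by_contra hne'
              have := ((inducedFunctor_isConjugacyFunctor (G := Γ ⧸ Q) W (h𝓦 W hW)) _ hTbp).2.1 hne'
              rw [← hVb] at this
              exact this (le_bot_iff.mp h2)
            apply hTQ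
            intro s hs
            have h3 : (QuotientGroup.mk' Q) s ∈ T.map (QuotientGroup.mk' Q) := ⟨s, hs, rfl⟩
            rw [hSb, Subgroup.mem_bot] at h3
            exact (QuotientGroup.eq_one_iff s).mp h3
          have hSle : T ≤
              Subgroup.normalizer ((Vb.comap (QuotientGroup.mk' Q) : Subgroup Γ) : Set Γ) := by
            rw [← Subgroup.comap_normalizer_eq_of_surjective _ (QuotientGroup.mk'_surjective Q)]
            intro s hs
            rw [Subgroup.mem_comap, hVb]
            apply sylow_le_normalizer_induced h𝓦 hTbp hW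
            exact ⟨s, hs, rfl⟩
          exact sub_le _ hne hSle
      -- second claim: `Q ∩ Γ' ≤ focD T`
      have claim2 : Q ⊓ _root_.commutator Γ ≤ focD 𝓦 T := by
        by_cases hC : Subgroup.centralizer (Q : Set Γ) ≤ Q
        · rw [hQdef] at hC ⊢
          exact secAll_self hsec hC T hTp hTi
        · obtain ⟨C, hCdef⟩ : ∃ C : Subgroup Γ, C = Subgroup.centralizer (Q : Set Γ) := ⟨_, rfl⟩
          haveI hCn : C.Normal := by rw [hCdef]; exact Subgroup.normal_centralizer
          have hSC : ¬ T ⊓ C ≤ Q := by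
            intro hle
            rw [hCdef, ← hST] at hle
            exact hC (centralizer_le_of_sylow_inf_le Q hD S hle)
          have hRN : Subgroup.normalizer (((T ⊓ C : Subgroup Γ)) : Set Γ) ≠ ⊤ := by
            intro htop
            have hRn := Subgroup.normalizer_eq_top_iff.mp htop
            exact hSC (hle_Q _ hRn (hTp.to_le inf_le_left))
          have hSNC : T ≤ Subgroup.normalizer (((T ⊓ C : Subgroup Γ)) : Set Γ) := by
            intro s hs
            apply mem_normalizer_inf_of_mem (Subgroup.le_normalizer hs)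
            rw [Subgroup.normalizer_eq_top_iff.mpr hCn]
            exact Subgroup.mem_top _
          by_cases hX : T ⊔ C = ⊤
          swap
          · have h1 := focal_two_subgroups S C
            rw [hST] at h1
            refine (inf_le_inf_right _ hQT).trans ?_
            rw [commutator_def]
            refine h1.trans (sup_le ?_ ?_)
            · exact sub_le _ hX le_sup_left
            · exact sub_le _ hRN hSNC
          · have hTne : T ≠ ⊤ := by
              intro htop
              apply hSC
              have hTn : T.Normal := by rw [htop]; infer_instance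
              exact inf_le_left.trans (hle_Q _ hTn hTp)
            have h1 := inf_commutator_le_of_sup_centralizer S Q (hST ▸ hQT) C (hCdef ▸ le_rfl)
              (hST ▸ hX)
            rw [hST] at h1
            rw [commutator_def]
            refine h1.trans ?_
            refine le_trans ?_ (sub_le T hTne le_rfl)
            exact le_inf (Subgroup.commutator_le_self T) le_rfl
      intro x hx
      have hxc := (Subgroup.mem_inf.mp hx).2
      have hx1 := claim1 hx
      have hfQ : focD 𝓦 T ≤ Subgroup.normalizer (Q : Set Γ) := by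
        rw [Subgroup.normalizer_eq_top_iff.mpr hQn]; exact le_top
      obtain ⟨f, hf, q, hq, rfl⟩ := mem_sup_of_le_normalizer hfQ hx1
      have hfc : f ∈ _root_.commutator Γ := (Subgroup.mem_inf.mp (focD_le T hf)).2
      have hqc : q ∈ _root_.commutator Γ := by
        have e : q = f⁻¹ * (f * q) := by group
        rw [e]
        exact Subgroup.mul_mem _ (Subgroup.inv_mem _ hfc) hxc
      exact Subgroup.mul_mem _ hf (claim2 (Subgroup.mem_inf.mpr ⟨hq, hqc⟩))

end MainTr

end Cfsg.Agent.Lib.Helper13
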