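import Mathlib
import Cfsg.Prelude.Def_SubgroupEmbedding
import Cfsg.Prelude.Def_Transfer
import Cfsg.Prelude.Def_Amalgam
import Cfsg.Agent.Lib.Helper13.KStabC
import Cfsg.Agent.Lib.Helper13.SecFusH

set_option autoImplicit false

/-! Sidki pairs: basic tools for the minimal counterexample reduction (helper13). -/

namespace Cfsg.Agent.Lib.Helper13

universe u

section SidkiBasic

variable {G : Type u} [Group G]

theorem sk_comm {V : Subgroup G} (hV : Cfsg.IsElementaryAbelian 2 V) :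
    ∀ a ∈ V, ∀ b ∈ V, a * b = b * a := by
  intro a ha b hb
  have := hV.1.is_comm.comm (⟨a, ha⟩ : ↥V) ⟨b, hb⟩
  exact congrArg Subtype.val this

theorem sk_sq {V : Subgroup G} (hV : Cfsg.IsElementaryAbelian 2 V) :
    ∀ a ∈ V, a * a = 1 := by
  intro a ha
  have := hV.2 a ha
  rwa [pow_two] at this

theorem sk_inv {V : Subgroup G} (hV : Cfsg.IsElementaryAbelian 2 V) :
    ∀ a ∈ V, a⁻¹ = a := by
  intro a ha
  exact inv_eq_of_mul_eq_one_left (sk_sq hV a ha)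

theorem sk_ea_of_le {V W : Subgroup G} (hV : Cfsg.IsElementaryAbelian 2 V) (hWV : W ≤ V) :
    Cfsg.IsElementaryAbelian 2 W := by
  refine ⟨⟨⟨?_⟩⟩, fun a ha => hV.2 a (hWV ha)⟩
  intro a b
  apply Subtype.ext
  rw [Subgroup.coe_mul, Subgroup.coe_mul]
  exact sk_comm hV a (hWV a.2) b (hWV b.2)

theorem sk_ea_subgroupOf {V : Subgroup G} (hV : Cfsg.IsElementaryAbelian 2 V) (H : Subgroup G) :
    Cfsg.IsElementaryAbelian 2 (V.subgroupOf H) := by
  refine ⟨⟨⟨?_⟩⟩, ?_⟩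
  · intro a b
    apply Subtype.ext
    apply Subtype.ext
    simp only [Subgroup.coe_mul]
    exact sk_comm hV _ (Subgroup.mem_subgroupOf.mp a.2) _ (Subgroup.mem_subgroupOf.mp b.2)
  · intro a ha
    apply Subtype.ext
    rw [Subgroup.coe_pow, Subgroup.coe_one]
    exact hV.2 _ (Subgroup.mem_subgroupOf.mp ha)

theorem sk_isPGroup {V : Subgroup G} (hV : Cfsg.IsElementaryAbelian 2 V) : IsPGroup 2 ↥V := by
  intro a
  refine ⟨1, ?_⟩
  apply Subtype.ext
  rw [pow_one, Subgroup.coe_pow, Subgroup.coe_one]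
  exact hV.2 _ a.2

/-- An element of odd order whose square is trivial is trivial. -/
theorem sk_eq_one_of_sq {x : G} (hx : Odd (orderOf x)) (h : x * x = 1) : x = 1 := by
  have h2 : x ^ 2 = 1 := by rw [pow_two]; exact h
  have hd : orderOf x ∣ 2 := orderOf_dvd_of_pow_eq_one h2
  have h1 : orderOf x = 1 := by
    have hle : orderOf x ≤ 2 := Nat.le_of_dvd (by norm_num) hd
    obtain ⟨k, hk⟩ := hx
    omega
  exact orderOf_eq_one_iff.mp h1

end SidkiBasic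

section SidkiCore

variable {G : Type u} [Group G] [Finite G]

/-- Conjugation by elements of `X` preserves `O_p(X)`. -/
theorem sk_conj_mem_pCoreOf {p : ℕ} (X : Subgroup G) {x d : G} (hx : x ∈ X)
    (hd : d ∈ Cfsg.pCoreOf p X) : x * d * x⁻¹ ∈ Cfsg.pCoreOf p X := by
  obtain ⟨d', hd', rfl⟩ := hd
  haveI : (Cfsg.pCore p ↥X).Normal := pCore_normal' p
  refine ⟨⟨x, hx⟩ * d' * (⟨x, hx⟩ : ↥X)⁻¹, Subgroup.Normal.conj_mem ‹_› d' hd' _, ?_⟩
  simp

/-- With `O_2(G) = 1`: a normal subgroup `K` of `G` inside a subgroup `X` meets `O_2(X)` trivially. -/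
theorem sk_inf_pCoreOf_eq_bot (hO : Cfsg.pCore 2 G = ⊥) (K X : Subgroup G) [hK : K.Normal]
    (hKX : K ≤ X) : K ⊓ Cfsg.pCoreOf 2 X = ⊥ := by
  haveI : Fact (Nat.Prime 2) := ⟨Nat.prime_two⟩
  rw [eq_bot_iff, ← hO]
  refine le_trans ?_ (pCoreOf_le_pCore_of_normal (p := 2) K)
  intro d hd
  have hdK : d ∈ K := (Subgroup.mem_inf.mp hd).1
  have hdO : d ∈ Cfsg.pCoreOf 2 X := (Subgroup.mem_inf.mp hd).2
  -- the subgroup `D = K ⊓ O_2(X)` of `K`
  have hDn : ((K ⊓ Cfsg.pCoreOf 2 X).subgroupOf K).Normal := by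
    constructor
    intro n hn k
    rw [Subgroup.mem_subgroupOf] at hn ⊢
    rw [Subgroup.coe_mul, Subgroup.coe_mul, Subgroup.coe_inv]
    apply Subgroup.mem_inf.mpr
    refine ⟨hK.conj_mem _ (Subgroup.mem_inf.mp hn).1 _, ?_⟩
    exact sk_conj_mem_pCoreOf X (hKX k.2) (Subgroup.mem_inf.mp hn).2
  have hDp : IsPGroup 2 ↥((K ⊓ Cfsg.pCoreOf 2 X).subgroupOf K) := by
    have h1 : IsPGroup 2 ↥(Cfsg.pCoreOf 2 X) :=
      (Cfsg.Agent.Lib.Helper1.pCore_isPGroup (G := ↥X) 2).map _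
    have h2 : IsPGroup 2 ↥(K ⊓ Cfsg.pCoreOf 2 X) := h1.to_le inf_le_right
    exact h2.comap_subtype
  have h3 := Cfsg.Agent.Lib.Helper1.le_pCore hDn hDp
  exact ⟨⟨d, hdK⟩, h3 (Subgroup.mem_subgroupOf.mpr hd), rfl⟩

end SidkiCore

end Cfsg.Agent.Lib.Helper13
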