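import Cfsg.Agent.Lib.Helper13.SidkiA
import Cfsg.Agent.Lib.helper17.PClosed
import Cfsg.Agent.S3011
import Cfsg.Agent.S3012
import Cfsg.Agent.S3013

set_option autoImplicit false

/-! Sidki pairs: minimal counterexample, first reductions (helper13). -/

namespace Cfsg.Agent.Lib.Helper13

universe u

/-- The minimality hypothesis over groups of smaller order. -/
def SkMin (G : Type u) [Group G] : Prop :=
  ∀ (H : Type u) [Group H] [Finite H] (W : Subgroup H), Nat.card H < Nat.card G →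
    Cfsg.IsElementaryAbelian 2 W → W ≠ ⊥ → Cfsg.IsSidkiPair W → W ⊓ Cfsg.pCore 2 H ≠ ⊥

section

variable {G : Type u} [Group G] [Finite G]

theorem sk_map_ea {V : Subgroup G} (hV : Cfsg.IsElementaryAbelian 2 V) {H : Type u} [Group H]
    (f : G →* H) : Cfsg.IsElementaryAbelian 2 (V.map f) := by
  refine ⟨⟨⟨?_⟩⟩, ?_⟩
  · rintro ⟨_, a, ha, rfl⟩ ⟨_, b, hb, rfl⟩
    apply Subtype.ext
    show f a * f b = f b * f a
    rw [← map_mul, ← map_mul, sk_comm hV a ha b hb]
  · rintro _ ⟨a, ha, rfl⟩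
    rw [← map_pow, hV.2 a ha, map_one]

theorem sk_map_ne_bot {V K : Subgroup G} [K.Normal] (hV1 : V ≠ ⊥) (hVK : V ⊓ K = ⊥) :
    V.map (QuotientGroup.mk' K) ≠ ⊥ := by
  intro h
  apply hV1
  rw [eq_bot_iff]
  intro v hv
  have h1 : (QuotientGroup.mk' K) v ∈ V.map (QuotientGroup.mk' K) := ⟨v, hv, rfl⟩
  rw [h, Subgroup.mem_bot] at h1
  have h2 : v ∈ K := (QuotientGroup.eq_one_iff v).mp h1
  rw [← hVK]
  exact Subgroup.mem_inf.mpr ⟨hv, h2⟩

/-- Step 1: `O_2(G) = 1` in a minimal counterexample. -/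
theorem sk_core_bot (hmin : SkMin G) {V : Subgroup G} (hV : Cfsg.IsElementaryAbelian 2 V)
    (hV1 : V ≠ ⊥) (hS : Cfsg.IsSidkiPair V) (hVO : V ⊓ Cfsg.pCore 2 G = ⊥) :
    Cfsg.pCore 2 G = ⊥ := by
  haveI : Fact (Nat.Prime 2) := ⟨Nat.prime_two⟩
  by_contra hne
  haveI hKn : (Cfsg.pCore 2 G).Normal := pCore_normal' 2
  have h1 := Cfsg.Agent.S3012.result V (Cfsg.pCore 2 G) hV hV1 hS hVO
  have h2 := hmin (G ⧸ Cfsg.pCore 2 G) (V.map (QuotientGroup.mk' (Cfsg.pCore 2 G)))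
    (card_quotient_lt_of_ne_bot _ hne) (sk_map_ea hV _) (sk_map_ne_bot hV1 hVO) h1
  apply h2
  rw [Cfsg.Agent.Lib.helper17.pCore_quotient (Cfsg.pCore 2 G)
    (Cfsg.Agent.Lib.Helper1.pCore_isPGroup 2), QuotientGroup.map_mk'_self, inf_bot_eq]

/-- With `O_2(G) = 1` also `O_2(G / Z(G)) = 1`. -/
theorem sk_pCore_quot_center (hO : Cfsg.pCore 2 G = ⊥) :
    Cfsg.pCore 2 (G ⧸ Subgroup.center G) = ⊥ := by
  haveI : Fact (Nat.Prime 2) := ⟨Nat.prime_two⟩
  obtain ⟨T, hT⟩ : ∃ T : Subgroup G, T = (Cfsg.pCore 2 (G ⧸ Subgroup.center G)).comap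
      (QuotientGroup.mk' (Subgroup.center G)) := ⟨_, rfl⟩
  have hTle : T ≤ (Cfsg.pCore 2 (G ⧸ Subgroup.center G)).comap
      (QuotientGroup.mk' (Subgroup.center G)) := le_of_eq hT
  haveI hTn : T.Normal := by
    rw [hT]
    haveI : (Cfsg.pCore 2 (G ⧸ Subgroup.center G)).Normal := pCore_normal' 2
    exact Subgroup.Normal.comap ‹_› _
  -- `T` is nilpotent
  let f : ↥T →* ↥(Cfsg.pCore 2 (G ⧸ Subgroup.center G)) :=
    ((QuotientGroup.mk' (Subgroup.center G)).comp T.subtype).codRestrict _ (by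
      intro t
      exact Subgroup.mem_comap.mp (hTle t.2))
  have hker : f.ker ≤ Subgroup.center ↥T := by
    intro t ht
    rw [MonoidHom.mem_ker] at ht
    have h1 : (QuotientGroup.mk' (Subgroup.center G)) (t : G) = 1 := by
      have := congrArg Subtype.val ht
      simpa [f] using this
    have h2 : (t : G) ∈ Subgroup.center G := (QuotientGroup.eq_one_iff _).mp h1
    rw [Subgroup.mem_center_iff]
    intro s
    apply Subtype.ext
    rw [Subgroup.coe_mul, Subgroup.coe_mul]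
    exact (Subgroup.mem_center_iff.mp h2) s
  haveI : Group.IsNilpotent ↥(Cfsg.pCore 2 (G ⧸ Subgroup.center G)) :=
    (Cfsg.Agent.Lib.Helper1.pCore_isPGroup (G := G ⧸ Subgroup.center G) 2).isNilpotent
  haveI hTnil : Group.IsNilpotent ↥T := Subgroup.isNilpotent_of_ker_le_center f hker
  -- the Sylow 2-subgroup of `T` is trivial
  obtain ⟨P⟩ : Nonempty (Sylow 2 ↥T) := inferInstance
  haveI hPn : (P : Subgroup ↥T).Normal := inferInstance
  haveI hPc : (P : Subgroup ↥T).Characteristic := Sylow.characteristic_of_normal P hPn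
  have hPG : ((P : Subgroup ↥T).map T.subtype).Normal :=
    ConjAct.normal_of_characteristic_of_normal
  have hP2 : IsPGroup 2 ↥((P : Subgroup ↥T).map T.subtype) := P.isPGroup'.map _
  have hPbot : (P : Subgroup ↥T).map T.subtype = ⊥ := by
    rw [eq_bot_iff, ← hO]
    exact Cfsg.Agent.Lib.Helper1.le_pCore hPG hP2
  have hPbot' : (P : Subgroup ↥T) = ⊥ := by
    rw [eq_bot_iff]
    intro x hx
    have : (x : G) ∈ (P : Subgroup ↥T).map T.subtype := ⟨x, hx, rfl⟩
    rw [hPbot, Subgroup.mem_bot] at this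
    rw [Subgroup.mem_bot]
    exact Subtype.ext this
  have hodd : ¬ 2 ∣ Nat.card ↥T := by
    have h1 := P.not_dvd_index
    rwa [hPbot', Subgroup.index_bot] at h1
  rw [eq_bot_iff]
  intro xb hxb
  obtain ⟨x, rfl⟩ := QuotientGroup.mk'_surjective (Subgroup.center G) xb
  have hxT : x ∈ T := by rw [hT]; exact Subgroup.mem_comap.mpr hxb
  have h1 : x ^ Nat.card ↥T = 1 := by
    have h0 : (⟨x, hxT⟩ : ↥T) ^ Nat.card ↥T = 1 := pow_card_eq_one'
    have h00 := congrArg Subtype.val h0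
    rw [Subgroup.coe_pow, Subgroup.coe_one] at h00
    exact h00
  have h2 : ((QuotientGroup.mk' (Subgroup.center G)) x) ^ Nat.card ↥T = 1 := by
    rw [← map_pow, h1, map_one]
  obtain ⟨k, hk⟩ := (IsPGroup.iff_orderOf.mp
    (Cfsg.Agent.Lib.Helper1.pCore_isPGroup (G := G ⧸ Subgroup.center G) 2)) ⟨_, hxb⟩
  rw [Subgroup.orderOf_mk] at hk
  have h3 : orderOf ((QuotientGroup.mk' (Subgroup.center G)) x) ∣ Nat.card ↥T :=
    orderOf_dvd_of_pow_eq_one h2
  rw [hk] at h3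
  have hk0 : k = 0 := by
    by_contra hk0
    apply hodd
    exact (dvd_pow_self 2 hk0).trans h3
  rw [hk0, pow_zero] at hk
  rw [Subgroup.mem_bot]
  exact orderOf_eq_one_iff.mp hk

/-- Step 2: `Z(G) = 1` in a minimal counterexample. -/
theorem sk_center_bot (hmin : SkMin G) {V : Subgroup G} (hV : Cfsg.IsElementaryAbelian 2 V)
    (hV1 : V ≠ ⊥) (hS : Cfsg.IsSidkiPair V) (hO : Cfsg.pCore 2 G = ⊥) :
    Subgroup.center G = ⊥ := by
  haveI : Fact (Nat.Prime 2) := ⟨Nat.prime_two⟩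
  by_contra hne
  have hVZ : V ⊓ Subgroup.center G = ⊥ := by
    rw [eq_bot_iff, ← hO]
    apply Cfsg.Agent.Lib.Helper1.le_pCore
    · constructor
      intro n hn g
      have hc := Subgroup.mem_center_iff.mp (Subgroup.mem_inf.mp hn).2 g
      have : g * n * g⁻¹ = n := by rw [hc]; group
      rw [this]; exact hn
    · exact (sk_isPGroup hV).to_le inf_le_left
  have h1 := Cfsg.Agent.S3012.result V (Subgroup.center G) hV hV1 hS hVZ
  have h2 := hmin (G ⧸ Subgroup.center G) (V.map (QuotientGroup.mk' (Subgroup.center G)))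
    (card_quotient_lt_of_ne_bot _ hne) (sk_map_ea hV _) (sk_map_ne_bot hV1 hVZ) h1
  apply h2
  rw [sk_pCore_quot_center hO, inf_bot_eq]

end

end Cfsg.Agent.Lib.Helper13
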