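import Cfsg.Agent.Lib.Helper13.SidkiB

set_option autoImplicit false

/-! Sidki pairs: the key lemma `C_V(K) = 1` for nontrivial normal subgroups `K` of a minimal
counterexample, and `G = K V` (helper13). -/

namespace Cfsg.Agent.Lib.Helper13

universe u

section

variable {G : Type u} [Group G] [Finite G]

/-- The Sidki pair condition passes to subgroups containing `V`. -/
theorem sk_sidki_subgroupOf {V : Subgroup G} (hS : Cfsg.IsSidkiPair V) (H : Subgroup G)
    (hVH : V ≤ H) : Cfsg.IsSidkiPair (V.subgroupOf H) := by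
  intro h v hv hodd hinv
  have h1 : Odd (orderOf (h : G)) := by rwa [Subgroup.orderOf_coe]
  have h2 : (v : G) * (h : G) * (v : G)⁻¹ = (h : G)⁻¹ := by
    have := congrArg Subtype.val hinv
    simpa using this
  obtain ⟨w, hw, hw1, hwc⟩ := hS (h : G) (v : G) (Subgroup.mem_subgroupOf.mp hv) h1 h2
  refine ⟨⟨w, hVH hw⟩, Subgroup.mem_subgroupOf.mpr hw, ?_, ?_⟩
  · intro h3
    apply hw1
    exact congrArg Subtype.val h3
  · apply Subtype.ext
    rw [Subgroup.coe_mul, Subgroup.coe_mul]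
    exact hwc

/-- The minimality hypothesis applied to a proper subgroup. -/
theorem sk_minSub (hmin : SkMin G) {V : Subgroup G} (hV : Cfsg.IsElementaryAbelian 2 V)
    (H : Subgroup G) (hH : H ≠ ⊤) (W : Subgroup G) (hWH : W ≤ H) (hWV : W ≤ V) (hW : W ≠ ⊥)
    (hS : Cfsg.IsSidkiPair (W.subgroupOf H)) : ∃ y ∈ W, y ≠ 1 ∧ y ∈ Cfsg.pCoreOf 2 H := by
  have hne : W.subgroupOf H ≠ ⊥ := by
    intro h
    rw [Subgroup.subgroupOf_eq_bot, disjoint_iff, inf_eq_left.mpr hWH] at h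
    exact hW h
  have h1 := hmin ↥H (W.subgroupOf H) (card_subgroup_lt_of_ne_top H hH)
    (sk_ea_subgroupOf (sk_ea_of_le hV hWV) H) hne hS
  by_contra hcon
  push Not at hcon
  apply h1
  rw [eq_bot_iff]
  intro y hy
  rw [Subgroup.mem_bot]
  apply Subtype.ext
  rw [Subgroup.coe_one]
  by_contra hy1
  have h2 := hcon (y : G) (Subgroup.mem_subgroupOf.mp (Subgroup.mem_inf.mp hy).1) hy1
  exact h2 ⟨y, (Subgroup.mem_inf.mp hy).2, rfl⟩

/-- A witness for the failure of the Sidki pair condition in a proper subgroup. -/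
theorem sk_witness (hmin : SkMin G) {V : Subgroup G} (hV : Cfsg.IsElementaryAbelian 2 V)
    (H : Subgroup G) (hH : H ≠ ⊤) (W : Subgroup G) (hWH : W ≤ H) (hWV : W ≤ V) (hW : W ≠ ⊥)
    (hcore : ∀ y ∈ W, y ∈ Cfsg.pCoreOf 2 H → y = 1) :
    ∃ h a : G, h ∈ H ∧ a ∈ W ∧ Odd (orderOf h) ∧ a * h * a⁻¹ = h⁻¹ ∧ h ≠ 1 ∧
      ∀ w ∈ W, w ≠ 1 → w * h ≠ h * w := by
  by_contra hcon
  have hS : Cfsg.IsSidkiPair (W.subgroupOf H) := by
    intro h v hv hodd hinv
    by_contra hno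
    push Not at hno
    apply hcon
    have h1 : Odd (orderOf (h : G)) := by rwa [Subgroup.orderOf_coe]
    have h2 : (v : G) * (h : G) * (v : G)⁻¹ = (h : G)⁻¹ := by
      have := congrArg Subtype.val hinv
      simpa using this
    have hall : ∀ w ∈ W, w ≠ 1 → w * (h : G) ≠ (h : G) * w := by
      intro w hw hw1 hc
      apply hno ⟨w, hWH hw⟩ (Subgroup.mem_subgroupOf.mpr hw)
      · intro h3
        apply hw1
        exact congrArg Subtype.val h3
      · apply Subtype.ext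
        rw [Subgroup.coe_mul, Subgroup.coe_mul]
        exact hc
    refine ⟨(h : G), (v : G), h.2, Subgroup.mem_subgroupOf.mp hv, h1, h2, ?_, hall⟩
    intro hh1
    obtain ⟨w', hw1'⟩ := (Subgroup.ne_bot_iff_exists_ne_one).mp hW
    obtain ⟨w, hw, hw1⟩ : ∃ w ∈ W, w ≠ 1 := ⟨(w' : G), w'.2, fun h => hw1' (Subtype.ext h)⟩
    apply hall w hw hw1
    rw [hh1, mul_one, one_mul]
  obtain ⟨y, hy, hy1, hyc⟩ := sk_minSub hmin hV H hH W hWH hWV hW hS
  exact hy1 (hcore y hy hyc)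

/-- With `O_2(G) = 1`: elements of `O_2(X)` centralize every normal subgroup of `G` inside `X`. -/
theorem sk_mem_centralizer_of_mem_pCoreOf (hO : Cfsg.pCore 2 G = ⊥) (K X : Subgroup G)
    [hK : K.Normal] (hKX : K ≤ X) {y : G} (hy : y ∈ Cfsg.pCoreOf 2 X) :
    y ∈ Subgroup.centralizer (K : Set G) := by
  rw [Subgroup.mem_centralizer_iff]
  intro k hk
  have h1 : k * y * k⁻¹ * y⁻¹ ∈ K ⊓ Cfsg.pCoreOf 2 X := by
    apply Subgroup.mem_inf.mpr
    constructor
    · have h2 : y * k⁻¹ * y⁻¹ ∈ K := hK.conj_mem _ (K.inv_mem hk) _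
      have h3 : k * y * k⁻¹ * y⁻¹ = k * (y * k⁻¹ * y⁻¹) := by group
      rw [h3]
      exact K.mul_mem hk h2
    · exact Subgroup.mul_mem _ (sk_conj_mem_pCoreOf X (hKX hk) hy) (Subgroup.inv_mem _ hy)
  rw [sk_inf_pCoreOf_eq_bot hO K X hKX, Subgroup.mem_bot] at h1
  calc k * y = (k * y * k⁻¹ * y⁻¹) * (y * k) := by group
    _ = y * k := by rw [h1, one_mul]

/-- Lemma B: if `K V` is a proper subgroup then `C_V(K) ≠ 1`. -/
theorem sk_cent_ne_bot (hmin : SkMin G) {V : Subgroup G} (hV : Cfsg.IsElementaryAbelian 2 V)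
    (hV1 : V ≠ ⊥) (hS : Cfsg.IsSidkiPair V) (hO : Cfsg.pCore 2 G = ⊥) (K : Subgroup G)
    [hK : K.Normal] (hKV : K ⊔ V ≠ ⊤) : V ⊓ Subgroup.centralizer (K : Set G) ≠ ⊥ := by
  obtain ⟨y, hy, hy1, hyc⟩ := sk_minSub hmin hV (K ⊔ V) hKV V le_sup_right le_rfl hV1
    (sk_sidki_subgroupOf hS _ le_sup_right)
  intro h
  apply hy1
  have : y ∈ V ⊓ Subgroup.centralizer (K : Set G) :=
    Subgroup.mem_inf.mpr ⟨hy, sk_mem_centralizer_of_mem_pCoreOf hO K _ le_sup_left hyc⟩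
  rw [h, Subgroup.mem_bot] at this
  exact this

/-- The key lemma: `C_V(K) = 1` for every nontrivial normal subgroup `K`. -/
theorem sk_cent_normal (hmin : SkMin G) {V : Subgroup G} (hV : Cfsg.IsElementaryAbelian 2 V)
    (hV1 : V ≠ ⊥) (hS : Cfsg.IsSidkiPair V) (hO : Cfsg.pCore 2 G = ⊥)
    (hZ : Subgroup.center G = ⊥) (K : Subgroup G) [hK : K.Normal] (hK1 : K ≠ ⊥) :
    V ⊓ Subgroup.centralizer (K : Set G) = ⊥ := by
  haveI : Fact (Nat.Prime 2) := ⟨Nat.prime_two⟩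
  by_contra hU
  obtain ⟨M, hM⟩ : ∃ M : Subgroup G, M = Subgroup.centralizer (K : Set G) := ⟨_, rfl⟩
  rw [← hM] at hU
  haveI hMn : M.Normal := by rw [hM]; exact Subgroup.normal_centralizer
  have hMtop : M ≠ ⊤ := by
    intro h
    rw [hM, Subgroup.centralizer_eq_top_iff_subset, hZ] at h
    apply hK1
    rw [eq_bot_iff]
    exact h
  have hcore : ∀ y ∈ V ⊓ M, y ∈ Cfsg.pCoreOf 2 M → y = 1 := by
    intro y _ hy
    have := pCoreOf_le_pCore_of_normal (p := 2) M hy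
    rwa [hO, Subgroup.mem_bot] at this
  obtain ⟨h, a, hhM, haU, hodd, hinv, hh1, hall⟩ :=
    sk_witness hmin hV M hMtop (V ⊓ M) inf_le_right inf_le_left hU hcore
  have haV : a ∈ V := (Subgroup.mem_inf.mp haU).1
  have haM : a ∈ M := (Subgroup.mem_inf.mp haU).2
  obtain ⟨C, hC⟩ : ∃ C : Subgroup G, C = Subgroup.centralizer ({a} : Set G) ⊓
      Subgroup.centralizer ({h} : Set G) := ⟨_, rfl⟩
  obtain ⟨hCV, hCS⟩ := Cfsg.Agent.S3013.result V hV hV1 hS a h haV hodd hinv C hC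
  have hCtop : C ≠ ⊤ := by
    intro htop
    have h1 : a ∈ C := by rw [htop]; exact Subgroup.mem_top _
    rw [hC] at h1
    have h2 := Subgroup.mem_centralizer_singleton_iff.mp (Subgroup.mem_inf.mp h1).2
    have h3 : h = h⁻¹ := by
      rw [← hinv, h2]; group
    apply hh1
    apply sk_eq_one_of_sq hodd
    calc h * h = h * h⁻¹ := by rw [← h3]
      _ = 1 := mul_inv_cancel h
  obtain ⟨y, hy, hy1, hyc⟩ := sk_minSub hmin hV C hCtop (C ⊓ V) inf_le_left inf_le_right hCV hCS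
  have hKC : K ≤ C := by
    intro k hk
    rw [hC]
    apply Subgroup.mem_inf.mpr
    constructor
    · rw [Subgroup.mem_centralizer_singleton_iff]
      rw [hM] at haM
      exact (Subgroup.mem_centralizer_iff.mp haM k hk)
    · rw [Subgroup.mem_centralizer_singleton_iff]
      rw [hM] at hhM
      exact (Subgroup.mem_centralizer_iff.mp hhM k hk)
  have hyM : y ∈ M := by
    rw [hM]
    exact sk_mem_centralizer_of_mem_pCoreOf hO K C hKC hyc
  have hyC : y ∈ C := (Subgroup.mem_inf.mp hy).1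
  have hyV : y ∈ V := (Subgroup.mem_inf.mp hy).2
  rw [hC] at hyC
  have h4 := Subgroup.mem_centralizer_singleton_iff.mp (Subgroup.mem_inf.mp hyC).2
  exact hall y (Subgroup.mem_inf.mpr ⟨hyV, hyM⟩) hy1 h4

/-- Step 4: `G = K V` for every nontrivial normal subgroup `K`. -/
theorem sk_sup_eq_top (hmin : SkMin G) {V : Subgroup G} (hV : Cfsg.IsElementaryAbelian 2 V)
    (hV1 : V ≠ ⊥) (hS : Cfsg.IsSidkiPair V) (hO : Cfsg.pCore 2 G = ⊥)
    (hZ : Subgroup.center G = ⊥) (K : Subgroup G) [hK : K.Normal] (hK1 : K ≠ ⊥) :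
    K ⊔ V = ⊤ := by
  by_contra h
  exact sk_cent_ne_bot hmin hV hV1 hS hO K h (sk_cent_normal hmin hV hV1 hS hO hZ K hK1)

end

end Cfsg.Agent.Lib.Helper13
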