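import Cfsg.Agent.Lib.Helper13.SidkiC
import Cfsg.Agent.Lib.Helper13.Conj

set_option autoImplicit false

/-! Sidki pairs: a minimal normal subgroup of a minimal counterexample is nonabelian (helper13). -/

namespace Cfsg.Agent.Lib.Helper13

universe u

section

variable {G : Type u} [Group G] [Finite G]

/-- `N` is a minimal normal subgroup of `G`. -/
structure SkMinNormal (N : Subgroup G) : Prop where
  normal : N.Normal
  ne_bot : N ≠ ⊥
  min : ∀ K : Subgroup G, K.Normal → K ≤ N → K = ⊥ ∨ K = N

theorem sk_exists_minNormal [Nontrivial G] : ∃ N : Subgroup G, SkMinNormal N := by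
  have hne : {K : Subgroup G | K.Normal ∧ K ≠ ⊥}.Nonempty :=
    ⟨⊤, inferInstance, top_ne_bot⟩
  obtain ⟨N, ⟨hNn, hN1⟩, hmin⟩ := wellFounded_lt.has_min _ hne
  refine ⟨N, hNn, hN1, ?_⟩
  intro K hKn hKN
  by_cases hK : K = ⊥
  · exact Or.inl hK
  · right
    by_contra hne'
    exact hmin K ⟨hKn, hK⟩ (lt_of_le_of_ne hKN hne')

/-- A subgroup normalized by `N` and `V` with `N V = G` is normal. -/
theorem sk_normal_of_sup {N V D : Subgroup G} (hNV : N ⊔ V = ⊤)
    (h1 : N ≤ Subgroup.normalizer (D : Set G)) (h2 : V ≤ Subgroup.normalizer (D : Set G)) :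
    D.Normal := by
  apply Subgroup.normalizer_eq_top_iff.mp
  rw [eq_top_iff, ← hNV]
  exact sup_le h1 h2

/-- If all nonidentity elements of `V` coincide then `|V| ≤ 4`. -/
theorem sk_card_le_four {V : Subgroup G}
    (h : ∀ a ∈ V, ∀ b ∈ V, a ≠ 1 → b ≠ 1 → a = b) : Nat.card ↥V ≤ 4 := by
  classical
  let f : ↥V → Bool := fun x => decide ((x : G) = 1)
  have hf : Function.Injective f := by
    intro x y hxy
    simp only [f, decide_eq_decide] at hxy
    by_cases hx : (x : G) = 1
    · have hy := hxy.mp hx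
      exact Subtype.ext (hx.trans hy.symm)
    · have hy : (y : G) ≠ 1 := fun hy => hx (hxy.mpr hy)
      exact Subtype.ext (h x x.2 y y.2 hx hy)
  have := Nat.card_le_card_of_injective f hf
  have h2 : Nat.card Bool = 2 := by simp
  omega

theorem sk_minNormal_not_comm (hmin : SkMin G) {V : Subgroup G}
    (hV : Cfsg.IsElementaryAbelian 2 V) (hV1 : V ≠ ⊥) (hS : Cfsg.IsSidkiPair V)
    (hO : Cfsg.pCore 2 G = ⊥) (hZ : Subgroup.center G = ⊥) {N : Subgroup G}
    (hN : SkMinNormal N) : ¬ (∀ a ∈ N, ∀ b ∈ N, a * b = b * a) := by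
  haveI : Fact (Nat.Prime 2) := ⟨Nat.prime_two⟩
  intro hc
  haveI hNn : N.Normal := hN.normal
  have hNV : N ⊔ V = ⊤ := sk_sup_eq_top hmin hV hV1 hS hO hZ N hN.ne_bot
  have hCV : V ⊓ Subgroup.centralizer (N : Set G) = ⊥ :=
    sk_cent_normal hmin hV hV1 hS hO hZ N hN.ne_bot
  have hab := sk_comm hV
  have hsq := sk_sq hV
  have hinv := sk_inv hV
  -- every nonidentity element of `V` inverts `N`
  have claimA : ∀ v ∈ V, v ≠ 1 → ∀ n ∈ N, v * n * v⁻¹ = n⁻¹ := by
    intro v hv hv1
    -- the fixed points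
    have hDp : N ⊓ Subgroup.centralizer ({v} : Set G) = ⊥ := by
      have hDn : (N ⊓ Subgroup.centralizer ({v} : Set G)).Normal := by
        apply sk_normal_of_sup hNV
        · intro n hn
          apply mem_normalizer_of_cj_le
          intro x hx
          have hx' := mem_cj.mp hx
          have h1 : n⁻¹ * x * n ∈ N := (Subgroup.mem_inf.mp hx').1
          have h2 : x = n⁻¹ * x * n := by
            have := hc n hn _ h1
            calc x = n * (n⁻¹ * x * n) * n⁻¹ := by group
              _ = (n⁻¹ * x * n) * n * n⁻¹ := by rw [this]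
              _ = n⁻¹ * x * n := by group
          rw [h2]; exact hx'
        · intro w hw
          apply mem_normalizer_of_cj_le
          intro x hx
          have hx' := mem_cj.mp hx
          apply Subgroup.mem_inf.mpr
          constructor
          · have h1 : w⁻¹ * x * w ∈ N := (Subgroup.mem_inf.mp hx').1
            have := hNn.conj_mem _ h1 w
            have e : w * (w⁻¹ * x * w) * w⁻¹ = x := by group
            rwa [e] at this
          · have h1 := Subgroup.mem_centralizer_singleton_iff.mp (Subgroup.mem_inf.mp hx').2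
            rw [Subgroup.mem_centralizer_singleton_iff]
            have hwv := hab w hw v hv
            have hvw : v * w⁻¹ = w⁻¹ * v := by
              calc v * w⁻¹ = w⁻¹ * (w * v) * w⁻¹ := by group
                _ = w⁻¹ * (v * w) * w⁻¹ := by rw [hwv]
                _ = w⁻¹ * v := by group
            calc x * v = w * ((w⁻¹ * x * w) * v) * (v⁻¹ * w⁻¹ * v) := by group
              _ = w * (v * (w⁻¹ * x * w)) * (v⁻¹ * w⁻¹ * v) := by rw [h1]
              _ = (w * v) * w⁻¹ * x * w * v⁻¹ * (w⁻¹ * v) := by group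
              _ = (v * w) * w⁻¹ * x * w * v⁻¹ * (v * w⁻¹) := by rw [hwv, hvw]
              _ = v * x := by group
      rcases hN.min _ hDn inf_le_left with h | h
      · exact h
      · exfalso
        apply hv1
        have h1 : v ∈ V ⊓ Subgroup.centralizer (N : Set G) := by
          apply Subgroup.mem_inf.mpr
          refine ⟨hv, ?_⟩
          rw [Subgroup.mem_centralizer_iff]
          intro n hn
          have : n ∈ N ⊓ Subgroup.centralizer ({v} : Set G) := by rw [h]; exact hn
          exact Subgroup.mem_centralizer_singleton_iff.mp (Subgroup.mem_inf.mp this).2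
        rw [hCV, Subgroup.mem_bot] at h1
        exact h1
    -- the inverted elements
    let Dm : Subgroup G :=
      { carrier := {n | n ∈ N ∧ v * n * v⁻¹ = n⁻¹}
        one_mem' := ⟨N.one_mem, by simp⟩
        mul_mem' := by
          rintro a b ⟨ha, ha'⟩ ⟨hb, hb'⟩
          refine ⟨N.mul_mem ha hb, ?_⟩
          have e : v * (a * b) * v⁻¹ = (v * a * v⁻¹) * (v * b * v⁻¹) := by group
          rw [e, ha', hb', mul_inv_rev]
          exact hc _ (N.inv_mem ha) _ (N.inv_mem hb)
        inv_mem' := by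
          rintro a ⟨ha, ha'⟩
          refine ⟨N.inv_mem ha, ?_⟩
          have e : v * a⁻¹ * v⁻¹ = (v * a * v⁻¹)⁻¹ := by group
          rw [e, ha'] }
    have hDm_mem : ∀ n, n ∈ Dm ↔ n ∈ N ∧ v * n * v⁻¹ = n⁻¹ := fun n => Iff.rfl
    have hDmN : Dm ≤ N := fun n hn => ((hDm_mem n).mp hn).1
    have hDmn : Dm.Normal := by
      apply sk_normal_of_sup hNV
      · intro n hn
        apply mem_normalizer_of_cj_le
        intro x hx
        have hx' := mem_cj.mp hx
        have h1 : n⁻¹ * x * n ∈ N := hDmN hx'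
        have h2 : x = n⁻¹ * x * n := by
          have := hc n hn _ h1
          calc x = n * (n⁻¹ * x * n) * n⁻¹ := by group
            _ = (n⁻¹ * x * n) * n * n⁻¹ := by rw [this]
            _ = n⁻¹ * x * n := by group
        rw [h2]; exact hx'
      · intro w hw
        apply mem_normalizer_of_cj_le
        intro x hx
        have hx' := mem_cj.mp hx
        obtain ⟨h1, h2⟩ := (hDm_mem _).mp hx'
        rw [hDm_mem]
        constructor
        · have := hNn.conj_mem _ h1 w
          have e : w * (w⁻¹ * x * w) * w⁻¹ = x := by group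
          rwa [e] at this
        · have hwv := hab w hw v hv
          have hvw : v * w⁻¹ = w⁻¹ * v := by
            calc v * w⁻¹ = w⁻¹ * (w * v) * w⁻¹ := by group
              _ = w⁻¹ * (v * w) * w⁻¹ := by rw [hwv]
              _ = w⁻¹ * v := by group
          have e1 : v * x * v⁻¹ = w * (v * (w⁻¹ * x * w) * v⁻¹) * w⁻¹ := by
            calc v * x * v⁻¹ = (v * w) * (w⁻¹ * x * w) * (w⁻¹ * v⁻¹) := by group
              _ = (w * v) * (w⁻¹ * x * w) * (v⁻¹ * w⁻¹) := by
                  rw [← hwv]
                  have : w⁻¹ * v⁻¹ = v⁻¹ * w⁻¹ := by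
                    calc w⁻¹ * v⁻¹ = (v * w)⁻¹ := by group
                      _ = (w * v)⁻¹ := by rw [hwv]
                      _ = v⁻¹ * w⁻¹ := by group
                  rw [this]
              _ = w * (v * (w⁻¹ * x * w) * v⁻¹) * w⁻¹ := by group
          rw [e1, h2]; group
    have hDm1 : Dm ≠ ⊥ := by
      obtain ⟨n', hn1'⟩ := (Subgroup.ne_bot_iff_exists_ne_one).mp hN.ne_bot
      obtain ⟨n, hn, hn1⟩ : ∃ n ∈ N, n ≠ 1 := ⟨(n' : G), n'.2, fun h => hn1' (Subtype.ext h)⟩
      intro hbot
      have hvn : v * n * v⁻¹ ∈ N := hNn.conj_mem _ hn v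
      have hm : n⁻¹ * (v * n * v⁻¹) ∈ Dm := by
        rw [hDm_mem]
        refine ⟨N.mul_mem (N.inv_mem hn) hvn, ?_⟩
        have e : v * (n⁻¹ * (v * n * v⁻¹)) * v⁻¹ = (v * n * v⁻¹)⁻¹ * ((v * v) * n * (v * v)⁻¹) := by
          group
        rw [e, hsq v hv, one_mul, inv_one, mul_one]
        have e2 : (n⁻¹ * (v * n * v⁻¹))⁻¹ = (v * n * v⁻¹)⁻¹ * n := by group
        rw [e2]
      rw [hbot, Subgroup.mem_bot] at hm
      have hfix : v * n * v⁻¹ = n := by
        calc v * n * v⁻¹ = n * (n⁻¹ * (v * n * v⁻¹)) := by group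
          _ = n := by rw [hm, mul_one]
      have : n ∈ N ⊓ Subgroup.centralizer ({v} : Set G) := by
        apply Subgroup.mem_inf.mpr
        refine ⟨hn, ?_⟩
        rw [Subgroup.mem_centralizer_singleton_iff]
        calc n * v = (v * n * v⁻¹) * v := by rw [hfix]
          _ = v * n := by group
      rw [hDp, Subgroup.mem_bot] at this
      exact hn1 this
    rcases hN.min _ hDmn hDmN with h | h
    · exact absurd h hDm1
    · intro n hn
      have : n ∈ Dm := by rw [h]; exact hn
      exact ((hDm_mem n).mp this).2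
  -- all nonidentity elements of `V` coincide
  have claimB : ∀ a ∈ V, ∀ b ∈ V, a ≠ 1 → b ≠ 1 → a = b := by
    intro a ha b hb ha1 hb1
    by_contra hne
    have hu1 : a * b ≠ 1 := by
      intro h
      apply hne
      have : a = b⁻¹ := eq_inv_of_mul_eq_one_left h
      rw [this, hinv b hb]
    have hN2 : IsPGroup 2 ↥N := by
      intro n
      refine ⟨1, ?_⟩
      apply Subtype.ext
      rw [pow_one, Subgroup.coe_pow, Subgroup.coe_one, pow_two]
      have h1 := claimA (a * b) (V.mul_mem ha hb) hu1 n n.2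
      have h2 : a * b * (n : G) * (a * b)⁻¹ = a * (b * n * b⁻¹) * a⁻¹ := by group
      have h3 : b * (n : G) * b⁻¹ = (n : G)⁻¹ := claimA b hb hb1 n n.2
      have h4 : a * (n : G)⁻¹ * a⁻¹ = ((n : G)⁻¹)⁻¹ := claimA a ha ha1 _ (N.inv_mem n.2)
      rw [h2, h3, h4, inv_inv] at h1
      calc (n : G) * n = (n : G) * (n : G)⁻¹ := by rw [← h1]
        _ = 1 := mul_inv_cancel _
    have := Cfsg.Agent.Lib.Helper1.le_pCore hNn hN2
    rw [hO] at this
    exact hN.ne_bot (le_bot_iff.mp this)
  have h4 := sk_card_le_four claimB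
  have := Cfsg.Agent.S3011.result V hV hV1 hS h4
  rw [hO, inf_bot_eq] at this
  exact this rfl

end

end Cfsg.Agent.Lib.Helper13
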