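import Cfsg.Agent.Lib.Helper13.SidkiD
import Cfsg.Agent.Lib.Helper13.WcElemE
import Cfsg.Agent.Lib.Helper13.FusionLift

set_option autoImplicit false

/-! Sidki pairs: a nonabelian minimal normal subgroup of a minimal counterexample is simple
(helper13). Part 1: minimal invariant subgroups. -/

namespace Cfsg.Agent.Lib.Helper13

universe u

section

variable {G : Type u} [Group G] [Finite G]

local notation:max "cj(" g ", " L ")" => Subgroup.map (MulEquiv.toMonoidHom (MulAut.conj g)) L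

theorem sk_conj_mem_of_normalizer {L : Subgroup G} {n x : G}
    (hn : n ∈ Subgroup.normalizer (L : Set G)) (hx : x ∈ L) : n * x * n⁻¹ ∈ L :=
  (Subgroup.mem_normalizer_iff.mp hn x).mp hx

theorem sk_conj_mem_of_normalizer' {L : Subgroup G} {n x : G}
    (hn : n ∈ Subgroup.normalizer (L : Set G)) (hx : x ∈ L) : n⁻¹ * x * n ∈ L := by
  have := sk_conj_mem_of_normalizer ((Subgroup.normalizer (L : Set G)).inv_mem hn) hx
  rwa [inv_inv] at this

/-- `L` is a minimal nontrivial `N`-invariant subgroup of `N`. -/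
structure SkMinInv (N L : Subgroup G) : Prop where
  le : L ≤ N
  ne_bot : L ≠ ⊥
  inv : N ≤ Subgroup.normalizer (L : Set G)
  min : ∀ K : Subgroup G, K ≤ L → N ≤ Subgroup.normalizer (K : Set G) → K = ⊥ ∨ K = L

theorem sk_exists_minInv {N K : Subgroup G} (hKN : K ≤ N) (hK1 : K ≠ ⊥)
    (hK : N ≤ Subgroup.normalizer (K : Set G)) : ∃ L, L ≤ K ∧ SkMinInv N L := by
  have hne : {L : Subgroup G | L ≤ K ∧ L ≠ ⊥ ∧ N ≤ Subgroup.normalizer (L : Set G)}.Nonempty :=
    ⟨K, le_rfl, hK1, hK⟩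
  obtain ⟨L, ⟨hLK, hL1, hLn⟩, hmin⟩ := wellFounded_lt.has_min _ hne
  refine ⟨L, hLK, hLK.trans hKN, hL1, hLn, ?_⟩
  intro M hML hMn
  by_cases hM : M = ⊥
  · exact Or.inl hM
  · right
    by_contra hne'
    exact hmin M ⟨hML.trans hLK, hM, hMn⟩ (lt_of_le_of_ne hML hne')

theorem sk_cj_normal (N : Subgroup G) [hN : N.Normal] (g : G) : cj(g, N) = N :=
  mem_normalizer_iff_cj_eq.mp (by
    rw [Subgroup.normalizer_eq_top_iff.mpr hN]; exact Subgroup.mem_top _)

theorem sk_le_normalizer_cj {N K : Subgroup G} [hN : N.Normal]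
    (hK : N ≤ Subgroup.normalizer (K : Set G)) (g : G) :
    N ≤ Subgroup.normalizer ((cj(g, K) : Subgroup G) : Set G) := by
  calc N = cj(g, N) := (sk_cj_normal N g).symm
    _ ≤ cj(g, Subgroup.normalizer (K : Set G)) := cj_mono hK
    _ = Subgroup.normalizer ((cj(g, K) : Subgroup G) : Set G) := (normalizer_cj g K).symm

theorem sk_minInv_cj {N L : Subgroup G} [hN : N.Normal] (hL : SkMinInv N L) (g : G) :
    SkMinInv N cj(g, L) := by
  refine ⟨(cj_mono hL.le).trans (le_of_eq (sk_cj_normal N g)), ?_, sk_le_normalizer_cj hL.inv g, ?_⟩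
  · intro h
    exact hL.ne_bot ((Subgroup.map_eq_bot_iff_of_injective L (MulAut.conj g).injective).mp h)
  · intro K hK hKn
    have h1 : cj(g⁻¹, K) ≤ L := cj_le_iff.mpr (by rwa [inv_inv])
    have h2 := sk_le_normalizer_cj hKn g⁻¹
    have h3 : cj(g, cj(g⁻¹, K)) = K := cj_cj_inv g K
    rcases hL.min _ h1 h2 with h | h
    · left
      rw [← h3, h, Subgroup.map_bot]
    · right
      rw [← h3, h]

theorem sk_minInv_inf {N L L' : Subgroup G} (hL : SkMinInv N L) (hL' : SkMinInv N L')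
    (hne : L ≠ L') : L ⊓ L' = ⊥ := by
  have hinv : N ≤ Subgroup.normalizer ((L ⊓ L' : Subgroup G) : Set G) := by
    intro n hn
    apply mem_normalizer_of_cj_le
    intro x hx
    obtain ⟨h1, h2⟩ := Subgroup.mem_inf.mp (mem_cj.mp hx)
    have e : x = n * (n⁻¹ * x * n) * n⁻¹ := by group
    rw [e]
    exact Subgroup.mem_inf.mpr ⟨sk_conj_mem_of_normalizer (hL.inv hn) h1,
      sk_conj_mem_of_normalizer (hL'.inv hn) h2⟩
  rcases hL.min _ inf_le_left hinv with h | h
  · exact h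
  · exfalso
    have hLL' : L ≤ L' := by rw [← h]; exact inf_le_right
    rcases hL'.min L hLL' hL.inv with h' | h'
    · exact hL.ne_bot h'
    · exact hne h'

theorem sk_minInv_comm {N L L' : Subgroup G} (hL : SkMinInv N L) (hL' : SkMinInv N L')
    (hne : L ≠ L') : ∀ a ∈ L, ∀ b ∈ L', a * b = b * a := by
  intro a ha b hb
  have h1 : a * b * a⁻¹ * b⁻¹ ∈ L ⊓ L' := by
    apply Subgroup.mem_inf.mpr
    constructor
    · have : b * a⁻¹ * b⁻¹ ∈ L := sk_conj_mem_of_normalizer (hL.inv (hL'.le hb)) (L.inv_mem ha)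
      have e : a * b * a⁻¹ * b⁻¹ = a * (b * a⁻¹ * b⁻¹) := by group
      rw [e]; exact L.mul_mem ha this
    · have : a * b * a⁻¹ ∈ L' := sk_conj_mem_of_normalizer (hL'.inv (hL.le ha)) hb
      exact L'.mul_mem this (L'.inv_mem hb)
  rw [sk_minInv_inf hL hL' hne, Subgroup.mem_bot] at h1
  calc a * b = (a * b * a⁻¹ * b⁻¹) * (b * a) := by group
    _ = b * a := by rw [h1, one_mul]

/-- Every conjugate of `L` is a conjugate under `V`. -/
theorem sk_cj_eq {N V L : Subgroup G} [hN : N.Normal] (hNV : N ⊔ V = ⊤) (hL : SkMinInv N L)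
    (g : G) : ∃ v ∈ V, cj(g, L) = cj(v, L) := by
  have hg : g ∈ N ⊔ V := by rw [hNV]; exact Subgroup.mem_top g
  obtain ⟨n, hn, v, hv, rfl⟩ := Subgroup.mem_sup_of_normal_left.mp hg
  refine ⟨v, hv, ?_⟩
  rw [← cj_cj]
  exact mem_normalizer_iff_cj_eq.mp ((sk_minInv_cj hL v).inv hn)

theorem sk_mem_centralizer {N V L : Subgroup G} (hN : SkMinNormal N) (hNV : N ⊔ V = ⊤)
    (hL : SkMinInv N L) {x : G} (hx : ∀ v ∈ V, ∀ y ∈ cj(v, L), x * y = y * x) :
    x ∈ Subgroup.centralizer (N : Set G) := by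
  haveI := hN.normal
  have h1 : Subgroup.normalClosure (L : Set G) = N := by
    rcases hN.min _ Subgroup.normalClosure_normal (Subgroup.normalClosure_le_normal hL.le) with h | h
    · exfalso; apply hL.ne_bot; rw [eq_bot_iff, ← h]; exact Subgroup.le_normalClosure
    · exact h
  have h2 : N ≤ Subgroup.centralizer ({x} : Set G) := by
    rw [← h1]
    apply (Subgroup.closure_le _).mpr
    intro y hy
    obtain ⟨a, ha, hay⟩ := Group.mem_conjugatesOfSet_iff.mp hy
    obtain ⟨g, rfl⟩ := isConj_iff.mp hay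
    obtain ⟨v, hv, hgv⟩ := sk_cj_eq hNV hL g
    have : g * a * g⁻¹ ∈ cj(v, L) := by rw [← hgv]; exact cj_mem ha
    rw [SetLike.mem_coe, Subgroup.mem_centralizer_singleton_iff]
    exact (hx v hv _ this).symm
  rw [Subgroup.mem_centralizer_iff]
  intro n hn
  exact Subgroup.mem_centralizer_singleton_iff.mp (h2 hn)

theorem sk_inf_centralizer {N : Subgroup G} (hN : SkMinNormal N)
    (hc : ¬ (∀ a ∈ N, ∀ b ∈ N, a * b = b * a)) : N ⊓ Subgroup.centralizer (N : Set G) = ⊥ := by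
  haveI := hN.normal
  rcases hN.min (N ⊓ Subgroup.centralizer (N : Set G)) inferInstance inf_le_left with h | h
  · exact h
  · exfalso
    apply hc
    intro a ha b hb
    have h1 : a ∈ N ⊓ Subgroup.centralizer (N : Set G) := by rw [h]; exact ha
    exact ((Subgroup.mem_centralizer_iff.mp (Subgroup.mem_inf.mp h1).2) b hb).symm

theorem sk_le_normalizer_pCoreOf (p : ℕ) (L : Subgroup G) :
    L ≤ Subgroup.normalizer ((Cfsg.pCoreOf p L : Subgroup G) : Set G) := by
  intro l hl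
  apply mem_normalizer_of_cj_le
  intro x hx
  have h1 := mem_cj.mp hx
  have e : x = l * (l⁻¹ * x * l) * l⁻¹ := by group
  rw [e]
  exact sk_conj_mem_pCoreOf L hl h1

theorem sk_pCoreOf_le (p : ℕ) (L : Subgroup G) : Cfsg.pCoreOf p L ≤ L := by
  rintro _ ⟨d, _, rfl⟩
  exact d.2

theorem sk_pCoreOf_isPGroup (p : ℕ) [Fact p.Prime] (L : Subgroup G) :
    IsPGroup p ↥(Cfsg.pCoreOf p L) :=
  (Cfsg.Agent.Lib.Helper1.pCore_isPGroup p).map _

/-- The `p`-core of `L` is invariant under the normalizer of `L`. -/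
theorem sk_normalizer_le_normalizer_pCoreOf (p : ℕ) [Fact p.Prime] (L : Subgroup G) :
    Subgroup.normalizer (L : Set G) ≤
      Subgroup.normalizer ((Cfsg.pCoreOf p L : Subgroup G) : Set G) := by
  intro n hn
  apply mem_normalizer_of_cj_le
  have hLn : cj(n, L) = L := mem_normalizer_iff_cj_eq.mp hn
  apply wc_le_pCoreOf
  · calc cj(n, Cfsg.pCoreOf p L) ≤ cj(n, L) := cj_mono (sk_pCoreOf_le p L)
      _ = L := hLn
  · exact isPGroup_cj n (sk_pCoreOf_isPGroup p L)
  · calc L = cj(n, L) := hLn.symm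
      _ ≤ cj(n, Subgroup.normalizer ((Cfsg.pCoreOf p L : Subgroup G) : Set G)) :=
          cj_mono (sk_le_normalizer_pCoreOf p L)
      _ = _ := (normalizer_cj n _).symm

end

end Cfsg.Agent.Lib.Helper13
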