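import Cfsg.Agent.Lib.Helper13.SidkiE

set_option autoImplicit false

/-! Sidki pairs: a nonabelian minimal normal subgroup of a minimal counterexample is simple
(helper13). Part 2: a minimal invariant subgroup of `N` is `N`. -/

namespace Cfsg.Agent.Lib.Helper13

universe u

section

variable {G : Type u} [Group G] [Finite G]

local notation:max "cj(" g ", " L ")" => Subgroup.map (MulEquiv.toMonoidHom (MulAut.conj g)) L

/-- The running hypotheses. -/
structure SkCtx (V N L : Subgroup G) : Prop where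
  hmin : SkMin G
  hV : Cfsg.IsElementaryAbelian 2 V
  hV1 : V ≠ ⊥
  hS : Cfsg.IsSidkiPair V
  hO : Cfsg.pCore 2 G = ⊥
  hZ : Subgroup.center G = ⊥
  hN : SkMinNormal N
  hc : ¬ (∀ a ∈ N, ∀ b ∈ N, a * b = b * a)
  hL : SkMinInv N L

variable {V N L : Subgroup G}

theorem SkCtx.hNV (c : SkCtx V N L) : N ⊔ V = ⊤ :=
  haveI := c.hN.normal
  sk_sup_eq_top c.hmin c.hV c.hV1 c.hS c.hO c.hZ N c.hN.ne_bot

theorem SkCtx.hCV (c : SkCtx V N L) : V ⊓ Subgroup.centralizer (N : Set G) = ⊥ :=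
  haveI := c.hN.normal
  sk_cent_normal c.hmin c.hV c.hV1 c.hS c.hO c.hZ N c.hN.ne_bot

theorem SkCtx.cent_L (c : SkCtx V N L) {v : G} (hv : v ∈ V)
    (hvL : v ∈ Subgroup.centralizer (L : Set G)) : v = 1 := by
  have h1 : v ∈ Subgroup.centralizer (N : Set G) := by
    apply sk_mem_centralizer c.hN c.hNV c.hL
    intro w hw y hy
    have hl : w⁻¹ * y * w ∈ L := mem_cj.mp hy
    have hvl : (w⁻¹ * y * w) * v = v * (w⁻¹ * y * w) := Subgroup.mem_centralizer_iff.mp hvL _ hl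
    have hvw : v * w = w * v := sk_comm c.hV v hv w hw
    have hvw' : v * w⁻¹ = w⁻¹ * v := sk_comm c.hV v hv _ (V.inv_mem hw)
    calc v * y = (v * w) * (w⁻¹ * y * w) * w⁻¹ := by group
      _ = (w * v) * (w⁻¹ * y * w) * w⁻¹ := by rw [hvw]
      _ = w * (v * (w⁻¹ * y * w)) * w⁻¹ := by group
      _ = w * ((w⁻¹ * y * w) * v) * w⁻¹ := by rw [hvl]
      _ = w * (w⁻¹ * y * w) * (v * w⁻¹) := by group
      _ = w * (w⁻¹ * y * w) * (w⁻¹ * v) := by rw [hvw']
      _ = y * v := by group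
  have h2 : v ∈ V ⊓ Subgroup.centralizer (N : Set G) := Subgroup.mem_inf.mpr ⟨hv, h1⟩
  rw [c.hCV, Subgroup.mem_bot] at h2
  exact h2

theorem SkCtx.not_comm (c : SkCtx V N L) : ¬ (∀ a ∈ L, ∀ b ∈ L, a * b = b * a) := by
  intro hab
  haveI := c.hN.normal
  apply c.hL.ne_bot
  rw [eq_bot_iff]
  intro x hx
  have h1 : x ∈ Subgroup.centralizer (N : Set G) := by
    apply sk_mem_centralizer c.hN c.hNV c.hL
    intro w _ y hy
    by_cases h : cj(w, L) = L
    · rw [h] at hy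
      exact hab x hx y hy
    · exact sk_minInv_comm c.hL (sk_minInv_cj c.hL w) (Ne.symm h) x hx y hy
  have h2 : x ∈ N ⊓ Subgroup.centralizer (N : Set G) := Subgroup.mem_inf.mpr ⟨c.hL.le hx, h1⟩
  rw [sk_inf_centralizer c.hN c.hc] at h2
  exact h2

theorem SkCtx.center_L (c : SkCtx V N L) : L ⊓ Subgroup.centralizer (L : Set G) = ⊥ := by
  have hinv : N ≤ Subgroup.normalizer ((L ⊓ Subgroup.centralizer (L : Set G) : Subgroup G) : Set G) := by
    intro n hn
    apply mem_normalizer_of_cj_le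
    intro x hx
    obtain ⟨h1, h2⟩ := Subgroup.mem_inf.mp (mem_cj.mp hx)
    have e : x = n * (n⁻¹ * x * n) * n⁻¹ := by group
    rw [e]
    exact Subgroup.mem_inf.mpr ⟨sk_conj_mem_of_normalizer (c.hL.inv hn) h1,
      fl_conj_mem_centralizer_of_mem_normalizer (c.hL.inv hn) h2⟩
  rcases c.hL.min _ inf_le_left hinv with h | h
  · exact h
  · exfalso
    apply c.not_comm
    intro a ha b hb
    have h1 : a ∈ L ⊓ Subgroup.centralizer (L : Set G) := by rw [h]; exact ha
    exact ((Subgroup.mem_centralizer_iff.mp (Subgroup.mem_inf.mp h1).2) b hb).symm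

theorem SkCtx.core_L (c : SkCtx V N L) : Cfsg.pCoreOf 2 L = ⊥ := by
  haveI : Fact (Nat.Prime 2) := ⟨Nat.prime_two⟩
  have hinv : N ≤ Subgroup.normalizer ((Cfsg.pCoreOf 2 L : Subgroup G) : Set G) :=
    c.hL.inv.trans (sk_normalizer_le_normalizer_pCoreOf 2 L)
  rcases c.hL.min _ (sk_pCoreOf_le 2 L) hinv with h | h
  · exact h
  · exfalso
    have hLp : IsPGroup 2 ↥L := by
      have := sk_pCoreOf_isPGroup 2 L
      rwa [h] at this
    haveI : Nontrivial ↥L := (Subgroup.nontrivial_iff_ne_bot L).mpr c.hL.ne_bot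
    have hZn : Nontrivial ↥(Subgroup.center ↥L) := hLp.center_nontrivial
    obtain ⟨z, hz⟩ := exists_ne (1 : ↥(Subgroup.center ↥L))
    have h1 : ((z : ↥L) : G) ∈ L ⊓ Subgroup.centralizer (L : Set G) := by
      apply Subgroup.mem_inf.mpr
      refine ⟨(z : ↥L).2, ?_⟩
      rw [Subgroup.mem_centralizer_iff]
      intro l hl
      have := Subgroup.mem_center_iff.mp z.2 ⟨l, hl⟩
      exact congrArg Subtype.val this
    rw [c.center_L, Subgroup.mem_bot] at h1
    apply hz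
    apply Subtype.ext
    apply Subtype.ext
    exact h1

theorem SkCtx.exists_odd (c : SkCtx V N L) : ∃ y ∈ L, y ≠ 1 ∧ Odd (orderOf y) := by
  haveI : Fact (Nat.Prime 2) := ⟨Nat.prime_two⟩
  have hnp : ¬ IsPGroup 2 ↥L := by
    intro hp
    have := wc_le_pCoreOf (p := 2) (le_refl L) hp Subgroup.le_normalizer
    rw [c.core_L] at this
    exact c.hL.ne_bot (le_bot_iff.mp this)
  unfold IsPGroup at hnp
  push Not at hnp
  obtain ⟨x, hx⟩ := hnp
  obtain ⟨a, m, hm, hn⟩ := Nat.exists_eq_two_pow_mul_odd (orderOf_pos (x : G)).ne'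
  refine ⟨(x : G) ^ 2 ^ a, L.pow_mem x.2 _, ?_, ?_⟩
  · intro h
    apply hx a
    apply Subtype.ext
    rw [Subgroup.coe_pow, Subgroup.coe_one]
    exact h
  · have h1 : ((x : G) ^ 2 ^ a) ^ m = 1 := by
      rw [← pow_mul, ← hn]
      exact pow_orderOf_eq_one _
    exact Odd.of_dvd_nat hm (orderOf_dvd_of_pow_eq_one h1)

end

end Cfsg.Agent.Lib.Helper13
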