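import Cfsg.Agent.Lib.Helper13.SidkiF

set_option autoImplicit false

/-! Sidki pairs: a nonabelian minimal normal subgroup of a minimal counterexample is simple
(helper13). Part 3: the two cases. -/

namespace Cfsg.Agent.Lib.Helper13

universe u

section

variable {G : Type u} [Group G] [Finite G]

local notation:max "cj(" g ", " L ")" => Subgroup.map (MulEquiv.toMonoidHom (MulAut.conj g)) L

variable {V N L : Subgroup G}

/-- Case 1: no nonidentity element of `V` normalizes `L`. -/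
theorem SkCtx.case1 (c : SkCtx V N L) (h1 : ∀ v ∈ V, v ≠ 1 → cj(v, L) ≠ L) : False := by
  haveI := c.hN.normal
  have hsq := sk_sq c.hV
  have hinv := sk_inv c.hV
  obtain ⟨v', hv1'⟩ := (Subgroup.ne_bot_iff_exists_ne_one).mp c.hV1
  obtain ⟨v, hv, hv1⟩ : ∃ v ∈ V, v ≠ 1 := ⟨(v' : G), v'.2, fun h => hv1' (Subtype.ext h)⟩
  obtain ⟨y, hy, hy1, hyodd⟩ := c.exists_odd
  have hLv : SkMinInv N cj(v, L) := sk_minInv_cj c.hL v
  have hne_v : L ≠ cj(v, L) := Ne.symm (h1 v hv hv1)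
  have commv := sk_minInv_comm c.hL hLv hne_v
  have hyv : v * y * v⁻¹ ∈ cj(v, L) := cj_mem hy
  -- the element x
  have hxodd : Odd (orderOf (y⁻¹ * (v * y * v⁻¹))) := by
    have hcm : Commute y⁻¹ (v * y * v⁻¹) := commv _ (L.inv_mem hy) _ hyv
    have h2 : (y⁻¹ * (v * y * v⁻¹)) ^ orderOf y = 1 := by
      rw [hcm.mul_pow, inv_pow, conj_pow, pow_orderOf_eq_one]
      group
    exact Odd.of_dvd_nat hyodd (orderOf_dvd_of_pow_eq_one h2)
  have hxinv : v * (y⁻¹ * (v * y * v⁻¹)) * v⁻¹ = (y⁻¹ * (v * y * v⁻¹))⁻¹ := by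
    calc v * (y⁻¹ * (v * y * v⁻¹)) * v⁻¹ = (v * y⁻¹ * v⁻¹) * ((v * v) * y * (v * v)⁻¹) := by group
      _ = (v * y⁻¹ * v⁻¹) * y := by rw [hsq v hv]; group
      _ = (y⁻¹ * (v * y * v⁻¹))⁻¹ := by group
  obtain ⟨w, hw, hw1, hwx⟩ := c.hS _ v hv hxodd hxinv
  by_cases hwv : w = v
  · rw [hwv] at hwx
    have e1 : v * (y⁻¹ * (v * y * v⁻¹)) * v⁻¹ = y⁻¹ * (v * y * v⁻¹) := by
      rw [hwx]; group
    rw [e1] at hxinv
    have e2 : (y⁻¹ * (v * y * v⁻¹)) * (y⁻¹ * (v * y * v⁻¹)) = 1 := by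
      nth_rewrite 1 [hxinv]
      exact inv_mul_cancel _
    have e3 := sk_eq_one_of_sq hxodd e2
    have e4 : y = v * y * v⁻¹ := by
      calc y = y * (y⁻¹ * (v * y * v⁻¹)) := by rw [e3, mul_one]
        _ = v * y * v⁻¹ := by group
    have e5 : y ∈ L ⊓ cj(v, L) := Subgroup.mem_inf.mpr ⟨hy, by rw [e4]; exact hyv⟩
    rw [sk_minInv_inf c.hL hLv hne_v, Subgroup.mem_bot] at e5
    exact hy1 e5
  · have hu : w * v ∈ V := V.mul_mem hw hv
    have hu1 : w * v ≠ 1 := by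
      intro h
      apply hwv
      have : w = v⁻¹ := eq_inv_of_mul_eq_one_left h
      rw [this, hinv v hv]
    have commw := sk_minInv_comm c.hL (sk_minInv_cj c.hL w) (Ne.symm (h1 w hw hw1))
    have commu := sk_minInv_comm c.hL (sk_minInv_cj c.hL (w * v)) (Ne.symm (h1 _ hu hu1))
    have hx_eq : y⁻¹ * (v * y * v⁻¹) = (w * y⁻¹ * w⁻¹) * ((w * v) * y * (w * v)⁻¹) := by
      calc y⁻¹ * (v * y * v⁻¹) = (w * (y⁻¹ * (v * y * v⁻¹))) * w⁻¹ := by rw [hwx]; group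
        _ = (w * y⁻¹ * w⁻¹) * ((w * v) * y * (w * v)⁻¹) := by group
    have hyc : y⁻¹ ∈ Subgroup.centralizer (L : Set G) := by
      rw [Subgroup.mem_centralizer_iff]
      intro l hl
      have hA : l * (w * y⁻¹ * w⁻¹) = (w * y⁻¹ * w⁻¹) * l :=
        commw l hl _ (cj_mem (L.inv_mem hy))
      have hB : l * ((w * v) * y * (w * v)⁻¹) = ((w * v) * y * (w * v)⁻¹) * l :=
        commu l hl _ (cj_mem hy)
      have hC : l * (v * y * v⁻¹)⁻¹ = (v * y * v⁻¹)⁻¹ * l :=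
        commv l hl _ (Subgroup.inv_mem _ hyv)
      have hX : l * (y⁻¹ * (v * y * v⁻¹)) = (y⁻¹ * (v * y * v⁻¹)) * l := by
        rw [hx_eq]
        have hA' : Commute l (w * y⁻¹ * w⁻¹) := hA
        have hB' : Commute l ((w * v) * y * (w * v)⁻¹) := hB
        exact (hA'.mul_right hB').eq
      have hX' : Commute l (y⁻¹ * (v * y * v⁻¹)) := hX
      have hC' : Commute l (v * y * v⁻¹)⁻¹ := hC
      have e : y⁻¹ = (y⁻¹ * (v * y * v⁻¹)) * (v * y * v⁻¹)⁻¹ := by group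
      rw [e]
      exact (hX'.mul_right hC').eq
    have e5 : y⁻¹ ∈ L ⊓ Subgroup.centralizer (L : Set G) :=
      Subgroup.mem_inf.mpr ⟨L.inv_mem hy, hyc⟩
    rw [c.center_L, Subgroup.mem_bot] at e5
    exact hy1 (inv_eq_one.mp e5)

/-- Case 2: some nonidentity element of `V` normalizes `L`. -/
theorem SkCtx.case2 (c : SkCtx V N L) {v : G} (hv : v ∈ V) (hv1 : v ≠ 1) (hvL : cj(v, L) = L)
    (hLN : L ≠ N) : False := by
  haveI := c.hN.normal
  haveI : Fact (Nat.Prime 2) := ⟨Nat.prime_two⟩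
  have hsq := sk_sq c.hV
  obtain ⟨V₁, hV₁⟩ : ∃ V₁ : Subgroup G, V₁ = V ⊓ Subgroup.normalizer (L : Set G) := ⟨_, rfl⟩
  have hV₁V : V₁ ≤ V := by rw [hV₁]; exact inf_le_left
  have hV₁n : V₁ ≤ Subgroup.normalizer (L : Set G) := by rw [hV₁]; exact inf_le_right
  have hvV₁ : v ∈ V₁ := by
    rw [hV₁]; exact Subgroup.mem_inf.mpr ⟨hv, mem_normalizer_iff_cj_eq.mpr hvL⟩
  have hV₁ne : V₁ ≠ ⊥ := by
    intro h
    rw [h, Subgroup.mem_bot] at hvV₁
    exact hv1 hvV₁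
  obtain ⟨H, hH⟩ : ∃ H : Subgroup G, H = L ⊔ V₁ := ⟨_, rfl⟩
  have hLH : L ≤ H := by rw [hH]; exact le_sup_left
  have hV₁H : V₁ ≤ H := by rw [hH]; exact le_sup_right
  have hHtop : H ≠ ⊤ := by
    intro h
    have hLn : L.Normal := sk_normal_of_sup (N := L) (V := V₁) (by rw [← hH]; exact h)
      Subgroup.le_normalizer hV₁n
    rcases c.hN.min L hLn c.hL.le with h' | h'
    · exact c.hL.ne_bot h'
    · exact hLN h'
  -- `O_2(H)` meets `L` trivially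
  have hLO : L ⊓ Cfsg.pCoreOf 2 H = ⊥ := by
    have h1 : L ⊓ Cfsg.pCoreOf 2 H ≤ Cfsg.pCoreOf 2 L := by
      apply wc_le_pCoreOf inf_le_left ((sk_pCoreOf_isPGroup 2 H).to_le inf_le_right)
      intro l hl
      apply mem_normalizer_of_cj_le
      intro x hx
      obtain ⟨h1, h2⟩ := Subgroup.mem_inf.mp (mem_cj.mp hx)
      have e : x = l * (l⁻¹ * x * l) * l⁻¹ := by group
      rw [e]
      exact Subgroup.mem_inf.mpr ⟨L.mul_mem (L.mul_mem hl h1) (L.inv_mem hl),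
        sk_conj_mem_pCoreOf H (hLH hl) h2⟩
    rw [c.core_L] at h1
    exact le_bot_iff.mp h1
  have hcore : ∀ y ∈ V₁, y ∈ Cfsg.pCoreOf 2 H → y = 1 := by
    intro y hy hyO
    apply c.cent_L (hV₁V hy)
    rw [Subgroup.mem_centralizer_iff]
    intro l hl
    have h1 : l * y * l⁻¹ * y⁻¹ ∈ L ⊓ Cfsg.pCoreOf 2 H := by
      apply Subgroup.mem_inf.mpr
      constructor
      · have : y * l⁻¹ * y⁻¹ ∈ L := sk_conj_mem_of_normalizer (hV₁n hy) (L.inv_mem hl)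
        have e : l * y * l⁻¹ * y⁻¹ = l * (y * l⁻¹ * y⁻¹) := by group
        rw [e]; exact L.mul_mem hl this
      · exact Subgroup.mul_mem _ (sk_conj_mem_pCoreOf H (hLH hl) hyO) (Subgroup.inv_mem _ hyO)
    rw [hLO, Subgroup.mem_bot] at h1
    calc l * y = (l * y * l⁻¹ * y⁻¹) * (y * l) := by group
      _ = y * l := by rw [h1, one_mul]
  obtain ⟨h, a, hhH, haW, hodd, hinv, hh1, hnc⟩ :=
    sk_witness c.hmin c.hV H hHtop V₁ hV₁H hV₁V hV₁ne hcore
  -- `h ∈ L`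
  have hhL : h ∈ L := by
    have hh' : h ∈ V₁ ⊔ L := by rw [sup_comm, ← hH]; exact hhH
    obtain ⟨l, hl, t, ht, rfl⟩ := mem_sup_of_le_normalizer' hV₁n hh'
    have h2 : (l * t) * (l * t) ∈ L := by
      have e : (l * t) * (l * t) = l * (t * l * t⁻¹) * (t * t) := by group
      rw [e, hsq t (hV₁V ht), mul_one]
      exact L.mul_mem hl (sk_conj_mem_of_normalizer (hV₁n ht) hl)
    obtain ⟨k, hk⟩ := hodd
    have e2 : l * t = ((l * t) * (l * t)) ^ (k + 1) := by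
      rw [← pow_two, ← pow_mul]
      have : 2 * (k + 1) = orderOf (l * t) + 1 := by omega
      rw [this, pow_succ, pow_orderOf_eq_one, one_mul]
    rw [e2]
    exact L.pow_mem h2 _
  obtain ⟨w, hw, hw1, hwh⟩ := c.hS h a (hV₁V haW) hodd hinv
  have hwn : cj(w, L) ≠ L := by
    intro hwL
    have : w ∈ V₁ := by
      rw [hV₁]; exact Subgroup.mem_inf.mpr ⟨hw, mem_normalizer_iff_cj_eq.mpr hwL⟩
    exact hnc w this hw1 hwh
  have e5 : h ∈ L ⊓ cj(w, L) := by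
    apply Subgroup.mem_inf.mpr
    refine ⟨hhL, ?_⟩
    have e : h = w * h * w⁻¹ := by rw [hwh]; group
    rw [e]
    exact cj_mem hhL
  rw [sk_minInv_inf c.hL (sk_minInv_cj c.hL w) (Ne.symm hwn), Subgroup.mem_bot] at e5
  exact hh1 e5

theorem SkCtx.eq (c : SkCtx V N L) : L = N := by
  by_contra hLN
  by_cases h : ∃ v ∈ V, v ≠ 1 ∧ cj(v, L) = L
  · obtain ⟨v, hv, hv1, hvL⟩ := h
    exact c.case2 hv hv1 hvL hLN
  · push Not at h
    exact c.case1 h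

end

end Cfsg.Agent.Lib.Helper13
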