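import Cfsg.Agent.Lib.Helper13.SidkiG
import Cfsg.Agent.Lib.Helper10.Components

set_option autoImplicit false

/-! Sidki pairs: in a minimal counterexample `F*(G)` is a nonabelian simple minimal normal subgroup
(helper13). -/

namespace Cfsg.Agent.Lib.Helper13

universe u

section

variable {G : Type u} [Group G] [Finite G]

/-- The running hypotheses (without the minimal invariant subgroup). -/
structure SkCtx0 (V N : Subgroup G) : Prop where
  hmin : SkMin G
  hV : Cfsg.IsElementaryAbelian 2 V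
  hV1 : V ≠ ⊥
  hS : Cfsg.IsSidkiPair V
  hO : Cfsg.pCore 2 G = ⊥
  hZ : Subgroup.center G = ⊥
  hN : SkMinNormal N
  hc : ¬ (∀ a ∈ N, ∀ b ∈ N, a * b = b * a)

variable {V N : Subgroup G}

theorem SkCtx0.simple (c : SkCtx0 V N) (K : Subgroup G) (hKN : K ≤ N)
    (hK : N ≤ Subgroup.normalizer (K : Set G)) : K = ⊥ ∨ K = N := by
  by_cases hK1 : K = ⊥
  · exact Or.inl hK1
  · right
    obtain ⟨L, hLK, hL⟩ := sk_exists_minInv hKN hK1 hK
    have h : L = N :=
      (⟨c.hmin, c.hV, c.hV1, c.hS, c.hO, c.hZ, c.hN, c.hc, hL⟩ : SkCtx V N L).eq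
    exact le_antisymm hKN (h ▸ hLK)

theorem SkCtx0.isSimpleGroup (c : SkCtx0 V N) : IsSimpleGroup ↥N := by
  haveI : Nontrivial ↥N := (Subgroup.nontrivial_iff_ne_bot N).mpr c.hN.ne_bot
  refine { toNontrivial := inferInstance, eq_bot_or_eq_top_of_normal := ?_ }
  intro K hK
  have e : (K.map N.subtype).subgroupOf N = K :=
    Subgroup.comap_map_eq_self_of_injective N.subtype_injective K
  have hKn : ((K.map N.subtype).subgroupOf N).Normal := by rw [e]; exact hK
  have h1 : N ≤ Subgroup.normalizer ((K.map N.subtype : Subgroup G) : Set G) :=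
    (Subgroup.normal_subgroupOf_iff_le_normalizer (Subgroup.map_subtype_le K)).mp hKn
  rcases c.simple _ (Subgroup.map_subtype_le K) h1 with h | h
  · left
    exact (Subgroup.map_eq_bot_iff_of_injective K N.subtype_injective).mp h
  · right
    rw [← e, h]
    exact Subgroup.subgroupOf_self N

theorem SkCtx0.not_comm' (c : SkCtx0 V N) : ¬ (∀ a b : ↥N, a * b = b * a) := by
  intro h
  apply c.hc
  intro a ha b hb
  exact congrArg Subtype.val (h ⟨a, ha⟩ ⟨b, hb⟩)

/-- If `K V = G` with `K` normal and `V` abelian then `G / K` is abelian. -/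
theorem sk_commutator_mem {K V : Subgroup G} [hK : K.Normal] (hKV : K ⊔ V = ⊤)
    (hV : ∀ a ∈ V, ∀ b ∈ V, a * b = b * a) (a b : G) : a * b * a⁻¹ * b⁻¹ ∈ K := by
  have ha : a ∈ K ⊔ V := by rw [hKV]; exact Subgroup.mem_top a
  have hb : b ∈ K ⊔ V := by rw [hKV]; exact Subgroup.mem_top b
  obtain ⟨k₁, hk₁, v₁, hv₁, rfl⟩ := Subgroup.mem_sup_of_normal_left.mp ha
  obtain ⟨k₂, hk₂, v₂, hv₂, rfl⟩ := Subgroup.mem_sup_of_normal_left.mp hb
  rw [← QuotientGroup.eq_one_iff]
  have e1 : ((k₁ : G) : G ⧸ K) = 1 := (QuotientGroup.eq_one_iff _).mpr hk₁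
  have e2 : ((k₂ : G) : G ⧸ K) = 1 := (QuotientGroup.eq_one_iff _).mpr hk₂
  have e3 : ((v₁ : G) : G ⧸ K) * (v₂ : G ⧸ K) = (v₂ : G ⧸ K) * (v₁ : G ⧸ K) := by
    rw [← QuotientGroup.mk_mul, ← QuotientGroup.mk_mul, hV v₁ hv₁ v₂ hv₂]
  simp only [QuotientGroup.mk_mul, QuotientGroup.mk_inv, e1, e2, one_mul]
  rw [e3]
  group

theorem SkCtx0.centralizer_bot (c : SkCtx0 V N) : Subgroup.centralizer (N : Set G) = ⊥ := by
  haveI := c.hN.normal
  by_contra hC
  have hCV : Subgroup.centralizer (N : Set G) ⊔ V = ⊤ :=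
    sk_sup_eq_top c.hmin c.hV c.hV1 c.hS c.hO c.hZ _ hC
  apply c.hc
  intro a ha b hb
  have h1 : a * b * a⁻¹ * b⁻¹ ∈ N ⊓ Subgroup.centralizer (N : Set G) := by
    apply Subgroup.mem_inf.mpr
    refine ⟨N.mul_mem (N.mul_mem (N.mul_mem ha hb) (N.inv_mem ha)) (N.inv_mem hb), ?_⟩
    exact sk_commutator_mem hCV (sk_comm c.hV) a b
  rw [sk_inf_centralizer c.hN c.hc, Subgroup.mem_bot] at h1
  calc a * b = (a * b * a⁻¹ * b⁻¹) * (b * a) := by group
    _ = b * a := by rw [h1, one_mul]

theorem SkCtx0.le_of_normal (c : SkCtx0 V N) (K : Subgroup G) [hKn : K.Normal] (hK : K ≠ ⊥) :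
    N ≤ K := by
  haveI := c.hN.normal
  rcases c.hN.min (K ⊓ N) inferInstance inf_le_right with h | h
  · exfalso
    apply hK
    rw [eq_bot_iff, ← c.centralizer_bot]
    intro k hk
    rw [Subgroup.mem_centralizer_iff]
    intro n hn
    have h1 : k * n * k⁻¹ * n⁻¹ ∈ K ⊓ N := by
      apply Subgroup.mem_inf.mpr
      constructor
      · have : n * k⁻¹ * n⁻¹ ∈ K := hKn.conj_mem _ (K.inv_mem hk) n
        have e : k * n * k⁻¹ * n⁻¹ = k * (n * k⁻¹ * n⁻¹) := by group
        rw [e]; exact K.mul_mem hk this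
      · exact N.mul_mem (c.hN.normal.conj_mem _ hn k) (N.inv_mem hn)
    rw [h, Subgroup.mem_bot] at h1
    calc n * k = (k * n * k⁻¹ * n⁻¹)⁻¹ * (k * n) := by group
      _ = k * n := by rw [h1, inv_one, one_mul]
  · rw [← h]; exact inf_le_left

theorem SkCtx0.fitting_bot (c : SkCtx0 V N) : Cfsg.fittingSubgroup G = ⊥ := by
  unfold Cfsg.fittingSubgroup
  rw [eq_bot_iff]
  apply sSup_le
  rintro M ⟨hMn, hMnil⟩
  by_contra hM
  have hM1 : M ≠ ⊥ := fun h => hM (h ▸ le_rfl)
  have hNM : N ≤ M := c.le_of_normal M hM1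
  haveI := c.isSimpleGroup
  haveI : Group.IsSolvable ↥M := inferInstance
  have hs : Group.IsSolvable ↥N :=
    Group.isSolvable_of_isSolvable_injective (Subgroup.inclusion_injective hNM)
  exact c.not_comm' (IsSimpleGroup.comm_iff_isSolvable.mpr hs)

theorem SkCtx0.isComponent (c : SkCtx0 V N) : Cfsg.IsComponent N := by
  haveI := c.isSimpleGroup
  refine ⟨c.hN.normal.isSubnormal, ?_, ?_⟩
  · rw [Group.isPerfect_def]
    rcases (inferInstance : (commutator ↥N).Normal).eq_bot_or_eq_top with h | h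
    · exfalso
      apply c.not_comm'
      intro a b
      have h1 : a * b * a⁻¹ * b⁻¹ ∈ commutator ↥N := by
        rw [← commutatorElement_def]
        rw [commutator_def]
        exact Subgroup.commutator_mem_commutator (Subgroup.mem_top a) (Subgroup.mem_top b)
      rw [h, Subgroup.mem_bot] at h1
      calc a * b = (a * b * a⁻¹ * b⁻¹) * (b * a) := by group
        _ = b * a := by rw [h1, one_mul]
    · exact h
  · have hZ : Subgroup.center ↥N = ⊥ := by
      rcases (inferInstance : (Subgroup.center ↥N).Normal).eq_bot_or_eq_top with h | h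
      · exact h
      · exfalso
        apply c.not_comm'
        intro a b
        have : b ∈ Subgroup.center ↥N := by rw [h]; exact Subgroup.mem_top b
        exact (Subgroup.mem_center_iff.mp this a)
    haveI : Nontrivial (↥N ⧸ Subgroup.center ↥N) := by
      by_contra hcon
      rw [not_nontrivial_iff_subsingleton] at hcon
      have := QuotientGroup.subgroup_eq_top_of_subsingleton (Subgroup.center ↥N) hcon
      rw [hZ] at this
      exact bot_ne_top this
    exact IsSimpleGroup.isSimpleGroup_of_surjective (QuotientGroup.mk' (Subgroup.center ↥N))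
      (QuotientGroup.mk'_surjective _)

theorem SkCtx0.layer_eq (c : SkCtx0 V N) : Cfsg.layer G = N := by
  haveI := c.isSimpleGroup
  apply le_antisymm
  · unfold Cfsg.layer
    apply sSup_le
    intro K hK
    have hK1 : K ≠ ⊥ := Cfsg.Agent.Lib.Helper10.isComponent_ne_bot hK
    rcases Cfsg.Agent.Lib.Helper10.component_le_or_commutator_eq_bot K N hK
        c.hN.normal.isSubnormal with h | h
    · exact h
    · exfalso
      apply hK1
      rw [eq_bot_iff, ← c.centralizer_bot]
      exact (Subgroup.commutator_eq_bot_iff_le_centralizer).mp h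
  · exact Cfsg.Agent.Lib.Helper10.component_le_layer c.isComponent

theorem SkCtx0.gfs_eq (c : SkCtx0 V N) : Cfsg.generalizedFittingSubgroup G = N := by
  unfold Cfsg.generalizedFittingSubgroup
  rw [c.layer_eq, c.fitting_bot, sup_bot_eq]

end

end Cfsg.Agent.Lib.Helper13
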