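import Mathlib.GroupTheory.Perm.Cycle.Type
import Mathlib.GroupTheory.Index
import Mathlib.GroupTheory.GroupAction.Quotient

set_option autoImplicit false

namespace Cfsg.Agent.Lib.Helper13

open Equiv Equiv.Perm

/-- A permutation `σ` with `σ ^ (2^(j+1)) = 1` whose power `σ ^ (2^j)` has no fixed points has all
cycles of length `2^(j+1)`. -/
theorem cycleType_of_free_two_pow {α : Type*} [Fintype α] [DecidableEq α] (σ : Perm α) (j : ℕ)
    (h1 : σ ^ (2 ^ (j + 1)) = 1) (h2 : ∀ x, (σ ^ (2 ^ j)) x ≠ x) :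
    σ.cycleType = Multiset.replicate (Multiset.card σ.cycleType) (2 ^ (j + 1)) := by
  refine Multiset.eq_replicate.mpr ⟨rfl, fun n hn => ?_⟩
  have hdvd : n ∣ 2 ^ (j + 1) := (dvd_of_mem_cycleType hn).trans (orderOf_dvd_of_pow_eq_one h1)
  obtain ⟨i, hi, rfl⟩ := (Nat.dvd_prime_pow Nat.prime_two).mp hdvd
  rcases Nat.lt_or_ge i (j + 1) with hlt | hge
  · exfalso
    obtain ⟨c, τ, hσ, hdisj, hc, hcard⟩ := mem_cycleType_iff.mp hn
    obtain ⟨x, hx⟩ := hc.nonempty_support
    have hcx : c x ≠ x := mem_support.mp hx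
    have hτx : τ x = x := (hdisj x).resolve_left hcx
    have hcpow : c ^ (2 ^ j) = 1 := by
      apply orderOf_dvd_iff_pow_eq_one.mp
      rw [hc.orderOf, hcard]
      exact pow_dvd_pow 2 (Nat.lt_succ_iff.mp hlt)
    apply h2 x
    rw [hσ, hdisj.commute.mul_pow, hcpow, one_mul]
    exact pow_apply_eq_self_of_apply_eq_self hτx _
  · have : i = j + 1 := le_antisymm hi hge
    rw [this]

theorem sign_of_free_two_pow {α : Type*} [Fintype α] [DecidableEq α] (σ : Perm α) (j m : ℕ)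
    (h1 : σ ^ (2 ^ (j + 1)) = 1) (h2 : ∀ x, (σ ^ (2 ^ j)) x ≠ x)
    (hcard : Fintype.card α = 2 ^ (j + 1) * m) (hm : Odd m) : sign σ = -1 := by
  have hfix : Fintype.card (Function.fixedPoints σ) = 0 := by
    rw [Fintype.card_eq_zero_iff]
    refine ⟨fun ⟨x, hx⟩ => h2 x ?_⟩
    exact pow_apply_eq_self_of_apply_eq_self hx _
  rw [sign_of_cycleType_eq_replicate (by positivity) (cycleType_of_free_two_pow σ j h1 h2)]
  have hnodd : ¬ Odd (2 ^ (j + 1)) := by
    rw [Nat.not_odd_iff_even]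
    exact (Nat.even_pow.mpr ⟨even_two, by omega⟩)
  rw [if_neg hnodd, hfix, Nat.sub_zero, hcard, Nat.mul_div_cancel_left _ (by positivity)]
  exact hm.neg_one_pow

end Cfsg.Agent.Lib.Helper13
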