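import Mathlib
import Cfsg.Agent.Lib.helper17.T3.DefsC

/-!
# Family T3 (S2110), project T3C (designer helper17), row A3 `Cub.exists_nm_div_sq` (helper13), VERBATIM:
`u ↦ N(u) u⁻²` is onto `K^×` (`K` finite).
-/

set_option autoImplicit false

namespace Cfsg.Agent.Lib.helper17.T3

open Cfsg.Agent.Lib.helper15.St2 Cfsg.Agent.Lib.helper7.Ce Matrix

variable {F K : Type*} [Field F] [Field K] [Algebra F K]

namespace Cub

variable (C : Cub F K)

/-- the value `N(u) u⁻²` is `θ u * θ² u / u` -/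
theorem t3ca3h13_val {u : K} (hu : u ≠ 0) : algebraMap F K (C.nm u) * u⁻¹ ^ 2 = C.θ u * C.θ (C.θ u) * u⁻¹ := by
  rw [C.hnm]
  field_simp

/-- the key step of injectivity: `θ w * θ² w = w`, `w ≠ 0` forces `w = 1` -/
theorem t3ca3h13_one {w : K} (hw : w ≠ 0) (h1 : C.θ w * C.θ (C.θ w) = w) : w = 1 := by
  have h2 : C.θ (C.θ w) * w = C.θ w := by
    have := congrArg C.θ h1
    rw [map_mul, C.θ3] at this
    exact this
  have hcc : C.θ (C.θ w) * C.θ (C.θ w) = 1 := by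
    have h3 : (C.θ (C.θ w) * C.θ (C.θ w)) * w = 1 * w := by
      calc (C.θ (C.θ w) * C.θ (C.θ w)) * w = (C.θ (C.θ w) * w) * C.θ (C.θ w) := by ring
        _ = C.θ w * C.θ (C.θ w) := by rw [h2]
        _ = w := h1
        _ = 1 * w := (one_mul w).symm
    exact mul_right_cancel₀ hw h3
  have haa : w * w = 1 := by
    have := congrArg C.θ hcc
    rw [map_mul, C.θ3, map_one] at this
    exact this
  rcases mul_self_eq_one_iff.mp haa with h | h
  · exact h
  · rw [h, map_neg, map_one, map_neg, map_one] at h1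
    rw [h, ← h1]
    ring

/-- `u ↦ N(u) u⁻²` is injective on the nonzero elements -/
theorem t3ca3h13_inj {u v : K} (hu : u ≠ 0) (hv : v ≠ 0)
    (h : algebraMap F K (C.nm u) * u⁻¹ ^ 2 = algebraMap F K (C.nm v) * v⁻¹ ^ 2) : u = v := by
  rw [C.t3ca3h13_val hu, C.t3ca3h13_val hv] at h
  have hθu : C.θ u ≠ 0 := (map_ne_zero C.θ).2 hu
  have hθv : C.θ v ≠ 0 := (map_ne_zero C.θ).2 hv
  have hθθv : C.θ (C.θ v) ≠ 0 := (map_ne_zero C.θ).2 hθv
  have hw : u * v⁻¹ ≠ 0 := mul_ne_zero hu (inv_ne_zero hv)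
  have h1 : C.θ (u * v⁻¹) * C.θ (C.θ (u * v⁻¹)) = u * v⁻¹ := by
    simp only [map_mul, map_inv₀]
    field_simp
    field_simp at h
    linear_combination h
  have := C.t3ca3h13_one hw h1
  field_simp at this
  exact this

/-- [A3] [M] `u ↦ N(u) u⁻²` is a bijection of `K^×`. -/
theorem exists_nm_div_sq [Finite K] (l : K) (hl : l ≠ 0) : ∃ u : K, u ≠ 0 ∧ algebraMap F K (C.nm u) * u⁻¹ ^ 2 = l := by
  have hne : ∀ u : K, u ≠ 0 → algebraMap F K (C.nm u) * u⁻¹ ^ 2 ≠ 0 := by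
    intro u hu
    rw [C.t3ca3h13_val hu]
    have hθu : C.θ u ≠ 0 := (map_ne_zero C.θ).2 hu
    have hθθu : C.θ (C.θ u) ≠ 0 := (map_ne_zero C.θ).2 hθu
    exact mul_ne_zero (mul_ne_zero hθu hθθu) (inv_ne_zero hu)
  let f : {u : K // u ≠ 0} → {u : K // u ≠ 0} := fun u => ⟨algebraMap F K (C.nm u.1) * u.1⁻¹ ^ 2, hne u.1 u.2⟩
  have hinj : Function.Injective f := by
    intro u v huv
    apply Subtype.ext
    exact C.t3ca3h13_inj u.2 v.2 (congrArg Subtype.val huv)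
  have hsurj : Function.Surjective f := Finite.injective_iff_surjective.mp hinj
  obtain ⟨u, hu⟩ := hsurj ⟨l, hl⟩
  exact ⟨u.1, u.2, congrArg Subtype.val hu⟩

end Cub

end Cfsg.Agent.Lib.helper17.T3
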