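import Mathlib
import Cfsg.Agent.Lib.helper17.T3.DefsC
import Cfsg.Agent.Lib.helper3.SL2Mult
import Cfsg.Agent.Lib.helper23.CEUE1

/-!
# Family T3 (S2110), project T3C (designer helper17), row L5 `Zl_cross` (helper13), VERBATIM:
`Zl L k a (c × b) = Zl L k c (a × b)`, from `ss2` downstairs.
-/

set_option autoImplicit false

namespace Cfsg.Agent.Lib.helper17.T3

open Cfsg.Agent.Lib.helper15.St2 Cfsg.Agent.Lib.helper7.Ce Matrix

variable {F K : Type*} [Field F] [Field K] [Algebra F K]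

variable {C : Cub F K} {G Γ : Type*} [Group G] [Group Γ]

section L

variable {S : SysT C G} {σ : Γ →* G}

/-- own copy of L1 `Zl_map` -/
theorem t3cl5h13_Zl_map (L : ShortLift S σ) (k : ZMod 6) (s t : K) : σ (Zl L k s t) = S.xl k (-(C.tr (s * t))) := by
  unfold Zl
  rw [map_cm, L.map, L.map, S.ss1]

/-- lifts of two products `xl k _ * xs (k+1) _ * xl (k+1) _` commute -/
theorem t3cl5h13_CL3 (h : IsCE σ) (hT : CLT S σ) (k : ZMod 6) (d₁ d₂ d₁' d₂' : F) (t t' : K) :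
    CL σ (S.xl k d₁ * S.xs (k + 1) t * S.xl (k + 1) d₂) (S.xl k d₁' * S.xs (k + 1) t' * S.xl (k + 1) d₂') := by
  have key : ∀ w : G, CL σ w (S.xl k d₁') → CL σ w (S.xs (k + 1) t') → CL σ w (S.xl (k + 1) d₂') →
      CL σ w (S.xl k d₁' * S.xs (k + 1) t' * S.xl (k + 1) d₂') := by
    intro w h1 h2 h3
    exact (h.CL_mul_left (h.CL_mul_left h1.symm h2.symm) h3.symm).symm
  refine h.CL_mul_left (h.CL_mul_left ?_ ?_) ?_
  · exact key _ (hT.ll0 k d₁ d₁') (hT.ls1 k d₁ t') (hT.ll1 k d₁ d₂')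
  · exact key _ (hT.ls1 k d₁' t).symm (hT.ss0 (k + 1) t t') (hT.sl0 (k + 1) t d₂')
  · exact key _ (hT.ll1 k d₁' d₂).symm (hT.sl0 (k + 1) t' d₂).symm (hT.ll0 (k + 1) d₂ d₂')

/-- the commutator of `X k s` with any lift of `xl k d₁ * xs (k+1) t * xl (k+1) d₂` is `Zl L k s t` -/
theorem t3cl5h13_cm (h : IsCE σ) (hT : CLT S σ) (L : ShortLift S σ) (k : ZMod 6) (s t : K) (d₁ d₂ : F) (B : Γ)
    (hB : σ B = S.xl k d₁ * S.xs (k + 1) t * S.xl (k + 1) d₂) : cm (L.X k s) B = Zl L k s t := by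
  have e : cm (L.X k s) B = cm (L.X k s) (lf h (S.xl k d₁) * L.X (k + 1) t * lf h (S.xl (k + 1) d₂)) := by
    apply h.cm_congr rfl
    rw [hB, map_mul, map_mul, map_lf, map_lf, L.map]
  have c2 : cm (L.X k s) (lf h (S.xl (k + 1) d₂)) = 1 :=
    cm_eq_one_iff.2 (hT.sl1 k s d₂ _ _ (L.map k s) (map_lf h _))
  have c1 : cm (L.X k s) (lf h (S.xl k d₁)) = 1 :=
    cm_eq_one_iff.2 (hT.sl0 k s d₁ _ _ (L.map k s) (map_lf h _))
  have c3 : lf h (S.xl k d₁) * Zl L k s t = Zl L k s t * lf h (S.xl k d₁) :=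
    hT.ll0 k d₁ (-(C.tr (s * t))) _ _ (map_lf h _) (t3cl5h13_Zl_map L k s t)
  rw [e, cm_mul_right, c2, mul_one, mul_inv_cancel, mul_one, cm_mul_right, c1, one_mul]
  change lf h (S.xl k d₁) * Zl L k s t * (lf h (S.xl k d₁))⁻¹ = Zl L k s t
  rw [c3, mul_inv_cancel_right]

/-- [L5] [M] the identity behind the trace. -/
theorem Zl_cross (h : IsCE σ) (hT : CLT S σ) (L : ShortLift S σ) (k : ZMod 6) (a b c : K) : Zl L k a (C.cross c b) = Zl L k c (C.cross a b) := by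
  have hA : σ (cm (L.X k a) (L.X (k + 2) b)) = S.xl k (-(C.tr (C.sharp a * b))) * S.xs (k + 1) (C.cross a b) * S.xl (k + 1) (C.tr (a * C.sharp b)) := by
    rw [map_cm, L.map, L.map, S.ss2]
  have hB : σ (cm (L.X k c) (L.X (k + 2) b)) = S.xl k (-(C.tr (C.sharp c * b))) * S.xs (k + 1) (C.cross c b) * S.xl (k + 1) (C.tr (c * C.sharp b)) := by
    rw [map_cm, L.map, L.map, S.ss2]
  have hAB := t3cl5h13_CL3 h hT k _ _ _ _ _ _ _ _ hA hB
  have hcomm : L.X k a * L.X k c = L.X k c * L.X k a := by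
    rw [L.add, L.add, add_comm]
  have h1 := cm_mul_left (L.X k a) (L.X k c) (L.X (k + 2) b)
  have h2 := cm_mul_left (L.X k c) (L.X k a) (L.X (k + 2) b)
  rw [hcomm] at h1
  have h3 := h1.symm.trans h2
  generalize cm (L.X k a) (L.X (k + 2) b) = A at *
  generalize cm (L.X k c) (L.X (k + 2) b) = B at *
  have e1 : L.X k a * B * (L.X k a)⁻¹ = cm (L.X k a) B * B := by unfold cm; group
  have e2 : L.X k c * A * (L.X k c)⁻¹ = cm (L.X k c) A * A := by unfold cm; group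
  rw [e1, e2, mul_assoc, mul_assoc, hAB] at h3
  have h4 := mul_right_cancel h3
  rw [t3cl5h13_cm h hT L k a _ _ _ B hB, t3cl5h13_cm h hT L k c _ _ _ A hA] at h4
  exact h4

end L

end Cfsg.Agent.Lib.helper17.T3
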