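import Mathlib
import Cfsg.Agent.Lib.Helper28.T9.Defs

/-!
# Project T9 (S5559), piece B : basic facts on a configuration (B1, B2, B3, B4, B6, B7)
-/

set_option autoImplicit false

namespace Cfsg.Agent.Lib.Helper28.T9

universe u v

section abstract

variable {X : Type u} [Group X] {V : Type v} [AddCommGroup V] [DistribMulAction X V] {E : Set X}

/-- members of `E` are their own inverses -/
theorem h13_inv_eq (h : Cfg X V E) (a : X) (ha : a ∈ E) : a⁻¹ = a :=
  inv_eq_of_mul_eq_one_right (h.sq a ha)

/-- products of two members of `E` lie in `P` -/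
theorem h13_mul_mem (a b : X) (ha : a ∈ E) (hb : b ∈ E) : a * b ∈ prodSub E :=
  Subgroup.subset_closure ⟨a, ha, b, hb, rfl⟩

/-- conjugation by a member of `E` preserves `P` -/
theorem h13_conj_mem_prodSub (h : Cfg X V E) (a : X) (ha : a ∈ E) (n : X) (hn : n ∈ prodSub E) :
    a * n * a⁻¹ ∈ prodSub E := by
  unfold prodSub at hn ⊢
  induction hn using Subgroup.closure_induction with
  | mem x hx =>
    obtain ⟨b, hb, c, hc, rfl⟩ := hx
    apply Subgroup.subset_closure
    refine ⟨a * b * a, h.conj a ha b hb, a * c * a, h.conj a ha c hc, ?_⟩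
    rw [h13_inv_eq h a ha]
    have haa := h.sq a ha
    calc a * (b * c) * a = a * b * (1 * c) * a := by rw [one_mul, mul_assoc a b c]
      _ = a * b * (a * a * c) * a := by rw [haa]
      _ = a * b * a * (a * c * a) := by simp only [mul_assoc]
  | one => simp
  | mul x y _ _ hx hy =>
    have : a * (x * y) * a⁻¹ = (a * x * a⁻¹) * (a * y * a⁻¹) := by group
    rw [this]
    exact Subgroup.mul_mem _ hx hy
  | inv x _ hx =>
    have : a * x⁻¹ * a⁻¹ = (a * x * a⁻¹)⁻¹ := by group
    rw [this]
    exact Subgroup.inv_mem _ hx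

/-- PIECE B1 -/
theorem prodSub_normal (h : Cfg X V E) : (prodSub E).Normal := by
  rw [← Subgroup.normalizer_eq_top_iff, eq_top_iff, ← h.gen, Subgroup.closure_le]
  intro a ha
  rw [SetLike.mem_coe, Subgroup.mem_normalizer_iff]
  intro n
  constructor
  · exact h13_conj_mem_prodSub h a ha n
  · intro hn
    have h1 := h13_conj_mem_prodSub h a ha _ hn
    rw [h13_inv_eq h a ha] at h1 hn
    have haa := h.sq a ha
    have : a * (a * n * a) * a = n := by
      calc a * (a * n * a) * a = (a * a) * n * (a * a) := by simp only [mul_assoc]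
        _ = n := by rw [haa, one_mul, mul_one]
    rwa [this] at h1

/-- PIECE B6 : `E` is closed under conjugation by all of `X`. -/
theorem conj_mem (h : Cfg X V E) (a : X) (ha : a ∈ E) (g : X) : g⁻¹ * a * g ∈ E := by
  have key : ∀ g : X, (∀ a ∈ E, g⁻¹ * a * g ∈ E) ∧ (∀ a ∈ E, g * a * g⁻¹ ∈ E) := by
    intro g
    have hg : g ∈ Subgroup.closure E := by
      rw [h.gen]
      exact Subgroup.mem_top g
    induction hg using Subgroup.closure_induction with
    | mem b hb =>
      constructor
      · intro a ha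
        rw [h13_inv_eq h b hb]
        exact h.conj b hb a ha
      · intro a ha
        rw [h13_inv_eq h b hb]
        exact h.conj b hb a ha
    | one =>
      constructor
      · intro a ha
        simpa using ha
      · intro a ha
        simpa using ha
    | mul x y _ _ hx hy =>
      constructor
      · intro a ha
        have : (x * y)⁻¹ * a * (x * y) = y⁻¹ * (x⁻¹ * a * x) * y := by group
        rw [this]
        exact hy.1 _ (hx.1 a ha)
      · intro a ha
        have : (x * y) * a * (x * y)⁻¹ = x * (y * a * y⁻¹) * x⁻¹ := by group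
        rw [this]
        exact hx.2 _ (hy.2 a ha)
    | inv x _ hx =>
      constructor
      · intro a ha
        rw [inv_inv]
        exact hx.2 a ha
      · intro a ha
        rw [inv_inv]
        exact hx.1 a ha
  exact (key g).1 a ha

/-- PIECE B2 : `X = P ∪ aP`. -/
theorem mem_or_mul_mem (h : Cfg X V E) (a : X) (ha : a ∈ E) (g : X) :
    g ∈ prodSub E ∨ a * g ∈ prodSub E := by
  have hN := prodSub_normal h
  have hainv := h13_inv_eq h a ha
  have haa := h.sq a ha
  have hg : g ∈ Subgroup.closure E := by
    rw [h.gen]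
    exact Subgroup.mem_top g
  induction hg using Subgroup.closure_induction with
  | mem b hb => exact Or.inr (h13_mul_mem a b ha hb)
  | one => exact Or.inl (Subgroup.one_mem _)
  | mul x y _ _ hx hy =>
    rcases hx with hx | hx
    · rcases hy with hy | hy
      · exact Or.inl (Subgroup.mul_mem _ hx hy)
      · right
        have : a * (x * y) = (a * x * a⁻¹) * (a * y) := by group
        rw [this]
        exact Subgroup.mul_mem _ (hN.conj_mem x hx a) hy
    · rcases hy with hy | hy
      · right
        rw [← mul_assoc]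
        exact Subgroup.mul_mem _ hx hy
      · left
        have : x * y = (a * (a * x) * a⁻¹) * (a * y) := by
          calc x * y = (a * a) * x * y := by rw [haa, one_mul]
            _ = (a * (a * x) * a⁻¹) * (a * y) := by group
        rw [this]
        exact Subgroup.mul_mem _ (hN.conj_mem _ hx a) hy
  | inv x _ hx =>
    rcases hx with hx | hx
    · exact Or.inl (Subgroup.inv_mem _ hx)
    · right
      have h1 : (a * x)⁻¹ ∈ prodSub E := Subgroup.inv_mem _ hx
      have h2 := hN.conj_mem _ h1 a
      have : a * (a * x)⁻¹ * a⁻¹ = a * x⁻¹ := by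
        rw [mul_inv_rev, hainv]
        calc a * (x⁻¹ * a) * a = a * x⁻¹ * (a * a) := by simp only [mul_assoc]
          _ = a * x⁻¹ := by rw [haa, mul_one]
      rwa [this] at h2

/-- an involution raised to an odd power -/
theorem h13_pow_odd {a : X} (haa : a * a = 1) (n : ℕ) (hn : Odd n) : a ^ n = a := by
  obtain ⟨m, rfl⟩ := hn
  rw [pow_succ, pow_mul, pow_two, haa, one_pow, one_mul]

/-- PIECE B3 -/
theorem not_mem_prodSub (h : Cfg X V E) (a : X) (ha : a ∈ E) : a ∉ prodSub E := by
  intro haP
  obtain ⟨k, hk⟩ := h.three ⟨a, haP⟩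
  have h1 : a ^ 3 ^ k = 1 := by
    have := congrArg Subtype.val hk
    simpa using this
  rw [h13_pow_odd (h.sq a ha) _ (Odd.pow (by decide))] at h1
  exact h.ne_one a ha h1

/-- PIECE B4 : the elements of `P` inverted by `a` are exactly the products `a * b`, `b ∈ E`.
(⇐: if `a g a = g⁻¹`, `g ∈ P` has odd order, `g = k²` with `k` a power of `g`, and then
`a * g = k⁻¹ * a * k`.) -/
theorem inverted_iff (h : Cfg X V E) (a : X) (ha : a ∈ E) (g : X) :
    (g ∈ prodSub E ∧ a * g * a = g⁻¹) ↔ ∃ b ∈ E, g = a * b := by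
  have hainv := h13_inv_eq h a ha
  have haa := h.sq a ha
  constructor
  · rintro ⟨hgP, hinv⟩
    obtain ⟨k, hk⟩ := h.three ⟨g, hgP⟩
    have hgk : g ^ 3 ^ k = 1 := by
      have := congrArg Subtype.val hk
      simpa using this
    -- `3 ^ k = 2 * m + 1`
    obtain ⟨m, hm⟩ : Odd (3 ^ k) := Odd.pow (by decide)
    set r : X := g ^ (m + 1) with hr
    have hr2 : r * r = g := by
      rw [hr, ← pow_add]
      have : m + 1 + (m + 1) = 3 ^ k + 1 := by omega
      rw [this, pow_succ, hgk, one_mul]
    -- conjugation by `a` inverts `r`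
    have hconj : ∀ n : ℕ, a * g ^ n * a = (g ^ n)⁻¹ := by
      intro n
      have h1 : a * g ^ n * a⁻¹ = (a * g * a⁻¹) ^ n := (conj_pow (a := a) (b := g) (i := n)).symm
      rw [hainv, hinv] at h1
      rw [h1, inv_pow]
    have har : a * r * a = r⁻¹ := hconj (m + 1)
    have har' : a * r⁻¹ * a = r := by
      have : a * r⁻¹ * a = (a * r * a)⁻¹ := by
        rw [mul_inv_rev, mul_inv_rev, hainv]
        simp only [mul_assoc]
      rw [this, har, inv_inv]
    have hkey : r⁻¹ * a * r = a * g := by
      calc r⁻¹ * a * r = (a * a) * r⁻¹ * a * r := by rw [haa, one_mul]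
        _ = a * (a * r⁻¹ * a) * r := by simp only [mul_assoc]
        _ = a * (r * r) := by rw [har', mul_assoc]
        _ = a * g := by rw [hr2]
    refine ⟨a * g, ?_, ?_⟩
    · rw [← hkey]
      exact conj_mem h a ha r
    · rw [← mul_assoc, haa, one_mul]
  · rintro ⟨b, hb, rfl⟩
    refine ⟨h13_mul_mem a b ha hb, ?_⟩
    rw [mul_inv_rev, hainv, h13_inv_eq h b hb, ← mul_assoc, haa, one_mul]

/-- PIECE B7 : any two members of `E` are conjugate under `P` (`g = (a*b)^2`). -/
theorem exists_conj (h : Cfg X V E) (a b : X) (ha : a ∈ E) (hb : b ∈ E) :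
    ∃ g ∈ prodSub E, b = g⁻¹ * a * g := by
  have haa := h.sq a ha
  have hbb := h.sq b hb
  have h3 := h.cube a ha b hb
  refine ⟨(a * b) ^ 2, Subgroup.pow_mem _ (h13_mul_mem a b ha hb) 2, ?_⟩
  have hinv : ((a * b) ^ 2)⁻¹ = a * b := by
    apply inv_eq_of_mul_eq_one_left
    rw [← pow_succ']
    exact h3
  rw [hinv, pow_two]
  symm
  calc a * b * a * (a * b * (a * b)) = a * b * (a * a) * b * (a * b) := by simp only [mul_assoc]
    _ = a * (b * b) * (a * b) := by rw [haa, mul_one]; simp only [mul_assoc]
    _ = (a * a) * b := by rw [hbb, mul_one, mul_assoc]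
    _ = b := by rw [haa, one_mul]

end abstract

end Cfsg.Agent.Lib.Helper28.T9
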