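import Mathlib
import Cfsg.Agent.Lib.Helper28.T9.Defs
import Cfsg.Agent.Lib.Helper13.T9B

/-!
# Project T9 (S5559), piece C2c0 : in case 2 the centre of `P` is central in `X`
-/

set_option autoImplicit false

namespace Cfsg.Agent.Lib.Helper28.T9

universe u v

section abstract

variable {X : Type u} [Group X] {V : Type v} [AddCommGroup V] [DistribMulAction X V] {E : Set X}

/-- conjugation by an involution is multiplicative -/
theorem h13_conj_mul {a : X} (haa : a * a = 1) (u w : X) :
    a * (u * w) * a = (a * u * a) * (a * w * a) := by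
  calc a * (u * w) * a = a * u * (1 * w) * a := by rw [one_mul]; simp only [mul_assoc]
    _ = a * u * (a * a * w) * a := by rw [haa]
    _ = (a * u * a) * (a * w * a) := by simp only [mul_assoc]

/-- conjugation by an involution commutes with inversion -/
theorem h13_conj_inv {a : X} (hainv : a⁻¹ = a) (u : X) : a * u⁻¹ * a = (a * u * a)⁻¹ := by
  rw [mul_inv_rev, mul_inv_rev, hainv]
  simp only [mul_assoc]

/-- conjugation by an involution is an involution -/
theorem h13_conj_conj {a : X} (haa : a * a = 1) (u : X) : a * (a * u * a) * a = u := by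
  calc a * (a * u * a) * a = (a * a) * u * (a * a) := by simp only [mul_assoc]
    _ = u := by rw [haa, one_mul, mul_one]

/-- PIECE C2c0 : in case 2 the centre of `P` is central in `X`. -/
theorem center_le (h : Cfg X V E) (a : X) (ha : a ∈ E)
    (hcase2 : ∀ x ∈ prodSub E, (∀ g ∈ prodSub E, g * x = x * g) → a * x * a = x⁻¹ → x = 1)
    (x : X) (hx : x ∈ prodSub E) (hxc : ∀ g ∈ prodSub E, g * x = x * g) :
    x ∈ Subgroup.center X := by
  have hainv := h13_inv_eq h a ha
  have haa := h.sq a ha
  have hN := prodSub_normal h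
  -- conjugation by `a` preserves `P`
  have hconjP : ∀ g ∈ prodSub E, a * g * a ∈ prodSub E := by
    intro g hg
    have := hN.conj_mem g hg a
    rwa [hainv] at this
  -- `a x a` is central in `P`
  have hx' : a * x * a ∈ prodSub E := hconjP x hx
  have hxc' : ∀ g ∈ prodSub E, g * (a * x * a) = (a * x * a) * g := by
    intro g hg
    have h1 := hxc (a * g * a) (hconjP g hg)
    calc g * (a * x * a) = (a * a) * g * (a * x * a) := by rw [haa, one_mul]
      _ = a * ((a * g * a) * x) * a := by simp only [mul_assoc]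
      _ = a * (x * (a * g * a)) * a := by rw [h1]
      _ = a * x * a * g * (a * a) := by simp only [mul_assoc]
      _ = a * x * a * g := by rw [haa, mul_one]
  -- `w = x (a x a)⁻¹` is central in `P` and inverted by `a`
  have hw : x * (a * x * a)⁻¹ ∈ prodSub E := Subgroup.mul_mem _ hx (Subgroup.inv_mem _ hx')
  have hxc'' : ∀ g ∈ prodSub E, g * (a * x * a)⁻¹ = (a * x * a)⁻¹ * g := by
    intro g hg
    have h1 := hxc' g hg
    calc g * (a * x * a)⁻¹ = (a * x * a)⁻¹ * ((a * x * a) * g) * (a * x * a)⁻¹ := by group
      _ = (a * x * a)⁻¹ * (g * (a * x * a)) * (a * x * a)⁻¹ := by rw [h1]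
      _ = (a * x * a)⁻¹ * g := by group
  have hwc : ∀ g ∈ prodSub E, g * (x * (a * x * a)⁻¹) = (x * (a * x * a)⁻¹) * g := by
    intro g hg
    calc g * (x * (a * x * a)⁻¹) = (g * x) * (a * x * a)⁻¹ := (mul_assoc g x _).symm
      _ = (x * g) * (a * x * a)⁻¹ := by rw [hxc g hg]
      _ = x * (g * (a * x * a)⁻¹) := mul_assoc x g _
      _ = x * ((a * x * a)⁻¹ * g) := by rw [hxc'' g hg]
      _ = (x * (a * x * a)⁻¹) * g := (mul_assoc x _ g).symm
  have hwinv : a * (x * (a * x * a)⁻¹) * a = (x * (a * x * a)⁻¹)⁻¹ := by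
    rw [h13_conj_mul haa, h13_conj_inv hainv, h13_conj_conj haa, mul_inv_rev, inv_inv]
  have hw1 := hcase2 _ hw hwc hwinv
  have hxa : a * x * a = x := by
    have := mul_inv_eq_one.mp hw1
    exact this.symm
  have hcomm : a * x = x * a := by
    calc a * x = a * x * (a * a) := by rw [haa, mul_one]
      _ = (a * x * a) * a := by simp only [mul_assoc]
      _ = x * a := by rw [hxa]
  rw [Subgroup.mem_center_iff]
  intro g
  rcases mem_or_mul_mem h a ha g with hg | hg
  · exact hxc g hg
  · have h1 := hxc (a * g) hg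
    have h2 : a * (g * x) = a * (x * g) := by
      calc a * (g * x) = a * g * x := by rw [mul_assoc]
        _ = x * (a * g) := h1
        _ = (x * a) * g := by rw [mul_assoc]
        _ = (a * x) * g := by rw [hcomm]
        _ = a * (x * g) := by rw [mul_assoc]
    exact mul_left_cancel h2

end abstract

end Cfsg.Agent.Lib.Helper28.T9
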