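import Mathlib
import Cfsg.Agent.Lib.Helper28.T9.Defs
import Cfsg.Agent.Lib.Helper13.T9B
import Cfsg.Agent.Lib.Helper25.T9LA2

/-!
# Project T9 (S5559), piece PL1 : three non-collinear points generate a nonabelian group
-/

set_option autoImplicit false

namespace Cfsg.Agent.Lib.Helper28.T9

universe u v

section abstract

variable {X : Type u} [Group X] {V : Type v} [AddCommGroup V] [DistribMulAction X V] {E : Set X}

/-- a nontrivial element of `P` inverted by `a`: its fixed vectors are fixed by `a` -/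
theorem h13_fixed_of_inverted (h : Cfg X V E) (a : X) (ha : a ∈ E) (w : X) (hwP : w ∈ prodSub E)
    (hw : a * w * a = w⁻¹) (hw1 : w ≠ 1) (v : V) (hv : w • v = v) : a • v = v := by
  obtain ⟨b', hb', rfl⟩ := (inverted_iff h a ha w).mp ⟨hwP, hw⟩
  have hne : a ≠ b' := by
    rintro rfl
    exact hw1 (h.sq a ha)
  exact h.star a ha b' hb' hne v hv

/-- PIECE PL1 : three non-collinear points generate a nonabelian group. -/
theorem noncomm (h : Cfg X V E) (hf : Faith X V) (a b c : X) (ha : a ∈ E) (hb : b ∈ E)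
    (hc : c ∈ E) (hab : a ≠ b) (hca : c ≠ a) (hcb : c ≠ b) (hcl : c ≠ a * b * a) :
    (a * b) * (a * c) ≠ (a * c) * (a * b) := by
  intro hxy
  have hainv := h13_inv_eq h a ha
  have haa := h.sq a ha
  have hx3 : (a * b) ^ 3 = 1 := h.cube a ha b hb
  have hy3 : (a * c) ^ 3 = 1 := h.cube a ha c hc
  obtain ⟨hxP, hxi⟩ := (inverted_iff h a ha (a * b)).mpr ⟨b, hb, rfl⟩
  obtain ⟨hyP, hyi⟩ := (inverted_iff h a ha (a * c)).mpr ⟨c, hc, rfl⟩
  -- conjugation by `a` is multiplicative
  have hmulc : ∀ u w : X, a * (u * w) * a = (a * u * a) * (a * w * a) := by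
    intro u w
    calc a * (u * w) * a = a * u * (1 * w) * a := by rw [one_mul]; simp only [mul_assoc]
      _ = a * u * (a * a * w) * a := by rw [haa]
      _ = (a * u * a) * (a * w * a) := by simp only [mul_assoc]
  -- nontriviality
  have hx1 : a * b ≠ 1 := by
    intro h1
    apply hab
    have : b = a⁻¹ := (inv_eq_of_mul_eq_one_right h1).symm
    rw [this, hainv]
  have hy1 : a * c ≠ 1 := by
    intro h1
    apply hca
    have : c = a⁻¹ := (inv_eq_of_mul_eq_one_right h1).symm
    rw [this, hainv]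
  have hxyP : (a * b) * (a * c) ∈ prodSub E := Subgroup.mul_mem _ hxP hyP
  have hxyi : a * ((a * b) * (a * c)) * a = ((a * b) * (a * c))⁻¹ := by
    rw [hmulc, hxi, hyi, hxy]
    exact (mul_inv_rev _ _).symm
  have hxy1 : (a * b) * (a * c) ≠ 1 := by
    intro h1
    apply hcl
    -- `c = (a b a)⁻¹ = a b a`
    have h2 : (a * b * a) * c = 1 := by
      rw [← h1]
      simp only [mul_assoc]
    have h3 : c = (a * b * a)⁻¹ := (inv_eq_of_mul_eq_one_right h2).symm
    rw [h3, mul_inv_rev, mul_inv_rev, hainv, h13_inv_eq h b hb, mul_assoc]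
  have hxyyP : (a * b) * (a * c) * (a * c) ∈ prodSub E := Subgroup.mul_mem _ hxyP hyP
  have hxyyi : a * ((a * b) * (a * c) * (a * c)) * a = ((a * b) * (a * c) * (a * c))⁻¹ := by
    rw [hmulc, hxyi, hyi]
    have e1 : (a * b) * (a * c) * (a * c) = (a * c) * ((a * b) * (a * c)) := by
      rw [hxy, mul_assoc, ← hxy, ← mul_assoc]
    rw [e1]
    exact (mul_inv_rev _ _).symm
  have hxyy1 : (a * b) * (a * c) * (a * c) ≠ 1 := by
    intro h1
    apply hcb
    -- `y y = y⁻¹`, so `x = y`
    have hyy : (a * c) * (a * c) = (a * c)⁻¹ := by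
      apply eq_inv_of_mul_eq_one_left
      rw [← hy3, pow_succ, pow_two]
    rw [mul_assoc, hyy] at h1
    have h2 : a * b = a * c := mul_inv_eq_one.mp h1
    exact (mul_left_cancel h2).symm
  -- `a` acts trivially
  have hfix : ∀ v : V, a • v = v := by
    intro v
    obtain ⟨v₁, v₂, v₃, v₄, hv, h1, h2, h3, h4⟩ :=
      sum_fixed h.two (a * b) (a * c) hx3 hy3 hxy v
    have f1 := h13_fixed_of_inverted h a ha _ hxP hxi hx1 v₁ h1
    have f2 := h13_fixed_of_inverted h a ha _ hyP hyi hy1 v₂ h2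
    have f3 := h13_fixed_of_inverted h a ha _ hxyP hxyi hxy1 v₃ h3
    have f4 := h13_fixed_of_inverted h a ha _ hxyyP hxyyi hxyy1 v₄ h4
    rw [hv, smul_add, smul_add, smul_add, f1, f2, f3, f4]
  exact h.ne_one a ha (hf a hfix)

end abstract

end Cfsg.Agent.Lib.Helper28.T9
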