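import Mathlib
import Cfsg.Agent.Lib.Helper28.T9.Defs
import Cfsg.Agent.Lib.Helper13.T9B
import Cfsg.Agent.Lib.Helper13.T9C2c0
import Cfsg.Agent.Lib.Helper25.TTA1

/-!
# Project T9 (S5559), piece PL2 : the structure of a plane subgroup `⟨ab, ac⟩`
-/

set_option autoImplicit false

namespace Cfsg.Agent.Lib.Helper28.T9

section generic

variable {K : Type*} [Group K]

/-- normal form in a group generated by `x`, `y` with `x³ = y³ = (xy)³ = (xy⁻¹)³ = 1`
(the proof follows `Cfsg.Agent.Lib.Helper25.TT.b23_bound`) -/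
theorem h13_b23_normal (x y : K) (hx : x ^ 3 = 1) (hy : y ^ 3 = 1) (hxy : (x * y) ^ 3 = 1)
    (hxy' : (x * y⁻¹) ^ 3 = 1) :
    (y⁻¹ * x⁻¹ * y * x) * x = x * (y⁻¹ * x⁻¹ * y * x) ∧
    (y⁻¹ * x⁻¹ * y * x) * y = y * (y⁻¹ * x⁻¹ * y * x) ∧
    (y⁻¹ * x⁻¹ * y * x) ^ 3 = 1 ∧
    ∀ g ∈ Subgroup.closure ({x, y} : Set K), ∃ i j k : ℕ, i < 3 ∧ j < 3 ∧ k < 3 ∧
      g = x ^ i * y ^ j * (y⁻¹ * x⁻¹ * y * x) ^ k := by
  classical
  set z : K := y⁻¹ * x⁻¹ * y * x with hz
  have hyx : (y * x) ^ 3 = 1 := by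
    have : (y * x) ^ 3 = x⁻¹ * (x * y) ^ 3 * x := by
      rw [pow_three', pow_three']; group
    rw [this, hxy]; group
  have hyx' : (y * x⁻¹) ^ 3 = 1 := by
    have : (y * x⁻¹) ^ 3 = ((x * y⁻¹) ^ 3)⁻¹ := by
      rw [pow_three', pow_three']; group
    rw [this, hxy', inv_one]
  have hzy : z * y = y * z := by
    have := Cfsg.Agent.Lib.Helper25.TT.b23_comm_x y x hx hyx hyx'
    simpa [hz] using this
  have hzx : z * x = x * z := by
    have h := Cfsg.Agent.Lib.Helper25.TT.b23_comm_x x y hy hxy hxy'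
    have hzi : z = (x⁻¹ * y⁻¹ * x * y)⁻¹ := by rw [hz]; group
    have h2 : (x⁻¹ * y⁻¹ * x * y)⁻¹ * x = x * (x⁻¹ * y⁻¹ * x * y)⁻¹ := by
      calc (x⁻¹ * y⁻¹ * x * y)⁻¹ * x
          = (x⁻¹ * y⁻¹ * x * y)⁻¹ * (x * (x⁻¹ * y⁻¹ * x * y)) * (x⁻¹ * y⁻¹ * x * y)⁻¹ := by group
        _ = (x⁻¹ * y⁻¹ * x * y)⁻¹ * ((x⁻¹ * y⁻¹ * x * y) * x) * (x⁻¹ * y⁻¹ * x * y)⁻¹ := by rw [h]
        _ = x * (x⁻¹ * y⁻¹ * x * y)⁻¹ := by group
    rw [hzi]; exact h2
  have hyxz : y * x = x * y * z := by rw [hz]; group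
  have hz3 : z ^ 3 = 1 := by
    have e2 : (x * y) ^ 3 = x ^ 3 * y ^ 3 * z ^ 3 := by
      calc (x * y) ^ 3 = x * (y * x) * (y * x) * y := by rw [pow_three']; group
        _ = x * (x * y * z) * (x * y * z) * y := by rw [hyxz]
        _ = x * x * y * (z * x) * y * (z * y) := by group
        _ = x * x * y * (x * z) * y * (y * z) := by rw [hzx, hzy]
        _ = x * x * (y * x) * (z * y) * y * z := by group
        _ = x * x * (x * y * z) * (y * z) * y * z := by rw [hyxz, hzy]
        _ = x * x * x * y * (z * y) * (z * y) * z := by group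
        _ = x * x * x * y * (y * z) * (y * z) * z := by rw [hzy]
        _ = x * x * x * y * y * (z * y) * z * z := by group
        _ = x * x * x * y * y * (y * z) * z * z := by rw [hzy]
        _ = x ^ 3 * y ^ 3 * z ^ 3 := by rw [pow_three', pow_three', pow_three']; group
    rw [hxy, hx, hy] at e2
    simpa using e2.symm
  refine ⟨hzx, hzy, hz3, ?_⟩
  let S : Set K := {g | ∃ i j k : ℕ, g = x ^ i * y ^ j * z ^ k}
  have hzkx : ∀ k : ℕ, z ^ k * x = x * z ^ k := fun k => by
    have : Commute z x := hzx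
    exact (this.pow_left k).eq
  have hyxi : ∀ i : ℕ, y * x ^ i = x ^ i * y * z ^ i := by
    intro i
    induction i with
    | zero => simp
    | succ i ih =>
      calc y * x ^ (i + 1) = (y * x ^ i) * x := by rw [pow_succ]; group
        _ = (x ^ i * y * z ^ i) * x := by rw [ih]
        _ = x ^ i * y * (z ^ i * x) := by group
        _ = x ^ i * y * (x * z ^ i) := by rw [hzkx]
        _ = x ^ i * (y * x) * z ^ i := by group
        _ = x ^ i * (x * y * z) * z ^ i := by rw [hyxz]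
        _ = x ^ (i + 1) * y * z ^ (i + 1) := by rw [pow_succ, pow_succ']; group
  have hxS : ∀ s ∈ S, x * s ∈ S := by
    rintro s ⟨i, j, k, rfl⟩
    exact ⟨i + 1, j, k, by rw [pow_succ']; group⟩
  have hyS : ∀ s ∈ S, y * s ∈ S := by
    rintro s ⟨i, j, k, rfl⟩
    refine ⟨i, j + 1, i + k, ?_⟩
    have hzyj : ∀ j : ℕ, z ^ i * y ^ j = y ^ j * z ^ i := fun j => by
      have : Commute z y := hzy
      exact ((this.pow_left i).pow_right j).eq
    calc y * (x ^ i * y ^ j * z ^ k) = (y * x ^ i) * y ^ j * z ^ k := by group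
      _ = (x ^ i * y * z ^ i) * y ^ j * z ^ k := by rw [hyxi]
      _ = x ^ i * y * (z ^ i * y ^ j) * z ^ k := by group
      _ = x ^ i * y * (y ^ j * z ^ i) * z ^ k := by rw [hzyj]
      _ = x ^ i * y ^ (j + 1) * z ^ (i + k) := by rw [pow_succ', pow_add]; group
  have hxinv : x⁻¹ = x * x := by
    have : x * x * x = 1 := by rw [← pow_three']; exact hx
    rw [eq_comm]; exact eq_inv_of_mul_eq_one_left this
  have hyinv : y⁻¹ = y * y := by
    have : y * y * y = 1 := by rw [← pow_three']; exact hy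
    rw [eq_comm]; exact eq_inv_of_mul_eq_one_left this
  have key : ∀ g ∈ Subgroup.closure ({x, y} : Set K),
      (∀ s ∈ S, g * s ∈ S) ∧ (∀ s ∈ S, g⁻¹ * s ∈ S) := by
    intro g hg
    induction hg using Subgroup.closure_induction with
    | mem g hg =>
      rcases hg with rfl | rfl
      · refine ⟨hxS, fun s hs => ?_⟩
        rw [hxinv, mul_assoc]; exact hxS _ (hxS _ hs)
      · refine ⟨hyS, fun s hs => ?_⟩
        rw [hyinv, mul_assoc]; exact hyS _ (hyS _ hs)
    | one => simp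
    | mul a b _ _ iha ihb =>
      refine ⟨fun s hs => ?_, fun s hs => ?_⟩
      · rw [mul_assoc]; exact iha.1 _ (ihb.1 _ hs)
      · rw [mul_inv_rev, mul_assoc]; exact ihb.2 _ (iha.2 _ hs)
    | inv a _ iha =>
      exact ⟨iha.2, by simpa using iha.1⟩
  have h1 : (1 : K) ∈ S := ⟨0, 0, 0, by simp⟩
  intro g hg
  obtain ⟨i, j, k, hgk⟩ : g ∈ S := by simpa using (key g hg).1 1 h1
  refine ⟨i % 3, j % 3, k % 3, Nat.mod_lt _ (by norm_num), Nat.mod_lt _ (by norm_num),
    Nat.mod_lt _ (by norm_num), ?_⟩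
  rw [hgk, ← pow_eq_pow_mod i hx, ← pow_eq_pow_mod j hy, ← pow_eq_pow_mod k hz3]

/-- if a power of an element of order 3 commutes with `y` but the element does not, the exponent
is divisible by 3 -/
theorem h13_three_dvd_of_commute (x y : K) (hx : x ^ 3 = 1) (hnc : ¬ Commute x y) (n : ℕ)
    (hc : Commute (x ^ n) y) : 3 ∣ n := by
  rw [pow_eq_pow_mod n hx] at hc
  have hlt : n % 3 < 3 := Nat.mod_lt _ (by norm_num)
  rcases Nat.lt_or_ge 0 (n % 3) with h0 | h0
  · exfalso
    apply hnc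
    have h12 : n % 3 = 1 ∨ n % 3 = 2 := by omega
    rcases h12 with h1 | h2
    · rw [h1, pow_one] at hc
      exact hc
    · rw [h2] at hc
      have h4 : (x ^ 2) ^ 2 = x := by
        calc (x ^ 2) ^ 2 = x ^ 3 * x := by group
          _ = x := by rw [hx, one_mul]
      have := hc.pow_left 2
      rwa [h4] at this
  · exact Nat.dvd_of_mod_eq_zero (by omega)

/-- the plane group: generic version -/
theorem h13_plane_generic (x y a : K) (hx : x ^ 3 = 1) (hy : y ^ 3 = 1) (hxy : (x * y) ^ 3 = 1)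
    (hxy' : (x * y⁻¹) ^ 3 = 1) (hnc : x * y ≠ y * x) (haa : a * a = 1)
    (hax : a * x * a = x⁻¹) (hay : a * y * a = y⁻¹)
    (h3 : IsPGroup 3 ↥(Subgroup.closure ({x, y} : Set K))) :
    Nat.card ↥(Subgroup.closure ({x, y} : Set K)) = 27 ∧
    ∃ z ∈ Subgroup.closure ({x, y} : Set K), z ≠ 1 ∧ z ^ 3 = 1 ∧ a * z * a = z ∧
      (∀ g ∈ Subgroup.closure ({x, y} : Set K), g * z = z * g) ∧
      (∀ g ∈ Subgroup.closure ({x, y} : Set K), a * g = g * a → g ∈ Subgroup.zpowers z) ∧
      (∀ g ∈ Subgroup.closure ({x, y} : Set K),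
        (∀ k ∈ Subgroup.closure ({x, y} : Set K), g * k = k * g) → g ∈ Subgroup.zpowers z) := by
  have hainv : a⁻¹ = a := inv_eq_of_mul_eq_one_right haa
  have hxR : x ∈ Subgroup.closure ({x, y} : Set K) := Subgroup.subset_closure (by simp)
  have hyR : y ∈ Subgroup.closure ({x, y} : Set K) := Subgroup.subset_closure (by simp)
  have hncx : ¬ Commute x y := hnc
  have hncy : ¬ Commute y x := fun hc => hnc hc.symm.eq
  obtain ⟨hzx, hzy, hz3, hnf⟩ := h13_b23_normal x y hx hy hxy hxy'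
  set z : K := y⁻¹ * x⁻¹ * y * x with hz
  have hyxz : y * x = x * y * z := by rw [hz]; group
  have hcx : Commute z x := hzx
  have hcy : Commute z y := hzy
  refine ⟨?_, z, ?_, ?_, hz3, ?_, ?_, ?_, ?_⟩
  · -- the order
    obtain ⟨s, hs27, hs⟩ := Cfsg.Agent.Lib.Helper25.TT.b23_bound x y hx hy hxy hxy'
    have hsub : ((Subgroup.closure ({x, y} : Set K) : Subgroup K) : Set K) ⊆ (s : Set K) :=
      fun g hg => hs g hg
    have hfin : Finite ↥(Subgroup.closure ({x, y} : Set K)) :=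
      (s.finite_toSet.subset hsub).to_subtype
    have hle : Nat.card ↥(Subgroup.closure ({x, y} : Set K)) ≤ 27 := by
      have h1 := Nat.card_mono s.finite_toSet hsub
      have h2 : Nat.card ↥(↑s : Set K) = s.card := by
        rw [Nat.card_coe_set_eq, Set.ncard_coe_finset]
      rw [h2] at h1
      exact le_trans h1 hs27
    have : Fact (Nat.Prime 3) := ⟨Nat.prime_three⟩
    obtain ⟨n, hn⟩ := IsPGroup.iff_card.mp h3
    have hcomm : (∀ u w : ↥(Subgroup.closure ({x, y} : Set K)), u * w = w * u) → False := by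
      intro hc
      apply hnc
      have := hc ⟨x, hxR⟩ ⟨y, hyR⟩
      exact congrArg Subtype.val this
    have hn3 : n ≤ 3 := by
      by_contra hlt
      have h4 : 4 ≤ n := by omega
      have : 3 ^ 4 ≤ 3 ^ n := Nat.pow_le_pow_right (by norm_num) h4
      omega
    interval_cases n
    · exfalso
      apply hcomm
      intro u w
      have hss : Subsingleton ↥(Subgroup.closure ({x, y} : Set K)) :=
        (Nat.card_eq_one_iff_unique.mp (by simpa using hn)).1
      exact Subsingleton.elim _ _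
    · exfalso
      apply hcomm
      intro u w
      have hcyc := isCyclic_of_prime_card (α := ↥(Subgroup.closure ({x, y} : Set K)))
        (p := 3) (by simpa using hn)
      exact (IsCyclic.isMulCommutative
        (α := ↥(Subgroup.closure ({x, y} : Set K)))).is_comm.comm u w
    · exfalso
      apply hcomm
      intro u w
      exact (IsPGroup.isMulCommutative_of_card_eq_prime_sq (p := 3) hn).is_comm.comm u w
    · simpa using hn
  · -- `z ∈ R`
    rw [hz]
    exact Subgroup.mul_mem _ (Subgroup.mul_mem _ (Subgroup.mul_mem _ (Subgroup.inv_mem _ hyR)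
      (Subgroup.inv_mem _ hxR)) hyR) hxR
  · -- `z ≠ 1`
    intro h1
    apply hnc
    rw [hyxz, h1, mul_one]
  · -- `a z a = z`
    have e1 : a * z * a = y * x * y⁻¹ * x⁻¹ := by
      rw [hz, h13_conj_mul haa, h13_conj_mul haa, h13_conj_mul haa, h13_conj_inv hainv,
        h13_conj_inv hainv, hax, hay, inv_inv, inv_inv]
    rw [e1]
    calc y * x * y⁻¹ * x⁻¹ = (x * y * z) * y⁻¹ * x⁻¹ := by rw [hyxz]
      _ = x * y * (z * y⁻¹) * x⁻¹ := by group
      _ = x * y * (y⁻¹ * z) * x⁻¹ := by rw [(hcy.inv_right).eq]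
      _ = x * (z * x⁻¹) := by group
      _ = x * (x⁻¹ * z) := by rw [(hcx.inv_right).eq]
      _ = z := by group
  · -- `z` is central in `R`
    intro g hg
    have hle : Subgroup.closure ({x, y} : Set K) ≤ Subgroup.centralizer {z} := by
      rw [Subgroup.closure_le]
      intro u hu
      rw [SetLike.mem_coe, Subgroup.mem_centralizer_iff]
      intro w hw
      rw [Set.mem_singleton_iff] at hw
      subst hw
      rcases hu with rfl | rfl
      · exact hzx
      · exact hzy
    have := Subgroup.mem_centralizer_iff.mp (hle hg) z (Set.mem_singleton z)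
    exact this.symm
  · -- the centralizer of `a`
    intro g hg hag
    obtain ⟨i, j, k, hi, hj, hk, rfl⟩ := hnf g hg
    have hfix : a * (x ^ i * y ^ j * z ^ k) * a = x ^ i * y ^ j * z ^ k := by
      rw [hag, mul_assoc, haa, mul_one]
    have haz : a * z * a = z := by
      have e1 : a * z * a = y * x * y⁻¹ * x⁻¹ := by
        rw [hz, h13_conj_mul haa, h13_conj_mul haa, h13_conj_mul haa, h13_conj_inv hainv,
          h13_conj_inv hainv, hax, hay, inv_inv, inv_inv]
      rw [e1]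
      calc y * x * y⁻¹ * x⁻¹ = (x * y * z) * y⁻¹ * x⁻¹ := by rw [hyxz]
        _ = x * y * (z * y⁻¹) * x⁻¹ := by group
        _ = x * y * (y⁻¹ * z) * x⁻¹ := by rw [(hcy.inv_right).eq]
        _ = x * (z * x⁻¹) := by group
        _ = x * (x⁻¹ * z) := by rw [(hcx.inv_right).eq]
        _ = z := by group
    have hpow : ∀ (u : K) (n : ℕ), a * u ^ n * a = (a * u * a) ^ n := by
      intro u n
      have h1 : a * u ^ n * a⁻¹ = (a * u * a⁻¹) ^ n := (conj_pow (a := a) (b := u) (i := n)).symm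
      rwa [hainv] at h1
    rw [h13_conj_mul haa, h13_conj_mul haa, hpow, hpow, hpow, hax, hay, haz] at hfix
    have h2 : (x⁻¹) ^ i * (y⁻¹) ^ j = x ^ i * y ^ j := mul_right_cancel hfix
    rw [inv_pow, inv_pow] at h2
    have h4 : x ^ i * x ^ i = (y ^ j)⁻¹ * (y ^ j)⁻¹ := by
      calc x ^ i * x ^ i = x ^ i * (x ^ i * y ^ j) * (y ^ j)⁻¹ := by group
        _ = x ^ i * ((x ^ i)⁻¹ * (y ^ j)⁻¹) * (y ^ j)⁻¹ := by rw [← h2]
        _ = (y ^ j)⁻¹ * (y ^ j)⁻¹ := by group
    have hyy : Commute (y ^ j) y := (Commute.refl y).pow_left j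
    have hc1 : Commute (x ^ (2 * i)) y := by
      rw [two_mul, pow_add, h4]
      exact (hyy.inv_left).mul_left (hyy.inv_left)
    have hi3 := h13_three_dvd_of_commute x y hx hncx _ hc1
    have hi0 : i = 0 := by omega
    subst hi0
    rw [pow_zero, one_mul] at h4
    have h5 : y ^ (2 * j) = 1 := by
      rw [two_mul, pow_add]
      have : (y ^ j * y ^ j)⁻¹ = 1 := by
        rw [mul_inv_rev, ← h4]
      exact inv_eq_one.mp this
    have hc2 : Commute (y ^ (2 * j)) x := by
      rw [h5]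
      exact Commute.one_left x
    have hj3 := h13_three_dvd_of_commute y x hy hncy _ hc2
    have hj0 : j = 0 := by omega
    subst hj0
    rw [pow_zero, pow_zero, one_mul, one_mul]
    exact Subgroup.pow_mem _ (Subgroup.mem_zpowers z) k
  · -- the centre
    intro g hg hcen
    obtain ⟨i, j, k, hi, hj, hk, hgk⟩ := hnf g hg
    have hgy : Commute g y := hcen y hyR
    have hgx : Commute g x := hcen x hxR
    have hzky : Commute (z ^ k) y := hcy.pow_left k
    have hzkx : Commute (z ^ k) x := hcx.pow_left k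
    have hyy : Commute (y ^ j) y := (Commute.refl y).pow_left j
    have e1 : x ^ i = g * (z ^ k)⁻¹ * (y ^ j)⁻¹ := by
      rw [hgk]; group
    have hc1 : Commute (x ^ i) y := by
      rw [e1]
      exact (hgy.mul_left hzky.inv_left).mul_left hyy.inv_left
    have hi3 := h13_three_dvd_of_commute x y hx hncx _ hc1
    have hi0 : i = 0 := by omega
    subst hi0
    rw [pow_zero, one_mul] at hgk
    have e2 : y ^ j = g * (z ^ k)⁻¹ := by
      rw [hgk]; group
    have hc2 : Commute (y ^ j) x := by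
      rw [e2]
      exact hgx.mul_left hzkx.inv_left
    have hj3 := h13_three_dvd_of_commute y x hy hncy _ hc2
    have hj0 : j = 0 := by omega
    subst hj0
    rw [pow_zero, one_mul] at hgk
    rw [hgk]
    exact Subgroup.pow_mem _ (Subgroup.mem_zpowers z) k

end generic

universe u v

section abstract

variable {X : Type u} [Group X] {V : Type v} [AddCommGroup V] [DistribMulAction X V] {E : Set X}

/-- PIECE PL2 : the plane subgroup `R = ⟨ab, ac⟩` has order 27, centre `⟨z⟩` of order 3,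
`z` centralised by `a`, and `C_R(a) = ⟨z⟩`. -/
theorem plane_struct (h : Cfg X V E) (a b c : X) (ha : a ∈ E) (hb : b ∈ E) (hc : c ∈ E)
    (hnc : (a * b) * (a * c) ≠ (a * c) * (a * b)) :
    Nat.card ↥(Subgroup.closure ({a * b, a * c} : Set X)) = 27 ∧
    ∃ z ∈ Subgroup.closure ({a * b, a * c} : Set X), z ≠ 1 ∧ z ^ 3 = 1 ∧ a * z * a = z ∧
      (∀ g ∈ Subgroup.closure ({a * b, a * c} : Set X), g * z = z * g) ∧
      (∀ g ∈ Subgroup.closure ({a * b, a * c} : Set X), a * g = g * a → g ∈ Subgroup.zpowers z) ∧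
      (∀ g ∈ Subgroup.closure ({a * b, a * c} : Set X),
        (∀ k ∈ Subgroup.closure ({a * b, a * c} : Set X), g * k = k * g) → g ∈ Subgroup.zpowers z)
    := by
  have hainv := h13_inv_eq h a ha
  have haa := h.sq a ha
  have hx3 : (a * b) ^ 3 = 1 := h.cube a ha b hb
  have hy3 : (a * c) ^ 3 = 1 := h.cube a ha c hc
  obtain ⟨hxP, hxi⟩ := (inverted_iff h a ha (a * b)).mpr ⟨b, hb, rfl⟩
  obtain ⟨hyP, hyi⟩ := (inverted_iff h a ha (a * c)).mpr ⟨c, hc, rfl⟩
  have hxy : ((a * b) * (a * c)) ^ 3 = 1 := by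
    have h1 := h.cube (a * b * a) (h.conj a ha b hb) c hc
    have e : (a * b) * (a * c) = a * b * a * c := by simp only [mul_assoc]
    rw [e]
    exact h1
  have hxy' : ((a * b) * (a * c)⁻¹) ^ 3 = 1 := by
    have h1 := h.cube b hb c hc
    have e : (a * b) * (a * c)⁻¹ = a * (b * c) * a⁻¹ := by
      rw [mul_inv_rev, hainv, h13_inv_eq h c hc]
      simp only [mul_assoc]
    rw [e, conj_pow, h1, mul_one, mul_inv_cancel]
  have h3 : IsPGroup 3 ↥(Subgroup.closure ({a * b, a * c} : Set X)) := by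
    apply h.three.to_le
    rw [Subgroup.closure_le]
    intro g hg
    rcases hg with rfl | rfl
    · exact hxP
    · exact hyP
  exact h13_plane_generic (a * b) (a * c) a hx3 hy3 hxy hxy' hnc haa hxi hyi h3

end abstract

end Cfsg.Agent.Lib.Helper28.T9
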