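import Mathlib
import Cfsg.Agent.Lib.Helper28.T9.Defs
import Cfsg.Agent.Lib.Helper13.T9B

/-!
# Project T9 (S5559), piece Q1 : divide a configuration by the kernel of the action
-/

set_option autoImplicit false

namespace Cfsg.Agent.Lib.Helper28.T9

universe u v

section abstract

variable {X : Type u} [Group X] {V : Type v} [AddCommGroup V] [DistribMulAction X V] {E : Set X}

/-- the products of two members of the image are the images of the products -/
theorem h13_prodSet_image {Y : Type*} [Group Y] (f : X →* Y) (E : Set X) :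
    prodSet (f '' E) = f '' prodSet E := by
  ext y
  constructor
  · rintro ⟨a', ⟨a, ha, rfl⟩, b', ⟨b, hb, rfl⟩, rfl⟩
    exact ⟨a * b, ⟨a, ha, b, hb, rfl⟩, map_mul f a b⟩
  · rintro ⟨g, ⟨a, ha, b, hb, rfl⟩, rfl⟩
    exact ⟨f a, ⟨a, ha, rfl⟩, f b, ⟨b, hb, rfl⟩, map_mul f a b⟩

/-- `prodSub` commutes with images under homomorphisms -/
theorem h13_prodSub_image {Y : Type*} [Group Y] (f : X →* Y) (E : Set X) :
    prodSub (f '' E) = (prodSub E).map f := by
  unfold prodSub
  rw [h13_prodSet_image, MonoidHom.map_closure]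

/-- if one member of `E` acts nontrivially, all do -/
theorem h13_not_mem_kerAct (h : Cfg X V E) (hnt : ∃ a ∈ E, ∃ v : V, a • v ≠ v) (a : X)
    (ha : a ∈ E) : a ∉ kerAct X V := by
  intro haN
  obtain ⟨a₀, ha₀, v₀, hv₀⟩ := hnt
  obtain ⟨g, -, hg⟩ := exists_conj h a a₀ ha ha₀
  apply hv₀
  have h1 : g⁻¹ * a * g ∈ kerAct X V := by
    have := (kerAct_normal X V).conj_mem a haN g⁻¹
    rwa [inv_inv] at this
  rw [hg]
  exact h1 v₀

/-- PIECE Q1 : divide by the kernel of the action. -/
theorem cfg_quot (h : Cfg X V E) (hnt : ∃ a ∈ E, ∃ v : V, a • v ≠ v) :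
    Cfg (X ⧸ kerAct X V) V ((QuotientGroup.mk' (kerAct X V)) '' E) ∧
    Faith (X ⧸ kerAct X V) V ∧
    ((QuotientGroup.mk' (kerAct X V)) '' E).ncard = E.ncard := by
  have hnot := h13_not_mem_kerAct h hnt
  have hsmul : ∀ (g : X) (v : V), (QuotientGroup.mk' (kerAct X V) g) • v = g • v :=
    fun g v => rfl
  refine ⟨?_, ?_, ?_⟩
  · refine ⟨?_, ?_, ?_, ?_, ?_, ?_, h.two, ?_⟩
    · rintro _ ⟨a, ha, rfl⟩ h1
      apply hnot a ha
      exact (QuotientGroup.eq_one_iff a).mp h1
    · rintro _ ⟨a, ha, rfl⟩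
      rw [← map_mul, h.sq a ha, map_one]
    · rintro _ ⟨a, ha, rfl⟩ _ ⟨b, hb, rfl⟩
      exact ⟨a * b * a, h.conj a ha b hb, by rw [map_mul, map_mul]⟩
    · rintro _ ⟨a, ha, rfl⟩ _ ⟨b, hb, rfl⟩
      rw [← map_mul, ← map_pow, h.cube a ha b hb, map_one]
    · rw [← MonoidHom.map_closure, h.gen]
      exact Subgroup.map_top_of_surjective _ (QuotientGroup.mk'_surjective _)
    · rw [h13_prodSub_image]
      exact h.three.map _
    · rintro _ ⟨a, ha, rfl⟩ _ ⟨b, hb, rfl⟩ hab v hv
      have hab' : a ≠ b := by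
        rintro rfl
        exact hab rfl
      rw [← map_mul, hsmul] at hv
      rw [hsmul]
      exact h.star a ha b hb hab' v hv
  · intro g hg
    obtain ⟨g₀, rfl⟩ := QuotientGroup.mk'_surjective (kerAct X V) g
    apply (QuotientGroup.eq_one_iff g₀).mpr
    intro v
    have := hg v
    rwa [hsmul] at this
  · apply Set.ncard_image_of_injOn
    intro a ha b hb hab
    by_contra hne
    apply hnot a ha
    intro v
    apply h.star a ha b hb hne v
    -- `a * b` lies in the kernel
    have h1 : QuotientGroup.mk' (kerAct X V) (a * b) = 1 := by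
      rw [map_mul, hab, ← map_mul, h.sq b hb, map_one]
    exact (QuotientGroup.eq_one_iff (a * b)).mp h1 v

end abstract

end Cfsg.Agent.Lib.Helper28.T9
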