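import Cfsg.Agent.Lib.Helper28.TOO.Defs2

/-!
# Project TOO (leader helper28), row GA4: `finrank_Lpl`.
-/

set_option autoImplicit false
set_option linter.unusedVariables false
set_option linter.unusedSectionVars false

namespace Cfsg.Agent.Lib.Helper28.TOO

open Matrix
open scoped Kronecker
open Cfsg.Agent.Lib.helper7.TP Cfsg.Agent.Lib.Helper21.TS

variable {a b : ℕ} {F : Type*} [Field F]
variable {J1 : Matrix (Fin a) (Fin a) F} {J2 : Matrix (Fin b) (Fin b) F}

/-- `u ↦ u ⊗ w` as a linear map -/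
def tooga4_tenL (a : ℕ) (w : Fin b → F) : (Fin a → F) →ₗ[F] (Fin a × Fin b → F) where
  toFun u := ten u w
  map_add' u u' := ten_add_left u u' w
  map_smul' c u := ten_smul_left c u w

theorem tooga4_tenL_apply (w : Fin b → F) (u : Fin a → F) : tooga4_tenL a w u = ten u w := rfl

/-- GA4 [M]. `dim L_W = 2a`. -/
theorem finrank_Lpl (w₁ w₂ : Fin b → F)
    (hind : ∀ c₁ c₂ : F, c₁ • w₁ + c₂ • w₂ = 0 → c₁ = 0 ∧ c₂ = 0) :
    Module.finrank F ↥(Lpl (a := a) w₁ w₂) = 2 * a := by
  set φ : (Fin a → F) × (Fin a → F) →ₗ[F] (Fin a × Fin b → F) :=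
    (tooga4_tenL a w₁).coprod (tooga4_tenL a w₂) with hφ
  have hφa : ∀ p : (Fin a → F) × (Fin a → F), φ p = ten p.1 w₁ + ten p.2 w₂ := by
    intro p
    rw [hφ, LinearMap.coprod_apply, tooga4_tenL_apply, tooga4_tenL_apply]
  have hrange : LinearMap.range φ = Lpl (a := a) w₁ w₂ := by
    ext v
    rw [LinearMap.mem_range, mem_Lpl]
    constructor
    · rintro ⟨p, rfl⟩
      exact ⟨p.1, p.2, hφa p⟩
    · rintro ⟨u₁, u₂, rfl⟩
      exact ⟨(u₁, u₂), hφa _⟩
  have hinj : Function.Injective φ := by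
    rw [← LinearMap.ker_eq_bot, LinearMap.ker_eq_bot']
    intro p hp
    rw [hφa] at hp
    have key : ∀ i : Fin a, p.1 i = 0 ∧ p.2 i = 0 := by
      intro i
      apply hind
      funext j
      have := congrFun hp (i, j)
      simpa [ten] using this
    ext i
    · exact (key i).1
    · exact (key i).2
  rw [← hrange, LinearMap.finrank_range_of_inj hinj, Module.finrank_prod, Module.finrank_fin_fun]
  ring

end Cfsg.Agent.Lib.Helper28.TOO
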