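import Cfsg.Agent.Lib.Helper28.TOO.Defs2

/-!
# Project TOO (leader helper28), row GA5: `mem_perp_Lpl`, `Lpl_le_perp`.
-/

set_option autoImplicit false
set_option linter.unusedVariables false
set_option linter.unusedSectionVars false

namespace Cfsg.Agent.Lib.Helper28.TOO

open Matrix
open scoped Kronecker
open Cfsg.Agent.Lib.helper7.TP Cfsg.Agent.Lib.Helper21.TS

variable {a b : ℕ} {F : Type*} [Field F]
variable {J1 : Matrix (Fin a) (Fin a) F} {J2 : Matrix (Fin b) (Fin b) F}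

theorem tooga5_zero_ten (w : Fin b → F) : ten (0 : Fin a → F) w = 0 := by
  funext p
  simp [ten]

/-- GA5 [S-M]. `L_W^⊥ = A ⊗ W^⊥`: `v ⊥ L_W` iff both contractions vanish; in particular `L_W ≤ L_W^⊥`. -/
theorem mem_perp_Lpl (C : OCtx J1 J2) (w₁ w₂ : Fin b → F) (v : Fin a × Fin b → F) :
    v ∈ perp (JV J1 J2) (Lpl (a := a) w₁ w₂) ↔
      (∀ u : Fin a → F, bf (JV J1 J2) v (ten u w₁) = 0) ∧ (∀ u : Fin a → F, bf (JV J1 J2) v (ten u w₂) = 0) := by
  rw [mem_perp]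
  constructor
  · intro h
    constructor
    · intro u
      apply h
      rw [mem_Lpl]
      exact ⟨u, 0, by rw [tooga5_zero_ten, add_zero]⟩
    · intro u
      apply h
      rw [mem_Lpl]
      exact ⟨0, u, by rw [tooga5_zero_ten, zero_add]⟩
  · rintro ⟨h1, h2⟩ s hs
    obtain ⟨u₁, u₂, rfl⟩ := (mem_Lpl w₁ w₂ s).mp hs
    rw [bf_add_right, h1, h2, add_zero]

theorem Lpl_le_perp (C : OCtx J1 J2) (w₁ w₂ : Fin b → F) (h : IsTS J2 w₁ w₂) :
    Lpl (a := a) w₁ w₂ ≤ perp (JV J1 J2) (Lpl (a := a) w₁ w₂) := by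
  obtain ⟨h11, h12, h22, -⟩ := h
  have h21 : bf J2 w₂ w₁ = 0 := by rw [bf_symm C.sym2]; exact h12
  intro v hv
  obtain ⟨u₁, u₂, rfl⟩ := (mem_Lpl w₁ w₂ v).mp hv
  rw [mem_perp_Lpl C]
  constructor
  · intro u
    rw [bf_add_left, bf_JV_ten, bf_JV_ten, h11, h21, mul_zero, mul_zero, add_zero]
  · intro u
    rw [bf_add_left, bf_JV_ten, bf_JV_ten, h12, h22, mul_zero, mul_zero, add_zero]

end Cfsg.Agent.Lib.Helper28.TOO
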