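import Cfsg.Agent.Lib.Helper28.TOO.Defs2
import Cfsg.Agent.Lib.Helper28.TOOPERP
import Cfsg.Agent.Lib.Helper13.TOOGA4
import Cfsg.Agent.Lib.Helper13.TOOGA5

/-!
# Project TOO (leader helper28), row GA6: the action of `N = 1 ⊗ N_W`:
`NV_mulVec_ten`, `NV_sq`, `NV_skew`, `NV_ker`, `NV_range`.
-/

set_option autoImplicit false
set_option linter.unusedVariables false
set_option linter.unusedSectionVars false

namespace Cfsg.Agent.Lib.Helper28.TOO

open Matrix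
open scoped Kronecker
open Cfsg.Agent.Lib.helper7.TP Cfsg.Agent.Lib.Helper21.TS

variable {a b : ℕ} {F : Type*} [Field F]
variable {J1 : Matrix (Fin a) (Fin a) F} {J2 : Matrix (Fin b) (Fin b) F}

theorem tooga6_Nw_mulVec {n : ℕ} (J : Matrix (Fin n) (Fin n) F) (w₁ w₂ y : Fin n → F) :
    Nw J w₁ w₂ *ᵥ y = bf J w₂ y • w₁ - bf J w₁ y • w₂ := by
  rw [Nw, Matrix.sub_mulVec, opm_mulVec, opm_mulVec]

theorem tooga6_bf_add_mat {n : Type*} [Fintype n] (M M' : Matrix n n F) (x y : n → F) :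
    bf (M + M') x y = bf M x y + bf M' x y := by
  simp only [bf, Matrix.add_mulVec, dotProduct_add]

theorem tooga6_bf_zero_mat {n : Type*} [Fintype n] (x y : n → F) :
    bf (0 : Matrix n n F) x y = 0 := by
  simp only [bf, Matrix.zero_mulVec, dotProduct_zero]

/-- the `(i, j)` entry of `N v` only involves the `i`-th row of `v` -/
theorem tooga6_NV_apply (w₁ w₂ : Fin b → F) (v : Fin a × Fin b → F) (i : Fin a) (j : Fin b) :
    (NV (a := a) J2 w₁ w₂ *ᵥ v) (i, j) = (Nw J2 w₁ w₂ *ᵥ (fun j' => v (i, j'))) j := by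
  simp only [NV, Matrix.mulVec, dotProduct, Matrix.kroneckerMap_apply, Fintype.sum_prod_type,
    Matrix.one_apply, ite_mul, one_mul, zero_mul]
  rw [Finset.sum_eq_single i]
  · simp
  · intro i' _ hi'
    have : ¬ i = i' := fun h => hi' h.symm
    simp [this]
  · intro h
    exact absurd (Finset.mem_univ i) h

/-- contraction of `v` with a pure tensor, through the rows of `v` -/
theorem tooga6_bf_ten_right (J1 : Matrix (Fin a) (Fin a) F) (J2 : Matrix (Fin b) (Fin b) F)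
    (v : Fin a × Fin b → F) (u : Fin a → F) (w : Fin b → F) :
    bf (JV J1 J2) v (ten u w) = bf J1 (fun i => bf J2 (fun j => v (i, j)) w) u := by
  simp only [bf, JV]
  rw [kron_mulVec_ten]
  simp only [dotProduct, ten, Fintype.sum_prod_type]
  apply Finset.sum_congr rfl
  intro i _
  rw [Finset.sum_mul]
  apply Finset.sum_congr rfl
  intro j _
  ring

/-- GA6 [M]. the action of `N`: `N (u ⊗ y) = u ⊗ (f₂(w₂,y) w₁ - f₂(w₁,y) w₂)`; `N² = 0`; `N` is skew-adjoint;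
`ker N = L_W^⊥`, `im N = L_W`. -/
theorem NV_mulVec_ten (w₁ w₂ : Fin b → F) (u : Fin a → F) (y : Fin b → F) :
    NV (a := a) J2 w₁ w₂ *ᵥ ten u y = ten u (bf J2 w₂ y • w₁ - bf J2 w₁ y • w₂) := by
  rw [NV, kron_mulVec_ten, Matrix.one_mulVec, tooga6_Nw_mulVec]

theorem tooga6_Nw_sq {n : ℕ} {J : Matrix (Fin n) (Fin n) F} (hJ : Jᵀ = J) (w₁ w₂ : Fin n → F)
    (h : IsTS J w₁ w₂) : Nw J w₁ w₂ * Nw J w₁ w₂ = 0 := by
  obtain ⟨h11, h12, h22, -⟩ := h
  have h21 : bf J w₂ w₁ = 0 := by rw [bf_symm hJ]; exact h12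
  rw [Matrix.ext_iff_mulVec]
  intro x
  rw [← Matrix.mulVec_mulVec, tooga6_Nw_mulVec J w₁ w₂ x, Matrix.mulVec_sub, Matrix.mulVec_smul,
    Matrix.mulVec_smul, tooga6_Nw_mulVec, tooga6_Nw_mulVec, h11, h12, h21, h22, Matrix.zero_mulVec]
  simp

theorem NV_sq (C : OCtx J1 J2) (w₁ w₂ : Fin b → F) (h : IsTS J2 w₁ w₂) :
    NV (a := a) J2 w₁ w₂ * NV (a := a) J2 w₁ w₂ = 0 := by
  rw [NV, ← Matrix.mul_kronecker_mul, tooga6_Nw_sq C.sym2 w₁ w₂ h, Matrix.kronecker_zero]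

theorem tooga6_Nw_skew {n : ℕ} {J : Matrix (Fin n) (Fin n) F} (hJ : Jᵀ = J) (w₁ w₂ : Fin n → F) :
    (Nw J w₁ w₂)ᵀ * J + J * Nw J w₁ w₂ = 0 := by
  apply bf_ext
  intro x y
  rw [tooga6_bf_add_mat, ← bf_mulVec_left, ← bf_mulVec_right, tooga6_bf_zero_mat,
    tooga6_Nw_mulVec, tooga6_Nw_mulVec, bf_sub_left, bf_sub_right, bf_smul_left, bf_smul_left,
    bf_smul_right, bf_smul_right, bf_symm hJ x w₁, bf_symm hJ x w₂]
  ring

theorem NV_skew (C : OCtx J1 J2) (w₁ w₂ : Fin b → F) (v v' : Fin a × Fin b → F) :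
    bf (JV J1 J2) (NV (a := a) J2 w₁ w₂ *ᵥ v) v' = - bf (JV J1 J2) v (NV (a := a) J2 w₁ w₂ *ᵥ v') := by
  have hmat : (NV (a := a) J2 w₁ w₂)ᵀ * JV J1 J2 + JV J1 J2 * NV (a := a) J2 w₁ w₂ = 0 := by
    rw [NV, JV, ← Matrix.kroneckerMap_transpose, Matrix.transpose_one, ← Matrix.mul_kronecker_mul,
      ← Matrix.mul_kronecker_mul, Matrix.one_mul, Matrix.mul_one, ← Matrix.kronecker_add,
      tooga6_Nw_skew C.sym2, Matrix.kronecker_zero]
  have h := tooga6_bf_add_mat ((NV (a := a) J2 w₁ w₂)ᵀ * JV J1 J2)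
    (JV J1 J2 * NV (a := a) J2 w₁ w₂) v v'
  rw [hmat, tooga6_bf_zero_mat, ← bf_mulVec_left, ← bf_mulVec_right] at h
  exact eq_neg_of_add_eq_zero_left h.symm

theorem tooga6_vec_eq_zero {n : ℕ} {J : Matrix (Fin n) (Fin n) F} (hdet : J.det ≠ 0) (c : Fin n → F)
    (h : ∀ u, bf J c u = 0) : c = 0 := by
  by_contra hc
  obtain ⟨y, hy⟩ := bf_nondeg hdet hc
  exact hy (h y)

theorem NV_ker (C : OCtx J1 J2) (w₁ w₂ : Fin b → F) (h : IsTS J2 w₁ w₂) (v : Fin a × Fin b → F) :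
    NV (a := a) J2 w₁ w₂ *ᵥ v = 0 ↔ v ∈ perp (JV J1 J2) (Lpl (a := a) w₁ w₂) := by
  obtain ⟨h11, h12, h22, hind⟩ := h
  rw [mem_perp_Lpl C]
  constructor
  · intro h0
    have hrow : ∀ i : Fin a, bf J2 w₂ (fun j => v (i, j)) = 0 ∧ bf J2 w₁ (fun j => v (i, j)) = 0 := by
      intro i
      have h1 : Nw J2 w₁ w₂ *ᵥ (fun j => v (i, j)) = 0 := by
        funext j
        rw [← tooga6_NV_apply, h0]
        rfl
      rw [tooga6_Nw_mulVec, sub_eq_add_neg, ← neg_smul] at h1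
      obtain ⟨e1, e2⟩ := hind _ _ h1
      exact ⟨e1, neg_eq_zero.mp e2⟩
    constructor
    · intro u
      rw [tooga6_bf_ten_right]
      have : (fun i => bf J2 (fun j => v (i, j)) w₁) = 0 := by
        funext i
        rw [bf_symm C.sym2]
        exact (hrow i).2
      rw [this, bf_zero_left]
    · intro u
      rw [tooga6_bf_ten_right]
      have : (fun i => bf J2 (fun j => v (i, j)) w₂) = 0 := by
        funext i
        rw [bf_symm C.sym2]
        exact (hrow i).1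
      rw [this, bf_zero_left]
  · rintro ⟨hp1, hp2⟩
    have hc1 : (fun i => bf J2 (fun j => v (i, j)) w₁) = 0 := by
      apply tooga6_vec_eq_zero C.det1
      intro u
      rw [← tooga6_bf_ten_right]
      exact hp1 u
    have hc2 : (fun i => bf J2 (fun j => v (i, j)) w₂) = 0 := by
      apply tooga6_vec_eq_zero C.det1
      intro u
      rw [← tooga6_bf_ten_right]
      exact hp2 u
    funext p
    obtain ⟨i, j⟩ := p
    rw [tooga6_NV_apply, tooga6_Nw_mulVec, bf_symm C.sym2 w₂, bf_symm C.sym2 w₁]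
    have e1 := congrFun hc1 i
    have e2 := congrFun hc2 i
    simp only [Pi.zero_apply] at e1 e2
    rw [e1, e2]
    simp

theorem tooga6_range_le (w₁ w₂ : Fin b → F) (v' : Fin a × Fin b → F) :
    NV (a := a) J2 w₁ w₂ *ᵥ v' ∈ Lpl (a := a) w₁ w₂ := by
  rw [mem_Lpl]
  refine ⟨fun i => bf J2 w₂ (fun j => v' (i, j)), fun i => - bf J2 w₁ (fun j => v' (i, j)), ?_⟩
  funext p
  obtain ⟨i, j⟩ := p
  rw [tooga6_NV_apply, tooga6_Nw_mulVec]
  simp only [ten, Pi.add_apply, Pi.sub_apply, Pi.smul_apply, smul_eq_mul]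
  ring

theorem NV_range (C : OCtx J1 J2) (w₁ w₂ : Fin b → F) (h : IsTS J2 w₁ w₂) (v : Fin a × Fin b → F) :
    (∃ v' : Fin a × Fin b → F, NV (a := a) J2 w₁ w₂ *ᵥ v' = v) ↔ v ∈ Lpl (a := a) w₁ w₂ := by
  set φ : (Fin a × Fin b → F) →ₗ[F] (Fin a × Fin b → F) :=
    Matrix.toLin' (NV (a := a) J2 w₁ w₂) with hφ
  have hφa : ∀ x, φ x = NV (a := a) J2 w₁ w₂ *ᵥ x := fun x => Matrix.toLin'_apply _ _
  have hle : LinearMap.range φ ≤ Lpl (a := a) w₁ w₂ := by
    rintro _ ⟨x, rfl⟩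
    rw [hφa]
    exact tooga6_range_le w₁ w₂ x
  have hker : LinearMap.ker φ = perp (JV J1 J2) (Lpl (a := a) w₁ w₂) := by
    ext x
    rw [LinearMap.mem_ker, hφa, NV_ker C w₁ w₂ h]
  have h1 := LinearMap.finrank_range_add_finrank_ker φ
  have h2 := perp_finrank C (Lpl (a := a) w₁ w₂)
  have h3 : Module.finrank F (Fin a × Fin b → F) = a * b := by
    rw [Module.finrank_fintype_fun_eq_card, Fintype.card_prod, Fintype.card_fin, Fintype.card_fin]
  rw [hker, h3] at h1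
  have heq : Module.finrank F ↥(LinearMap.range φ) = Module.finrank F ↥(Lpl (a := a) w₁ w₂) := by
    omega
  have hrange : LinearMap.range φ = Lpl (a := a) w₁ w₂ := Submodule.eq_of_le_of_finrank_eq hle heq
  rw [← hrange, LinearMap.mem_range]
  constructor
  · rintro ⟨v', hv'⟩
    exact ⟨v', by rw [hφa, hv']⟩
  · rintro ⟨v', hv'⟩
    exact ⟨v', by rw [← hφa, hv']⟩

end Cfsg.Agent.Lib.Helper28.TOO
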