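import Cfsg.Agent.Lib.Helper28.TOO.Defs2
import Cfsg.Agent.Lib.Helper13.TOOGA6

/-!
# Project TOO (leader helper28), row GC5 (`c1_img`), core: from the conclusion of `c1` (GC4).
-/

set_option autoImplicit false
set_option linter.unusedVariables false
set_option linter.unusedSectionVars false

namespace Cfsg.Agent.Lib.Helper28.TOO

open Matrix
open scoped Kronecker
open Cfsg.Agent.Lib.helper7.TP Cfsg.Agent.Lib.Helper21.TS

variable {a b : ℕ} {F : Type*} [Field F]
variable {J1 : Matrix (Fin a) (Fin a) F} {J2 : Matrix (Fin b) (Fin b) F}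

/-- GC5 core: if `h = γ (1 + c N_W) γ⁻¹ = 1 + c' N_{W'}` with `c, c' ≠ 0` then `γ L_W = L_{W'}`. -/
theorem toogc5_core (C : OCtx J1 J2)
    (h γ : Matrix.GeneralLinearGroup (Fin a × Fin b) F)
    (w₁ w₂ : Fin b → F) (hw : IsTS J2 w₁ w₂) (c : F) (hc : c ≠ 0)
    (hconj : (h : Matrix (Fin a × Fin b) (Fin a × Fin b) F) =
      (γ : Matrix (Fin a × Fin b) (Fin a × Fin b) F) * (1 + c • NV (a := a) J2 w₁ w₂) *
        ((γ⁻¹ : Matrix.GeneralLinearGroup (Fin a × Fin b) F) : Matrix (Fin a × Fin b) (Fin a × Fin b) F))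
    (w₁' w₂' : Fin b → F) (c' : F) (hts : IsTS J2 w₁' w₂') (hc' : c' ≠ 0)
    (heq : (h : Matrix (Fin a × Fin b) (Fin a × Fin b) F) = 1 + c' • NV (a := a) J2 w₁' w₂') :
    Std J2 (img γ (Lpl (a := a) w₁ w₂)) := by
  refine ⟨w₁', w₂', hts, ?_⟩
  set N := NV (a := a) J2 w₁ w₂ with hN
  set N' := NV (a := a) J2 w₁' w₂' with hN'
  set G : Matrix (Fin a × Fin b) (Fin a × Fin b) F := (γ : Matrix (Fin a × Fin b) (Fin a × Fin b) F)
  set Gi : Matrix (Fin a × Fin b) (Fin a × Fin b) F :=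
    ((γ⁻¹ : Matrix.GeneralLinearGroup (Fin a × Fin b) F) : Matrix (Fin a × Fin b) (Fin a × Fin b) F)
  have hGGi : G * Gi = 1 := by
    rw [← Units.val_mul, mul_inv_cancel, Units.val_one]
  have hGiG : Gi * G = 1 := by
    rw [← Units.val_mul, inv_mul_cancel, Units.val_one]
  -- `c' N' = γ (c N) γ⁻¹`
  have hD : c' • N' = G * (c • N) * Gi := by
    have h1 : (h : Matrix (Fin a × Fin b) (Fin a × Fin b) F) - 1 = G * (c • N) * Gi := by
      rw [hconj, Matrix.mul_add, Matrix.add_mul, Matrix.mul_one, hGGi, add_sub_cancel_left]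
    rw [← h1, heq, add_sub_cancel_left]
  -- `c' N' γ = γ c N`
  have hD' : (c' • N') * G = G * (c • N) := by
    rw [hD, Matrix.mul_assoc, hGiG, Matrix.mul_one]
  ext v
  rw [mem_img]
  constructor
  · rintro ⟨s, hs, rfl⟩
    obtain ⟨v', hv'⟩ := (NV_range C w₁ w₂ hw s).mpr hs
    -- `c • γ s = c' N' (γ v')`
    have h2 : c • (G *ᵥ s) = c' • (N' *ᵥ (G *ᵥ v')) := by
      have := congrArg (fun M => M *ᵥ v') hD'
      beta_reduce at this
      rw [← Matrix.mulVec_mulVec, ← Matrix.mulVec_mulVec, Matrix.smul_mulVec, Matrix.smul_mulVec,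
        hv'] at this
      rw [Matrix.mulVec_smul] at this
      exact this.symm
    have h3 : G *ᵥ s = c⁻¹ • (c' • (N' *ᵥ (G *ᵥ v'))) := by
      rw [← h2, smul_smul, inv_mul_cancel₀ hc, one_smul]
    rw [h3]
    exact Submodule.smul_mem _ _ (Submodule.smul_mem _ _ (tooga6_range_le w₁' w₂' _))
  · intro hv
    obtain ⟨v', hv'⟩ := (NV_range C w₁' w₂' hts v).mpr hv
    refine ⟨c'⁻¹ • (c • (N *ᵥ (Gi *ᵥ v'))), ?_, ?_⟩
    · exact Submodule.smul_mem _ _ (Submodule.smul_mem _ _ (tooga6_range_le w₁ w₂ _))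
    · have := congrArg (fun M => M *ᵥ v') hD
      beta_reduce at this
      rw [Matrix.smul_mulVec, hv', ← Matrix.mulVec_mulVec, ← Matrix.mulVec_mulVec,
        Matrix.smul_mulVec] at this
      rw [Matrix.mulVec_smul, ← this, smul_smul, inv_mul_cancel₀ hc', one_smul]

end Cfsg.Agent.Lib.Helper28.TOO
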