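import Cfsg.Agent.Lib.Helper13.TOOGC4core
import Cfsg.Agent.Lib.Helper13.TOOGC5core
import Cfsg.Agent.Lib.Helper27.TOOGC1
import Cfsg.Agent.Lib.Helper27.TOOGC2
import Cfsg.Agent.Lib.Helper27.TOOGC3

/-!
# Project TOO (leader helper28), rows GC4 (`c1`) and GC5 (`c1_img`), verbatim.
-/

set_option autoImplicit false
set_option linter.unusedVariables false
set_option linter.unusedSectionVars false

namespace Cfsg.Agent.Lib.Helper28.TOO

open Matrix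
open scoped Kronecker
open Cfsg.Agent.Lib.helper7.TP Cfsg.Agent.Lib.Helper21.TS

variable {a b : ℕ} {F : Type*} [Field F]
variable {J1 : Matrix (Fin a) (Fin a) F} {J2 : Matrix (Fin b) (Fin b) F}

/-- GC4 [M]. C1: an element of `K0 ∩ O(V)` conjugate in `GL` to a long root element `x_W(c)`, `c ≠ 0`, is `x_{W'}(c')`.
(GC1; `h = α ⊗ β`, if `α = μ`: `h = 1 ⊗ μβ`, `rank (h-1) = a * rank(μβ - 1) = 2a` [rank of a Kronecker product / count
with `finrank_Lpl`], GC2; if `β = μ`: `rank(μα - 1) * b = 2a < 2b`, so rank 1, GC3.) -/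
theorem c1 (C : OCtx J1 J2) (ha : 1 ≤ a) (hab : a < b)
    (h γ : Matrix.GeneralLinearGroup (Fin a × Fin b) F) (hK : h ∈ K0 a b F) (hO : h ∈ OV J1 J2)
    (w₁ w₂ : Fin b → F) (hw : IsTS J2 w₁ w₂) (c : F) (hc : c ≠ 0)
    (hconj : (h : Matrix (Fin a × Fin b) (Fin a × Fin b) F) =
      (γ : Matrix (Fin a × Fin b) (Fin a × Fin b) F) * (1 + c • NV (a := a) J2 w₁ w₂) *
        ((γ⁻¹ : Matrix.GeneralLinearGroup (Fin a × Fin b) F) : Matrix (Fin a × Fin b) (Fin a × Fin b) F)) :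
    ∃ (w₁' w₂' : Fin b → F) (c' : F), IsTS J2 w₁' w₂' ∧ c' ≠ 0 ∧
      (h : Matrix (Fin a × Fin b) (Fin a × Fin b) F) = 1 + c' • NV (a := a) J2 w₁' w₂' :=
  toogc4_core C ha hab (fun α β hsq => sqzero_kron_scalar C.two α β hsq)
    (fun ν hiso hsq hrk => sqzero_iso_rank2 C.two C.sym2 C.det2 ν hiso hsq hrk)
    (fun ν hiso hsq => sqzero_iso_rank_ne_one C.two C.sym1 C.det1 ν hiso hsq)
    h γ hK hO w₁ w₂ hw c hc hconj

/-- GC5 [S-M]. consequence: then `γ L_W = L_{W'}` is standard (`im (h - 1) = γ (im N) `, NV_range). -/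
theorem c1_img (C : OCtx J1 J2) (ha : 1 ≤ a) (hab : a < b)
    (h γ : Matrix.GeneralLinearGroup (Fin a × Fin b) F) (hK : h ∈ K0 a b F) (hO : h ∈ OV J1 J2)
    (w₁ w₂ : Fin b → F) (hw : IsTS J2 w₁ w₂) (c : F) (hc : c ≠ 0)
    (hconj : (h : Matrix (Fin a × Fin b) (Fin a × Fin b) F) =
      (γ : Matrix (Fin a × Fin b) (Fin a × Fin b) F) * (1 + c • NV (a := a) J2 w₁ w₂) *
        ((γ⁻¹ : Matrix.GeneralLinearGroup (Fin a × Fin b) F) : Matrix (Fin a × Fin b) (Fin a × Fin b) F)) :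
    Std J2 (img γ (Lpl (a := a) w₁ w₂)) := by
  obtain ⟨w₁', w₂', c', hts, hc', heq⟩ := c1 C ha hab h γ hK hO w₁ w₂ hw c hc hconj
  exact toogc5_core C h γ w₁ w₂ hw c hc hconj w₁' w₂' c' hts hc' heq

end Cfsg.Agent.Lib.Helper28.TOO
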