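import Cfsg.Agent.Lib.Helper28.TOO.Defs2
import Cfsg.Agent.Lib.Helper13.TOOGA6
import Cfsg.Agent.Lib.Helper11.TSDKRONONE

/-!
# Project TOO (leader helper28), row GC4 (`c1`), core: the statements of GC1, GC2 (for `J2`), GC3 (for `J1`)
enter as hypotheses.
-/

set_option autoImplicit false
set_option linter.unusedVariables false
set_option linter.unusedSectionVars false

namespace Cfsg.Agent.Lib.Helper28.TOO

open Matrix
open scoped Kronecker
open Cfsg.Agent.Lib.helper7.TP Cfsg.Agent.Lib.Helper21.TS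

variable {a b : ℕ} {F : Type*} [Field F]
variable {J1 : Matrix (Fin a) (Fin a) F} {J2 : Matrix (Fin b) (Fin b) F}

theorem toogc4_kron_cancel_left (A : Matrix (Fin a) (Fin a) F) (hA : A ≠ 0)
    (X Y : Matrix (Fin b) (Fin b) F) (h : A ⊗ₖ X = A ⊗ₖ Y) : X = Y := by
  have : ∃ i i', A i i' ≠ 0 := by
    by_contra hcon
    push Not at hcon
    apply hA
    ext i i'
    exact hcon i i'
  obtain ⟨i, i', hii⟩ := this
  ext j j'
  have := congrFun (congrFun h (i, j)) (i', j')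
  simp only [Matrix.kroneckerMap_apply] at this
  exact mul_left_cancel₀ hii this

theorem toogc4_kron_cancel_right (B : Matrix (Fin b) (Fin b) F) (hB : B ≠ 0)
    (X Y : Matrix (Fin a) (Fin a) F) (h : X ⊗ₖ B = Y ⊗ₖ B) : X = Y := by
  have : ∃ j j', B j j' ≠ 0 := by
    by_contra hcon
    push Not at hcon
    apply hB
    ext j j'
    exact hcon j j'
  obtain ⟨j, j', hjj⟩ := this
  ext i i'
  have := congrFun (congrFun h (i, j)) (i', j')
  simp only [Matrix.kroneckerMap_apply] at this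
  exact mul_right_cancel₀ hjj this

theorem toogc4_ne_zero_of_det {n : ℕ} (hn : 1 ≤ n) (J : Matrix (Fin n) (Fin n) F) (hdet : J.det ≠ 0) :
    J ≠ 0 := by
  rintro rfl
  haveI : Nonempty (Fin n) := ⟨⟨0, hn⟩⟩
  exact hdet Matrix.det_zero

/-- the rank of `N = 1 ⊗ N_W` is `2a` -/
theorem toogc4_rank_NV (C : OCtx J1 J2) (w₁ w₂ : Fin b → F) (hw : IsTS J2 w₁ w₂) :
    (NV (a := a) J2 w₁ w₂).rank = 2 * a := by
  have hrange : LinearMap.range (NV (a := a) J2 w₁ w₂).mulVecLin = Lpl (a := a) w₁ w₂ := by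
    ext v
    rw [LinearMap.mem_range, ← NV_range C w₁ w₂ hw v]
    constructor
    · rintro ⟨v', hv'⟩
      exact ⟨v', by rw [← Matrix.mulVecLin_apply, hv']⟩
    · rintro ⟨v', hv'⟩
      exact ⟨v', by rw [Matrix.mulVecLin_apply, hv']⟩
  rw [Matrix.rank, hrange, finrank_Lpl w₁ w₂ hw.2.2.2]

theorem toogc4_rank_smul {n : Type*} [Fintype n] [DecidableEq n] (c : F) (hc : c ≠ 0)
    (M : Matrix n n F) : (c • M).rank = M.rank := by
  have h1 : c • M = (c • (1 : Matrix n n F)) * M := by rw [Matrix.smul_mul, Matrix.one_mul]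
  rw [h1]
  apply Matrix.rank_mul_eq_right_of_isUnit_det
  rw [Matrix.det_smul, Matrix.det_one, mul_one]
  exact (isUnit_iff_ne_zero.mpr (pow_ne_zero _ hc))

theorem toogc4_rank_conj {n : Type*} [Fintype n] [DecidableEq n]
    (γ : Matrix.GeneralLinearGroup n F) (M : Matrix n n F) :
    ((γ : Matrix n n F) * M * ((γ⁻¹ : Matrix.GeneralLinearGroup n F) : Matrix n n F)).rank = M.rank := by
  have h1 : IsUnit (γ : Matrix n n F).det :=
    (Matrix.isUnit_iff_isUnit_det _).mp ⟨γ, rfl⟩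
  have h2 : IsUnit ((γ⁻¹ : Matrix.GeneralLinearGroup n F) : Matrix n n F).det :=
    (Matrix.isUnit_iff_isUnit_det _).mp ⟨γ⁻¹, rfl⟩
  rw [Matrix.rank_mul_eq_left_of_isUnit_det _ _ h2, Matrix.rank_mul_eq_right_of_isUnit_det _ _ h1]

/-- GC4 core -/
theorem toogc4_core (C : OCtx J1 J2) (ha : 1 ≤ a) (hab : a < b)
    (hGC1 : ∀ (α : Matrix (Fin a) (Fin a) F) (β : Matrix (Fin b) (Fin b) F),
      (α ⊗ₖ β - 1) * (α ⊗ₖ β - 1) = 0 →
      (∃ c : F, α = c • (1 : Matrix (Fin a) (Fin a) F)) ∨ (∃ c : F, β = c • (1 : Matrix (Fin b) (Fin b) F)))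
    (hGC2 : ∀ ν : Matrix (Fin b) (Fin b) F, (1 + ν)ᵀ * J2 * (1 + ν) = J2 → ν * ν = 0 → ν.rank = 2 →
      ∃ (w₁ w₂ : Fin b → F) (c : F), IsTS J2 w₁ w₂ ∧ c ≠ 0 ∧ ν = c • Nw J2 w₁ w₂)
    (hGC3 : ∀ ν : Matrix (Fin a) (Fin a) F, (1 + ν)ᵀ * J1 * (1 + ν) = J1 → ν * ν = 0 → ν.rank ≠ 1)
    (h γ : Matrix.GeneralLinearGroup (Fin a × Fin b) F) (hK : h ∈ K0 a b F) (hO : h ∈ OV J1 J2)
    (w₁ w₂ : Fin b → F) (hw : IsTS J2 w₁ w₂) (c : F) (hc : c ≠ 0)
    (hconj : (h : Matrix (Fin a × Fin b) (Fin a × Fin b) F) =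
      (γ : Matrix (Fin a × Fin b) (Fin a × Fin b) F) * (1 + c • NV (a := a) J2 w₁ w₂) *
        ((γ⁻¹ : Matrix.GeneralLinearGroup (Fin a × Fin b) F) : Matrix (Fin a × Fin b) (Fin a × Fin b) F)) :
    ∃ (w₁' w₂' : Fin b → F) (c' : F), IsTS J2 w₁' w₂' ∧ c' ≠ 0 ∧
      (h : Matrix (Fin a × Fin b) (Fin a × Fin b) F) = 1 + c' • NV (a := a) J2 w₁' w₂' := by
  have hb1 : 1 ≤ b := by omega
  set N := NV (a := a) J2 w₁ w₂ with hN
  set G : Matrix (Fin a × Fin b) (Fin a × Fin b) F := (γ : Matrix (Fin a × Fin b) (Fin a × Fin b) F)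
  set Gi : Matrix (Fin a × Fin b) (Fin a × Fin b) F :=
    ((γ⁻¹ : Matrix.GeneralLinearGroup (Fin a × Fin b) F) : Matrix (Fin a × Fin b) (Fin a × Fin b) F)
  have hGGi : G * Gi = 1 := by
    rw [← Units.val_mul, mul_inv_cancel, Units.val_one]
  have hGiG : Gi * G = 1 := by
    rw [← Units.val_mul, inv_mul_cancel, Units.val_one]
  -- `h - 1 = γ (c N) γ⁻¹`
  have hD : (h : Matrix (Fin a × Fin b) (Fin a × Fin b) F) - 1 = G * (c • N) * Gi := by
    rw [hconj, Matrix.mul_add, Matrix.add_mul, Matrix.mul_one, hGGi, add_sub_cancel_left]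
  have hDsq : ((h : Matrix (Fin a × Fin b) (Fin a × Fin b) F) - 1) *
      ((h : Matrix (Fin a × Fin b) (Fin a × Fin b) F) - 1) = 0 := by
    rw [hD]
    have : G * (c • N) * Gi * (G * (c • N) * Gi) = G * ((c • N) * (Gi * G) * (c • N)) * Gi := by
      simp only [Matrix.mul_assoc]
    have hNN : (c • N) * (c • N) = 0 := by
      rw [Matrix.smul_mul, Matrix.mul_smul, hN, NV_sq C w₁ w₂ hw, smul_zero, smul_zero]
    rw [this, hGiG, Matrix.mul_one, hNN, Matrix.mul_zero, Matrix.zero_mul]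
  have hDrank : ((h : Matrix (Fin a × Fin b) (Fin a × Fin b) F) - 1).rank = 2 * a := by
    rw [hD, toogc4_rank_conj, toogc4_rank_smul c hc, toogc4_rank_NV C w₁ w₂ hw]
  obtain ⟨α, β, hαβ⟩ := (mem_K0 h).mp hK
  have hiso : (h : Matrix (Fin a × Fin b) (Fin a × Fin b) F)ᵀ * (J1 ⊗ₖ J2) *
      (h : Matrix (Fin a × Fin b) (Fin a × Fin b) F) = J1 ⊗ₖ J2 := hO
  have hJ1 : J1 ≠ 0 := toogc4_ne_zero_of_det ha J1 C.det1
  have hJ2 : J2 ≠ 0 := toogc4_ne_zero_of_det hb1 J2 C.det2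
  have h11 : (1 : Matrix (Fin a × Fin b) (Fin a × Fin b) F) =
      (1 : Matrix (Fin a) (Fin a) F) ⊗ₖ (1 : Matrix (Fin b) (Fin b) F) :=
    (Matrix.one_kronecker_one).symm
  rcases hGC1 (α : Matrix (Fin a) (Fin a) F) (β : Matrix (Fin b) (Fin b) F)
    (by rw [← hαβ]; exact hDsq) with ⟨μ, hμ⟩ | ⟨μ, hμ⟩
  · -- `α` scalar: `h = 1 ⊗ β'`
    set β' : Matrix (Fin b) (Fin b) F := μ • (β : Matrix (Fin b) (Fin b) F) with hβ'
    have hh : (h : Matrix (Fin a × Fin b) (Fin a × Fin b) F) = (1 : Matrix (Fin a) (Fin a) F) ⊗ₖ β' := by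
      rw [hαβ, hμ, Cfsg.Agent.Lib.Helper22.TD.td_smul_one_kron]
    set ν : Matrix (Fin b) (Fin b) F := β' - 1 with hν
    have hβν : β' = 1 + ν := by rw [hν]; abel
    have hDν : (h : Matrix (Fin a × Fin b) (Fin a × Fin b) F) - 1 = (1 : Matrix (Fin a) (Fin a) F) ⊗ₖ ν := by
      have := Cfsg.Agent.Lib.Helper22.TD.td_one_kron_sub (a := a) β' (1 : F)
      rw [one_smul, one_smul] at this
      rw [hh, this]
    have hνrank : ν.rank = 2 := by
      have h1 := hDrank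
      rw [hDν, Cfsg.Agent.Lib.Helper22.TD.td_rank_one_kron] at h1
      have : a * ν.rank = a * 2 := by rw [h1]; ring
      exact Nat.eq_of_mul_eq_mul_left (by omega) this
    have hνsq : ν * ν = 0 := by
      have h1 := hDsq
      rw [hDν, ← Matrix.mul_kronecker_mul, Matrix.one_mul] at h1
      apply Cfsg.Agent.Lib.Helper22.TD.td_one_kron_inj ha
      rw [h1, Matrix.kronecker_zero]
    have hνiso : (1 + ν)ᵀ * J2 * (1 + ν) = J2 := by
      rw [← hβν]
      have h1 := hiso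
      rw [hh, ← Matrix.kroneckerMap_transpose, Matrix.transpose_one, ← Matrix.mul_kronecker_mul,
        ← Matrix.mul_kronecker_mul, Matrix.one_mul, Matrix.mul_one] at h1
      exact toogc4_kron_cancel_left J1 hJ1 _ _ h1
    obtain ⟨w₁', w₂', c', hts, hc', hνeq⟩ := hGC2 ν hνiso hνsq hνrank
    refine ⟨w₁', w₂', c', hts, hc', ?_⟩
    rw [hh, hβν, Matrix.kronecker_add, Matrix.one_kronecker_one, hνeq, Matrix.kronecker_smul]
    rfl
  · -- `β` scalar: impossible
    exfalso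
    set α' : Matrix (Fin a) (Fin a) F := μ • (α : Matrix (Fin a) (Fin a) F) with hα'
    have hh : (h : Matrix (Fin a × Fin b) (Fin a × Fin b) F) = α' ⊗ₖ (1 : Matrix (Fin b) (Fin b) F) := by
      rw [hαβ, hμ, Matrix.kronecker_smul, hα', Matrix.smul_kronecker]
    set ν : Matrix (Fin a) (Fin a) F := α' - 1 with hν
    have hαν : α' = 1 + ν := by rw [hν]; abel
    have hDν : (h : Matrix (Fin a × Fin b) (Fin a × Fin b) F) - 1 = ν ⊗ₖ (1 : Matrix (Fin b) (Fin b) F) := by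
      have := Cfsg.Agent.Lib.helper4.TSD.tsdkronone_sub (b := b) α' (1 : F)
      rw [one_smul, one_smul] at this
      rw [hh, this]
    have hνrank : b * ν.rank = 2 * a := by
      have h1 := hDrank
      rw [hDν, Cfsg.Agent.Lib.helper4.TSD.tsdkronone_rank] at h1
      exact h1
    have hνsq : ν * ν = 0 := by
      have h1 := hDsq
      rw [hDν, ← Matrix.mul_kronecker_mul, Matrix.one_mul] at h1
      apply toogc4_kron_cancel_right (1 : Matrix (Fin b) (Fin b) F)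
        (by
          intro h0
          have := congrFun (congrFun h0 ⟨0, hb1⟩) ⟨0, hb1⟩
          simp at this) _ _
      rw [h1, Matrix.zero_kronecker]
    have hνiso : (1 + ν)ᵀ * J1 * (1 + ν) = J1 := by
      rw [← hαν]
      have h1 := hiso
      rw [hh, ← Matrix.kroneckerMap_transpose, Matrix.transpose_one, ← Matrix.mul_kronecker_mul,
        ← Matrix.mul_kronecker_mul, Matrix.one_mul, Matrix.mul_one] at h1
      exact toogc4_kron_cancel_right J2 hJ2 _ _ h1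
    have hne1 := hGC3 ν hνiso hνsq
    have hlt : ν.rank < 2 := by
      by_contra hge
      push Not at hge
      have : b * 2 ≤ b * ν.rank := Nat.mul_le_mul_left b hge
      omega
    have hne0 : ν.rank ≠ 0 := by
      intro h0
      rw [h0, mul_zero] at hνrank
      omega
    omega

end Cfsg.Agent.Lib.Helper28.TOO
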