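import Cfsg.Agent.Lib.Helper21.TOO.LDefs
import Cfsg.Agent.Lib.helper23.TOOLG6
import Cfsg.Agent.Lib.Helper27.TOOLQ7
import Cfsg.Agent.Lib.helper14.TOOWG10
import Cfsg.Agent.Lib.Helper10.TSHYPB

/-!
# Project TOO, LOCAL block, row LA2 (`alg_theta_ge5`, LANDED by helper21 in Helper21.TOO.LA2): a spare copy of the END of the proof (not needed).
`toolla2d_main`: a self-adjoint `θ` whose form `G(x,y) = f(x, θ y)` vanishes on every totally singular plane is scalar (`a ≥ 5`).
-/

set_option autoImplicit false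
set_option linter.unusedSectionVars false
set_option linter.unusedVariables false

namespace Cfsg.Agent.Lib.Helper28.TOO

open Matrix
open scoped Kronecker
open Cfsg.Agent.Lib.helper7.TP Cfsg.Agent.Lib.Helper21.TS

variable {a : ℕ} {F : Type*} [Field F]

/-- a singular `u ≠ 0` lies in a totally singular plane (`a ≥ 5`, finite field). -/
theorem toolla2d_exists_ts [Fintype F] {J : Matrix (Fin a) (Fin a) F} (hJ : Jᵀ = J) (two : (2 : F) ≠ 0)
    (hdet : J.det ≠ 0) (ha : 5 ≤ a) {u : Fin a → F} (hu0 : u ≠ 0) (hu : bf J u u = 0) :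
    ∃ e : Fin a → F, IsTS J u e := by
  obtain ⟨ws, hws, huws⟩ := toolg1_partner hJ two hdet hu0 hu
  have hcard : 5 ≤ Fintype.card (Fin a) := by rw [Fintype.card_fin]; exact ha
  obtain ⟨e, e', he, he', hee', heu, hews, he'u, he'ws⟩ := toolg6_hyp_pair hJ two hdet hcard hu hws huws
  refine ⟨e, hu, by rw [bf_symm hJ]; exact heu, he, ?_⟩
  intro c₁ c₂ hc
  have h1 : bf J (c₁ • u + c₂ • e) ws = 0 := by rw [hc, bf_zero_left]
  rw [bf_add_left, bf_smul_left, bf_smul_left, huws, hews, mul_one, mul_zero, add_zero] at h1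
  have h2 : bf J (c₁ • u + c₂ • e) e' = 0 := by rw [hc, bf_zero_left]
  have hue' : bf J u e' = 0 := by rw [bf_symm hJ]; exact he'u
  rw [bf_add_left, bf_smul_left, bf_smul_left, hue', hee', mul_one, mul_zero, zero_add] at h2
  exact ⟨h1, h2⟩

/-- `G|_W = 0` on all totally singular planes: every singular vector is an eigenvector. -/
theorem toolla2d_eigen [Fintype F] {J : Matrix (Fin a) (Fin a) F} (hJ : Jᵀ = J) (two : (2 : F) ≠ 0)
    (hdet : J.det ≠ 0) (ha : 5 ≤ a) (θ : Matrix (Fin a) (Fin a) F)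
    (hG : ∀ u u' : Fin a → F, IsTS J u u' → bf J u (θ *ᵥ u) = 0 ∧ bf J u (θ *ᵥ u') = 0)
    {u : Fin a → F} (hu0 : u ≠ 0) (hu : bf J u u = 0) : ∃ c : F, θ *ᵥ u = c • u := by
  have hcard : 5 ≤ Fintype.card (Fin a) := by rw [Fintype.card_fin]; exact ha
  obtain ⟨e, hTS⟩ := toolla2d_exists_ts hJ two hdet ha hu0 hu
  have huu : bf J u (θ *ᵥ u) = 0 := (hG u e hTS).1
  apply toolq7_row_span hJ hdet u (θ *ᵥ u)
  intro n hn
  have hmem := sing_span_perp hJ two hdet hcard hu0 hu n hn
  have key : ∀ n ∈ Submodule.span F {w₁ : Fin a → F | bf J w₁ w₁ = 0 ∧ bf J u w₁ = 0},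
      bf J (θ *ᵥ u) n = 0 := by
    intro n hmem
    induction hmem using Submodule.span_induction with
    | mem x hx =>
      obtain ⟨hx1, hx2⟩ := hx
      by_cases hdep : ∃ c : F, x = c • u
      · obtain ⟨c, rfl⟩ := hdep
        rw [bf_smul_right, bf_symm hJ, huu, mul_zero]
      · have hTS' : IsTS J x u := by
          refine ⟨hx1, by rw [bf_symm hJ]; exact hx2, hu, ?_⟩
          intro c₁ c₂ hc
          by_cases h1 : c₁ = 0
          · subst h1
            rw [zero_smul, zero_add] at hc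
            rcases smul_eq_zero.mp hc with h | h
            · exact ⟨rfl, h⟩
            · exact absurd h hu0
          · exfalso
            apply hdep
            refine ⟨-(c₁⁻¹ * c₂), ?_⟩
            have : c₁ • x = -(c₂ • u) := eq_neg_of_add_eq_zero_left hc
            have h2 : x = c₁⁻¹ • (c₁ • x) := by rw [smul_smul, inv_mul_cancel₀ h1, one_smul]
            rw [h2, this, smul_neg, smul_smul, neg_smul]
        rw [bf_symm hJ]
        exact (hG x u hTS').2
    | zero => exact bf_zero_right J _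
    | add x y _ _ hx hy => rw [bf_add_right, hx, hy, add_zero]
    | smul r x _ hx => rw [bf_smul_right, hx, mul_zero]
  exact key n hmem

/-- the END of LA2: `G|_W = 0` on all totally singular planes ⟹ `θ` is scalar. -/
theorem toolla2d_main [Fintype F] {J : Matrix (Fin a) (Fin a) F} (hJ : Jᵀ = J) (two : (2 : F) ≠ 0)
    (hdet : J.det ≠ 0) (ha : 5 ≤ a) (θ : Matrix (Fin a) (Fin a) F) (hθ : SelfAdj J θ)
    (hG : ∀ u u' : Fin a → F, IsTS J u u' → bf J u (θ *ᵥ u) = 0 ∧ bf J u (θ *ᵥ u') = 0) :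
    ∃ c : F, θ = c • (1 : Matrix (Fin a) (Fin a) F) := by
  have hsa := (selfAdj_iff_bf J θ).mp hθ
  obtain ⟨e₀, e₀', he₀, he₀', he₀e₀'⟩ := sing_ex hJ two hdet (by omega : 3 ≤ a)
  have he₀0 : e₀ ≠ 0 := by
    intro h0
    rw [h0, bf_zero_left] at he₀e₀'
    exact zero_ne_one he₀e₀'
  obtain ⟨c₀, hc₀⟩ := toolla2d_eigen hJ two hdet ha θ hG he₀0 he₀
  refine ⟨c₀, ?_⟩
  -- the eigenspace
  let S : Submodule F (Fin a → F) :=
    { carrier := {x | θ *ᵥ x = c₀ • x}
      add_mem' := by
        intro x y hx hy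
        simp only [Set.mem_setOf_eq] at hx hy ⊢
        rw [Matrix.mulVec_add, hx, hy, smul_add]
      zero_mem' := by
        simp only [Set.mem_setOf_eq]
        rw [Matrix.mulVec_zero, smul_zero]
      smul_mem' := by
        intro r x hx
        simp only [Set.mem_setOf_eq] at hx ⊢
        rw [Matrix.mulVec_smul, hx, smul_comm] }
  have hS : ∀ s : Fin a → F, bf J s s = 0 → s ∈ S := by
    intro s hs
    show θ *ᵥ s = c₀ • s
    by_cases hs0 : s = 0
    · rw [hs0, Matrix.mulVec_zero, smul_zero]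
    obtain ⟨c, hc⟩ := toolla2d_eigen hJ two hdet ha θ hG hs0 hs
    by_cases hne : bf J e₀ s = 0
    · -- orthogonal
      by_cases hdep : ∃ r : F, s = r • e₀
      · obtain ⟨r, rfl⟩ := hdep
        rw [Matrix.mulVec_smul, hc₀, smul_comm]
      · have hsum : bf J (e₀ + s) (e₀ + s) = 0 := by
          rw [bf_add_left, bf_add_right, bf_add_right, he₀, hs, hne, bf_symm hJ s e₀, hne]
          ring
        have hsum0 : e₀ + s ≠ 0 := by
          intro h0
          apply hdep
          refine ⟨-1, ?_⟩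
          rw [neg_one_smul]
          exact eq_neg_of_add_eq_zero_right h0
        obtain ⟨μ, hμ⟩ := toolla2d_eigen hJ two hdet ha θ hG hsum0 hsum
        rw [Matrix.mulVec_add, hc₀, hc, smul_add] at hμ
        -- (c₀ - μ) e₀ + (c - μ) s = 0
        have hlin : (c₀ - μ) • e₀ + (c - μ) • s = 0 := by
          rw [sub_smul, sub_smul]
          have : c₀ • e₀ + c • s - (μ • e₀ + μ • s) = 0 := sub_eq_zero.mpr hμ
          rw [← this]; abel
        have hcμ : c - μ = 0 := by
          by_contra hne'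
          apply hdep
          refine ⟨-((c - μ)⁻¹ * (c₀ - μ)), ?_⟩
          have h1 : (c - μ) • s = -((c₀ - μ) • e₀) := eq_neg_of_add_eq_zero_right hlin
          have h2 : s = (c - μ)⁻¹ • ((c - μ) • s) := by rw [smul_smul, inv_mul_cancel₀ hne', one_smul]
          rw [h2, h1, smul_neg, smul_smul, neg_smul]
        rw [hcμ, zero_smul, add_zero] at hlin
        have hc₀μ : c₀ - μ = 0 := by
          rcases smul_eq_zero.mp hlin with h | h
          · exact h
          · exact absurd h he₀0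
        have : c = c₀ := by rw [sub_eq_zero.mp hcμ, sub_eq_zero.mp hc₀μ]
        rw [hc, this]
    · -- non-orthogonal
      have h1 := hsa e₀ s
      rw [hc₀, hc, bf_smul_left, bf_smul_right] at h1
      have : c = c₀ := (mul_right_cancel₀ hne h1).symm
      rw [hc, this]
  have htop : S = ⊤ := w1_sing_span two hJ hdet e₀ he₀0 he₀ S hS
  rw [Matrix.ext_iff_mulVec]
  intro x
  have hx : x ∈ S := by rw [htop]; trivial
  rw [Matrix.smul_mulVec, Matrix.one_mulVec]
  exact hx

end Cfsg.Agent.Lib.Helper28.TOO
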