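import Cfsg.Agent.Lib.Helper13.TOOLU3core
import Cfsg.Agent.Lib.Helper11.TOOLU1
import Cfsg.Agent.Lib.Helper11.TOOLU2
import Cfsg.Agent.Lib.Helper21.TOO.LA2

/-!
# Project TOO, LOCAL block (sub-designer helper21), row LU3 (`class_scalar_sing`), verbatim.
-/

set_option autoImplicit false
set_option linter.unusedSectionVars false
set_option linter.unusedVariables false

namespace Cfsg.Agent.Lib.Helper28.TOO

open Matrix
open scoped Kronecker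
open Cfsg.Agent.Lib.helper7.TP Cfsg.Agent.Lib.Helper21.TS

variable {ι : Type*} [Fintype ι] [DecidableEq ι] {a b : ℕ} {F : Type*} [Field F]
  {J1 : Matrix (Fin a) (Fin a) F} {J2 : Matrix (Fin b) (Fin b) F}
  {M : Subgroup (Matrix.GeneralLinearGroup (Fin a × Fin b) F)}

/-- LU3 [L]. every class of an element of `M ∩ Q` at a singular `w₁ ⊥ w` is scalar. -/
theorem class_scalar_sing [Fintype F] (C : OCtx J1 J2) (ha : 3 ≤ a) (hodd : Odd a) (hb : 5 ≤ b)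
    (hex : ¬ (Fintype.card F = 3 ∧ a = 3)) (hT : T1 J1 J2 ≤ M) (hM : M ≤ OV J1 J2) (hNT : NTw J1 J2 M)
    {h : Matrix.GeneralLinearGroup (Fin a × Fin b) F} (hh : h ∈ M) {w w₁ φ : Fin b → F} (hw0 : w ≠ 0)
    (hw : bf J2 w w = 0) (hφ : φ ⬝ᵥ w = 1)
    (hQ : InQ J2 (h : Matrix (Fin a × Fin b) (Fin a × Fin b) F) w)
    (hw₁ : bf J2 w₁ w₁ = 0) (hww₁ : bf J2 w w₁ = 0) :
    ∃ c : F, Zc (h : Matrix (Fin a × Fin b) (Fin a × Fin b) F) φ w₁ = c • (1 : Matrix (Fin a) (Fin a) F) :=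
  toolu3_core C hb hT hM hNT
    (fun {g} hg {w w₁ φ} hw0 hw hφ hQ hw₁ hww₁ hind θ hcl =>
      theta_selfadj C hT hM hNT hg hw0 hw hφ hQ hw₁ hww₁ hind θ hcl)
    (fun {g g'} hg hg' {w w₁ w₁' φ} hw0 hw hφ hQ hQ' hw₁ hww₁ hw₁' hww₁' hne θ θ' hθ hθ' hcl hcl' =>
      theta_comm C hM hNT hg hg' hw0 hw hφ hQ hQ' hw₁ hww₁ hw₁' hww₁' hne θ θ' hθ hθ' hcl hcl')
    (fun Θ hsa hconj hcomm => alg_theta C.sym1 C.two C.det1 ha hodd hex Θ hsa hconj hcomm)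
    hh hw0 hw hφ hQ hw₁ hww₁

end Cfsg.Agent.Lib.Helper28.TOO
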