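import Cfsg.Agent.Lib.Helper21.TOO.LDefs
import Cfsg.Agent.Lib.helper6.TOOLG4
import Cfsg.Agent.Lib.helper23.TOOLG5
import Cfsg.Agent.Lib.Helper27.TOOLQ14
import Cfsg.Agent.Lib.Helper27.TOOLQ6

/-!
# Project TOO, LOCAL block (sub-designer helper21), row LU3 (`class_scalar_sing`), core: the statements of
LU1 (`theta_selfadj`), LU2 (`theta_comm`) and LA3 (`alg_theta` at `J1`) enter as hypotheses.
-/

set_option autoImplicit false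
set_option linter.unusedSectionVars false
set_option linter.unusedVariables false

namespace Cfsg.Agent.Lib.Helper28.TOO

open Matrix
open scoped Kronecker
open Cfsg.Agent.Lib.helper7.TP Cfsg.Agent.Lib.Helper21.TS

variable {a b : ℕ} {F : Type*} [Field F]
  {J1 : Matrix (Fin a) (Fin a) F} {J2 : Matrix (Fin b) (Fin b) F}
  {M : Subgroup (Matrix.GeneralLinearGroup (Fin a × Fin b) F)}

theorem toolu3_Om_le_Iso {ι : Type*} [Fintype ι] [DecidableEq ι] (J : Matrix ι ι F)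
    {β : Matrix.GeneralLinearGroup ι F} (hβ : β ∈ Om J) : β ∈ Iso J := by
  obtain ⟨x, _, rfl⟩ := Subgroup.mem_map.mp hβ
  exact x.2

theorem toolu3_kA_mem_T1 {α : Matrix.GeneralLinearGroup (Fin a) F} (hα : α ∈ Om J1) :
    Cfsg.Agent.Lib.helper7.TO.kA a b F α ∈ T1 J1 J2 :=
  Subgroup.mem_sup_left (Subgroup.mem_map_of_mem _ hα)

theorem toolu3_kB_mem_T1 {β : Matrix.GeneralLinearGroup (Fin b) F} (hβ : β ∈ Om J2) :
    Cfsg.Agent.Lib.helper7.TO.kB a b F β ∈ T1 J1 J2 :=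
  Subgroup.mem_sup_right (Subgroup.mem_map_of_mem _ hβ)

theorem toolu3_ten_zero_left (w : Fin b → F) : ten (0 : Fin a → F) w = 0 := by
  funext p; simp [ten]

theorem toolu3_inQ_one (w : Fin b → F) :
    InQ J2 (1 : Matrix (Fin a × Fin b) (Fin a × Fin b) F) w := by
  refine ⟨fun x => Matrix.one_mulVec _, fun n _ x => ⟨0, ?_⟩⟩
  rw [Matrix.one_mulVec, toolu3_ten_zero_left, add_zero]

theorem toolu3_Zc_one (φ n : Fin b → F) :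
    Zc (1 : Matrix (Fin a × Fin b) (Fin a × Fin b) F) φ n = 0 := by
  ext i i'
  simp only [Zc, Matrix.of_apply, Matrix.one_mulVec, sub_self, Matrix.zero_apply]
  simp [ctr]

/-- the additive group of the `θ` of the pure classes at `w₁` occurring in `M ∩ Q`. -/
def toolu3_Theta (J2 : Matrix (Fin b) (Fin b) F)
    (M : Subgroup (Matrix.GeneralLinearGroup (Fin a × Fin b) F)) (w w₁ φ : Fin b → F)
    (hφ : φ ⬝ᵥ w = 1) : AddSubgroup (Matrix (Fin a) (Fin a) F) where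
  carrier := {θ | ∃ g ∈ M, InQ J2 (g : Matrix (Fin a × Fin b) (Fin a × Fin b) F) w ∧
    ∀ y : Fin b → F, bf J2 w y = 0 →
      Zc (g : Matrix (Fin a × Fin b) (Fin a × Fin b) F) φ y = bf J2 w₁ y • θ}
  zero_mem' := by
    refine ⟨1, M.one_mem, ?_, ?_⟩
    · rw [Units.val_one]; exact toolu3_inQ_one w
    · intro y _
      rw [Units.val_one, toolu3_Zc_one, smul_zero]
  add_mem' := by
    rintro θ θ' ⟨g, hg, hQ, hcl⟩ ⟨g', hg', hQ', hcl'⟩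
    obtain ⟨hQm, hZm⟩ := inQ_mul hQ hQ' hφ
    refine ⟨g * g', M.mul_mem hg hg', ?_, ?_⟩
    · rw [Units.val_mul]; exact hQm
    · intro y hy
      rw [Units.val_mul, hZm y hy, hcl y hy, hcl' y hy, smul_add]
  neg_mem' := by
    rintro θ ⟨g, hg, hQ, hcl⟩
    obtain ⟨hQi, hZi⟩ := inQ_inv hQ hφ
    refine ⟨g⁻¹, M.inv_mem hg, hQi, ?_⟩
    intro y hy
    rw [hZi y hy, hcl y hy, smul_neg]

theorem toolu3_mem_Theta {w w₁ φ : Fin b → F} (hφ : φ ⬝ᵥ w = 1) (θ : Matrix (Fin a) (Fin a) F) :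
    θ ∈ toolu3_Theta J2 M w w₁ φ hφ ↔
      ∃ g ∈ M, InQ J2 (g : Matrix (Fin a × Fin b) (Fin a × Fin b) F) w ∧
        ∀ y : Fin b → F, bf J2 w y = 0 →
          Zc (g : Matrix (Fin a × Fin b) (Fin a × Fin b) F) φ y = bf J2 w₁ y • θ := Iff.rfl

/-- LU3 core -/
theorem toolu3_core (C : OCtx J1 J2) (hb : 5 ≤ b) (hT : T1 J1 J2 ≤ M) (hM : M ≤ OV J1 J2)
    (hNT : NTw J1 J2 M)
    (hLU1 : ∀ {g : Matrix.GeneralLinearGroup (Fin a × Fin b) F}, g ∈ M → ∀ {w w₁ φ : Fin b → F}, w ≠ 0 →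
      bf J2 w w = 0 → φ ⬝ᵥ w = 1 → InQ J2 (g : Matrix (Fin a × Fin b) (Fin a × Fin b) F) w →
      bf J2 w₁ w₁ = 0 → bf J2 w w₁ = 0 → (∀ c : F, w₁ ≠ c • w) → ∀ θ : Matrix (Fin a) (Fin a) F,
      (∀ y : Fin b → F, bf J2 w y = 0 →
        Zc (g : Matrix (Fin a × Fin b) (Fin a × Fin b) F) φ y = bf J2 w₁ y • θ) → SelfAdj J1 θ)
    (hLU2 : ∀ {g g' : Matrix.GeneralLinearGroup (Fin a × Fin b) F}, g ∈ M → g' ∈ M →
      ∀ {w w₁ w₁' φ : Fin b → F}, w ≠ 0 → bf J2 w w = 0 → φ ⬝ᵥ w = 1 →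
      InQ J2 (g : Matrix (Fin a × Fin b) (Fin a × Fin b) F) w →
      InQ J2 (g' : Matrix (Fin a × Fin b) (Fin a × Fin b) F) w →
      bf J2 w₁ w₁ = 0 → bf J2 w w₁ = 0 → bf J2 w₁' w₁' = 0 → bf J2 w w₁' = 0 →
      bf J2 w₁ w₁' ≠ 0 → ∀ θ θ' : Matrix (Fin a) (Fin a) F, SelfAdj J1 θ → SelfAdj J1 θ' →
      (∀ y : Fin b → F, bf J2 w y = 0 →
        Zc (g : Matrix (Fin a × Fin b) (Fin a × Fin b) F) φ y = bf J2 w₁ y • θ) →
      (∀ y : Fin b → F, bf J2 w y = 0 →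
        Zc (g' : Matrix (Fin a × Fin b) (Fin a × Fin b) F) φ y = bf J2 w₁' y • θ') →
      θ * θ' = θ' * θ)
    (hLA3 : ∀ (Θ : AddSubgroup (Matrix (Fin a) (Fin a) F)), (∀ θ ∈ Θ, SelfAdj J1 θ) →
      (∀ θ ∈ Θ, ∀ α ∈ Om J1, (α : Matrix (Fin a) (Fin a) F) * θ *
        ((α⁻¹ : Matrix.GeneralLinearGroup (Fin a) F) : Matrix (Fin a) (Fin a) F) ∈ Θ) →
      (∀ θ ∈ Θ, ∀ θ' ∈ Θ, θ * θ' = θ' * θ) →
      ∀ θ ∈ Θ, ∃ c : F, θ = c • (1 : Matrix (Fin a) (Fin a) F))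
    {h : Matrix.GeneralLinearGroup (Fin a × Fin b) F} (hh : h ∈ M) {w w₁ φ : Fin b → F} (hw0 : w ≠ 0)
    (hw : bf J2 w w = 0) (hφ : φ ⬝ᵥ w = 1)
    (hQ : InQ J2 (h : Matrix (Fin a × Fin b) (Fin a × Fin b) F) w)
    (hw₁ : bf J2 w₁ w₁ = 0) (hww₁ : bf J2 w w₁ = 0) :
    ∃ c : F, Zc (h : Matrix (Fin a × Fin b) (Fin a × Fin b) F) φ w₁ = c • (1 : Matrix (Fin a) (Fin a) F) := by
  by_cases hdep : ∃ c : F, w₁ = c • w
  · obtain ⟨c, rfl⟩ := hdep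
    exact ⟨0, by rw [Zc_smul_right, Zc_self hQ, smul_zero, zero_smul]⟩
  have hind : ∀ c : F, w₁ ≠ c • w := fun c hc => hdep ⟨c, hc⟩
  have hcardb : 5 ≤ Fintype.card (Fin b) := by rw [Fintype.card_fin]; exact hb
  set Θ := toolu3_Theta J2 M w w₁ φ hφ with hΘ
  -- self-adjoint
  have hsa : ∀ θ ∈ Θ, SelfAdj J1 θ := by
    rintro θ ⟨g, hg, hQg, hcl⟩
    exact hLU1 hg hw0 hw hφ hQg hw₁ hww₁ hind θ hcl
  -- stable under `Om J1`
  have hconj : ∀ θ ∈ Θ, ∀ α ∈ Om J1, (α : Matrix (Fin a) (Fin a) F) * θ *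
      ((α⁻¹ : Matrix.GeneralLinearGroup (Fin a) F) : Matrix (Fin a) (Fin a) F) ∈ Θ := by
    rintro θ ⟨g, hg, hQg, hcl⟩ α hα
    have hkM : Cfsg.Agent.Lib.helper7.TO.kA a b F α ∈ M := hT (toolu3_kA_mem_T1 hα)
    obtain ⟨hQc, hZc⟩ := inQ_conjA hQg hφ α
    refine ⟨_, M.mul_mem (M.mul_mem hkM hg) (M.inv_mem hkM), hQc, ?_⟩
    intro y hy
    rw [hZc y hy, hcl y hy, Matrix.mul_smul, Matrix.smul_mul]
  -- pairwise commuting
  have hcomm : ∀ θ ∈ Θ, ∀ θ' ∈ Θ, θ * θ' = θ' * θ := by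
    rintro θ ⟨g, hg, hQg, hcl⟩ θ' ⟨g', hg', hQg', hcl'⟩
    have hθ : SelfAdj J1 θ := hsa θ ⟨g, hg, hQg, hcl⟩
    have hθ' : SelfAdj J1 θ' := hsa θ' ⟨g', hg', hQg', hcl'⟩
    obtain ⟨β, hβ, hβw, hβne⟩ := move_sing C.sym2 C.two C.det2 hcardb hw0 hw hw₁ hww₁ hind
    have hβI : β ∈ Iso J2 := toolu3_Om_le_Iso J2 hβ
    have hiso := (mem_Iso_iff_bf J2 β).mp hβI
    have hkM : Cfsg.Agent.Lib.helper7.TO.kB a b F β ∈ M := hT (toolu3_kB_mem_T1 hβ)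
    obtain ⟨hQc, hZc⟩ := inQ_conjB hQg' hφ hβI hβw
    have hββ : ∀ y : Fin b → F, (β : Matrix (Fin b) (Fin b) F) *ᵥ
        (((β⁻¹ : Matrix.GeneralLinearGroup (Fin b) F) : Matrix (Fin b) (Fin b) F) *ᵥ y) = y := by
      intro y
      rw [Matrix.mulVec_mulVec, ← Units.val_mul, mul_inv_cancel, Units.val_one, Matrix.one_mulVec]
    have hwinv : ∀ y : Fin b → F, bf J2 w y = 0 →
        bf J2 w (((β⁻¹ : Matrix.GeneralLinearGroup (Fin b) F) : Matrix (Fin b) (Fin b) F) *ᵥ y) = 0 := by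
      intro y hy
      rw [← hiso, hβw, hββ]; exact hy
    have hcl'' : ∀ y : Fin b → F, bf J2 w y = 0 →
        Zc ((Cfsg.Agent.Lib.helper7.TO.kB a b F β * g' * (Cfsg.Agent.Lib.helper7.TO.kB a b F β)⁻¹ :
          Matrix.GeneralLinearGroup (Fin a × Fin b) F) : Matrix (Fin a × Fin b) (Fin a × Fin b) F) φ y
          = bf J2 ((β : Matrix (Fin b) (Fin b) F) *ᵥ w₁) y • θ' := by
      intro y hy
      rw [hZc y hy, hcl' _ (hwinv y hy)]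
      congr 1
      rw [← hiso, hββ]
    have hs1 : bf J2 ((β : Matrix (Fin b) (Fin b) F) *ᵥ w₁) ((β : Matrix (Fin b) (Fin b) F) *ᵥ w₁) = 0 := by
      rw [hiso]; exact hw₁
    have hs2 : bf J2 w ((β : Matrix (Fin b) (Fin b) F) *ᵥ w₁) = 0 := by
      have := hiso w w₁
      rw [hβw] at this
      rw [this]; exact hww₁
    have hne : bf J2 w₁ ((β : Matrix (Fin b) (Fin b) F) *ᵥ w₁) ≠ 0 := by
      rw [bf_symm C.sym2]; exact hβne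
    exact hLU2 hg (M.mul_mem (M.mul_mem hkM hg') (M.inv_mem hkM)) hw0 hw hφ hQg hQc hw₁ hww₁ hs1 hs2 hne
      θ θ' hθ hθ' hcl hcl''
  have hscal := hLA3 Θ hsa hconj hcomm
  -- the class of `h` at `w₁`
  obtain ⟨n, hwn, hw₁n, hnn⟩ := exists_nonsing_perp2 C.sym2 C.two C.det2 hcardb hw0 hw hw₁ hww₁
  obtain ⟨g, hg, hQg, hclg⟩ := pure_of_class C hT hh hw hφ hQ hw₁ hww₁ hwn hw₁n
  have hmem : (-(bf J2 n n)) • Zc (h : Matrix (Fin a × Fin b) (Fin a × Fin b) F) φ w₁ ∈ Θ := by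
    refine ⟨g, hg, hQg, ?_⟩
    intro y hy
    rw [hclg y hy, smul_smul, mul_comm]
  obtain ⟨c, hc⟩ := hscal _ hmem
  refine ⟨(-(bf J2 n n))⁻¹ * c, ?_⟩
  have hne : -(bf J2 n n) ≠ 0 := neg_ne_zero.mpr hnn
  rw [← smul_smul, ← hc, smul_smul, inv_mul_cancel₀ hne, one_smul]

end Cfsg.Agent.Lib.Helper28.TOO
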