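import Cfsg.Agent.Lib.Helper13.TOOLU4core
import Cfsg.Agent.Lib.Helper13.TOOLU3
import Cfsg.Agent.Lib.helper23.TOOLG6
import Cfsg.Agent.Lib.Helper27.TOOLQ7

/-!
# Project TOO, LOCAL block (sub-designer helper21), row LU4 (`unip_of_NT`), verbatim.
-/

set_option autoImplicit false
set_option linter.unusedSectionVars false
set_option linter.unusedVariables false

namespace Cfsg.Agent.Lib.Helper28.TOO

open Matrix
open scoped Kronecker
open Cfsg.Agent.Lib.helper7.TP Cfsg.Agent.Lib.Helper21.TS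

variable {ι : Type*} [Fintype ι] [DecidableEq ι] {a b : ℕ} {F : Type*} [Field F]
  {J1 : Matrix (Fin a) (Fin a) F} {J2 : Matrix (Fin b) (Fin b) F}
  {M : Subgroup (Matrix.GeneralLinearGroup (Fin a × Fin b) F)}

/-- LU4 [M-L]. UNIP. -/
theorem unip_of_NT [Fintype F] (C : OCtx J1 J2) (ha : 3 ≤ a) (hodd : Odd a) (hb : 5 ≤ b)
    (hex : ¬ (Fintype.card F = 3 ∧ a = 3)) (hT : T1 J1 J2 ≤ M) (hM : M ≤ OV J1 J2) (hNT : NTw J1 J2 M) :
    Unip J2 M :=
  toolu4_core C (by omega) hT hM hNT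
    (fun {h} hh {w w₁ φ} hw0 hw hφ hQ hw₁ hww₁ =>
      class_scalar_sing C ha hodd hb hex hT hM hNT hh hw0 hw hφ hQ hw₁ hww₁)
    (fun {w} hw0 hw n hn =>
      sing_span_perp C.sym2 C.two C.det2 (by rw [Fintype.card_fin]; exact hb) hw0 hw n hn)
    (fun {g} hg {w w₁ φ} hw0 hw hφ hQ hw₁ hww₁ θ θs hθs hcl =>
      pure_shape C hg hw0 hw hφ hQ hw₁ hww₁ θ θs hθs hcl)

end Cfsg.Agent.Lib.Helper28.TOO
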