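import Cfsg.Agent.Lib.Helper21.TOO.LDefs
import Cfsg.Agent.Lib.Helper21.TOO.LG1
import Cfsg.Agent.Lib.helper6.TOOLG7
import Cfsg.Agent.Lib.Helper27.TOOLQ14
import Cfsg.Agent.Lib.Helper13.TOOLQ5

/-!
# Project TOO, LOCAL block (sub-designer helper21), row LU4 (`unip_of_NT`), core: the statements of
LU3 (`class_scalar_sing`), LG6 (`sing_span_perp` for `J2`) and LQ7 (`pure_shape`) enter as hypotheses.
-/

set_option autoImplicit false
set_option linter.unusedSectionVars false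
set_option linter.unusedVariables false

namespace Cfsg.Agent.Lib.Helper28.TOO

open Matrix
open scoped Kronecker
open Cfsg.Agent.Lib.helper7.TP Cfsg.Agent.Lib.Helper21.TS

variable {a b : ℕ} {F : Type*} [Field F]
  {J1 : Matrix (Fin a) (Fin a) F} {J2 : Matrix (Fin b) (Fin b) F}
  {M : Subgroup (Matrix.GeneralLinearGroup (Fin a × Fin b) F)}

/-- a covector `φ` with `φ ⬝ᵥ w = 1` for `w ≠ 0` -/
theorem toolu4_exists_phi {w : Fin b → F} (hw0 : w ≠ 0) : ∃ φ : Fin b → F, φ ⬝ᵥ w = 1 := by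
  have : ∃ j, w j ≠ 0 := by
    by_contra hcon
    push Not at hcon
    exact hw0 (funext hcon)
  obtain ⟨j, hj⟩ := this
  refine ⟨Pi.single j (w j)⁻¹, ?_⟩
  rw [single_dotProduct, inv_mul_cancel₀ hj]

theorem toolu4_kB_mem_T1 {β : Matrix.GeneralLinearGroup (Fin b) F} (hβ : β ∈ Om J2) :
    Cfsg.Agent.Lib.helper7.TO.kB a b F β ∈ T1 J1 J2 :=
  Subgroup.mem_sup_right (Subgroup.mem_map_of_mem _ hβ)

/-- LU4 core -/
theorem toolu4_core (C : OCtx J1 J2) (ha : 1 ≤ a) (hT : T1 J1 J2 ≤ M) (hM : M ≤ OV J1 J2)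
    (hNT : NTw J1 J2 M)
    (hLU3 : ∀ {h : Matrix.GeneralLinearGroup (Fin a × Fin b) F}, h ∈ M → ∀ {w w₁ φ : Fin b → F}, w ≠ 0 →
      bf J2 w w = 0 → φ ⬝ᵥ w = 1 → InQ J2 (h : Matrix (Fin a × Fin b) (Fin a × Fin b) F) w →
      bf J2 w₁ w₁ = 0 → bf J2 w w₁ = 0 →
      ∃ c : F, Zc (h : Matrix (Fin a × Fin b) (Fin a × Fin b) F) φ w₁ = c • (1 : Matrix (Fin a) (Fin a) F))
    (hLG6 : ∀ {w : Fin b → F}, w ≠ 0 → bf J2 w w = 0 → ∀ n : Fin b → F, bf J2 w n = 0 →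
      n ∈ Submodule.span F {w₁ : Fin b → F | bf J2 w₁ w₁ = 0 ∧ bf J2 w w₁ = 0})
    (hLQ7 : ∀ {g : Matrix.GeneralLinearGroup (Fin a × Fin b) F}, g ∈ OV J1 J2 → ∀ {w w₁ φ : Fin b → F},
      w ≠ 0 → bf J2 w w = 0 → φ ⬝ᵥ w = 1 → InQ J2 (g : Matrix (Fin a × Fin b) (Fin a × Fin b) F) w →
      bf J2 w₁ w₁ = 0 → bf J2 w w₁ = 0 → ∀ (θ θs : Matrix (Fin a) (Fin a) F), θsᵀ * J1 = J1 * θ →
      (∀ y : Fin b → F, bf J2 w y = 0 →
        Zc (g : Matrix (Fin a × Fin b) (Fin a × Fin b) F) φ y = bf J2 w₁ y • θ) →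
      ∃ κ : Matrix (Fin a) (Fin a) F, SkewAdj J1 κ ∧
        (g : Matrix (Fin a × Fin b) (Fin a × Fin b) F) = PureM J2 θ θs κ w w₁) :
    Unip J2 M := by
  intro h hh w hw0 hw hQ
  obtain ⟨φ, hφ⟩ := toolu4_exists_phi hw0
  set H : Matrix (Fin a × Fin b) (Fin a × Fin b) F := (h : Matrix (Fin a × Fin b) (Fin a × Fin b) F)
    with hH
  -- (a) every class at `n ⊥ w` is scalar
  have key : ∀ n ∈ Submodule.span F {w₁ : Fin b → F | bf J2 w₁ w₁ = 0 ∧ bf J2 w w₁ = 0},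
      ∃ c : F, Zc H φ n = c • (1 : Matrix (Fin a) (Fin a) F) := by
    intro n hmem
    induction hmem using Submodule.span_induction with
    | mem x hx => exact hLU3 hh hw0 hw hφ hQ hx.1 hx.2
    | zero => exact ⟨0, by rw [Zc_zero_right, zero_smul]⟩
    | add x y _ _ hx hy =>
      obtain ⟨c, hc⟩ := hx
      obtain ⟨c', hc'⟩ := hy
      exact ⟨c + c', by rw [Zc_add_right, hc, hc', add_smul]⟩
    | smul r x _ hx =>
      obtain ⟨c, hc⟩ := hx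
      exact ⟨r * c, by rw [Zc_smul_right, hc, smul_smul]⟩
  have hscal : ∀ n : Fin b → F, bf J2 w n = 0 → ∃ c : F, Zc H φ n = c • (1 : Matrix (Fin a) (Fin a) F) :=
    fun n hn => key n (hLG6 hw0 hw n hn)
  -- (b) the linear functional
  let i0 : Fin a := ⟨0, ha⟩
  let l : (Fin b → F) →ₗ[F] F :=
    { toFun := fun n => Zc H φ n i0 i0
      map_add' := fun n n' => by rw [Zc_add_right, Matrix.add_apply]
      map_smul' := fun r n => by rw [Zc_smul_right, Matrix.smul_apply, RingHom.id_apply] }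
  have hl : ∀ n, l n = Zc H φ n i0 i0 := fun n => rfl
  have hlw : l w = 0 := by rw [hl, Zc_self hQ, Matrix.zero_apply]
  have hcl : ∀ n : Fin b → F, bf J2 w n = 0 → Zc H φ n = l n • (1 : Matrix (Fin a) (Fin a) F) := by
    intro n hn
    obtain ⟨c, hc⟩ := hscal n hn
    have : l n = c := by
      rw [hl, hc, Matrix.smul_apply, Matrix.one_apply_eq, smul_eq_mul, mul_one]
    rw [this, hc]
  -- (c) `l = f(z₀, ·)` on `w^⊥`
  obtain ⟨z₀, hz₀, hlz⟩ := functional_perp C.sym2 C.det2 hw0 hw l hlw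
  -- (d) `h' = h (kB ρ_{w,z₀})⁻¹`
  obtain ⟨β, hβ, hβs⟩ := sieg_mem_Om C.sym2 C.two C.det2 hw hz₀
  set k : Matrix.GeneralLinearGroup (Fin a × Fin b) F := Cfsg.Agent.Lib.helper7.TO.kB a b F β with hk
  have hkM : k ∈ M := hT (toolu4_kB_mem_T1 hβ)
  have hkcoe : (k : Matrix (Fin a × Fin b) (Fin a × Fin b) F) =
      (1 : Matrix (Fin a) (Fin a) F) ⊗ₖ sieg J2 w z₀ := by
    rw [hk, Cfsg.Agent.Lib.helper7.TO.kB_coe, hβs]
  obtain ⟨hQk, hZk, -⟩ := inQ_sieg' (a := a) C.sym2 (φ := φ) hw hz₀ hφ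
  rw [← hkcoe] at hQk hZk
  obtain ⟨hQki, hZki⟩ := inQ_inv hQk hφ
  obtain ⟨hQh', hZh'⟩ := inQ_mul hQ hQki hφ
  have hh'M : h * k⁻¹ ∈ M := M.mul_mem hh (M.inv_mem hkM)
  have hcoe' : ((h * k⁻¹ : Matrix.GeneralLinearGroup (Fin a × Fin b) F) :
      Matrix (Fin a × Fin b) (Fin a × Fin b) F) =
      H * ((k⁻¹ : Matrix.GeneralLinearGroup (Fin a × Fin b) F) : Matrix (Fin a × Fin b) (Fin a × Fin b) F) :=
    Units.val_mul _ _
  have hcl0 : ∀ y : Fin b → F, bf J2 w y = 0 →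
      Zc ((h * k⁻¹ : Matrix.GeneralLinearGroup (Fin a × Fin b) F) :
        Matrix (Fin a × Fin b) (Fin a × Fin b) F) φ y = bf J2 (0 : Fin b → F) y • (0 : Matrix (Fin a) (Fin a) F) := by
    intro y hy
    rw [hcoe', hZh' y hy, hZki y hy, hZk y hy, hcl y hy, hlz y hy, smul_zero, add_neg_cancel]
  -- (e) shape
  obtain ⟨κ, hκ, hshape⟩ := hLQ7 (hM hh'M) hw0 hw hφ (by rw [hcoe']; exact hQh')
    (bf_zero_left J2 0) (bf_zero_right J2 w) 0 0 (by rw [Matrix.transpose_zero, Matrix.zero_mul, Matrix.mul_zero])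
    hcl0
  have hX : ((h * k⁻¹ : Matrix.GeneralLinearGroup (Fin a × Fin b) F) :
      Matrix (Fin a × Fin b) (Fin a × Fin b) F) = XBm J2 κ w := by
    rw [hshape, PureM, XBm, Matrix.zero_kronecker, Matrix.zero_kronecker, add_zero, sub_zero]
  -- (f) NT
  have hκ0 : κ = 0 := hNT κ w hκ hw0 hw ⟨h * k⁻¹, hh'M, hX⟩
  rw [hκ0, XBm_zero] at hX
  have hone : h * k⁻¹ = 1 := Units.ext (by rw [hX, Units.val_one])
  have hhk : h = k := by
    have := mul_inv_eq_one.mp hone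
    exact this
  refine ⟨z₀, hz₀, ?_⟩
  rw [← hkcoe, ← hhk]

end Cfsg.Agent.Lib.Helper28.TOO
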