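import Cfsg.Agent.Lib.helper7.TO.Basic

/-!
# Project TO (S5704, leader helper7), piece SGALGB (helper13): `sg_conj`, `sg_comm`
-/

set_option autoImplicit false

namespace Cfsg.Agent.Lib.helper7.TO

open Matrix Cfsg.Agent.Lib.helper7.TP Cfsg.Agent.Lib.Helper28.SympAbs
open scoped Kronecker

variable {a b : ℕ} {F : Type*} [Field F]

/-- SGALG4: conjugation by an isometry. -/
theorem sg_conj (C : Ctx a b F) (k t : Matrix.GeneralLinearGroup (Fin a × Fin b) F) (hk : k ∈ C.G)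
    (p v : Fin a × Fin b → F) (c : F) (ht : C.IsSgV t p v c) :
    C.IsSgV (k * t * k⁻¹) ((k : Matrix (Fin a × Fin b) (Fin a × Fin b) F) *ᵥ p)
      ((k : Matrix (Fin a × Fin b) (Fin a × Fin b) F) *ᵥ v) c := by
  intro x
  rw [Units.val_mul, Units.val_mul, ← Matrix.mulVec_mulVec, ← Matrix.mulVec_mulVec, ht, Ctx.sgv,
    Ctx.sgv, Matrix.mulVec_add, Ctx.mulVec_inv_mulVec, Matrix.mulVec_smul, Matrix.mulVec_sub,
    Matrix.mulVec_smul, Matrix.mulVec_smul]
  have e1 : C.f p (((k⁻¹ : Matrix.GeneralLinearGroup (Fin a × Fin b) F) :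
      Matrix (Fin a × Fin b) (Fin a × Fin b) F) *ᵥ x) =
      C.f ((k : Matrix (Fin a × Fin b) (Fin a × Fin b) F) *ᵥ p) x := by
    rw [← C.G_f hk, Ctx.mulVec_inv_mulVec]
  have e2 : C.f v (((k⁻¹ : Matrix.GeneralLinearGroup (Fin a × Fin b) F) :
      Matrix (Fin a × Fin b) (Fin a × Fin b) F) *ᵥ x) =
      C.f ((k : Matrix (Fin a × Fin b) (Fin a × Fin b) F) *ᵥ v) x := by
    rw [← C.G_f hk, Ctx.mulVec_inv_mulVec]
  rw [e1, e2]

/-- SGALG5: the commutator formula (`Helper28.OIwa2.isSg_commutator'` in this setting). -/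
theorem sg_comm (C : Ctx a b F) (h t : Matrix.GeneralLinearGroup (Fin a × Fin b) F)
    (u v z w : Fin a × Fin b → F) (c : F) (hh : h ∈ C.G)
    (hu : C.q u = 0) (hw : C.q w = 0) (huv : C.f u v = 0) (hzu : C.f z u = 0) (hwu : C.f w u = 0)
    (hwv : C.f w v = 0) (hzw : C.f z w = -1)
    (hhS : C.IsSgV h v z 1) (htS : C.IsSgV t u w c) : C.IsSgV (h * t * h⁻¹ * t⁻¹) u v c := by
  have hvu : C.f v u = 0 := by rw [C.f_symm, huv]
  have hvw : C.f v w = 0 := by rw [C.f_symm, hwv]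
  have huw : C.f u w = 0 := by rw [C.f_symm, hwu]
  have huu : C.f u u = 0 := C.f_self_of_q hu
  have hww : C.f w w = 0 := C.f_self_of_q hw
  -- `h u = u`, `h w = w + v`
  have hhu : (h : Matrix (Fin a × Fin b) (Fin a × Fin b) F) *ᵥ u = u := by
    rw [hhS u, Ctx.sgv, hvu, hzu, zero_smul, zero_smul, sub_self, smul_zero, add_zero]
  have hhw : (h : Matrix (Fin a × Fin b) (Fin a × Fin b) F) *ᵥ w = w + v := by
    rw [hhS w, Ctx.sgv, hvw, hzw, zero_smul, one_smul, neg_smul, one_smul, zero_sub, neg_neg]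
  have h1 := sg_conj C h t hh u w c htS
  rw [hhu, hhw] at h1
  intro x
  obtain ⟨y, hy⟩ : ∃ y : Fin a × Fin b → F, y = ((t⁻¹ : Matrix.GeneralLinearGroup (Fin a × Fin b) F) :
      Matrix (Fin a × Fin b) (Fin a × Fin b) F) *ᵥ x := ⟨_, rfl⟩
  have hxy : x = C.sgv u w c y := by
    rw [← htS y, hy, Ctx.mulVec_inv_mulVec]
  rw [Units.val_mul, ← Matrix.mulVec_mulVec, ← hy, h1 y]
  -- `f u x = f u y`, `f v x = f v y`
  have e1 : C.f u x = C.f u y := by
    rw [hxy, Ctx.sgv, C.hf.add_right, C.hf.smul_right, C.f_sub_right, C.hf.smul_right,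
      C.hf.smul_right, huw, huu, mul_zero, mul_zero, sub_self, mul_zero, add_zero]
  have e2 : C.f v x = C.f v y := by
    rw [hxy, Ctx.sgv, C.hf.add_right, C.hf.smul_right, C.f_sub_right, C.hf.smul_right,
      C.hf.smul_right, hvw, hvu, mul_zero, mul_zero, sub_self, mul_zero, add_zero]
  rw [Ctx.sgv, Ctx.sgv, e1, e2, C.hf.add_left]
  conv_rhs => rw [hxy, Ctx.sgv]
  rw [smul_sub, smul_sub, smul_sub, smul_add, add_smul, smul_add, smul_add]
  abel

end Cfsg.Agent.Lib.helper7.TO
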