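import Cfsg.Agent.Lib.helper7.TO.Basic

/-!
# Project TO (S5704, leader helper7), piece SGALGC (helper13):
`isSgV_iff_isSgQ`, `isSgV_smul_left`, `isSgV_eq_one`
-/

set_option autoImplicit false

namespace Cfsg.Agent.Lib.helper7.TO

open Matrix Cfsg.Agent.Lib.helper7.TP Cfsg.Agent.Lib.Helper28.SympAbs
open scoped Kronecker

variable {a b : ℕ} {F : Type*} [Field F]

/-- SGALG6: a Siegel element is a generalised Siegel element. -/
theorem isSgV_iff_isSgQ (C : Ctx a b F) (t : Matrix.GeneralLinearGroup (Fin a × Fin b) F)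
    (p v : Fin a × Fin b → F) (c : F) (hv : C.q v = 0) : C.IsSgV t p v c ↔ C.IsSgQ t p (c • v) := by
  have key : ∀ x : Fin a × Fin b → F,
      C.sgv p v c x = x + C.f p x • (c • v) - C.f (c • v) x • p - (C.q (c • v) * C.f p x) • p := by
    intro x
    rw [Ctx.sgv, C.q_smul, hv, mul_zero, zero_mul, zero_smul, sub_zero, C.hf.smul_left, smul_sub,
      smul_smul, smul_smul, smul_smul, mul_comm c (C.f p x)]
    abel
  constructor
  · intro h x
    rw [h x, key x]
  · intro h x
    rw [h x, key x]

/-- SGALG7: scaling the first vector. -/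
theorem isSgV_smul_left (C : Ctx a b F) (t : Matrix.GeneralLinearGroup (Fin a × Fin b) F)
    (p v : Fin a × Fin b → F) (c l : F) : C.IsSgV t (l • p) v c ↔ C.IsSgV t p v (l * c) := by
  have key : ∀ x : Fin a × Fin b → F, C.sgv (l • p) v c x = C.sgv p v (l * c) x := by
    intro x
    rw [Ctx.sgv, Ctx.sgv, C.hf.smul_left, smul_sub, smul_sub, smul_smul, smul_smul, smul_smul,
      smul_smul]
    have e1 : c * (l * C.f p x) = l * c * C.f p x := by ring
    have e2 : c * C.f v x * l = l * c * C.f v x := by ring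
    rw [e1, e2, smul_smul]
  constructor
  · intro h x
    rw [h x, key x]
  · intro h x
    rw [h x, key x]

/-- SGALG8: the Siegel element of a dependent pair, or with `c = 0`, is trivial. -/
theorem isSgV_eq_one (C : Ctx a b F) (t : Matrix.GeneralLinearGroup (Fin a × Fin b) F)
    (p v : Fin a × Fin b → F) (c : F) (ht : C.IsSgV t p v c)
    (h : c = 0 ∨ p = 0 ∨ ∃ l : F, v = l • p) : t = 1 := by
  apply Units.ext
  rw [Units.val_one, Matrix.ext_iff_mulVec]
  intro x
  rw [ht x, Matrix.one_mulVec, Ctx.sgv]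
  rcases h with h | h | ⟨l, h⟩
  · rw [h, zero_smul, add_zero]
  · rw [h, C.f_zero_left, zero_smul, smul_zero, sub_self, smul_zero, add_zero]
  · rw [h, C.hf.smul_left, smul_smul, mul_comm (C.f p x) l, sub_self, smul_zero, add_zero]

end Cfsg.Agent.Lib.helper7.TO
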