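import Cfsg.Agent.Lib.Helper13.TRI3BACK

/-!
Project TRI (S2858), wave 3a, piece FRONT (helper13, backup copy; mirror image of BACK).
-/

set_option autoImplicit false

namespace Cfsg.Agent.Lib.Helper9.TRI

open Cfsg.Agent.Lib.Helper19.SW
open scoped commutatorElement

variable {G : Type*} [Group G] {V : Type*} [MulAction G V] {Adj : V → V → Prop} {ty : V → Bool}
  {A : Bool} {b : ℕ}

/-- TRI-3-FRONT -/
theorem front (H : PAS G Adj ty A b) (hX : XCase G Adj ty A) (hb4 : 4 ≤ b) {p : ℕ → V}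
    (hc : IsCritical G Adj p b) {y : V} (hy : Adj (p 3) y) (hy2 : y ≠ p 2) (hy4 : y ≠ p 4) :
    cE G Adj (p 0) * cE G Adj (p 1) * (cE G Adj (p 2) * cE G Adj (p 3)) = cE G Adj (p 4) ∨
    cE G Adj (p 0) * cE G Adj (p 1) * (cE G Adj (p 2) * cE G Adj (p 3)) = cE G Adj y := by
  have h := H.bip.ls3
  obtain ⟨-, hty⟩ := crit_ty H hc
  have ty2 : ty (p 2) = A := (hty 2 (by omega)).2 ⟨1, rfl⟩
  have a01 : Adj (p 0) (p 1) := hc.1 0 (by omega)
  have a12 : Adj (p 1) (p 2) := hc.1 1 (by omega)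
  have a23 : Adj (p 2) (p 3) := hc.1 2 (by omega)
  have a34 : Adj (p 3) (p 4) := hc.1 3 (by omega)
  have a10 : Adj (p 1) (p 0) := h.symm _ _ a01
  have a21 : Adj (p 2) (p 1) := h.symm _ _ a12
  have a32 : Adj (p 3) (p 2) := h.symm _ _ a23
  have n02 : p 0 ≠ p 2 := crit_nobacktrack h hc (i := 0) (by omega)
  have n24 : p 2 ≠ p 4 := crit_nobacktrack h hc (i := 2) (by omega)
  have ty1 : ty (p 1) ≠ A := fun e => H.bip.adj_ty _ _ a21 (ty2.trans e.symm)
  have ty3 : ty (p 3) ≠ A := fun e => H.bip.adj_ty _ _ a23 (ty2.trans e.symm)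
  -- `f = c_{p 0} c_{p 1} ∈ K_{p 2}`
  obtain ⟨m, hm, hm0, hm2⟩ := a1_exists_third h a10 a12 n02
  have hK : cE G Adj (p 0) * cE G Adj (p 1) ∈ Kk G Adj (p 2) :=
    (mem_Kk_iff H ty2 a21 a10 hm n02 hm2 (Ne.symm hm0) _).2 (Or.inr (Or.inr (Or.inl rfl)))
  have hne1 : cE G Adj (p 0) * cE G Adj (p 1) ≠ 1 := tri2xm_mul_ne_one h H.c2 a01
  have hnec : cE G Adj (p 0) * cE G Adj (p 1) ≠ cE G Adj (p 2) := by
    intro e
    have hwb := tri3back_wb H ty1 a10 a12 hm n02 (Ne.symm hm0) (Ne.symm hm2)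
    have h00 : cE G Adj (p 0) * cE G Adj (p 0) = 1 := cE_sq h _
    have : cE G Adj (p 1) = cE G Adj m := by
      rw [← hwb, ← e, ← mul_assoc, h00, one_mul]
    exact cE_ne h H.c2 hm this
  have hK' := (mem_Kk_iff H ty2 a23 a34 hy (Ne.symm n24) hy2 (Ne.symm hy4) _).1 hK
  have h33 : cE G Adj (p 3) * cE G Adj (p 3) = 1 := cE_sq h _
  have hcm : cE G Adj (p 3) * cE G Adj (p 2) = cE G Adj (p 2) * cE G Adj (p 3) := cE_comm h a32
  rcases hK' with e | e | e | e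
  · exact absurd e hne1
  · exact absurd e hnec
  · right
    rw [e]
    have hwb := tri3back_wb H ty3 a34 a32 hy (Ne.symm n24) (Ne.symm hy4) (Ne.symm hy2)
    calc cE G Adj (p 4) * cE G Adj (p 3) * (cE G Adj (p 2) * cE G Adj (p 3))
        = cE G Adj (p 4) * (cE G Adj (p 3) * cE G Adj (p 2)) * cE G Adj (p 3) := by
          simp only [mul_assoc]
      _ = cE G Adj (p 4) * cE G Adj (p 2) * (cE G Adj (p 3) * cE G Adj (p 3)) := by
          rw [hcm]; simp only [mul_assoc]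
      _ = cE G Adj y := by rw [h33, mul_one, hwb]
  · left
    rw [e]
    have hwb := tri3back_wb H ty3 hy a32 a34 hy2 hy4 n24
    calc cE G Adj y * cE G Adj (p 3) * (cE G Adj (p 2) * cE G Adj (p 3))
        = cE G Adj y * (cE G Adj (p 3) * cE G Adj (p 2)) * cE G Adj (p 3) := by
          simp only [mul_assoc]
      _ = cE G Adj y * cE G Adj (p 2) * (cE G Adj (p 3) * cE G Adj (p 3)) := by
          rw [hcm]; simp only [mul_assoc]
      _ = cE G Adj (p 4) := by rw [h33, mul_one, hwb]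

end Cfsg.Agent.Lib.Helper9.TRI
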