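import Mathlib
import Cfsg.Agent.Lib.Helper1.Frat

set_option autoImplicit false

namespace Cfsg.Agent.Lib.Helper13

open scoped commutatorElement

/-- In a finite `p`-group whose Frattini quotient has order `p ^ 2`, a normal subgroup not inside
the Frattini subgroup is supplemented by a cyclic subgroup. -/
theorem tg_exists_zpowers_sup {P : Type*} [Group P] [Finite P] {p : ℕ} [Fact p.Prime]
    (hidx : (frattini P).index = p ^ 2) (K : Subgroup P) [K.Normal]
    (hK : ¬ K ≤ frattini P) : ∃ g : P, Subgroup.zpowers g ⊔ K = ⊤ := by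
  have hp : p.Prime := Fact.out
  have hlt : frattini P < frattini P ⊔ K := by
    refine lt_of_le_of_ne le_sup_left ?_
    intro h
    apply hK
    rw [h]
    exact le_sup_right
  have hidxlt : (frattini P ⊔ K).index < p ^ 2 := by
    rw [← hidx]
    exact Subgroup.index_strictAnti hlt
  have hdvd : (frattini P ⊔ K).index ∣ p ^ 2 := by
    rw [← hidx]
    exact Subgroup.index_dvd_of_le le_sup_left
  obtain ⟨k, hk2, hk⟩ := (Nat.dvd_prime_pow hp).1 hdvd
  have hk1 : k ≤ 1 := by
    by_contra hcon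
    have : k = 2 := by omega
    rw [hk, this] at hidxlt
    exact lt_irrefl _ hidxlt
  haveI hn : (frattini P ⊔ K).Normal := inferInstance
  have hcyc : IsCyclic (P ⧸ (frattini P ⊔ K)) := by
    have hcard : Nat.card (P ⧸ (frattini P ⊔ K)) = p ^ k := by
      rw [← Subgroup.index_eq_card]; exact hk
    interval_cases k
    · haveI : Subsingleton (P ⧸ (frattini P ⊔ K)) := by
        rw [← Finite.card_le_one_iff_subsingleton]
        simp [hcard]
      infer_instance
    · haveI : Fact p.Prime := ⟨hp⟩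
      exact isCyclic_of_prime_card (p := p) (by simpa using hcard)
  obtain ⟨gb, hgb⟩ := hcyc.exists_generator
  obtain ⟨g, rfl⟩ := QuotientGroup.mk_surjective gb
  refine ⟨g, ?_⟩
  apply frattini_nongenerating
  rw [sup_comm, eq_top_iff]
  intro x _
  obtain ⟨n, hn'⟩ := Subgroup.mem_zpowers_iff.1 (hgb (x : P ⧸ (frattini P ⊔ K)))
  have h1 : ((g ^ n : P) : P ⧸ (frattini P ⊔ K)) = (x : P ⧸ (frattini P ⊔ K)) := by
    rw [← hn']; rfl
  rw [QuotientGroup.eq] at h1
  have h2 : x = g ^ n * ((g ^ n)⁻¹ * x) := by group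
  rw [h2]
  have h3 : (g ^ n)⁻¹ * x ∈ frattini P ⊔ (Subgroup.zpowers g ⊔ K) := by
    have : frattini P ⊔ K ≤ frattini P ⊔ (Subgroup.zpowers g ⊔ K) :=
      sup_le le_sup_left (le_trans le_sup_right le_sup_right)
    exact this h1
  have h4 : g ^ n ∈ frattini P ⊔ (Subgroup.zpowers g ⊔ K) := by
    have : Subgroup.zpowers g ≤ frattini P ⊔ (Subgroup.zpowers g ⊔ K) :=
      le_trans le_sup_left le_sup_right
    exact this (Subgroup.zpow_mem_zpowers g n)
  exact Subgroup.mul_mem _ h4 h3

/-- Consequently the quotient by such a normal subgroup is commutative: the derived subgroup lies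
inside it. -/
theorem tg_commutator_le {P : Type*} [Group P] [Finite P] {p : ℕ} [Fact p.Prime]
    (hidx : (frattini P).index = p ^ 2) (K : Subgroup P) [K.Normal]
    (hK : ¬ K ≤ frattini P) : commutator P ≤ K := by
  obtain ⟨g, hg⟩ := tg_exists_zpowers_sup hidx K hK
  rw [commutator_eq_closure, Subgroup.closure_le]
  rintro _ ⟨a, b, rfl⟩
  have key : ∀ x : P, ∃ n : ℤ, ((x : P ⧸ K)) = ((g ^ n : P) : P ⧸ K) := by
    intro x
    have hx : x ∈ Subgroup.zpowers g ⊔ K := by rw [hg]; exact Subgroup.mem_top x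
    rw [Subgroup.mem_sup_of_normal_right] at hx
    obtain ⟨y, hy, z, hz, rfl⟩ := hx
    obtain ⟨n, rfl⟩ := Subgroup.mem_zpowers_iff.1 hy
    refine ⟨n, ?_⟩
    rw [QuotientGroup.eq]
    have : (g ^ n * z)⁻¹ * g ^ n = z⁻¹ := by group
    rw [this]
    exact K.inv_mem hz
  obtain ⟨n, hn⟩ := key a
  obtain ⟨m, hm⟩ := key b
  have h1 : ((⁅a, b⁆ : P) : P ⧸ K) = 1 := by
    rw [commutatorElement_def]
    simp only [QuotientGroup.mk_mul, QuotientGroup.mk_inv, hn, hm]
    rw [← QuotientGroup.mk_mul, ← QuotientGroup.mk_inv, ← QuotientGroup.mk_inv,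
      ← QuotientGroup.mk_mul, ← QuotientGroup.mk_mul]
    have : g ^ n * g ^ m * (g ^ n)⁻¹ * (g ^ m)⁻¹ = 1 := by
      rw [← zpow_add, ← zpow_neg, ← zpow_add, ← zpow_neg, ← zpow_add]
      have : n + m + -n + -m = 0 := by ring
      rw [this, zpow_zero]
    rw [this]; rfl
  exact (QuotientGroup.eq_one_iff _).1 h1

end Cfsg.Agent.Lib.Helper13
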