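import Mathlib
import Cfsg.Prelude.Def_Local
import Cfsg.Agent.Lib.Helper1.Tate
import Cfsg.Agent.Lib.Helper1.Cores
import Cfsg.Agent.Lib.Helper1.Frat
import Cfsg.Agent.Lib.Helper13.TwoGenA

set_option autoImplicit false

namespace Cfsg.Agent.Lib.Helper13

open scoped commutatorElement

variable {G : Type*} [Group G] {p : ℕ} [Fact p.Prime]

/-- The Frattini subgroup of a Sylow subgroup, as a subgroup of the ambient group. -/
def tgPhi (P : Sylow p G) : Subgroup G :=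
  (frattini ↥(P : Subgroup G)).map (P : Subgroup G).subtype

/-- The derived subgroup of a Sylow subgroup, as a subgroup of the ambient group. -/
def tgDer (P : Sylow p G) : Subgroup G :=
  (commutator ↥(P : Subgroup G)).map (P : Subgroup G).subtype

theorem tgPhi_le (P : Sylow p G) : tgPhi P ≤ (P : Subgroup G) := Subgroup.map_subtype_le _

theorem tgDer_le (P : Sylow p G) : tgDer P ≤ (P : Subgroup G) := Subgroup.map_subtype_le _

theorem tgDer_le_tgPhi [Finite G] (P : Sylow p G) : tgDer P ≤ tgPhi P :=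
  Subgroup.map_mono (Cfsg.Agent.Lib.Helper1.pgroup_commutator_le_frattini P.isPGroup')

theorem tg_comm_mem_tgDer (P : Sylow p G) {a b : G} (ha : a ∈ (P : Subgroup G))
    (hb : b ∈ (P : Subgroup G)) : a * b * a⁻¹ * b⁻¹ ∈ tgDer P := by
  refine ⟨⁅(⟨a, ha⟩ : ↥(P : Subgroup G)), ⟨b, hb⟩⁆, ?_, ?_⟩
  · exact Subgroup.commutator_mem_commutator (Subgroup.mem_top _) (Subgroup.mem_top _)
  · rw [commutatorElement_def]; rfl

theorem tgDer_ne_bot (P : Sylow p G) (hna : ¬ IsMulCommutative (P : Subgroup G)) :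
    tgDer P ≠ ⊥ := by
  intro h
  apply hna
  refine ⟨⟨?_⟩⟩
  rintro ⟨a, ha⟩ ⟨b, hb⟩
  have h1 := tg_comm_mem_tgDer P ha hb
  rw [h, Subgroup.mem_bot] at h1
  apply Subtype.ext
  change a * b = b * a
  calc a * b = (a * b * a⁻¹ * b⁻¹) * (b * a) := by group
    _ = b * a := by rw [h1, one_mul]

theorem tg_pow_mem_tgPhi [Finite G] (P : Sylow p G) {a : G} (ha : a ∈ (P : Subgroup G)) :
    a ^ p ∈ tgPhi P :=
  ⟨(⟨a, ha⟩ : ↥(P : Subgroup G)) ^ p,
    Cfsg.Agent.Lib.Helper1.pgroup_pow_mem_frattini P.isPGroup' _, rfl⟩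

/-- Tate's theorem for a subgroup `M` normalized by the Sylow subgroup `P`. -/
theorem tg_tate_sub [Finite G] (P : Sylow p G) (M : Subgroup G)
    (hPM : (P : Subgroup G) ≤ Subgroup.normalizer (M : Set G))
    (h : M ⊓ (P : Subgroup G) ≤ tgPhi P) : ¬ p ∣ Nat.card ↥(Cfsg.pResidual p ↥M) := by
  obtain ⟨X, hX⟩ : ∃ X : Subgroup G, X = Subgroup.normalizer (M : Set G) := ⟨_, rfl⟩
  have hMX : M ≤ X := by rw [hX]; exact Subgroup.le_normalizer
  have hPX : (P : Subgroup G) ≤ X := by rw [hX]; exact hPM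
  haveI hMn : (M.subgroupOf X).Normal := by rw [hX]; exact Subgroup.normal_in_normalizer
  have key := Cfsg.Agent.Lib.Helper1.Tate.tate (P.subtype hPX) (M.subgroupOf X) (by
    rintro y ⟨hyM, hyP⟩
    have hyM' : (y : G) ∈ M := Subgroup.mem_subgroupOf.1 hyM
    have hyP' : (y : G) ∈ (P : Subgroup G) := hyP
    obtain ⟨z, hz, hzy⟩ := h ⟨hyM', hyP'⟩
    let φ : ↥(P : Subgroup G) →* ↥((P.subtype hPX : Sylow p ↥X) : Subgroup ↥X) :=
      { toFun := fun z => ⟨⟨z.1, hPX z.2⟩, z.2⟩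
        map_one' := rfl
        map_mul' := fun _ _ => rfl }
    have hφ : Function.Surjective φ := by
      rintro ⟨⟨w, hwX⟩, hwP⟩
      exact ⟨⟨w, hwP⟩, rfl⟩
    have h1 := frattini_le_comap_frattini_of_surjective hφ hz
    refine ⟨φ z, h1, ?_⟩
    apply Subtype.ext
    exact hzy)
  intro hdvd
  apply key
  let e : ↥(M.subgroupOf X) ≃* ↥M := Subgroup.subgroupOfEquivOfLe hMX
  have h1 : (Cfsg.pResidual p ↥M).map e.symm.toMonoidHom ≤ Cfsg.pResidual p ↥(M.subgroupOf X) :=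
    Cfsg.Agent.Lib.Helper1.Tate.pResidual_map_le p e.symm
  have h2 : Nat.card ↥((Cfsg.pResidual p ↥M).map e.symm.toMonoidHom) =
      Nat.card ↥(Cfsg.pResidual p ↥M) :=
    (Nat.card_congr ((Cfsg.pResidual p ↥M).equivMapOfInjective e.symm.toMonoidHom
      e.symm.injective).toEquiv).symm
  rw [← h2] at hdvd
  exact dvd_trans hdvd (Subgroup.card_dvd_of_le h1)

/-- A normal subgroup whose `p`-residual has order prime to `p` is a `p`-group, when
`O_{p'}(G) = 1`. -/
theorem tg_isPGroup_of_residual [Finite G] (hcore : Cfsg.pPrimeCore p G = ⊥) (K : Subgroup G)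
    [K.Normal] (h : ¬ p ∣ Nat.card ↥(Cfsg.pResidual p ↥K)) : IsPGroup p ↥K := by
  have hp : p.Prime := Fact.out
  obtain ⟨O, hO⟩ : ∃ O : Subgroup G, O = (Cfsg.pResidual p ↥K).map K.subtype := ⟨_, rfl⟩
  haveI hOn : O.Normal := by
    rw [hO]; exact ConjAct.normal_of_characteristic_of_normal
  have hcard : Nat.card ↥O = Nat.card ↥(Cfsg.pResidual p ↥K) := by
    rw [hO]
    exact (Nat.card_congr ((Cfsg.pResidual p ↥K).equivMapOfInjective K.subtype
      K.subtype_injective).toEquiv).symm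
  have hObot : O = ⊥ := by
    have h1 : O ≤ Cfsg.pPrimeCore p G := by
      apply Cfsg.Agent.Lib.Helper1.le_pPrimeCore hOn
      rw [hcard]
      exact ((Nat.Prime.coprime_iff_not_dvd hp).2 h).symm
    rw [hcore] at h1
    exact le_bot_iff.1 h1
  have hres : Cfsg.pResidual p ↥K = ⊥ := by
    rw [eq_bot_iff]
    intro x hx
    have : (x : G) ∈ O := by rw [hO]; exact ⟨x, hx, rfl⟩
    rw [hObot, Subgroup.mem_bot] at this
    rw [Subgroup.mem_bot]
    exact Subtype.ext this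
  intro g
  have hn : orderOf g ≠ 0 := (orderOf_pos g).ne'
  obtain ⟨a, m, hm, hnm⟩ := Nat.exists_eq_pow_mul_and_not_dvd hn p hp.ne_one
  refine ⟨a, ?_⟩
  have h1 : orderOf (g ^ p ^ a) = m := by
    rw [orderOf_pow' g (pow_ne_zero a hp.ne_zero), hnm,
      Nat.gcd_eq_right (Dvd.intro _ rfl), Nat.mul_div_cancel_left _ (pow_pos hp.pos a)]
  have h2 : g ^ p ^ a ∈ Cfsg.pResidual p ↥K := by
    apply Cfsg.Agent.Lib.Helper1.mem_pResidual_of_coprime
    rw [h1]
    exact ((Nat.Prime.coprime_iff_not_dvd hp).2 hm).symm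
  rw [hres, Subgroup.mem_bot] at h2
  exact h2

/-- Lemma A: under the hypotheses of the theorem no nontrivial normal subgroup meets `P`
inside `Φ(P)`. -/
theorem tg_lemmaA [Finite G] (P : Sylow p G) (hcore : Cfsg.pPrimeCore p G = ⊥)
    (hfrat : (tgPhi P).normalCore = ⊥) (K : Subgroup G) [hKn : K.Normal] (hK : K ≠ ⊥) :
    ¬ K ⊓ (P : Subgroup G) ≤ tgPhi P := by
  intro h
  have h1 : ¬ p ∣ Nat.card ↥(Cfsg.pResidual p ↥K) :=
    tg_tate_sub P K (by
      rw [Subgroup.normalizer_eq_top_iff.2 hKn]; exact le_top) h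
  have h2 : IsPGroup p ↥K := tg_isPGroup_of_residual hcore K h1
  have h3 : K ≤ (P : Subgroup G) :=
    le_trans (Cfsg.Agent.Lib.Helper1.le_pCore hKn h2) (Cfsg.Agent.Lib.Helper1.pCore_le_sylow p P)
  have h4 : K ≤ tgPhi P := le_trans (le_inf le_rfl h3) h
  have h5 : K ≤ (tgPhi P).normalCore := Subgroup.normal_le_normalCore.2 h4
  rw [hfrat] at h5
  exact hK (le_bot_iff.1 h5)

/-- Lemma B: a subgroup normalized by `P` whose intersection with `P` is not inside `Φ(P)`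
contains the derived subgroup of `P`. -/
theorem tg_der_le [Finite G] (P : Sylow p G)
    (hgen : (frattini ↥(P : Subgroup G)).index = p ^ 2) (K : Subgroup G)
    (hPK : (P : Subgroup G) ≤ Subgroup.normalizer (K : Set G))
    (hK : ¬ K ⊓ (P : Subgroup G) ≤ tgPhi P) : tgDer P ≤ K := by
  haveI hn : (K.subgroupOf (P : Subgroup G)).Normal := by
    constructor
    intro n hn g
    rw [Subgroup.mem_subgroupOf] at hn ⊢
    have := (Subgroup.mem_normalizer_iff.1 (hPK g.2) (n : G)).1 hn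
    simpa using this
  have hK' : ¬ K.subgroupOf (P : Subgroup G) ≤ frattini ↥(P : Subgroup G) := by
    intro hle
    apply hK
    rintro x ⟨hxK, hxP⟩
    exact ⟨⟨x, hxP⟩, hle (Subgroup.mem_subgroupOf.2 hxK), rfl⟩
  have h1 := tg_commutator_le hgen (K.subgroupOf (P : Subgroup G)) hK'
  rintro _ ⟨y, hy, rfl⟩
  exact Subgroup.mem_subgroupOf.1 (h1 hy)

/-- Lemma B, generator form. -/
theorem tg_exists_gen [Finite G] (P : Sylow p G)
    (hgen : (frattini ↥(P : Subgroup G)).index = p ^ 2) (K : Subgroup G)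
    (hPK : (P : Subgroup G) ≤ Subgroup.normalizer (K : Set G))
    (hK : ¬ K ⊓ (P : Subgroup G) ≤ tgPhi P) :
    ∃ g ∈ (P : Subgroup G), ∀ x ∈ (P : Subgroup G), ∃ n : ℤ, ∃ k ∈ K, x = g ^ n * k := by
  haveI hn : (K.subgroupOf (P : Subgroup G)).Normal := by
    constructor
    intro n hn g
    rw [Subgroup.mem_subgroupOf] at hn ⊢
    have := (Subgroup.mem_normalizer_iff.1 (hPK g.2) (n : G)).1 hn
    simpa using this
  have hK' : ¬ K.subgroupOf (P : Subgroup G) ≤ frattini ↥(P : Subgroup G) := by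
    intro hle
    apply hK
    rintro x ⟨hxK, hxP⟩
    exact ⟨⟨x, hxP⟩, hle (Subgroup.mem_subgroupOf.2 hxK), rfl⟩
  obtain ⟨g, hg⟩ := tg_exists_zpowers_sup hgen (K.subgroupOf (P : Subgroup G)) hK'
  refine ⟨g.1, g.2, ?_⟩
  intro x hx
  have hx' : (⟨x, hx⟩ : ↥(P : Subgroup G)) ∈ Subgroup.zpowers g ⊔ K.subgroupOf (P : Subgroup G) := by
    rw [hg]; exact Subgroup.mem_top _
  rw [Subgroup.mem_sup_of_normal_right] at hx'
  obtain ⟨y, hy, z, hz, hyz⟩ := hx'
  obtain ⟨n, rfl⟩ := Subgroup.mem_zpowers_iff.1 hy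
  refine ⟨n, (z : G), Subgroup.mem_subgroupOf.1 hz, ?_⟩
  have := congrArg Subtype.val hyz
  simpa using this.symm

end Cfsg.Agent.Lib.Helper13
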