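import Mathlib

set_option autoImplicit false

namespace Cfsg.Agent.Lib.Helper13

/-- Trace of a fixed vector: a finite group `Γ` acts on a commutative group `V`, trivially modulo
the subgroup `N`; if a subgroup of index prime to `p` fixes an element `c ∉ N` with `c ^ p = 1`,
then `Γ` fixes some element outside `N`. -/
theorem tg_trace_abstract {Γ V : Type*} [Group Γ] [Finite Γ] [CommGroup V]
    [MulDistribMulAction Γ V] {p : ℕ} [Fact p.Prime] (N : Subgroup V)
    (hN : ∀ (γ : Γ) (v : V), γ • v * v⁻¹ ∈ N) (H : Subgroup Γ) (hH : ¬ p ∣ H.index)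
    (c : V) (hcp : c ^ p = 1) (hcN : c ∉ N) (hcH : ∀ γ ∈ H, γ • c = c) :
    ∃ c' : V, c' ∉ N ∧ ∀ γ : Γ, γ • c' = c' := by
  classical
  have hp : p.Prime := Fact.out
  letI : Fintype Γ := Fintype.ofFinite Γ
  haveI : Finite (MulAction.orbit Γ c) := Set.finite_range _
  letI : Fintype (MulAction.orbit Γ c) := Fintype.ofFinite _
  refine ⟨∏ y : MulAction.orbit Γ c, (y : V), ?_, ?_⟩
  · intro hmem
    have h1 : ∀ y : MulAction.orbit Γ c, (y : V) * c⁻¹ ∈ N := by
      rintro ⟨y, γ, rfl⟩
      exact hN γ c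
    have h2 : (∏ y : MulAction.orbit Γ c, (y : V)) * (c ^ Fintype.card (MulAction.orbit Γ c))⁻¹
        ∈ N := by
      have : (∏ y : MulAction.orbit Γ c, (y : V)) * (c ^ Fintype.card (MulAction.orbit Γ c))⁻¹
          = ∏ y : MulAction.orbit Γ c, ((y : V) * c⁻¹) := by
        rw [Finset.prod_mul_distrib, Finset.prod_const, Finset.card_univ, inv_pow]
      rw [this]
      exact Subgroup.prod_mem _ (fun y _ => h1 y)
    have h3 : c ^ Fintype.card (MulAction.orbit Γ c) ∈ N := by
      have := N.mul_mem (N.inv_mem h2) hmem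
      simpa using this
    have h4 : (MulAction.stabilizer Γ c).index = Fintype.card (MulAction.orbit Γ c) := by
      rw [MulAction.index_stabilizer, Set.ncard_eq_toFinset_card', Set.toFinset_card]
    have h5 : H ≤ MulAction.stabilizer Γ c := fun γ hγ => MulAction.mem_stabilizer_iff.2 (hcH γ hγ)
    have h6 : ¬ p ∣ Fintype.card (MulAction.orbit Γ c) := by
      rw [← h4]
      intro hd
      exact hH (hd.trans (Subgroup.index_dvd_of_le h5))
    have h7 : orderOf c ∣ p := orderOf_dvd_of_pow_eq_one hcp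
    have h8 : Nat.Coprime (Fintype.card (MulAction.orbit Γ c)) (orderOf c) := by
      rcases (Nat.dvd_prime hp).1 h7 with h | h
      · rw [h]; exact Nat.coprime_one_right _
      · rw [h]; exact ((Nat.Prime.coprime_iff_not_dvd hp).2 h6).symm
    obtain ⟨m, hm⟩ := exists_pow_eq_self_of_coprime h8
    apply hcN
    rw [← hm]
    exact N.pow_mem h3 m
  · intro γ
    rw [Finset.smul_prod']
    exact Fintype.prod_equiv (MulAction.toPerm γ) _ _ (fun y => rfl)

end Cfsg.Agent.Lib.Helper13
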