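import Mathlib
import Cfsg.Agent.Lib.Helper13.TwoGenC

set_option autoImplicit false

namespace Cfsg.Agent.Lib.Helper13

variable {G : Type*} [Group G]

/-- Concrete form of the trace lemma, for conjugation on an abelian normal subgroup `R`. -/
theorem tg_trace [Finite G] {p : ℕ} [Fact p.Prime] (R N G0 P0 : Subgroup G) [hRn : R.Normal]
    (hRc : ∀ a ∈ R, ∀ b ∈ R, a * b = b * a) (hRp : ∀ a ∈ R, a ^ p = 1)
    (hG0 : ∀ g ∈ G0, ∀ r ∈ R, g * r * g⁻¹ * r⁻¹ ∈ N)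
    (hidx : ¬ p ∣ P0.relIndex G0) (c : G) (hcR : c ∈ R) (hcN : c ∉ N)
    (hcP : ∀ u ∈ P0, u * c = c * u) :
    ∃ c' ∈ R, c' ∉ N ∧ ∀ g ∈ G0, g * c' = c' * g := by
  letI : CommGroup ↥R :=
    { (inferInstance : Group ↥R) with mul_comm := fun a b => Subtype.ext (hRc a a.2 b b.2) }
  let f : ↥G0 →* MulAut ↥R := (MulAut.conjNormal (H := R)).comp G0.subtype
  letI : MulDistribMulAction ↥G0 ↥R := MulDistribMulAction.compHom ↥R f
  have hsmul : ∀ (g : ↥G0) (r : ↥R), ((g • r : ↥R) : G) = (g : G) * (r : G) * (g : G)⁻¹ :=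
    fun g r => rfl
  obtain ⟨c', hc'N, hc'fix⟩ := tg_trace_abstract (Γ := ↥G0) (V := ↥R) (p := p)
    (N.subgroupOf R)
    (by
      intro γ v
      rw [Subgroup.mem_subgroupOf]
      have : ((γ • v * v⁻¹ : ↥R) : G) = (γ : G) * (v : G) * (γ : G)⁻¹ * (v : G)⁻¹ := by
        rw [Subgroup.coe_mul, hsmul, Subgroup.coe_inv]
      rw [this]
      exact hG0 γ γ.2 v v.2)
    (P0.subgroupOf G0) hidx ⟨c, hcR⟩
    (Subtype.ext (by simpa using hRp c hcR))
    (by rw [Subgroup.mem_subgroupOf]; exact hcN)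
    (by
      intro γ hγ
      apply Subtype.ext
      rw [hsmul]
      have h1 := hcP γ (Subgroup.mem_subgroupOf.1 hγ)
      change (γ : G) * c * (γ : G)⁻¹ = c
      rw [h1, mul_inv_cancel_right])
  refine ⟨(c' : G), c'.2, ?_, ?_⟩
  · intro h
    exact hc'N (Subgroup.mem_subgroupOf.2 h)
  · intro g hg
    have h1 := congrArg Subtype.val (hc'fix ⟨g, hg⟩)
    rw [hsmul] at h1
    change g * (c' : G) * g⁻¹ = (c' : G) at h1
    calc g * (c' : G) = g * (c' : G) * g⁻¹ * g := by group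
      _ = (c' : G) * g := by rw [h1]

end Cfsg.Agent.Lib.Helper13
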