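import Mathlib
import Cfsg.Prelude.Def_Local
import Cfsg.Agent.Lib.Helper1.CFitting
import Cfsg.Agent.Lib.Helper9.Components
import Cfsg.Agent.Lib.Helper10.Components
import Cfsg.Agent.Lib.helper17.SylowNormal
import Cfsg.Agent.Lib.helper3.SuzukiMultB
import Cfsg.Agent.Lib.Helper13.TwoGenB
import Cfsg.Agent.Lib.Helper13.TwoGenD

set_option autoImplicit false

namespace Cfsg.Agent.Lib.Helper13

open scoped commutatorElement

variable {G : Type*} [Group G] {p : ℕ} [Fact p.Prime]

/-- The hypotheses of the theorem on groups with a two-generated nonabelian Sylow subgroup. -/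
structure TGHyp (P : Sylow p G) : Prop where
  hna : ¬ IsMulCommutative (P : Subgroup G)
  hgen : (frattini ↥(P : Subgroup G)).index = p ^ 2
  hcore : Cfsg.pPrimeCore p G = ⊥
  hfrat : (tgPhi P).normalCore = ⊥

/-- The candidate for the unique minimal normal subgroup: the normal closure of `P'`. -/
def tgMin (P : Sylow p G) : Subgroup G := Subgroup.normalClosure (tgDer P : Set G)

instance tgMin_normal (P : Sylow p G) : (tgMin P).Normal := Subgroup.normalClosure_normal

theorem tgDer_le_tgMin (P : Sylow p G) : tgDer P ≤ tgMin P := Subgroup.le_normalClosure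

theorem TGHyp.tgMin_ne_bot {P : Sylow p G} (h : TGHyp P) : tgMin P ≠ ⊥ := by
  intro h0
  apply tgDer_ne_bot P h.hna
  exact le_bot_iff.1 (h0 ▸ tgDer_le_tgMin P)

theorem TGHyp.lemmaA [Finite G] {P : Sylow p G} (h : TGHyp P) (K : Subgroup G) [K.Normal]
    (hK : K ≠ ⊥) : ¬ K ⊓ (P : Subgroup G) ≤ tgPhi P :=
  tg_lemmaA P h.hcore h.hfrat K hK

theorem TGHyp.tgMin_le [Finite G] {P : Sylow p G} (h : TGHyp P) (K : Subgroup G) [hKn : K.Normal]
    (hK : K ≠ ⊥) : tgMin P ≤ K := by
  apply Subgroup.normalClosure_le_normal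
  apply tg_der_le P h.hgen K _ (h.lemmaA K hK)
  rw [Subgroup.normalizer_eq_top_iff.2 hKn]; exact le_top

/-- An abelian minimal normal subgroup leads to a contradiction if it is central in a perfect
normal subgroup. -/
theorem TGHyp.not_central_perfect [Finite G] {P : Sylow p G} (h : TGHyp P) (K : Subgroup G)
    [hKn : K.Normal] (hperf : ⁅K, K⁆ = K) (hMK : tgMin P ≤ K)
    (hKC : K ≤ Subgroup.centralizer (tgMin P : Set G)) : False := by
  have hp : p.Prime := Fact.out
  -- tgMin is commutative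
  have hcomm : ∀ a ∈ tgMin P, ∀ b ∈ tgMin P, a * b = b * a := by
    intro a ha b hb
    exact ((Subgroup.mem_centralizer_iff.1 (hKC (hMK hb))) a ha)
  have hnil : Group.IsNilpotent ↥(tgMin P) := by
    have hc : IsMulCommutative ↥(tgMin P) :=
      ⟨⟨fun a b => Subtype.ext (hcomm a a.2 b b.2)⟩⟩
    exact ⟨⟨1, Subgroup.upperCentralSeries_one_eq_top_iff.mpr hc⟩⟩
  have hle : tgMin P ≤ Cfsg.pCore p G := by
    rw [← Cfsg.Agent.Lib.Helper1.fittingSubgroup_eq_pCore_of_pPrimeCore_eq_bot p h.hcore]
    exact Cfsg.Agent.Lib.Helper1.le_fittingSubgroup (tgMin_normal P) hnil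
  have hpg : IsPGroup p ↥(tgMin P) :=
    (Cfsg.Agent.Lib.Helper1.pCore_isPGroup (G := G) p).to_le hle
  haveI hperf' : Group.IsPerfect ↥K := Subgroup.isPerfect_iff.2 hperf
  have hidx : ¬ p ∣ ((P : Subgroup G).subgroupOf K).index :=
    Cfsg.Agent.Lib.helper17.not_dvd_relIndex_of_normal P K
  have hsub : tgMin P ≤ tgPhi P := by
    intro z hz
    have hzc : (⟨z, hMK hz⟩ : ↥K) ∈ Subgroup.center ↥K := by
      rw [Subgroup.mem_center_iff]
      intro k
      apply Subtype.ext
      exact ((Subgroup.mem_centralizer_iff.1 (hKC k.2)) z hz).symm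
    have hzd : (⟨z, hMK hz⟩ : ↥K) ∈ commutator ↥K := Group.IsPerfect.mem_commutator
    have h1 := Cfsg.Agent.Lib.helper3.pow_index_mem_commutator
      ((P : Subgroup G).subgroupOf K) hzc hzd
    have h2 : (⁅(P : Subgroup G).subgroupOf K, (P : Subgroup G).subgroupOf K⁆).map K.subtype
        ≤ tgDer P := by
      rw [Subgroup.map_le_iff_le_comap, Subgroup.commutator_le]
      intro a ha b hb
      rw [Subgroup.mem_comap]
      have := tg_comm_mem_tgDer P (Subgroup.mem_subgroupOf.1 ha) (Subgroup.mem_subgroupOf.1 hb)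
      rw [commutatorElement_def]
      simpa using this
    have h3 : z ^ ((P : Subgroup G).subgroupOf K).index ∈ tgPhi P := by
      apply tgDer_le_tgPhi P
      apply h2
      exact ⟨_, h1, by simp⟩
    obtain ⟨a, ha⟩ := (IsPGroup.iff_orderOf.1 hpg) ⟨z, hz⟩
    have h4 : orderOf z = p ^ a := by
      rw [← ha]; exact (Subgroup.orderOf_mk z hz).symm
    have h5 : Nat.Coprime ((P : Subgroup G).subgroupOf K).index (orderOf z) := by
      rw [h4]
      exact Nat.Coprime.pow_right a ((Nat.Prime.coprime_iff_not_dvd hp).2 hidx).symm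
    obtain ⟨m, hm⟩ := exists_pow_eq_self_of_coprime h5
    rw [← hm]
    exact Subgroup.pow_mem _ h3 m
  exact h.lemmaA (tgMin P) h.tgMin_ne_bot (le_trans inf_le_left hsub)

/-- Every component lies in the minimal normal subgroup. -/
theorem TGHyp.component_le [Finite G] {P : Sylow p G} (h : TGHyp P) {L : Subgroup G}
    (hL : Cfsg.IsComponent L) : L ≤ tgMin P := by
  rcases Cfsg.Agent.Lib.Helper9.component_le_or_commute L (tgMin P) hL
    (tgMin_normal P).isSubnormal with h1 | h1
  · exact h1
  exfalso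
  obtain ⟨K, hK⟩ : ∃ K : Subgroup G, K = Subgroup.normalClosure (L : Set G) := ⟨_, rfl⟩
  haveI hKn : K.Normal := by rw [hK]; exact Subgroup.normalClosure_normal
  have hLK : L ≤ K := by rw [hK]; exact Subgroup.le_normalClosure
  have hKne : K ≠ ⊥ := by
    intro h0
    apply Cfsg.Agent.Lib.Helper10.isComponent_ne_bot hL
    exact le_bot_iff.1 (h0 ▸ hLK)
  have hMK : tgMin P ≤ K := h.tgMin_le K hKne
  have hLC : L ≤ Subgroup.centralizer (tgMin P : Set G) :=
    Subgroup.commutator_eq_bot_iff_le_centralizer.1 h1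
  have hKC : K ≤ Subgroup.centralizer (tgMin P : Set G) := by
    rw [hK]; exact Subgroup.normalClosure_le_normal hLC
  have hperf : ⁅K, K⁆ = K := by
    apply le_antisymm (Subgroup.commutator_le_left K K)
    have hn : (⁅K, K⁆).Normal := inferInstance
    have : L ≤ ⁅K, K⁆ := by
      rw [← Cfsg.Agent.Lib.Helper10.isComponent_commutator_self hL]
      exact Subgroup.commutator_mono hLK hLK
    conv_lhs => rw [hK]
    exact Subgroup.normalClosure_le_normal this
  exact h.not_central_perfect K hperf hMK hKC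

theorem TGHyp.layer_le [Finite G] {P : Sylow p G} (h : TGHyp P) : Cfsg.layer G ≤ tgMin P :=
  sSup_le (fun _ hL => h.component_le hL)

end Cfsg.Agent.Lib.Helper13
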