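import Mathlib
import Cfsg.Agent.Lib.Helper13.TwoGenE

set_option autoImplicit false

namespace Cfsg.Agent.Lib.Helper13

open scoped commutatorElement

variable {G : Type*} [Group G] {p : ℕ} [Fact p.Prime]

theorem tgPhi_conj_mem (P : Sylow p G) {a x : G} (ha : a ∈ (P : Subgroup G)) (hx : x ∈ tgPhi P) :
    a * x * a⁻¹ ∈ tgPhi P := by
  obtain ⟨y, hy, rfl⟩ := hx
  haveI : (frattini ↥(P : Subgroup G)).Normal := Subgroup.normal_of_characteristic _
  exact ⟨⟨a, ha⟩ * y * ⟨a, ha⟩⁻¹, Subgroup.Normal.conj_mem inferInstance y hy ⟨a, ha⟩, rfl⟩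

/-- The Frattini subgroup of a normal `p`-subgroup of `G` lies in `Φ(P)`. -/
theorem tg_frattini_le [Finite G] (P : Sylow p G) (R : Subgroup G)
    (hRP : R ≤ (P : Subgroup G)) : (frattini ↥R).map R.subtype ≤ tgPhi P := by
  haveI hN : ((tgPhi P).subgroupOf R).Normal := by
    constructor
    intro n hn g
    rw [Subgroup.mem_subgroupOf] at hn ⊢
    have := tgPhi_conj_mem P (hRP g.2) hn
    simpa using this
  have hcomm : commutator ↥R ≤ (tgPhi P).subgroupOf R := by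
    rw [commutator_eq_closure, Subgroup.closure_le]
    rintro _ ⟨a, b, rfl⟩
    change ⁅a, b⁆ ∈ (tgPhi P).subgroupOf R
    rw [Subgroup.mem_subgroupOf]
    have := tgDer_le_tgPhi P (tg_comm_mem_tgDer P (hRP a.2) (hRP b.2))
    rw [commutatorElement_def]
    simpa using this
  have hpow : ∀ x : ↥R, x ^ p ∈ (tgPhi P).subgroupOf R := by
    intro x
    rw [Subgroup.mem_subgroupOf]
    have := tg_pow_mem_tgPhi P (hRP x.2)
    simpa using this
  have h2 := Cfsg.Agent.Lib.Helper1.frattini_le_of_elementary_quotient (p := p)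
    ((tgPhi P).subgroupOf R) hcomm hpow
  rintro _ ⟨y, hy, rfl⟩
  exact Subgroup.mem_subgroupOf.1 (h2 hy)

/-- `O_p(G)` is elementary abelian. -/
theorem TGHyp.pCore_elementary [Finite G] {P : Sylow p G} (h : TGHyp P) :
    (∀ a ∈ Cfsg.pCore p G, ∀ b ∈ Cfsg.pCore p G, a * b = b * a) ∧
      ∀ a ∈ Cfsg.pCore p G, a ^ p = 1 := by
  obtain ⟨R, hR⟩ : ∃ R : Subgroup G, R = Cfsg.pCore p G := ⟨_, rfl⟩
  rw [← hR]
  haveI hRn : R.Normal := by rw [hR]; exact Cfsg.Agent.Lib.Helper1.pCore_normal p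
  have hRP : R ≤ (P : Subgroup G) := by rw [hR]; exact Cfsg.Agent.Lib.Helper1.pCore_le_sylow p P
  have hRpg : IsPGroup p ↥R := by rw [hR]; exact Cfsg.Agent.Lib.Helper1.pCore_isPGroup p
  by_cases hR0 : R = ⊥
  · rw [hR0]
    refine ⟨?_, ?_⟩
    · intro a ha b hb
      rw [Subgroup.mem_bot] at ha hb
      rw [ha, hb]
    · intro a ha
      rw [Subgroup.mem_bot] at ha
      rw [ha, one_pow]
  have hMP : ¬ tgMin P ⊓ (P : Subgroup G) ≤ tgPhi P := h.lemmaA (tgMin P) h.tgMin_ne_bot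
  -- Step 1: Φ(R) = 1
  have hfr : frattini ↥R = ⊥ := by
    by_contra hne
    obtain ⟨Φ, hΦ⟩ : ∃ Φ : Subgroup G, Φ = (frattini ↥R).map R.subtype := ⟨_, rfl⟩
    haveI hΦn : Φ.Normal := by rw [hΦ]; exact ConjAct.normal_of_characteristic_of_normal
    have hΦne : Φ ≠ ⊥ := by
      intro h0; apply hne
      rw [hΦ] at h0
      exact (Subgroup.map_eq_bot_iff_of_injective _ R.subtype_injective).1 h0
    have h1 : tgMin P ≤ Φ := h.tgMin_le Φ hΦne
    have h3 : Φ ≤ tgPhi P := by rw [hΦ]; exact tg_frattini_le P R hRP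
    exact hMP (le_trans inf_le_left (le_trans h1 h3))
  -- Step 2: R is elementary abelian
  refine ⟨?_, ?_⟩
  · intro a ha b hb
    have h1 : ⁅(⟨a, ha⟩ : ↥R), ⟨b, hb⟩⁆ ∈ frattini ↥R :=
      Cfsg.Agent.Lib.Helper1.pgroup_commutator_le_frattini hRpg
        (Subgroup.commutator_mem_commutator (Subgroup.mem_top _) (Subgroup.mem_top _))
    rw [hfr, Subgroup.mem_bot, commutatorElement_def] at h1
    have h2 : a * b * a⁻¹ * b⁻¹ = 1 := by
      have := congrArg Subtype.val h1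
      simpa using this
    calc a * b = (a * b * a⁻¹ * b⁻¹) * (b * a) := by group
      _ = b * a := by rw [h2, one_mul]
  · intro a ha
    have h1 := Cfsg.Agent.Lib.Helper1.pgroup_pow_mem_frattini hRpg (⟨a, ha⟩ : ↥R)
    rw [hfr, Subgroup.mem_bot] at h1
    have := congrArg Subtype.val h1
    simpa using this

/-- The Fitting subgroup lies in the minimal normal subgroup. -/
theorem TGHyp.fitting_le [Finite G] {P : Sylow p G} (h : TGHyp P) :
    Cfsg.fittingSubgroup G ≤ tgMin P := by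
  have hp : p.Prime := Fact.out
  rw [Cfsg.Agent.Lib.Helper1.fittingSubgroup_eq_pCore_of_pPrimeCore_eq_bot p h.hcore]
  obtain ⟨hRc0, hRp0⟩ := h.pCore_elementary
  obtain ⟨R, hR⟩ : ∃ R : Subgroup G, R = Cfsg.pCore p G := ⟨_, rfl⟩
  rw [← hR] at hRc0 hRp0 ⊢
  have hRc : ∀ a ∈ R, ∀ b ∈ R, a * b = b * a := hRc0
  have hRp : ∀ a ∈ R, a ^ p = 1 := hRp0
  haveI hRn : R.Normal := by rw [hR]; exact Cfsg.Agent.Lib.Helper1.pCore_normal p
  have hRP : R ≤ (P : Subgroup G) := by rw [hR]; exact Cfsg.Agent.Lib.Helper1.pCore_le_sylow p P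
  by_cases hR0 : R = ⊥
  · rw [hR0]; exact bot_le
  have hMR : tgMin P ≤ R := h.tgMin_le R hR0
  have hMP : ¬ tgMin P ⊓ (P : Subgroup G) ≤ tgPhi P := h.lemmaA (tgMin P) h.tgMin_ne_bot
  -- Step 3: a generator of P modulo tgMin
  obtain ⟨g, hgP, hgen⟩ := tg_exists_gen P h.hgen (tgMin P)
    (by rw [Subgroup.normalizer_eq_top_iff.2 (tgMin_normal P)]; exact le_top) hMP
  by_contra hnot
  obtain ⟨r, hrR, hrM⟩ := SetLike.not_le_iff_exists.1 hnot
  obtain ⟨n, k, hk, hrk⟩ := hgen r (hRP hrR)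
  have hcR : g ^ n ∈ R := by
    have : g ^ n = r * k⁻¹ := by rw [hrk]; group
    rw [this]
    exact R.mul_mem hrR (R.inv_mem (hMR hk))
  have hcN : g ^ n ∉ tgMin P := by
    intro hc
    apply hrM
    rw [hrk]
    exact (tgMin P).mul_mem hc hk
  have hcP : ∀ u ∈ (P : Subgroup G), u * g ^ n = g ^ n * u := by
    intro u hu
    obtain ⟨m, k', hk', rfl⟩ := hgen u hu
    have h1 : k' * g ^ n = g ^ n * k' := hRc k' (hMR hk') (g ^ n) hcR
    calc g ^ m * k' * g ^ n = g ^ m * (k' * g ^ n) := by group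
      _ = g ^ m * (g ^ n * k') := by rw [h1]
      _ = g ^ (m + n) * k' := by rw [zpow_add]; group
      _ = g ^ (n + m) * k' := by rw [add_comm]
      _ = g ^ n * (g ^ m * k') := by rw [zpow_add]; group
  -- Step 4: the kernel of the action on R / tgMin
  obtain ⟨G0, hG0def⟩ : ∃ G0 : Subgroup G, G0 = (Subgroup.centralizer
      ((R.map (QuotientGroup.mk' (tgMin P)) : Subgroup (G ⧸ tgMin P)) :
        Set (G ⧸ tgMin P))).comap (QuotientGroup.mk' (tgMin P)) := ⟨_, rfl⟩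
  haveI hRmn : (R.map (QuotientGroup.mk' (tgMin P))).Normal :=
    hRn.map _ (QuotientGroup.mk'_surjective _)
  haveI hG0n : G0.Normal := by rw [hG0def]; infer_instance
  have hG0 : ∀ x ∈ G0, ∀ r ∈ R, x * r * x⁻¹ * r⁻¹ ∈ tgMin P := by
    intro x hx r hr
    rw [hG0def, Subgroup.mem_comap, Subgroup.mem_centralizer_iff] at hx
    have h1 := hx (QuotientGroup.mk' (tgMin P) r) (Subgroup.mem_map_of_mem _ hr)
    rw [← QuotientGroup.eq_one_iff]
    have h2 : ((x * r * x⁻¹ * r⁻¹ : G) : G ⧸ tgMin P) =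
        (QuotientGroup.mk' (tgMin P) x) * (QuotientGroup.mk' (tgMin P) r) *
          (QuotientGroup.mk' (tgMin P) x)⁻¹ * (QuotientGroup.mk' (tgMin P) r)⁻¹ := rfl
    rw [h2, ← h1]
    group
  have hPG0 : (P : Subgroup G) ≤ G0 := by
    intro u hu
    rw [hG0def, Subgroup.mem_comap, Subgroup.mem_centralizer_iff]
    rintro _ ⟨r, hr, rfl⟩
    change ((r * u : G) : G ⧸ tgMin P) = ((u * r : G) : G ⧸ tgMin P)
    rw [QuotientGroup.eq]
    have h1 := tgDer_le_tgMin P (tg_comm_mem_tgDer P ((P : Subgroup G).inv_mem hu)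
      ((P : Subgroup G).inv_mem (hRP hr)))
    have h2 : (r * u)⁻¹ * (u * r) = u⁻¹ * r⁻¹ * u⁻¹⁻¹ * r⁻¹⁻¹ := by group
    rw [h2]; exact h1
  have hidx : ¬ p ∣ (P : Subgroup G).relIndex G0 := by
    intro hd
    exact P.not_dvd_index (hd.trans (Subgroup.relIndex_dvd_index_of_le hPG0))
  -- Step 5: the trace
  obtain ⟨c', hc'R, hc'N, hc'fix⟩ := tg_trace (p := p) R (tgMin P) G0 (P : Subgroup G)
    hRc hRp hG0 hidx (g ^ n) hcR hcN hcP
  -- Step 6
  obtain ⟨Z0, hZ0⟩ : ∃ Z0 : Subgroup G, Z0 = R ⊓ Subgroup.centralizer (G0 : Set G) := ⟨_, rfl⟩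
  haveI hZ0n : Z0.Normal := by rw [hZ0]; infer_instance
  have hc'Z : c' ∈ Z0 := by
    rw [hZ0]
    refine Subgroup.mem_inf.2 ⟨hc'R, ?_⟩
    rw [Subgroup.mem_centralizer_iff]
    exact hc'fix
  have hZ0ne : Z0 ≠ ⊥ := by
    intro h0
    rw [h0, Subgroup.mem_bot] at hc'Z
    apply hc'N
    rw [hc'Z]; exact (tgMin P).one_mem
  have hMZ : tgMin P ≤ Z0 := h.tgMin_le Z0 hZ0ne
  have hcent : ∀ k ∈ tgMin P, ∀ u ∈ (P : Subgroup G), u * k = k * u := by
    intro k hk u hu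
    have h1 := hMZ hk
    rw [hZ0] at h1
    exact (Subgroup.mem_centralizer_iff.1 (Subgroup.mem_inf.1 h1).2) u (hPG0 hu)
  apply h.hna
  refine ⟨⟨?_⟩⟩
  rintro ⟨x, hx⟩ ⟨y, hy⟩
  apply Subtype.ext
  change x * y = y * x
  obtain ⟨a, k1, hk1, rfl⟩ := hgen x hx
  obtain ⟨b, k2, hk2, rfl⟩ := hgen y hy
  have hgaP : g ^ a ∈ (P : Subgroup G) := Subgroup.zpow_mem _ hgP a
  have hgbP : g ^ b ∈ (P : Subgroup G) := Subgroup.zpow_mem _ hgP b
  have e1 : g ^ b * k1 = k1 * g ^ b := hcent k1 hk1 _ hgbP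
  have e2 : g ^ a * k2 = k2 * g ^ a := hcent k2 hk2 _ hgaP
  have e3 : k1 * k2 = k2 * k1 := hRc k1 (hMR hk1) k2 (hMR hk2)
  have e4 : g ^ a * g ^ b = g ^ b * g ^ a := by rw [← zpow_add, ← zpow_add, add_comm]
  calc g ^ a * k1 * (g ^ b * k2) = g ^ a * (k1 * g ^ b) * k2 := by group
    _ = g ^ a * (g ^ b * k1) * k2 := by rw [e1]
    _ = (g ^ a * g ^ b) * (k1 * k2) := by group
    _ = (g ^ b * g ^ a) * (k2 * k1) := by rw [e4, e3]
    _ = g ^ b * (g ^ a * k2) * k1 := by group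
    _ = g ^ b * (k2 * g ^ a) * k1 := by rw [e2]
    _ = g ^ b * k2 * (g ^ a * k1) := by group

end Cfsg.Agent.Lib.Helper13
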