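import Mathlib
import Cfsg.Agent.Lib.Helper10.PComp
import Cfsg.Agent.Lib.Helper10.MaxComp1
import Cfsg.Agent.Lib.helper17.QS4
import Cfsg.Agent.Lib.helper17.QS5
import Cfsg.Agent.Lib.Helper1.Residual
import Cfsg.Agent.Lib.Helper13.TwoGenF

set_option autoImplicit false

namespace Cfsg.Agent.Lib.Helper13

open scoped commutatorElement

variable {G : Type*} [Group G] {p : ℕ} [Fact p.Prime]

/-- A perfect finite group is generated by its `p'`-elements. -/
theorem tg_pResidual_eq_top_of_perfect {H : Type*} [Group H] [Finite H] (p : ℕ) [Fact p.Prime]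
    [hperf : Group.IsPerfect H] : Cfsg.pResidual p H = ⊤ := by
  haveI hn := Cfsg.Agent.Lib.Helper1.pResidual_normal (G := H) p
  have hpg : IsPGroup p (H ⧸ Cfsg.pResidual p H) :=
    Cfsg.Agent.Lib.Helper1.quotient_pResidual_isPGroup p
  haveI hnil : Group.IsNilpotent (H ⧸ Cfsg.pResidual p H) := hpg.isNilpotent
  have hsolv : Group.IsSolvable (H ⧸ Cfsg.pResidual p H) := inferInstance
  by_contra hne
  haveI : Nontrivial (H ⧸ Cfsg.pResidual p H) := by
    by_contra hnt
    rw [not_nontrivial_iff_subsingleton] at hnt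
    apply hne
    rw [← Subgroup.index_eq_one, Subgroup.index_eq_card]
    haveI := hnt
    exact Nat.card_unique
  exact Group.IsPerfect.not_isSolvable (H ⧸ Cfsg.pResidual p H) hsolv

theorem TGHyp.dvd_card_component [Finite G] {P : Sylow p G} (h : TGHyp P) {J : Subgroup G}
    (hJ : Cfsg.IsComponent J) : p ∣ Nat.card ↥J := by
  by_contra hnd
  have hcop : (Nat.card J).Coprime p :=
    ((Nat.Prime.coprime_iff_not_dvd (Fact.out : p.Prime)).2 hnd).symm
  have := Cfsg.Agent.Lib.Helper10.subnormal_coprime_le_pPrimeCore p J hJ.1 hcop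
  rw [h.hcore] at this
  exact Cfsg.Agent.Lib.Helper10.isComponent_ne_bot hJ (le_bot_iff.1 this)

/-- A join of components normalized by `P` does not meet `P` inside `Φ(P)`. -/
theorem TGHyp.not_le_phi_of_components [Finite G] {P : Sylow p G} (h : TGHyp P)
    (S : Set (Subgroup G)) (hS : ∀ J ∈ S, Cfsg.IsComponent J) (hne : S.Nonempty)
    (hPN : (P : Subgroup G) ≤ Subgroup.normalizer ((sSup S : Subgroup G) : Set G)) :
    ¬ (sSup S ⊓ (P : Subgroup G) ≤ tgPhi P) := by
  intro hle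
  have h1 := tg_tate_sub P (sSup S) hPN hle
  have hperf : ⁅sSup S, sSup S⁆ = sSup S := by
    apply le_antisymm
    · rw [Subgroup.commutator_le]
      intro a ha b hb
      rw [commutatorElement_def]
      exact Subgroup.mul_mem _ (Subgroup.mul_mem _ (Subgroup.mul_mem _ ha hb)
        (Subgroup.inv_mem _ ha)) (Subgroup.inv_mem _ hb)
    apply sSup_le
    intro J hJ
    rw [← Cfsg.Agent.Lib.Helper10.isComponent_commutator_self (hS J hJ)]
    exact Subgroup.commutator_mono (le_sSup hJ) (le_sSup hJ)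
  haveI : Group.IsPerfect ↥(sSup S) := Subgroup.isPerfect_iff.2 hperf
  rw [tg_pResidual_eq_top_of_perfect p] at h1
  obtain ⟨J, hJ⟩ := hne
  have h2 : p ∣ Nat.card ↥J := h.dvd_card_component (hS J hJ)
  apply h1
  rw [Nat.card_congr Subgroup.topEquiv.toEquiv]
  exact h2.trans (Subgroup.card_dvd_of_le (le_sSup hJ))

theorem tg_le_normalizer_sSup (P : Subgroup G) (S : Set (Subgroup G))
    (hconj : ∀ x ∈ P, ∀ J ∈ S, J.map (MulAut.conj x).toMonoidHom ∈ S) :
    P ≤ Subgroup.normalizer ((sSup S : Subgroup G) : Set G) := by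
  have aux : ∀ x ∈ P, ∀ z ∈ sSup S, x * z * x⁻¹ ∈ sSup S := by
    intro x hx z hz
    have h1 : sSup S ≤ (sSup S).comap (MulAut.conj x).toMonoidHom := by
      apply sSup_le
      intro J hJ
      exact Subgroup.map_le_iff_le_comap.1 (le_sSup (hconj x hx J hJ))
    have h2 := h1 hz
    rw [Subgroup.mem_comap] at h2
    simpa using h2
  intro x hx
  rw [Subgroup.mem_normalizer_iff]
  intro z
  constructor
  · exact aux x hx z
  · intro hz
    have := aux x⁻¹ (P.inv_mem hx) _ hz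
    have e : x⁻¹ * (x * z * x⁻¹) * x⁻¹⁻¹ = z := by group
    rwa [e] at this

theorem tg_map_conj_map_conj (J : Subgroup G) (x y : G) :
    (J.map (MulAut.conj y).toMonoidHom).map (MulAut.conj x).toMonoidHom =
      J.map (MulAut.conj (x * y)).toMonoidHom := by
  rw [Subgroup.map_map]
  congr 1
  ext z
  simp [mul_assoc]

/-- `P` permutes the components transitively when `F(G) = 1`. -/
theorem TGHyp.transitive [Finite G] {P : Sylow p G} (h : TGHyp P)
    (hF : Cfsg.fittingSubgroup G = ⊥) {K L : Subgroup G} (hK : Cfsg.IsComponent K)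
    (hL : Cfsg.IsComponent L) :
    ∃ x ∈ (P : Subgroup G), L = K.map (MulAut.conj x).toMonoidHom := by
  by_contra hnot
  obtain ⟨S1, hS1⟩ : ∃ S1 : Set (Subgroup G), S1 =
      {J | ∃ x ∈ (P : Subgroup G), J = K.map (MulAut.conj x).toMonoidHom} := ⟨_, rfl⟩
  obtain ⟨S2, hS2⟩ : ∃ S2 : Set (Subgroup G), S2 = {J | Cfsg.IsComponent J ∧ J ∉ S1} :=
    ⟨_, rfl⟩
  have hS1c : ∀ J ∈ S1, Cfsg.IsComponent J := by
    rw [hS1]; rintro _ ⟨x, _, rfl⟩; exact Cfsg.Agent.Lib.Helper10.MaxComp.isComponent_conj hK x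
  have hS2c : ∀ J ∈ S2, Cfsg.IsComponent J := by rw [hS2]; exact fun J hJ => hJ.1
  have hKS1 : K ∈ S1 := by
    rw [hS1]
    refine ⟨1, one_mem _, ?_⟩
    ext z
    simp
  have hLS2 : L ∈ S2 := by
    rw [hS2]
    refine ⟨hL, ?_⟩
    rw [hS1]
    rintro ⟨x, hx, hLx⟩
    exact hnot ⟨x, hx, hLx⟩
  have hS1conj : ∀ x ∈ (P : Subgroup G), ∀ J ∈ S1, J.map (MulAut.conj x).toMonoidHom ∈ S1 := by
    rw [hS1]
    rintro x hx _ ⟨y, hy, rfl⟩
    exact ⟨x * y, mul_mem hx hy, tg_map_conj_map_conj K x y⟩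
  have hS2conj : ∀ x ∈ (P : Subgroup G), ∀ J ∈ S2, J.map (MulAut.conj x).toMonoidHom ∈ S2 := by
    intro x hx J hJ
    rw [hS2] at hJ ⊢
    refine ⟨Cfsg.Agent.Lib.Helper10.MaxComp.isComponent_conj hJ.1 x, ?_⟩
    intro hmem
    apply hJ.2
    have h1 := hS1conj x⁻¹ (inv_mem hx) _ hmem
    rw [tg_map_conj_map_conj, inv_mul_cancel] at h1
    have h2 : J.map (MulAut.conj (1 : G)).toMonoidHom = J := by
      ext z; simp
    rwa [h2] at h1
  have hP1 := tg_le_normalizer_sSup (P : Subgroup G) S1 hS1conj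
  have hP2 := tg_le_normalizer_sSup (P : Subgroup G) S2 hS2conj
  -- S1 and S2 commute
  have hcent : sSup S2 ≤ Subgroup.centralizer ((sSup S1 : Subgroup G) : Set G) := by
    apply sSup_le
    intro J2 hJ2
    rw [Subgroup.le_centralizer_iff]
    apply sSup_le
    intro J1 hJ1
    rw [← Subgroup.commutator_eq_bot_iff_le_centralizer]
    apply Cfsg.Agent.Lib.helper17.component_commute_of_ne (hS1c J1 hJ1) (hS2c J2 hJ2)
    intro heq
    rw [hS2] at hJ2
    exact hJ2.2 (heq ▸ hJ1)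
  have hcent' : sSup S1 ≤ Subgroup.centralizer ((sSup S2 : Subgroup G) : Set G) :=
    Subgroup.le_centralizer_iff.1 hcent
  have hlayer : Cfsg.layer G ≤ sSup S1 ⊔ sSup S2 := by
    apply sSup_le
    intro J hJ
    by_cases hJ1 : J ∈ S1
    · exact le_trans (le_sSup hJ1) le_sup_left
    · have : J ∈ S2 := by rw [hS2]; exact ⟨hJ, hJ1⟩
      exact le_trans (le_sSup this) le_sup_right
  have hinf : sSup S1 ⊓ sSup S2 = ⊥ := by
    rw [eq_bot_iff]
    intro z hz
    have hz1 : z ∈ sSup S1 := (Subgroup.mem_inf.1 hz).1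
    have hz2 : z ∈ sSup S2 := (Subgroup.mem_inf.1 hz).2
    have hzl : z ∈ Cfsg.layer G := by
      have : sSup S1 ≤ Cfsg.layer G := by
        apply sSup_le
        intro J hJ
        exact le_sSup (hS1c J hJ)
      exact this hz1
    have hzc : z ∈ Subgroup.centralizer (Cfsg.layer G : Set G) := by
      have h1 := Cfsg.Agent.Lib.helper17.mem_centralizer_sup (hcent hz2) (hcent' hz1)
      exact Subgroup.centralizer_le (by exact_mod_cast hlayer) h1
    have := Cfsg.Agent.Lib.helper17.center_layer_le_fitting (Subgroup.mem_inf.2 ⟨hzl, hzc⟩)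
    rwa [hF] at this
  have hn1 := h.not_le_phi_of_components S1 hS1c ⟨K, hKS1⟩ hP1
  have hn2 := h.not_le_phi_of_components S2 hS2c ⟨L, hLS2⟩ hP2
  have hd1 := tg_der_le P h.hgen (sSup S1) hP1 hn1
  have hd2 := tg_der_le P h.hgen (sSup S2) hP2 hn2
  apply tgDer_ne_bot P h.hna
  rw [eq_bot_iff, ← hinf]
  exact le_inf hd1 hd2

end Cfsg.Agent.Lib.Helper13
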