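import Cfsg.Agent.Lib.helper15.UD.Defs

/-! # UD (helper15, S5655) piece PAIRSA : `pairs_a` -/

set_option autoImplicit false
set_option linter.unusedVariables false
set_option linter.unusedSectionVars false

namespace Cfsg.Agent.Lib.helper15.UD

open Matrix Cfsg.Agent.Lib.Helper28 Cfsg.Agent.Lib.Helper29.ExtrL

variable {n q : ℕ} {F : Type*} [Field F] [Fintype F] {σ : F ≃+* F}

section main
variable {t k : ℕ}

/-- an element of `GU` is an isometry of the Hermitian form. -/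
theorem pairsa_iso {g : Matrix.GeneralLinearGroup (Fin n) F} (hg : g ∈ Cfsg.GU n F q)
    (x y : Fin n → F) :
    Cfsg.hermForm n F q ((g : Matrix (Fin n) (Fin n) F) *ᵥ x)
      ((g : Matrix (Fin n) (Fin n) F) *ᵥ y) = Cfsg.hermForm n F q x y :=
  hg x y

/-- PAIRSA [M] one pair with non-isotropic components gives all of them. -/
theorem pairs_a (hc : Ctx n q F σ) (D : Fin t → Submodule F (Fin n → F))
    (hD : Cfsg.Geo.IsNondegenerateMDecomposition (Cfsg.hermForm n F q) k D)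
    (M : Subgroup (Matrix.GeneralLinearGroup (Fin n) F)) (hHM : HD q D ≤ M) (hMG : M ≤ GS n F q)
    (hmove : ∀ i : Fin t, ∀ a a' : Fin n → F, a ∈ D i → a' ∈ D i →
      Cfsg.hermForm n F q a a = Cfsg.hermForm n F q a' a' → Cfsg.hermForm n F q a a ≠ 0 →
      ∃ g : Matrix.GeneralLinearGroup (Fin n) F, g ∈ HD q D ∧
        (g : Matrix (Fin n) (Fin n) F) *ᵥ a = a' ∧
        ∀ l, l ≠ i → ∀ x ∈ D l, (g : Matrix (Fin n) (Fin n) F) *ᵥ x = x)
    (i j : Fin t) (hij : i ≠ j) (a₀ b₀ : Fin n → F) (ha₀ : a₀ ∈ D i) (hb₀ : b₀ ∈ D j)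
    (h0 : Cfsg.hermForm n F q a₀ a₀ ≠ 0)
    (h1 : Cfsg.hermForm n F q a₀ a₀ + Cfsg.hermForm n F q b₀ b₀ = 0)
    (hZ : a₀ + b₀ ∈ ZZ q σ M) :
    ∀ a ∈ D i, ∀ b ∈ D j, Cfsg.hermForm n F q a a ≠ 0 →
      Cfsg.hermForm n F q a a + Cfsg.hermForm n F q b b = 0 → a + b ∈ ZZ q σ M := by
  intro a ha b hb haa hab
  have hf := hc.form
  -- the ratio of the norms is fixed by `σ`
  have hfix : ∀ x : Fin n → F, σ (Cfsg.hermForm n F q x x) = Cfsg.hermForm n F q x x :=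
    fun x => (hf.herm x x).symm
  have hratio : σ (Cfsg.hermForm n F q a a / Cfsg.hermForm n F q a₀ a₀) =
      Cfsg.hermForm n F q a a / Cfsg.hermForm n F q a₀ a₀ := by
    rw [map_div₀, hfix, hfix]
  obtain ⟨lam, hlam⟩ := UForm.norm_surj hf _ hratio
  -- `lam • (a₀ + b₀) ∈ ZZ`
  have hy : lam • (a₀ + b₀) ∈ ZZ q σ M := UMax.XS_smul hf M lam hZ
  have hnorm : ∀ x : Fin n → F, Cfsg.hermForm n F q (lam • x) (lam • x) =
      lam * σ lam * Cfsg.hermForm n F q x x := by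
    intro x
    rw [hf.smul_left, UForm.f_smul_right hf]
    ring
  have hna : Cfsg.hermForm n F q (lam • a₀) (lam • a₀) = Cfsg.hermForm n F q a a := by
    rw [hnorm, hlam]
    field_simp
  have hnb : Cfsg.hermForm n F q (lam • b₀) (lam • b₀) = Cfsg.hermForm n F q b b := by
    rw [hnorm, hlam]
    have e1 : Cfsg.hermForm n F q b₀ b₀ = - Cfsg.hermForm n F q a₀ a₀ := by
      linear_combination h1
    have e2 : Cfsg.hermForm n F q b b = - Cfsg.hermForm n F q a a := by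
      linear_combination hab
    rw [e1, e2]
    field_simp
  -- first move, inside `D i`
  obtain ⟨g1, hg1, hg1a, hg1fix⟩ := hmove i (lam • a₀) a ((D i).smul_mem lam ha₀) ha hna
    (by rw [hna]; exact haa)
  have hg1M : g1 ∈ M := hHM hg1
  have hg1U : g1 ∈ Cfsg.GU n F q := hg1.2.1
  have h2 : (g1 : Matrix (Fin n) (Fin n) F) *ᵥ (lam • (a₀ + b₀)) ∈ ZZ q σ M :=
    UMax.XS_conj M hg1M (pairsa_iso hg1U) hy
  have e3 : (g1 : Matrix (Fin n) (Fin n) F) *ᵥ (lam • (a₀ + b₀)) = a + lam • b₀ := by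
    rw [smul_add, Matrix.mulVec_add, hg1a, hg1fix j (Ne.symm hij) _ ((D j).smul_mem lam hb₀)]
  rw [e3] at h2
  -- second move, inside `D j`
  have hbb : Cfsg.hermForm n F q b b ≠ 0 := by
    intro h
    apply haa
    rw [h, add_zero] at hab
    exact hab
  obtain ⟨g2, hg2, hg2b, hg2fix⟩ := hmove j (lam • b₀) b ((D j).smul_mem lam hb₀) hb hnb
    (by rw [hnb]; exact hbb)
  have hg2M : g2 ∈ M := hHM hg2
  have hg2U : g2 ∈ Cfsg.GU n F q := hg2.2.1
  have h3 : (g2 : Matrix (Fin n) (Fin n) F) *ᵥ (a + lam • b₀) ∈ ZZ q σ M :=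
    UMax.XS_conj M hg2M (pairsa_iso hg2U) h2
  have e4 : (g2 : Matrix (Fin n) (Fin n) F) *ᵥ (a + lam • b₀) = a + b := by
    rw [Matrix.mulVec_add, hg2b, hg2fix i hij _ ha]
  rw [e4] at h3
  exact h3

end main

end Cfsg.Agent.Lib.helper15.UD
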