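import Cfsg.Agent.Lib.helper15.UD.Defs

/-! # UD (helper15, S5655) piece PAIRSB : `pairs_b` -/

set_option autoImplicit false
set_option linter.unusedVariables false
set_option linter.unusedSectionVars false

namespace Cfsg.Agent.Lib.helper15.UD

open Matrix Cfsg.Agent.Lib.Helper28 Cfsg.Agent.Lib.Helper29.ExtrL

variable {n q : ℕ} {F : Type*} [Field F] [Fintype F] {σ : F ≃+* F}

section main
variable {t k : ℕ}

/-- PAIRSB [M-L] the pairs with isotropic components, by one hyperbolic closure of two pairs with non-isotropic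
components. -/
theorem pairs_b (hc : Ctx n q F σ) (D : Fin t → Submodule F (Fin n → F))
    (hD : Cfsg.Geo.IsNondegenerateMDecomposition (Cfsg.hermForm n F q) k D)
    (M : Subgroup (Matrix.GeneralLinearGroup (Fin n) F)) (hHM : HD q D ≤ M) (hMG : M ≤ GS n F q)
    (hreal : ∀ i, ∀ c ∈ D i, c ≠ 0 → ∀ s ν : F, σ ν = ν → (k = 2 → s ≠ 0) →
      ∃ x ∈ D i, Cfsg.hermForm n F q x c = s ∧ Cfsg.hermForm n F q x x = ν)
    (s s' : F) (hs1 : s + s' ≠ 0) (hs2 : σ (s + s') = -(s + s')) (hs3 : 1 - (s + σ s) ≠ 0)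
    (hs4 : k = 2 → s ≠ 0 ∧ s' ≠ 0)
    (i j : Fin t) (hij : i ≠ j)
    (hA : ∀ a ∈ D i, ∀ b ∈ D j, Cfsg.hermForm n F q a a ≠ 0 →
      Cfsg.hermForm n F q a a + Cfsg.hermForm n F q b b = 0 → a + b ∈ ZZ q σ M) :
    ∀ a ∈ D i, ∀ b ∈ D j, a ≠ 0 → b ≠ 0 → Cfsg.hermForm n F q a a = 0 →
      Cfsg.hermForm n F q b b = 0 → a + b ∈ ZZ q σ M := by
  intro a ha b hb ha0 hb0 haa hbb
  have hf := hc.form
  have hσ0 : ∀ x : F, x ≠ 0 → σ x ≠ 0 := fun x hx => (map_ne_zero_iff σ σ.injective).mpr hx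
  obtain ⟨a₂, ha₂, ha₂a, ha₂n⟩ := hreal i a ha ha0 (σ s) 1 (map_one σ)
    (fun h2 => hσ0 s (hs4 h2).1)
  obtain ⟨b₂, hb₂, hb₂b, hb₂n⟩ := hreal j b hb hb0 (σ s') (-1) (by rw [map_neg, map_one])
    (fun h2 => hσ0 s' (hs4 h2).2)
  have haa₂ : Cfsg.hermForm n F q a a₂ = s := by
    rw [hf.herm, ha₂a, hf.involutive]
  have hbb₂ : Cfsg.hermForm n F q b b₂ = s' := by
    rw [hf.herm, hb₂b, hf.involutive]
  have hσs' : σ s' = -(s + s') - σ s := by
    have := hs2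
    rw [map_add] at this
    linear_combination this
  -- orthogonality of the two blocks
  have hort : ∀ u ∈ D i, ∀ v ∈ D j, Cfsg.hermForm n F q u v = 0 := hD.orthogonal i j hij
  have hort' : ∀ u ∈ D j, ∀ v ∈ D i, Cfsg.hermForm n F q u v = 0 :=
    hD.orthogonal j i (Ne.symm hij)
  -- the two summands
  have hy1 : a - a₂ ∈ D i := (D i).sub_mem ha ha₂
  have hy2 : b - b₂ ∈ D j := (D j).sub_mem hb hb₂
  have hn1 : Cfsg.hermForm n F q (a - a₂) (a - a₂) = 1 - (s + σ s) := by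
    rw [UForm.f_sub_left hf, UForm.f_sub_right hf, UForm.f_sub_right hf, haa, haa₂, ha₂a, ha₂n]
    ring
  have hn2 : Cfsg.hermForm n F q (b - b₂) (b - b₂) = -1 - (s' + σ s') := by
    rw [UForm.f_sub_left hf, UForm.f_sub_right hf, UForm.f_sub_right hf, hbb, hbb₂, hb₂b, hb₂n]
    ring
  have hy : (a - a₂) + (b - b₂) ∈ ZZ q σ M := by
    apply hA _ hy1 _ hy2
    · rw [hn1]; exact hs3
    · rw [hn1, hn2, hσs']
      ring
  have hz : a₂ + b₂ ∈ ZZ q σ M := by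
    apply hA _ ha₂ _ hb₂
    · rw [ha₂n]; exact one_ne_zero
    · rw [ha₂n, hb₂n]; ring
  have hyz : Cfsg.hermForm n F q ((a - a₂) + (b - b₂)) (a₂ + b₂) = s + s' := by
    rw [hf.add_left, UForm.f_add_right hf, UForm.f_add_right hf, hort _ hy1 _ hb₂,
      hort' _ hy2 _ ha₂, UForm.f_sub_left hf, UForm.f_sub_left hf, haa₂, ha₂n, hbb₂, hb₂n]
    ring
  set c : F := -(s + s')⁻¹ with hcdef
  have hcs : σ c = -c := by
    rw [hcdef, map_neg, map_inv₀, hs2, neg_neg, inv_neg, neg_neg]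
  have h := UMax.XS_tv hf M hy hz hcs
  have e1 : Cfsg.hermForm n F q ((a - a₂) + (b - b₂)) (c • (a₂ + b₂)) = 1 := by
    rw [UForm.f_smul_right hf, hyz, hcs, hcdef, neg_neg]
    exact inv_mul_cancel₀ hs1
  rw [e1, one_smul] at h
  have e2 : (a - a₂) + (b - b₂) + (a₂ + b₂) = a + b := by abel
  rw [e2] at h
  exact h

end main

end Cfsg.Agent.Lib.helper15.UD
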