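import Cfsg.Agent.Lib.Helper9.UT.Defs
import Cfsg.Agent.Lib.helper7.TP.MeetB

/-! # UT (helper9, S5655 toral case) piece CLO : `clo_fix`, `clo_move` -/

set_option autoImplicit false

open Cfsg

namespace Cfsg.Agent.Lib.Helper9.UT

open Matrix Cfsg.Agent.Lib.Helper29.ExtrL Cfsg.Agent.Lib.Helper28.UMax

variable {n q : ℕ} {F : Type*} [Field F] [Fintype F] {σ : F ≃+* F}
  {M : Subgroup (Matrix.GeneralLinearGroup (Fin n) F)}

/-- the action of `Tij i j u` (local copy for this piece). -/
theorem utclo_tij_mulVec {i j : Fin n} (u : Fˣ) (v : Fin n → F) :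
    ((Tij i j u : Matrix.GeneralLinearGroup (Fin n) F) : Matrix (Fin n) (Fin n) F) *ᵥ v =
      fun l => (((if l = i then u else if l = j then u⁻¹ else 1 : Fˣ)) : F) * v l := by
  unfold Tij
  rw [dg_val]
  funext l
  rw [Matrix.mulVec_diagonal]

/-- `Tij i j u` fixes the vectors vanishing at `i` and `j`. -/
theorem utclo_tij_fix {i j : Fin n} (u : Fˣ) (v : Fin n → F) (hvi : v i = 0) (hvj : v j = 0) :
    ((Tij i j u : Matrix.GeneralLinearGroup (Fin n) F) : Matrix (Fin n) (Fin n) F) *ᵥ v = v := by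
  rw [utclo_tij_mulVec]
  funext l
  by_cases hli : l = i
  · subst hli; rw [hvi, mul_zero]
  · by_cases hlj : l = j
    · subst hlj; rw [hvj, mul_zero]
    · rw [if_neg hli, if_neg hlj, Units.val_one, one_mul]

/-- a vector supported on `{i, j}` lies in the span of `e_i, e_j`. -/
theorem utclo_supp_two (i j : Fin n) (w : Fin n → F) (h : ∀ l, l ≠ i → l ≠ j → w l = 0) :
    w ∈ Submodule.span F ({Pi.single i (1 : F), Pi.single j (1 : F)} : Set (Fin n → F)) := by
  by_cases hji : j = i
  · subst hji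
    have e : w = w j • Pi.single j (1 : F) := by
      funext l
      by_cases hl : l = j
      · subst hl; simp
      · rw [h l hl hl, Pi.smul_apply, Pi.single_eq_of_ne hl, smul_zero]
    rw [e]
    exact Submodule.smul_mem _ _ (Submodule.subset_span (Set.mem_insert _ _))
  · have e : w = w i • Pi.single i (1 : F) + w j • Pi.single j (1 : F) := by
      funext l
      by_cases hli : l = i
      · subst hli
        have hlj : l ≠ j := fun h => hji h.symm
        rw [Pi.add_apply, Pi.smul_apply, Pi.smul_apply, Pi.single_eq_same,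
          Pi.single_eq_of_ne hlj, smul_zero, add_zero, smul_eq_mul, mul_one]
      · by_cases hlj : l = j
        · subst hlj
          rw [Pi.add_apply, Pi.smul_apply, Pi.smul_apply, Pi.single_eq_same,
            Pi.single_eq_of_ne hli, smul_zero, zero_add, smul_eq_mul, mul_one]
        · rw [h l hli hlj, Pi.add_apply, Pi.smul_apply, Pi.smul_apply, Pi.single_eq_of_ne hli,
            Pi.single_eq_of_ne hlj, smul_zero, smul_zero, add_zero]
    rw [e]
    refine Submodule.add_mem _ (Submodule.smul_mem _ _ (Submodule.subset_span ?_))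
      (Submodule.smul_mem _ _ (Submodule.subset_span ?_))
    · exact Set.mem_insert _ _
    · exact Set.mem_insert_of_mem _ rfl

/-- `Tij i j u` moves every vector inside `⟨e_i, e_j⟩`. -/
theorem utclo_tij_move (i j : Fin n) (u : Fˣ) (z : Fin n → F) :
    ((Tij i j u : Matrix.GeneralLinearGroup (Fin n) F) : Matrix (Fin n) (Fin n) F) *ᵥ z - z ∈
      Submodule.span F ({Pi.single i (1 : F), Pi.single j (1 : F)} : Set (Fin n → F)) := by
  apply utclo_supp_two
  intro l hli hlj
  rw [utclo_tij_mulVec, Pi.sub_apply, if_neg hli, if_neg hlj, Units.val_one, one_mul, sub_self]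

/-- CLO. -/
theorem clo_fix (S : UF n q σ) (u : Fˣ) {g : Matrix.GeneralLinearGroup (Fin n) F}
    (hg : g ∈ SUg n F q) (i j a b : Fin n) {h : Matrix.GeneralLinearGroup (Fin n) F}
    (hh : h ∈ Subgroup.closure ({Tij i j u, g * Tij a b u * g⁻¹} :
        Set (Matrix.GeneralLinearGroup (Fin n) F)))
    (v : Fin n → F) (hvi : v i = 0) (hvj : v j = 0)
    (hva : Cfsg.hermForm n F q v ((g : Matrix (Fin n) (Fin n) F) *ᵥ Pi.single a (1 : F)) = 0)
    (hvb : Cfsg.hermForm n F q v ((g : Matrix (Fin n) (Fin n) F) *ᵥ Pi.single b (1 : F)) = 0) :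
    (h : Matrix (Fin n) (Fin n) F) *ᵥ v = v := by
  have hiso := ((mem_SUg_iff g).1 hg).1
  -- coordinates of `g⁻¹ v`
  have hcoord : ∀ c : Fin n,
      Cfsg.hermForm n F q v ((g : Matrix (Fin n) (Fin n) F) *ᵥ Pi.single c (1 : F)) = 0 →
      (((g⁻¹ : Matrix.GeneralLinearGroup (Fin n) F) : Matrix (Fin n) (Fin n) F) *ᵥ v) c = 0 := by
    intro c hc
    have h1 := herm_single_right S
      (((g⁻¹ : Matrix.GeneralLinearGroup (Fin n) F) : Matrix (Fin n) (Fin n) F) *ᵥ v) c 1
    rw [map_one, mul_one] at h1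
    rw [← h1, ← hiso, Cfsg.Agent.S5643.inv_mv']
    exact hc
  refine Cfsg.Agent.Lib.helper7.TP.tpmeet_closure_fix _ _ v (utclo_tij_fix u v hvi hvj) ?_ h hh
  rw [Cfsg.Agent.S5643.mul_mv, Cfsg.Agent.S5643.mul_mv,
    utclo_tij_fix u _ (hcoord a hva) (hcoord b hvb), Cfsg.Agent.S5643.inv_mv']

/-- CLO. -/
theorem clo_move (u : Fˣ) (g : Matrix.GeneralLinearGroup (Fin n) F) (i j a b : Fin n)
    {h : Matrix.GeneralLinearGroup (Fin n) F}
    (hh : h ∈ Subgroup.closure ({Tij i j u, g * Tij a b u * g⁻¹} :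
        Set (Matrix.GeneralLinearGroup (Fin n) F)))
    (v : Fin n → F) :
    (h : Matrix (Fin n) (Fin n) F) *ᵥ v - v ∈ Submodule.span F
      ({Pi.single i (1 : F), Pi.single j (1 : F),
        (g : Matrix (Fin n) (Fin n) F) *ᵥ Pi.single a (1 : F),
        (g : Matrix (Fin n) (Fin n) F) *ᵥ Pi.single b (1 : F)} : Set (Fin n → F)) := by
  have hy : ∀ z : Fin n → F,
      ((g * Tij a b u * g⁻¹ : Matrix.GeneralLinearGroup (Fin n) F) :
        Matrix (Fin n) (Fin n) F) *ᵥ z - z ∈ Submodule.span F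
      ({(g : Matrix (Fin n) (Fin n) F) *ᵥ Pi.single a (1 : F),
        (g : Matrix (Fin n) (Fin n) F) *ᵥ Pi.single b (1 : F)} : Set (Fin n → F)) := by
    intro z
    set z' := ((g⁻¹ : Matrix.GeneralLinearGroup (Fin n) F) : Matrix (Fin n) (Fin n) F) *ᵥ z
      with hz'
    have e : ((g * Tij a b u * g⁻¹ : Matrix.GeneralLinearGroup (Fin n) F) :
        Matrix (Fin n) (Fin n) F) *ᵥ z - z =
        (g : Matrix (Fin n) (Fin n) F) *ᵥ
          (((Tij a b u : Matrix.GeneralLinearGroup (Fin n) F) : Matrix (Fin n) (Fin n) F) *ᵥ z'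
            - z') := by
      rw [Cfsg.Agent.S5643.mul_mv, Cfsg.Agent.S5643.mul_mv, Matrix.mulVec_sub, hz',
        Cfsg.Agent.S5643.inv_mv']
    rw [e]
    have hm := utclo_tij_move a b u z'
    have himg : ∀ w ∈ Submodule.span F ({Pi.single a (1 : F), Pi.single b (1 : F)} :
        Set (Fin n → F)), (g : Matrix (Fin n) (Fin n) F) *ᵥ w ∈ Submodule.span F
        ({(g : Matrix (Fin n) (Fin n) F) *ᵥ Pi.single a (1 : F),
          (g : Matrix (Fin n) (Fin n) F) *ᵥ Pi.single b (1 : F)} : Set (Fin n → F)) := by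
      intro w hw
      induction hw using Submodule.span_induction with
      | mem x hx =>
        rcases hx with rfl | hx
        · exact Submodule.subset_span (Set.mem_insert _ _)
        · rw [Set.mem_singleton_iff] at hx
          subst hx
          exact Submodule.subset_span (Set.mem_insert_of_mem _ rfl)
      | zero => rw [Matrix.mulVec_zero]; exact Submodule.zero_mem _
      | add x y _ _ hx hy => rw [Matrix.mulVec_add]; exact Submodule.add_mem _ hx hy
      | smul c x _ hx => rw [Matrix.mulVec_smul]; exact Submodule.smul_mem _ c hx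
    exact himg _ hm
  have hmain := Cfsg.Agent.Lib.helper7.TP.tpmeet_closure_move (Tij i j u) (g * Tij a b u * g⁻¹)
    _ _ (utclo_tij_move i j u) hy h hh v
  rw [← Submodule.span_union] at hmain
  have hset : ({Pi.single i (1 : F), Pi.single j (1 : F)} : Set (Fin n → F)) ∪
      {(g : Matrix (Fin n) (Fin n) F) *ᵥ Pi.single a (1 : F),
        (g : Matrix (Fin n) (Fin n) F) *ᵥ Pi.single b (1 : F)} =
      {Pi.single i (1 : F), Pi.single j (1 : F),
        (g : Matrix (Fin n) (Fin n) F) *ᵥ Pi.single a (1 : F),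
        (g : Matrix (Fin n) (Fin n) F) *ᵥ Pi.single b (1 : F)} := by
    ext x
    simp only [Set.mem_union, Set.mem_insert_iff, Set.mem_singleton_iff]
    tauto
  rw [hset] at hmain
  exact hmain

end Cfsg.Agent.Lib.Helper9.UT
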