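import Cfsg.Agent.Lib.Helper9.UT.Defs

/-! # UT (helper9, S5655 toral case) piece LIGHT : `light` -/

set_option autoImplicit false
set_option linter.unusedSectionVars false

open Cfsg

namespace Cfsg.Agent.Lib.Helper9.UT

open Matrix Cfsg.Agent.Lib.Helper29.ExtrL Cfsg.Agent.Lib.Helper28.UMax

variable {n q : ℕ} {F : Type*} [Field F] [Fintype F] {σ : F ≃+* F}
  {M : Subgroup (Matrix.GeneralLinearGroup (Fin n) F)}

/-- coordinates of a column. -/
theorem utlight_col (g : Matrix (Fin n) (Fin n) F) (a m : Fin n) :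
    (g *ᵥ Pi.single a (1 : F)) m = g m a := by
  rw [Matrix.mulVec_single_one]
  rfl

/-- entries of the inverse of an isometry: `(g⁻¹) a m = σ (g m a)`. -/
theorem utlight_inv_entry (S : UTS n q σ M) {g : Matrix.GeneralLinearGroup (Fin n) F}
    (hg : g ∈ M) (a m : Fin n) :
    ((g⁻¹ : Matrix.GeneralLinearGroup (Fin n) F) : Matrix (Fin n) (Fin n) F) a m =
      σ ((g : Matrix (Fin n) (Fin n) F) m a) := by
  have h1 := herm_single_right S.toUF
    (((g⁻¹ : Matrix.GeneralLinearGroup (Fin n) F) : Matrix (Fin n) (Fin n) F) *ᵥ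
      Pi.single m (1 : F)) a 1
  rw [map_one, mul_one, utlight_col] at h1
  rw [← h1, ← iso_of_mem S hg, Cfsg.Agent.S5643.inv_mv', herm_single_left S.toUF, one_mul,
    utlight_col]

/-- LIGHT. -/
theorem light (S : UTS n q σ M) (hn : 13 ≤ n) (hW1 : W1 M)
    {g : Matrix.GeneralLinearGroup (Fin n) F} (hg : g ∈ M)
    (hgm : ¬ IsMono (g : Matrix (Fin n) (Fin n) F)) {a b : Fin n} (hab : a ≠ b) :
    (∀ α β : F, (α ≠ 0 ∨ β ≠ 0) → ∀ m, ∃ m', m' ≠ m ∧
      (α • ((g : Matrix (Fin n) (Fin n) F) *ᵥ Pi.single a (1 : F)) +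
        β • ((g : Matrix (Fin n) (Fin n) F) *ᵥ Pi.single b (1 : F))) m' ≠ 0) ∧
    (∀ α β α' β' : F, α * β' - α' * β ≠ 0 → ∀ m,
      ¬ ((α • ((g : Matrix (Fin n) (Fin n) F) *ᵥ Pi.single a (1 : F)) +
          β • ((g : Matrix (Fin n) (Fin n) F) *ᵥ Pi.single b (1 : F))) m = 0 ∧
        (α' • ((g : Matrix (Fin n) (Fin n) F) *ᵥ Pi.single a (1 : F)) +
          β' • ((g : Matrix (Fin n) (Fin n) F) *ᵥ Pi.single b (1 : F))) m = 0)) := by
  have hginv : g⁻¹ ∈ M := M.inv_mem hg
  have hginvm : ¬ IsMono ((g⁻¹ : Matrix.GeneralLinearGroup (Fin n) F) :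
      Matrix (Fin n) (Fin n) F) := fun h => hgm ((isMono_inv_iff g).mp h)
  have hW := hW1 g⁻¹ hginv hginvm
  constructor
  · intro α β hαβ m
    by_contra hcon
    push_neg at hcon
    set x : Fin n → F := α • ((g : Matrix (Fin n) (Fin n) F) *ᵥ Pi.single a (1 : F)) +
        β • ((g : Matrix (Fin n) (Fin n) F) *ᵥ Pi.single b (1 : F)) with hx
    -- `x = x m • e_m`
    have hxm : x = x m • Pi.single m (1 : F) := by
      funext l
      by_cases hl : l = m
      · subst hl; simp
      · rw [hcon l hl, Pi.smul_apply, Pi.single_eq_of_ne hl, smul_zero]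
    -- `g⁻¹ x = α e_a + β e_b`
    have h1 : ((g⁻¹ : Matrix.GeneralLinearGroup (Fin n) F) : Matrix (Fin n) (Fin n) F) *ᵥ x =
        α • Pi.single a (1 : F) + β • Pi.single b (1 : F) := by
      rw [hx, Matrix.mulVec_add, Matrix.mulVec_smul, Matrix.mulVec_smul,
        Cfsg.Agent.S5643.inv_mv, Cfsg.Agent.S5643.inv_mv]
    have h2 : ((g⁻¹ : Matrix.GeneralLinearGroup (Fin n) F) : Matrix (Fin n) (Fin n) F) *ᵥ x =
        x m • (((g⁻¹ : Matrix.GeneralLinearGroup (Fin n) F) : Matrix (Fin n) (Fin n) F) *ᵥ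
          Pi.single m (1 : F)) := by
      conv_lhs => rw [hxm]
      rw [Matrix.mulVec_smul]
    have h3 : ∀ i, i ≠ a → i ≠ b →
        x m * ((g⁻¹ : Matrix.GeneralLinearGroup (Fin n) F) : Matrix (Fin n) (Fin n) F) i m = 0 := by
      intro i hia hib
      have := congrFun (h2.symm.trans h1) i
      rw [Pi.smul_apply, utlight_col, smul_eq_mul, Pi.add_apply, Pi.smul_apply, Pi.smul_apply,
        Pi.single_eq_of_ne hia, Pi.single_eq_of_ne hib, smul_zero, smul_zero, add_zero] at this
      exact this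
    by_cases hxm0 : x m = 0
    · -- then `α = β = 0`
      have h4 : α • Pi.single a (1 : F) + β • Pi.single b (1 : F) = (0 : Fin n → F) := by
        rw [← h1, h2, hxm0, zero_smul]
      have ha := congrFun h4 a
      have hb := congrFun h4 b
      rw [Pi.add_apply, Pi.smul_apply, Pi.smul_apply, Pi.single_eq_same,
        Pi.single_eq_of_ne hab, smul_zero, add_zero, smul_eq_mul, mul_one, Pi.zero_apply] at ha
      rw [Pi.add_apply, Pi.smul_apply, Pi.smul_apply, Pi.single_eq_same,
        Pi.single_eq_of_ne (Ne.symm hab), smul_zero, zero_add, smul_eq_mul, mul_one,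
        Pi.zero_apply] at hb
      rcases hαβ with h | h
      · exact h ha
      · exact h hb
    · -- two zeros in column `m` of `g⁻¹`
      have hcard : 1 < ((Finset.univ.erase a).erase b : Finset (Fin n)).card := by
        rw [Finset.card_erase_of_mem (Finset.mem_erase.mpr ⟨Ne.symm hab, Finset.mem_univ _⟩),
          Finset.card_erase_of_mem (Finset.mem_univ _), Finset.card_univ, Fintype.card_fin]
        omega
      obtain ⟨i, hi, j, hj, hij⟩ := Finset.one_lt_card.mp hcard
      have hib : i ≠ b := (Finset.mem_erase.mp hi).1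
      have hia : i ≠ a := (Finset.mem_erase.mp (Finset.mem_erase.mp hi).2).1
      have hjb : j ≠ b := (Finset.mem_erase.mp hj).1
      have hja : j ≠ a := (Finset.mem_erase.mp (Finset.mem_erase.mp hj).2).1
      apply hW m i j hij
      refine ⟨?_, ?_⟩
      · exact (mul_eq_zero.mp (h3 i hia hib)).resolve_left hxm0
      · exact (mul_eq_zero.mp (h3 j hja hjb)).resolve_left hxm0
  · intro α β α' β' hdet m hboth
    obtain ⟨h1, h2⟩ := hboth
    rw [Pi.add_apply, Pi.smul_apply, Pi.smul_apply, utlight_col, utlight_col, smul_eq_mul,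
      smul_eq_mul] at h1 h2
    have hga : (g : Matrix (Fin n) (Fin n) F) m a = 0 := by
      have : (α * β' - α' * β) * (g : Matrix (Fin n) (Fin n) F) m a = 0 := by
        linear_combination β' * h1 - β * h2
      exact (mul_eq_zero.mp this).resolve_left hdet
    have hgb : (g : Matrix (Fin n) (Fin n) F) m b = 0 := by
      have : (α * β' - α' * β) * (g : Matrix (Fin n) (Fin n) F) m b = 0 := by
        linear_combination α * h2 - α' * h1
      exact (mul_eq_zero.mp this).resolve_left hdet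
    apply hW m a b hab
    refine ⟨?_, ?_⟩
    · rw [utlight_inv_entry S hg, hga, map_zero]
    · rw [utlight_inv_entry S hg, hgb, map_zero]

end Cfsg.Agent.Lib.Helper9.UT
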