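import Cfsg.Agent.Lib.Helper9.UT.Defs

/-! # UT (helper9, S5655 toral case) piece MONO : `mono_mem`, `tij_mem`, `tij_mulVec` -/

set_option autoImplicit false
set_option linter.unusedSectionVars false

open Cfsg

namespace Cfsg.Agent.Lib.Helper9.UT

open Matrix Cfsg.Agent.Lib.Helper29.ExtrL Cfsg.Agent.Lib.Helper28.UMax

variable {n q : ℕ} {F : Type*} [Field F] [Fintype F] {σ : F ≃+* F}
  {M : Subgroup (Matrix.GeneralLinearGroup (Fin n) F)}

/-- the monomial matrix with `e_i ↦ d_i e_{π i}`. -/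
def utmono_mat (π : Equiv.Perm (Fin n)) (d : Fin n → F) : Matrix (Fin n) (Fin n) F :=
  (Matrix.diagonal d).submatrix (π⁻¹ : Equiv.Perm (Fin n)) id

theorem utmono_mat_apply (π : Equiv.Perm (Fin n)) (d : Fin n → F) (l i : Fin n) :
    utmono_mat π d l i = if l = π i then d i else 0 := by
  unfold utmono_mat
  rw [Matrix.submatrix_apply, id, Matrix.diagonal_apply]
  by_cases h : l = π i
  · subst h
    have : (π⁻¹ : Equiv.Perm (Fin n)) (π i) = i := by simp
    rw [if_pos this, if_pos rfl, this]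
  · rw [if_neg h, if_neg]
    intro h'
    apply h
    rw [← h']
    simp

theorem utmono_mat_mulVec (π : Equiv.Perm (Fin n)) (d : Fin n → F) (x : Fin n → F) (l : Fin n) :
    (utmono_mat π d *ᵥ x) l = d ((π⁻¹ : Equiv.Perm (Fin n)) l) * x ((π⁻¹ : Equiv.Perm (Fin n)) l) := by
  have : (utmono_mat π d *ᵥ x) l = (Matrix.diagonal d *ᵥ x) ((π⁻¹ : Equiv.Perm (Fin n)) l) := rfl
  rw [this, Matrix.mulVec_diagonal]

theorem utmono_mat_det (π : Equiv.Perm (Fin n)) (d : Fin n → F) :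
    (utmono_mat π d).det = (((Equiv.Perm.sign π : ℤˣ) : ℤ) : F) * ∏ i, d i := by
  unfold utmono_mat
  rw [Matrix.det_permute, Matrix.det_diagonal, Equiv.Perm.sign_inv]

/-- MONO. -/
theorem mono_mem (S : UF n q σ) (π : Equiv.Perm (Fin n)) (d : Fin n → F)
    (hd : ∀ i, d i * σ (d i) = 1)
    (hdet : (((Equiv.Perm.sign π : ℤˣ) : ℤ) : F) * ∏ i, d i = 1) :
    ∃ g : Matrix.GeneralLinearGroup (Fin n) F, g ∈ SUg n F q ∧
      IsMono (g : Matrix (Fin n) (Fin n) F) ∧
      ∀ i, (g : Matrix (Fin n) (Fin n) F) *ᵥ Pi.single i (1 : F) = d i • Pi.single (π i) (1 : F) := by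
  have hdetA : (utmono_mat π d).det = 1 := by rw [utmono_mat_det, hdet]
  refine ⟨Matrix.GeneralLinearGroup.mkOfDetNeZero (utmono_mat π d)
    (by rw [hdetA]; exact one_ne_zero), ?_, ?_, ?_⟩
  · rw [mem_SUg_iff]
    refine ⟨?_, hdetA⟩
    intro x y
    show Cfsg.hermForm n F q (utmono_mat π d *ᵥ x) (utmono_mat π d *ᵥ y) = _
    rw [herm_apply S, herm_apply S]
    rw [← Equiv.sum_comp (π : Equiv.Perm (Fin n))]
    refine Finset.sum_congr rfl fun i _ => ?_
    rw [utmono_mat_mulVec, utmono_mat_mulVec]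
    have : (π⁻¹ : Equiv.Perm (Fin n)) (π i) = i := by simp
    rw [this, map_mul]
    have h1 := hd i
    linear_combination (x i * σ (y i)) * h1
  · intro a
    refine ⟨π a, fun i hi => ?_⟩
    show utmono_mat π d i a = 0
    rw [utmono_mat_apply, if_neg hi]
  · intro i
    show utmono_mat π d *ᵥ Pi.single i (1 : F) = _
    funext l
    rw [Matrix.mulVec_single_one, Pi.smul_apply, smul_eq_mul]
    show utmono_mat π d l i = _
    rw [utmono_mat_apply, Pi.single_apply]
    by_cases h : l = π i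
    · rw [if_pos h, if_pos h, mul_one]
    · rw [if_neg h, if_neg h, mul_zero]

/-- MONO. the action of `Tij i j u`. -/
theorem tij_mulVec {i j : Fin n} (u : Fˣ) (v : Fin n → F) :
    ((Tij i j u : Matrix.GeneralLinearGroup (Fin n) F) : Matrix (Fin n) (Fin n) F) *ᵥ v =
      fun l => (((if l = i then u else if l = j then u⁻¹ else 1 : Fˣ)) : F) * v l := by
  unfold Tij
  rw [dg_val]
  funext l
  rw [Matrix.mulVec_diagonal]

/-- MONO. `Tij i j u = diag(u at i, u⁻¹ at j) ∈ SU` for `u ∈ U`. -/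
theorem tij_mem (S : UF n q σ) {i j : Fin n} (hij : i ≠ j) (u : Fˣ)
    (hu : (u : F) * σ (u : F) = 1) : Tij i j u ∈ SUg n F q := by
  rw [mem_SUg_iff]
  refine ⟨?_, det_Tij hij u⟩
  intro x y
  rw [tij_mulVec, tij_mulVec, herm_apply S, herm_apply S]
  refine Finset.sum_congr rfl fun l _ => ?_
  have hu' : ((u⁻¹ : Fˣ) : F) * σ ((u⁻¹ : Fˣ) : F) = 1 := by
    have h1 : ((u⁻¹ : Fˣ) : F) = (u : F)⁻¹ := by simp
    rw [h1, map_inv₀, ← mul_inv, hu, inv_one]
  have key : ∀ c : Fˣ, (c : F) * σ (c : F) = 1 →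
      (c : F) * x l * σ ((c : F) * y l) = x l * σ (y l) := by
    intro c hc
    rw [map_mul]
    linear_combination (x l * σ (y l)) * hc
  by_cases hli : l = i
  · rw [if_pos hli]; exact key u hu
  · by_cases hlj : l = j
    · rw [if_neg hli, if_pos hlj]; exact key _ hu'
    · rw [if_neg hli, if_neg hlj]
      exact key 1 (by simp)

end Cfsg.Agent.Lib.Helper9.UT
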