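import Cfsg.Agent.Lib.Helper9.UT.Defs
import Cfsg.Agent.Lib.helper8.UTCARD

/-! # UT (helper9, S5655 toral case) piece PIG : `pig` -/

set_option autoImplicit false
set_option linter.unusedSectionVars false

open Cfsg

namespace Cfsg.Agent.Lib.Helper9.UT

open Matrix Cfsg.Agent.Lib.Helper29.ExtrL Cfsg.Agent.Lib.Helper28.UMax

variable {n q : ℕ} {F : Type*} [Field F] [Fintype F] {σ : F ≃+* F}
  {M : Subgroup (Matrix.GeneralLinearGroup (Fin n) F)}

/-- `φ x = 2 - (x + x⁻¹)` has fibres `{x, x⁻¹}`. -/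
theorem utpig_fibre {x y : F} (hx : x ≠ 0) (hy : y ≠ 0)
    (h : 2 - (x + x⁻¹) = 2 - (y + y⁻¹)) : y = x ∨ y = x⁻¹ := by
  have h1 : (y - x) * (x * y - 1) = 0 := by
    have h2 : x + x⁻¹ = y + y⁻¹ := by linear_combination -h
    field_simp at h2
    linear_combination -h2
  rcases mul_eq_zero.mp h1 with h3 | h3
  · left; linear_combination h3
  · right
    field_simp
    linear_combination h3

/-- PIG (`q` odd). -/
theorem pig (S : UF n q σ) (hq : 3 ≤ q) (h2 : (2 : F) ≠ 0) (ν : F) (hν : σ ν = ν) (hν0 : ν ≠ 0)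
    (hν1 : ν ≠ 1) :
    ∃ lam mu : F, lam * σ lam = 1 ∧ mu * σ mu = 1 ∧ lam ≠ 1 ∧ mu ≠ 1 ∧ mu ≠ -1 ∧
      (2 - (lam + lam⁻¹)) * (2 - (mu + mu⁻¹)) * (ν * (1 - ν)) = 4 := by
  classical
  -- the three finite sets
  set U0 : Finset F := Finset.univ.filter fun x : F => x * σ x = 1 with hU0
  set U1 : Finset F := U0.erase 1 with hU1
  set U2 : Finset F := U1.erase (-1) with hU2
  have hU0card : U0.card = q + 1 := by
    have := card_norm_one S
    rw [Nat.card_eq_fintype_card, Fintype.card_subtype] at this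
    exact this
  have h1U0 : (1 : F) ∈ U0 := by
    rw [hU0, Finset.mem_filter]
    exact ⟨Finset.mem_univ _, by rw [map_one, mul_one]⟩
  have hneg : (-1 : F) ≠ 1 := by
    intro h
    apply h2
    linear_combination -h
  have hm1U1 : (-1 : F) ∈ U1 := by
    rw [hU1, Finset.mem_erase]
    refine ⟨hneg, ?_⟩
    rw [hU0, Finset.mem_filter]
    exact ⟨Finset.mem_univ _, by rw [map_neg, map_one]; ring⟩
  have hU1card : U1.card = q := by
    rw [hU1, Finset.card_erase_of_mem h1U0, hU0card]; rfl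
  have hU2card : U2.card = q - 1 := by
    rw [hU2, Finset.card_erase_of_mem hm1U1, hU1card]
  -- facts about elements of `U0`
  have hU0x : ∀ x ∈ U0, x ≠ 0 ∧ σ x = x⁻¹ := by
    intro x hx
    have hx1 : x * σ x = 1 := (Finset.mem_filter.mp hx).2
    have hx0 : x ≠ 0 := by
      rintro rfl
      simp at hx1
    refine ⟨hx0, ?_⟩
    field_simp
    rw [mul_comm]; exact hx1
  set φ : F → F := fun x => 2 - (x + x⁻¹) with hφ
  have hφfix : ∀ x ∈ U0, σ (φ x) = φ x := by
    intro x hx
    obtain ⟨hx0, hσx⟩ := hU0x x hx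
    have h2fix : σ (2 : F) = 2 := map_ofNat σ 2
    rw [hφ]
    simp only
    rw [map_sub, map_add, map_inv₀, hσx, inv_inv, h2fix]
    ring
  have hφne : ∀ x ∈ U1, φ x ≠ 0 := by
    intro x hx
    obtain ⟨hx1, hxU⟩ := Finset.mem_erase.mp hx
    obtain ⟨hx0, -⟩ := hU0x x hxU
    rw [hφ]
    simp only
    intro h0
    apply hx1
    have : (x - 1) ^ 2 = 0 := by
      field_simp at h0
      linear_combination -h0
    have := pow_eq_zero_iff (two_ne_zero) |>.mp this
    linear_combination this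
  -- fibres have at most two elements
  have hfib : ∀ (T : Finset F), T ⊆ U0 → T.card ≤ 2 * (T.image φ).card := by
    intro T hT
    apply Finset.card_le_mul_card_image
    intro b hb
    obtain ⟨x, hxT, rfl⟩ := Finset.mem_image.mp hb
    have hx0 := (hU0x x (hT hxT)).1
    have hsub : (T.filter fun a => φ a = φ x) ⊆ {x, x⁻¹} := by
      intro a ha
      obtain ⟨haT, hae⟩ := Finset.mem_filter.mp ha
      have ha0 := (hU0x a (hT haT)).1
      rcases utpig_fibre hx0 ha0 hae.symm with h | h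
      · rw [h]; exact Finset.mem_insert_self _ _
      · rw [h]; exact Finset.mem_insert_of_mem (Finset.mem_singleton_self _)
    exact (Finset.card_le_card hsub).trans Finset.card_le_two
  have hU1sub : U1 ⊆ U0 := Finset.erase_subset _ _
  have hU2sub : U2 ⊆ U0 := (Finset.erase_subset _ _).trans hU1sub
  have hA := hfib U1 hU1sub
  have hA' := hfib U2 hU2sub
  rw [hU1card] at hA
  rw [hU2card] at hA'
  -- `κ`
  have h4 : (4 : F) ≠ 0 := by
    have : (4 : F) = 2 * 2 := by norm_num
    rw [this]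
    exact mul_ne_zero h2 h2
  have hν1' : 1 - ν ≠ 0 := fun h => hν1 (by linear_combination -h)
  set κ : F := 4 / (ν * (1 - ν)) with hκ
  have hκ0 : κ ≠ 0 := div_ne_zero h4 (mul_ne_zero hν0 hν1')
  have hκfix : σ κ = κ := by
    have h4fix : σ (4 : F) = 4 := map_ofNat σ 4
    rw [hκ, map_div₀, map_mul, map_sub, map_one, hν, h4fix]
  -- the two subsets of `K0ˣ`
  set K0x : Finset F := (Finset.univ.filter fun x : F => σ x = x).erase 0 with hK0x
  have hK0card : K0x.card = q - 1 := by
    have := card_fixed S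
    rw [Nat.card_eq_fintype_card, Fintype.card_subtype] at this
    rw [hK0x, Finset.card_erase_of_mem, this]
    rw [Finset.mem_filter]
    exact ⟨Finset.mem_univ _, map_zero σ⟩
  set A : Finset F := U1.image φ with hAdef
  set A' : Finset F := U2.image φ with hA'def
  set B : Finset F := A'.image (fun s => κ / s) with hBdef
  have hBcard : B.card = A'.card := by
    apply Finset.card_image_of_injective
    intro s s' hss
    simp only at hss
    have : s⁻¹ = s'⁻¹ := by
      rw [div_eq_mul_inv, div_eq_mul_inv] at hss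
      exact mul_left_cancel₀ hκ0 hss
    exact inv_injective this
  have hAsub : A ⊆ K0x := by
    intro a ha
    obtain ⟨x, hx, rfl⟩ := Finset.mem_image.mp ha
    rw [hK0x, Finset.mem_erase, Finset.mem_filter]
    exact ⟨hφne x hx, Finset.mem_univ _, hφfix x (hU1sub hx)⟩
  have hBsub : B ⊆ K0x := by
    intro b hb
    obtain ⟨s, hs, rfl⟩ := Finset.mem_image.mp hb
    obtain ⟨x, hx, rfl⟩ := Finset.mem_image.mp hs
    have hxU1 : x ∈ U1 := Finset.erase_subset _ _ hx
    rw [hK0x, Finset.mem_erase, Finset.mem_filter]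
    refine ⟨div_ne_zero hκ0 (hφne x hxU1), Finset.mem_univ _, ?_⟩
    rw [map_div₀, hκfix, hφfix x (hU1sub hxU1)]
  -- pigeonhole
  have hne : (A ∩ B).Nonempty := by
    by_contra hemp
    rw [Finset.not_nonempty_iff_eq_empty] at hemp
    have hdisj : Disjoint A B := Finset.disjoint_iff_inter_eq_empty.mpr hemp
    have h5 : (A ∪ B).card = A.card + B.card := Finset.card_union_of_disjoint hdisj
    have h6 : (A ∪ B).card ≤ K0x.card := Finset.card_le_card (Finset.union_subset hAsub hBsub)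
    rw [h5, hK0card, hBcard] at h6
    omega
  obtain ⟨a, ha⟩ := hne
  obtain ⟨haA, haB⟩ := Finset.mem_inter.mp ha
  obtain ⟨lam, hlam, hlamφ⟩ := Finset.mem_image.mp haA
  obtain ⟨s, hs, hsκ⟩ := Finset.mem_image.mp haB
  obtain ⟨mu, hmu, rfl⟩ := Finset.mem_image.mp hs
  obtain ⟨hmu1', hmuU1⟩ := Finset.mem_erase.mp hmu
  obtain ⟨hmu1, hmuU0⟩ := Finset.mem_erase.mp hmuU1
  obtain ⟨hlam1, hlamU0⟩ := Finset.mem_erase.mp hlam
  refine ⟨lam, mu, (Finset.mem_filter.mp hlamU0).2, (Finset.mem_filter.mp hmuU0).2, hlam1, hmu1,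
    hmu1', ?_⟩
  have hφmu : φ mu ≠ 0 := hφne mu hmuU1
  have e1 : φ lam = κ / φ mu := by rw [hlamφ, ← hsκ]
  have e2 : φ lam * φ mu * (ν * (1 - ν)) = 4 := by
    rw [e1, hκ]
    field_simp
  exact e2

end Cfsg.Agent.Lib.Helper9.UT
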