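import Cfsg.Agent.Lib.Helper9.UT.Defs
import Cfsg.Agent.Lib.helper8.UTCARD
import Cfsg.Agent.Lib.Helper13.UTMONO

/-! # UT (helper9, S5655 toral case) piece RC2 : `rc_good` -/

set_option autoImplicit false
set_option linter.unusedSectionVars false

open Cfsg

namespace Cfsg.Agent.Lib.Helper9.UT

open Matrix Cfsg.Agent.Lib.Helper29.ExtrL Cfsg.Agent.Lib.Helper28.UMax

variable {n q : ℕ} {F : Type*} [Field F] [Fintype F] {σ : F ≃+* F}
  {M : Subgroup (Matrix.GeneralLinearGroup (Fin n) F)}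

/-- a norm-one element `μ` with `(μ - 1) (μ² - μ + 1) ≠ 0` (`|U| = q + 1 ≥ 4`). -/
theorem utrc2_exists_mu (S : UF n q σ) (hq : 3 ≤ q) :
    ∃ μ : F, μ * σ μ = 1 ∧ (μ - 1) * (μ ^ 2 - μ + 1) ≠ 0 := by
  classical
  have hcard := card_norm_one S
  rw [Nat.card_eq_fintype_card, Fintype.card_subtype] at hcard
  set P : Polynomial F := (Polynomial.X - Polynomial.C 1) *
    (Polynomial.X ^ 2 - Polynomial.X + Polynomial.C 1) with hP
  have hmon : P.Monic := by
    apply Polynomial.Monic.mul (Polynomial.monic_X_sub_C 1)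
    monicity!
  have hP0 : P ≠ 0 := hmon.ne_zero
  have hdeg : P.natDegree ≤ 3 := by
    rw [hP]
    compute_degree
  have hroots : P.roots.toFinset.card ≤ 3 :=
    (Multiset.toFinset_card_le _).trans ((Polynomial.card_roots' P).trans hdeg)
  have hlt : P.roots.toFinset.card < (Finset.univ.filter fun x : F => x * σ x = 1).card := by
    rw [hcard]; omega
  obtain ⟨μ, hμ, hμn⟩ := Finset.exists_mem_notMem_of_card_lt_card hlt
  refine ⟨μ, (Finset.mem_filter.mp hμ).2, ?_⟩
  intro h0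
  apply hμn
  rw [Multiset.mem_toFinset, Polynomial.mem_roots hP0, Polynomial.IsRoot, hP]
  simp only [Polynomial.eval_mul, Polynomial.eval_sub, Polynomial.eval_X, Polynomial.eval_C,
    Polynomial.eval_add, Polynomial.eval_pow]
  exact h0

/-- RC2. -/
theorem rc_good (S : UTS n q σ M) (hq : 3 ≤ q) {k : Fin n} {y : Fin n → F} (hRC : RC n q σ M k y)
    {l l' : Fin n} (hll' : l ≠ l') (hl : y l ≠ 0) (hl' : y l' ≠ 0) :
    ∃ (y' : Fin n → F) (l₁ : Fin n), RC n q σ M k y' ∧ y' l₁ ≠ 0 ∧ y' l₁ * σ (y' l₁) ≠ 1 := by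
  by_cases h1 : y l * σ (y l) = 1
  swap
  · exact ⟨y, l, hRC, hl, h1⟩
  by_cases h1' : y l' * σ (y l') = 1
  swap
  · exact ⟨y, l', hRC, hl', h1'⟩
  obtain ⟨hyy, hyk, hyM⟩ := hRC
  have hlk : l ≠ k := by
    rintro rfl
    exact hl hyk
  have hl'k : l' ≠ k := by
    rintro rfl
    exact hl' hyk
  obtain ⟨μ, hμ, hμP⟩ := utrc2_exists_mu S.toUF hq
  have hμ0 : μ ≠ 0 := by
    rintro rfl
    simp at hμ
  have hσμ : σ μ = μ⁻¹ := by
    field_simp
    rw [mul_comm]; exact hμ
  have hμ1 : μ - 1 ≠ 0 := left_ne_zero_of_mul hμP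
  have hμ2 : μ ^ 2 - μ + 1 ≠ 0 := right_ne_zero_of_mul hμP
  obtain ⟨m, hmM, hm⟩ := hyM μ hμ
  have hmiso := iso_of_mem S hmM
  -- the images of `e_l`, `e_k`
  set y' : Fin n → F := (m : Matrix (Fin n) (Fin n) F) *ᵥ Pi.single l (1 : F) with hy'
  have hy'eq : y' = Pi.single l (1 : F) + ((μ - 1) * σ (y l)) • y := by
    rw [hy', hm, herm_single_left S.toUF, one_mul, Pi.single_eq_of_ne (Ne.symm hlk), mul_zero,
      zero_smul, add_zero]
  have hmk : (m : Matrix (Fin n) (Fin n) F) *ᵥ Pi.single k (1 : F) = μ⁻¹ • Pi.single k (1 : F) := by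
    rw [hm, herm_single_left S.toUF, one_mul, hyk, map_zero, mul_zero, zero_smul, add_zero,
      Pi.single_eq_same, mul_one]
    funext i
    simp only [Pi.add_apply, Pi.smul_apply, smul_eq_mul]
    ring
  -- coordinates of `m⁻¹ v`
  have hcoord : ∀ (v : Fin n → F) (c : Fin n),
      (((m⁻¹ : Matrix.GeneralLinearGroup (Fin n) F) : Matrix (Fin n) (Fin n) F) *ᵥ v) c =
        Cfsg.hermForm n F q v ((m : Matrix (Fin n) (Fin n) F) *ᵥ Pi.single c (1 : F)) := by
    intro v c
    have h2 := herm_single_right S.toUF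
      (((m⁻¹ : Matrix.GeneralLinearGroup (Fin n) F) : Matrix (Fin n) (Fin n) F) *ᵥ v) c 1
    rw [map_one, mul_one] at h2
    rw [← h2, ← hmiso, Cfsg.Agent.S5643.inv_mv']
  refine ⟨y', l', ⟨?_, ?_, ?_⟩, ?_, ?_⟩
  · -- norm one
    rw [hy', hmiso, herm_single_left S.toUF, Pi.single_eq_same, map_one, mul_one]
  · -- `y' k = 0`
    rw [hy'eq, Pi.add_apply, Pi.smul_apply, hyk, smul_zero, add_zero,
      Pi.single_eq_of_ne (Ne.symm hlk)]
  · -- the reflections
    intro x hx
    have hx0 : x ≠ 0 := by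
      rintro rfl
      simp at hx
    have hxu : ((Units.mk0 x hx0 : Fˣ) : F) * σ ((Units.mk0 x hx0 : Fˣ) : F) = 1 := by
      rw [Units.val_mk0]; exact hx
    have hTS : Tij l k (Units.mk0 x hx0) ∈ SUg n F q := tij_mem S.toUF hlk _ hxu
    have hTM : Tij l k (Units.mk0 x hx0) ∈ M := by
      apply S.hN _ hTS
      unfold Tij
      exact isMono_dg _
    refine ⟨m * Tij l k (Units.mk0 x hx0) * m⁻¹, M.mul_mem (M.mul_mem hmM hTM) (M.inv_mem hmM), ?_⟩
    intro v
    set z := ((m⁻¹ : Matrix.GeneralLinearGroup (Fin n) F) : Matrix (Fin n) (Fin n) F) *ᵥ v with hz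
    -- the action of `Tij l k x`
    have hT : ((Tij l k (Units.mk0 x hx0) : Matrix.GeneralLinearGroup (Fin n) F) :
        Matrix (Fin n) (Fin n) F) *ᵥ z =
        z + ((x - 1) * z l) • Pi.single l (1 : F) + ((x⁻¹ - 1) * z k) • Pi.single k (1 : F) := by
      rw [tij_mulVec]
      funext i
      simp only [Pi.add_apply, Pi.smul_apply, smul_eq_mul, Pi.single_apply]
      by_cases hil : i = l
      · subst hil
        rw [if_pos rfl, if_pos rfl, if_neg hlk, Units.val_mk0]
        ring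
      · by_cases hik : i = k
        · subst hik
          rw [if_neg hil, if_pos rfl, if_neg hil, if_pos rfl, Units.val_inv_eq_inv_val,
            Units.val_mk0]
          ring
        · rw [if_neg hil, if_neg hik, if_neg hil, if_neg hik, Units.val_one]
          ring
    rw [Cfsg.Agent.S5643.mul_mv, Cfsg.Agent.S5643.mul_mv, ← hz, hT, Matrix.mulVec_add,
      Matrix.mulVec_add, Matrix.mulVec_smul, Matrix.mulVec_smul, hz,
      Cfsg.Agent.S5643.inv_mv', ← hz, ← hy', hmk]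
    have hzl : z l = Cfsg.hermForm n F q v y' := by rw [hz, hcoord v l]
    have hzk : z k = v k * μ := by
      rw [hz, hcoord v k, hmk, Cfsg.Agent.Lib.Helper28.UForm.f_smul_right S.hU,
        herm_single_right S.toUF, map_one, mul_one, map_inv₀, hσμ, inv_inv, mul_comm]
    rw [hzl, hzk, smul_smul]
    congr 2
    field_simp
  · -- `y' l' ≠ 0`
    rw [hy'eq, Pi.add_apply, Pi.smul_apply, Pi.single_eq_of_ne (Ne.symm hll'), zero_add,
      smul_eq_mul]
    exact mul_ne_zero (mul_ne_zero hμ1 ((map_ne_zero_iff σ σ.injective).mpr hl)) hl'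
  · -- its norm is `2 - μ - μ⁻¹ ≠ 1`
    rw [hy'eq, Pi.add_apply, Pi.smul_apply, Pi.single_eq_of_ne (Ne.symm hll'), zero_add,
      smul_eq_mul]
    intro hcon
    apply hμ2
    have hinv : σ (σ (y l)) = y l := S.hU.involutive _
    have e : (μ - 1) * σ (y l) * y l' * σ ((μ - 1) * σ (y l) * y l') =
        (μ - 1) * (μ⁻¹ - 1) * (y l * σ (y l)) * (y l' * σ (y l')) := by
      rw [map_mul, map_mul, map_sub, map_one, hσμ, hinv]
      ring
    rw [e, h1, h1', mul_one, mul_one] at hcon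
    have : (μ - 1) * (μ⁻¹ - 1) * μ = μ := by rw [hcon, one_mul]
    have h3 : (μ - 1) * (μ⁻¹ - 1) * μ = -(μ ^ 2 - 2 * μ + 1) := by
      field_simp
      ring
    rw [h3] at this
    linear_combination -this

end Cfsg.Agent.Lib.Helper9.UT
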