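import Mathlib
import Cfsg.Prelude.Def_GeometricClasses
import Cfsg.Agent.Lib.Helper27.ASC.Defs
import Cfsg.Agent.Lib.Lead.ASCU.Defs
import Cfsg.Agent.Lib.helper2.UXDefs
import Cfsg.Agent.Lib.Helper28.UHerm
import Cfsg.Agent.Lib.Helper26.ASCUUPR5
import Cfsg.Agent.S5643

/-!
# Project UX (leader helper2), piece PRD (helper13) : `SU_n(q)` stabilises no decomposition into blocks of dimension `≥ 2`

A unitary transvection `T_v` (isotropic centre `v`) in the stabiliser fixes every block (a block of dimension `≥ 2` contains a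
non-zero vector orthogonal to `v`, which is fixed), so `f(x, v) v ∈ D i` for `x ∈ D i`: an isotropic `v` lies in every block
not orthogonal to it.  For a hyperbolic pair `z, z₂` both lie in one block `D i₀`; for `0 ≠ x` in another block,
`v = z₂ + x + c z` with `c + c^q = - f(x, x)` is isotropic and not orthogonal to `z`, so `v ∈ D i₀` and `x ∈ D i₀`.
-/

set_option autoImplicit false
set_option linter.unusedVariables false
set_option linter.unusedSectionVars false

namespace Cfsg.Agent.Lib.helper2.UX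

open Cfsg Cfsg.Geo Cfsg.Agent.Lib.Helper27.ASC Cfsg.Agent.Lib.Lead.ASCU
open scoped MatrixGroups Matrix

variable {n : ℕ} {F : Type*} [Field F] [Fintype F]

/-- the functional `x ↦ f (x, v)` of a unitary form -/
def uxprd_phi {σ : F ≃+* F} {f : (Fin n → F) → (Fin n → F) → F} (hf : IsUnitaryForm σ f) (v : Fin n → F) :
    (Fin n → F) →ₗ[F] F where
  toFun x := f x v
  map_add' x y := hf.add_left x y v
  map_smul' c x := by
    rw [hf.smul_left, RingHom.id_apply, smul_eq_mul]

omit [Fintype F] in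
theorem uxprd_phi_apply {σ : F ≃+* F} {f : (Fin n → F) → (Fin n → F) → F} (hf : IsUnitaryForm σ f)
    (v x : Fin n → F) : uxprd_phi hf v x = f x v := rfl

omit [Fintype F] in
/-- a subspace of dimension at least two contains a non-zero vector orthogonal to `v` -/
theorem uxprd_exists_perp {σ : F ≃+* F} {f : (Fin n → F) → (Fin n → F) → F} (hf : IsUnitaryForm σ f)
    (W : Submodule F (Fin n → F)) (hW : 2 ≤ Module.finrank F W) (v : Fin n → F) :
    ∃ y ∈ W, y ≠ 0 ∧ f y v = 0 := by
  let ψ : W →ₗ[F] F := (uxprd_phi hf v).comp W.subtype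
  have h1 := LinearMap.finrank_range_add_finrank_ker ψ
  have h2 : Module.finrank F (LinearMap.range ψ) ≤ 1 := by
    have := Submodule.finrank_le (LinearMap.range ψ)
    rwa [Module.finrank_self] at this
  have h3 : LinearMap.ker ψ ≠ ⊥ := by
    intro hb
    rw [hb, finrank_bot] at h1
    omega
  obtain ⟨y, hy, hy0⟩ := Submodule.exists_mem_ne_zero_of_ne_bot h3
  refine ⟨(y : Fin n → F), y.2, fun h => hy0 (Subtype.ext h), ?_⟩
  have := LinearMap.mem_ker.mp hy
  exact this

/-- PRD : `SU_n(q)` does not stabilise a decomposition into subspaces of dimension `m ≥ 2`. -/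
theorem upr_dec_gen (q : ℕ) (hF : Fintype.card F = q ^ 2) (hn : 3 ≤ n) {t m : ℕ} (hm : 2 ≤ m)
    (D : Fin t → Submodule F (Fin n → F)) (hD : IsMDecomposition m D) :
    ¬ SUg n F q ≤ decompositionStabilizer D := by
  classical
  intro hle
  obtain ⟨σ, hσ, hf⟩ := Cfsg.Agent.Lib.Helper28.UHerm.herm_unitary hF n
  obtain ⟨ε, hε0, hε⟩ := Cfsg.Agent.Lib.Helper28.UForm.exists_K0 hf
  have hσε : σ ε ≠ 0 := by
    rw [hε]
    exact neg_ne_zero.mpr hε0
  have fsr := Cfsg.Agent.Lib.Helper28.UForm.f_smul_right hf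
  have far := Cfsg.Agent.Lib.Helper28.UForm.f_add_right hf
  -- an isotropic vector lies in every block not orthogonal to it
  have key : ∀ v : Fin n → F, hermForm n F q v v = 0 → ∀ (i : Fin t) (x : Fin n → F), x ∈ D i →
      hermForm n F q x v ≠ 0 → v ∈ D i := by
    intro v hv i x hx hne
    have hvc : hermForm n F q v (ε • v) = 0 := by rw [fsr, hv, mul_zero]
    obtain ⟨g, hgS, hg⟩ := Cfsg.Agent.S5643.tvGL hf v (ε • v) hvc
    have hGU : g ∈ GU n F q := by
      rw [mem_GU_iff]
      intro u w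
      exact Cfsg.Agent.S5643.utv_iso hf v hv ε hε g hg u w
    obtain ⟨π, hπ⟩ := hle ⟨hGU, hgS⟩
    have happ : ∀ y, (g : Matrix (Fin n) (Fin n) F) *ᵥ y = y + (σ ε * hermForm n F q y v) • v := by
      intro y
      rw [hg, fsr]
    have hmap : ∀ j y, y ∈ D j → (g : Matrix (Fin n) (Fin n) F) *ᵥ y ∈ D (π j) := by
      intro j y hy
      rw [← hπ j]
      exact ⟨y, hy, by rw [Matrix.toLin'_apply]⟩
    have hπi : π i = i := by
      by_contra hne'
      obtain ⟨y, hy, hy0, hfy⟩ := uxprd_exists_perp hf (D i) (by rw [hD.finrank_eq i]; exact hm) v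
      have h1 := hmap i y hy
      rw [happ, hfy, mul_zero, zero_smul, add_zero] at h1
      have hdisj : Disjoint (D (π i)) (D i) := hD.indep.pairwiseDisjoint hne'
      exact hy0 ((Submodule.disjoint_def.mp hdisj) y h1 hy)
    have h1 := hmap i x hx
    rw [hπi, happ] at h1
    have h2 : (σ ε * hermForm n F q x v) • v ∈ D i := by
      have := (D i).sub_mem h1 hx
      simpa using this
    have := (D i).smul_mem (σ ε * hermForm n F q x v)⁻¹ h2
    rwa [smul_smul, inv_mul_cancel₀ (mul_ne_zero hσε hne), one_smul] at this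
  -- a hyperbolic pair
  obtain ⟨z, z2, w, hzz, hz2z2, hz2z, -, -, -⟩ := Cfsg.Agent.Lib.Lead.ASCU.ascuupr5_geom q hF hn hf
  have hzz2 : hermForm n F q z z2 = 1 := by
    rw [hf.herm, hz2z, map_one]
  have hz0 : z ≠ 0 := by
    intro h
    rw [h, Cfsg.Agent.Lib.Helper28.UForm.f_zero_right hf] at hz2z
    exact zero_ne_one hz2z
  have hz20 : z2 ≠ 0 := by
    intro h
    rw [h, Cfsg.Agent.Lib.Helper28.UForm.f_zero_left hf] at hz2z
    exact zero_ne_one hz2z
  -- `z` lies in a block
  obtain ⟨i0, hi0⟩ : ∃ i, z ∈ D i := by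
    by_contra hno
    push Not at hno
    have hker : ∀ i, D i ≤ LinearMap.ker (uxprd_phi hf z) := by
      intro i x hx
      by_contra hne
      exact hno i (key z hzz i x hx hne)
    have htop : (⊤ : Submodule F (Fin n → F)) ≤ LinearMap.ker (uxprd_phi hf z) := by
      rw [← hD.iSup_eq_top]
      exact iSup_le hker
    have h0 : uxprd_phi hf z z2 = 0 := LinearMap.mem_ker.mp (htop Submodule.mem_top)
    rw [uxprd_phi_apply, hz2z] at h0
    exact one_ne_zero h0
  have hz2i0 : z2 ∈ D i0 := key z2 hz2z2 i0 z hi0 (by rw [hzz2]; exact one_ne_zero)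
  -- another block
  have ht := hD.two_le
  obtain ⟨j, hj⟩ : ∃ j : Fin t, j ≠ i0 := by
    by_cases h : i0 = ⟨0, by omega⟩
    · refine ⟨⟨1, by omega⟩, ?_⟩
      rw [h]
      intro h'
      have := congrArg Fin.val h'
      simp at this
    · exact ⟨⟨0, by omega⟩, fun h' => h h'.symm⟩
  have hnb : D j ≠ ⊥ := by
    intro hb
    have := hD.finrank_eq j
    rw [hb, finrank_bot] at this
    have := hD.pos
    omega
  obtain ⟨x, hx, hx0⟩ := Submodule.exists_mem_ne_zero_of_ne_bot hnb
  have hdisj : Disjoint (D j) (D i0) := hD.indep.pairwiseDisjoint hj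
  have hxz : hermForm n F q x z = 0 := by
    by_contra hne
    exact hz0 ((Submodule.disjoint_def.mp hdisj) z (key z hzz j x hx hne) hi0)
  have hxz2 : hermForm n F q x z2 = 0 := by
    by_contra hne
    exact hz20 ((Submodule.disjoint_def.mp hdisj) z2 (key z2 hz2z2 j x hx hne) hz2i0)
  have hzx : hermForm n F q z x = 0 := Cfsg.Agent.Lib.Helper28.UForm.f_swap_zero hf hxz
  have hz2x : hermForm n F q z2 x = 0 := Cfsg.Agent.Lib.Helper28.UForm.f_swap_zero hf hxz2
  have ha : σ (- hermForm n F q x x) = - hermForm n F q x x := by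
    rw [map_neg, Cfsg.Agent.Lib.Helper28.UForm.f_self_fixed hf]
  obtain ⟨c, hc⟩ := Cfsg.Agent.Lib.Helper28.UForm.trace_surj hf (- hermForm n F q x x) ha
  set v : Fin n → F := z2 + x + c • z with hv
  have hvv : hermForm n F q v v = 0 := by
    rw [hv]
    simp only [hf.add_left, hf.smul_left, far, fsr, hzz, hz2z2, hz2z, hzz2, hxz, hxz2, hzx, hz2x]
    linear_combination hc
  have hzv : hermForm n F q z v = 1 := by
    rw [hv]
    simp only [far, fsr, hzz, hzz2, hzx]
    ring
  have hvi0 : v ∈ D i0 := key v hvv i0 z hi0 (by rw [hzv]; exact one_ne_zero)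
  have hxi0 : x ∈ D i0 := by
    have e : x = v - z2 - c • z := by
      rw [hv]
      abel
    rw [e]
    exact (D i0).sub_mem ((D i0).sub_mem hvi0 hz2i0) ((D i0).smul_mem c hi0)
  exact hx0 ((Submodule.disjoint_def.mp hdisj) x hx hxi0)

end Cfsg.Agent.Lib.helper2.UX
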