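import Mathlib
import Cfsg.Prelude.Def_GeometricClasses
import Cfsg.Agent.Lib.Helper27.ASC.Defs
import Cfsg.Agent.Lib.Lead.ASCU.Defs
import Cfsg.Agent.Lib.helper2.UXDefs
import Cfsg.Agent.Lib.Helper28.UHerm
import Cfsg.Agent.Lib.Helper28.UPair
import Cfsg.Agent.Lib.Helper28.DecGen
import Cfsg.Agent.S5643

/-!
# Project UX (leader helper2), piece TS4 (helper13) : in `SU_4(q)`, `q ≤ 3`, the stabiliser of a pair of complementary
totally isotropic planes is not maximal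

Hyperbolic basis `b 0, b 1 ∈ D 0`, `c 0, c 1 ∈ D 1`; coordinates `a i x = f x (c i)`, `β i x = f x (b i)`.  The alternating
bilinear form `ω x y = det [a x, a y] - det [β x, β y]`; overgroup `K = SU_4(q) ⊓ similarityGroup ω` (`= (Z ∘ Sp_4(q)).2`).
-/

set_option autoImplicit false
set_option linter.unusedVariables false
set_option linter.unusedSectionVars false

namespace Cfsg.Agent.Lib.helper2.UX

open Cfsg Cfsg.Geo Cfsg.Agent.Lib.Helper27.ASC Cfsg.Agent.Lib.Lead.ASCU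
open scoped MatrixGroups Matrix

section core

variable {F : Type*} [Field F] {σ : F ≃+* F} {f : (Fin 4 → F) → (Fin 4 → F) → F}

/-- a hyperbolic basis adapted to a pair of complementary totally isotropic planes -/
structure UxTs4Data (f : (Fin 4 → F) → (Fin 4 → F) → F) (D : Fin 2 → Submodule F (Fin 4 → F))
    (b c : Fin 2 → (Fin 4 → F)) : Prop where
  hb : ∀ i, b i ∈ D 0
  hc : ∀ i, c i ∈ D 1
  hδ : ∀ i l, f (b i) (c l) = if i = l then 1 else 0
  hE : ∀ x, x = ∑ i, (f x (c i) • b i + f x (b i) • c i)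
  hts : ∀ i, IsTotallySingularFor f (D i)

/-- the alternating bilinear form `det [a x, a y] - det [β x, β y]` -/
def uxts4_om (f : (Fin 4 → F) → (Fin 4 → F) → F) (b c : Fin 2 → (Fin 4 → F)) (x y : Fin 4 → F) : F :=
  f x (c 0) * f y (c 1) - f x (c 1) * f y (c 0) - (f x (b 0) * f y (b 1) - f x (b 1) * f y (b 0))

variable {D : Fin 2 → Submodule F (Fin 4 → F)} {b c : Fin 2 → (Fin 4 → F)}

theorem uxts4_hE2 (dat : UxTs4Data f D b c) (x : Fin 4 → F) :
    x = f x (c 0) • b 0 + f x (b 0) • c 0 + (f x (c 1) • b 1 + f x (b 1) • c 1) := by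
  have := dat.hE x
  rwa [Fin.sum_univ_two] at this

theorem uxts4_cb (hf : IsUnitaryForm σ f) (dat : UxTs4Data f D b c) (i l : Fin 2) :
    f (c i) (b l) = if i = l then 1 else 0 := by
  rw [hf.herm, dat.hδ]
  by_cases hil : i = l
  · rw [if_pos hil, if_pos hil.symm, map_one]
  · rw [if_neg hil, if_neg (Ne.symm hil), map_zero]

theorem uxts4_bb (dat : UxTs4Data f D b c) (i l : Fin 2) : f (b i) (b l) = 0 :=
  dat.hts 0 _ (dat.hb i) _ (dat.hb l)

theorem uxts4_cc (dat : UxTs4Data f D b c) (i l : Fin 2) : f (c i) (c l) = 0 :=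
  dat.hts 1 _ (dat.hc i) _ (dat.hc l)

/-- membership in `D 0` by coordinates -/
theorem uxts4_mem0 (dat : UxTs4Data f D b c) (x : Fin 4 → F) (h : ∀ i, f x (b i) = 0) : x ∈ D 0 := by
  rw [uxts4_hE2 dat x, h 0, h 1, zero_smul, zero_smul, add_zero, add_zero]
  exact (D 0).add_mem ((D 0).smul_mem _ (dat.hb 0)) ((D 0).smul_mem _ (dat.hb 1))

/-- membership in `D 1` by coordinates -/
theorem uxts4_mem1 (dat : UxTs4Data f D b c) (x : Fin 4 → F) (h : ∀ i, f x (c i) = 0) : x ∈ D 1 := by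
  rw [uxts4_hE2 dat x, h 0, h 1, zero_smul, zero_smul, zero_add, zero_add]
  exact (D 1).add_mem ((D 1).smul_mem _ (dat.hc 0)) ((D 1).smul_mem _ (dat.hc 1))

/-- the `a`-coordinates of `g x` for `g` fixing both planes -/
theorem uxts4_coordA (hf : IsUnitaryForm σ f) (dat : UxTs4Data f D b c) (g : Matrix (Fin 4) (Fin 4) F)
    (h1 : ∀ x ∈ D 1, g *ᵥ x ∈ D 1) (x : Fin 4 → F) (i : Fin 2) :
    f (g *ᵥ x) (c i) = f x (c 0) * f (g *ᵥ b 0) (c i) + f x (c 1) * f (g *ᵥ b 1) (c i) := by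
  conv_lhs => rw [uxts4_hE2 dat x]
  simp only [Matrix.mulVec_add, Matrix.mulVec_smul, hf.add_left, hf.smul_left]
  rw [dat.hts 1 _ (h1 _ (dat.hc 0)) _ (dat.hc i), dat.hts 1 _ (h1 _ (dat.hc 1)) _ (dat.hc i)]
  ring

/-- the `β`-coordinates of `g x` for `g` fixing both planes -/
theorem uxts4_coordB (hf : IsUnitaryForm σ f) (dat : UxTs4Data f D b c) (g : Matrix (Fin 4) (Fin 4) F)
    (h0 : ∀ x ∈ D 0, g *ᵥ x ∈ D 0) (x : Fin 4 → F) (i : Fin 2) :
    f (g *ᵥ x) (b i) = f x (b 0) * f (g *ᵥ c 0) (b i) + f x (b 1) * f (g *ᵥ c 1) (b i) := by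
  conv_lhs => rw [uxts4_hE2 dat x]
  simp only [Matrix.mulVec_add, Matrix.mulVec_smul, hf.add_left, hf.smul_left]
  rw [dat.hts 0 _ (h0 _ (dat.hb 0)) _ (dat.hb i), dat.hts 0 _ (h0 _ (dat.hb 1)) _ (dat.hb i)]
  ring

/-- `ω (g x) (g y)` for `g` fixing both planes -/
theorem uxts4_om_fix (hf : IsUnitaryForm σ f) (dat : UxTs4Data f D b c) (g : Matrix (Fin 4) (Fin 4) F)
    (h0 : ∀ x ∈ D 0, g *ᵥ x ∈ D 0) (h1 : ∀ x ∈ D 1, g *ᵥ x ∈ D 1) (x y : Fin 4 → F) :
    uxts4_om f b c (g *ᵥ x) (g *ᵥ y) =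
      (f (g *ᵥ b 0) (c 0) * f (g *ᵥ b 1) (c 1) - f (g *ᵥ b 1) (c 0) * f (g *ᵥ b 0) (c 1)) *
        (f x (c 0) * f y (c 1) - f x (c 1) * f y (c 0)) -
      (f (g *ᵥ c 0) (b 0) * f (g *ᵥ c 1) (b 1) - f (g *ᵥ c 1) (b 0) * f (g *ᵥ c 0) (b 1)) *
        (f x (b 0) * f y (b 1) - f x (b 1) * f y (b 0)) := by
  unfold uxts4_om
  rw [uxts4_coordA hf dat g h1 x 0, uxts4_coordA hf dat g h1 x 1, uxts4_coordA hf dat g h1 y 0,
    uxts4_coordA hf dat g h1 y 1, uxts4_coordB hf dat g h0 x 0, uxts4_coordB hf dat g h0 x 1,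
    uxts4_coordB hf dat g h0 y 0, uxts4_coordB hf dat g h0 y 1]
  ring

/-- unitarity: `det A * σ (det B) = 1` -/
theorem uxts4_unit (hf : IsUnitaryForm σ f) (dat : UxTs4Data f D b c) (g : Matrix (Fin 4) (Fin 4) F)
    (hiso : ∀ x y, f (g *ᵥ x) (g *ᵥ y) = f x y)
    (h0 : ∀ x ∈ D 0, g *ᵥ x ∈ D 0) (h1 : ∀ x ∈ D 1, g *ᵥ x ∈ D 1) :
    (f (g *ᵥ b 0) (c 0) * f (g *ᵥ b 1) (c 1) - f (g *ᵥ b 1) (c 0) * f (g *ᵥ b 0) (c 1)) *
      σ (f (g *ᵥ c 0) (b 0) * f (g *ᵥ c 1) (b 1) - f (g *ᵥ c 1) (b 0) * f (g *ᵥ c 0) (b 1)) = 1 := by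
  -- `f (g b_k) (g c_l) = A_0k σ(B_0l) + A_1k σ(B_1l)`
  have key : ∀ k l : Fin 2, f (g *ᵥ b k) (g *ᵥ c l) =
      f (g *ᵥ b k) (c 0) * σ (f (g *ᵥ c l) (b 0)) + f (g *ᵥ b k) (c 1) * σ (f (g *ᵥ c l) (b 1)) := by
    intro k l
    have hk0 : ∀ i, f (g *ᵥ b k) (b i) = 0 := fun i => dat.hts 0 _ (h0 _ (dat.hb k)) _ (dat.hb i)
    conv_lhs => rw [uxts4_hE2 dat (g *ᵥ b k)]
    rw [hk0 0, hk0 1]
    simp only [hf.add_left, hf.smul_left, zero_mul, add_zero]
    rw [hf.herm (b 0) (g *ᵥ c l), hf.herm (b 1) (g *ᵥ c l)]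
  have e00 := key 0 0
  have e01 := key 0 1
  have e10 := key 1 0
  have e11 := key 1 1
  rw [hiso, dat.hδ] at e00 e01 e10 e11
  simp only [if_true] at e00 e11
  rw [if_neg (by decide)] at e01 e10
  simp only [map_sub, map_mul]
  linear_combination
    (-(f (g *ᵥ b 1) (c 0) * σ (f (g *ᵥ c 1) (b 0)) + f (g *ᵥ b 1) (c 1) * σ (f (g *ᵥ c 1) (b 1)))) * e00 +
    (-1 : F) * e11 +
    (f (g *ᵥ b 1) (c 0) * σ (f (g *ᵥ c 0) (b 0)) + f (g *ᵥ b 1) (c 1) * σ (f (g *ᵥ c 0) (b 1))) * e01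

/-- the coordinate map -/
def uxts4_co (hf : IsUnitaryForm σ f) (b c : Fin 2 → (Fin 4 → F)) : (Fin 4 → F) →ₗ[F] (Fin 2 ⊕ Fin 2 → F) where
  toFun x := Sum.elim (fun i => f x (c i)) (fun i => f x (b i))
  map_add' x y := by
    funext k
    rcases k with i | i
    · simp only [Sum.elim_inl, Pi.add_apply]
      exact hf.add_left x y (c i)
    · simp only [Sum.elim_inr, Pi.add_apply]
      exact hf.add_left x y (b i)
  map_smul' a x := by
    funext k
    rcases k with i | i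
    · simp only [Sum.elim_inl, Pi.smul_apply, RingHom.id_apply, smul_eq_mul]
      exact hf.smul_left a x (c i)
    · simp only [Sum.elim_inr, Pi.smul_apply, RingHom.id_apply, smul_eq_mul]
      exact hf.smul_left a x (b i)

theorem uxts4_co_inl (hf : IsUnitaryForm σ f) (b c : Fin 2 → (Fin 4 → F)) (x : Fin 4 → F) (i : Fin 2) :
    uxts4_co hf b c x (Sum.inl i) = f x (c i) := rfl

theorem uxts4_co_inr (hf : IsUnitaryForm σ f) (b c : Fin 2 → (Fin 4 → F)) (x : Fin 4 → F) (i : Fin 2) :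
    uxts4_co hf b c x (Sum.inr i) = f x (b i) := rfl

theorem uxts4_co_inj (hf : IsUnitaryForm σ f) (dat : UxTs4Data f D b c) :
    Function.Injective (uxts4_co hf b c) := by
  rw [← LinearMap.ker_eq_bot, Submodule.eq_bot_iff]
  intro x hx
  rw [LinearMap.mem_ker] at hx
  have ha : ∀ i, f x (c i) = 0 := fun i => by
    have := congrFun hx (Sum.inl i)
    rwa [uxts4_co_inl] at this
  have hb : ∀ i, f x (b i) = 0 := fun i => by
    have := congrFun hx (Sum.inr i)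
    rwa [uxts4_co_inr] at this
  rw [uxts4_hE2 dat x, ha 0, ha 1, hb 0, hb 1]
  simp

/-- the determinant of an element fixing both planes -/
theorem uxts4_det (hf : IsUnitaryForm σ f) (dat : UxTs4Data f D b c) (g : Matrix (Fin 4) (Fin 4) F)
    (h0 : ∀ x ∈ D 0, g *ᵥ x ∈ D 0) (h1 : ∀ x ∈ D 1, g *ᵥ x ∈ D 1) :
    g.det = (f (g *ᵥ b 0) (c 0) * f (g *ᵥ b 1) (c 1) - f (g *ᵥ b 1) (c 0) * f (g *ᵥ b 0) (c 1)) *
      (f (g *ᵥ c 0) (b 0) * f (g *ᵥ c 1) (b 1) - f (g *ᵥ c 1) (b 0) * f (g *ᵥ c 0) (b 1)) := by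
  classical
  have hdim : Module.finrank F (Fin 4 → F) = Module.finrank F (Fin 2 ⊕ Fin 2 → F) := by
    rw [Module.finrank_fintype_fun_eq_card, Module.finrank_fintype_fun_eq_card]
    simp
  let e : (Fin 4 → F) ≃ₗ[F] (Fin 2 ⊕ Fin 2 → F) :=
    LinearMap.linearEquivOfInjective (uxts4_co hf b c) (uxts4_co_inj hf dat) hdim
  have he : ∀ x, e x = uxts4_co hf b c x := fun x => LinearMap.linearEquivOfInjective_apply _ _ x
  let 𝔟 : Module.Basis (Fin 2 ⊕ Fin 2) F (Fin 4 → F) := Module.Basis.ofEquivFun e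
  have hrepr : ∀ x k, 𝔟.repr x k = uxts4_co hf b c x k := by
    intro x k
    rw [Module.Basis.ofEquivFun_repr_apply, he]
  have hcb := uxts4_cb hf dat
  have hbl : ∀ i, 𝔟 (Sum.inl i) = b i := by
    intro i
    apply e.injective
    rw [Module.Basis.coe_ofEquivFun, LinearEquiv.apply_symm_apply, he]
    funext k
    rcases k with l | l
    · rw [uxts4_co_inl, dat.hδ]
      by_cases hil : i = l
      · subst hil
        simp
      · rw [if_neg hil, Pi.single_apply, if_neg]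
        intro h
        exact hil (Sum.inl.inj h).symm
    · rw [uxts4_co_inr, uxts4_bb dat]
      simp
  have hbr : ∀ i, 𝔟 (Sum.inr i) = c i := by
    intro i
    apply e.injective
    rw [Module.Basis.coe_ofEquivFun, LinearEquiv.apply_symm_apply, he]
    funext k
    rcases k with l | l
    · rw [uxts4_co_inl, uxts4_cc dat]
      simp
    · rw [uxts4_co_inr, hcb]
      by_cases hil : i = l
      · subst hil
        simp
      · rw [if_neg hil, Pi.single_apply, if_neg]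
        intro h
        exact hil (Sum.inr.inj h).symm
  have hM : LinearMap.toMatrix 𝔟 𝔟 (Matrix.toLin' g) =
      Matrix.fromBlocks (Matrix.of fun i k : Fin 2 => f (g *ᵥ b k) (c i)) 0 0
        (Matrix.of fun i k : Fin 2 => f (g *ᵥ c k) (b i)) := by
    ext k l
    rw [LinearMap.toMatrix_apply, hrepr, Matrix.toLin'_apply]
    rcases k with i | i <;> rcases l with j | j
    · rw [hbl, uxts4_co_inl, Matrix.fromBlocks_apply₁₁, Matrix.of_apply]
    · rw [hbr, uxts4_co_inl, Matrix.fromBlocks_apply₁₂, Matrix.zero_apply]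
      exact dat.hts 1 _ (h1 _ (dat.hc j)) _ (dat.hc i)
    · rw [hbl, uxts4_co_inr, Matrix.fromBlocks_apply₂₁, Matrix.zero_apply]
      exact dat.hts 0 _ (h0 _ (dat.hb j)) _ (dat.hb i)
    · rw [hbr, uxts4_co_inr, Matrix.fromBlocks_apply₂₂, Matrix.of_apply]
  have hdet := LinearMap.det_toMatrix 𝔟 (Matrix.toLin' g)
  rw [LinearMap.det_toLin', hM, Matrix.det_fromBlocks_zero₂₁, Matrix.det_fin_two, Matrix.det_fin_two] at hdet
  simp only [Matrix.of_apply] at hdet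
  rw [← hdet]

/-- an isometry of determinant one fixing both planes is a similarity of `ω` (when `σ d = d` forces `d² = 1`) -/
theorem uxts4_fix_sim (hf : IsUnitaryForm σ f) (dat : UxTs4Data f D b c)
    (hsq : ∀ d : F, d ≠ 0 → σ d = d → d * d = 1) (g : GL (Fin 4) F)
    (hiso : ∀ x y, f ((g : Matrix (Fin 4) (Fin 4) F) *ᵥ x) ((g : Matrix (Fin 4) (Fin 4) F) *ᵥ y) = f x y)
    (hdet : (g : Matrix (Fin 4) (Fin 4) F).det = 1)
    (h0 : ∀ x ∈ D 0, (g : Matrix (Fin 4) (Fin 4) F) *ᵥ x ∈ D 0)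
    (h1 : ∀ x ∈ D 1, (g : Matrix (Fin 4) (Fin 4) F) *ᵥ x ∈ D 1) :
    g ∈ similarityGroup (uxts4_om f b c) := by
  set G : Matrix (Fin 4) (Fin 4) F := (g : Matrix (Fin 4) (Fin 4) F) with hG
  set dA : F := f (G *ᵥ b 0) (c 0) * f (G *ᵥ b 1) (c 1) - f (G *ᵥ b 1) (c 0) * f (G *ᵥ b 0) (c 1) with hdA
  set dB : F := f (G *ᵥ c 0) (b 0) * f (G *ᵥ c 1) (b 1) - f (G *ᵥ c 1) (b 0) * f (G *ᵥ c 0) (b 1) with hdB
  have hu : dA * σ dB = 1 := uxts4_unit hf dat G hiso h0 h1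
  have hd : dA * dB = 1 := by
    rw [← hdet]
    exact (uxts4_det hf dat G h0 h1).symm
  have hdA0 : dA ≠ 0 := by
    intro h
    rw [h, zero_mul] at hd
    exact zero_ne_one hd
  have hdB0 : dB ≠ 0 := by
    intro h
    rw [h, mul_zero] at hd
    exact zero_ne_one hd
  have hσB : σ dB = dB := mul_left_cancel₀ hdA0 (hu.trans hd.symm)
  have hBB : dB * dB = 1 := hsq dB hdB0 hσB
  have hAB : dA = dB := by
    calc dA = dA * (dB * dB) := by rw [hBB, mul_one]
      _ = (dA * dB) * dB := by ring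
      _ = dB := by rw [hd, one_mul]
  refine ⟨Units.mk0 dB hdB0, fun x y => ?_⟩
  rw [uxts4_om_fix hf dat G h0 h1 x y, ← hdA, ← hdB, hAB, Units.val_mk0]
  unfold uxts4_om
  ring

open Cfsg.Agent.Lib.Helper28.UForm Cfsg.Agent.Lib.Helper28.UPair in
/-- the Weyl element swapping the two planes is a similarity of `ω` (when `ε⁴ = 1`) -/
theorem uxts4_weyl (hf : IsUnitaryForm σ f) (dat : UxTs4Data f D b c) (ε : F) (hε0 : ε ≠ 0) (hε : σ ε = -ε)
    (hε4 : ε ^ 4 = 1) :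
    ∃ s : GL (Fin 4) F, s ∈ specialLinear (Fin 4) F ∧
      (∀ x y, f ((s : Matrix (Fin 4) (Fin 4) F) *ᵥ x) ((s : Matrix (Fin 4) (Fin 4) F) *ᵥ y) = f x y) ∧
      (∀ x ∈ D 0, (s : Matrix (Fin 4) (Fin 4) F) *ᵥ x ∈ D 1) ∧
      (∀ x ∈ D 1, (s : Matrix (Fin 4) (Fin 4) F) *ᵥ x ∈ D 0) ∧
      s ∈ similarityGroup (uxts4_om f b c) := by
  classical
  obtain ⟨s, hsS, hsiso, hs⟩ := weyl_prod hf ε hε0 hε b c (uxts4_bb dat) (uxts4_cc dat) dat.hδ Finset.univ
  have hcb := uxts4_cb hf dat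
  have hbb := uxts4_bb dat
  have hcc := uxts4_cc dat
  have hA : ∀ x l, f ((s : Matrix (Fin 4) (Fin 4) F) *ᵥ x) (c l) = -ε⁻¹ * f x (b l) := by
    intro x l
    rw [hs, Fin.sum_univ_two]
    unfold NN
    simp only [hf.add_left, hf.smul_left, f_sub_left hf, dat.hδ, hcc, hbb]
    fin_cases l <;> simp <;> ring
  have hB : ∀ x l, f ((s : Matrix (Fin 4) (Fin 4) F) *ᵥ x) (b l) = ε * f x (c l) := by
    intro x l
    rw [hs, Fin.sum_univ_two]
    unfold NN
    simp only [hf.add_left, hf.smul_left, f_sub_left hf, dat.hδ, hcc, hcb, hbb]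
    fin_cases l <;> simp <;> ring
  refine ⟨s, hsS, hsiso, ?_, ?_, ?_⟩
  · intro x hx
    apply uxts4_mem1 dat
    intro i
    rw [hA, dat.hts 0 x hx _ (dat.hb i), mul_zero]
  · intro x hx
    apply uxts4_mem0 dat
    intro i
    rw [hB, dat.hts 1 x hx _ (dat.hc i), mul_zero]
  · have hε2 : ε⁻¹ * ε⁻¹ = ε * ε := by
      have h1 : ε * ε * (ε * ε) = 1 := by rw [← hε4]; ring
      rw [← mul_inv]
      exact inv_eq_of_mul_eq_one_right h1
    refine ⟨Units.mk0 (-(ε * ε)) (neg_ne_zero.mpr (mul_ne_zero hε0 hε0)), fun x y => ?_⟩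
    unfold uxts4_om
    rw [hA, hA, hA, hA, hB, hB, hB, hB, Units.val_mk0]
    linear_combination (f x (b 0) * f y (b 1) - f x (b 1) * f y (b 0)) * hε2

open Cfsg.Agent.Lib.Helper28.UForm in
/-- the unitary transvection with centre `b 0 - c 1` is a similarity of `ω` and does not stabilise the pair of planes -/
theorem uxts4_exists_in (hf : IsUnitaryForm σ f) (dat : UxTs4Data f D b c) (ε : F) (hε0 : ε ≠ 0) (hε : σ ε = -ε) :
    ∃ t : GL (Fin 4) F, t ∈ specialLinear (Fin 4) F ∧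
      (∀ x y, f ((t : Matrix (Fin 4) (Fin 4) F) *ᵥ x) ((t : Matrix (Fin 4) (Fin 4) F) *ᵥ y) = f x y) ∧
      t ∈ similarityGroup (uxts4_om f b c) ∧ t ∉ decompositionStabilizer D := by
  classical
  have hcb := uxts4_cb hf dat
  have hbb := uxts4_bb dat
  have hcc := uxts4_cc dat
  have fsr := f_smul_right hf
  have fsubr := f_sub_right hf
  have b0c0 : f (b 0) (c 0) = 1 := by rw [dat.hδ, if_pos rfl]
  have b0c1 : f (b 0) (c 1) = 0 := by rw [dat.hδ, if_neg (by decide)]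
  have b1c0 : f (b 1) (c 0) = 0 := by rw [dat.hδ, if_neg (by decide)]
  have b1c1 : f (b 1) (c 1) = 1 := by rw [dat.hδ, if_pos rfl]
  have c0b0 : f (c 0) (b 0) = 1 := by rw [hcb, if_pos rfl]
  have c0b1 : f (c 0) (b 1) = 0 := by rw [hcb, if_neg (by decide)]
  have c1b0 : f (c 1) (b 0) = 0 := by rw [hcb, if_neg (by decide)]
  have c1b1 : f (c 1) (b 1) = 1 := by rw [hcb, if_pos rfl]
  set v : Fin 4 → F := b 0 - c 1 with hv
  have hvv : f v v = 0 := by
    rw [hv]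
    simp only [f_sub_left hf, fsubr, hbb, hcc, b0c1, c1b0]
    ring
  have hvc : f v (ε • v) = 0 := by rw [fsr, hvv, mul_zero]
  obtain ⟨t, htS, ht⟩ := Cfsg.Agent.S5643.tvGL hf v (ε • v) hvc
  have htiso := Cfsg.Agent.S5643.utv_iso hf v hvv ε hε t ht
  have hσε : σ ε ≠ 0 := by
    rw [hε]
    exact neg_ne_zero.mpr hε0
  have hvc0 : f v (c 0) = 1 := by rw [hv, f_sub_left hf, b0c0, hcc, sub_zero]
  have hvc1 : f v (c 1) = 0 := by rw [hv, f_sub_left hf, b0c1, hcc, sub_zero]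
  have hvb0 : f v (b 0) = 0 := by rw [hv, f_sub_left hf, hbb, c1b0, sub_zero]
  have hvb1 : f v (b 1) = -1 := by rw [hv, f_sub_left hf, hbb, c1b1, zero_sub]
  have hco : ∀ x w, f ((t : Matrix (Fin 4) (Fin 4) F) *ᵥ x) w = f x w + σ ε * (f x (b 0) - f x (c 1)) * f v w := by
    intro x w
    rw [ht, hf.add_left, hf.smul_left, fsr, hv, fsubr]
  refine ⟨t, htS, htiso, ?_, ?_⟩
  · refine ⟨1, fun x y => ?_⟩
    unfold uxts4_om
    rw [hco x (c 0), hco x (c 1), hco x (b 0), hco x (b 1), hco y (c 0), hco y (c 1), hco y (b 0), hco y (b 1),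
      hvc0, hvc1, hvb0, hvb1, Units.val_one]
    ring
  · rintro ⟨π, hπ⟩
    have hmem : (t : Matrix (Fin 4) (Fin 4) F) *ᵥ b 1 ∈ D (π 0) := by
      rw [← hπ 0]
      exact ⟨b 1, dat.hb 1, by rw [Matrix.toLin'_apply]⟩
    have e1 : f ((t : Matrix (Fin 4) (Fin 4) F) *ᵥ b 1) (c 1) = 1 := by
      rw [hco, hvc1, b1c1, mul_zero, add_zero]
    have e2 : f ((t : Matrix (Fin 4) (Fin 4) F) *ᵥ b 1) (b 1) = σ ε := by
      rw [hco, hvb1, hbb, hbb, b1c1]
      ring
    have h2 : ∀ j : Fin 2, j = 0 ∨ j = 1 := by decide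
    rcases h2 (π 0) with h | h
    · rw [h] at hmem
      rw [dat.hts 0 _ hmem _ (dat.hb 1)] at e2
      exact hσε e2.symm
    · rw [h] at hmem
      rw [dat.hts 1 _ hmem _ (dat.hc 1)] at e1
      exact zero_ne_one e1

open Cfsg.Agent.Lib.Helper28.UForm in
/-- the unitary transvection with centre `b 0` is not a similarity of `ω` -/
theorem uxts4_exists_out (hf : IsUnitaryForm σ f) (dat : UxTs4Data f D b c) (ε : F) (hε0 : ε ≠ 0) (hε : σ ε = -ε) :
    ∃ t : GL (Fin 4) F, t ∈ specialLinear (Fin 4) F ∧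
      (∀ x y, f ((t : Matrix (Fin 4) (Fin 4) F) *ᵥ x) ((t : Matrix (Fin 4) (Fin 4) F) *ᵥ y) = f x y) ∧
      t ∉ similarityGroup (uxts4_om f b c) := by
  classical
  have hcb := uxts4_cb hf dat
  have hbb := uxts4_bb dat
  have hcc := uxts4_cc dat
  have fsr := f_smul_right hf
  have b0c0 : f (b 0) (c 0) = 1 := by rw [dat.hδ, if_pos rfl]
  have b0c1 : f (b 0) (c 1) = 0 := by rw [dat.hδ, if_neg (by decide)]
  have b1c0 : f (b 1) (c 0) = 0 := by rw [dat.hδ, if_neg (by decide)]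
  have b1c1 : f (b 1) (c 1) = 1 := by rw [dat.hδ, if_pos rfl]
  have c0b0 : f (c 0) (b 0) = 1 := by rw [hcb, if_pos rfl]
  have c0b1 : f (c 0) (b 1) = 0 := by rw [hcb, if_neg (by decide)]
  have hvc : f (b 0) (ε • b 0) = 0 := by rw [fsr, hbb, mul_zero]
  obtain ⟨t, htS, ht⟩ := Cfsg.Agent.S5643.tvGL hf (b 0) (ε • b 0) hvc
  have htiso := Cfsg.Agent.S5643.utv_iso hf (b 0) (hbb 0 0) ε hε t ht
  have hσε : σ ε ≠ 0 := by
    rw [hε]
    exact neg_ne_zero.mpr hε0
  have hco : ∀ x w, f ((t : Matrix (Fin 4) (Fin 4) F) *ᵥ x) w = f x w + σ ε * f x (b 0) * f (b 0) w := by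
    intro x w
    rw [ht, hf.add_left, hf.smul_left, fsr]
  refine ⟨t, htS, htiso, ?_⟩
  rintro ⟨cc, hcc'⟩
  have h := hcc' (c 0) (b 1)
  unfold uxts4_om at h
  rw [hco (c 0) (c 0), hco (c 0) (c 1), hco (c 0) (b 0), hco (c 0) (b 1), hco (b 1) (c 0), hco (b 1) (c 1),
    hco (b 1) (b 0), hco (b 1) (b 1)] at h
  simp only [hbb, hcc, b0c0, b0c1, b1c0, b1c1, c0b0, c0b1] at h
  apply hσε
  linear_combination h

end core

variable {n : ℕ} {F : Type*} [Field F] [Fintype F]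

omit [Fintype F] in
theorem uxts4_det_of_mem {g : GL (Fin 4) F} (hg : g ∈ specialLinear (Fin 4) F) :
    (g : Matrix (Fin 4) (Fin 4) F).det = 1 := by
  have h : Matrix.GeneralLinearGroup.det g = 1 := MonoidHom.mem_ker.mp hg
  rw [← Matrix.GeneralLinearGroup.val_det_apply, h]
  rfl

/-- TS4 : in `SU_4(q)`, `q ≤ 3`, the stabiliser of a pair of complementary totally isotropic planes is not maximal. -/
theorem tspair4_small (q : ℕ) (hF : Fintype.card F = q ^ 2) (hq : q ≤ 3) (D : Fin 2 → Submodule F (Fin 4 → F))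
    (hD : IsMDecomposition 2 D) (hts : ∀ i, IsTotallySingularFor (hermForm 4 F q) (D i)) :
    NotMax (SUg 4 F q) (decompositionStabilizer D ⊓ SUg 4 F q) := by
  classical
  obtain ⟨σ, hσ, hf⟩ := Cfsg.Agent.Lib.Helper28.UHerm.herm_unitary hF 4
  have hq2 := Cfsg.Agent.Lib.Helper28.UHerm.two_le_q hF
  obtain ⟨b, c, hb, hc, hδ, hE⟩ := Cfsg.Agent.Lib.Helper28.UPair.dual_basis hf D hD hts
  have dat : UxTs4Data (hermForm 4 F q) D b c := ⟨hb, hc, hδ, hE, hts⟩
  obtain ⟨ε, hε0, hε⟩ := Cfsg.Agent.Lib.Helper28.UForm.exists_K0 hf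
  have hq23 : q = 2 ∨ q = 3 := by omega
  have hsq : ∀ d : F, d ≠ 0 → σ d = d → d * d = 1 := by
    intro d hd0 hd
    rw [hσ] at hd
    rcases hq23 with h | h
    · rw [h] at hd
      have h3 : d * (d - 1) = 0 := by linear_combination hd
      rcases mul_eq_zero.mp h3 with h' | h'
      · exact absurd h' hd0
      · have h4 : d = 1 := by linear_combination h'
        rw [h4, one_mul]
    · rw [h] at hd
      have h3 : d * (d * d - 1) = 0 := by linear_combination hd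
      rcases mul_eq_zero.mp h3 with h' | h'
      · exact absurd h' hd0
      · linear_combination h'
  have hε4 : ε ^ 4 = 1 := by
    have h := hε
    rw [hσ] at h
    rcases hq23 with hq' | hq'
    · rw [hq'] at h
      have h3 : ε * (ε + 1) = 0 := by linear_combination h
      rcases mul_eq_zero.mp h3 with h' | h'
      · exact absurd h' hε0
      · have h4 : ε = -1 := by linear_combination h'
        rw [h4]
        ring
    · rw [hq'] at h
      have h3 : ε * (ε * ε + 1) = 0 := by linear_combination h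
      rcases mul_eq_zero.mp h3 with h' | h'
      · exact absurd h' hε0
      · have h4 : ε * ε = -1 := by linear_combination h'
        calc ε ^ 4 = (ε * ε) * (ε * ε) := by ring
          _ = 1 := by rw [h4]; ring
  have h2 : ∀ j : Fin 2, j = 0 ∨ j = 1 := by decide
  refine ⟨SUg 4 F q ⊓ similarityGroup (uxts4_om (hermForm 4 F q) b c), ?_, ?_⟩
  · rw [SetLike.lt_iff_le_and_exists]
    refine ⟨?_, ?_⟩
    · rintro g ⟨hgD, hgS⟩
      refine ⟨hgS, ?_⟩
      obtain ⟨π, hπ⟩ := hgD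
      have hmap : ∀ j y, y ∈ D j → (g : Matrix (Fin 4) (Fin 4) F) *ᵥ y ∈ D (π j) := by
        intro j y hy
        rw [← hπ j]
        exact ⟨y, hy, by rw [Matrix.toLin'_apply]⟩
      have hiso := (mem_GU_iff q g).1 hgS.1
      have hdet := uxts4_det_of_mem hgS.2
      rcases h2 (π 0) with h00 | h01
      · have h11 : π 1 = 1 := by
          rcases h2 (π 1) with h | h
          · exact absurd (π.injective (h.trans h00.symm)) (by decide)
          · exact h
        exact uxts4_fix_sim hf dat hsq g hiso hdet (fun x hx => h00 ▸ hmap 0 x hx)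
          (fun x hx => h11 ▸ hmap 1 x hx)
      · have h10 : π 1 = 0 := by
          rcases h2 (π 1) with h | h
          · exact h
          · exact absurd (π.injective (h.trans h01.symm)) (by decide)
        obtain ⟨s, hsS, hsiso, hs0, hs1, hssim⟩ := uxts4_weyl hf dat ε hε0 hε hε4
        have hgs : g * s ∈ similarityGroup (uxts4_om (hermForm 4 F q) b c) := by
          apply uxts4_fix_sim hf dat hsq (g * s)
          · intro x y
            rw [Units.val_mul, ← Matrix.mulVec_mulVec, ← Matrix.mulVec_mulVec, hiso, hsiso]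
          · rw [Units.val_mul, Matrix.det_mul, hdet, uxts4_det_of_mem hsS, one_mul]
          · intro x hx
            rw [Units.val_mul, ← Matrix.mulVec_mulVec]
            exact h10 ▸ hmap 1 _ (hs0 x hx)
          · intro x hx
            rw [Units.val_mul, ← Matrix.mulVec_mulVec]
            exact h01 ▸ hmap 0 _ (hs1 x hx)
        have e : g = (g * s) * s⁻¹ := by group
        rw [e]
        exact Subgroup.mul_mem _ hgs (Subgroup.inv_mem _ hssim)
    · obtain ⟨t, htS, htiso, htsim, htD⟩ := uxts4_exists_in hf dat ε hε0 hε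
      exact ⟨t, ⟨⟨(mem_GU_iff q t).2 htiso, htS⟩, htsim⟩, fun h => htD h.1⟩
  · rw [SetLike.lt_iff_le_and_exists]
    refine ⟨inf_le_left, ?_⟩
    obtain ⟨t, htS, htiso, htsim⟩ := uxts4_exists_out hf dat ε hε0 hε
    exact ⟨t, ⟨(mem_GU_iff q t).2 htiso, htS⟩, fun h => htsim h.2⟩

end Cfsg.Agent.Lib.helper2.UX
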