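import Mathlib
import Cfsg.Agent.Lib.Helper27.VF.Defs

set_option autoImplicit false

namespace Cfsg.Agent.Lib.Helper27.VF

section FG
variable {α : Type*}

/-- the reduced word of `(lt x b)⁻¹ * w` -/
theorem h13_toWord_lt_inv_mul [DecidableEq α] (x : α) (b : Bool) (w : FreeGroup α) :
    ((lt x b)⁻¹ * w).toWord =
      match w.toWord with
      | [] => [(x, !b)]
      | hd :: tl => if hd = (x, b) then tl else (x, !b) :: hd :: tl := by
  have h1 : (lt x b)⁻¹ = FreeGroup.mk [(x, !b)] := by
    unfold lt
    rw [FreeGroup.inv_mk]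
    rfl
  have h2 : (lt x b)⁻¹ * w = FreeGroup.mk ((x, !b) :: w.toWord) := by
    conv_lhs => rw [h1, ← FreeGroup.mk_toWord (x := w), FreeGroup.mul_mk]
    rfl
  rw [h2, FreeGroup.toWord_mk, FreeGroup.reduce.cons, FreeGroup.reduce_toWord]
  cases hw : w.toWord with
  | nil => rfl
  | cons hd tl =>
    obtain ⟨y, c⟩ := hd
    simp only [Prod.mk.injEq]
    by_cases hxy : x = y
    · subst hxy
      cases b <;> cases c <;> simp
    · have : ¬ (y = x) := fun h => hxy h.symm
      simp [hxy, this]

/-- `w` starts with the letter `(x,b)` iff the norm drops -/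
theorem h13_first_iff (x : α) (b : Bool) (w : FreeGroup α) :
    nm ((lt x b)⁻¹ * w) + 1 = nm w ↔
      ∃ tl, @FreeGroup.toWord α (Classical.decEq α) w = (x, b) :: tl := by
  letI := Classical.decEq α
  unfold nm FreeGroup.norm
  rw [h13_toWord_lt_inv_mul]
  cases hw : w.toWord with
  | nil => simp
  | cons hd tl =>
    by_cases h : hd = (x, b)
    · subst h
      simp
    · simp only [h, if_false, List.length_cons]
      constructor
      · intro h'; omega
      · rintro ⟨tl', h'⟩
        exact absurd (List.cons.inj h').1 h

/-- `w` does not start with the letter `(x,b)` iff the norm grows -/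
theorem h13_not_first_iff (x : α) (b : Bool) (w : FreeGroup α) :
    nm ((lt x b)⁻¹ * w) = nm w + 1 ↔
      ¬ ∃ tl, @FreeGroup.toWord α (Classical.decEq α) w = (x, b) :: tl := by
  letI := Classical.decEq α
  unfold nm FreeGroup.norm
  rw [h13_toWord_lt_inv_mul]
  cases hw : w.toWord with
  | nil => simp
  | cons hd tl =>
    by_cases h : hd = (x, b)
    · subst h
      simp
      omega
    · simp only [h, if_false, List.length_cons]
      constructor
      · rintro - ⟨tl', h'⟩
        exact absurd (List.cons.inj h').1 h
      · intro _; trivial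

/-- the word of `(lt x b)⁻¹ * w` when `w` starts with `(x,b)` -/
theorem h13_toWord_strip [DecidableEq α] (x : α) (b : Bool) (w : FreeGroup α)
    (tl : List (α × Bool)) (h : w.toWord = (x, b) :: tl) :
    ((lt x b)⁻¹ * w).toWord = tl := by
  rw [h13_toWord_lt_inv_mul, h]
  simp

/-- VF-FGc : tree property (`v` starts with the letter `lt x b`, `u` does not: no cancellation
in `v⁻¹ * u`) -/
theorem nm_inv_mul_of_first (x : α) (b : Bool) (u v : FreeGroup α)
    (hv : nm ((lt x b)⁻¹ * v) + 1 = nm v) (hu : nm ((lt x b)⁻¹ * u) = nm u + 1) :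
    nm (v⁻¹ * u) = nm v + nm u := by
  obtain ⟨tl, htl⟩ := (h13_first_iff x b v).1 hv
  have hnu := (h13_not_first_iff x b u).1 hu
  letI := Classical.decEq α
  unfold nm FreeGroup.norm
  rw [FreeGroup.toWord_mul, FreeGroup.toWord_inv]
  have hred : FreeGroup.IsReduced (FreeGroup.invRev v.toWord ++ u.toWord) := by
    have h1 : FreeGroup.IsReduced (FreeGroup.invRev v.toWord) := by
      rw [← FreeGroup.toWord_inv]; exact FreeGroup.isReduced_toWord
    rw [htl] at h1 ⊢
    have h2 : FreeGroup.invRev ((x, b) :: tl) = FreeGroup.invRev tl ++ [(x, !b)] := by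
      simp [FreeGroup.invRev]
    rw [h2] at h1 ⊢
    have h3 : FreeGroup.IsReduced ([(x, !b)] ++ u.toWord) := by
      have hu' : FreeGroup.IsReduced u.toWord := FreeGroup.isReduced_toWord
      cases hw : u.toWord with
      | nil => simpa using FreeGroup.IsReduced.singleton
      | cons hd tl' =>
        rw [hw] at hu'
        show FreeGroup.IsReduced ((x, !b) :: hd :: tl')
        rw [FreeGroup.isReduced_cons_cons]
        refine ⟨?_, hu'⟩
        intro hx
        obtain ⟨y, c⟩ := hd
        simp only at hx
        subst hx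
        simp only
        by_contra hne
        apply hnu
        refine ⟨tl', ?_⟩
        rw [hw]
        have : c = b := by
          cases b <;> cases c <;> simp_all
        rw [this]
    have := FreeGroup.IsReduced.append_overlap h1 h3 (by simp)
    simpa using this
  rw [hred.reduce_eq, List.length_append, FreeGroup.invRev_length]

end FG

end Cfsg.Agent.Lib.Helper27.VF
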