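import Mathlib
import Cfsg.Agent.Lib.Helper27.VF.Defs
import Cfsg.Agent.Lib.Helper13.VFFGc

set_option autoImplicit false

namespace Cfsg.Agent.Lib.Helper27.VF

section FG
variable {α : Type*}

theorem h13_nm_inv (w : FreeGroup α) : nm w⁻¹ = nm w := by
  letI := Classical.decEq α
  unfold nm
  exact FreeGroup.norm_inv_eq

theorem h13_lt_inv (x : α) (b : Bool) : (lt x b)⁻¹ = lt x (!b) := by
  unfold lt
  rw [FreeGroup.inv_mk]
  rfl

/-- `w` ends with the letter `(y, !c)` iff `w⁻¹` starts with `(y, c)` -/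
theorem h13_last_iff (y : α) (c : Bool) (w : FreeGroup α) :
    nm (w * lt y c) + 1 = nm w ↔ nm ((lt y c)⁻¹ * w⁻¹) + 1 = nm w⁻¹ := by
  have h : (lt y c)⁻¹ * w⁻¹ = (w * lt y c)⁻¹ := by group
  rw [h, h13_nm_inv, h13_nm_inv]

/-- VF-FGd : stripping the first and the last letter -/
theorem nm_strip (x y : α) (b c : Bool) (w : FreeGroup α)
    (h1 : nm ((lt x b)⁻¹ * w) + 1 = nm w) (h2 : nm (w * lt y c) + 1 = nm w)
    (h3 : 2 ≤ nm w) : nm ((lt x b)⁻¹ * w * lt y c) + 2 = nm w := by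
  obtain ⟨tl, htl⟩ := (h13_first_iff x b w).1 h1
  obtain ⟨tl2, htl2⟩ := (h13_first_iff y c w⁻¹).1 ((h13_last_iff y c w).1 h2)
  letI := Classical.decEq α
  -- the word of `w1 = (lt x b)⁻¹ * w` is `tl`
  have hw1 : ((lt x b)⁻¹ * w).toWord = tl := h13_toWord_strip x b w tl htl
  have hlen : nm w = tl.length + 1 := by
    unfold nm FreeGroup.norm
    rw [htl]; rfl
  have htlne : tl ≠ [] := by
    intro h
    rw [h] at hlen
    simp at hlen
    omega
  -- the word of `w1⁻¹` starts with `(y,c)`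
  have hw1inv : ∃ tl3, ((lt x b)⁻¹ * w)⁻¹.toWord = (y, c) :: tl3 := by
    rw [FreeGroup.toWord_inv, hw1]
    rw [FreeGroup.toWord_inv, htl] at htl2
    have h2' : FreeGroup.invRev ((x, b) :: tl) = FreeGroup.invRev tl ++ [(x, !b)] := by
      simp [FreeGroup.invRev]
    rw [h2'] at htl2
    cases hr : FreeGroup.invRev tl with
    | nil =>
      exfalso
      apply htlne
      have : (FreeGroup.invRev tl).length = 0 := by rw [hr]; rfl
      rw [FreeGroup.invRev_length] at this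
      exact List.length_eq_zero_iff.1 this
    | cons hd tl3 =>
      rw [hr] at htl2
      simp only [List.cons_append, List.cons.injEq] at htl2
      exact ⟨tl3, by rw [htl2.1]⟩
  have h4 : nm ((lt y c)⁻¹ * ((lt x b)⁻¹ * w)⁻¹) + 1 = nm ((lt x b)⁻¹ * w)⁻¹ :=
    (h13_first_iff y c _).2 hw1inv
  have h5 : nm ((lt x b)⁻¹ * w * lt y c) + 1 = nm ((lt x b)⁻¹ * w) :=
    (h13_last_iff y c _).2 h4
  omega

end FG

end Cfsg.Agent.Lib.Helper27.VF
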