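import Mathlib
import Cfsg.Agent.Lib.Helper27.VF.Defs
import Cfsg.Agent.Lib.Helper27.VF.FGa
import Cfsg.Agent.Lib.Helper27.VF.LFT
import Cfsg.Agent.Lib.Helper13.VFFGd
import Cfsg.Agent.Lib.helper6.VFT4a

set_option autoImplicit false

namespace Cfsg.Agent.Lib.Helper27.VF

universe u
variable {T : Type u} [Group T]

/-- the left component of a conjugate -/
theorem h13_conj_left (D : Datum T) (τ k : D.G₀) :
    (τ⁻¹ * k * τ).left = D.act τ.right⁻¹ (τ.left⁻¹ * k.left * D.act k.right τ.left) := by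
  simp only [SemidirectProduct.mul_left, SemidirectProduct.inv_left, SemidirectProduct.mul_right,
    SemidirectProduct.inv_right, map_mul, map_inv]
  rw [mul_assoc, mul_assoc]
  rfl

/-- the length of a conjugate by an element whose left component is a letter -/
theorem h13_len_conj (D : Datum T) (τ k : D.G₀) (x : D.X) (b : Bool) (hτ : τ.left = lt x b) :
    D.len (τ⁻¹ * k * τ) = nm ((lt x b)⁻¹ * k.left * lt (k.right • x) b) := by
  unfold Datum.len
  rw [h13_conj_left, nm_act, hτ, act_lt]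

/-- a product of two elements with trivial left component has trivial left component -/
theorem h13_left_mul_one (D : Datum T) (g h : D.G₀) (hg : g.left = 1) (hh : h.left = 1) :
    (g * h).left = 1 := by
  rw [SemidirectProduct.mul_left, hg, hh, map_one, one_mul]

/-- VF-T4b : the conjugation step -/
theorem conj_step (D : Datum T) (H : Subgroup D.G₀) (L : ℕ) (hL : ∀ k ∈ H, D.len k ≤ L + 1)
    (h₀ : D.G₀) (hh₀ : h₀ ∈ H) (hlen : D.len h₀ = L + 1) (x : D.X) (b : Bool)
    (hx : nm ((lt x b)⁻¹ * h₀.left) + 1 = nm h₀.left) (τ : D.G₀) (hτ : τ.left = lt x b) :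
    ∀ k ∈ H, D.len (τ⁻¹ * k * τ) ≤ L := by
  have hmax : ∀ k ∈ H, D.len k ≤ D.len h₀ := fun k hk => by rw [hlen]; exact hL k hk
  have hh₀1 : h₀.left ≠ 1 := by
    intro h
    have : D.len h₀ = 0 := by unfold Datum.len; rw [h, nm_one]
    omega
  have hh₀2 := (common_first D H h₀ hh₀ hmax x b hx h₀ hh₀ hh₀1).2.2
  have hL1 : 1 ≤ L := by
    have : nm h₀.left = L + 1 := hlen
    omega
  -- the case of a nontrivial left component
  have hne : ∀ k ∈ H, k.left ≠ 1 → D.len (τ⁻¹ * k * τ) + 2 = nm k.left := by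
    intro k hk hk1
    obtain ⟨h1, h2, h3⟩ := common_first D H h₀ hh₀ hmax x b hx k hk hk1
    rw [h13_len_conj D τ k x b hτ]
    exact nm_strip x (k.right • x) b b k.left h1 h2 h3
  intro k hk
  by_cases hk1 : k.left = 1
  · by_cases hL2 : 2 ≤ L
    · rw [h13_len_conj D τ k x b hτ, hk1, mul_one]
      calc nm ((lt x b)⁻¹ * lt (k.right • x) b)
          ≤ nm (lt x b)⁻¹ + nm (lt (k.right • x) b) := nm_mul_le _ _
        _ = 2 := by rw [nm_inv, nm_lt, nm_lt]
        _ ≤ L := hL2
    · -- `L = 1`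
      have hLeq : L = 1 := by omega
      subst hLeq
      -- `k = (k * h₀) * h₀⁻¹`
      have hkh : (k * h₀).left ≠ 1 := by
        rw [SemidirectProduct.mul_left, hk1, one_mul]
        intro h
        apply hh₀1
        have := congrArg (D.act k.right)⁻¹ h
        simpa using this
      have hh₀inv : (h₀⁻¹).left ≠ 1 := by
        rw [SemidirectProduct.inv_left]
        intro h
        apply hh₀1
        have := congrArg (D.act h₀.right⁻¹)⁻¹ h
        simpa using this
      have hkhH : k * h₀ ∈ H := H.mul_mem hk hh₀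
      have hinvH : h₀⁻¹ ∈ H := H.inv_mem hh₀
      have e1 := hne (k * h₀) hkhH hkh
      have e2 := hne h₀⁻¹ hinvH hh₀inv
      have b1 : nm (k * h₀).left ≤ 2 := hL (k * h₀) hkhH
      have b2 : nm (h₀⁻¹).left ≤ 2 := hL h₀⁻¹ hinvH
      have z1 : (τ⁻¹ * (k * h₀) * τ).left = 1 := by
        apply nm_eq_zero.1
        have : D.len (τ⁻¹ * (k * h₀) * τ) = 0 := by omega
        exact this
      have z2 : (τ⁻¹ * h₀⁻¹ * τ).left = 1 := by
        apply nm_eq_zero.1
        have : D.len (τ⁻¹ * h₀⁻¹ * τ) = 0 := by omega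
        exact this
      have hprod : τ⁻¹ * k * τ = (τ⁻¹ * (k * h₀) * τ) * (τ⁻¹ * h₀⁻¹ * τ) := by group
      have : (τ⁻¹ * k * τ).left = 1 := by
        rw [hprod]; exact h13_left_mul_one D _ _ z1 z2
      unfold Datum.len
      rw [this, nm_one]
      omega
  · have e := hne k hk hk1
    have b1 : nm k.left ≤ L + 1 := hL k hk
    omega

end Cfsg.Agent.Lib.Helper27.VF
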