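import Mathlib
import Cfsg.Agent.Lib.Helper27.VF.Defs
import Cfsg.Agent.Lib.Helper27.VF.FGa
import Cfsg.Agent.Lib.Helper27.VF.LFT
import Cfsg.Agent.Lib.Helper13.VFT4b
import Cfsg.Agent.Lib.Helper27.VF.NF

set_option autoImplicit false

namespace Cfsg.Agent.Lib.Helper27.VF

universe u
variable {T : Type u} [Group T]

/-- the bounded version of T4, by induction on the bound -/
theorem h13_finite_conj_aux (D : Datum T) (L : ℕ) :
    ∀ H : Subgroup D.G₀, H ≤ D.G → (∀ k ∈ H, D.len k ≤ L) →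
      ∃ g ∈ D.G, ∀ h ∈ H, g * h * g⁻¹ ∈ D.ι₀.range := by
  induction L with
  | zero =>
    intro H hH hb
    refine ⟨1, D.G.one_mem, ?_⟩
    intro h hh
    rw [one_mul, inv_one, mul_one]
    exact mem_range_of_len_zero D h (hH hh) (Nat.le_zero.1 (hb h hh))
  | succ L ih =>
    intro H hH hb
    by_cases hall : ∀ k ∈ H, D.len k ≤ L
    · exact ih H hH hall
    · push_neg at hall
      obtain ⟨h₀, hh₀, hlt⟩ := hall
      have hlen : D.len h₀ = L + 1 := le_antisymm (hb h₀ hh₀) hlt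
      have hne : h₀.left ≠ 1 := by
        intro h
        have : D.len h₀ = 0 := by unfold Datum.len; rw [h, nm_one]
        omega
      obtain ⟨x, b, w', hw, hnw⟩ := exists_first h₀.left hne
      have hx : nm ((lt x b)⁻¹ * h₀.left) + 1 = nm h₀.left := by
        rw [hnw, hw, inv_mul_cancel_left]
      obtain ⟨τ, hτG, hτ⟩ := exists_tau D h₀ (hH hh₀) x b hx
      have hstep := conj_step D H L hb h₀ hh₀ hlen x b hx τ hτ
      -- the conjugate subgroup
      let H' : Subgroup D.G₀ := H.map (MulAut.conj τ⁻¹).toMonoidHom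
      have hH' : H' ≤ D.G := by
        rintro _ ⟨k, hk, rfl⟩
        show τ⁻¹ * k * τ⁻¹⁻¹ ∈ D.G
        exact D.G.mul_mem (D.G.mul_mem (D.G.inv_mem hτG) (hH hk)) (D.G.inv_mem (D.G.inv_mem hτG))
      have hb' : ∀ k ∈ H', D.len k ≤ L := by
        rintro _ ⟨k, hk, rfl⟩
        show D.len (τ⁻¹ * k * τ⁻¹⁻¹) ≤ L
        rw [inv_inv]
        exact hstep k hk
      obtain ⟨g', hg'G, hg'⟩ := ih H' hH' hb'
      refine ⟨g' * τ⁻¹, D.G.mul_mem hg'G (D.G.inv_mem hτG), ?_⟩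
      intro h hh
      have hmem : τ⁻¹ * h * τ⁻¹⁻¹ ∈ H' := ⟨h, hh, rfl⟩
      have := hg' _ hmem
      have e : g' * τ⁻¹ * h * (g' * τ⁻¹)⁻¹ = g' * (τ⁻¹ * h * τ⁻¹⁻¹) * g'⁻¹ := by group
      rw [e]
      exact this

/-- VF-T4 -/
theorem finite_conj (D : Datum T) (H : Subgroup D.G₀) (hH : H ≤ D.G) [Finite H] :
    ∃ g ∈ D.G, ∀ h ∈ H, g * h * g⁻¹ ∈ D.ι₀.range := by
  classical
  haveI : Fintype H := Fintype.ofFinite H
  let L : ℕ := Finset.univ.sup (fun k : H => D.len (k : D.G₀))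
  apply h13_finite_conj_aux D L H hH
  intro k hk
  exact Finset.le_sup (f := fun k : H => D.len (k : D.G₀)) (Finset.mem_univ (⟨k, hk⟩ : H))

end Cfsg.Agent.Lib.Helper27.VF
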