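import Mathlib
import Cfsg.Agent.Lib.Lead.W2P.Defs
import Cfsg.Agent.Lib.helper2.CharNat
import Cfsg.Agent.Lib.helper2.CharInd
import Cfsg.Agent.Lib.Helper25.CharOrth
import Cfsg.Agent.Lib.helper6.W2PPISING
import Cfsg.Agent.Lib.Helper28.W2PMPNAT

/-!
# Project W2P (S0720), common lemmas for the pieces CHIP and RESTDEC (helper13)
-/

set_option autoImplicit false
set_option linter.unusedVariables false
set_option linter.unusedSectionVars false
open scoped ComplexConjugate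
open Classical

namespace Cfsg.Agent.Lib.Lead.W2P

open MulAction Cfsg.Agent.Lib.helper6.PermChar Cfsg.Agent.Lib.Helper25

universe u v

section D

variable {G : Type u} [Group G] [Fintype G] {Ω : Type v} [Fintype Ω] [DecidableEq Ω] [MulAction G Ω]
  {p : ℕ} [Fact p.Prime] {P : Sylow p G}

/-- the non-trivial elements of `P` have order `p`. -/
theorem w2pchip_orderOf (S : Setting G Ω p P) {x : G} (hx : x ∈ (P : Subgroup G)) (hx1 : x ≠ 1) :
    orderOf x = p := by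
  have h1 : orderOf x ∣ p := by
    rw [← S.cardP]
    exact Subgroup.orderOf_dvd_natCard _ hx
  rcases (Nat.dvd_prime (Fact.out : p.Prime)).1 h1 with h | h
  · exact absurd (orderOf_eq_one_iff.1 h) hx1
  · exact h

/-- `π` vanishes on `P ∖ 1`. -/
theorem w2pchip_pi_P (S : Setting G Ω p P) {x : G} (hx : x ∈ (P : Subgroup G)) (hx1 : x ≠ 1) :
    piChar G Ω x = 0 :=
  pi_sing S.fpf x (by rw [w2pchip_orderOf S hx hx1])

/-- `π(1) = 2p`. -/
theorem w2pchip_pi_one (S : Setting G Ω p P) : piChar G Ω (1 : G) = ((2 * p : ℕ) : ℂ) := by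
  unfold piChar
  rw [MulAction.fixedBy_one_eq_univ, Nat.card_congr (Equiv.Set.univ Ω), Nat.card_eq_fintype_card,
    S.card]

/-- the constant function `1` is a linear character of `P`. -/
theorem w2pchip_triv (Q : Subgroup G) : IsPChar Q (fun _ : G => (1 : ℂ)) :=
  ⟨rfl, fun _ _ _ _ => by simp⟩

/-- a sum over `P` of a function vanishing on `P ∖ 1`. -/
theorem w2pchip_sum_single (Q : Subgroup G) (f : G → ℂ) (hf : ∀ x ∈ Q, x ≠ 1 → f x = 0) :
    ∑ x : ↥Q, f (x : G) = f 1 := by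
  rw [Finset.sum_eq_single (1 : ↥Q)]
  · rfl
  · intro x _ hx
    exact hf x x.2 (fun e => hx (Subtype.ext e))
  · intro h
    exact absurd (Finset.mem_univ _) h

/-- `∑_{x ∈ P} π(x) conj φ(x) = 2p`. -/
theorem w2pchip_sum_pi (S : Setting G Ω p P) {φ : G → ℂ} (hφ : IsPChar (P : Subgroup G) φ) :
    ∑ x : ↥(P : Subgroup G), piChar G Ω (x : G) * conj (φ (x : G)) = ((2 * p : ℕ) : ℂ) := by
  rw [w2pchip_sum_single (P : Subgroup G) (fun x => piChar G Ω x * conj (φ x))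
    (fun x hx hx1 => by rw [w2pchip_pi_P S hx hx1, zero_mul])]
  rw [w2pchip_pi_one S, hφ.one, map_one, mul_one]

/-- the sum of a non-trivial linear character of `P` over `P` vanishes. -/
theorem w2pchip_sum_pchar {Q : Subgroup G} {φ : G → ℂ} (hφ : IsPChar Q φ)
    (hnt : ∃ x ∈ Q, φ x ≠ 1) : ∑ x : ↥Q, φ (x : G) = 0 := by
  obtain ⟨y, hy, hy1⟩ := hnt
  have h1 : ∑ x : ↥Q, φ (x : G) = φ y * ∑ x : ↥Q, φ (x : G) := by
    rw [Finset.mul_sum]
    rw [← Equiv.sum_comp (Equiv.mulLeft (⟨y, hy⟩ : ↥Q))]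
    refine Finset.sum_congr rfl fun x _ => ?_
    rw [Equiv.coe_mulLeft, Subgroup.coe_mul, hφ.mul y hy x x.2]
  have h2 : (1 - φ y) * ∑ x : ↥Q, φ (x : G) = 0 := by
    rw [sub_mul, one_mul, ← h1, sub_self]
  rcases mul_eq_zero.1 h2 with h | h
  · exact absurd (sub_eq_zero.1 h).symm hy1
  · exact h

/-- the key identity: `∑_χ m_χ b_χ = 2` for the multiplicities `b_χ` of `φ` in `χ|_P`. -/
theorem w2pchip_key [Fintype (Cfsg.IrrCharacter G)] (S : Setting G Ω p P)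
    (m : Cfsg.IrrCharacter G → ℕ)
    (hexp : piChar G Ω = ∑ χ : Cfsg.IrrCharacter G, (m χ : ℂ) • (χ : G → ℂ))
    {φ : G → ℂ} (hφ : IsPChar (P : Subgroup G) φ) :
    ∃ b : Cfsg.IrrCharacter G → ℕ,
      (∀ χ : Cfsg.IrrCharacter G,
        ∑ x : ↥(P : Subgroup G), (χ : G → ℂ) (x : G) * conj (φ (x : G)) = (p : ℂ) * (b χ : ℂ)) ∧
      ∑ χ : Cfsg.IrrCharacter G, m χ * b χ = 2 := by
  have hp : (p : ℂ) ≠ 0 := by exact_mod_cast (Fact.out : p.Prime).ne_zero
  choose b hb using fun χ : Cfsg.IrrCharacter G =>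
    mP_nat (P := (P : Subgroup G)) S.cardP (Cfsg.Agent.Lib.helper2.isCharacter_of_irr χ) hφ
  refine ⟨b, hb, ?_⟩
  have h1 := w2pchip_sum_pi S hφ
  have h2 : ∑ x : ↥(P : Subgroup G), piChar G Ω (x : G) * conj (φ (x : G)) =
      ∑ χ : Cfsg.IrrCharacter G, (m χ : ℂ) * ((p : ℂ) * (b χ : ℂ)) := by
    have h3 : ∀ x : G, piChar G Ω x = ∑ χ : Cfsg.IrrCharacter G, (m χ : ℂ) * (χ : G → ℂ) x := by
      intro x
      conv_lhs => rw [hexp]
      rw [Finset.sum_apply]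
      refine Finset.sum_congr rfl fun χ _ => ?_
      rw [Pi.smul_apply, smul_eq_mul]
    simp_rw [h3, Finset.sum_mul]
    rw [Finset.sum_comm]
    refine Finset.sum_congr rfl fun χ _ => ?_
    rw [← hb χ, Finset.mul_sum]
    refine Finset.sum_congr rfl fun x _ => ?_
    ring
  rw [h2] at h1
  have h4 : (p : ℂ) * ((∑ χ : Cfsg.IrrCharacter G, m χ * b χ : ℕ) : ℂ) = (p : ℂ) * ((2 : ℕ) : ℂ) := by
    push_cast
    rw [Finset.mul_sum]
    push_cast at h1
    rw [mul_comm (p : ℂ) 2, ← h1]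
    refine Finset.sum_congr rfl fun χ _ => ?_
    ring
  exact_mod_cast mul_left_cancel₀ hp h4

/-- `⟨π, π⟩ = ∑ m²`. -/
theorem w2pchip_norm [Fintype (Cfsg.IrrCharacter G)]
    (m : Cfsg.IrrCharacter G → ℕ)
    (hm : ∀ χ : Cfsg.IrrCharacter G, Cfsg.classInner (piChar G Ω) (χ : G → ℂ) = (m χ : ℂ))
    (hexp : piChar G Ω = ∑ χ : Cfsg.IrrCharacter G, (m χ : ℂ) • (χ : G → ℂ)) :
    Cfsg.classInner (piChar G Ω) (piChar G Ω) =
      ((∑ χ : Cfsg.IrrCharacter G, m χ * m χ : ℕ) : ℂ) := by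
  conv_lhs => rw [hexp]
  rw [classInner_sum_left]
  push_cast
  refine Finset.sum_congr rfl fun χ _ => ?_
  rw [classInner_smul_left,
    Cfsg.Agent.Lib.helper2.classInner_symm_of_nat _ _ (m χ) (by rw [← hexp]; exact hm χ)]

/-- a sum of natural numbers equal to `1` has exactly one non-zero term. -/
theorem w2pchip_sum_eq_one {ι : Type*} (s : Finset ι) (f : ι → ℕ) (h : ∑ i ∈ s, f i = 1) :
    ∃ i ∈ s, f i = 1 ∧ ∀ j ∈ s, j ≠ i → f j = 0 := by
  have hne : ∃ i ∈ s, f i ≠ 0 := by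
    by_contra hcon
    push Not at hcon
    rw [Finset.sum_eq_zero hcon] at h
    omega
  obtain ⟨i, hi, hfi⟩ := hne
  have h1 := Finset.add_sum_erase s f hi
  refine ⟨i, hi, by omega, ?_⟩
  intro j hj hji
  have h2 : f j ≤ ∑ k ∈ s.erase i, f k :=
    Finset.single_le_sum (fun _ _ => Nat.zero_le _) (Finset.mem_erase.2 ⟨hji, hj⟩)
  omega

end D


section D2

variable {G : Type u} [Group G] [Fintype G] {Ω : Type v} [Fintype Ω] [DecidableEq Ω] [MulAction G Ω]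
  {p : ℕ} [Fact p.Prime] {P : Sylow p G}

/-- a sum over `Q` of `f g` where `f` is constant on `Q ∖ 1`. -/
theorem w2pchip_sum_typeB (Q : Subgroup G) (f g : G → ℂ) (c : ℂ)
    (hf : ∀ x ∈ Q, x ≠ 1 → f x = c) :
    ∑ x : ↥Q, f (x : G) * g (x : G) = f 1 * g 1 + c * (∑ x : ↥Q, g (x : G) - g 1) := by
  have h1 := Finset.add_sum_erase Finset.univ (fun x : ↥Q => f (x : G) * g (x : G))
    (Finset.mem_univ (1 : ↥Q))
  have h2 := Finset.add_sum_erase Finset.univ (fun x : ↥Q => g (x : G)) (Finset.mem_univ (1 : ↥Q))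
  have h3 : ∑ x ∈ Finset.univ.erase (1 : ↥Q), f (x : G) * g (x : G) =
      c * ∑ x ∈ Finset.univ.erase (1 : ↥Q), g (x : G) := by
    rw [Finset.mul_sum]
    refine Finset.sum_congr rfl fun x hx => ?_
    rw [hf x x.2 (fun e => (Finset.mem_erase.1 hx).1 (Subtype.ext e))]
  simp only [Subgroup.coe_one] at h1 h2
  rw [← h1, h3, ← h2]
  ring

/-- `∑_{x ∈ P} 1 = p`. -/
theorem w2pchip_sum_one (S : Setting G Ω p P) :
    ∑ _x : ↥(P : Subgroup G), (1 : ℂ) = (p : ℂ) := by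
  rw [Finset.sum_const, Finset.card_univ, ← Nat.card_eq_fintype_card, S.cardP]
  simp

/-- the degree equation `∑ m_χ χ(1) = 2p`. -/
theorem w2pchip_degree_sum [Fintype (Cfsg.IrrCharacter G)] (S : Setting G Ω p P)
    (m : Cfsg.IrrCharacter G → ℕ)
    (hexp : piChar G Ω = ∑ χ : Cfsg.IrrCharacter G, (m χ : ℂ) • (χ : G → ℂ)) :
    ∃ deg : Cfsg.IrrCharacter G → ℕ, (∀ χ : Cfsg.IrrCharacter G, 0 < deg χ) ∧
      (∀ χ : Cfsg.IrrCharacter G, (χ : G → ℂ) 1 = (deg χ : ℂ)) ∧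
      ∑ χ : Cfsg.IrrCharacter G, m χ * deg χ = 2 * p := by
  choose deg hpos hdeg using fun χ : Cfsg.IrrCharacter G => irr_one_eq_finrank χ
  refine ⟨deg, hpos, hdeg, ?_⟩
  have h1 := w2pchip_pi_one S
  have h2 : piChar G Ω (1 : G) = ((∑ χ : Cfsg.IrrCharacter G, m χ * deg χ : ℕ) : ℂ) := by
    conv_lhs => rw [hexp]
    rw [Finset.sum_apply]
    push_cast
    refine Finset.sum_congr rfl fun χ _ => ?_
    rw [Pi.smul_apply, smul_eq_mul, hdeg χ]
  rw [h2] at h1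
  exact_mod_cast h1

end D2

end Cfsg.Agent.Lib.Lead.W2P
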