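import Mathlib
import Cfsg.Agent.Lib.Lead.W2P.Defs
import Cfsg.Agent.Lib.helper6.W2PRANK2
import Cfsg.Agent.Lib.Helper13.W2PCHIP0
import Cfsg.Agent.Lib.helper23.W2PNOLIN
import Cfsg.Agent.Lib.Helper28.W2PPDUAL

/-!
# Project W2P (S0720), piece CHIP (helper13): the constituent of degree `p` of the permutation character
-/

set_option autoImplicit false
set_option linter.unusedVariables false
set_option linter.unusedSectionVars false
open scoped ComplexConjugate
open Classical

namespace Cfsg.Agent.Lib.Lead.W2P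

open MulAction Cfsg.Agent.Lib.helper6.PermChar Cfsg.Agent.Lib.Helper25

universe u v

section D

variable {G : Type u} [Group G] [Fintype G] {Ω : Type v} [Fintype Ω] [DecidableEq Ω] [MulAction G Ω]
  {p : ℕ} [Fact p.Prime] {P : Sylow p G}

/-- CHIP : the constituent of degree `p` (defect zero) -/
theorem exists_chip (S : Setting G Ω p P)
    (hcl : ∀ χ : Cfsg.IrrCharacter G, TypeB (P : Subgroup G) (χ : G → ℂ) ∨ TypeC p (P : Subgroup G) χ) :
    ∃ χp : Cfsg.IrrCharacter G, χp ≠ trivIrr G ∧ Cfsg.classInner (piChar G Ω) (χp : G → ℂ) = 1 ∧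
      (χp : G → ℂ) 1 = (p : ℂ) ∧ (∀ x ∈ (P : Subgroup G), x ≠ 1 → (χp : G → ℂ) x = 0) ∧
      ∀ χ : Cfsg.IrrCharacter G, χ ≠ trivIrr G → χ ≠ χp →
        Cfsg.classInner (piChar G Ω) (χ : G → ℂ) ≠ 0 →
        ∑ x : ↥(P : Subgroup G), (χ : G → ℂ) (x : G) = 0 := by
  haveI : Fintype (Cfsg.IrrCharacter G) := Fintype.ofFinite _
  have hpp : p.Prime := Fact.out
  have hpC : (p : ℂ) ≠ 0 := by exact_mod_cast hpp.ne_zero
  haveI : IsPretransitive G Ω := S.prim.toIsPretransitive
  have hne : Nonempty Ω := by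
    have : 0 < Fintype.card Ω := by rw [S.card]; exact Nat.mul_pos two_pos hpp.pos
    exact Fintype.card_pos_iff.1 this
  obtain ⟨a⟩ := hne
  obtain ⟨m, hm, hexp⟩ := Cfsg.Agent.Lib.helper2.isCharacter_expansion
    (piChar_isCharacter (G := G) (Ω := Ω))
  have htrivval : ∀ g : G, ((trivIrr G : Cfsg.IrrCharacter G) : G → ℂ) g = 1 := fun _ => rfl
  have hmtriv : m (trivIrr G) = 1 := by
    have h1 := hm (trivIrr G)
    have h2 : ((trivIrr G : Cfsg.IrrCharacter G) : G → ℂ) = fun _ => (1 : ℂ) := rfl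
    rw [h2, inner_pi_triv a] at h1
    exact_mod_cast h1.symm
  -- multiplicities of the trivial character of `P`
  obtain ⟨a1, ha1, hsum1⟩ := w2pchip_key S m hexp (w2pchip_triv (P : Subgroup G))
  have ha1' : ∀ χ : Cfsg.IrrCharacter G,
      ∑ x : ↥(P : Subgroup G), (χ : G → ℂ) (x : G) = (p : ℂ) * (a1 χ : ℂ) := by
    intro χ
    have := ha1 χ
    simpa using this
  have ha1triv : a1 (trivIrr G) = 1 := by
    have h1 := ha1' (trivIrr G)
    simp only [htrivval] at h1
    rw [w2pchip_sum_one S] at h1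
    have h2 : (p : ℂ) * ((1 : ℕ) : ℂ) = (p : ℂ) * (a1 (trivIrr G) : ℂ) := by
      rw [← h1]; simp
    exact_mod_cast (mul_left_cancel₀ hpC h2).symm
  have hsum1' : ∑ χ ∈ Finset.univ.erase (trivIrr G), m χ * a1 χ = 1 := by
    have := Finset.add_sum_erase Finset.univ (fun χ => m χ * a1 χ) (Finset.mem_univ (trivIrr G))
    rw [hmtriv, ha1triv, hsum1] at this
    omega
  obtain ⟨χp, hχp, h1, hoth⟩ := w2pchip_sum_eq_one _ _ hsum1'
  have hχp1 : χp ≠ trivIrr G := (Finset.mem_erase.1 hχp).1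
  have hmχp : m χp = 1 := Nat.eq_one_of_mul_eq_one_right h1
  have haχp : a1 χp = 1 := Nat.eq_one_of_mul_eq_one_left h1
  have hothers : ∀ χ : Cfsg.IrrCharacter G, χ ≠ trivIrr G → χ ≠ χp → m χ * a1 χ = 0 :=
    fun χ h2 h3 => hoth χ (Finset.mem_erase.2 ⟨h2, Finset.mem_univ _⟩) h3
  have hinner : Cfsg.classInner (piChar G Ω) (χp : G → ℂ) = 1 := by
    rw [hm χp, hmχp]; simp
  -- a non-trivial linear character of `P`
  obtain ⟨Φ, hΦ, hΦ0, hΦnt, hΦcol, hΦall⟩ := exists_dual (P := (P : Subgroup G)) S.cardP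
  have h1p : 1 < p := hpp.one_lt
  have hφ₁ := hΦ ⟨1, h1p⟩
  have hφ₁nt := hΦnt ⟨1, h1p⟩ (by simp)
  obtain ⟨b1, hb1, hsumb⟩ := w2pchip_key S m hexp hφ₁
  have hb_le : b1 χp ≤ 2 := by
    have := Finset.single_le_sum (f := fun χ => m χ * b1 χ) (fun _ _ => Nat.zero_le _)
      (Finset.mem_univ χp)
    rw [hsumb, hmχp, Nat.one_mul] at this
    exact this
  -- `χp` is not of type (c)
  have hnotC : ¬ TypeC p (P : Subgroup G) χp := by
    rintro ⟨c, φ, hc, hφ, hnt, hval, χ', hne', hreg, hsumeq⟩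
    have hmχ' : m χ' = 1 := by
      have h2 : Cfsg.classInner (piChar G Ω) (χ' : G → ℂ) =
          Cfsg.classInner (piChar G Ω) (χp : G → ℂ) := by
        unfold Cfsg.classInner
        congr 1
        refine Finset.sum_congr rfl fun g _ => ?_
        by_cases hg : p ∣ orderOf g
        · rw [pi_sing S.fpf g hg, zero_mul, zero_mul]
        · rw [hreg g hg]
      rw [hm χ', hm χp, hmχp] at h2
      exact_mod_cast h2
    have haχ' : a1 χ' = 1 := by
      have h3 := ha1' χ'
      rw [hsumeq, ha1' χp, haχp] at h3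
      exact_mod_cast (mul_left_cancel₀ hpC h3).symm
    have hχ'1 : χ' ≠ trivIrr G := by
      intro e
      have h4 : (χp : G → ℂ) 1 = 1 := by
        rw [← hreg 1 (by rw [orderOf_one]; exact fun h => hpp.one_lt.ne' (Nat.dvd_one.1 h)), e]
        rfl
      have := no_linear S χp h4 hχp1
      rw [hinner] at this
      exact one_ne_zero this
    have := hothers χ' hχ'1 hne'
    rw [hmχ', haχ'] at this
    omega
  rcases hcl χp with hB | hC
  swap
  · exact absurd hC hnotC
  obtain ⟨c, hc⟩ := hB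
  obtain ⟨d, hdpos, hd⟩ := irr_one_eq_finrank χp
  -- `d + (p - 1) c = p`
  have hS1 : (d : ℂ) + (c : ℂ) * ((p : ℂ) - 1) = (p : ℂ) := by
    have h2 := w2pchip_sum_typeB (P : Subgroup G) (χp : G → ℂ) (fun _ => (1 : ℂ)) (c : ℂ) hc
    simp only [mul_one] at h2
    rw [ha1' χp, haχp, w2pchip_sum_one S, hd] at h2
    rw [← h2]
    simp
  -- `d - c = p b`
  have hS2 : (d : ℂ) - (c : ℂ) = (p : ℂ) * (b1 χp : ℂ) := by
    have h2 := w2pchip_sum_typeB (P : Subgroup G) (χp : G → ℂ)
      (fun x => conj (Φ ⟨1, h1p⟩ x)) (c : ℂ) hc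
    rw [hb1 χp] at h2
    have h3 : ∑ x : ↥(P : Subgroup G), conj (Φ ⟨1, h1p⟩ (x : G)) = 0 := by
      rw [← map_sum, w2pchip_sum_pchar hφ₁ hφ₁nt, map_zero]
    rw [h3, hφ₁.one, map_one, hd] at h2
    rw [h2]
    ring
  -- integer arithmetic
  have hc' : (c : ℂ) = 1 - (b1 χp : ℂ) := by
    have h2 : (p : ℂ) * (c : ℂ) = (p : ℂ) * (1 - (b1 χp : ℂ)) := by
      linear_combination hS1 - hS2
    exact mul_left_cancel₀ hpC h2
  have hd' : (d : ℂ) = (p : ℂ) * (b1 χp : ℂ) + 1 - (b1 χp : ℂ) := by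
    linear_combination hS2 + hc'
  have hb012 : b1 χp = 0 ∨ b1 χp = 1 ∨ b1 χp = 2 := by omega
  rcases hb012 with hb | hb | hb
  · -- linear: impossible
    exfalso
    rw [hb] at hd'
    have h4 : (χp : G → ℂ) 1 = 1 := by
      rw [hd, hd']; simp
    have := no_linear S χp h4 hχp1
    rw [hinner] at this
    exact one_ne_zero this
  · -- the good case
    rw [hb] at hd' hc'
    refine ⟨χp, hχp1, hinner, ?_, ?_, ?_⟩
    · rw [hd, hd']; simp
    · intro x hx hx1
      rw [hc x hx hx1, hc']; simp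
    · intro χ hχ1 hχp' hin
      have hmχ : m χ ≠ 0 := by
        intro h0
        apply hin
        rw [hm χ, h0]; simp
      have h0 := hothers χ hχ1 hχp'
      have haχ : a1 χ = 0 := by
        rcases Nat.mul_eq_zero.1 h0 with h | h
        · exact absurd h hmχ
        · exact h
      rw [ha1' χ, haχ]; simp
  · -- `π = 1 + χp` : rank 2, impossible
    exfalso
    rw [hb] at hd'
    obtain ⟨deg, hdegpos, hdeg, hdegsum⟩ := w2pchip_degree_sum S m hexp
    have hdχp : deg χp = 2 * p - 1 := by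
      have h5 : (deg χp : ℂ) = (p : ℂ) * ((2 : ℕ) : ℂ) + 1 - ((2 : ℕ) : ℂ) := by
        rw [← hdeg χp, hd, hd']
      have h6 : (deg χp : ℂ) + 1 = ((2 * p : ℕ) : ℂ) := by
        rw [h5]; push_cast; ring
      have h7 : deg χp + 1 = 2 * p := by exact_mod_cast h6
      omega
    have hdtriv : deg (trivIrr G) = 1 := by
      have := hdeg (trivIrr G)
      rw [htrivval] at this
      exact_mod_cast this.symm
    -- all other multiplicities vanish
    have h8 := Finset.add_sum_erase Finset.univ (fun χ => m χ * deg χ) (Finset.mem_univ (trivIrr G))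
    have h9 := Finset.add_sum_erase (Finset.univ.erase (trivIrr G)) (fun χ => m χ * deg χ) hχp
    rw [hdegsum, hmtriv, hdtriv] at h8
    rw [hmχp, hdχp] at h9
    have h10 : ∑ χ ∈ (Finset.univ.erase (trivIrr G)).erase χp, m χ * deg χ = 0 := by
      have := hpp.two_le
      omega
    have hmz : ∀ χ : Cfsg.IrrCharacter G, χ ≠ trivIrr G → χ ≠ χp → m χ = 0 := by
      intro χ h11 h12
      have h13 := (Finset.sum_eq_zero_iff.1 h10) χ
        (Finset.mem_erase.2 ⟨h12, Finset.mem_erase.2 ⟨h11, Finset.mem_univ _⟩⟩)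
      rcases Nat.mul_eq_zero.1 h13 with h | h
      · exact h
      · exact absurd h (hdegpos χ).ne'
    have hnorm := w2pchip_norm m hm hexp
    have h14 := Finset.add_sum_erase Finset.univ (fun χ => m χ * m χ) (Finset.mem_univ (trivIrr G))
    have h15 := Finset.add_sum_erase (Finset.univ.erase (trivIrr G)) (fun χ => m χ * m χ) hχp
    have h16 : ∑ χ ∈ (Finset.univ.erase (trivIrr G)).erase χp, m χ * m χ = 0 := by
      refine Finset.sum_eq_zero fun χ hχ => ?_
      have h17 := Finset.mem_erase.1 hχ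
      rw [hmz χ (Finset.mem_erase.1 h17.2).1 h17.1, Nat.zero_mul]
    rw [h16, hmχp] at h15
    rw [← h15, hmtriv] at h14
    rw [← h14] at hnorm
    exact S.not2 (two_trans_of_inner S.prim.toIsPretransitive (by rw [hnorm]; norm_num))

end D

end Cfsg.Agent.Lib.Lead.W2P
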