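import Mathlib
import Cfsg.Agent.Lib.Lead.W2P.Defs
import Cfsg.Agent.Lib.Helper13.W2PCHIP0
import Cfsg.Agent.Lib.Helper28.W2PPDUAL

/-!
# Project W2P (S0720), piece RESTDEC (helper13): the other non-trivial constituents of the permutation
character have multiplicity one
-/

set_option autoImplicit false
set_option linter.unusedVariables false
set_option linter.unusedSectionVars false
open scoped ComplexConjugate
open Classical

namespace Cfsg.Agent.Lib.Lead.W2P

open MulAction Cfsg.Agent.Lib.helper6.PermChar Cfsg.Agent.Lib.Helper25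

universe u v

section D

variable {G : Type u} [Group G] [Fintype G] {Ω : Type v} [Fintype Ω] [DecidableEq Ω] [MulAction G Ω]
  {p : ℕ} [Fact p.Prime] {P : Sylow p G}

/-- the set `J` of the remaining constituents. -/
noncomputable def w2prestdec_J [Fintype (Cfsg.IrrCharacter G)] (m : Cfsg.IrrCharacter G → ℕ)
    (χp : Cfsg.IrrCharacter G) : Finset (Cfsg.IrrCharacter G) :=
  ((Finset.univ.erase (trivIrr G)).erase χp).filter (fun χ => m χ ≠ 0)

/-- splitting a sum over all irreducible characters along `1, χp, J`. -/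
theorem w2prestdec_split [Fintype (Cfsg.IrrCharacter G)] {M : Type*} [AddCommMonoid M]
    (m : Cfsg.IrrCharacter G → ℕ) (χp : Cfsg.IrrCharacter G) (hχp1 : χp ≠ trivIrr G)
    (f : Cfsg.IrrCharacter G → M) (hf : ∀ χ, m χ = 0 → f χ = 0) :
    ∑ χ : Cfsg.IrrCharacter G, f χ =
      f (trivIrr G) + (f χp + ∑ χ ∈ w2prestdec_J m χp, f χ) := by
  have h1 := Finset.add_sum_erase Finset.univ f (Finset.mem_univ (trivIrr G))
  have h2 := Finset.add_sum_erase (Finset.univ.erase (trivIrr G)) f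
    (Finset.mem_erase.2 ⟨hχp1, Finset.mem_univ χp⟩)
  have h3 := Finset.sum_filter_add_sum_filter_not ((Finset.univ.erase (trivIrr G)).erase χp)
    (fun χ => m χ ≠ 0) f
  have h4 : ∑ χ ∈ ((Finset.univ.erase (trivIrr G)).erase χp).filter (fun χ => ¬ m χ ≠ 0), f χ = 0 := by
    refine Finset.sum_eq_zero fun χ hχ => ?_
    exact hf χ (not_not.1 (Finset.mem_filter.1 hχ).2)
  rw [h4, add_zero] at h3
  rw [← h1, ← h2, ← h3]
  rfl

/-- RESTDEC : the other non-trivial constituents have multiplicity one -/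
theorem rest_decomp (S : Setting G Ω p P) (χp : Cfsg.IrrCharacter G) (hχp1 : χp ≠ trivIrr G)
    (hm : Cfsg.classInner (piChar G Ω) (χp : G → ℂ) = 1) (hdeg : (χp : G → ℂ) 1 = (p : ℂ))
    (hvan : ∀ x ∈ (P : Subgroup G), x ≠ 1 → (χp : G → ℂ) x = 0)
    (hoth : ∀ χ : Cfsg.IrrCharacter G, χ ≠ trivIrr G → χ ≠ χp →
        Cfsg.classInner (piChar G Ω) (χ : G → ℂ) ≠ 0 →
        ∑ x : ↥(P : Subgroup G), (χ : G → ℂ) (x : G) = 0) :
    ∃ J : Finset (Cfsg.IrrCharacter G), J.Nonempty ∧ χp ∉ J ∧ trivIrr G ∉ J ∧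
      (∀ g : G, piChar G Ω g = 1 + (χp : G → ℂ) g + ∑ χ ∈ J, (χ : G → ℂ) g) ∧
      (∀ χ ∈ J, ∑ x : ↥(P : Subgroup G), (χ : G → ℂ) (x : G) = 0) ∧
      (∀ φ : G → ℂ, IsPChar (P : Subgroup G) φ → (∃ x ∈ (P : Subgroup G), φ x ≠ 1) →
        ∑ χ ∈ J, ∑ x : ↥(P : Subgroup G), (χ : G → ℂ) (x : G) * conj (φ (x : G)) = (p : ℂ)) := by
  haveI : Fintype (Cfsg.IrrCharacter G) := Fintype.ofFinite _
  have hpp : p.Prime := Fact.out
  have hpC : (p : ℂ) ≠ 0 := by exact_mod_cast hpp.ne_zero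
  haveI : IsPretransitive G Ω := S.prim.toIsPretransitive
  have hne : Nonempty Ω := by
    have : 0 < Fintype.card Ω := by rw [S.card]; exact Nat.mul_pos two_pos hpp.pos
    exact Fintype.card_pos_iff.1 this
  obtain ⟨a⟩ := hne
  obtain ⟨m, hmm, hexp⟩ := Cfsg.Agent.Lib.helper2.isCharacter_expansion
    (piChar_isCharacter (G := G) (Ω := Ω))
  have htrivval : ∀ g : G, ((trivIrr G : Cfsg.IrrCharacter G) : G → ℂ) g = 1 := fun _ => rfl
  have hmtriv : m (trivIrr G) = 1 := by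
    have h1 := hmm (trivIrr G)
    have h2 : ((trivIrr G : Cfsg.IrrCharacter G) : G → ℂ) = fun _ => (1 : ℂ) := rfl
    rw [h2, inner_pi_triv a] at h1
    exact_mod_cast h1.symm
  have hmχp : m χp = 1 := by
    have h1 := hmm χp
    rw [hm] at h1
    exact_mod_cast h1.symm
  have hJmem : ∀ χ, χ ∈ w2prestdec_J m χp ↔ χ ≠ trivIrr G ∧ χ ≠ χp ∧ m χ ≠ 0 := by
    intro χ
    unfold w2prestdec_J
    simp only [Finset.mem_filter, Finset.mem_erase, Finset.mem_univ, and_true]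
    tauto
  have hJsum : ∀ χ ∈ w2prestdec_J m χp, ∑ x : ↥(P : Subgroup G), (χ : G → ℂ) (x : G) = 0 := by
    intro χ hχ
    obtain ⟨h1, h2, h3⟩ := (hJmem χ).1 hχ
    apply hoth χ h1 h2
    rw [hmm χ]
    exact_mod_cast h3
  -- (*) for a non-trivial `φ`
  have hstar : ∀ φ : G → ℂ, IsPChar (P : Subgroup G) φ → (∃ x ∈ (P : Subgroup G), φ x ≠ 1) →
      ∃ b : Cfsg.IrrCharacter G → ℕ,
        (∀ χ : Cfsg.IrrCharacter G,
          ∑ x : ↥(P : Subgroup G), (χ : G → ℂ) (x : G) * conj (φ (x : G)) = (p : ℂ) * (b χ : ℂ)) ∧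
        ∑ χ ∈ w2prestdec_J m χp, m χ * b χ = 1 := by
    intro φ hφ hnt
    obtain ⟨b, hb, hbsum⟩ := w2pchip_key S m hexp hφ
    refine ⟨b, hb, ?_⟩
    have hbtriv : b (trivIrr G) = 0 := by
      have h1 := hb (trivIrr G)
      simp only [htrivval, one_mul] at h1
      rw [← map_sum, w2pchip_sum_pchar hφ hnt, map_zero] at h1
      have h2 : (p : ℂ) * (b (trivIrr G) : ℂ) = (p : ℂ) * ((0 : ℕ) : ℂ) := by
        rw [← h1]; simp
      exact_mod_cast mul_left_cancel₀ hpC h2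
    have hbχp : b χp = 1 := by
      have h1 := hb χp
      rw [w2pchip_sum_single (P : Subgroup G) (fun x => (χp : G → ℂ) x * conj (φ x))
        (fun x hx hx1 => by rw [hvan x hx hx1, zero_mul])] at h1
      rw [hdeg, hφ.one, map_one, mul_one] at h1
      have h2 : (p : ℂ) * (b χp : ℂ) = (p : ℂ) * ((1 : ℕ) : ℂ) := by
        rw [← h1]; simp
      exact_mod_cast mul_left_cancel₀ hpC h2
    have h3 := w2prestdec_split m χp hχp1 (fun χ => m χ * b χ)
      (fun χ h0 => by rw [h0, Nat.zero_mul])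
    rw [hbsum, hmtriv, hbtriv, hmχp, hbχp] at h3
    omega
  -- the dual group of `P`
  obtain ⟨Φ, hΦ, hΦ0, hΦnt, hΦcol, hΦall⟩ := exists_dual (P := (P : Subgroup G)) S.cardP
  have h1p : 1 < p := hpp.one_lt
  -- multiplicity one
  have hmJ : ∀ χ ∈ w2prestdec_J m χp, m χ = 1 := by
    intro χ hχ
    choose B hB using fun k : Fin p =>
      mP_nat (P := (P : Subgroup G)) S.cardP (Cfsg.Agent.Lib.helper2.isCharacter_of_irr χ) (hΦ k)
    obtain ⟨d, hdpos, hd⟩ := irr_one_eq_finrank χ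
    -- `∑_k B k = d`
    have hBsum : ∑ k : Fin p, B k = d := by
      have h1 : ∑ k : Fin p, ∑ x : ↥(P : Subgroup G), (χ : G → ℂ) (x : G) * conj (Φ k (x : G)) =
          (p : ℂ) * (d : ℂ) := by
        rw [Finset.sum_comm]
        have h2 : ∀ x : ↥(P : Subgroup G), ∑ k : Fin p, (χ : G → ℂ) (x : G) * conj (Φ k (x : G)) =
            (χ : G → ℂ) (x : G) * conj (∑ k : Fin p, Φ k (x : G)) := by
          intro x
          rw [map_sum, Finset.mul_sum]
        rw [Finset.sum_congr rfl (fun x _ => h2 x)]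
        rw [w2pchip_sum_single (P : Subgroup G)
          (fun x => (χ : G → ℂ) x * conj (∑ k : Fin p, Φ k x))
          (fun x hx hx1 => by rw [hΦcol x hx hx1, map_zero, mul_zero])]
        have h3 : ∑ k : Fin p, Φ k (1 : G) = (p : ℂ) := by
          rw [Finset.sum_congr rfl (fun k _ => (hΦ k).one)]
          simp
        rw [h3, hd, Complex.conj_natCast]
        ring
      have h4 : (p : ℂ) * ((∑ k : Fin p, B k : ℕ) : ℂ) = (p : ℂ) * (d : ℂ) := by
        rw [← h1]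
        push_cast
        rw [Finset.mul_sum]
        exact Finset.sum_congr rfl fun k _ => (hB k).symm
      exact_mod_cast mul_left_cancel₀ hpC h4
    -- `B 0 = 0`
    have hB0 : B ⟨0, hpp.pos⟩ = 0 := by
      have h1 := hB ⟨0, hpp.pos⟩
      have h2 : ∑ x : ↥(P : Subgroup G), (χ : G → ℂ) (x : G) * conj (Φ ⟨0, hpp.pos⟩ (x : G)) =
          ∑ x : ↥(P : Subgroup G), (χ : G → ℂ) (x : G) := by
        refine Finset.sum_congr rfl fun x _ => ?_
        rw [hΦ0 x x.2, map_one, mul_one]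
      rw [h2, hJsum χ hχ] at h1
      have h3 : (p : ℂ) * (B ⟨0, hpp.pos⟩ : ℂ) = (p : ℂ) * ((0 : ℕ) : ℂ) := by
        rw [← h1]; simp
      exact_mod_cast mul_left_cancel₀ hpC h3
    -- some `k ≠ 0` with `B k ≠ 0`
    have hex : ∃ k : Fin p, (k : ℕ) ≠ 0 ∧ B k ≠ 0 := by
      by_contra hcon
      push Not at hcon
      have : ∑ k : Fin p, B k = 0 := by
        refine Finset.sum_eq_zero fun k _ => ?_
        by_cases hk : (k : ℕ) = 0
        · have : k = ⟨0, hpp.pos⟩ := Fin.ext hk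
          rw [this, hB0]
        · exact hcon k hk
      omega
    obtain ⟨k, hk0, hBk⟩ := hex
    obtain ⟨b, hb, hbsum⟩ := hstar (Φ k) (hΦ k) (hΦnt k hk0)
    have hbk : b χ = B k := by
      have h1 : (p : ℂ) * (b χ : ℂ) = (p : ℂ) * (B k : ℂ) := by rw [← hb χ, ← hB k]
      exact_mod_cast mul_left_cancel₀ hpC h1
    have h5 : m χ * b χ ≤ 1 := by
      rw [← hbsum]
      exact Finset.single_le_sum (f := fun χ => m χ * b χ) (fun _ _ => Nat.zero_le _) hχ
    have hm0 : m χ ≠ 0 := ((hJmem χ).1 hχ).2.2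
    rw [hbk] at h5
    have h6 : 1 ≤ m χ := Nat.one_le_iff_ne_zero.2 hm0
    have h7 : 1 ≤ B k := Nat.one_le_iff_ne_zero.2 hBk
    have h8 : m χ * 1 ≤ m χ * B k := Nat.mul_le_mul_left _ h7
    omega
  refine ⟨w2prestdec_J m χp, ?_, ?_, ?_, ?_, hJsum, ?_⟩
  · -- nonempty
    obtain ⟨b, hb, hbsum⟩ := hstar (Φ ⟨1, h1p⟩) (hΦ ⟨1, h1p⟩) (hΦnt ⟨1, h1p⟩ (by simp))
    by_contra hcon
    rw [Finset.not_nonempty_iff_eq_empty] at hcon
    rw [hcon, Finset.sum_empty] at hbsum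
    omega
  · intro h
    exact ((hJmem χp).1 h).2.1 rfl
  · intro h
    exact ((hJmem (trivIrr G)).1 h).1 rfl
  · intro g
    have h1 : piChar G Ω g = ∑ χ : Cfsg.IrrCharacter G, (m χ : ℂ) * (χ : G → ℂ) g := by
      conv_lhs => rw [hexp]
      rw [Finset.sum_apply]
      refine Finset.sum_congr rfl fun χ _ => ?_
      rw [Pi.smul_apply, smul_eq_mul]
    rw [h1, w2prestdec_split m χp hχp1 (fun χ => (m χ : ℂ) * (χ : G → ℂ) g)
      (fun χ h0 => by rw [h0]; simp)]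
    rw [hmtriv, hmχp, htrivval]
    have h2 : ∑ χ ∈ w2prestdec_J m χp, (m χ : ℂ) * (χ : G → ℂ) g =
        ∑ χ ∈ w2prestdec_J m χp, (χ : G → ℂ) g :=
      Finset.sum_congr rfl fun χ hχ => by rw [hmJ χ hχ]; simp
    rw [h2]
    push_cast
    ring
  · intro φ hφ hnt
    obtain ⟨b, hb, hbsum⟩ := hstar φ hφ hnt
    have h1 : ∑ χ ∈ w2prestdec_J m χp,
        ∑ x : ↥(P : Subgroup G), (χ : G → ℂ) (x : G) * conj (φ (x : G)) =
        (p : ℂ) * ((∑ χ ∈ w2prestdec_J m χp, m χ * b χ : ℕ) : ℂ) := by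
      push_cast
      rw [Finset.mul_sum]
      refine Finset.sum_congr rfl fun χ hχ => ?_
      rw [hb χ, hmJ χ hχ]
      simp
    rw [h1, hbsum]
    simp

end D

end Cfsg.Agent.Lib.Lead.W2P
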