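import Cfsg.Agent.Lib.helper15.WB.MainEven
import Cfsg.Agent.Lib.helper15.WB.SiegelGen
import Cfsg.Agent.Lib.Helper13.SUnP15
import Cfsg.Agent.Lib.Helper21.SUnP7

set_option autoImplicit false

/-! Project WB phase 2 (S2334), piece C: conjugation of the Siegel radical by the torus element
`E 0 ↦ c • E 0`. -/

namespace Cfsg.Agent.Lib.Helper13.WB2C

open Matrix Cfsg.Agent.Lib.helper15.SUn Cfsg.Agent.Lib.helper15.WB
  Cfsg.Agent.Lib.helper15.WB.Main

section BCD

variable {F : Type*} [Field F] [Fintype F] [DecidableEq F] {n : ℕ} {q : ℕ} {σ : F ≃+* F} {m : ℕ}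
  {E Fv : ℕ → Fin n → F} {d : Fin n → F}

/-! ## Piece WB2-C : conjugation by the torus element `E 0 ↦ c • E 0` -/
theorem phi_conj_diag (hσ : ∀ x, σ x = x ^ q)
    (hf : Cfsg.Geo.IsUnitaryForm σ (Cfsg.hermForm n F q)) (fr : Frame q (m + 1) E Fv d)
    {κ : F} (hκ : σ κ = -κ) (c : F) (hc : c ≠ 0) :
    ∃ g : ↥(Cfsg.SU n F q), ∀ H : ↥(Herm σ (m + 1)),
      g * phi hσ hf fr.ee hκ H * g⁻¹ =
        phi hσ hf fr.ee hκ
          (cgHom σ hf.involutive (Matrix.diagonal (Function.update (1 : Fin (m + 1) → F) 0 c)) H) := by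
  have h0 : (0 : ℕ) < m + 1 := Nat.succ_pos m
  have hee := fr.ee 0 0 h0 h0
  have hff := fr.ff 0 0 h0 h0
  have hef := fr.ef 0 0 h0 h0
  have hfe := fr.fe 0 0 h0 h0
  rw [if_pos rfl] at hef hfe
  have hdd := fr.dd
  have hed := fr.ed 0 h0
  have hde := fr.de 0 h0
  have hfd := fr.fd 0 h0
  have hdf := fr.df 0 h0
  have hdet := Cfsg.Agent.Lib.Helper13.SUnP15.torM_det (σ := σ) hσ hef hfe hdd hc
  have hiso := Cfsg.Agent.Lib.Helper13.SUnP15.torM_iso (σ := σ) hσ hf hee hff hef hfe hdd hde hdf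
    hed hfd hc
  refine ⟨mkSU (Cfsg.Agent.Lib.Helper13.SUnP15.torM σ (E 0) (Fv 0) d c) hdet hiso, ?_⟩
  intro H
  set g : ↥(Cfsg.SU n F q) :=
    mkSU (Cfsg.Agent.Lib.Helper13.SUnP15.torM σ (E 0) (Fv 0) d c) hdet hiso with hg
  have hMi : Cfsg.Agent.Lib.Helper13.SUnP15.torM σ (E 0) (Fv 0) d c *
      (((g⁻¹ : ↥(Cfsg.SU n F q)) : Matrix.SpecialLinearGroup (Fin n) F) :
        Matrix (Fin n) (Fin n) F) = 1 := su_mul_inv g
  have hE : ∀ k : Fin (m + 1),
      Cfsg.Agent.Lib.Helper13.SUnP15.torM σ (E 0) (Fv 0) d c *ᵥ E k =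
        ∑ a : Fin (m + 1),
          (Matrix.diagonal (Function.update (1 : Fin (m + 1) → F) 0 c)) a k • E a := by
    intro k
    rw [Cfsg.Agent.Lib.Helper13.SUnP15.torM_mulVec hσ hf hff hde hdf, fr.ee k 0 k.2 h0,
      fr.ef k 0 k.2 h0, fr.ed k k.2, Finset.sum_eq_single k]
    · rw [Matrix.diagonal_apply_eq]
      by_cases hk : k = 0
      · subst hk
        rw [Function.update_self]
        simp only [mul_zero, zero_smul, add_zero, mul_one, Fin.val_zero, if_true]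
        rw [sub_smul, one_smul]
        abel
      · have hk' : ¬ ((k : ℕ) = 0) := fun h => hk (Fin.ext h)
        rw [Function.update_of_ne hk, if_neg hk']
        simp only [mul_zero, zero_smul, add_zero, Pi.one_apply, one_smul]
    · intro a _ hak
      rw [Matrix.diagonal_apply_ne _ hak, zero_smul]
    · intro h
      exact absurd (Finset.mem_univ _) h
  apply su_ext
  rw [su_coe_mul, su_coe_mul]
  show Cfsg.Agent.Lib.Helper13.SUnP15.torM σ (E 0) (Fv 0) d c *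
      uS σ (m + 1) E (κ • (H : Matrix (Fin (m + 1)) (Fin (m + 1)) F)) *
      (((g⁻¹ : ↥(Cfsg.SU n F q)) : Matrix.SpecialLinearGroup (Fin n) F) :
        Matrix (Fin n) (Fin n) F) =
      uS σ (m + 1) E (κ • cg σ (Matrix.diagonal (Function.update (1 : Fin (m + 1) → F) 0 c)) H)
  rw [uS_conj_gen hσ hMi hiso _ hE, cg_smul]

end BCD

end Cfsg.Agent.Lib.Helper13.WB2C
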