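import Cfsg.Agent.Lib.helper15.WB.Defs

set_option autoImplicit false

/-! Project WB (S2335), piece S: the Siegel unipotent radical `uS` and its Levi elements. -/

namespace Cfsg.Agent.Lib.Helper13.WBS

open Matrix Cfsg.Agent.Lib.helper15.SUn Cfsg.Agent.Lib.helper15.WB

section S

variable {F : Type*} [Field F] [Fintype F] {n : ℕ} {q : ℕ} {σ : F ≃+* F} {m : ℕ}
  {E Fv : ℕ → Fin n → F}

/-- the matrix with columns `U k` -/
def colM (U : Fin m → Fin n → F) : Matrix (Fin n) (Fin m) F := Matrix.of (fun a k => U k a)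

theorem colM_apply (U : Fin m → Fin n → F) (a : Fin n) (k : Fin m) : colM U a k = U k a := rfl

/-- matrix form of a "Hermitian combination" of rank one matrices -/
theorem sum_R_eq (U : Fin m → Fin n → F) (Y : Matrix (Fin m) (Fin m) F) :
    ∑ i : Fin m, ∑ j : Fin m, Y i j • R σ (U i) (U j) =
      colM U * (Y * ((colM U).map σ)ᵀ) := by
  ext a b
  rw [Matrix.sum_apply, Matrix.mul_apply]
  apply Finset.sum_congr rfl
  intro i _
  rw [Matrix.sum_apply, Matrix.mul_apply, Finset.mul_sum]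
  apply Finset.sum_congr rfl
  intro j _
  rw [Matrix.smul_apply, smul_eq_mul, Matrix.transpose_apply, Matrix.map_apply, colM_apply,
    colM_apply]
  unfold R
  rw [Matrix.vecMulVec_apply]
  ring

theorem uS_eq (Y : Matrix (Fin m) (Fin m) F) :
    uS σ m E Y = 1 + colM (fun k : Fin m => E k) * (Y * ((colM (fun k : Fin m => E k)).map σ)ᵀ) := by
  unfold uS
  rw [sum_R_eq]

theorem uS_zero : uS σ m E (0 : Matrix (Fin m) (Fin m) F) = 1 := by
  unfold uS
  simp

theorem uS_add (hσ : ∀ x, σ x = x ^ q)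
    (hee : ∀ i j, i < m → j < m → Cfsg.hermForm n F q (E i) (E j) = 0)
    (Y Y' : Matrix (Fin m) (Fin m) F) : uS σ m E (Y + Y') = uS σ m E Y * uS σ m E Y' := by
  have hee' : ∀ i j : Fin m, Cfsg.hermForm n F q (E i) (E j) = 0 := fun i j => hee i j i.2 j.2
  unfold uS
  rw [Matrix.add_mul, Matrix.mul_add, Matrix.mul_add, Matrix.one_mul, Matrix.one_mul,
    Matrix.mul_one]
  have h0 : (∑ i : Fin m, ∑ j : Fin m, Y i j • R σ (E i) (E j)) *
      (∑ i : Fin m, ∑ j : Fin m, Y' i j • R σ (E i) (E j)) = 0 := by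
    simp only [Finset.sum_mul, Finset.mul_sum, Matrix.smul_mul, Matrix.mul_smul, R_mul_R hσ, hee',
      zero_smul, smul_zero, Finset.sum_const_zero]
  rw [h0, add_zero]
  simp only [Matrix.add_apply, add_smul, Finset.sum_add_distrib]
  abel

theorem colM_gram (hσ : ∀ x, σ x = x ^ q) (U : Fin m → Fin n → F) (j k : Fin m) :
    (((colM U).map σ)ᵀ * colM U) j k = Cfsg.hermForm n F q (U k) (U j) := by
  rw [Matrix.mul_apply]
  unfold Cfsg.hermForm
  apply Finset.sum_congr rfl
  intro a _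
  rw [Matrix.transpose_apply, Matrix.map_apply, colM_apply, colM_apply, hσ]
  ring

theorem uS_det (hσ : ∀ x, σ x = x ^ q)
    (hee : ∀ i j, i < m → j < m → Cfsg.hermForm n F q (E i) (E j) = 0)
    (Y : Matrix (Fin m) (Fin m) F) : (uS σ m E Y).det = 1 := by
  rw [uS_eq, Matrix.det_one_add_mul_comm, Matrix.mul_assoc]
  have h0 : ((colM (fun k : Fin m => E k)).map σ)ᵀ * colM (fun k : Fin m => E k) = 0 := by
    ext j k
    rw [colM_gram hσ, Matrix.zero_apply]
    exact hee k j k.2 j.2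
  rw [h0, Matrix.mul_zero, add_zero, Matrix.det_one]

theorem uS_single (i : Fin m) (c : F) :
    uS σ m E (Matrix.single i i c) = TV σ (E i) c := by
  classical
  unfold uS TV
  congr 1
  rw [Finset.sum_eq_single i, Finset.sum_eq_single i]
  · rw [Matrix.single_apply_same]
  · intro j _ hj
    rw [Matrix.single_apply_of_ne, zero_smul]
    exact fun h => hj h.2.symm
  · intro h
    exact absurd (Finset.mem_univ _) h
  · intro k _ hk
    apply Finset.sum_eq_zero
    intro j _
    rw [Matrix.single_apply_of_ne, zero_smul]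
    exact fun h => hk h.1.symm
  · intro h
    exact absurd (Finset.mem_univ _) h

theorem herm_sum_left' {ι : Type*} (s : Finset ι) (f : ι → Fin n → F) (z : Fin n → F) :
    Cfsg.hermForm n F q (∑ i ∈ s, f i) z = ∑ i ∈ s, Cfsg.hermForm n F q (f i) z := by
  classical
  induction s using Finset.induction_on with
  | empty => rw [Finset.sum_empty, Finset.sum_empty, herm_zero_left]
  | insert a s ha ih => rw [Finset.sum_insert ha, Finset.sum_insert ha, herm_add_left, ih]

theorem herm_sum_right' (hσ : ∀ x, σ x = x ^ q) {ι : Type*} (s : Finset ι)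
    (f : ι → Fin n → F) (z : Fin n → F) :
    Cfsg.hermForm n F q z (∑ i ∈ s, f i) = ∑ i ∈ s, Cfsg.hermForm n F q z (f i) := by
  classical
  induction s using Finset.induction_on with
  | empty => rw [Finset.sum_empty, Finset.sum_empty, herm_zero_right hσ]
  | insert a s ha ih => rw [Finset.sum_insert ha, Finset.sum_insert ha, herm_add_right hσ, ih]

theorem uS_mulVec (hσ : ∀ x, σ x = x ^ q) (Y : Matrix (Fin m) (Fin m) F) (x : Fin n → F) :
    uS σ m E Y *ᵥ x =
      x + ∑ i : Fin m, ∑ j : Fin m, (Y i j * Cfsg.hermForm n F q x (E j)) • E i := by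
  unfold uS
  rw [Matrix.add_mulVec, Matrix.one_mulVec, Matrix.sum_mulVec]
  congr 1
  apply Finset.sum_congr rfl
  intro i _
  rw [Matrix.sum_mulVec]
  apply Finset.sum_congr rfl
  intro j _
  rw [Matrix.smul_mulVec, R_mulVec hσ, smul_smul]

theorem uS_iso (hσ : ∀ x, σ x = x ^ q) (hf : Cfsg.Geo.IsUnitaryForm σ (Cfsg.hermForm n F q))
    (hee : ∀ i j, i < m → j < m → Cfsg.hermForm n F q (E i) (E j) = 0)
    {Y : Matrix (Fin m) (Fin m) F} (hY : ∀ i j, σ (Y i j) = -Y j i) (x y : Fin n → F) :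
    Cfsg.hermForm n F q (uS σ m E Y *ᵥ x) (uS σ m E Y *ᵥ y) = Cfsg.hermForm n F q x y := by
  have hee' : ∀ i j : Fin m, Cfsg.hermForm n F q (E i) (E j) = 0 := fun i j => hee i j i.2 j.2
  rw [uS_mulVec hσ, uS_mulVec hσ]
  simp only [herm_add_left, herm_add_right hσ, herm_sum_left', herm_sum_right' hσ, herm_smul_left,
    herm_smul_right hσ, hee', mul_zero, Finset.sum_const_zero, add_zero, map_mul, hY]
  have h1 : ∀ i j : Fin m, σ (Cfsg.hermForm n F q y (E j)) = Cfsg.hermForm n F q (E j) y :=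
    fun i j => (hf.herm (E j) y).symm
  have h2 : ∑ i : Fin m, ∑ j : Fin m,
      -Y j i * σ (Cfsg.hermForm n F q y (E j)) * Cfsg.hermForm n F q x (E i) =
      - ∑ i : Fin m, ∑ j : Fin m,
        Y i j * Cfsg.hermForm n F q x (E j) * Cfsg.hermForm n F q (E i) y := by
    rw [Finset.sum_comm, ← Finset.sum_neg_distrib]
    apply Finset.sum_congr rfl
    intro i _
    rw [← Finset.sum_neg_distrib]
    apply Finset.sum_congr rfl
    intro j _
    rw [← hf.herm (E i) y]
    ring
  rw [h2]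
  ring

theorem uS_conj (hσ : ∀ x, σ x = x ^ q) (hf : Cfsg.Geo.IsUnitaryForm σ (Cfsg.hermForm n F q))
    (fr : EFrame q m E Fv) (i j : Fin m) (hij : i ≠ j) (s : F) (Y : Matrix (Fin m) (Fin m) F) :
    Sg σ (E i) (Fv j) s * uS σ m E Y * Sg σ (E i) (Fv j) (-s) =
      uS σ m E (cg σ (1 + Matrix.single i j s) Y) := by
  have hij' : (i : ℕ) ≠ (j : ℕ) := fun h => hij (Fin.ext h)
  have ha : Cfsg.hermForm n F q (E i) (E i) = 0 := fr.ee i i i.2 i.2
  have hb : Cfsg.hermForm n F q (Fv j) (Fv j) = 0 := fr.ff j j j.2 j.2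
  have hab : Cfsg.hermForm n F q (E i) (Fv j) = 0 := by rw [fr.ef i j i.2 j.2, if_neg hij']
  have hMi : Sg σ (E i) (Fv j) s * Sg σ (E i) (Fv j) (-s) = 1 := by
    rw [Sg_mul hσ hf ha hb hab, add_neg_cancel, Sg_zero]
  have hiso := Sg_iso hσ hf ha hb hab s
  have hL : Sg σ (E i) (Fv j) s * uS σ m E Y * Sg σ (E i) (Fv j) (-s) =
      1 + ∑ k : Fin m, ∑ l : Fin m,
        Y k l • R σ (Sg σ (E i) (Fv j) s *ᵥ E k) (Sg σ (E i) (Fv j) s *ᵥ E l) := by
    unfold uS
    rw [conj_one_add hMi, Finset.mul_sum, Finset.sum_mul]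
    congr 1
    apply Finset.sum_congr rfl
    intro k _
    rw [Finset.mul_sum, Finset.sum_mul]
    apply Finset.sum_congr rfl
    intro l _
    rw [Matrix.mul_smul, Matrix.smul_mul, conj_R hσ hMi hiso]
  have hU : colM (fun k : Fin m => Sg σ (E i) (Fv j) s *ᵥ E k) =
      colM (fun k : Fin m => E k) * (1 + Matrix.single i j s) := by
    ext a k
    rw [colM_apply, Sg_mulVec hσ, fr.ee k i k.2 i.2, fr.ef k j k.2 j.2, Matrix.mul_add,
      Matrix.mul_one, Matrix.add_apply, colM_apply]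
    by_cases hkj : k = j
    · subst hkj
      rw [if_pos rfl, Matrix.mul_single_apply_same, colM_apply]
      simp only [Pi.add_apply, Pi.sub_apply, Pi.smul_apply, smul_eq_mul]
      ring
    · have hkj' : ¬ ((k : ℕ) = (j : ℕ)) := fun h => hkj (Fin.ext h)
      rw [if_neg hkj', Matrix.mul_single_apply_of_ne (hbj := hkj)]
      simp only [Pi.add_apply, Pi.sub_apply, Pi.smul_apply, smul_eq_mul]
      ring
  rw [hL, sum_R_eq, uS_eq, hU]
  unfold cg
  rw [Matrix.map_mul, Matrix.transpose_mul]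
  simp only [Matrix.mul_assoc]

end S

end Cfsg.Agent.Lib.Helper13.WBS
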