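import Cfsg.Agent.S1968

set_option autoImplicit false

/-! Reduction of a non-weakly-closed element of `Z(S)` to the normalizer of a well-placed subgroup
(the element version of S1968) (helper13). -/

namespace Cfsg.Agent.Lib.Helper13

open Cfsg Cfsg.Agent.S1968

/-- In a chain that moves the element `x`, some step inside a normalizer of a member of the family
moves `x`. -/
theorem exists_moving_step_elem {G : Type*} [Group G] {𝓕 : Set (Subgroup G)} {R : Subgroup G}
    {k : G} (x : G) (h : ConjChain 𝓕 R k) :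
    x ∈ R → k⁻¹ * x * k ≠ x →
      ∃ T ∈ 𝓕, x ∈ T ∧ ∃ c ∈ Subgroup.normalizer (T : Set G), c⁻¹ * x * c ≠ x := by
  induction h with
  | nil R =>
    intro _ hne
    exfalso
    apply hne
    rw [inv_one, one_mul, mul_one]
  | cons R T c g hT hc hRT _ ih =>
    intro hx hne
    by_cases hc' : c⁻¹ * x * c = x
    · apply ih
      · rw [mem_rc]
        have : c * x * c⁻¹ = x := by
          have h1 : c * x * c⁻¹ = c * (c⁻¹ * x * c) * c⁻¹ := by rw [hc']
          rw [h1]
          group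
        rw [this]
        exact hx
      · intro h
        apply hne
        rw [mul_inv_rev]
        calc g⁻¹ * c⁻¹ * x * (c * g) = g⁻¹ * (c⁻¹ * x * c) * g := by group
          _ = g⁻¹ * x * g := by rw [hc']
          _ = x := h
    · exact ⟨T, hT, hRT hx, c, hc, hc'⟩

/-- The reduction: a central element of `S`, centralized by `N_G(W(S))` but not weakly closed in
`S`, is moved inside the normalizer of a well-placed subgroup `T` containing it, with
`N_G(W(N_S(T)))` centralizing it. -/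
theorem wc_reduction {G : Type*} [Group G] [Finite G] {p : ℕ} [Fact p.Prime] (S : Sylow p G)
    (W : Subgroup G → Subgroup G) (hW : Cfsg.IsConjugacyFunctor p W)
    (hWZ : ∀ P : Subgroup G, IsPGroup p ↥P → P ⊓ Subgroup.centralizer (P : Set G) ≤ W P)
    (x : G) (hxS : x ∈ (S : Subgroup G)) (hxC : x ∈ Subgroup.centralizer ((S : Subgroup G) : Set G))
    (hN : ∀ n ∈ Subgroup.normalizer ((W (S : Subgroup G) : Subgroup G) : Set G), n * x * n⁻¹ = x)
    (g₀ : G) (hg₀S : g₀ * x * g₀⁻¹ ∈ (S : Subgroup G)) (hg₀ : g₀ * x * g₀⁻¹ ≠ x) :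
    ∃ T : Subgroup G, T ≤ (S : Subgroup G) ∧ x ∈ T ∧
      (∀ n ∈ Subgroup.normalizer ((W ((S : Subgroup G) ⊓ Subgroup.normalizer ((T : Subgroup G) : Set G)) : Subgroup G) : Set G),
        n * x * n⁻¹ = x) ∧
      ¬ p ∣ ((S : Subgroup G) ⊓ Subgroup.normalizer ((T : Subgroup G) : Set G)).relIndex
        (Subgroup.normalizer ((T : Subgroup G) : Set G)) ∧
      ∃ g ∈ Subgroup.normalizer ((T : Subgroup G) : Set G), g * x * g⁻¹ ≠ x := by
  have hSp : IsPGroup p ↥(S : Subgroup G) := S.isPGroup'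
  let Φ : Set (Subgroup G) := {T | Cfsg.IsWellPlaced p W (S : Subgroup G) T ∧ x ∈ T ∧
    ∃ g ∈ Subgroup.normalizer ((T : Subgroup G) : Set G), g * x * g⁻¹ ≠ x}
  have hΦne : Φ.Nonempty := by
    have hRS : Subgroup.zpowers x ≤ (S : Subgroup G) := Subgroup.zpowers_le.mpr hxS
    have hchain : ConjChain {T : Subgroup G | Cfsg.IsWellPlaced p W (S : Subgroup G) T}
        (Subgroup.zpowers x) g₀⁻¹ := by
      apply conjChain_of_le S _ (fun U hU => hU.1) _ (Nat.card ↥(S : Subgroup G)) _ hRS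
        (Nat.sub_le _ _)
      · rw [rc_def, inv_inv, MonoidHom.map_zpowers]
        exact Subgroup.zpowers_le.mpr hg₀S
      · intro T' hT'
        obtain ⟨g', hg'⟩ := Cfsg.Agent.S1963.result S W hW T' hT'
        exact ⟨_, hg', ⟨g', rfl⟩, hg'.2 0⟩
    have hne : g₀⁻¹⁻¹ * x * g₀⁻¹ ≠ x := by rw [inv_inv]; exact hg₀
    obtain ⟨T, hT, hxT, c, hc, hcx⟩ := exists_moving_step_elem x hchain
      (Subgroup.mem_zpowers x) hne
    refine ⟨T, hT, hxT, c⁻¹, Subgroup.inv_mem _ hc, ?_⟩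
    rw [inv_inv]
    exact hcx
  obtain ⟨T, hTmax⟩ := (Set.toFinite Φ).exists_maximalFor
    (fun T : Subgroup G => Nat.card ↥((S : Subgroup G) ⊓ Subgroup.normalizer ((T : Subgroup G) : Set G))) Φ hΦne
  obtain ⟨⟨hTwp, hxT, g, hgN, hgx⟩, hmax⟩ := hTmax
  have hTQ : T ≤ (S : Subgroup G) ⊓ Subgroup.normalizer ((T : Subgroup G) : Set G) :=
    le_inf hTwp.1 Subgroup.le_normalizer
  have hxcentQ : x ∈ Subgroup.centralizer (((S : Subgroup G) ⊓ Subgroup.normalizer ((T : Subgroup G) : Set G) : Subgroup G) : Set G) :=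
    Subgroup.centralizer_le inf_le_left hxC
  refine ⟨T, hTwp.1, hxT, ?_, hTwp.2 0, g, hgN, hgx⟩
  intro g₁ hg₁
  by_contra hg₁x
  have hT1wp := wellPlaced_tower hW hSp hTwp 1
  have hT1 : Cfsg.functorTower W (S : Subgroup G) T 1 =
      W ((S : Subgroup G) ⊓ Subgroup.normalizer ((T : Subgroup G) : Set G)) := rfl
  have hxT1 : x ∈ Cfsg.functorTower W (S : Subgroup G) T 1 := by
    rw [hT1]
    exact hWZ _ (hSp.to_le inf_le_left) (Subgroup.mem_inf.mpr ⟨hTQ hxT, hxcentQ⟩)
  have hΦ1 : Cfsg.functorTower W (S : Subgroup G) T 1 ∈ Φ :=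
    ⟨hT1wp, hxT1, g₁, by rw [hT1]; exact hg₁, hg₁x⟩
  have hmono := tower_normalizer_mono hW hSp T 0
  have hle := hmax hΦ1 (Subgroup.card_le_of_le hmono)
  have heq : (S : Subgroup G) ⊓ Subgroup.normalizer ((Cfsg.functorTower W (S : Subgroup G) T 0 : Subgroup G) : Set G) =
      (S : Subgroup G) ⊓ Subgroup.normalizer ((Cfsg.functorTower W (S : Subgroup G) T (0 + 1) : Subgroup G) : Set G) :=
    Subgroup.eq_of_le_of_card_ge hmono hle
  have htop := tower_normalizer_eq_top hW hSp T 0 heq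
  have hQS : (S : Subgroup G) ⊓ Subgroup.normalizer ((T : Subgroup G) : Set G) = (S : Subgroup G) := htop
  rw [hQS] at hg₁
  exact hg₁x (hN g₁ hg₁)

end Cfsg.Agent.Lib.Helper13
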