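import Cfsg.Agent.Lib.Helper13.EngB

set_option autoImplicit false

/-! The fixed-point chain lemma modulo an invariant subgroup (helper13). -/

namespace Cfsg.Agent.Lib.Helper13

section QuotRho

variable {G : Type*} [Group G] {H : Type*} [CommGroup H]

/-- An endomorphism as a monoid homomorphism. -/
def endHom (f : Monoid.End H) : H →* H := f

theorem endHom_apply (f : Monoid.End H) (h : H) : endHom f h = f h := rfl

/-- The map induced on the quotient by an invariant subgroup. -/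
def quotEnd (f : Monoid.End H) (H₁ : Subgroup H) (hst : ∀ h ∈ H₁, f h ∈ H₁) :
    Monoid.End (H ⧸ H₁) :=
  QuotientGroup.map H₁ H₁ (endHom f)
    (fun h hh => Subgroup.mem_comap.mpr (by rw [endHom_apply]; exact hst h hh))

theorem quotEnd_mk (f : Monoid.End H) (H₁ : Subgroup H) (hst : ∀ h ∈ H₁, f h ∈ H₁) (h : H) :
    quotEnd f H₁ hst (h : H ⧸ H₁) = ((f h : H) : H ⧸ H₁) := by
  unfold quotEnd
  exact (QuotientGroup.map_mk H₁ H₁ (endHom f) _ h).trans (by rw [endHom_apply])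

/-- The action induced on the quotient by an invariant subgroup. -/
def quotRho (ρ : G →* Monoid.End H) (H₁ : Subgroup H) (hst : ∀ g : G, ∀ h ∈ H₁, ρ g h ∈ H₁) :
    G →* Monoid.End (H ⧸ H₁) where
  toFun g := quotEnd (ρ g) H₁ (hst g)
  map_one' := by
    apply Monoid.End.ext
    intro y
    obtain ⟨h, rfl⟩ := QuotientGroup.mk_surjective y
    rw [quotEnd_mk, map_one]
    rfl
  map_mul' := by
    intro a b
    apply Monoid.End.ext
    intro y
    obtain ⟨h, rfl⟩ := QuotientGroup.mk_surjective y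
    show _ = quotEnd (ρ a) H₁ (hst a) (quotEnd (ρ b) H₁ (hst b) (h : H ⧸ H₁))
    rw [quotEnd_mk, quotEnd_mk, quotEnd_mk, map_mul]
    rfl

theorem quotRho_mk (ρ : G →* Monoid.End H) (H₁ : Subgroup H)
    (hst : ∀ g : G, ∀ h ∈ H₁, ρ g h ∈ H₁) (g : G) (h : H) :
    quotRho ρ H₁ hst g (h : H ⧸ H₁) = ((ρ g h : H) : H ⧸ H₁) :=
  quotEnd_mk (ρ g) H₁ (hst g) h

end QuotRho

section Mod

variable {G : Type*} [Group G] [Finite G] {H : Type*} [CommGroup H]

/-- The fixed-point chain lemma modulo an invariant subgroup `H₁`. -/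
theorem eng_fixed_of_chain_mod {p : ℕ} [Fact p.Prime] (S : Sylow p G) (M : Subgroup G)
    (hSM : (S : Subgroup G) ≤ M) (hmax : ∀ K : Subgroup G, (S : Subgroup G) ≤ K → K ≠ ⊤ → K ≤ M)
    (ρ : G →* Monoid.End H) (H₁ : Subgroup H) (hst : ∀ g : G, ∀ h ∈ H₁, ρ g h ∈ H₁)
    (𝓔 : Set G) (hconj : ∀ e ∈ 𝓔, ∀ g : G, g * e * g⁻¹ ∈ 𝓔)
    (hpow : ∀ e ∈ 𝓔, ∀ k : ℕ, e ^ k ∈ 𝓔)
    (hnn : ¬ (Subgroup.closure (𝓔 ∩ ((S : Subgroup G) : Set G))).Normal) (w : H)
    (hM : ∀ m ∈ M, ρ m w / w ∈ H₁)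
    (hE : ∀ e ∈ 𝓔, ∀ g : G, ∏ i ∈ Finset.range p, ρ (e ^ i * g) w ∈ H₁) :
    ∀ g : G, ρ g w / w ∈ H₁ := by
  have key := eng_fixed_of_chain S M hSM hmax (quotRho ρ H₁ hst) 𝓔 hconj hpow hnn (w : H ⧸ H₁) ?_ ?_
  · intro g
    have := key g
    rw [quotRho_mk] at this
    rw [← QuotientGroup.eq_one_iff, QuotientGroup.mk_div, this, div_self']
  · intro m hm
    rw [quotRho_mk]
    have := (QuotientGroup.eq_one_iff _).mpr (hM m hm)
    rw [QuotientGroup.mk_div, div_eq_one] at this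
    exact this
  · intro e he g
    simp only [quotRho_mk]
    rw [← QuotientGroup.mk_prod]
    exact (QuotientGroup.eq_one_iff _).mpr (hE e he g)

end Mod

end Cfsg.Agent.Lib.Helper13
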