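import Mathlib
import Cfsg.Agent.Lib.Helper13.NormHom
import Cfsg.Agent.Lib.Helper13.ConjFamily
import Cfsg.Agent.Lib.Helper1.Cores

set_option autoImplicit false

namespace Cfsg.Agent.Lib.Helper13

open Cfsg.Agent.Lib.Helper1

/-- The weakly closed elements of a Sylow subgroup `S` form a direct factor of `Z(S)` when `Z(S)`
maps into a normal `p`-subgroup of a quotient by a normal `p'`-subgroup. -/
theorem weakClosed_direct_factor {G H : Type*} [Group G] [Finite G] [Group H] {p : ℕ}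
    [Fact p.Prime] (S : Sylow p G) (π : G →* H) (hπs : Function.Surjective π)
    (hker : (Nat.card π.ker).Coprime p) (Qb : Subgroup H) [hQn : Qb.Normal]
    (hQb : IsPGroup p ↥Qb)
    (hZ : ((S : Subgroup G) ⊓ Subgroup.centralizer ((S : Subgroup G) : Set G)) ≤ Qb.comap π) :
    ∃ W K : Subgroup G,
      (∀ x : G, x ∈ W ↔ (x ∈ (S : Subgroup G) ∧
        ∀ g : G, g * x * g⁻¹ ∈ (S : Subgroup G) → g * x * g⁻¹ = x)) ∧
      K ≤ ((S : Subgroup G) ⊓ Subgroup.centralizer ((S : Subgroup G) : Set G)) ∧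
      W ⊓ K = ⊥ ∧
      W ⊔ K = ((S : Subgroup G) ⊓ Subgroup.centralizer ((S : Subgroup G) : Set G)) := by
  classical
  haveI : Finite H := Finite.of_surjective π hπs
  have hSp : IsPGroup p ↥(S : Subgroup G) := S.isPGroup'
  -- the image Sylow subgroup
  have hQS : Qb ≤ (S : Subgroup G).map π := by
    have h1 : Qb ≤ ((S.mapSurjective hπs : Sylow p H) : Subgroup H) :=
      le_trans (le_pCore hQn hQb) (pCore_le_sylow p _)
    rwa [Sylow.coe_mapSurjective] at h1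
  have hidx : ¬ p ∣ ((S : Subgroup G).map π).index := by
    have h1 := (S.mapSurjective hπs : Sylow p H).not_dvd_index
    rwa [Sylow.coe_mapSurjective] at h1
  obtain ⟨n, hn⟩ : ∃ n : ℕ, n = ((S : Subgroup G).map π).index := ⟨_, rfl⟩
  rw [← hn] at hidx
  have hnp : Nat.Coprime n p := ((Nat.Prime.coprime_iff_not_dvd Fact.out).mpr hidx).symm
  have hcop : ∀ x ∈ (S : Subgroup G), Nat.Coprime n (orderOf x) := by
    intro x hx
    obtain ⟨k, hk⟩ := (IsPGroup.iff_orderOf.mp hSp) ⟨x, hx⟩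
    rw [Subgroup.orderOf_mk] at hk
    rw [hk]
    exact Nat.Coprime.pow_right k hnp
  -- injectivity on S
  have hbot : (S : Subgroup G) ⊓ π.ker = ⊥ := by
    apply Subgroup.inf_eq_bot_of_coprime
    obtain ⟨k, hk⟩ := hSp.exists_card_eq
    rw [hk]
    exact Nat.Coprime.pow_left k hker.symm
  have hinj : ∀ x ∈ (S : Subgroup G), ∀ y ∈ (S : Subgroup G), π x = π y → x = y := by
    intro x hx y hy hxy
    have h1 : x * y⁻¹ ∈ (S : Subgroup G) ⊓ π.ker := by
      refine Subgroup.mem_inf.mpr ⟨mul_mem hx (inv_mem hy), ?_⟩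
      rw [MonoidHom.mem_ker, map_mul, map_inv, hxy, mul_inv_cancel]
    rw [hbot, Subgroup.mem_bot] at h1
    exact mul_inv_eq_one.mp h1
  -- the centre of S
  obtain ⟨Z, hZdef⟩ : ∃ Z : Subgroup G,
      Z = (S : Subgroup G) ⊓ Subgroup.centralizer ((S : Subgroup G) : Set G) := ⟨_, rfl⟩
  rw [← hZdef] at hZ ⊢
  have hZS : Z ≤ (S : Subgroup G) := hZdef ▸ inf_le_left
  have hZc : ∀ z ∈ Z, ∀ s ∈ (S : Subgroup G), s * z = z * s := by
    intro z hz s hs
    rw [hZdef] at hz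
    exact Subgroup.mem_centralizer_iff.mp (Subgroup.mem_inf.mp hz).2 s hs
  -- the abelian normal subgroup
  obtain ⟨A, hAdef⟩ : ∃ A : Subgroup H, A = Qb ⊓ Subgroup.centralizer (Qb : Set H) := ⟨_, rfl⟩
  haveI hAn : A.Normal := by rw [hAdef]; infer_instance
  have hAQ : A ≤ Qb := hAdef ▸ inf_le_left
  have hAcomm : ∀ a ∈ A, ∀ b ∈ A, a * b = b * a := by
    intro a ha b hb
    rw [hAdef] at ha hb
    exact Subgroup.mem_centralizer_iff.mp (Subgroup.mem_inf.mp hb).2 a (Subgroup.mem_inf.mp ha).1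
  have hZA : ∀ z ∈ Z, π z ∈ A := by
    intro z hz
    rw [hAdef]
    refine Subgroup.mem_inf.mpr ⟨hZ hz, ?_⟩
    rw [Subgroup.mem_centralizer_iff]
    intro y hy
    obtain ⟨s, hs, rfl⟩ := hQS hy
    rw [← map_mul, ← map_mul, hZc z hz s hs]
  have hZinv : ∀ z ∈ Z, ∀ t ∈ (S : Subgroup G).map π, t * π z * t⁻¹ = π z := by
    rintro z hz _ ⟨s, hs, rfl⟩
    rw [← map_mul, hZc z hz s hs, map_mul, mul_inv_cancel_right]
  obtain ⟨N, hN1, hN2⟩ := exists_normHom ((S : Subgroup G).map π) A hAcomm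
  rw [← hn] at hN2
  -- W
  obtain ⟨W, hWdef⟩ : ∃ W : Subgroup G, W = (S : Subgroup G) ⊓ (Subgroup.center H).comap π :=
    ⟨_, rfl⟩
  have hWmem : ∀ x, x ∈ W ↔ x ∈ (S : Subgroup G) ∧ π x ∈ Subgroup.center H := by
    intro x
    rw [hWdef, Subgroup.mem_inf, Subgroup.mem_comap]
  have hwcZ : ∀ x ∈ (S : Subgroup G),
      (∀ g : G, g * x * g⁻¹ ∈ (S : Subgroup G) → g * x * g⁻¹ = x) → x ∈ Z := by
    intro x hx hwc
    rw [hZdef]
    refine Subgroup.mem_inf.mpr ⟨hx, ?_⟩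
    rw [Subgroup.mem_centralizer_iff]
    intro s hs
    have h1 := hwc s (mul_mem (mul_mem hs hx) (inv_mem hs))
    exact mul_inv_eq_iff_eq_mul.mp h1
  have hWchar : ∀ x : G, x ∈ W ↔ (x ∈ (S : Subgroup G) ∧
        ∀ g : G, g * x * g⁻¹ ∈ (S : Subgroup G) → g * x * g⁻¹ = x) := by
    intro x
    rw [hWmem]
    constructor
    · rintro ⟨hx, hxc⟩
      refine ⟨hx, fun g hg => hinj _ hg _ hx ?_⟩
      rw [map_mul, map_mul, map_inv, Subgroup.mem_center_iff.mp hxc (π g), mul_inv_cancel_right]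
    · rintro ⟨hx, hwc⟩
      refine ⟨hx, ?_⟩
      have hxZ : x ∈ Z := hwcZ x hx hwc
      rw [Subgroup.mem_center_iff]
      intro h
      obtain ⟨g, rfl⟩ := hπs h
      -- the conjugate y
      have hy1 : π (g * x * g⁻¹) ∈ (S : Subgroup G).map π := by
        apply hQS
        rw [map_mul, map_mul, map_inv]
        exact hQn.conj_mem _ (hZ hxZ) _
      obtain ⟨s, hs, hsy⟩ := hy1
      have hyL : g * x * g⁻¹ ∈ (S : Subgroup G) ⊔ π.ker := by
        have h1 : g * x * g⁻¹ = s * (s⁻¹ * (g * x * g⁻¹)) := by group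
        rw [h1]
        refine Subgroup.mul_mem_sup hs ?_
        rw [MonoidHom.mem_ker, map_mul, map_inv, hsy, inv_mul_cancel]
      obtain ⟨R, hR⟩ : ∃ R : Subgroup G,
          R = (Subgroup.zpowers x).map (MulAut.conj g).toMonoidHom := ⟨_, rfl⟩
      have hRp : IsPGroup p ↥R := by
        rw [hR]
        exact (hSp.to_le (Subgroup.zpowers_le.mpr hx)).map _
      have hRL : R ≤ (S : Subgroup G) ⊔ π.ker := by
        rw [hR, Subgroup.map_le_iff_le_comap, Subgroup.zpowers_le, Subgroup.mem_comap]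
        exact hyL
      have hrel : ¬ p ∣ (S : Subgroup G).relIndex ((S : Subgroup G) ⊔ π.ker) := by
        intro hdvd
        have h1 := Subgroup.relIndex_mul_index (le_sup_left : (S : Subgroup G) ≤ (S : Subgroup G) ⊔ π.ker)
        exact S.not_dvd_index (h1 ▸ Dvd.dvd.mul_right hdvd _)
      obtain ⟨l, hl, hlR⟩ := exists_mem_cj_le_of_relIndex (le_sup_left) hSp hrel hRL hRp
      have hlyS : l * (g * x * g⁻¹) * l⁻¹ ∈ (S : Subgroup G) := by
        apply hlR
        refine ⟨g * x * g⁻¹, ?_, rfl⟩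
        rw [hR]
        exact ⟨x, Subgroup.mem_zpowers x, rfl⟩
      have h2 : (l * g) * x * (l * g)⁻¹ = x := by
        apply hwc
        have h3 : (l * g) * x * (l * g)⁻¹ = l * (g * x * g⁻¹) * l⁻¹ := by group
        rw [h3]
        exact hlyS
      have h4 : g * x * g⁻¹ = l⁻¹ * x * l := by
        calc g * x * g⁻¹ = l⁻¹ * ((l * g) * x * (l * g)⁻¹) * l := by group
          _ = l⁻¹ * x * l := by rw [h2]
      obtain ⟨s', hs', o, ho, rfl⟩ := Subgroup.mem_sup_of_normal_right.mp hl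
      have ho1 : π o = 1 := MonoidHom.mem_ker.mp ho
      have h5 : π (g * x * g⁻¹) = π x := by
        rw [h4, map_mul, map_mul, map_inv, map_mul, ho1, mul_one, ← map_inv, ← map_mul, ← map_mul]
        congr 1
        rw [mul_assoc, ← hZc x hxZ s' hs', inv_mul_cancel_left]
      rw [map_mul, map_mul, map_inv] at h5
      exact mul_inv_eq_iff_eq_mul.mp h5
  have hWZ : W ≤ Z := by
    intro x hx
    obtain ⟨h1, h2⟩ := (hWchar x).mp hx
    exact hwcZ x h1 h2
  -- K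
  obtain ⟨K, hKdef⟩ : ∃ K : Subgroup G, K = Z ⊓ (N.ker.map A.subtype).comap π := ⟨_, rfl⟩
  have hKZ : K ≤ Z := hKdef ▸ inf_le_left
  refine ⟨W, K, hWchar, hKZ, ?_, ?_⟩
  · rw [eq_bot_iff]
    intro x hx
    obtain ⟨hxW, hxK⟩ := Subgroup.mem_inf.mp hx
    rw [hKdef] at hxK
    obtain ⟨-, hxK2⟩ := Subgroup.mem_inf.mp hxK
    obtain ⟨a, haN, hax⟩ := Subgroup.mem_comap.mp hxK2
    obtain ⟨hxS, hxc⟩ := (hWmem x).mp hxW
    have hax' : (a : H) = π x := hax
    have hacen : ∀ g : H, g * (a : H) * g⁻¹ = a := by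
      intro g
      rw [hax', Subgroup.mem_center_iff.mp hxc g, mul_inv_cancel_right]
    have h1 : a ^ n = 1 := by
      rw [← hN2 a hacen]
      exact MonoidHom.mem_ker.mp haN
    have h2 : π (x ^ n) = π 1 := by
      rw [map_pow, map_one, ← hax', ← Subgroup.coe_pow, h1, Subgroup.coe_one]
    have h3 : x ^ n = 1 := hinj _ (pow_mem hxS n) _ (one_mem _) h2
    have h4 : orderOf x = 1 := (hcop x hxS).symm.eq_one_of_dvd (orderOf_dvd_of_pow_eq_one h3)
    rw [Subgroup.mem_bot]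
    exact orderOf_eq_one_iff.mp h4
  · refine le_antisymm (sup_le hWZ hKZ) ?_
    intro z hz
    obtain ⟨a, ha⟩ : ∃ a : ↥A, (a : H) = π z := ⟨⟨π z, hZA z hz⟩, rfl⟩
    have hainv : ∀ t ∈ (S : Subgroup G).map π, t * (a : H) * t⁻¹ = a := by
      intro t ht
      rw [ha]
      exact hZinv z hz t ht
    have hNa := hN1 a hainv
    have hNacen : ((N a : ↥A) : H) ∈ Subgroup.center H :=
      Subgroup.mem_center_iff.mpr (fun g => mul_inv_eq_iff_eq_mul.mp (hNa g))
    obtain ⟨w₀, hw₀S, hw₀⟩ := hQS (hAQ (N a).2)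
    have hw₀W : w₀ ∈ W := (hWmem w₀).mpr ⟨hw₀S, hw₀ ▸ hNacen⟩
    obtain ⟨m, hm⟩ := exists_pow_eq_self_of_coprime (hcop w₀ hw₀S)
    have hwW : w₀ ^ m ∈ W := pow_mem hw₀W m
    have hwn : (w₀ ^ m) ^ n = w₀ := by
      rw [← pow_mul, mul_comm, pow_mul]
      exact hm
    obtain ⟨c, hc⟩ : ∃ c : ↥A, (c : H) = π (w₀ ^ m) := ⟨⟨π (w₀ ^ m), hZA _ (hWZ hwW)⟩, rfl⟩
    have hccen : ∀ g : H, g * (c : H) * g⁻¹ = c := by
      intro g
      rw [hc, Subgroup.mem_center_iff.mp ((hWmem _).mp hwW).2 g, mul_inv_cancel_right]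
    have hNc : N c = N a := by
      rw [hN2 c hccen]
      apply Subtype.ext
      rw [Subgroup.coe_pow, hc, ← map_pow, hwn, hw₀]
    have hzw : z * (w₀ ^ m)⁻¹ ∈ K := by
      rw [hKdef]
      refine Subgroup.mem_inf.mpr ⟨mul_mem hz (inv_mem (hWZ hwW)), ?_⟩
      rw [Subgroup.mem_comap]
      refine ⟨a * c⁻¹, ?_, ?_⟩
      · rw [SetLike.mem_coe, MonoidHom.mem_ker, map_mul, map_inv, hNc, mul_inv_cancel]
      · rw [Subgroup.coe_subtype, Subgroup.coe_mul, Subgroup.coe_inv, ha, hc, map_mul, map_inv]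
    have h1 : z = z * (w₀ ^ m)⁻¹ * (w₀ ^ m) := by group
    rw [h1, sup_comm]
    exact Subgroup.mul_mem_sup hzw hwW

end Cfsg.Agent.Lib.Helper13
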