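import Mathlib
import Cfsg.Prelude.Def_LocalEven

set_option autoImplicit false

/-! The wreath product `C_p ≀ C_p` as a section: the predicate of S3787 and its transport
(helper13). -/

namespace Cfsg.Agent.Lib.Helper13

universe u v

/-- The description of `C_p ≀ C_p` used in S3787. -/
def IsWr (p : ℕ) (W : Type*) [Group W] : Prop :=
  ∃ (B : Subgroup W) (t : W), B.Normal ∧ IsMulCommutative B ∧ (∀ b ∈ B, b ^ p = 1) ∧
    Nat.card B = p ^ p ∧ orderOf t = p ∧ t ∉ B ∧ Nat.card W = p ^ (p + 1) ∧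
    Nat.card ↥(B ⊓ Subgroup.centralizer ({t} : Set W)) = p

theorem IsWr.of_mulEquiv {p : ℕ} {W : Type u} {W' : Type v} [Group W] [Group W'] (e : W ≃* W')
    (h : IsWr p W) : IsWr p W' := by
  obtain ⟨B, t, hBn, hBc, hBe, hBcard, hto, htB, hW, hC⟩ := h
  refine ⟨B.map e.toMonoidHom, e t, hBn.map e.toMonoidHom e.surjective, inferInstance, ?_, ?_, ?_,
    ?_, ?_, ?_⟩
  · rintro _ ⟨b, hb, rfl⟩
    show (e b) ^ p = 1
    rw [← map_pow, hBe b hb, map_one]
  · rw [← hBcard]
    exact Nat.card_congr (B.equivMapOfInjective e.toMonoidHom e.injective).symm.toEquiv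
  · rw [MulEquiv.orderOf_eq, hto]
  · rintro ⟨b, hb, hbt⟩
    have : b = t := e.injective hbt
    exact htB (this ▸ hb)
  · rw [← hW]
    exact Nat.card_congr e.symm.toEquiv
  · rw [← hC]
    have heq : B.map e.toMonoidHom ⊓ Subgroup.centralizer ({e t} : Set W') =
        (B ⊓ Subgroup.centralizer ({t} : Set W)).map e.toMonoidHom := by
      ext x
      rw [Subgroup.mem_inf, Subgroup.mem_map, Subgroup.mem_map]
      constructor
      · rintro ⟨⟨b, hb, rfl⟩, hx2⟩
        refine ⟨b, Subgroup.mem_inf.mpr ⟨hb, ?_⟩, rfl⟩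
        rw [Subgroup.mem_centralizer_singleton_iff] at hx2 ⊢
        apply e.injective
        rw [map_mul, map_mul]
        exact hx2
      · rintro ⟨b, hb', rfl⟩
        obtain ⟨hb, hb2⟩ := Subgroup.mem_inf.mp hb'
        refine ⟨⟨b, hb, rfl⟩, ?_⟩
        rw [Subgroup.mem_centralizer_singleton_iff] at hb2 ⊢
        show e b * e t = e t * e b
        rw [← map_mul, ← map_mul, hb2]
    rw [heq]
    exact Nat.card_congr
      ((B ⊓ Subgroup.centralizer ({t} : Set W)).equivMapOfInjective e.toMonoidHom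
        e.injective).symm.toEquiv

/-- `X` has a subgroup mapping onto a copy of `C_p ≀ C_p`. -/
def InvWr (p : ℕ) (X : Type u) [Group X] : Prop :=
  ∃ (K : Subgroup X) (W : Type u) (_ : Group W) (f : K →* W), Function.Surjective f ∧ IsWr p W

theorem InvWr.of_surjective {p : ℕ} {X Y : Type u} [Group X] [Group Y] (π : X →* Y)
    (hπ : Function.Surjective π) (h : InvWr p Y) : InvWr p X := by
  obtain ⟨K, W, _, f, hf, hW⟩ := h
  refine ⟨K.comap π, W, inferInstance, f.comp (π.subgroupComap K), ?_, hW⟩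
  exact hf.comp (MonoidHom.subgroupComap_surjective_of_surjective π K hπ)

theorem InvWr.of_mulEquiv {p : ℕ} {X Y : Type u} [Group X] [Group Y] (e : X ≃* Y)
    (h : InvWr p X) : InvWr p Y :=
  InvWr.of_surjective e.symm.toMonoidHom e.symm.surjective h

/-- A surjection from a subgroup gives a section. -/
theorem involves_of_surjective {X : Type u} [Group X] (K : Subgroup X) {W : Type v} [Group W]
    (f : K →* W) (hf : Function.Surjective f) : Cfsg.Involves W X := by
  have e : (f.ker.map K.subtype).subgroupOf K = f.ker :=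
    Subgroup.comap_map_eq_self_of_injective K.subtype_injective f.ker
  have hn : ((f.ker.map K.subtype).subgroupOf K).Normal := by rw [e]; infer_instance
  refine ⟨K, f.ker.map K.subtype, hn, ⟨?_⟩⟩
  exact (QuotientGroup.quotientMulEquivOfEq e).trans
    (QuotientGroup.quotientKerEquivOfSurjective f hf)

/-- The hypothesis of S3787 forbids `InvWr` for the Sylow subgroup. -/
theorem not_invWr_of_hyp {p : ℕ} {X : Type u} [Group X] [Finite X]
    (hwr : ∀ (W : Type) [Group W] [Finite W], (∃ (B : Subgroup W) (t : W), B.Normal ∧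
      IsMulCommutative B ∧ (∀ b ∈ B, b ^ p = 1) ∧ Nat.card B = p ^ p ∧ orderOf t = p ∧ t ∉ B ∧
      Nat.card W = p ^ (p + 1) ∧ Nat.card ↥(B ⊓ Subgroup.centralizer ({t} : Set W)) = p) →
      ¬ Cfsg.Involves W X) : ¬ InvWr p X := by
  rintro ⟨K, W, _, f, hf, hW⟩
  haveI : Finite W := Finite.of_surjective f hf
  have e : Shrink.{0} W ≃* W := Shrink.mulEquiv
  have hW' : IsWr p (Shrink.{0} W) := hW.of_mulEquiv e.symm
  apply hwr (Shrink.{0} W) hW'
  exact involves_of_surjective K (e.symm.toMonoidHom.comp f) (e.symm.surjective.comp hf)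

end Cfsg.Agent.Lib.Helper13
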