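import Cfsg.Agent.Lib.Helper13.WrA

set_option autoImplicit false

/-! `C_p ≀ C_p` as a section: passage to a Sylow subgroup (helper13). -/

namespace Cfsg.Agent.Lib.Helper13

universe u v

theorem InvWr.to_sylow {p : ℕ} [hp : Fact p.Prime] {X : Type u} [Group X] [Finite X]
    (h : InvWr p X) (P : Sylow p X) : InvWr p ↥(P : Subgroup X) := by
  obtain ⟨K, W, _, f, hf, hW⟩ := h
  haveI : Finite W := Finite.of_surjective f hf
  obtain ⟨S⟩ : Nonempty (Sylow p ↥K) := inferInstance
  have hWcard : Nat.card W = p ^ (p + 1) := by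
    obtain ⟨B, t, _, _, _, _, _, _, h, _⟩ := hW
    exact h
  have hSf : (S : Subgroup K).map f = ⊤ := by
    have h1 := Sylow.card_eq_multiplicity (S.mapSurjective hf)
    rw [Sylow.coe_mapSurjective, hWcard, Nat.Prime.factorization_pow hp.out,
      Finsupp.single_eq_same] at h1
    apply Subgroup.eq_top_of_card_eq
    rw [h1, hWcard]
  have hS₁p : IsPGroup p ((S : Subgroup K).map K.subtype) := S.isPGroup'.map _
  obtain ⟨Q, hQ⟩ := hS₁p.exists_le_sylow
  have hQ' : InvWr p ↥(Q : Subgroup X) := by
    let e₁ : ((S : Subgroup K).map K.subtype).subgroupOf (Q : Subgroup X) ≃*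
        ((S : Subgroup K).map K.subtype) := Subgroup.subgroupOfEquivOfLe hQ
    let e₂ : (S : Subgroup K) ≃* ((S : Subgroup K).map K.subtype) :=
      (S : Subgroup K).equivMapOfInjective K.subtype K.subtype_injective
    refine ⟨((S : Subgroup K).map K.subtype).subgroupOf (Q : Subgroup X), W, inferInstance,
      (f.comp (S : Subgroup K).subtype).comp (e₂.symm.toMonoidHom.comp e₁.toMonoidHom), ?_, hW⟩
    have hs1 : Function.Surjective (f.comp (S : Subgroup K).subtype) := by
      intro w
      have hw : w ∈ (S : Subgroup K).map f := by rw [hSf]; exact Subgroup.mem_top w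
      obtain ⟨s, hs, rfl⟩ := hw
      exact ⟨⟨s, hs⟩, rfl⟩
    exact hs1.comp (e₂.symm.surjective.comp e₁.surjective)
  exact hQ'.of_mulEquiv (Sylow.equiv Q P)

end Cfsg.Agent.Lib.Helper13
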