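import Cfsg.Agent.Lib.Helper13.WrB
import Cfsg.Agent.Lib.Helper13.Conj
import Cfsg.Agent.Lib.Helper13.FusionLift

set_option autoImplicit false

/-! `C_p ≀ C_p` as a section: recognition from an abelian subgroup and an element acting on it
(helper13). -/

namespace Cfsg.Agent.Lib.Helper13

universe u v

theorem wr_card_map_of_injOn {K : Type u} {Q : Type v} [Group K] [Group Q] (f : K →* Q)
    (H : Subgroup K) (h : ∀ x ∈ H, f x = 1 → x = 1) : Nat.card (H.map f) = Nat.card H := by
  symm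
  apply Nat.card_congr
  refine Equiv.ofBijective (fun x : H => (⟨f x, Subgroup.mem_map_of_mem f x.2⟩ : H.map f)) ⟨?_, ?_⟩
  · intro x y hxy
    have h1 : f (x : K) = f (y : K) := congrArg Subtype.val hxy
    have h2 : f ((x : K) * (y : K)⁻¹) = 1 := by rw [map_mul, map_inv, h1, mul_inv_cancel]
    have h3 := h _ (H.mul_mem x.2 (H.inv_mem y.2)) h2
    apply Subtype.ext
    exact mul_inv_eq_one.mp h3
  · rintro ⟨_, x, hx, rfl⟩
    exact ⟨⟨x, hx⟩, rfl⟩

theorem invWr_of_data {p : ℕ} [hp : Fact p.Prime] {X : Type u} [Group X] [Finite X]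
    (V A : Subgroup X) (t : X)
    (hVc : ∀ a ∈ V, ∀ b ∈ V, a * b = b * a)
    (hAV : A ≤ V) (hAe : ∀ a ∈ A, a ^ p = 1) (hAcard : Nat.card A = p ^ p)
    (htV : t ∉ V) (htp : t ^ p ∈ V)
    (htA : ∀ a ∈ A, t * a * t⁻¹ ∈ A)
    (hR : Subgroup.zpowers (t ^ p) ⊓ A = ⊥)
    (hC : Nat.card ↥(A ⊓ Subgroup.centralizer ({t} : Set X)) = p) : InvWr p X := by
  obtain ⟨K, hK⟩ : ∃ K : Subgroup X, K = A ⊔ Subgroup.zpowers t := ⟨_, rfl⟩
  obtain ⟨R, hRdef⟩ : ∃ R : Subgroup X, R = Subgroup.zpowers (t ^ p) := ⟨_, rfl⟩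
  rw [← hRdef] at hR
  have hAK : A ≤ K := by rw [hK]; exact le_sup_left
  have hzK : Subgroup.zpowers t ≤ K := by rw [hK]; exact le_sup_right
  have htK : t ∈ K := hzK (Subgroup.mem_zpowers t)
  have hRK : R ≤ K := by
    rw [hRdef, Subgroup.zpowers_le]
    exact K.pow_mem htK p
  have hRV : R ≤ V := by
    rw [hRdef, Subgroup.zpowers_le]
    exact htp
  have htnA : t ∈ Subgroup.normalizer (A : Set X) := by
    apply mem_normalizer_of_cj_le
    intro x hx
    have h1 := mem_cj.mp hx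
    have e : x = t * (t⁻¹ * x * t) * t⁻¹ := by group
    rw [e]
    exact htA _ h1
  have hKnA : K ≤ Subgroup.normalizer (A : Set X) := by
    rw [hK]
    exact sup_le Subgroup.le_normalizer ((Subgroup.zpowers_le).mpr htnA)
  have hKcR : K ≤ Subgroup.centralizer (R : Set X) := by
    rw [hK]
    apply sup_le
    · intro a ha
      rw [Subgroup.mem_centralizer_iff]
      intro r hr
      exact hVc r (hRV hr) a (hAV ha)
    · rw [Subgroup.zpowers_le, Subgroup.mem_centralizer_iff]
      intro r hr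
      rw [SetLike.mem_coe, hRdef, Subgroup.mem_zpowers_iff] at hr
      obtain ⟨k, rfl⟩ := hr
      exact (((Commute.refl t).pow_left p).zpow_left k).eq
  haveI hRkn : (R.subgroupOf K).Normal :=
    (Subgroup.normal_subgroupOf_iff_le_normalizer hRK).mpr
      (hKcR.trans (Subgroup.centralizer_le_normalizer _))
  have hAkn : (A.subgroupOf K).Normal :=
    (Subgroup.normal_subgroupOf_iff_le_normalizer hAK).mpr hKnA
  obtain ⟨π, hπ⟩ : ∃ π : K →* K ⧸ R.subgroupOf K, π = QuotientGroup.mk' (R.subgroupOf K) :=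
    ⟨_, rfl⟩
  have hπs : Function.Surjective π := by rw [hπ]; exact QuotientGroup.mk'_surjective _
  have hπ1 : ∀ a : K, π a = 1 ↔ (a : X) ∈ R := by
    intro a
    rw [hπ, QuotientGroup.mk'_apply, QuotientGroup.eq_one_iff, Subgroup.mem_subgroupOf]
  have hinj : ∀ a ∈ A.subgroupOf K, π a = 1 → a = 1 := by
    intro a ha h1
    have h2 : (a : X) ∈ R ⊓ A := Subgroup.mem_inf.mpr ⟨(hπ1 a).mp h1, Subgroup.mem_subgroupOf.mp ha⟩
    rw [hR, Subgroup.mem_bot] at h2
    exact Subtype.ext h2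
  obtain ⟨tk, htk⟩ : ∃ tk : K, tk = ⟨t, htK⟩ := ⟨_, rfl⟩
  have htkc : (tk : X) = t := by rw [htk]
  have htkp : π tk ^ p = 1 := by
    rw [← map_pow, hπ1, Subgroup.coe_pow, htkc, hRdef]
    exact Subgroup.mem_zpowers _
  have htk1 : π tk ≠ 1 := by
    intro h
    rw [hπ1, htkc] at h
    exact htV (hRV h)
  have htkB : π tk ∉ (A.subgroupOf K).map π := by
    rintro ⟨a, ha, h⟩
    have h1 : π (a⁻¹ * tk) = 1 := by rw [map_mul, map_inv, h, inv_mul_cancel]
    rw [hπ1, Subgroup.coe_mul, Subgroup.coe_inv, htkc] at h1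
    apply htV
    have e : t = (a : X) * ((a : X)⁻¹ * t) := by group
    rw [e]
    exact V.mul_mem (hAV (Subgroup.mem_subgroupOf.mp ha)) (hRV h1)
  refine ⟨K, K ⧸ R.subgroupOf K, inferInstance, π, hπs, (A.subgroupOf K).map π, π tk,
    hAkn.map π hπs, ?_, ?_, ?_, orderOf_eq_prime htkp htk1, htkB, ?_, ?_⟩
  · -- commutative
    haveI : IsMulCommutative ↥(A.subgroupOf K) := by
      refine ⟨⟨fun a b => ?_⟩⟩
      apply Subtype.ext
      apply Subtype.ext
      simp only [Subgroup.coe_mul]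
      exact hVc _ (hAV (Subgroup.mem_subgroupOf.mp a.2)) _ (hAV (Subgroup.mem_subgroupOf.mp b.2))
    infer_instance
  · rintro _ ⟨a, ha, rfl⟩
    rw [← map_pow]
    have : a ^ p = 1 := by
      apply Subtype.ext
      rw [Subgroup.coe_pow, Subgroup.coe_one]
      exact hAe _ (Subgroup.mem_subgroupOf.mp ha)
    rw [this, map_one]
  · rw [wr_card_map_of_injOn π _ hinj, ← hAcard]
    exact Nat.card_congr (Subgroup.subgroupOfEquivOfLe hAK).toEquiv
  · -- the order of the quotient
    have hBn : ((A.subgroupOf K).map π).Normal := hAkn.map π hπs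
    have hBcard : Nat.card ↥((A.subgroupOf K).map π) = p ^ p := by
      rw [wr_card_map_of_injOn π _ hinj, ← hAcard]
      exact Nat.card_congr (Subgroup.subgroupOfEquivOfLe hAK).toEquiv
    obtain ⟨g, hg⟩ : ∃ g : (K ⧸ R.subgroupOf K) ⧸ (A.subgroupOf K).map π,
      g = QuotientGroup.mk' ((A.subgroupOf K).map π) (π tk) := ⟨_, rfl⟩
    have hgp : g ^ p = 1 := by rw [hg, ← map_pow, htkp, map_one]
    have hg1 : g ≠ 1 := by
      rw [hg]
      intro h
      rw [QuotientGroup.mk'_apply, QuotientGroup.eq_one_iff] at h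
      exact htkB h
    have hgo : orderOf g = p := orderOf_eq_prime hgp hg1
    have htop : (⊤ : Subgroup ((K ⧸ R.subgroupOf K) ⧸ (A.subgroupOf K).map π)) ≤
        Subgroup.zpowers g := by
      intro q _
      obtain ⟨q', rfl⟩ := QuotientGroup.mk'_surjective ((A.subgroupOf K).map π) q
      obtain ⟨k, rfl⟩ := hπs q'
      have hk : (k : X) ∈ Subgroup.zpowers t ⊔ A := by
        rw [sup_comm, ← hK]; exact k.2
      obtain ⟨a, ha, z, hz, hkaz⟩ :=
        mem_sup_of_le_normalizer' ((Subgroup.zpowers_le).mpr htnA) hk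
      obtain ⟨n, rfl⟩ := Subgroup.mem_zpowers_iff.mp hz
      have hk' : k = (⟨a, hAK ha⟩ : K) * tk ^ n := by
        apply Subtype.ext
        rw [Subgroup.coe_mul, Subgroup.coe_zpow, htkc]
        exact hkaz
      rw [Subgroup.mem_zpowers_iff]
      refine ⟨n, ?_⟩
      rw [hk', map_mul, map_mul, map_zpow, map_zpow, ← hg]
      have : QuotientGroup.mk' ((A.subgroupOf K).map π) (π ⟨a, hAK ha⟩) = 1 := by
        rw [QuotientGroup.mk'_apply, QuotientGroup.eq_one_iff]
        exact Subgroup.mem_map_of_mem π (Subgroup.mem_subgroupOf.mpr ha)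
      rw [this, one_mul]
    have hidx : ((A.subgroupOf K).map π).index = p := by
      rw [Subgroup.index_eq_card, ← Subgroup.card_top, le_antisymm htop le_top,
        Nat.card_zpowers, hgo]
    rw [← Subgroup.card_mul_index ((A.subgroupOf K).map π), hBcard, hidx, pow_succ]
  · -- the centralizer
    have heq : (A.subgroupOf K).map π ⊓ Subgroup.centralizer ({π tk} : Set (K ⧸ R.subgroupOf K)) =
        ((A ⊓ Subgroup.centralizer ({t} : Set X)).subgroupOf K).map π := by
      ext x
      rw [Subgroup.mem_inf, Subgroup.mem_map, Subgroup.mem_map]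
      constructor
      · rintro ⟨⟨a, ha, rfl⟩, hx2⟩
        refine ⟨a, ?_, rfl⟩
        rw [Subgroup.mem_centralizer_singleton_iff] at hx2
        have haA : (a : X) ∈ A := Subgroup.mem_subgroupOf.mp ha
        have h1 : π (a * tk * a⁻¹ * tk⁻¹) = 1 := by
          rw [map_mul, map_mul, map_mul, map_inv, map_inv, hx2]
          group
        rw [hπ1] at h1
        simp only [Subgroup.coe_mul, Subgroup.coe_inv, htkc] at h1
        have h2 : (a : X) * t * (a : X)⁻¹ * t⁻¹ ∈ R ⊓ A := by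
          apply Subgroup.mem_inf.mpr
          refine ⟨h1, ?_⟩
          have e : (a : X) * t * (a : X)⁻¹ * t⁻¹ = (a : X) * (t * (a : X)⁻¹ * t⁻¹) := by group
          rw [e]
          exact A.mul_mem haA (htA _ (A.inv_mem haA))
        rw [hR, Subgroup.mem_bot] at h2
        rw [Subgroup.mem_subgroupOf, Subgroup.mem_inf]
        refine ⟨haA, ?_⟩
        rw [Subgroup.mem_centralizer_singleton_iff]
        calc (a : X) * t = ((a : X) * t * (a : X)⁻¹ * t⁻¹) * (t * (a : X)) := by group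
          _ = t * (a : X) := by rw [h2, one_mul]
      · rintro ⟨a, ha, rfl⟩
        rw [Subgroup.mem_subgroupOf, Subgroup.mem_inf] at ha
        obtain ⟨haA, hat⟩ := ha
        refine ⟨⟨a, Subgroup.mem_subgroupOf.mpr haA, rfl⟩, ?_⟩
        rw [Subgroup.mem_centralizer_singleton_iff] at hat ⊢
        rw [← map_mul, ← map_mul]
        congr 1
        apply Subtype.ext
        rw [Subgroup.coe_mul, Subgroup.coe_mul, htkc]
        exact hat
    rw [heq, wr_card_map_of_injOn π _ (fun a ha => hinj a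
      (Subgroup.mem_subgroupOf.mpr (Subgroup.mem_inf.mp (Subgroup.mem_subgroupOf.mp ha)).1)),
      ← hC]
    exact Nat.card_congr (Subgroup.subgroupOfEquivOfLe (inf_le_left.trans hAK)).toEquiv

end Cfsg.Agent.Lib.Helper13
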