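import Mathlib

set_option autoImplicit false

/-! The cyclic submodule generated by a vector under a nilpotent operator (helper13). -/

namespace Cfsg.Agent.Lib.Helper13

open Module

section

variable {K M : Type*} [Field K] [AddCommGroup M] [Module K M]

theorem nil_indep (ν : End K M) (m₀ : M) (n : ℕ) (h0 : (ν ^ (n + 1)) m₀ = 0)
    (h1 : (ν ^ n) m₀ ≠ 0) (e : ℕ → K)
    (hs : ∑ i ∈ Finset.range (n + 1), e i • (ν ^ i) m₀ = 0) : ∀ i ≤ n, e i = 0 := by
  intro i
  induction i using Nat.strong_induction_on with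
  | _ i ih =>
    intro hi
    have h2 := congrArg (ν ^ (n - i)) hs
    rw [map_sum, map_zero] at h2
    have h3 : ∑ j ∈ Finset.range (n + 1), (ν ^ (n - i)) (e j • (ν ^ j) m₀) = e i • (ν ^ n) m₀ := by
      rw [Finset.sum_eq_single i]
      · rw [map_smul, ← Module.End.mul_apply, ← pow_add, Nat.sub_add_cancel hi]
      · intro j hj hji
        rw [map_smul, ← Module.End.mul_apply, ← pow_add]
        rcases lt_or_gt_of_ne hji with h | h
        · rw [ih j h (by omega), zero_smul]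
        · have : n - i + j = (n - i + j - (n + 1)) + (n + 1) := by omega
          rw [this, pow_add, Module.End.mul_apply, h0, map_zero, smul_zero]
      · intro h
        exact absurd (Finset.mem_range.mpr (by omega)) h
    rw [h3] at h2
    exact (smul_eq_zero.mp h2).resolve_right h1

/-- The cyclic submodule. -/
def cycSub (ν : End K M) (m₀ : M) (n : ℕ) : Submodule K M :=
  Submodule.span K (Set.range fun i : Fin (n + 1) => (ν ^ (i : ℕ)) m₀)

theorem mem_cycSub_iff (ν : End K M) (m₀ : M) (n : ℕ) (w : M) :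
    w ∈ cycSub ν m₀ n ↔ ∃ e : ℕ → K, w = ∑ i ∈ Finset.range (n + 1), e i • (ν ^ i) m₀ := by
  unfold cycSub
  rw [Submodule.mem_span_range_iff_exists_fun]
  constructor
  · rintro ⟨c, rfl⟩
    refine ⟨fun i => if h : i < n + 1 then c ⟨i, h⟩ else 0, ?_⟩
    rw [← Fin.sum_univ_eq_sum_range (fun i => (if h : i < n + 1 then c ⟨i, h⟩ else 0) • (ν ^ i) m₀)
      (n + 1)]
    apply Finset.sum_congr rfl
    intro i _
    rw [dif_pos i.2]
  · rintro ⟨e, rfl⟩
    refine ⟨fun i => e i, ?_⟩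
    rw [← Fin.sum_univ_eq_sum_range (fun i => e i • (ν ^ i) m₀) (n + 1)]

theorem pow_mem_cycSub (ν : End K M) (m₀ : M) (n : ℕ) {i : ℕ} (hi : i ≤ n) :
    (ν ^ i) m₀ ∈ cycSub ν m₀ n :=
  Submodule.subset_span ⟨⟨i, by omega⟩, rfl⟩

theorem cycSub_invariant (ν : End K M) (m₀ : M) (n : ℕ) (h0 : (ν ^ (n + 1)) m₀ = 0)
    {w : M} (hw : w ∈ cycSub ν m₀ n) : ν w ∈ cycSub ν m₀ n := by
  obtain ⟨e, rfl⟩ := (mem_cycSub_iff ν m₀ n w).mp hw
  rw [map_sum]
  apply Submodule.sum_mem
  intro i hi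
  rw [map_smul]
  apply Submodule.smul_mem
  have e1 : ν ((ν ^ i) m₀) = (ν ^ (i + 1)) m₀ := by
    rw [pow_succ', Module.End.mul_apply]
  rw [e1]
  by_cases h : i + 1 ≤ n
  · exact pow_mem_cycSub ν m₀ n h
  · have : i + 1 = n + 1 := by
      have := Finset.mem_range.mp hi
      omega
    rw [this, h0]
    exact Submodule.zero_mem _

theorem cycSub_linearIndependent (ν : End K M) (m₀ : M) (n : ℕ) (h0 : (ν ^ (n + 1)) m₀ = 0)
    (h1 : (ν ^ n) m₀ ≠ 0) : LinearIndependent K (fun i : Fin (n + 1) => (ν ^ (i : ℕ)) m₀) := by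
  rw [Fintype.linearIndependent_iff]
  intro g hg i
  have h2 : ∑ j ∈ Finset.range (n + 1),
      (fun j => if h : j < n + 1 then g ⟨j, h⟩ else 0) j • (ν ^ j) m₀ = 0 := by
    rw [← Fin.sum_univ_eq_sum_range (fun j => (if h : j < n + 1 then g ⟨j, h⟩ else 0) • (ν ^ j) m₀)
      (n + 1), ← hg]
    apply Finset.sum_congr rfl
    intro j _
    rw [dif_pos j.2]
  have h3 := nil_indep ν m₀ n h0 h1 _ h2 i (by have := i.2; omega)
  simp only [dif_pos i.2] at h3
  exact h3

theorem card_cycSub [Finite K] [Module.Finite K M] (ν : End K M) (m₀ : M) (n : ℕ)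
    (h0 : (ν ^ (n + 1)) m₀ = 0) (h1 : (ν ^ n) m₀ ≠ 0) :
    Nat.card ↥(cycSub ν m₀ n) = Nat.card K ^ (n + 1) := by
  rw [Module.natCard_eq_pow_finrank (K := K)]
  unfold cycSub
  rw [finrank_span_eq_card (cycSub_linearIndependent ν m₀ n h0 h1), Fintype.card_fin]

/-- The vectors of the cyclic submodule killed by `ν` are the multiples of the last one. -/
theorem cycSub_ker (ν : End K M) (m₀ : M) (n : ℕ) (h0 : (ν ^ (n + 1)) m₀ = 0)
    (h1 : (ν ^ n) m₀ ≠ 0) {w : M} (hw : w ∈ cycSub ν m₀ n) (hνw : ν w = 0) :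
    ∃ k : K, w = k • (ν ^ n) m₀ := by
  obtain ⟨e, rfl⟩ := (mem_cycSub_iff ν m₀ n w).mp hw
  refine ⟨e n, ?_⟩
  -- the shifted coefficients vanish
  have h2 : ∑ j ∈ Finset.range (n + 1), (fun j => if j = 0 then 0 else e (j - 1)) j • (ν ^ j) m₀
      = 0 := by
    rw [Finset.sum_range_succ']
    simp only [if_pos, zero_smul, add_zero, Nat.add_sub_cancel, Nat.succ_ne_zero, if_false]
    rw [map_sum] at hνw
    rw [Finset.sum_range_succ] at hνw
    have e2 : ν (e n • (ν ^ n) m₀) = 0 := by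
      rw [map_smul, ← Module.End.mul_apply, ← pow_succ', h0, smul_zero]
    rw [e2, add_zero] at hνw
    rw [← hνw]
    apply Finset.sum_congr rfl
    intro i _
    rw [map_smul, ← Module.End.mul_apply, ← pow_succ']
  have h3 := nil_indep ν m₀ n h0 h1 _ h2
  rw [Finset.sum_range_succ]
  have h4 : ∑ i ∈ Finset.range n, e i • (ν ^ i) m₀ = 0 := by
    apply Finset.sum_eq_zero
    intro i hi
    have hi' := Finset.mem_range.mp hi
    have := h3 (i + 1) (by omega)
    simp only [Nat.succ_ne_zero, if_false, Nat.add_sub_cancel] at this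
    rw [this, zero_smul]
  rw [h4, zero_add]

end

end Cfsg.Agent.Lib.Helper13
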