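import Cfsg.Agent.Lib.Helper13.WrD
import Cfsg.Agent.Lib.Helper11.FrobGrpCore
import Cfsg.Agent.Lib.Helper20.HHModD

set_option autoImplicit false

/-! An automorphism of order `p` of an elementary abelian `p`-group with nonzero norm has an
invariant subgroup on which it acts as on the regular module (helper13). -/

namespace Cfsg.Agent.Lib.Helper13

open Module Cfsg.Agent.Lib.Helper11.FrobGrpCore

theorem exists_regular_sub_aux (p : ℕ) [hp : Fact p.Prime] {V : Type*} [CommGroup V] [Finite V]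
    [Module (ZMod p) (Additive V)] (γ : MulAut V) (hγ : γ ^ p = 1) (v₀ : V)
    (hv₀ : ∏ i ∈ Finset.range p, (γ ^ i) v₀ ≠ 1) :
    ∃ A : Subgroup V, (∀ x ∈ A, γ x ∈ A) ∧ Nat.card A = p ^ p ∧
      Nat.card {x : V // x ∈ A ∧ γ x = x} = p ∧
      (∀ x ∈ A, γ x = x → ∃ w : V, x = ∏ i ∈ Finset.range p, (γ ^ i) w) := by
  have hfin : Module.Finite (ZMod p) (Additive V) := Module.Finite.of_finite
  have hp1 : 1 ≤ p := hp.out.pos
  obtain ⟨n, hn⟩ : ∃ n : ℕ, n + 1 = p := ⟨p - 1, Nat.sub_add_cancel hp1⟩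
  obtain ⟨c, hc⟩ : ∃ c : End (ZMod p) (Additive V), c = linRep p (MonoidHom.id (MulAut V)) γ :=
    ⟨_, rfl⟩
  have hcapp : ∀ (i : ℕ) (a : Additive V), (c ^ i) a = Additive.ofMul ((γ ^ i) (Additive.toMul a)) := by
    intro i a
    rw [hc, ← map_pow, linRep_apply]
    rfl
  have hcp : c ^ p = 1 := by
    rw [hc, ← map_pow, hγ, map_one]
  have hg := Cfsg.Agent.Lib.Helper20.HHMod.geom_char (K := ZMod p) p c 1
  rw [pow_one] at hg
  obtain ⟨ν, hν⟩ : ∃ ν : End (ZMod p) (Additive V), ν = c - 1 := ⟨_, rfl⟩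
  rw [← hν] at hg
  have hνp : ν ^ (n + 1) = 0 := by rw [hn, hg.1, hcp, sub_self]
  have hN : ∑ i ∈ Finset.range p, c ^ i = ν ^ n := by
    rw [hg.2]
    congr 1
    omega
  have hNapp : ∀ a : Additive V,
      (ν ^ n) a = Additive.ofMul (∏ i ∈ Finset.range p, (γ ^ i) (Additive.toMul a)) := by
    intro a
    rw [← hN, LinearMap.sum_apply, ofMul_prod]
    apply Finset.sum_congr rfl
    intro i _
    exact hcapp i a
  obtain ⟨m₀, hm₀⟩ : ∃ m₀ : Additive V, m₀ = Additive.ofMul v₀ := ⟨_, rfl⟩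
  have h0 : (ν ^ (n + 1)) m₀ = 0 := by rw [hνp]; rfl
  have h1 : (ν ^ n) m₀ ≠ 0 := by
    rw [hNapp, hm₀]
    intro h
    exact hv₀ (Additive.ofMul.injective h)
  have hcν : ∀ a : Additive V, c a = ν a + a := by
    intro a
    rw [hν, LinearMap.sub_apply, Module.End.one_apply, sub_add_cancel]
  have hfix : ∀ x : V, γ x = x ↔ ν (Additive.ofMul x) = 0 := by
    intro x
    have e1 : c (Additive.ofMul x) = Additive.ofMul (γ x) := by
      have := hcapp 1 (Additive.ofMul x)
      rwa [pow_one, pow_one] at this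
    constructor
    · intro h
      have := hcν (Additive.ofMul x)
      rw [e1, h] at this
      exact (add_eq_right.mp this.symm)
    · intro h
      have := hcν (Additive.ofMul x)
      rw [e1, h, zero_add] at this
      exact Additive.ofMul.injective this
  -- the subgroup
  let A : Subgroup V :=
    { carrier := {x | Additive.ofMul x ∈ cycSub ν m₀ n}
      one_mem' := (cycSub ν m₀ n).zero_mem
      mul_mem' := fun {a b} ha hb => (cycSub ν m₀ n).add_mem ha hb
      inv_mem' := fun {a} ha => (cycSub ν m₀ n).neg_mem ha }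
  have hA : ∀ x : V, x ∈ A ↔ Additive.ofMul x ∈ cycSub ν m₀ n := fun x => Iff.rfl
  refine ⟨A, ?_, ?_, ?_, ?_⟩
  · intro x hx
    rw [hA] at hx ⊢
    have e1 : Additive.ofMul (γ x) = c (Additive.ofMul x) := by
      have := hcapp 1 (Additive.ofMul x)
      rw [pow_one, pow_one] at this
      exact this.symm
    rw [e1, hcν]
    exact (cycSub ν m₀ n).add_mem (cycSub_invariant ν m₀ n h0 hx) hx
  · have e1 : Nat.card ↥A = Nat.card ↥(cycSub ν m₀ n) :=
      Nat.card_congr (Equiv.subtypeEquiv Additive.ofMul (fun x => Iff.rfl))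
    rw [e1, card_cycSub ν m₀ n h0 h1, Nat.card_zmod, hn]
  · -- the fixed points
    have hz : (ν ^ n) m₀ ≠ 0 := h1
    have hmem : ∀ k : ZMod p, Additive.toMul (k • (ν ^ n) m₀) ∈ A ∧
        γ (Additive.toMul (k • (ν ^ n) m₀)) = Additive.toMul (k • (ν ^ n) m₀) := by
      intro k
      constructor
      · rw [hA]
        exact (cycSub ν m₀ n).smul_mem k (pow_mem_cycSub ν m₀ n le_rfl)
      · rw [hfix]
        show ν (k • (ν ^ n) m₀) = 0
        rw [map_smul, ← Module.End.mul_apply, ← pow_succ', h0, smul_zero]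
    have e1 : Nat.card {x : V // x ∈ A ∧ γ x = x} = Nat.card (ZMod p) := by
      symm
      apply Nat.card_congr
      refine Equiv.ofBijective (fun k : ZMod p => ⟨Additive.toMul (k • (ν ^ n) m₀), hmem k⟩)
        ⟨?_, ?_⟩
      · intro k k' hkk
        have h2 : k • (ν ^ n) m₀ = k' • (ν ^ n) m₀ :=
          Additive.toMul.injective (congrArg Subtype.val hkk)
        have h3 : (k - k') • (ν ^ n) m₀ = 0 := by rw [sub_smul, h2, sub_self]
        exact sub_eq_zero.mp ((smul_eq_zero.mp h3).resolve_right hz)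
      · rintro ⟨x, hxA, hxf⟩
        obtain ⟨k, hk⟩ := cycSub_ker ν m₀ n h0 h1 ((hA x).mp hxA) ((hfix x).mp hxf)
        refine ⟨k, ?_⟩
        apply Subtype.ext
        show Additive.toMul (k • (ν ^ n) m₀) = x
        rw [← hk]
        rfl
    rw [e1, Nat.card_zmod]
  · intro x hxA hxf
    obtain ⟨k, hk⟩ := cycSub_ker ν m₀ n h0 h1 ((hA x).mp hxA) ((hfix x).mp hxf)
    refine ⟨Additive.toMul (k • m₀), ?_⟩
    have e2 : k • (ν ^ n) m₀ = (ν ^ n) (k • m₀) := by rw [map_smul]
    rw [e2, hNapp] at hk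
    exact Additive.ofMul.injective hk

theorem exists_regular_sub (p : ℕ) [hp : Fact p.Prime] {V : Type*} [CommGroup V] [Finite V]
    (hV : ∀ v : V, v ^ p = 1) (γ : MulAut V) (hγ : γ ^ p = 1) (v₀ : V)
    (hv₀ : ∏ i ∈ Finset.range p, (γ ^ i) v₀ ≠ 1) :
    ∃ A : Subgroup V, (∀ x ∈ A, γ x ∈ A) ∧ Nat.card A = p ^ p ∧
      Nat.card {x : V // x ∈ A ∧ γ x = x} = p ∧
      (∀ x ∈ A, γ x = x → ∃ w : V, x = ∏ i ∈ Finset.range p, (γ ^ i) w) := by
  have hA : ∀ a : Additive V, p • a = 0 := by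
    intro a
    have := hV (Additive.toMul a)
    exact congrArg Additive.ofMul this
  exact @exists_regular_sub_aux p _ V _ _ (AddCommGroup.zmodModule hA) γ hγ v₀ hv₀

end Cfsg.Agent.Lib.Helper13
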