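import Cfsg.Agent.Lib.Helper20.HHThmH
import Cfsg.Agent.Lib.Helper20.HHAbelB

set_option autoImplicit false

/-! Hall–Higman Theorem B, group form for an element of order `p`, `p` odd and not a Fermat prime
(helper13; the theorem itself is helper20's). -/

namespace Cfsg.Agent.Lib.Helper13

open Module Cfsg.Agent.Lib.Helper11.FrobGrpCore

theorem hhB_group_aux (p : ℕ) [hp : Fact p.Prime] (hp2 : p ≠ 2) (hnf : ¬ ∃ k : ℕ, p = 2 ^ k + 1)
    {V : Type*} [CommGroup V] [Finite V] [Module (ZMod p) (Additive V)]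
    {Γ : Type*} [Group Γ] [Finite Γ] (φ : Γ →* MulAut V) (hφ : Function.Injective φ)
    (hsolv : Cfsg.IsPSolvable p Γ) (hO : Cfsg.pCore p Γ = ⊥)
    (α : Γ) (hα : α ^ p = 1) (hα1 : α ≠ 1) :
    ∃ v : V, ∏ i ∈ Finset.range p, φ (α ^ i) v ≠ 1 := by
  have hfin : Module.Finite (ZMod p) (Additive V) := Module.Finite.of_finite
  have hinj : Function.Injective (linRep p φ) := by
    intro a b hab
    apply hφ
    apply MulEquiv.ext
    intro v
    have h1 := congrArg (fun f => f (Additive.ofMul v)) hab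
    simp only [linRep_apply] at h1
    exact congrArg Additive.toMul h1
  obtain ⟨q, hq, hqp, Q, hQ, hαQ, z, hz, hzne⟩ :=
    Cfsg.Agent.Lib.Helper20.HHThm.exists_moved hsolv hO α (m := 1) le_rfl
      (by rw [pow_one]; exact hα) (by rw [Nat.sub_self, pow_zero, pow_one]; exact hα1)
  haveI : Fact q.Prime := ⟨hq⟩
  by_contra hcon
  push Not at hcon
  have hsum : ∑ i ∈ Finset.range p, linRep p φ α ^ i = 0 := by
    apply LinearMap.ext
    intro a
    rw [LinearMap.zero_apply, LinearMap.sum_apply]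
    have h1 : ∀ i ∈ Finset.range p, (linRep p φ α ^ i) a =
        Additive.ofMul (φ (α ^ i) (Additive.toMul a)) := by
      intro i _
      rw [← map_pow, linRep_apply]
    rw [Finset.sum_congr rfl h1, ← ofMul_prod, hcon (Additive.toMul a)]
    rfl
  have hg := (Cfsg.Agent.Lib.Helper20.HHMod.geom_char (K := ZMod p) p (linRep p φ α) 1).2
  rw [pow_one] at hg
  have h5 : (linRep p φ α - 1) ^ (p - 1) = 0 := by rw [← hg]; exact hsum
  have hconcl := Cfsg.Agent.Lib.Helper20.HHThm.main_field (k := ZMod p) (fun h => hqp h.symm)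
    (linRep p φ) Q hQ α hαQ 1 le_rfl (by rw [pow_one]; exact hα)
    ⟨z, hz, fun h => hzne (hinj h)⟩ (p - 1) h5
  have hp1 : 2 ≤ p := hp.out.two_le
  rcases hconcl with h | ⟨n₀, m, h1, h2, h3, h4, _, _⟩
  · rw [pow_one] at h
    omega
  · have hn₀ : n₀ = 1 := by omega
    rw [hn₀, pow_one] at h4
    have hodd : Odd p := hp.out.odd_of_ne_two hp2
    have h2q : 2 ∣ q ^ m := by
      rw [← h4]
      obtain ⟨k, hk⟩ := hodd
      omega
    have hq2 : q = 2 :=
      ((Nat.prime_dvd_prime_iff_eq Nat.prime_two hq).mp (Nat.prime_two.dvd_of_dvd_pow h2q)).symm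
    apply hnf
    refine ⟨m, ?_⟩
    rw [hq2] at h4
    omega

theorem hhB_group (p : ℕ) [hp : Fact p.Prime] (hp2 : p ≠ 2) (hnf : ¬ ∃ k : ℕ, p = 2 ^ k + 1)
    {V : Type*} [CommGroup V] [Finite V] (hV : ∀ v : V, v ^ p = 1)
    {Γ : Type*} [Group Γ] [Finite Γ] (φ : Γ →* MulAut V) (hφ : Function.Injective φ)
    (hsolv : Cfsg.IsPSolvable p Γ) (hO : Cfsg.pCore p Γ = ⊥)
    (α : Γ) (hα : α ^ p = 1) (hα1 : α ≠ 1) :
    ∃ v : V, ∏ i ∈ Finset.range p, φ (α ^ i) v ≠ 1 := by
  have hA : ∀ a : Additive V, p • a = 0 := by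
    intro a
    have := hV (Additive.toMul a)
    exact congrArg Additive.ofMul this
  exact @hhB_group_aux p _ hp2 hnf V _ _ (AddCommGroup.zmodModule hA) Γ _ _ φ hφ hsolv hO α hα hα1

end Cfsg.Agent.Lib.Helper13
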