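import Cfsg.Agent.Lib.Helper13.WrC
import Cfsg.Agent.Lib.Helper13.WrE
import Cfsg.Agent.Lib.Helper13.WrF
import Cfsg.Agent.Lib.Helper20.HHAbelC

set_option autoImplicit false

/-! S3787, the case where `O_p` is elementary abelian and self-centralizing (helper13; the frame of
the argument follows helper20's `pow_mem_pCore_of_setting`). -/

namespace Cfsg.Agent.Lib.Helper13

open scoped IsMulCommutative
open Cfsg.Agent.Lib.Helper20.CycNorm

universe u

theorem wr_gen_of_mem_zpowers {G : Type*} [Group G] {p : ℕ} [hp : Fact p.Prime] {c r : G}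
    (hc : c ^ p = 1) (hr : r ∈ Subgroup.zpowers c) (hr1 : r ≠ 1) : c ∈ Subgroup.zpowers r := by
  have hc1 : c ≠ 1 := by
    intro h
    rw [h, Subgroup.zpowers_one_eq_bot, Subgroup.mem_bot] at hr
    exact hr1 hr
  have hcard : Nat.card ↥(Subgroup.zpowers c) = p := by
    rw [Nat.card_zpowers]
    exact orderOf_eq_prime hc hc1
  have hg : (⟨r, hr⟩ : ↥(Subgroup.zpowers c)) ≠ 1 := fun h => hr1 (congrArg Subtype.val h)
  have := mem_zpowers_of_prime_card hcard (g' := (⟨c, Subgroup.mem_zpowers c⟩ : ↥(Subgroup.zpowers c))) hg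
  obtain ⟨k, hk⟩ := Subgroup.mem_zpowers_iff.mp this
  rw [Subgroup.mem_zpowers_iff]
  refine ⟨k, ?_⟩
  have := congrArg Subtype.val hk
  simpa using this

variable {L : Type u} [Group L] [Finite L] {p : ℕ} [Fact p.Prime]

theorem wr_setting (hp2 : p ≠ 2) (hnf : ¬ ∃ k : ℕ, p = 2 ^ k + 1) (hS : Setting p L)
    (hfree : ¬ InvWr p L) (P : Sylow p L) (x : L) (hx : x ∈ (P : Subgroup L)) :
    x ∈ Cfsg.pCore p L := by
  classical
  have hp : p.Prime := Fact.out
  obtain ⟨V, hVdef⟩ : ∃ V : Subgroup L, V = Cfsg.pCore p L := ⟨_, rfl⟩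
  have hScomm : ∀ r ∈ V, ∀ s ∈ V, r * s = s * r := by rw [hVdef]; exact hS.comm
  have hSexp : ∀ r ∈ V, r ^ p = 1 := by rw [hVdef]; exact hS.exp
  have hScent : Subgroup.centralizer (V : Set L) ≤ V := by rw [hVdef]; exact hS.cent
  rw [← hVdef]
  haveI hVn : V.Normal := by rw [hVdef]; exact Cfsg.pCore_normal p L
  have hVp : IsPGroup p V := by rw [hVdef]; exact Cfsg.Agent.Lib.Helper1.pCore_isPGroup p
  have hVP : V ≤ (P : Subgroup L) := by
    rw [hVdef]; exact Cfsg.Agent.Lib.Helper1.pCore_le_sylow p P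
  by_contra hnot
  obtain ⟨π, hπ⟩ : ∃ π : L →* L ⧸ V, π = QuotientGroup.mk' V := ⟨_, rfl⟩
  have hπs : Function.Surjective π := by rw [hπ]; exact QuotientGroup.mk'_surjective V
  have hπ1 : ∀ g : L, π g = 1 ↔ g ∈ V := by
    intro g
    rw [hπ, QuotientGroup.mk'_apply, QuotientGroup.eq_one_iff]
  -- the element `a`
  obtain ⟨k, hk⟩ := P.isPGroup' ⟨x, hx⟩
  have hxk : x ^ p ^ k = 1 := by
    have := congrArg Subtype.val hk
    simpa using this
  have hex : ∃ j : ℕ, π x ^ p ^ j = 1 := ⟨k, by rw [← map_pow, hxk, map_one]⟩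
  obtain ⟨m, hm, hmmin⟩ : ∃ m : ℕ, π x ^ p ^ m = 1 ∧ ∀ j < m, π x ^ p ^ j ≠ 1 :=
    ⟨Nat.find hex, Nat.find_spec hex, fun j hj => Nat.find_min hex hj⟩
  have hm0 : m ≠ 0 := by
    intro h
    rw [h, pow_zero, pow_one, hπ1] at hm
    exact hnot hm
  obtain ⟨a, ha⟩ : ∃ a : L, a = x ^ p ^ (m - 1) := ⟨_, rfl⟩
  obtain ⟨α, hα⟩ : ∃ α : L ⧸ V, α = π a := ⟨_, rfl⟩
  have hα1 : α ≠ 1 := by
    rw [hα, ha, map_pow]
    exact hmmin (m - 1) (by omega)
  have hαp : α ^ p = 1 := by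
    rw [hα, ha, map_pow, ← pow_mul, ← pow_succ, Nat.sub_add_cancel (by omega : 1 ≤ m)]
    exact hm
  have haV : a ∉ V := fun h => hα1 (by rw [hα]; exact (hπ1 a).mpr h)
  have hapV : a ^ p ∈ V := by
    rw [← hπ1, map_pow, ← hα]
    exact hαp
  -- the quotient group
  have hΓsolv : Cfsg.IsPSolvable p (L ⧸ V) := by
    rw [hπ] at hπs
    exact Cfsg.Agent.Lib.Helper5.h5_isPSolvable_of_surjective _ hπs hS.solv
  have hΓO : Cfsg.pCore p (L ⧸ V) = ⊥ := by
    rw [Cfsg.Agent.Lib.helper17.pCore_quotient V hVp, ← hVdef]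
    exact QuotientGroup.map_mk'_self V
  -- the action on `V`
  haveI : IsMulCommutative V := isMulCommutative_iff.mpr
    (fun a b => Subtype.ext (hScomm a a.2 b b.2))
  have hker : ∀ g ∈ V, (MulAut.conjNormal g : MulAut V) = 1 := by
    intro g hg
    apply MulEquiv.ext
    intro v
    apply Subtype.ext
    rw [MulAut.conjNormal_apply, MulAut.one_apply]
    rw [hScomm g hg v v.2]
    group
  obtain ⟨φ, hφ⟩ : ∃ φ : (L ⧸ V) →* MulAut V, ∀ g : L, φ (π g) = MulAut.conjNormal g := by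
    rw [hπ]
    exact ⟨QuotientGroup.lift V MulAut.conjNormal hker, fun g => rfl⟩
  have hφinj : Function.Injective φ := by
    rw [injective_iff_map_eq_one]
    intro γ hγ
    obtain ⟨g, rfl⟩ := hπs γ
    rw [hφ] at hγ
    have hgc : g ∈ Subgroup.centralizer (V : Set L) := by
      rw [Subgroup.mem_centralizer_iff]
      intro v hv
      have h1 := congrArg (fun f : MulAut V => ((f ⟨v, hv⟩ : V) : L)) hγ
      simp only [MulAut.conjNormal_apply, MulAut.one_apply] at h1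
      calc v * g = (g * v * g⁻¹) * g := by rw [h1]
        _ = g * v := by group
    exact (hπ1 g).mpr (hScent hgc)
  have hVexp : ∀ v : V, v ^ p = 1 := fun v => Subtype.ext (by
    rw [Subgroup.coe_pow]; exact hSexp v v.2)
  obtain ⟨v, hv⟩ := hhB_group p hp2 hnf hVexp φ hφinj hΓsolv hΓO α hαp hα1
  obtain ⟨γ, hγdef⟩ : ∃ γ : MulAut V, γ = φ α := ⟨_, rfl⟩
  have hγp : γ ^ p = 1 := by rw [hγdef, ← map_pow, hαp, map_one]
  have hγi : ∀ i : ℕ, φ (α ^ i) = γ ^ i := by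
    intro i
    rw [hγdef, map_pow]
  have hγapp : ∀ (i : ℕ) (u : V), (((γ ^ i) u : V) : L) = a ^ i * u * (a ^ i)⁻¹ := by
    intro i u
    rw [← hγi, hα, ← map_pow, hφ, MulAut.conjNormal_apply]
  have hγapp1 : ∀ u : V, ((γ u : V) : L) = a * u * a⁻¹ := by
    intro u
    have := hγapp 1 u
    rwa [pow_one, pow_one] at this
  have hv' : ∏ i ∈ Finset.range p, (γ ^ i) v ≠ 1 := by
    intro h
    apply hv
    rw [← h]
    apply Finset.prod_congr rfl
    intro i _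
    rw [hγi]
  obtain ⟨A₀, hA₀inv, hA₀card, hA₀fix, hA₀norm⟩ := exists_regular_sub p hVexp γ hγp v hv'
  -- the power formula
  have hpow : ∀ (u : V) (k : ℕ), ((u : L) * a) ^ k =
      ((∏ i ∈ Finset.range k, (γ ^ i) u : V) : L) * a ^ k := by
    intro u k
    induction k with
    | zero => simp
    | succ k ih =>
      rw [pow_succ, ih, Finset.prod_range_succ, Subgroup.coe_mul, hγapp k u, pow_succ]
      group
  -- the choice of `t₀ = u₀ a`
  obtain ⟨u₀, hu₀⟩ : ∃ u₀ : V, ((u₀ : L) * a) ^ p = 1 ∨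
      (u₀ = 1 ∧ ∀ u : V, ((∏ i ∈ Finset.range p, (γ ^ i) u : V) : L) * a ^ p ≠ 1) := by
    by_cases hcase : ∃ u : V, ((∏ i ∈ Finset.range p, (γ ^ i) u : V) : L) * a ^ p = 1
    · obtain ⟨u, hu⟩ := hcase
      exact ⟨u, Or.inl (by rw [hpow, hu])⟩
    · push Not at hcase
      exact ⟨1, Or.inr ⟨rfl, hcase⟩⟩
  obtain ⟨t₀, ht₀⟩ : ∃ t₀ : L, t₀ = (u₀ : L) * a := ⟨_, rfl⟩
  have hconj : ∀ y ∈ V, t₀ * y * t₀⁻¹ = a * y * a⁻¹ := by
    intro y hy
    have h1 : a * y * a⁻¹ ∈ V := hVn.conj_mem y hy a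
    rw [ht₀]
    calc (u₀ : L) * a * y * ((u₀ : L) * a)⁻¹ = ((u₀ : L) * (a * y * a⁻¹)) * (u₀ : L)⁻¹ := by group
      _ = ((a * y * a⁻¹) * (u₀ : L)) * (u₀ : L)⁻¹ := by rw [hScomm _ u₀.2 _ h1]
      _ = a * y * a⁻¹ := by group
  have ht₀V : t₀ ∉ V := by
    intro h
    apply haV
    have e : a = (u₀ : L)⁻¹ * t₀ := by rw [ht₀]; group
    rw [e]
    exact V.mul_mem (V.inv_mem u₀.2) h
  have ht₀p : t₀ ^ p ∈ V := by
    rw [ht₀, hpow]
    exact V.mul_mem (Subtype.mem _) hapV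
  apply hfree
  apply invWr_of_data V (A₀.map V.subtype) t₀ hScomm (Subgroup.map_subtype_le A₀)
  · rintro _ ⟨y, _, rfl⟩
    exact hSexp y y.2
  · rw [Subgroup.card_map_of_injective V.subtype_injective, hA₀card]
  · exact ht₀V
  · exact ht₀p
  · rintro _ ⟨y, hy, rfl⟩
    rw [Subgroup.coe_subtype, hconj _ y.2, ← hγapp1]
    exact ⟨γ y, hA₀inv y hy, rfl⟩
  · -- `⟨t₀ ^ p⟩ ∩ A = 1`
    rcases hu₀ with h | ⟨h1, h2⟩
    · rw [ht₀, h, Subgroup.zpowers_one_eq_bot, bot_inf_eq]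
    · have ht₀a : t₀ = a := by rw [ht₀, h1, Subgroup.coe_one, one_mul]
      rw [ht₀a, eq_bot_iff]
      intro r hr
      obtain ⟨hr1, hr2⟩ := Subgroup.mem_inf.mp hr
      rw [Subgroup.mem_bot]
      by_contra hrne
      have hapA : a ^ p ∈ A₀.map V.subtype := by
        have hc : (a ^ p) ^ p = 1 := hSexp _ hapV
        have := wr_gen_of_mem_zpowers hc hr1 hrne
        exact (Subgroup.zpowers_le.mpr hr2) this
      obtain ⟨y, hy, hya⟩ := hapA
      rw [Subgroup.coe_subtype] at hya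
      have hyfix : γ y = y := by
        apply Subtype.ext
        rw [hγapp1, hya]
        group
      obtain ⟨w, hw⟩ := hA₀norm y hy hyfix
      apply h2 w⁻¹
      have e1 : ∏ i ∈ Finset.range p, (γ ^ i) w⁻¹ = (∏ i ∈ Finset.range p, (γ ^ i) w)⁻¹ := by
        rw [← Finset.prod_inv_distrib]
        apply Finset.prod_congr rfl
        intro i _
        rw [map_inv]
      rw [e1, ← hw, Subgroup.coe_inv, hya, inv_mul_cancel]
  · -- the centralizer
    rw [← hA₀fix]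
    apply Nat.card_congr
    refine Equiv.ofBijective
      (fun y : ↥(A₀.map V.subtype ⊓ Subgroup.centralizer ({t₀} : Set L)) =>
        (⟨⟨(y : L), Subgroup.map_subtype_le A₀ (Subgroup.mem_inf.mp y.2).1⟩, ?_, ?_⟩ :
          {x : V // x ∈ A₀ ∧ γ x = x})) ⟨?_, ?_⟩
    · obtain ⟨z, hz, hzy⟩ := (Subgroup.mem_inf.mp y.2).1
      have : z = ⟨(y : L), Subgroup.map_subtype_le A₀ (Subgroup.mem_inf.mp y.2).1⟩ :=
        Subtype.ext hzy
      rw [← this]
      exact hz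
    · apply Subtype.ext
      rw [hγapp1]
      show a * (y : L) * a⁻¹ = (y : L)
      have hyV : (y : L) ∈ V := Subgroup.map_subtype_le A₀ (Subgroup.mem_inf.mp y.2).1
      rw [← hconj _ hyV]
      have := Subgroup.mem_centralizer_singleton_iff.mp (Subgroup.mem_inf.mp y.2).2
      calc t₀ * (y : L) * t₀⁻¹ = ((y : L) * t₀) * t₀⁻¹ := by rw [this]
        _ = (y : L) := by group
    · intro y y' hyy
      apply Subtype.ext
      have := congrArg (fun z : {x : V // x ∈ A₀ ∧ γ x = x} => ((z : V) : L)) hyy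
      exact this
    · rintro ⟨z, hzA, hzf⟩
      refine ⟨⟨(z : L), Subgroup.mem_inf.mpr ⟨⟨z, hzA, rfl⟩, ?_⟩⟩, ?_⟩
      · rw [Subgroup.mem_centralizer_singleton_iff]
        have h1 : t₀ * (z : L) * t₀⁻¹ = (z : L) := by
          rw [hconj _ z.2, ← hγapp1, hzf]
        calc (z : L) * t₀ = (t₀ * (z : L) * t₀⁻¹) * t₀ := by rw [h1]
          _ = t₀ * (z : L) := by group
      · rfl

end Cfsg.Agent.Lib.Helper13
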