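import Cfsg.Agent.Lib.Helper13.WrG
import Cfsg.Agent.Lib.Helper20.HHAbelD

set_option autoImplicit false

/-! S3787: a `p`-soluble group whose Sylow `p`-subgroups do not involve `C_p ≀ C_p` has `p`-length at
most one, `p` odd and not a Fermat prime (helper13; the reductions follow helper20's `HHAbelD`). -/

namespace Cfsg.Agent.Lib.Helper13

open Cfsg Cfsg.Agent.Lib.Helper20.CycNorm Cfsg.Agent.Lib.Helper21 Cfsg.Agent.S0634
  Cfsg.Agent.Lib.Helper20.HHAbel

universe u

variable {G : Type u} [Group G] [Finite G] {p : ℕ} [Fact p.Prime]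

/-- the case `O_{p'}(G) = 1`. -/
theorem wr_core_free (hp2 : p ≠ 2) (hnf : ¬ ∃ k : ℕ, p = 2 ^ k + 1)
    (hsolv : Cfsg.IsPSolvable p G) (hO : Cfsg.pPrimeCore p G = ⊥) (hfree : ¬ InvWr p G)
    (P : Sylow p G) (x : G) (hx : x ∈ (P : Subgroup G)) : x ∈ Cfsg.pCore p G := by
  have hRn : (Cfsg.pCore p G).Normal := Cfsg.pCore_normal p G
  have hRp : IsPGroup p (Cfsg.pCore p G) := Cfsg.Agent.Lib.Helper1.pCore_isPGroup p
  have hC : Subgroup.centralizer (Cfsg.pCore p G : Set G) ≤ Cfsg.pCore p G :=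
    Cfsg.Agent.Lib.Helper5.h5_centralizer_pCore_le hsolv hO
  obtain ⟨F, hF⟩ : ∃ F : Subgroup G, F = (frattini (Cfsg.pCore p G)).map (Cfsg.pCore p G).subtype :=
    ⟨_, rfl⟩
  have hFn : F.Normal := by
    rw [hF]
    exact Cfsg.Agent.Lib.Helper5.h5_normal_map_of_characteristic (Cfsg.pCore p G)
      (frattini (Cfsg.pCore p G))
  have hFR : F ≤ Cfsg.pCore p G := by
    rw [hF]
    rintro _ ⟨x, _, rfl⟩
    exact x.2
  have hFp : IsPGroup p F := hRp.to_le hFR
  set π := QuotientGroup.mk' F with hπ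
  have hπs : Function.Surjective π := QuotientGroup.mk'_surjective F
  have hcore : Cfsg.pCore p (G ⧸ F) = (Cfsg.pCore p G).map π :=
    Cfsg.Agent.Lib.helper17.pCore_quotient F hFp
  have hmemF : ∀ x : Cfsg.pCore p G, x ∈ frattini (Cfsg.pCore p G) → (x : G) ∈ F := by
    intro x hx
    rw [hF]
    exact ⟨x, hx, rfl⟩
  have hS : Setting p (G ⧸ F) := by
    refine ⟨Cfsg.Agent.Lib.Helper5.h5_isPSolvable_of_surjective π hπs hsolv, ?_, ?_, ?_⟩
    · rw [hcore]
      rintro _ ⟨r, hr, rfl⟩ _ ⟨s, hs, rfl⟩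
      have h1 : (⟨r, hr⟩ : Cfsg.pCore p G) * ⟨s, hs⟩ * (⟨r, hr⟩)⁻¹ * (⟨s, hs⟩)⁻¹ ∈
          frattini (Cfsg.pCore p G) := by
        apply Cfsg.Agent.Lib.Helper1.pgroup_commutator_le_frattini hRp
        rw [← commutatorElement_def]
        exact Subgroup.commutator_mem_commutator (Subgroup.mem_top _) (Subgroup.mem_top _)
      have h2 : r * s * r⁻¹ * s⁻¹ ∈ F := hmemF _ h1
      have h3 : π (r * s * r⁻¹ * s⁻¹) = 1 := (QuotientGroup.eq_one_iff _).mpr h2
      simp only [map_mul, map_inv] at h3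
      calc π r * π s = (π r * π s * (π r)⁻¹ * (π s)⁻¹) * (π s * π r) := by group
        _ = π s * π r := by rw [h3, one_mul]
    · rw [hcore]
      rintro _ ⟨r, hr, rfl⟩
      have h1 : (⟨r, hr⟩ : Cfsg.pCore p G) ^ p ∈ frattini (Cfsg.pCore p G) :=
        Cfsg.Agent.Lib.Helper1.pgroup_pow_mem_frattini hRp _
      have h2 : r ^ p ∈ F := hmemF _ h1
      rw [← map_pow]
      exact (QuotientGroup.eq_one_iff _).mpr h2
    · rw [hcore]
      intro gb hgb
      obtain ⟨g, rfl⟩ := hπs gb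
      rw [Subgroup.mem_centralizer_iff] at hgb
      have hk : ∀ x ∈ Cfsg.pCore p G, g * x * g⁻¹ * x⁻¹ ∈
          (frattini (Cfsg.pCore p G)).map (Cfsg.pCore p G).subtype := by
        intro x hx
        rw [← hF]
        apply (QuotientGroup.eq_one_iff _).mp
        show π (g * x * g⁻¹ * x⁻¹) = 1
        have h1 := hgb (π x) ⟨x, hx, rfl⟩
        simp only [map_mul, map_inv]
        rw [← h1]
        group
      have := Cfsg.Agent.Lib.Helper1.mem_pCore_of_trivial_on_frattini_quotient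
        (Cfsg.pCore p G) hRp hC g hk
      exact ⟨g, this, rfl⟩
  have key := wr_setting hp2 hnf hS (fun h => hfree (h.of_surjective π hπs))
    (P.mapSurjective hπs) (π x) (by rw [Sylow.coe_mapSurjective]; exact ⟨x, hx, rfl⟩)
  rw [hcore] at key
  obtain ⟨r, hr, hreq⟩ := key
  have h1 : r⁻¹ * x ∈ F := by
    apply (QuotientGroup.eq_one_iff _).mp
    show π (r⁻¹ * x) = 1
    rw [map_mul, map_inv, hreq, inv_mul_cancel]
  have h2 : x = r * (r⁻¹ * x) := by group
  rw [h2]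
  exact Subgroup.mul_mem _ hr (hFR h1)

/-- the general case. -/
theorem wr_mem_ups_two (hp2 : p ≠ 2) (hnf : ¬ ∃ k : ℕ, p = 2 ^ k + 1)
    (hsolv : Cfsg.IsPSolvable p G) (hfree : ¬ InvWr p G)
    (P : Sylow p G) (x : G) (hx : x ∈ (P : Subgroup G)) : x ∈ ups p G 2 := by
  have hU1 : ups p G 1 = _ := ups_succ_even (G := G) p 0 (by decide)
  have hU2 : ups p G 2 = _ := ups_succ_odd (G := G) p 1 (by decide)
  have hO : Cfsg.pPrimeCore p (G ⧸ ups p G 1) = ⊥ :=
    pPrimeCore_quotient_comap_eq_bot p (ups p G 0) (ups p G 1) hU1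
  set π := QuotientGroup.mk' (ups p G 1) with hπ
  have hπs : Function.Surjective π := QuotientGroup.mk'_surjective _
  have key := wr_core_free hp2 hnf
    (Cfsg.Agent.Lib.Helper5.h5_isPSolvable_of_surjective π hπs hsolv) hO
    (fun h => hfree (h.of_surjective π hπs)) (P.mapSurjective hπs) (π x)
    (by rw [Sylow.coe_mapSurjective]; exact ⟨x, hx, rfl⟩)
  rw [hU2, Subgroup.mem_comap]
  exact key

theorem wr_plength (hp2 : p ≠ 2) (hnf : ¬ ∃ k : ℕ, p = 2 ^ k + 1)
    (hsolv : Cfsg.IsPSolvable p G) (hfree : ¬ InvWr p G) : Cfsg.PLengthLE p 1 G := by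
  have hp : p.Prime := Fact.out
  have h1 : PLengthLE p 1 ↥(ups p G 2) := plength_ups_two
  have h2 : PLengthLE p 0 (G ⧸ ups p G 2) := by
    apply plength_zero_of_coprime
    obtain ⟨P⟩ : Nonempty (Sylow p G) := inferInstance
    have hPU : (P : Subgroup G) ≤ ups p G 2 :=
      fun x hx => wr_mem_ups_two hp2 hnf hsolv hfree P x hx
    have h3 : (ups p G 2).index ∣ (P : Subgroup G).index := Subgroup.index_dvd_of_le hPU
    have h4 : ¬ p ∣ (P : Subgroup G).index := P.not_dvd_index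
    rw [← Subgroup.index_eq_card]
    exact Nat.Coprime.coprime_dvd_left h3 ((Nat.Prime.coprime_iff_not_dvd hp).mpr h4).symm
  have := plength_add (ups p G 2) h1 h2
  exact this

end Cfsg.Agent.Lib.Helper13
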