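import Cfsg.Agent.Lib.Helper13.SecFusI
import Cfsg.Agent.Lib.Helper13.WcElemF
import Cfsg.Agent.Lib.Helper13.WcElemE
import Cfsg.Agent.Lib.Helper13.Tight

set_option autoImplicit false

/-! Normal closures of a subgroup `Z` under normalizers of two functor values: they coincide under
factorization hypotheses (helper13). -/

namespace Cfsg.Agent.Lib.Helper13

universe u

section ZClos

variable {G : Type u} [Group G]

/-- The subgroup generated by the conjugates of `Z` under `N`. -/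
def zcl (Z N : Subgroup G) : Subgroup G :=
  Subgroup.closure {x | ∃ n ∈ N, ∃ z ∈ Z, x = n * z * n⁻¹}

theorem conj_mem_zcl {Z N : Subgroup G} {n z : G} (hn : n ∈ N) (hz : z ∈ Z) :
    n * z * n⁻¹ ∈ zcl Z N :=
  Subgroup.subset_closure ⟨n, hn, z, hz, rfl⟩

theorem le_zcl (Z N : Subgroup G) : Z ≤ zcl Z N := by
  intro z hz
  have := conj_mem_zcl (N := N) N.one_mem hz
  simpa using this

theorem zcl_le {Z N H : Subgroup G} (h : ∀ n ∈ N, ∀ z ∈ Z, n * z * n⁻¹ ∈ H) : zcl Z N ≤ H := by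
  unfold zcl
  rw [Subgroup.closure_le]
  rintro _ ⟨n, hn, z, hz, rfl⟩
  exact h n hn z hz

theorem zcl_mono {Z N N' : Subgroup G} (h : N ≤ N') : zcl Z N ≤ zcl Z N' :=
  zcl_le (fun _ hn _ hz => conj_mem_zcl (h hn) hz)

theorem zcl_conj_mem {Z N : Subgroup G} {n x : G} (hn : n ∈ N) (hx : x ∈ zcl Z N) :
    n * x * n⁻¹ ∈ zcl Z N := by
  have h1 : zcl Z N ≤ (zcl Z N).comap (MulAut.conj n).toMonoidHom := by
    apply zcl_le
    intro m hm z hz
    rw [Subgroup.mem_comap]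
    show n * (m * z * m⁻¹) * n⁻¹ ∈ zcl Z N
    have e : n * (m * z * m⁻¹) * n⁻¹ = (n * m) * z * (n * m)⁻¹ := by group
    rw [e]
    exact conj_mem_zcl (N.mul_mem hn hm) hz
  exact h1 hx

theorem le_normalizer_zcl (Z N : Subgroup G) : N ≤ Subgroup.normalizer (zcl Z N : Set G) := by
  intro n hn
  rw [Subgroup.mem_normalizer_iff]
  intro x
  constructor
  · exact zcl_conj_mem hn
  · intro hx
    have := zcl_conj_mem (N.inv_mem hn) hx
    simpa [mul_assoc] using this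

end ZClos

section Key

variable {G : Type u} [Group G] [Finite G] {p : ℕ} [Fact p.Prime]

theorem le_normalizer_pCoreOf (M : Subgroup G) :
    M ≤ Subgroup.normalizer ((Cfsg.pCoreOf p M : Subgroup G) : Set G) := by
  haveI : (Cfsg.pCore p ↥M).Normal := pCore_normal' p
  exact le_normalizer_map_subtype_of_normal M (Cfsg.pCore p ↥M)

theorem pCoreOf_le (M : Subgroup G) : Cfsg.pCoreOf p M ≤ M := Subgroup.map_subtype_le _

/-- Frattini argument inside `M`: `M = N_M(S ∩ C) · C` for `C` normalized by `M`. -/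
theorem frattini_in (S : Sylow p G) (M C : Subgroup G) (hSM : (S : Subgroup G) ≤ M) (hCM : C ≤ M)
    (hMC : M ≤ Subgroup.normalizer (C : Set G)) :
    ∀ m ∈ M, ∃ n ∈ M ⊓ Subgroup.normalizer ((((S : Subgroup G) ⊓ C : Subgroup G)) : Set G),
      ∃ c ∈ C, m = n * c := by
  intro m hm
  have hSi : ¬ p ∣ (S : Subgroup G).relIndex M := fun hd =>
    S.not_dvd_index (hd.trans (Subgroup.relIndex_dvd_index_of_le hSM))
  have hX : ¬ p ∣ ((S : Subgroup G) ⊓ C).relIndex C :=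
    not_dvd_relIndex_inf_of_normal hCM hMC hSi
  have hXp : IsPGroup p ↥((S : Subgroup G) ⊓ C) := S.isPGroup'.to_le inf_le_left
  have hPC : ((S : Subgroup G) ⊓ C).map (MulAut.conj m⁻¹).toMonoidHom ≤ C := by
    rintro _ ⟨x, hx, rfl⟩
    have h1 := (Subgroup.mem_normalizer_iff.mp (hMC (M.inv_mem hm)) x).mp hx.2
    exact h1
  obtain ⟨k, hkC, hk⟩ := exists_mem_cj_le_of_relIndex (p := p) inf_le_right hXp hX hPC
    (isPGroup_cj m⁻¹ hXp)
  rw [cj_cj] at hk
  have hn : k * m⁻¹ ∈ Subgroup.normalizer ((((S : Subgroup G) ⊓ C : Subgroup G)) : Set G) :=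
    mem_normalizer_of_cj_le hk
  refine ⟨(k * m⁻¹)⁻¹, ⟨M.inv_mem (M.mul_mem (hCM hkC) (M.inv_mem hm)), Subgroup.inv_mem _ hn⟩,
    k, hkC, ?_⟩
  group

/-- The key step: if `M` normalizes `V'`, the closure of `Z` under `M` is already the closure under
`N_M(V)`. -/
theorem zcl_key (S : Sylow p G) (Z V V' M : Subgroup G) (hSM : (S : Subgroup G) ≤ M)
    (hZV' : Z ≤ V') (hV'S : V' ≤ (S : Subgroup G))
    (hMV' : M ≤ Subgroup.normalizer (V' : Set G))
    (IH : ∀ M' : Subgroup G, M' ≤ M → M' ≠ M → (S : Subgroup G) ≤ M' →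
      zcl Z (M' ⊓ Subgroup.normalizer (V' : Set G)) ≤ zcl Z (M' ⊓ Subgroup.normalizer (V : Set G)))
    (hfacM : M ≤ Subgroup.normalizer ((((S : Subgroup G) ⊓
        (M ⊓ Subgroup.centralizer ((Cfsg.pCoreOf p M : Subgroup G) : Set G)) : Subgroup G)) : Set G) →
      ∀ m ∈ M, ∃ b ∈ M ⊓ Subgroup.normalizer (V : Set G), ∃ a ∈ Subgroup.centralizer (Z : Set G),
        m = b * a) :
    zcl Z M ≤ zcl Z (M ⊓ Subgroup.normalizer (V : Set G)) := by
  obtain ⟨Q, hQ⟩ : ∃ Q : Subgroup G, Q = Cfsg.pCoreOf p M := ⟨_, rfl⟩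
  rw [← hQ] at hfacM
  have hV'p : IsPGroup p ↥V' := S.isPGroup'.to_le hV'S
  have hV'Q : V' ≤ Q := hQ ▸ wc_le_pCoreOf (hV'S.trans hSM) hV'p hMV'
  have hZQ : Z ≤ Q := hZV'.trans hV'Q
  have hMQ : M ≤ Subgroup.normalizer (Q : Set G) := hQ ▸ le_normalizer_pCoreOf M
  obtain ⟨C, hC⟩ : ∃ C : Subgroup G, C = M ⊓ Subgroup.centralizer (Q : Set G) := ⟨_, rfl⟩
  rw [← hC] at hfacM
  have hCM : C ≤ M := hC ▸ inf_le_left
  have hMC : M ≤ Subgroup.normalizer (C : Set G) := by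
    intro m hm
    rw [hC]
    apply mem_normalizer_inf_of_mem (Subgroup.le_normalizer hm)
    exact normalizer_le_normalizer_centralizer' Q (hMQ hm)
  have hCZ : ∀ c ∈ C, ∀ z ∈ Z, c * z * c⁻¹ = z := by
    intro c hc z hz
    rw [hC] at hc
    have := Subgroup.mem_centralizer_iff.mp hc.2 z (hZQ hz)
    rw [← this]
    group
  by_cases hXn : M ≤ Subgroup.normalizer ((((S : Subgroup G) ⊓ C : Subgroup G)) : Set G)
  · apply zcl_le
    intro m hm z hz
    obtain ⟨b, hb, a, ha, rfl⟩ := hfacM hXn m hm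
    have h1 := Subgroup.mem_centralizer_iff.mp ha z hz
    have e : b * a * z * (b * a)⁻¹ = b * z * b⁻¹ := by
      have : a * z * a⁻¹ = z := by rw [← h1]; group
      calc b * a * z * (b * a)⁻¹ = b * (a * z * a⁻¹) * b⁻¹ := by group
        _ = b * z * b⁻¹ := by rw [this]
    rw [e]
    exact conj_mem_zcl hb hz
  · obtain ⟨M', hM'⟩ : ∃ M' : Subgroup G,
        M' = M ⊓ Subgroup.normalizer ((((S : Subgroup G) ⊓ C : Subgroup G)) : Set G) := ⟨_, rfl⟩
    have hM'M : M' ≤ M := hM' ▸ inf_le_left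
    have hM'ne : M' ≠ M := by
      intro h
      apply hXn
      rw [← h, hM']
      exact inf_le_right
    have hSM' : (S : Subgroup G) ≤ M' := by
      rw [hM']
      refine le_inf hSM ?_
      intro s hs
      exact mem_normalizer_inf_of_mem (Subgroup.le_normalizer hs) (hMC (hSM hs))
    have h1 := IH M' hM'M hM'ne hSM'
    have h2 : M' ⊓ Subgroup.normalizer (V' : Set G) = M' :=
      inf_eq_left.mpr (hM'M.trans hMV')
    rw [h2] at h1
    have h3 : zcl Z M' ≤ zcl Z (M ⊓ Subgroup.normalizer (V : Set G)) :=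
      h1.trans (zcl_mono (inf_le_inf_right _ hM'M))
    apply zcl_le
    intro m hm z hz
    obtain ⟨n, hn, c, hc, rfl⟩ := frattini_in S M C hSM hCM hMC m hm
    rw [← hM'] at hn
    have e : n * c * z * (n * c)⁻¹ = n * z * n⁻¹ := by
      calc n * c * z * (n * c)⁻¹ = n * (c * z * c⁻¹) * n⁻¹ := by group
        _ = n * z * n⁻¹ := by rw [hCZ c hc z hz]
    rw [e]
    exact h3 (conj_mem_zcl hn hz)

/-- The closures of `Z` under `N_M(V₁)` and `N_M(V₂)` coincide for all `M ≥ S`. -/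
theorem zcl_eq_of_fac (S : Sylow p G) (Z V₁ V₂ : Subgroup G)
    (hZ1 : Z ≤ V₁) (hZ2 : Z ≤ V₂) (hV1 : V₁ ≤ (S : Subgroup G)) (hV2 : V₂ ≤ (S : Subgroup G))
    (hfac1 : ∀ M : Subgroup G, (S : Subgroup G) ≤ M → M ≤ Subgroup.normalizer (V₂ : Set G) →
      M ≤ Subgroup.normalizer ((((S : Subgroup G) ⊓
        (M ⊓ Subgroup.centralizer ((Cfsg.pCoreOf p M : Subgroup G) : Set G)) : Subgroup G)) : Set G) →
      ∀ m ∈ M, ∃ b ∈ M ⊓ Subgroup.normalizer (V₁ : Set G), ∃ a ∈ Subgroup.centralizer (Z : Set G),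
        m = b * a)
    (hfac2 : ∀ M : Subgroup G, (S : Subgroup G) ≤ M → M ≤ Subgroup.normalizer (V₁ : Set G) →
      M ≤ Subgroup.normalizer ((((S : Subgroup G) ⊓
        (M ⊓ Subgroup.centralizer ((Cfsg.pCoreOf p M : Subgroup G) : Set G)) : Subgroup G)) : Set G) →
      ∀ m ∈ M, ∃ b ∈ M ⊓ Subgroup.normalizer (V₂ : Set G), ∃ a ∈ Subgroup.centralizer (Z : Set G),
        m = b * a)
    (hS1 : (S : Subgroup G) ≤ Subgroup.normalizer (V₁ : Set G))
    (hS2 : (S : Subgroup G) ≤ Subgroup.normalizer (V₂ : Set G)) :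
    ∀ (n : ℕ) (M : Subgroup G), Nat.card ↥M = n → (S : Subgroup G) ≤ M →
      zcl Z (M ⊓ Subgroup.normalizer (V₁ : Set G)) = zcl Z (M ⊓ Subgroup.normalizer (V₂ : Set G)) := by
  intro n
  induction n using Nat.strong_induction_on with
  | _ n ih =>
  intro M hcard hSM
  have hlt : ∀ M' : Subgroup G, M' ≤ M → M' ≠ M → Nat.card ↥M' < Nat.card ↥M := by
    intro M' hle hne
    by_contra hnot
    exact hne (Subgroup.eq_of_le_of_card_ge hle (not_lt.mp hnot))
  have IH : ∀ M' : Subgroup G, M' ≤ M → M' ≠ M → (S : Subgroup G) ≤ M' →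
      zcl Z (M' ⊓ Subgroup.normalizer (V₁ : Set G)) =
        zcl Z (M' ⊓ Subgroup.normalizer (V₂ : Set G)) := fun M' hle hne hS =>
    ih _ (hcard ▸ hlt M' hle hne) M' rfl hS
  by_cases h2 : M ≤ Subgroup.normalizer (V₂ : Set G)
  · have hk := zcl_key S Z V₁ V₂ M hSM hZ2 hV2 h2
      (fun M' hle hne hS => (IH M' hle hne hS).ge) (hfac1 M hSM h2)
    rw [inf_eq_left.mpr h2]
    exact le_antisymm (zcl_mono inf_le_left) hk
  · by_cases h1 : M ≤ Subgroup.normalizer (V₁ : Set G)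
    · have hk := zcl_key S Z V₂ V₁ M hSM hZ1 hV1 h1
        (fun M' hle hne hS => (IH M' hle hne hS).le) (hfac2 M hSM h1)
      rw [inf_eq_left.mpr h1]
      exact le_antisymm hk (zcl_mono inf_le_left)
    · have hne1 : M ⊓ Subgroup.normalizer (V₁ : Set G) ≠ M := fun h => h1 (h ▸ inf_le_right)
      have hne2 : M ⊓ Subgroup.normalizer (V₂ : Set G) ≠ M := fun h => h2 (h ▸ inf_le_right)
      have e1 := IH _ inf_le_left hne1 (le_inf hSM hS1)
      have e2 := IH _ inf_le_left hne2 (le_inf hSM hS2)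
      have i1 : M ⊓ Subgroup.normalizer (V₁ : Set G) ⊓ Subgroup.normalizer (V₁ : Set G) =
          M ⊓ Subgroup.normalizer (V₁ : Set G) := by rw [inf_assoc, inf_idem]
      have i2 : M ⊓ Subgroup.normalizer (V₂ : Set G) ⊓ Subgroup.normalizer (V₂ : Set G) =
          M ⊓ Subgroup.normalizer (V₂ : Set G) := by rw [inf_assoc, inf_idem]
      rw [i1] at e1
      rw [i2] at e2
      apply le_antisymm
      · rw [e1]
        exact zcl_mono (inf_le_inf_right _ inf_le_left)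
      · rw [← e2]
        exact zcl_mono (inf_le_inf_right _ inf_le_left)

end Key

end Cfsg.Agent.Lib.Helper13
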