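import Cfsg.Agent.Lib.Helper13.ZClosA
import Cfsg.Agent.Lib.Helper1.PLength

set_option autoImplicit false

/-! Lifting a factorization `C(Ω₁Z(T)) N(W(T))` from the quotient by `O_{p'}` (helper13). -/

namespace Cfsg.Agent.Lib.Helper13

universe u

section Lift

variable {p : ℕ} [Fact p.Prime]

theorem fac_lift {Γ : Type u} [Group Γ] [Finite Γ] (T : Sylow p Γ)
    (W : ∀ (Q : Type u) [Group Q], Subgroup Q) (hW : Cfsg.IsCharPFunctor.{u} p W)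
    (D : Subgroup Γ) [hDn : D.Normal] (hD : D = Cfsg.pPrimeCore p Γ)
    (hX : (T : Subgroup Γ) ⊓ Subgroup.centralizer ((Cfsg.pCore p Γ : Subgroup Γ) : Set Γ) ≤
      Cfsg.pCore p Γ)
    (hZQ : Cfsg.omegaOne p ((T : Subgroup Γ) ⊓ Subgroup.centralizer ((T : Subgroup Γ) : Set Γ)) ≤
      Cfsg.pCore p Γ)
    (hfac : Subgroup.centralizer ((Cfsg.pCore p (Γ ⧸ D) : Subgroup (Γ ⧸ D)) : Set (Γ ⧸ D)) ≤
        Cfsg.pCore p (Γ ⧸ D) →
      ∀ T' : Sylow p (Γ ⧸ D), ∀ x : Γ ⧸ D,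
        ∃ a ∈ Subgroup.centralizer ((Cfsg.omegaOne p ((T' : Subgroup (Γ ⧸ D)) ⊓
          Subgroup.centralizer ((T' : Subgroup (Γ ⧸ D)) : Set (Γ ⧸ D))) : Subgroup (Γ ⧸ D)) :
            Set (Γ ⧸ D)),
        ∃ b ∈ Subgroup.normalizer ((Cfsg.inducedFunctor (G := Γ ⧸ D) W (T' : Subgroup (Γ ⧸ D)) :
          Subgroup (Γ ⧸ D)) : Set (Γ ⧸ D)), x = a * b) :
    ∀ m : Γ, ∃ b ∈ Subgroup.normalizer ((Cfsg.inducedFunctor (G := Γ) W (T : Subgroup Γ) :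
        Subgroup Γ) : Set Γ),
      ∃ a ∈ Subgroup.centralizer ((Cfsg.omegaOne p ((T : Subgroup Γ) ⊓
        Subgroup.centralizer ((T : Subgroup Γ) : Set Γ)) : Subgroup Γ) : Set Γ), m = b * a := by
  obtain ⟨Q, hQ⟩ : ∃ Q : Subgroup Γ, Q = Cfsg.pCore p Γ := ⟨_, rfl⟩
  rw [← hQ] at hX hZQ
  haveI hQn : Q.Normal := hQ ▸ pCore_normal' p
  have hQp : IsPGroup p ↥Q := hQ ▸ pCore_isPGroup
  have hDc : (Nat.card ↥D).Coprime p := by
    rw [hD]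
    exact Cfsg.Agent.Lib.Helper1.pPrimeCore_card_coprime p
  have hQD : ∀ x ∈ Q, x ∈ D → x = 1 := fun x hxQ hxD =>
    Cfsg.Agent.Lib.Helper5.h5_eq_one_of_mem_pgroup_of_mem_coprime hQp hDc hxQ hxD
  obtain ⟨π, hπ⟩ : ∃ π : Γ →* Γ ⧸ D, π = QuotientGroup.mk' D := ⟨_, rfl⟩
  have hπs : Function.Surjective π := hπ ▸ QuotientGroup.mk'_surjective D
  have hπk : ∀ x, π x = 1 ↔ x ∈ D := by
    intro x
    rw [hπ]
    exact QuotientGroup.eq_one_iff x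
  -- elements commuting modulo `D` with an element of `Q` commute
  have hcomm : ∀ a : Γ, ∀ z ∈ Q, π z * π a = π a * π z → z * a = a * z := by
    intro a z hz h
    have h1 : π ((a * z)⁻¹ * (z * a)) = 1 := by
      rw [map_mul, map_inv, map_mul, map_mul, h]
      group
    have h2 : (a * z)⁻¹ * (z * a) ∈ D := (hπk _).mp h1
    have h3 : (a * z)⁻¹ * (z * a) ∈ Q := by
      have e : (a * z)⁻¹ * (z * a) = z⁻¹ * (a⁻¹ * z * a⁻¹⁻¹) := by group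
      rw [e]
      exact Q.mul_mem (Q.inv_mem hz) (hQn.conj_mem z hz a⁻¹)
    have h4 := hQD _ h3 h2
    have : z * a = (a * z) * ((a * z)⁻¹ * (z * a)) := by group
    rw [this, h4, mul_one]
  have hO : Cfsg.pPrimeCore p (Γ ⧸ D) = ⊥ := by
    subst hD
    exact Cfsg.Agent.Lib.Helper1.pPrimeCore_quotient_eq_bot p
  haveI hQbn : (Cfsg.pCore p (Γ ⧸ D)).Normal := pCore_normal' p
  have hQmap : Q.map π ≤ Cfsg.pCore p (Γ ⧸ D) :=
    Cfsg.Agent.Lib.Helper1.le_pCore (hQn.map π hπs) (hQp.map π)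
  obtain ⟨T', hT'⟩ : ∃ T' : Sylow p (Γ ⧸ D), (T' : Subgroup (Γ ⧸ D)) = (T : Subgroup Γ).map π :=
    ⟨T.mapSurjective hπs, Sylow.coe_mapSurjective hπs T⟩
  have hle : (T' : Subgroup (Γ ⧸ D)) ⊓
      Subgroup.centralizer ((Cfsg.pCore p (Γ ⧸ D) : Subgroup (Γ ⧸ D)) : Set (Γ ⧸ D)) ≤
        Cfsg.pCore p (Γ ⧸ D) := by
    rintro xb ⟨hx1, hx2⟩
    rw [hT'] at hx1
    obtain ⟨s, hs, rfl⟩ := hx1
    apply hQmap
    refine Subgroup.mem_map_of_mem π (hX ⟨hs, ?_⟩)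
    refine Subgroup.mem_centralizer_iff.mpr ?_
    intro q hq
    have h1 := Subgroup.mem_centralizer_iff.mp hx2 (π q) (hQmap (Subgroup.mem_map_of_mem π hq))
    exact hcomm s q hq h1
  have hc := centralizer_le_of_sylow_inf_le (Cfsg.pCore p (Γ ⧸ D)) hO T' hle
  have hf := hfac hc T'
  have hinj : ∀ t ∈ (T : Subgroup Γ), π t = 1 → t = 1 := by
    intro t ht h1
    exact Cfsg.Agent.Lib.Helper5.h5_eq_one_of_mem_pgroup_of_mem_coprime T.isPGroup' hDc ht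
      ((hπk t).mp h1)
  obtain ⟨V, hV⟩ : ∃ V : Subgroup Γ, V = Cfsg.inducedFunctor (G := Γ) W (T : Subgroup Γ) :=
    ⟨_, rfl⟩
  rw [← hV]
  have hVp : IsPGroup p ↥V := T.isPGroup'.to_le (hV ▸ inducedFunctor_le W _)
  have hVmap : Cfsg.inducedFunctor (G := Γ ⧸ D) W (T' : Subgroup (Γ ⧸ D)) = V.map π := by
    rw [hT', hV]
    exact inducedFunctor_map_hom W hW π _ T.isPGroup' hinj
  obtain ⟨Z, hZ⟩ : ∃ Z : Subgroup Γ, Z = Cfsg.omegaOne p ((T : Subgroup Γ) ⊓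
      Subgroup.centralizer ((T : Subgroup Γ) : Set Γ)) := ⟨_, rfl⟩
  rw [← hZ] at hZQ ⊢
  have hZmap : Z.map π ≤ Cfsg.omegaOne p ((T' : Subgroup (Γ ⧸ D)) ⊓
      Subgroup.centralizer ((T' : Subgroup (Γ ⧸ D)) : Set (Γ ⧸ D))) := by
    rw [hZ]
    unfold Cfsg.omegaOne
    rw [MonoidHom.map_closure, Subgroup.closure_le]
    rintro _ ⟨x, ⟨hx1, hx2⟩, rfl⟩
    apply Subgroup.subset_closure
    refine ⟨⟨?_, ?_⟩, ?_⟩
    · rw [hT']
      exact Subgroup.mem_map_of_mem π hx1.1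
    · rw [hT']
      refine Subgroup.mem_centralizer_iff.mpr ?_
      rintro _ ⟨t, ht, rfl⟩
      have := Subgroup.mem_centralizer_iff.mp hx1.2 t ht
      rw [← map_mul, ← map_mul, this]
    · rw [← map_pow, hx2, map_one]
  have hDZ : ∀ d ∈ D, d ∈ Subgroup.centralizer (Z : Set Γ) := by
    intro d hd
    rw [Subgroup.mem_centralizer_iff]
    intro z hz
    apply hcomm d z (hZQ hz)
    rw [(hπk d).mpr hd, mul_one, one_mul]
  intro m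
  obtain ⟨ab, hab, bb, hbb, hm⟩ := hf (π m⁻¹)
  rw [hVmap] at hbb
  rw [hπ] at hbb
  obtain ⟨y, hyV, hy⟩ := normalizer_map_quotient_le D hDc V hVp hbb
  rw [← hπ] at hy
  obtain ⟨a, rfl⟩ := hπs ab
  have haZ : a ∈ Subgroup.centralizer (Z : Set Γ) := by
    rw [Subgroup.mem_centralizer_iff]
    intro z hz
    apply hcomm a z (hZQ hz)
    exact Subgroup.mem_centralizer_iff.mp hab (π z) (hZmap (Subgroup.mem_map_of_mem π hz))
  obtain ⟨d, hd⟩ : ∃ d : Γ, d = (a * y)⁻¹ * m⁻¹ := ⟨_, rfl⟩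
  have hdD : d ∈ D := by
    rw [← hπk, hd, map_mul, hm, ← hy, map_inv, map_mul]
    group
  refine ⟨y⁻¹, Subgroup.inv_mem _ hyV, (y * d⁻¹ * y⁻¹) * a⁻¹, ?_, ?_⟩
  · apply Subgroup.mul_mem _ (hDZ _ ?_) (Subgroup.inv_mem _ haZ)
    exact hDn.conj_mem _ (D.inv_mem hdD) y
  · rw [hd]
    group

end Lift

end Cfsg.Agent.Lib.Helper13
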