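import Cfsg.Agent.Lib.Helper13.ZClosB

set_option autoImplicit false

/-! Transport of the lifted factorization from a subgroup `M` (as a group) to the ambient group
(helper13). -/

namespace Cfsg.Agent.Lib.Helper13

universe u

section Transport

variable {G : Type u} [Group G] [Finite G] {p : ℕ} [Fact p.Prime]

theorem fac_transport (S : Sylow p G) (W : ∀ (Q : Type u) [Group Q], Subgroup Q)
    (hW : Cfsg.IsCharPFunctor.{u} p W) (M : Subgroup G) (hSM : (S : Subgroup G) ≤ M)
    (hZQ : Cfsg.omegaOne p ((S : Subgroup G) ⊓ Subgroup.centralizer ((S : Subgroup G) : Set G)) ≤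
      Cfsg.pCoreOf p M)
    (hXn : M ≤ Subgroup.normalizer ((((S : Subgroup G) ⊓
      (M ⊓ Subgroup.centralizer ((Cfsg.pCoreOf p M : Subgroup G) : Set G)) : Subgroup G)) : Set G))
    (R : Subgroup G) (hR : R = (Cfsg.pPrimeCore p ↥M).map M.subtype)
    [hRn : (R.subgroupOf M).Normal]
    (hfac : Subgroup.centralizer ((Cfsg.pCore p (↥M ⧸ R.subgroupOf M) :
          Subgroup (↥M ⧸ R.subgroupOf M)) : Set (↥M ⧸ R.subgroupOf M)) ≤
        Cfsg.pCore p (↥M ⧸ R.subgroupOf M) →
      ∀ T' : Sylow p (↥M ⧸ R.subgroupOf M), ∀ x : ↥M ⧸ R.subgroupOf M,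
        ∃ a ∈ Subgroup.centralizer ((Cfsg.omegaOne p ((T' : Subgroup (↥M ⧸ R.subgroupOf M)) ⊓
          Subgroup.centralizer ((T' : Subgroup (↥M ⧸ R.subgroupOf M)) :
            Set (↥M ⧸ R.subgroupOf M))) : Subgroup (↥M ⧸ R.subgroupOf M)) :
              Set (↥M ⧸ R.subgroupOf M)),
        ∃ b ∈ Subgroup.normalizer ((Cfsg.inducedFunctor (G := ↥M ⧸ R.subgroupOf M) W
          (T' : Subgroup (↥M ⧸ R.subgroupOf M)) : Subgroup (↥M ⧸ R.subgroupOf M)) :
            Set (↥M ⧸ R.subgroupOf M)), x = a * b) :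
    ∀ m ∈ M, ∃ b ∈ M ⊓ Subgroup.normalizer ((Cfsg.inducedFunctor (G := G) W (S : Subgroup G) :
        Subgroup G) : Set G),
      ∃ a ∈ Subgroup.centralizer ((Cfsg.omegaOne p ((S : Subgroup G) ⊓
        Subgroup.centralizer ((S : Subgroup G) : Set G)) : Subgroup G) : Set G), m = b * a := by
  obtain ⟨T, hT⟩ : ∃ T : Sylow p ↥M, (T : Subgroup ↥M) = (S : Subgroup G).subgroupOf M :=
    ⟨S.subtype hSM, Sylow.coe_subtype _ hSM⟩
  have hTmap : (T : Subgroup ↥M).map M.subtype = (S : Subgroup G) := by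
    rw [hT]
    exact Subgroup.map_subgroupOf_eq_of_le hSM
  have hD : R.subgroupOf M = Cfsg.pPrimeCore p ↥M := by
    rw [hR]
    exact Subgroup.comap_map_eq_self_of_injective M.subtype_injective _
  have hmemQ : ∀ x : ↥M, (x : G) ∈ Cfsg.pCoreOf p M → x ∈ Cfsg.pCore p ↥M := by
    rintro x ⟨y, hy, hyx⟩
    have : y = x := Subtype.ext hyx
    rwa [← this]
  have hX : (T : Subgroup ↥M) ⊓
      Subgroup.centralizer ((Cfsg.pCore p ↥M : Subgroup ↥M) : Set ↥M) ≤ Cfsg.pCore p ↥M := by
    rintro x ⟨hx1, hx2⟩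
    apply hmemQ
    have hXp : IsPGroup p ↥((S : Subgroup G) ⊓
        (M ⊓ Subgroup.centralizer ((Cfsg.pCoreOf p M : Subgroup G) : Set G))) :=
      S.isPGroup'.to_le inf_le_left
    apply wc_le_pCoreOf (inf_le_right.trans inf_le_left) hXp hXn
    refine ⟨?_, x.2, ?_⟩
    · rw [hT] at hx1
      exact Subgroup.mem_subgroupOf.mp hx1
    · refine Subgroup.mem_centralizer_iff.mpr ?_
      rintro _ ⟨q, hq, rfl⟩
      have := Subgroup.mem_centralizer_iff.mp hx2 q hq
      exact congrArg Subtype.val this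
  have hZQ' : Cfsg.omegaOne p ((T : Subgroup ↥M) ⊓
      Subgroup.centralizer ((T : Subgroup ↥M) : Set ↥M)) ≤ Cfsg.pCore p ↥M := by
    unfold Cfsg.omegaOne
    rw [Subgroup.closure_le]
    rintro x ⟨⟨hx1, hx2⟩, hx3⟩
    apply hmemQ
    apply hZQ
    unfold Cfsg.omegaOne
    apply Subgroup.subset_closure
    refine ⟨⟨?_, ?_⟩, ?_⟩
    · rw [hT] at hx1
      exact Subgroup.mem_subgroupOf.mp hx1
    · refine Subgroup.mem_centralizer_iff.mpr ?_
      intro s hs
      have hs' : (⟨s, hSM hs⟩ : ↥M) ∈ (T : Subgroup ↥M) := by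
        rw [hT]
        exact Subgroup.mem_subgroupOf.mpr hs
      have := Subgroup.mem_centralizer_iff.mp hx2 _ hs'
      exact congrArg Subtype.val this
    · have := congrArg Subtype.val hx3
      simpa using this
  have hlift := fac_lift T W hW (R.subgroupOf M) hD hX hZQ' hfac
  intro m hm
  obtain ⟨b, hb, a, ha, hmba⟩ := hlift ⟨m, hm⟩
  refine ⟨(b : G), ⟨b.2, ?_⟩, (a : G), ?_, ?_⟩
  · have h1 := (mem_normalizer_subtype _ b).mp hb
    rw [inducedFunctor_map_subtype W hW M _ T.isPGroup', hTmap] at h1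
    exact h1
  · refine Subgroup.mem_centralizer_iff.mpr ?_
    intro z hz
    have hcl : Cfsg.omegaOne p ((S : Subgroup G) ⊓
        Subgroup.centralizer ((S : Subgroup G) : Set G)) ≤
        Subgroup.centralizer ({(a : G)} : Set G) := by
      unfold Cfsg.omegaOne
      rw [Subgroup.closure_le]
      rintro x ⟨⟨hx1, hx2⟩, hx3⟩
      refine Subgroup.mem_centralizer_iff.mpr ?_
      intro y hy
      rw [Set.mem_singleton_iff] at hy
      rw [hy]
      have hxgen : (⟨x, hSM hx1⟩ : ↥M) ∈ Cfsg.omegaOne p ((T : Subgroup ↥M) ⊓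
          Subgroup.centralizer ((T : Subgroup ↥M) : Set ↥M)) := by
        unfold Cfsg.omegaOne
        apply Subgroup.subset_closure
        refine ⟨⟨?_, ?_⟩, ?_⟩
        · rw [hT]
          exact Subgroup.mem_subgroupOf.mpr hx1
        · refine Subgroup.mem_centralizer_iff.mpr ?_
          intro t ht
          rw [hT] at ht
          have := Subgroup.mem_centralizer_iff.mp hx2 (t : G) (Subgroup.mem_subgroupOf.mp ht)
          exact Subtype.ext this
        · apply Subtype.ext
          simpa using hx3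
      have := Subgroup.mem_centralizer_iff.mp ha _ hxgen
      exact (congrArg Subtype.val this).symm
    exact (Subgroup.mem_centralizer_iff.mp (hcl hz) (a : G) (Set.mem_singleton _)).symm
  · exact congrArg Subtype.val hmba

end Transport

end Cfsg.Agent.Lib.Helper13
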