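import Cfsg.Agent.Lib.Helper13.ZClosC
import Cfsg.Agent.S1996

set_option autoImplicit false

/-! The normal closure of `Ω₁Z(S)` in `N(W₁(S))` is elementary abelian, strongly closed and
controls strong fusion, under the three factorizations (helper13). -/

namespace Cfsg.Agent.Lib.Helper13

universe u

section Gen

variable {G : Type u} [Group G]

theorem normalClosure_map_eq_zcl (Z N : Subgroup G) (hZN : Z ≤ N) :
    (Subgroup.normalClosure ((Z.subgroupOf N : Subgroup ↥N) : Set ↥N)).map N.subtype = zcl Z N := by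
  apply le_antisymm
  · rw [Subgroup.map_le_iff_le_comap]
    haveI : ((zcl Z N).comap N.subtype).Normal := by
      constructor
      intro x hx g
      rw [Subgroup.mem_comap] at hx ⊢
      have := zcl_conj_mem (Z := Z) g.2 hx
      simpa using this
    apply Subgroup.normalClosure_le_normal
    intro x hx
    rw [SetLike.mem_coe, Subgroup.mem_comap]
    exact le_zcl Z N (Subgroup.mem_subgroupOf.mp hx)
  · apply zcl_le
    intro n hn z hz
    haveI := Subgroup.normalClosure_normal (s := ((Z.subgroupOf N : Subgroup ↥N) : Set ↥N))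
    have h1 : (⟨z, hZN hz⟩ : ↥N) ∈ Subgroup.normalClosure ((Z.subgroupOf N : Subgroup ↥N) : Set ↥N) :=
      Subgroup.subset_normalClosure (Subgroup.mem_subgroupOf.mpr hz)
    have h2 := (Subgroup.normalClosure_normal
      (s := ((Z.subgroupOf N : Subgroup ↥N) : Set ↥N))).conj_mem _ h1 ⟨n, hn⟩
    exact ⟨_, h2, rfl⟩

theorem freach_mem_subgroup {𝓦 : Set (Subgroup G → Subgroup G)} {H T : Subgroup G} {A : Set G}
    {c : G} (h : FReach 𝓦 H T A c) (K : Subgroup G)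
    (hK : ∀ W ∈ 𝓦, H ⊓ Subgroup.normalizer ((W T : Subgroup G) : Set G) ≤ K) : c ∈ K := by
  induction h with
  | one _ => exact K.one_mem
  | step c y V hV hy hc hA ih => exact K.mul_mem (hK V hV hy) ih

/-- A subgroup generated by pairwise commuting elements of order dividing `p`. -/
theorem closure_comm_pow (p : ℕ) (K : Set G) (hcomm : ∀ x ∈ K, ∀ y ∈ K, x * y = y * x)
    (hpow : ∀ x ∈ K, x ^ p = 1) :
    (∀ a ∈ Subgroup.closure K, ∀ b ∈ Subgroup.closure K, a * b = b * a) ∧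
      ∀ a ∈ Subgroup.closure K, a ^ p = 1 := by
  have h1 : Subgroup.closure K ≤ Subgroup.centralizer K := by
    rw [Subgroup.closure_le]
    intro x hx
    refine Subgroup.mem_centralizer_iff.mpr ?_
    intro y hy
    exact hcomm y hy x hx
  have h2 : Subgroup.closure K ≤ Subgroup.centralizer ((Subgroup.closure K : Subgroup G) : Set G) := by
    rw [Subgroup.closure_le]
    intro x hx
    refine Subgroup.mem_centralizer_iff.mpr ?_
    intro y hy
    exact (Subgroup.mem_centralizer_iff.mp (h1 hy) x hx).symm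
  have hc : ∀ a ∈ Subgroup.closure K, ∀ b ∈ Subgroup.closure K, a * b = b * a := by
    intro a ha b hb
    exact (Subgroup.mem_centralizer_iff.mp (h2 hb) a ha)
  refine ⟨hc, ?_⟩
  intro a ha
  induction ha using Subgroup.closure_induction with
  | mem x hx => exact hpow x hx
  | one => exact one_pow p
  | mul x y hx hy ihx ihy =>
    rw [(show Commute x y from hc x hx y hy).mul_pow, ihx, ihy, one_mul]
  | inv x hx ihx => rw [inv_pow, ihx, inv_one]

end Gen

section Main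

variable {G : Type u} [Group G] [Finite G] {p : ℕ} [Fact p.Prime]

theorem zclos_main (S : Sylow p G) (W₁ W₂ : ∀ (Q : Type u) [Group Q], Subgroup Q)
    (hW₁ : Cfsg.IsCharPFunctor.{u} p W₁) (hW₂ : Cfsg.IsCharPFunctor.{u} p W₂)
    (hfac : ∀ (K R : Subgroup G) [hR : (R.subgroupOf K).Normal], Subgroup.centralizer ((Cfsg.pCore p (↥K ⧸ R.subgroupOf K) : Subgroup (↥K ⧸ R.subgroupOf K)) : Set (↥K ⧸ R.subgroupOf K)) ≤ Cfsg.pCore p (↥K ⧸ R.subgroupOf K) → ∀ T : Sylow p (↥K ⧸ R.subgroupOf K), (∀ x : (↥K ⧸ R.subgroupOf K), ∃ a ∈ Subgroup.centralizer ((Cfsg.omegaOne p ((T : Subgroup (↥K ⧸ R.subgroupOf K)) ⊓ Subgroup.centralizer (((T : Subgroup (↥K ⧸ R.subgroupOf K)) : Subgroup (↥K ⧸ R.subgroupOf K)) : Set (↥K ⧸ R.subgroupOf K))) : Subgroup (↥K ⧸ R.subgroupOf K)) : Set (↥K ⧸ R.subgroupOf K)), ∃ b ∈ Subgroup.normalizer ((Cfsg.inducedFunctor (G := (↥K ⧸ R.subgroupOf K)) W₁ (T : Subgroup (↥K ⧸ R.subgroupOf K)) : Subgroup (↥K ⧸ R.subgroupOf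 K)) : Set (↥K ⧸ R.subgroupOf K)), x = a * b) ∧ (∀ x : (↥K ⧸ R.subgroupOf K), ∃ a ∈ Subgroup.centralizer ((Cfsg.omegaOne p ((T : Subgroup (↥K ⧸ R.subgroupOf K)) ⊓ Subgroup.centralizer (((T : Subgroup (↥K ⧸ R.subgroupOf K)) : Subgroup (↥K ⧸ R.subgroupOf K)) : Set (↥K ⧸ R.subgroupOf K))) : Subgroup (↥K ⧸ R.subgroupOf K)) : Set (↥K ⧸ R.subgroupOf K)), ∃ b ∈ Subgroup.normalizer ((Cfsg.inducedFunctor (G := (↥K ⧸ R.subgroupOf K)) W₂ (T : Subgroup (↥K ⧸ R.subgroupOf K)) : Subgroup (↥K ⧸ R.subgroupOf K)) : Set (↥K ⧸ R.subgroupOf K)), x = a * b) ∧ (∀ x : (↥K ⧸ R.subgroupOf K), ∃ a ∈ Subgroup.normalizer ((Cfsg.inducedFunctor (G := (↥K ⧸ R.subgroupOf K)) W₁ (T : Subgroup (↥K ⧸ R.subgroupOf K)) : Subgroup (↥K ⧸ R.subgroupOf K)) : Set (↥K ⧸ R.subgroupOf K)), ∃ b ∈ Subgroup.normalizer ((Cfsg.inducedFunctor (G := (↥K ⧸ R.subgroupOf K)) W₂ (T : Subgroup (↥K ⧸ R.subgroupOf K)) : Subgroup (↥K ⧸ R.subgroupOf K)) : Set (↥K ⧸ R.subgroupOf K)),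 x = a * b))
    (hZ : Cfsg.omegaOne p ((S : Subgroup G) ⊓ Subgroup.centralizer (((S : Subgroup G) : Subgroup G) : Set G)) ≤ Cfsg.inducedFunctor (G := G) W₁ (S : Subgroup G) ⊓ Cfsg.inducedFunctor (G := G) W₂ (S : Subgroup G))
    (A : Subgroup G)
    (hA : A = zcl (Cfsg.omegaOne p ((S : Subgroup G) ⊓ Subgroup.centralizer ((S : Subgroup G) : Set G)))
      (Subgroup.normalizer ((Cfsg.inducedFunctor (G := G) W₁ (S : Subgroup G) : Subgroup G) : Set G))) :
    A ≤ (S : Subgroup G) ∧ Cfsg.IsElementaryAbelian p A ∧ Cfsg.IsStronglyClosed A (S : Subgroup G) ∧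
      Cfsg.ControlsStrongFusion p A := by
  obtain ⟨Z, hZdef⟩ : ∃ Z : Subgroup G, Z = Cfsg.omegaOne p ((S : Subgroup G) ⊓
      Subgroup.centralizer ((S : Subgroup G) : Set G)) := ⟨_, rfl⟩
  obtain ⟨V₁, hV₁⟩ : ∃ V₁, V₁ = Cfsg.inducedFunctor (G := G) W₁ (S : Subgroup G) := ⟨_, rfl⟩
  obtain ⟨V₂, hV₂⟩ : ∃ V₂, V₂ = Cfsg.inducedFunctor (G := G) W₂ (S : Subgroup G) := ⟨_, rfl⟩
  rw [← hZdef, ← hV₁, ← hV₂] at hZ
  rw [← hZdef, ← hV₁] at hA
  have hZ1 : Z ≤ V₁ := hZ.trans inf_le_left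
  have hZ2 : Z ≤ V₂ := hZ.trans inf_le_right
  have hV1S : V₁ ≤ (S : Subgroup G) := hV₁ ▸ inducedFunctor_le W₁ _
  have hV2S : V₂ ≤ (S : Subgroup G) := hV₂ ▸ inducedFunctor_le W₂ _
  have hc1 := inducedFunctor_isConjugacyFunctor (G := G) W₁ hW₁
  have hc2 := inducedFunctor_isConjugacyFunctor (G := G) W₂ hW₂
  have hS1 : (S : Subgroup G) ≤ Subgroup.normalizer (V₁ : Set G) :=
    hV₁ ▸ Subgroup.le_normalizer.trans (normalizer_le_normalizer_functor hc1 S.isPGroup')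
  have hS2 : (S : Subgroup G) ≤ Subgroup.normalizer (V₂ : Set G) :=
    hV₂ ▸ Subgroup.le_normalizer.trans (normalizer_le_normalizer_functor hc2 S.isPGroup')
  -- the factorization hypotheses, transported
  have hnorm : ∀ M : Subgroup G,
      ((((Cfsg.pPrimeCore p ↥M).map M.subtype : Subgroup G)).subgroupOf M).Normal := by
    intro M
    rw [show (((Cfsg.pPrimeCore p ↥M).map M.subtype : Subgroup G)).subgroupOf M =
      Cfsg.pPrimeCore p ↥M from
      Subgroup.comap_map_eq_self_of_injective M.subtype_injective _]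
    exact pPrimeCore_normal' p
  have hfac1 : ∀ M : Subgroup G, (S : Subgroup G) ≤ M → M ≤ Subgroup.normalizer (V₂ : Set G) →
      M ≤ Subgroup.normalizer ((((S : Subgroup G) ⊓
        (M ⊓ Subgroup.centralizer ((Cfsg.pCoreOf p M : Subgroup G) : Set G)) : Subgroup G)) : Set G) →
      ∀ m ∈ M, ∃ b ∈ M ⊓ Subgroup.normalizer (V₁ : Set G), ∃ a ∈ Subgroup.centralizer (Z : Set G),
        m = b * a := by
    intro M hSM hM2 hXn
    have hZQ : Z ≤ Cfsg.pCoreOf p M :=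
      hZ2.trans (wc_le_pCoreOf (hV2S.trans hSM) (S.isPGroup'.to_le hV2S) hM2)
    haveI := hnorm M
    rw [hZdef] at hZQ ⊢
    rw [hV₁]
    exact fac_transport S W₁ hW₁ M hSM hZQ hXn _ rfl
      (fun hc T' => (hfac M _ hc T').1)
  have hfac2 : ∀ M : Subgroup G, (S : Subgroup G) ≤ M → M ≤ Subgroup.normalizer (V₁ : Set G) →
      M ≤ Subgroup.normalizer ((((S : Subgroup G) ⊓
        (M ⊓ Subgroup.centralizer ((Cfsg.pCoreOf p M : Subgroup G) : Set G)) : Subgroup G)) : Set G) →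
      ∀ m ∈ M, ∃ b ∈ M ⊓ Subgroup.normalizer (V₂ : Set G), ∃ a ∈ Subgroup.centralizer (Z : Set G),
        m = b * a := by
    intro M hSM hM1 hXn
    have hZQ : Z ≤ Cfsg.pCoreOf p M :=
      hZ1.trans (wc_le_pCoreOf (hV1S.trans hSM) (S.isPGroup'.to_le hV1S) hM1)
    haveI := hnorm M
    rw [hZdef] at hZQ ⊢
    rw [hV₂]
    exact fac_transport S W₂ hW₂ M hSM hZQ hXn _ rfl
      (fun hc T' => (hfac M _ hc T').2.1)
  have heq := zcl_eq_of_fac S Z V₁ V₂ hZ1 hZ2 hV1S hV2S hfac1 hfac2 hS1 hS2 _ ⊤ rfl le_top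
  rw [top_inf_eq, top_inf_eq, ← hA] at heq
  -- `A` is normalized by both normalizers
  have hN1 : Subgroup.normalizer (V₁ : Set G) ≤ Subgroup.normalizer (A : Set G) :=
    hA ▸ le_normalizer_zcl Z _
  have hN2 : Subgroup.normalizer (V₂ : Set G) ≤ Subgroup.normalizer (A : Set G) :=
    heq ▸ le_normalizer_zcl Z _
  have hAV : A ≤ V₁ := by
    rw [hA]
    apply zcl_le
    intro n hn z hz
    exact (Subgroup.mem_normalizer_iff.mp hn z).mp (hZ1 hz)
  have hAS : A ≤ (S : Subgroup G) := hAV.trans hV1S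
  -- pair control of strong fusion
  have hpair := Cfsg.Agent.S1996.result W₁ W₂ hW₁ hW₂ (fun K R _ hc T x => (hfac K R hc T).2.2 x)
  have h𝓦 : ∀ W ∈ ({Cfsg.inducedFunctor (G := G) W₁, Cfsg.inducedFunctor (G := G) W₂} :
      Set (Subgroup G → Subgroup G)), Cfsg.IsConjugacyFunctor p W := by
    intro W hW
    rcases hW with hW | hW
    · rw [hW]; exact hc1
    · rw [Set.mem_singleton_iff] at hW
      rw [hW]; exact hc2
  have hSi : ¬ p ∣ (S : Subgroup G).relIndex ⊤ := by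
    rw [Subgroup.relIndex_top_right]; exact S.not_dvd_index
  have hreach := family_fusion_of_sylow h𝓦 hpair le_top S.isPGroup' hSi
  have hstep : ∀ W ∈ ({Cfsg.inducedFunctor (G := G) W₁, Cfsg.inducedFunctor (G := G) W₂} :
      Set (Subgroup G → Subgroup G)),
      (⊤ : Subgroup G) ⊓ Subgroup.normalizer ((W (S : Subgroup G) : Subgroup G) : Set G) ≤
        Subgroup.normalizer (A : Set G) := by
    intro W hW
    rcases hW with hW | hW
    · rw [hW, top_inf_eq, ← hV₁]; exact hN1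
    · rw [Set.mem_singleton_iff] at hW
      rw [hW, top_inf_eq, ← hV₂]; exact hN2
  have hctl : ∀ (X : Set G) (g : G), X ⊆ ((S : Subgroup G) : Set G) →
      (fun a => g * a * g⁻¹) '' X ⊆ ((S : Subgroup G) : Set G) →
      ∃ c ∈ Subgroup.normalizer (A : Set G), ∀ a ∈ X, c * a * c⁻¹ = g * a * g⁻¹ := by
    intro X g hX hgX
    obtain ⟨c, hc, hca⟩ := hreach X g (Subgroup.mem_top g) hX hgX
    exact ⟨c, freach_mem_subgroup hc _ hstep, hca⟩
  refine ⟨hAS, ?_, ⟨hAS, ?_⟩, ⟨S, hAS, fun X hX => ⟨hX, fun g hg => ?_⟩⟩⟩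
  · -- elementary abelian
    have hZS : ∀ z ∈ Z, z ∈ (S : Subgroup G) ⊓ Subgroup.centralizer ((S : Subgroup G) : Set G) := by
      intro z hz
      rw [hZdef] at hz
      unfold Cfsg.omegaOne at hz
      have : Subgroup.closure {x : G | x ∈ (S : Subgroup G) ⊓
          Subgroup.centralizer ((S : Subgroup G) : Set G) ∧ x ^ p = 1} ≤
          (S : Subgroup G) ⊓ Subgroup.centralizer ((S : Subgroup G) : Set G) := by
        rw [Subgroup.closure_le]
        intro x hx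
        exact hx.1
      exact this hz
    have hZpow : ∀ z ∈ Z, z ^ p = 1 := by
      intro z hz
      rw [hZdef] at hz
      unfold Cfsg.omegaOne at hz
      refine (closure_comm_pow p _ ?_ ?_).2 z hz
      · rintro x ⟨hx, -⟩ y ⟨hy, -⟩
        exact (Subgroup.mem_centralizer_iff.mp hy.2 x hx.1)
      · rintro x ⟨-, hx⟩
        exact hx
    have hgen := closure_comm_pow p {x | ∃ n ∈ Subgroup.normalizer (V₁ : Set G), ∃ z ∈ Z,
        x = n * z * n⁻¹} ?_ ?_
    · have hcomm : ∀ a ∈ A, ∀ b ∈ A, a * b = b * a := by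
        intro a ha b hb
        rw [hA] at ha hb
        exact hgen.1 a ha b hb
      refine ⟨⟨⟨fun a b => Subtype.ext (hcomm a a.2 b b.2)⟩⟩, ?_⟩
      intro a ha
      rw [hA] at ha
      exact hgen.2 a ha
    · rintro _ ⟨n, hn, z, hz, rfl⟩ _ ⟨n', hn', z', hz', rfl⟩
      -- conjugate back by `n`
      have h1 : n⁻¹ * (n' * z' * n'⁻¹) * n ∈ (S : Subgroup G) := by
        apply hV1S
        have h2 := (Subgroup.mem_normalizer_iff.mp
          (Subgroup.mul_mem _ (Subgroup.inv_mem _ hn) hn') z').mp (hZ1 hz')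
        have e : n⁻¹ * (n' * z' * n'⁻¹) * n = (n⁻¹ * n') * z' * (n⁻¹ * n')⁻¹ := by group
        rw [e]
        exact h2
      have h3 := Subgroup.mem_centralizer_iff.mp (hZS z hz).2 _ h1
      -- h3 : (n⁻¹ * x' * n) * z = z * (n⁻¹ * x' * n)
      calc n * z * n⁻¹ * (n' * z' * n'⁻¹)
          = n * (z * (n⁻¹ * (n' * z' * n'⁻¹) * n)) * n⁻¹ := by group
        _ = n * ((n⁻¹ * (n' * z' * n'⁻¹) * n) * z) * n⁻¹ := by rw [h3]
        _ = n' * z' * n'⁻¹ * (n * z * n⁻¹) := by group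
    · rintro _ ⟨n, hn, z, hz, rfl⟩
      rw [conj_pow, hZpow z hz]
      group
  · -- strongly closed
    intro x hx g hg
    obtain ⟨c, hc, hca⟩ := hctl {x} g (by
      intro y hy
      rw [Set.mem_singleton_iff] at hy
      rw [hy]; exact hAS hx) (by
      rintro _ ⟨y, hy, rfl⟩
      rw [Set.mem_singleton_iff] at hy
      rw [hy]; exact hg)
    rw [← hca x (Set.mem_singleton x)]
    exact (Subgroup.mem_normalizer_iff.mp hc x).mp hx
  · -- control of strong fusion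
    obtain ⟨c, hc, hca⟩ := hctl X g hX hg
    exact ⟨c, hc, fun a ha => (hca a ha).symm⟩

end Main

end Cfsg.Agent.Lib.Helper13
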