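import Cfsg.Agent.Lib.Helper18.ZS4B

set_option autoImplicit false

/-! Piece TR1 of helper18's plan for S3222: `t ~ s` excludes `t ~ t*s`. -/

namespace Cfsg.Agent.Lib.Helper13.ZS4TR1

open Cfsg.Agent.Lib.Helper18.ZS4 Subgroup

set_option maxRecDepth 100000 in
theorem z0_ne_s0t0 : z0 ≠ s0 * t0 := by decide

set_option maxRecDepth 100000 in
theorem z0_ne_t0 : z0 ≠ t0 := by decide

set_option maxRecDepth 100000 in
theorem r0_conj_t0s0 : r0 * (t0 * s0) * r0⁻¹ = t0 * s0 * z0 := by decide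

set_option maxRecDepth 100000 in
theorem t0s0_eq : t0 * s0 = s0 * t0 := by decide

theorem conj_comm_of_comm {G : Type*} [Group G] (g x y : G)
    (h : (g * x * g⁻¹) * y = y * (g * x * g⁻¹)) :
    (g⁻¹ * y * g) * x = x * (g⁻¹ * y * g) := by
  calc (g⁻¹ * y * g) * x = g⁻¹ * (y * (g * x * g⁻¹)) * g := by group
    _ = g⁻¹ * ((g * x * g⁻¹) * y) * g := by rw [h]
    _ = x * (g⁻¹ * y * g) := by group

theorem conj_of_inv_conj {G : Type*} [Group G] {g x y : G} (h : g⁻¹ * x * g = y) :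
    x = g * y * g⁻¹ := by
  rw [← h]; group

variable {G : Type*} [Group G] [Finite G] {t : G}

theorem not_both (e : ↥(centralizer ({t} : Set G)) ≃* K) (ht : orderOf t = 2) (T : Sylow 2 G)
    (htc : ∀ s ∈ (T : Subgroup G), s * t = t * s)
    (h2 : ∀ S : Sylow 2 G,
      centralizer ((⁅(S : Subgroup G), (S : Subgroup G)⁆ : Subgroup G) : Set G) = (S : Subgroup G))
    (g : G) (hg : g * t * g⁻¹ = inc e s0) : ∀ g' : G, g' * t * g'⁻¹ ≠ inc e (t0 * s0) := by
  intro g' hg'
  have ht1 : t ≠ 1 := by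
    intro h; rw [h, orderOf_one] at ht; omega
  have htt : t * t = 1 := by rw [← pow_two, ← ht, pow_orderOf_eq_one]
  have hit : inc e t0 = t := inc_t0 e ht1
  have hst : inc e s0 * t = t * inc e s0 := inc_comm_t e s0
  have hzt : inc e z0 * t = t * inc e z0 := inc_comm_t e z0
  have hsz : inc e s0 * inc e z0 = inc e z0 * inc e s0 := by
    rw [← map_mul, ← map_mul, s0_comm_z0]
  have hzz : inc e z0 * inc e z0 = 1 := by rw [← map_mul, z0_sq, map_one]
  -- a = g⁻¹ t g and b = g⁻¹ z g centralize t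
  have ha_mem : g⁻¹ * t * g ∈ centralizer ({t} : Set G) := by
    rw [mem_centralizer_singleton_iff]
    apply conj_comm_of_comm g t t
    rw [hg]; exact hst
  have hb_mem : g⁻¹ * inc e z0 * g ∈ centralizer ({t} : Set G) := by
    rw [mem_centralizer_singleton_iff]
    apply conj_comm_of_comm g t (inc e z0)
    rw [hg]; exact hsz
  obtain ⟨A, hA⟩ := exists_inc e ha_mem
  obtain ⟨B, hB⟩ := exists_inc e hb_mem
  have hAA : A * A = 1 := by
    apply inc_eq_one e
    rw [map_mul, hA]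
    calc g⁻¹ * t * g * (g⁻¹ * t * g) = g⁻¹ * (t * t) * g := by group
      _ = 1 := by rw [htt]; group
  have hBB : B * B = 1 := by
    apply inc_eq_one e
    rw [map_mul, hB]
    calc g⁻¹ * inc e z0 * g * (g⁻¹ * inc e z0 * g) = g⁻¹ * (inc e z0 * inc e z0) * g := by group
      _ = 1 := by rw [hzz]; group
  have hAB : A * B = B * A := by
    apply inc_injective e
    rw [map_mul, map_mul, hA, hB]
    calc g⁻¹ * t * g * (g⁻¹ * inc e z0 * g) = g⁻¹ * (t * inc e z0) * g := by group
      _ = g⁻¹ * (inc e z0 * t) * g := by rw [hzt]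
      _ = g⁻¹ * inc e z0 * g * (g⁻¹ * t * g) := by group
  have hA1 : A ≠ 1 := by
    intro h
    have q : g⁻¹ * t * g = 1 := by rw [← hA, h, map_one]
    apply ht1
    exact (conj_of_inv_conj q).trans (by group)
  have hAt : A ≠ t0 := by
    intro h
    have q : g⁻¹ * t * g = t := by rw [← hA, h, hit]
    have h3 : g * t * g⁻¹ = t := (conj_of_inv_conj q).symm
    exact s0_ne_t0 (inc_injective e (hg.symm.trans (h3.trans hit.symm)))
  have hB1 : B ≠ 1 := by
    intro h
    have q : g⁻¹ * inc e z0 * g = 1 := by rw [← hB, h, map_one]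
    apply inc_ne_one e z0_ne_one
    exact (conj_of_inv_conj q).trans (by group)
  have hBt : B ≠ t0 := by
    intro h
    have q : g⁻¹ * inc e z0 * g = t := by rw [← hB, h, hit]
    apply not_conj_t_z e T htc h2 ht1 1 g⁻¹
    rw [inv_inv, q]; group
  have hBA : B ≠ A := by
    intro h
    have q : g⁻¹ * inc e z0 * g = g⁻¹ * t * g := by rw [← hB, h, hA]
    have h3 : inc e z0 = t := (conj_of_inv_conj q).trans (by group)
    exact z0_ne_t0 (inc_injective e (h3.trans hit.symm))
  have hBtA : B ≠ t0 * A := by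
    intro h
    have q : g⁻¹ * inc e z0 * g = t * (g⁻¹ * t * g) := by rw [← hB, h, map_mul, hit, hA]
    have h3 : inc e z0 = inc e (s0 * t0) := by
      rw [map_mul, hit, ← hg]
      exact (conj_of_inv_conj q).trans (by group)
    exact z0_ne_s0t0 (inc_injective e h3)
  have hk := kf2 A B ⟨hAA, hBB, hAB, hA1, hAt, hB1, hBt, hBA, hBtA⟩
  -- the general step
  have key : ∀ w : K, isDbl w = true → ∃ g1 : G, g1 * t * g1⁻¹ = inc e s0 ∧
      g1 * inc e z0 * g1⁻¹ = g * inc e w * g⁻¹ := by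
    intro w hw
    obtain ⟨c, hc⟩ := dbl_conj w hw
    refine ⟨g * inc e c, ?_, ?_⟩
    · have hct : inc e c * t = t * inc e c := inc_comm_t e c
      calc g * inc e c * t * (g * inc e c)⁻¹ = g * (inc e c * t) * (inc e c)⁻¹ * g⁻¹ := by group
        _ = g * (t * inc e c) * (inc e c)⁻¹ * g⁻¹ := by rw [hct]
        _ = g * t * g⁻¹ := by group
        _ = inc e s0 := hg
    · rw [hc, map_mul, map_mul, map_inv]; group
  -- evaluate g * inc e w * g⁻¹
  have eA : g * inc e A * g⁻¹ = t := by rw [hA]; group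
  have eB : g * inc e B * g⁻¹ = inc e z0 := by rw [hB]; group
  have et : g * inc e t0 * g⁻¹ = inc e s0 := by rw [hit]; exact hg
  have emul : ∀ x y : K, g * inc e (x * y) * g⁻¹ = (g * inc e x * g⁻¹) * (g * inc e y * g⁻¹) := by
    intro x y; rw [map_mul]; group
  simp only [Bool.or_eq_true] at hk
  rcases hk with ((((hk | hk) | hk) | hk) | hk) | hk
  · -- w = A : z1 = t
    obtain ⟨g1, _, h1z⟩ := key A hk
    rw [eA] at h1z
    apply not_conj_t_z e T htc h2 ht1 1 g1
    rw [h1z]; group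
  · -- w = B : z1 = z
    obtain ⟨g1, h1t, h1z⟩ := key B hk
    rw [eB] at h1z
    have hg1 : g1 ∈ centralizer ({inc e z0} : Set G) := by
      rw [mem_centralizer_singleton_iff]
      calc g1 * inc e z0 = g1 * inc e z0 * g1⁻¹ * g1 := by group
        _ = inc e z0 * g1 := by rw [h1z]
    have hg1t := mem_centralizer_singleton_iff.1 (centralizer_z_le e T htc h2 hg1)
    have h3 : g1 * t * g1⁻¹ = t := by rw [hg1t]; group
    exact s0_ne_t0 (inc_injective e ((h1t.symm.trans h3).trans hit.symm))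
  · -- w = A * B : z1 = t z
    obtain ⟨g1, _, h1z⟩ := key (A * B) hk
    rw [emul, eA, eB] at h1z
    exact not_conj_tz_z e T htc h2 ht1 g1 h1z
  · -- w = t0 * A : z1 = s t
    obtain ⟨g1, _, h1z⟩ := key (t0 * A) hk
    rw [emul, et, eA] at h1z
    apply not_conj_t_z e T htc h2 ht1 g' g1
    rw [hg', h1z, t0s0_eq, map_mul, hit]
  · -- w = t0 * B : z1 = s z
    obtain ⟨g1, _, h1z⟩ := key (t0 * B) hk
    rw [emul, et, eB] at h1z
    apply not_conj_t_z e T htc h2 ht1 (inc e r0 * g) g1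
    rw [h1z]
    calc inc e r0 * g * t * (inc e r0 * g)⁻¹ = inc e r0 * (g * t * g⁻¹) * (inc e r0)⁻¹ := by group
      _ = inc e (r0 * s0 * r0⁻¹) := by rw [hg, map_mul, map_mul, map_inv]
      _ = inc e s0 * inc e z0 := by rw [r0_conj_s0, map_mul]
  · -- w = t0 * A * B : z1 = s t z
    obtain ⟨g1, _, h1z⟩ := key (t0 * A * B) hk
    rw [emul, emul, et, eA, eB] at h1z
    apply not_conj_t_z e T htc h2 ht1 (inc e r0 * g') g1
    rw [h1z]
    calc inc e r0 * g' * t * (inc e r0 * g')⁻¹ = inc e r0 * (g' * t * g'⁻¹) * (inc e r0)⁻¹ := by group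
      _ = inc e (r0 * (t0 * s0) * r0⁻¹) := by rw [hg']; simp only [map_mul, map_inv]
      _ = inc e s0 * t * inc e z0 := by
        rw [r0_conj_t0s0, t0s0_eq, map_mul, map_mul, hit]

end Cfsg.Agent.Lib.Helper13.ZS4TR1
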