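import Cfsg.Agent.Lib.Helper18.ZS4B
import Cfsg.Agent.S0111

set_option autoImplicit false

/-! Piece TR2 of helper18's plan for S3222: Thompson transfer when `t` is not conjugate to `s`. -/

namespace Cfsg.Agent.Lib.Helper13.ZS4TR2

open Cfsg.Agent.Lib.Helper18.ZS4 Subgroup

/-- the dihedral subgroup `1 × D₈` of `K` -/
def Q0 : Subgroup K :=
  centralizer ({z0} : Set K) ⊓ (MonoidHom.fst (Multiplicative (ZMod 2)) (Equiv.Perm (Fin 4))).ker

theorem mem_Q0 {k : K} : k ∈ Q0 ↔ k * z0 = z0 * k ∧ k.1 = 1 := by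
  unfold Q0
  rw [Subgroup.mem_inf, mem_centralizer_singleton_iff, MonoidHom.mem_ker, MonoidHom.coe_fst]

set_option maxRecDepth 100000 in
theorem card_Q0_aux : Fintype.card {k : K // k * z0 = z0 * k ∧ k.1 = 1} = 8 := by decide

theorem card_Q0 : Nat.card Q0 = 8 := by
  rw [← card_Q0_aux, ← Nat.card_eq_fintype_card]
  apply Nat.card_congr
  exact Equiv.subtypeEquivRight (fun k => mem_Q0)

set_option maxRecDepth 100000 in
theorem t0_fst_ne : (t0 : K).1 ≠ 1 := by decide

set_option maxRecDepth 100000 in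
set_option synthInstance.maxSize 100000 in
set_option synthInstance.maxHeartbeats 0 in
theorem invol_Q0 : ∀ k : K, k * z0 = z0 * k → k.1 = 1 → k * k = 1 → k ≠ 1 →
    (∃ c : K, k = c * z0 * c⁻¹) ∨ (∃ c : K, k = c * s0 * c⁻¹) := by decide

variable {G : Type*} [Group G] [Finite G] {t : G}

theorem transfer_of_not_conj (e : ↥(centralizer ({t} : Set G)) ≃* K) (ht : orderOf t = 2)
    (T : Sylow 2 G)
    (htc : ∀ s ∈ (T : Subgroup G), s * t = t * s)
    (h2 : ∀ S : Sylow 2 G,
      centralizer ((⁅(S : Subgroup G), (S : Subgroup G)⁆ : Subgroup G) : Set G) = (S : Subgroup G))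
    (hns : ∀ g : G, g * t * g⁻¹ ≠ inc e s0) :
    ∃ M : Subgroup G, M.Normal ∧ M.index = 2 ∧ t ∉ M := by
  have ht1 : t ≠ 1 := by
    intro h; rw [h, orderOf_one] at ht; omega
  have htt : t * t = 1 := by rw [← pow_two, ← ht, pow_orderOf_eq_one]
  have hit : inc e t0 = t := inc_t0 e ht1
  obtain ⟨S, hS⟩ := exists_sylow_eq e T htc
  have hQS : Q0.map (inc e) ≤ (S : Subgroup G) := by
    rw [hS]
    unfold Tz
    apply Subgroup.map_mono
    unfold Q0
    exact inf_le_left
  have hcQ : Nat.card (Q0.map (inc e)) = 8 := by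
    rw [Subgroup.card_map_of_injective (inc_injective e), card_Q0]
  have hcS : Nat.card (S : Subgroup G) = 16 := by rw [hS, card_Tz]
  have hrel : (Q0.map (inc e)).relIndex (S : Subgroup G) = 2 := by
    have h := Subgroup.relIndex_mul_relIndex (⊥ : Subgroup G) (Q0.map (inc e)) (S : Subgroup G)
      bot_le hQS
    rw [Subgroup.relIndex_bot_left, Subgroup.relIndex_bot_left, hcQ, hcS] at h
    omega
  have htS : t ∈ (S : Subgroup G) := by rw [hS]; exact t_mem_Tz e ht1
  have htQ : t ∉ Q0.map (inc e) := by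
    intro h
    obtain ⟨k, hk, hkt⟩ := Subgroup.mem_map.1 h
    have hk0 : k = t0 := inc_injective e (hkt.trans hit.symm)
    rw [hk0] at hk
    exact t0_fst_ne (mem_Q0.1 hk).2
  rcases Cfsg.Agent.S0111.result S (Q0.map (inc e)) hQS hrel t ht htS htQ with h | ⟨g, hg⟩
  · exact h
  · exfalso
    obtain ⟨k, hk, hkt⟩ := Subgroup.mem_map.1 hg
    obtain ⟨hkz, hk1⟩ := mem_Q0.1 hk
    have hkk : k * k = 1 := by
      apply inc_eq_one e
      rw [map_mul, hkt]
      calc g * t * g⁻¹ * (g * t * g⁻¹) = g * (t * t) * g⁻¹ := by group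
        _ = 1 := by rw [htt]; group
    have hkne : k ≠ 1 := by
      intro h
      rw [h, map_one] at hkt
      apply ht1
      calc t = g⁻¹ * (g * t * g⁻¹) * g := by group
        _ = 1 := by rw [← hkt]; group
    rcases invol_Q0 k hkz hk1 hkk hkne with ⟨c, hc⟩ | ⟨c, hc⟩
    · apply not_conj_t_z e T htc h2 ht1 g (inc e c)
      rw [← hkt, hc, map_mul, map_mul, map_inv]
    · apply hns ((inc e c)⁻¹ * g)
      calc (inc e c)⁻¹ * g * t * ((inc e c)⁻¹ * g)⁻¹ = (inc e c)⁻¹ * (g * t * g⁻¹) * inc e c := by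
            group
        _ = (inc e c)⁻¹ * inc e (c * s0 * c⁻¹) * inc e c := by rw [← hkt, hc]
        _ = inc e s0 := by rw [map_mul, map_mul, map_inv]; group

end Cfsg.Agent.Lib.Helper13.ZS4TR2
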