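import Cfsg.Agent.Lib.Helper18.ZS4B
import Cfsg.Agent.Lib.Helper18.ConjCount
import Cfsg.Agent.S0215

set_option autoImplicit false

/-! Piece X of helper18's plan for S3222: the small cases (`|M| ≤ 168`) die. -/

namespace Cfsg.Agent.Lib.Helper13.ZS4X

open Cfsg.Agent.Lib.Helper18.ZS4 Subgroup Equiv

/-- the six elements `(a, transposition)` of `K` -/
def trL (a : Multiplicative (ZMod 2)) : List K :=
  [(a, swap 0 1), (a, swap 0 2), (a, swap 0 3), (a, swap 1 2), (a, swap 1 3), (a, swap 2 3)]

set_option maxRecDepth 100000 in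
theorem trL_nodup : ∀ a : Multiplicative (ZMod 2), (trL a).Nodup := by decide

theorem trL_length (a : Multiplicative (ZMod 2)) : (trL a).length = 6 := rfl

set_option maxRecDepth 100000 in
theorem t0_not_mem_trL : ∀ a : Multiplicative (ZMod 2), t0 ∉ trL a := by decide

set_option maxRecDepth 100000 in
set_option synthInstance.maxSize 100000 in
set_option synthInstance.maxHeartbeats 0 in
theorem invol_cases : ∀ k : K, k * z0 = z0 * k → k * k = 1 → k ≠ 1 → k ≠ t0 →
    (∃ c : K, k = c * z0 * c⁻¹) ∨ (∃ c : K, k = c * (t0 * z0) * c⁻¹) ∨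
      (∀ l ∈ trL k.1, ∃ c : K, l = c * k * c⁻¹) := by decide

variable {G : Type*} [Group G] [Finite G] {t : G}

theorem no_small_case (e : ↥(centralizer ({t} : Set G)) ≃* K) (ht : orderOf t = 2)
    (T : Sylow 2 G)
    (htc : ∀ s ∈ (T : Subgroup G), s * t = t * s)
    (h2 : ∀ S : Sylow 2 G,
      centralizer ((⁅(S : Subgroup G), (S : Subgroup G)⁆ : Subgroup G) : Set G) = (S : Subgroup G))
    (M : Subgroup G) [M.Normal] (hMi : M.index = 2) (htM : t ∉ M)
    (hN : ∀ N : Subgroup G, N.Normal → N ≤ M → N = ⊥ ∨ (60 ≤ Nat.card N ∧ Even (Nat.card N)))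
    (hc1 : 24 < Nat.card M) (hc2 : Nat.card M ≤ 168) : False := by
  classical
  have ht1 : t ≠ 1 := by
    intro h; rw [h, orderOf_one] at ht; omega
  have htt : t * t = 1 := by rw [← pow_two, ← ht, pow_orderOf_eq_one]
  have hit : inc e t0 = t := inc_t0 e ht1
  have h24 := card_inf_centralizer e M hMi htM
  -- enough: a normal subgroup meeting `M` trivially and containing the commutators `[t, m]`
  have key : ∀ N' : Subgroup G, N'.Normal → N' ⊓ M = ⊥ →
      (∀ m : G, t * m * t⁻¹ * m⁻¹ ∈ N') → False := by
    intro N' _ hbot hcomm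
    have hle : M ≤ centralizer ({t} : Set G) := by
      intro m hm
      rw [mem_centralizer_singleton_iff]
      have h1 : t * m * t⁻¹ * m⁻¹ ∈ N' ⊓ M := by
        refine ⟨hcomm m, ?_⟩
        exact M.mul_mem (Subgroup.Normal.conj_mem inferInstance m hm t) (M.inv_mem hm)
      rw [hbot, Subgroup.mem_bot] at h1
      calc m * t = (t * m * t⁻¹ * m⁻¹)⁻¹ * (t * m) := by group
        _ = t * m := by rw [h1]; group
    have h3 : M ⊓ centralizer ({t} : Set G) = M := inf_eq_left.2 hle
    rw [h3] at h24
    omega
  -- size of the class of `t`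
  have hclass : Nat.card {h : G // IsConj t h} ≤ 7 := by
    have h1 := Cfsg.Agent.Lib.Helper18.card_isConj_mul_card_centralizer t
    rw [card_centralizer_t e] at h1
    have h3 := M.card_mul_index
    rw [hMi] at h3
    have h4 : Nat.card {h : G // IsConj t h} * 48 ≤ 336 := by omega
    omega
  obtain ⟨S, hS⟩ := exists_sylow_eq e T htc
  by_cases hiso : ∀ g : G, g * t * g⁻¹ ∈ Tz e → g * t * g⁻¹ = t
  · -- Case A: Z*
    have htS : t ∈ S := by
      show t ∈ (S : Subgroup G)
      rw [hS]; exact t_mem_Tz e ht1
    have hiso' : ∀ g : G, g * t * g⁻¹ ∈ S → g * t * g⁻¹ = t := by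
      intro g hg
      apply hiso g
      rw [← hS]; exact hg
    obtain ⟨N, hNn, hNodd, hNc⟩ := Cfsg.Agent.S0215.result S t ht htS hiso'
    haveI := hNn
    apply key N hNn _ hNc
    rcases hN (N ⊓ M) inferInstance inf_le_right with h | ⟨_, h⟩
    · exact h
    · exfalso
      have hdvd : Nat.card (N ⊓ M : Subgroup G) ∣ Nat.card N := Subgroup.card_dvd_of_le inf_le_left
      have : Odd (Nat.card (N ⊓ M : Subgroup G)) := Odd.of_dvd_nat hNodd hdvd
      exact (Nat.not_even_iff_odd.2 this) h
  · -- Case B
    push_neg at hiso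
    obtain ⟨g, hgT, hgt⟩ := hiso
    obtain ⟨k, hkz, hk⟩ := (mem_Tz e).1 hgT
    have hkk : k * k = 1 := by
      apply inc_eq_one e
      rw [map_mul, hk]
      calc g * t * g⁻¹ * (g * t * g⁻¹) = g * (t * t) * g⁻¹ := by group
        _ = 1 := by rw [htt]; group
    have hk1 : k ≠ 1 := by
      intro h
      rw [h, map_one] at hk
      apply ht1
      calc t = g⁻¹ * (g * t * g⁻¹) * g := by group
        _ = 1 := by rw [← hk]; group
    have hkt : k ≠ t0 := by
      intro h
      apply hgt
      rw [← hk, h, hit]
    rcases invol_cases k hkz hkk hk1 hkt with ⟨c, hc⟩ | ⟨c, hc⟩ | hall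
    · exfalso
      apply not_conj_t_z e T htc h2 ht1 g (inc e c)
      rw [← hk, hc, map_mul, map_mul, map_inv]
    · exfalso
      apply not_conj_t_tz e T htc h2 ht1 ((inc e c)⁻¹ * g)
      calc (inc e c)⁻¹ * g * t * ((inc e c)⁻¹ * g)⁻¹ = (inc e c)⁻¹ * (g * t * g⁻¹) * inc e c := by
            group
        _ = (inc e c)⁻¹ * inc e (c * (t0 * z0) * c⁻¹) * inc e c := by rw [← hk, hc]
        _ = inc e t0 * inc e z0 := by rw [map_mul, map_mul, map_mul, map_inv]; group
        _ = t * inc e z0 := by rw [hit]
    · -- seven conjugates of `t` inside `C(t)`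
      obtain ⟨F, hF⟩ : ∃ F : Finset G, F = insert t ((trL k.1).toFinset.image (inc e)) := ⟨_, rfl⟩
      have hFcard : F.card = 7 := by
        rw [hF, Finset.card_insert_of_notMem, Finset.card_image_of_injective _ (inc_injective e),
          List.toFinset_card_of_nodup (trL_nodup _), trL_length]
        intro h
        obtain ⟨l, hl, hlt⟩ := Finset.mem_image.1 h
        rw [List.mem_toFinset] at hl
        have : l = t0 := inc_injective e (hlt.trans hit.symm)
        rw [this] at hl
        exact t0_not_mem_trL _ hl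
      have hFsub : (F : Set G) ⊆ {h : G | IsConj t h} := by
        intro x hx
        rw [hF, Finset.coe_insert, Set.mem_insert_iff] at hx
        rcases hx with rfl | hx
        · exact IsConj.refl _
        · obtain ⟨l, hl, rfl⟩ := Finset.mem_image.1 (Finset.mem_coe.1 hx)
          rw [List.mem_toFinset] at hl
          obtain ⟨c, hc⟩ := hall l hl
          rw [Set.mem_setOf_eq, isConj_iff]
          refine ⟨inc e c * g, ?_⟩
          calc inc e c * g * t * (inc e c * g)⁻¹ = inc e c * (g * t * g⁻¹) * (inc e c)⁻¹ := by group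
            _ = inc e l := by rw [← hk, hc, map_mul, map_mul, map_inv]
      have hFC : ∀ x ∈ F, x ∈ centralizer ({t} : Set G) := by
        intro x hx
        rw [hF, Finset.mem_insert] at hx
        rcases hx with rfl | hx
        · exact t_mem
        · obtain ⟨l, _, rfl⟩ := Finset.mem_image.1 hx
          exact inc_mem e l
      have hFeq : (F : Set G) = {h : G | IsConj t h} := by
        apply Set.eq_of_subset_of_ncard_le hFsub _ (Set.toFinite _)
        rw [Set.ncard_coe_finset, hFcard, ← Nat.card_coe_set_eq]
        exact hclass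
      have hconjC : ∀ x : G, IsConj t x → x ∈ centralizer ({t} : Set G) := by
        intro x hx
        have : x ∈ (F : Set G) := by rw [hFeq]; exact hx
        exact hFC x (Finset.mem_coe.1 this)
      have hNcle : normalClosure ({t} : Set G) ≤ centralizer ({t} : Set G) := by
        unfold normalClosure
        rw [Subgroup.closure_le]
        intro x hx
        rw [Group.mem_conjugatesOfSet_iff] at hx
        obtain ⟨a, ha, hax⟩ := hx
        rw [Set.mem_singleton_iff] at ha
        rw [ha] at hax
        exact hconjC x hax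
      have htNc : t ∈ normalClosure ({t} : Set G) :=
        Subgroup.subset_normalClosure (Set.mem_singleton t)
      apply key (normalClosure ({t} : Set G)) inferInstance
      · rcases hN (normalClosure ({t} : Set G) ⊓ M) inferInstance inf_le_right with h | ⟨h, _⟩
        · exact h
        · exfalso
          have hle : normalClosure ({t} : Set G) ⊓ M ≤ M ⊓ centralizer ({t} : Set G) :=
            le_inf inf_le_right (inf_le_left.trans hNcle)
          have := Subgroup.card_le_of_le hle
          omega
      · intro m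
        have h1 : m * t⁻¹ * m⁻¹ ∈ normalClosure ({t} : Set G) :=
          Subgroup.Normal.conj_mem inferInstance _ (Subgroup.inv_mem _ htNc) m
        have h3 := Subgroup.mul_mem _ htNc h1
        have h4 : t * (m * t⁻¹ * m⁻¹) = t * m * t⁻¹ * m⁻¹ := by group
        rw [h4] at h3
        exact h3

end Cfsg.Agent.Lib.Helper13.ZS4X
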